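import Groth.Statements.S5198
import Groth.Agent.H91.DeltaT.Ring
import Groth.Agent.H26.FibreDim
import Groth.Agent.H2.FibreDimPullback
import Groth.Agent.Lib.AlgSpDecent.RelDimComp
import Groth.Agent.Lib.FibreDeg.Basic

set_option autoImplicit false
universe u
open CategoryTheory CategoryTheory.Limits AlgebraicGeometry Opposite
open EtDepth

namespace Groth.Agent.S5198

section Helpers

theorem fiberMap_isPullback {X Y S : Scheme.{u}} (g : X ⟶ Y) (f : Y ⟶ S) (s : S) :
    IsPullback ((g ≫ f).fiberι s) (CInt.fiberMap g f s) g (f.fiberι s) := by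
  have hπ : CInt.fiberMap g f s ≫ f.fiberToSpecResidueField s = (g ≫ f).fiberToSpecResidueField s :=
    (pullback.lift_snd _ _ _).trans (Category.comp_id _)
  refine IsPullback.of_bot ?_ (pullback.lift_fst _ _ _).symm
    (IsPullback.of_hasPullback f (S.fromSpecResidueField s))
  have hb := IsPullback.of_hasPullback (g ≫ f) (S.fromSpecResidueField s)
  exact hπ.symm ▸ hb

variable {X S S' : Scheme.{u}} (f : X ⟶ S) (g : S' ⟶ S)

theorem flat_fiberMap (s : S) :
    Flat (CInt.fiberMap (pullback.snd f g) g s) := by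
  let φ := pullback.snd f g ≫ g
  let m := CInt.fiberMap (pullback.snd f g) g s
  let πG := g.fiberToSpecResidueField s
  have h1 := (fiberMap_isPullback (pullback.snd f g) g s).paste_horiz
    (IsPullback.of_hasPullback f g)
  have e : g.fiberι s ≫ g = πG ≫ S.fromSpecResidueField s := pullback.condition
  rw [e] at h1
  let k : φ.fiber s ⟶ f.fiber s := pullback.lift (φ.fiberι s ≫ pullback.fst f g) (m ≫ πG)
    (h1.w.trans (Category.assoc _ _ _).symm)
  have h2 : IsPullback k m (f.fiberToSpecResidueField s) πG := by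
    refine IsPullback.of_right ?_ (pullback.lift_snd _ _ _)
      (IsPullback.of_hasPullback f (S.fromSpecResidueField s))
    rw [show k ≫ _ = φ.fiberι s ≫ pullback.fst f g from pullback.lift_fst _ _ _]
    exact h1
  exact MorphismProperty.of_isPullback h2
    (Groth.Agent.Lib.FibreDeg.Basic.flat_of_field (K := S.residueField s) (f.fiberToSpecResidueField s))

theorem dim_fiberStalk_fiberι [IsLocallyNoetherian S'] (s : S) (z : g.fiber s) :
    ringKrullDim (CInt.fiberStalk (g.fiberι s) z) = 0 := by
  rw [H46.FiberStalk.ringKrullDim_stalk_fiber]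
  obtain ⟨hs⟩ : Nonempty (Function.Surjective ((g.fiberι s).stalkMap z).hom) :=
    ⟨(g.fiberι s).stalkMap_surjective z⟩
  rw [IsLocalRing.map_maximalIdeal_of_surjective _ hs]
  exact ringKrullDim_eq_zero_of_isField
    ((Ideal.Quotient.maximal_ideal_iff_isField_quotient _).1 (IsLocalRing.maximalIdeal.isMaximal _))

theorem dim_fiber_step [IsLocallyNoetherian S'] [IsLocallyNoetherian (pullback f g)] (s : S)
    (x0 : (pullback.snd f g ≫ g).fiber s) :
    ∃ z : g.fiber s, g.fiberι s z = pullback.snd f g ((pullback.snd f g ≫ g).fiberι s x0) ∧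
      ringKrullDim ((g.fiber s).presheaf.stalk z) +
        ringKrullDim (CInt.fiberStalk (pullback.snd f g) ((pullback.snd f g ≫ g).fiberι s x0)) ≤
      ringKrullDim (((pullback.snd f g ≫ g).fiber s).presheaf.stalk x0) := by
  let f' := pullback.snd f g
  let φ := f' ≫ g
  let m := CInt.fiberMap f' g s
  let ι := φ.fiberι s
  haveI : Flat m := flat_fiberMap f g s
  have w : ι ≫ f' = m ≫ g.fiberι s := (fiberMap_isPullback f' g s).w
  refine ⟨m x0, (congrArg (fun q => q.base x0) w).symm, ?_⟩
  haveI : IsNoetherianRing ((g.fiber s).presheaf.stalk (m x0)) := H26.FibreDim.isNoetherianRing_stalk_fiber g _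
  haveI : IsNoetherianRing ((φ.fiber s).presheaf.stalk x0) := H26.FibreDim.isNoetherianRing_stalk_fiber φ _
  have hm : ringKrullDim ((φ.fiber s).presheaf.stalk x0) =
      ringKrullDim ((g.fiber s).presheaf.stalk (m x0)) + ringKrullDim (CInt.fiberStalk m x0) := by
    rw [H46.FiberStalk.ringKrullDim_stalk_fiber]
    exact Lib.JacCrit.SmoothLocal.ringKrullDim_eq_of_flat (m.stalkMap x0).hom (Flat.stalkMap m x0)
  refine le_of_le_of_eq (add_le_add le_rfl (le_of_eq ?_)) hm.symm
  let J := (IsLocalRing.maximalIdeal (S'.presheaf.stalk (f' (ι x0)))).map (f'.stalkMap (ι x0)).hom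
  let ψ := (ι.stalkMap x0).hom
  have hψ : Function.Surjective ψ := ι.stalkMap_surjective x0
  have hker : RingHom.ker ψ ≤ J := by
    rw [H46.FiberStalk.ker_stalkMap_fiberι φ s x0]
    have : (φ.stalkMap (ι x0)).hom = (f'.stalkMap (ι x0)).hom.comp (g.stalkMap (f' (ι x0))).hom := by
      rw [Scheme.Hom.stalkMap_comp]; rfl
    rw [this]
    exact (Ideal.map_map _ _).symm.le.trans (Ideal.map_mono
      (((IsLocalRing.local_hom_TFAE (g.stalkMap (f' (ι x0))).hom).out 0 2).mp
        (inferInstance : IsLocalHom (g.stalkMap (f' (ι x0))).hom)))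
  have e2 : ringKrullDim (CInt.fiberStalk f' (ι x0)) = ringKrullDim (CInt.fiberStalk (ι ≫ f') x0) := by
    rw [H46.FiberStalk.ringKrullDim_stalk_fiber, H46.FiberStalk.ringKrullDim_stalk_fiber]
    have hJ : (IsLocalRing.maximalIdeal (S'.presheaf.stalk ((ι ≫ f') x0))).map ((ι ≫ f').stalkMap x0).hom =
        J.map ψ := by
      rw [Scheme.Hom.stalkMap_comp, Ideal.map_map]; rfl
    rw [ringKrullDim_eq_of_ringEquiv (Ideal.quotEquivOfEq hJ)]
    refine ringKrullDim_eq_of_ringEquiv (RingEquiv.ofBijective
      (Ideal.quotientMap (J.map ψ) ψ Ideal.le_comap_map) ⟨Ideal.quotientMap_injective' ?_, ?_⟩)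
    · rw [Ideal.comap_map_of_surjective' ψ hψ, sup_eq_left.2 hker]
    · exact Ideal.quotientMap_surjective hψ
  have e3 : ringKrullDim (CInt.fiberStalk (ι ≫ f') x0) = ringKrullDim (CInt.fiberStalk (m ≫ g.fiberι s) x0) :=
    congrArg (fun q : φ.fiber s ⟶ S' => ringKrullDim (CInt.fiberStalk q x0)) w
  have e4 : ringKrullDim (CInt.fiberStalk (m ≫ g.fiberι s) x0) = ringKrullDim (CInt.fiberStalk m x0) := by
    rw [H46.FiberStalk.ringKrullDim_stalk_fiber (m ≫ g.fiberι s), H46.FiberStalk.ringKrullDim_stalk_fiber m]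
    refine ringKrullDim_eq_of_ringEquiv (Ideal.quotEquivOfEq ?_)
    rw [Scheme.Hom.stalkMap_comp]
    exact (Ideal.map_map _ _).symm.trans (congrArg (Ideal.map _)
      (IsLocalRing.map_maximalIdeal_of_surjective _ ((g.fiberι s).stalkMap_surjective (m x0))))
  exact e2.trans (e3.trans e4)

theorem height_le_coheight_fibre (A A' : Type u) [CommRing A] [CommRing A'] [Algebra A A']
    (p : PrimeSpectrum A) (P' : PrimeSpectrum A') (hP' : P'.asIdeal.comap (algebraMap A A') = p.asIdeal)
    (z : (Spec.map (CommRingCat.ofHom (algebraMap A A'))).fiber p)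
    (hz : (Spec.map (CommRingCat.ofHom (algebraMap A A'))).fiberι p z = P') :
    (((P'.asIdeal.map (Ideal.Quotient.mk (p.asIdeal.map (algebraMap A A')))).height : ℕ∞) : WithBot ℕ∞) ≤
      ringKrullDim (((Spec.map (CommRingCat.ofHom (algebraMap A A'))).fiber p).presheaf.stalk z) := by
  let g := Spec.map (CommRingCat.ofHom (algebraMap A A'))
  let J := p.asIdeal.map (algebraMap A A')
  let q := Ideal.Quotient.mk J
  have hJ : RingHom.ker q ≤ P'.asIdeal := by
    rw [Ideal.mk_ker]; exact Ideal.map_le_iff_le_comap.2 hP'.ge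
  haveI : (P'.asIdeal.map q).IsPrime :=
    Ideal.map_isPrime_of_surjective Ideal.Quotient.mk_surjective hJ
  let Pb : PrimeSpectrum (A' ⧸ J) := ⟨P'.asIdeal.map q, inferInstance⟩
  rw [ringKrullDim_stalk_eq_coheight, WithBot.coe_le_coe, show (P'.asIdeal.map q).height =
    Order.height Pb from PrimeSpectrum.height_eq_orderHeight Pb]
  refine Order.height_le fun r hr => ?_
  have hback : (P'.asIdeal.map q).comap q = P'.asIdeal := by
    rw [Ideal.comap_map_of_surjective' q Ideal.Quotient.mk_surjective, sup_eq_left.2 hJ]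
  have hex : ∀ i, ∃ y : g.fiber p, g.fiberι p y = PrimeSpectrum.comap q (r i) := by
    intro i
    show PrimeSpectrum.comap q (r i) ∈ Set.range (g.fiberι p)
    rw [g.range_fiberι]
    show g (PrimeSpectrum.comap q (r i)) = p
    refine PrimeSpectrum.ext (le_antisymm (le_trans ?_ hP'.le) ?_)
    · intro a ha
      show algebraMap A A' a ∈ P'.asIdeal
      have hle : (r i).asIdeal ≤ P'.asIdeal.map q := by
        have := r.monotone (Fin.le_last i)
        rw [show r (Fin.last r.length) = r.last from rfl, hr] at this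
        exact this
      rw [← hback]
      exact hle ha
    · intro a ha
      show q (algebraMap A A' a) ∈ (r i).asIdeal
      rw [Ideal.Quotient.eq_zero_iff_mem.2 (Ideal.mem_map_of_mem _ ha)]
      exact zero_mem _
  choose y hy using hex
  have hmono : ∀ i j, i < j → y j < y i := by
    intro i j hij
    have hlt := r.strictMono hij
    have hle : y i ⤳ y j := by
      refine (g.fiberι p).isEmbedding.isInducing.specializes_iff.1 ?_
      rw [hy, hy]
      exact (PrimeSpectrum.le_iff_specializes _ _).1 (Ideal.comap_mono hlt.le)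
    refine lt_of_le_not_ge (show y j ≤ y i from hle) fun e' => hlt.ne ?_
    have e : y i = y j := (Inseparable.eq (hle.antisymm e'))
    exact PrimeSpectrum.comap_injective_of_surjective q Ideal.Quotient.mk_surjective
      ((hy i).symm.trans ((congrArg (g.fiberι p).base e).trans (hy j)))
  let t : LTSeries (g.fiber p) := LTSeries.mk r.length (fun i => y i.rev)
    (fun i j hij => hmono _ _ (Fin.rev_lt_rev.2 hij))
  have hhead : t.head = z := by
    refine (g.fiberι p).isEmbedding.injective ?_
    show g.fiberι p (y (Fin.rev 0)) = _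
    rw [hy, hz, Fin.rev_zero, show r (Fin.last r.length) = r.last from rfl, hr]
    exact PrimeSpectrum.ext hback
  have hlen := Order.length_le_coheight (p := t) (x := z) hhead.ge
  exact hlen

theorem _root_.Groth.Agent.H2.Rigid.DimPoint.exists_dim_stalk' {X Y : Scheme.{u}} (f : X ⟶ Y)
    [LocallyOfFiniteType f] (x : X) :
    ∃ F : ℕ, ringKrullDim ((f.fiber (f x)).presheaf.stalk (f.asFiber x)) = (F : WithBot ℕ∞) :=
  haveI : LocallyOfFiniteType (f.fiberToSpecResidueField (f x)) := MorphismProperty.pullback_snd _ _ ‹_›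
  haveI := H46.QFin.isLocallyNoetherian_fiber f (f x)
  H2.Rigid.DimPoint.exists_dim_stalk (f.asFiber x)

end Helpers

/-- Over affine bases. Let A → A' be a faithfully flat homomorphism of Noetherian rings with A
Cohen–Macaulay and A' catenary, T = V(I) ⊆ Spec A and T' = V(I') ⊆ Spec A' closed subsets with T'
mapping into T, f : X → Spec A locally of finite type, X' = X ×_A A' with projections h : X' → X and
f' : X' → Spec A'. For a point x' of X' put x = h(x'), s = f(x), s' = f'(x'), and let δ_T(x) =
trdeg(κ(x)/κ(s)) + codim(cl(s) ∩ T, cl(s)), δ_{T'}(x') likewise, assuming cl(s') meets T' (so both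
codimensions are finite). Then δ_T(x) − δ_{T'}(x') ≤ dim h_{x'}^{-1}(x), the dimension of the local
ring at x' of the fibre of h over x; written additively with the five quantities pinned to natural
numbers. (The published statement assumes A and A' only catenary. In that generality it fails: for a
two-dimensional catenary Noetherian local domain A whose completion A' has a one-dimensional
irreducible component, with T and T' the closed points, X = Spec A and x' the generic point of that
component, the left side is 2 and the right side is 1. The published proof uses additivity of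
codimension inside the preimage of cl(s) in Spec A', which needs the irreducible components of Spec
A' through a point not to have smaller local dimension than Spec A at the image point; flatness
gives this when A is Cohen–Macaulay, the hypothesis this row takes, and A is then catenary.) -/
theorem result (A A' : Type u) [CommRing A] [CommRing A'] [IsNoetherianRing A] [IsNoetherianRing A'] (hcm : LocCoh.IsCohenMacaulayRing A) (hcat' : CAlg.IsCatenary A') [Algebra A A'] [Module.FaithfullyFlat A A'] (I : Ideal A) (I' : Ideal A') (hTT : ∀ q : PrimeSpectrum A', I' ≤ q.asIdeal → I ≤ q.asIdeal.comap (algebraMap A A')) (X : Scheme.{u}) (f : X ⟶ (Spec (CommRingCat.of A))) [LocallyOfFiniteType f] (x' : ↥(pullback f (Spec.map (CommRingCat.ofHom (algebraMap A A'))))) (r r' a b e : ℕ) (hr : @Algebra.trdeg ↑((Spec (CommRingCat.of A)).residueField (f.base ((pullback.fst f (Spec.map (CommRingCat.ofHom (algebraMap A A')))).base x'))) ↑(X.residueField ((pullback.fst f (Spec.map (CommRingCat.ofHom (algebraMap A A')))).base x')) _ _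 (f.residueFieldMap ((pullback.fst f (Spec.map (CommRingCat.ofHom (algebraMap A A')))).base x')).hom.toAlgebra = r) (hr' : @Algebra.trdeg ↑((Spec (CommRingCat.of A')).residueField ((pullback.snd f (Spec.map (CommRingCat.ofHom (algebraMap A A')))).base x')) ↑((pullback f (Spec.map (CommRingCat.ofHom (algebraMap A A')))).residueField x') _ _ ((pullback.snd f (Spec.map (CommRingCat.ofHom (algebraMap A A')))).residueFieldMap x').hom.toAlgebra = r') (ha : SGA2.relCodim I (f.base ((pullback.fst f (Spec.map (CommRingCat.ofHom (algebraMap A A')))).base x')) = a) (hb : SGA2.relCodim I' ((pullback.snd f (Spec.map (CommRingCat.ofHom (algebraMap A A')))).base x') = b) (he : ringKrullDim ↑(CInt.fiberStalk (pullback.fst f (Spec.map (CommRingCat.ofHom (algebraMap A A')))) x') = (e : WithBot ℕ∞)) : r + a ≤ r' + b + e := by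
  let g := Spec.map (CommRingCat.ofHom (algebraMap A A'))
  let hh := pullback.fst f g
  let f' := pullback.snd f g
  haveI : Flat g := by
    rw [HasRingHomProperty.Spec_iff (P := @Flat)]
    exact RingHom.flat_algebraMap_iff.2 inferInstance
  haveI : IsLocallyNoetherian X := LocallyOfFiniteType.isLocallyNoetherian f
  haveI : IsLocallyNoetherian (pullback f g) := LocallyOfFiniteType.isLocallyNoetherian f'
  -- transcendence degrees against dimensions of the fibres
  obtain ⟨t, ht, hdt⟩ := Lib.AlgSpDecent.RelDimComp.fibreDimAt_eq_stalk_add f (hh x')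
  obtain ⟨t', ht', hdt'⟩ := Lib.AlgSpDecent.RelDimComp.fibreDimAt_eq_stalk_add f' x'
  have htr : r = t := Nat.cast_injective (R := Cardinal.{u}) (hr.symm.trans ht)
  have htr' : r' = t' := Nat.cast_injective (R := Cardinal.{u}) (hr'.symm.trans ht')
  subst htr htr'
  have hinv : FlatMor.fibreDimAt f' x' = FlatMor.fibreDimAt f (hh x') :=
    H2.FibreDimPullback.fibreDimAt_of_isPullback (IsPullback.of_hasPullback f g) x'
  rw [hdt, hdt'] at hinv
  -- the relative codimensions
  let P' : PrimeSpectrum A' := f'.base x'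
  let p : PrimeSpectrum A := f.base (hh x')
  have hp : g.base P' = p := (congrArg (fun k => k.base x') (pullback.condition (f := f) (g := g))).symm
  have hp' : P'.asIdeal.comap (algebraMap A A') = p.asIdeal := congrArg PrimeSpectrum.asIdeal hp
  have hb0 : (⨅ q : {q : PrimeSpectrum A' // P' ≤ q ∧ I' ≤ q.asIdeal},
      Order.height (⟨q.1, q.2.1⟩ : Set.Ici P')) = (b : ℕ∞) := hb
  haveI : Nonempty {q : PrimeSpectrum A' // P' ≤ q ∧ I' ≤ q.asIdeal} := by
    by_contra hne
    rw [not_nonempty_iff] at hne
    rw [iInf_of_empty] at hb0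
    exact ENat.top_ne_natCast b hb0
  obtain ⟨⟨q', hq'1, hq'2⟩, hq'⟩ := ENat.exists_eq_iInf
    (fun q : {q : PrimeSpectrum A' // P' ≤ q ∧ I' ≤ q.asIdeal} => Order.height (⟨q.1, q.2.1⟩ : Set.Ici P'))
  let q : PrimeSpectrum A := PrimeSpectrum.comap (algebraMap A A') q'
  have hpq : p ≤ q := by
    show p.asIdeal ≤ q'.asIdeal.comap (algebraMap A A')
    rw [← hp']
    exact Ideal.comap_mono hq'1
  have hcodim := Groth.Agent.H91.DeltaT.codim_le (A := A) (A' := A') hcm hcat' p q P' q' hq'1 hp' rfl hpq
  have ha0 : (a : ℕ∞) ≤ Order.height (⟨q, hpq⟩ : Set.Ici p) := by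
    rw [← ha]
    exact iInf_le (fun q : {q : PrimeSpectrum A // p ≤ q ∧ I ≤ q.asIdeal} => Order.height (⟨q.1, q.2.1⟩ : Set.Ici p))
      ⟨q, hpq, hTT q' hq'2⟩
  have hqb : Order.height (⟨q', hq'1⟩ : Set.Ici P') = (b : ℕ∞) := hq'.trans hb0
  rw [hqb] at hcodim
  -- dimensions of the fibres
  obtain ⟨x0, hx0⟩ : x' ∈ Set.range ((f' ≫ g).fiberι p) := by
    rw [(f' ≫ g).range_fiberι]; exact hp
  obtain ⟨z, hz, hstep⟩ := dim_fiber_step f g p x0
  rw [hx0] at hz hstep
  have hd := height_le_coheight_fibre A A' p P' hp' z hz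
  rw [H26.FibreDim.dim_stalk_fiber_eq (f' ≫ g) x0 hx0] at hstep
  have hsum : ringKrullDim (CInt.fiberStalk (f' ≫ g) x') =
      ringKrullDim (CInt.fiberStalk f (hh x')) + (e : WithBot ℕ∞) := by
    rw [← he]
    refine (congrArg (fun k : pullback f g ⟶ Spec (CommRingCat.of A) => ringKrullDim (CInt.fiberStalk k x'))
      (pullback.condition (f := f) (g := g)).symm).trans ?_
    exact (H26.FibreDim.dim_fiberStalk_comp hh f x').2 inferInstance
  rw [hsum] at hstep
  obtain ⟨F, hF⟩ := H2.Rigid.DimPoint.exists_dim_stalk' f (hh x')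
  obtain ⟨F', hF'⟩ := H2.Rigid.DimPoint.exists_dim_stalk' f' x'
  rw [hF, hF'] at hinv
  have hFF : F' + r' = F + r := by exact_mod_cast hinv
  have hle : (((P'.asIdeal.map (Ideal.Quotient.mk (p.asIdeal.map (algebraMap A A')))).height : ℕ∞) :
      WithBot ℕ∞) + (F' : WithBot ℕ∞) ≤ (F : WithBot ℕ∞) + (e : WithBot ℕ∞) := by
    refine le_trans (add_le_add hd le_rfl) ?_
    rw [← hF, ← hF']
    exact hstep
  obtain ⟨d, hdd⟩ := ENat.ne_top_iff_exists.1 (show
      (P'.asIdeal.map (Ideal.Quotient.mk (p.asIdeal.map (algebraMap A A')))).height ≠ ⊤ from fun h => by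
    rw [h] at hle
    have : ((⊤ : ℕ∞) + (F' : ℕ∞)) ≤ ((F + e : ℕ) : ℕ∞) := by exact_mod_cast hle
    simp at this)
  rw [← hdd] at hle hcodim
  have h1 : d + F' ≤ F + e := by exact_mod_cast hle
  have h2 : a ≤ b + d := by exact_mod_cast ha0.trans hcodim
  omega

end Groth.Agent.S5198
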