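import Groth.Statements.S5212
import Mathlib.LinearAlgebra.Charpoly.ToMatrix
import Mathlib.RingTheory.Norm.Basic
import Mathlib.LinearAlgebra.Charpoly.BaseChange
-- import your own Groth.Agent.* helpers here

set_option autoImplicit false
universe u
open GrpQ

namespace Groth.Agent.S5212

/-- For `A'` finite and free as an `A`-module, a prime `p` of `A` and `a ∈ A'`, the element `a` belongs
to some prime of `A'` lying over `p` if and only if its norm belongs to `p`. (The published
statement allows `A'` projective of constant rank over `A`; this row takes `A'` free, where the norm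
is the determinant of multiplication.) -/
theorem result {A A' : Type u} [CommRing A] [CommRing A'] [Algebra A A']
    [Module.Free A A'] [Module.Finite A A'] (p : Ideal A) [p.IsPrime] (a : A') :
    (∃ q : Ideal A', q.IsPrime ∧ q.LiesOver p ∧ a ∈ q) ↔ Algebra.norm A a ∈ p := by
  constructor
  · rintro ⟨q, hq, hover, ha⟩
    have h1 : algebraMap A A' (Algebra.norm A a) ∈ q := by
      have hint : IsIntegral A a := IsIntegral.of_finite A a
      have hCH := LinearMap.aeval_self_charpoly (LinearMap.mulLeft A a)
      set P := (LinearMap.mulLeft A a).charpoly with hP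
      have hev : Polynomial.aeval a P = 0 := by
        have h2 := congrArg (fun g : Module.End A A' => g 1) hCH
        rw [show LinearMap.mulLeft A a = Algebra.lmul A A' a from rfl, Polynomial.aeval_algHom_apply] at h2
        simpa using h2
      have hdvd : a ∣ algebraMap A A' (P.coeff 0) := by
        obtain ⟨Q, hQ⟩ := Polynomial.X_dvd_sub_C (p := P)
        refine ⟨-Polynomial.aeval a Q, ?_⟩
        have := congrArg (Polynomial.aeval a) hQ
        simp only [map_sub, hev, Polynomial.aeval_C, map_mul, Polynomial.aeval_X, zero_sub] at this
        rw [mul_neg, ← this, neg_neg]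
      have hdet : Algebra.norm A a = (-1) ^ Module.finrank A A' * P.coeff 0 := by
        rw [Algebra.norm_apply, LinearMap.det_eq_sign_charpoly_coeff, hP]
        rfl
      rw [hdet, map_mul]
      exact Ideal.mul_mem_left _ _ (q.mem_of_dvd hdvd ha)
    rw [hover.over]
    exact h1
  · intro hN
    let I : Ideal A' := Ideal.span {a} ⊔ p.map (algebraMap A A')
    let M : Submonoid A' := p.primeCompl.map (algebraMap A A')
    have hdisj : Disjoint (I : Set A') (M : Set A') := by
      rw [Set.disjoint_left]
      rintro _ hx ⟨s, hs, rfl⟩
      obtain ⟨_, hy, z, hz, hyz⟩ := Submodule.mem_sup.1 hx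
      obtain ⟨b, rfl⟩ := Ideal.mem_span_singleton'.1 hy
      classical
      let bs := Module.Free.chooseBasis A A'
      let q := Ideal.Quotient.mk p
      have hmap : ∀ w ∈ p.map (algebraMap A A'), q.mapMatrix (Algebra.leftMulMatrix bs w) = 0 := by
        intro w hw
        have hle : p.map (algebraMap A A') ≤
            RingHom.ker (q.mapMatrix.comp (Algebra.leftMulMatrix bs).toRingHom) := by
          rw [Ideal.map_le_iff_le_comap]
          intro t ht
          show q.mapMatrix (Algebra.leftMulMatrix bs (algebraMap A A' t)) = 0
          rw [AlgHom.commutes]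
          ext i j
          by_cases hij : i = j <;>
            simp [Matrix.algebraMap_matrix_apply, hij, q, Ideal.Quotient.eq_zero_iff_mem.2 ht]
        exact hle hw
      have h1 := congrArg (fun w => q.mapMatrix (Algebra.leftMulMatrix bs w)) hyz
      simp only [map_add, hmap z hz, add_zero] at h1
      have h2 := congrArg Matrix.det h1
      rw [← RingHom.map_det, ← RingHom.map_det, ← Algebra.norm_eq_matrix_det, ← Algebra.norm_eq_matrix_det,
        map_mul, map_mul, Ideal.Quotient.eq_zero_iff_mem.2 hN, mul_zero, Algebra.norm_algebraMap,
        eq_comm, Ideal.Quotient.eq_zero_iff_mem] at h2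
      exact hs (Ideal.IsPrime.mem_of_pow_mem inferInstance _ h2)
    obtain ⟨q, hq, hIq, hqM⟩ := Ideal.exists_le_prime_disjoint I M hdisj
    refine ⟨q, hq, ⟨le_antisymm ?_ ?_⟩, hIq (Ideal.mem_sup_left (Ideal.mem_span_singleton_self a))⟩
    · intro t ht
      exact hIq (Ideal.mem_sup_right (Ideal.mem_map_of_mem _ ht))
    · intro t ht
      by_contra h
      exact Set.disjoint_left.1 hqM ht ⟨t, h, rfl⟩

end Groth.Agent.S5212
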