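import Groth.Statements.S5213
import Mathlib.Algebra.Module.Submodule.Union
import Mathlib.LinearAlgebra.Dimension.OrzechProperty
import Mathlib.RingTheory.Nakayama
import Mathlib.Algebra.Module.Torsion.Basic
import Mathlib.LinearAlgebra.Basis.VectorSpace
import Mathlib.RingTheory.LocalRing.ResidueField.Basic
import Mathlib.LinearAlgebra.FiniteDimensional.Lemmas

set_option autoImplicit false
universe u
open GrpQ

namespace Groth.Agent.S5213

/-- Let `B` be a local ring with infinite residue field, `A` a semi-local ring, `B → A` a ring map
carrying the maximal ideal of `B` into the Jacobson radical of `A`, `M` a finite free `A`-module and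
`N` a `B`-submodule of `M` generating `M` as an `A`-module. Then `N` contains a basis of `M` over
`A`. -/
theorem result {B A M : Type u} [CommRing B] [CommRing A]
    [IsLocalRing B] [Infinite (IsLocalRing.ResidueField B)] [Algebra B A]
    [Finite (MaximalSpectrum A)]
    (hBA : (IsLocalRing.maximalIdeal B).map (algebraMap B A) ≤ (⊥ : Ideal A).jacobson)
    [AddCommGroup M] [Module A M] [Module B M] [IsScalarTower B A M]
    [Module.Free A M] [Module.Finite A M]
    (N : Submodule B M) (hN : Submodule.span A (N : Set M) = ⊤) :
    ∃ b : Module.Basis (Fin (Module.finrank A M)) A M, ∀ i, b i ∈ N := by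
  classical
  rcases subsingleton_or_nontrivial A with hA | hA
  · haveI : Subsingleton M := Module.subsingleton A M
    let b : Module.Basis (Fin (Module.finrank A M)) A M := ⟨LinearEquiv.ofSubsingleton M _⟩
    refine ⟨b, fun i => ?_⟩
    rw [Subsingleton.elim (b i) 0]
    exact zero_mem _
  let r := Module.finrank A M
  let e : Module.Basis (Fin r) A M := Module.finBasis A M
  let κ := fun i : MaximalSpectrum A => A ⧸ i.asIdeal
  letI : ∀ i, Field (κ i) := fun i => Ideal.Quotient.field i.asIdeal
  let π : ∀ i : MaximalSpectrum A, M →ₗ[A] (Fin r → κ i) := fun i =>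
    LinearMap.pi fun j => (Algebra.linearMap A (κ i)) ∘ₗ (e.coord j)
  have hπsmul : ∀ i (a : A) (x : M), π i (a • x) = (Ideal.Quotient.mk i.asIdeal a) • π i x := by
    intro i a x; ext j; simp [π, κ, Algebra.smul_def]
  have hgen : ∀ i (W : Submodule (κ i) (Fin r → κ i)), (∀ x ∈ N, π i x ∈ W) → W = ⊤ := by
    intro i W hW
    have hall : ∀ m : M, π i m ∈ W := by
      intro m
      have hm : m ∈ Submodule.span A (N : Set M) := hN ▸ trivial
      induction hm using Submodule.span_induction with
      | mem x hx => exact hW x hx
      | zero => simp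
      | add x y _ _ hx hy => rw [map_add]; exact add_mem hx hy
      | smul a x _ hx => rw [hπsmul]; exact W.smul_mem _ hx
    refine eq_top_iff.2 fun v _ => ?_
    choose a ha using fun j => Ideal.Quotient.mk_surjective (v j)
    convert hall (∑ j, a j • e j)
    ext j
    simp [π, κ, map_sum, Finsupp.single_apply, ha, Algebra.smul_def]
  letI : Field (B ⧸ IsLocalRing.maximalIdeal B) := Ideal.Quotient.field _
  haveI : Infinite (B ⧸ IsLocalRing.maximalIdeal B) :=
    ‹Infinite (IsLocalRing.ResidueField B)›
  have key : ∀ k ≤ r, ∃ x : Fin k → M, (∀ j, x j ∈ N) ∧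
      ∀ i, LinearIndependent (κ i) (fun j => π i (x j)) := by
    intro k
    induction k with
    | zero => exact fun _ => ⟨Fin.elim0, fun j => j.elim0, fun i => linearIndependent_empty_type⟩
    | succ k ih =>
      intro hk
      obtain ⟨x, hxN, hxi⟩ := ih (by omega)
      let W : ∀ i, Submodule (κ i) (Fin r → κ i) := fun i => Submodule.span (κ i) (Set.range fun j => π i (x j))
      let P : ∀ i : MaximalSpectrum A, Submodule B N :=
        fun i =>
        { carrier := {y | π i (y : M) ∈ W i}
          zero_mem' := by simp
          add_mem' := fun {a b} ha hb => by simpa using (W i).add_mem ha hb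
          smul_mem' := fun b y hy => by
            have : ((b • y : N) : M) = algebraMap B A b • (y : M) := by
              rw [algebraMap_smul]; rfl
            simp only [Set.mem_setOf_eq, this, hπsmul]
            exact (W i).smul_mem _ hy }
      have hP : ∀ i, IsLocalRing.maximalIdeal B • (⊤ : Submodule B N) ≤ P i := by
        intro i
        refine Submodule.smul_le.2 fun b hb y _ => ?_
        change π i ((b • y : N) : M) ∈ W i
        have h1 : algebraMap B A b ∈ i.asIdeal := by
          have hj : (⊥ : Ideal A).jacobson ≤ i.asIdeal := sInf_le ⟨bot_le, i.isMaximal⟩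
          exact hj (hBA (Ideal.mem_map_of_mem _ hb))
        rw [show ((b • y : N) : M) = algebraMap B A b • (y : M) by rw [algebraMap_smul]; rfl, hπsmul,
          Ideal.Quotient.eq_zero_iff_mem.2 h1, zero_smul]
        exact zero_mem _
      let V := N ⧸ (IsLocalRing.maximalIdeal B • (⊤ : Submodule B N))
      let p : MaximalSpectrum A → Submodule (B ⧸ IsLocalRing.maximalIdeal B) V := fun i =>
        { carrier := {v | ∀ y : N, Submodule.Quotient.mk y = v → y ∈ P i}
          zero_mem' := fun y hy => hP i ((Submodule.Quotient.mk_eq_zero _).1 hy)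
          add_mem' := fun {a b} ha hb y hy => by
            obtain ⟨a, rfl⟩ := Submodule.Quotient.mk_surjective _ a
            obtain ⟨b, rfl⟩ := Submodule.Quotient.mk_surjective _ b
            rw [← Submodule.Quotient.mk_add, Submodule.Quotient.eq] at hy
            have := add_mem (hP i hy) (add_mem (ha a rfl) (hb b rfl))
            simpa using this
          smul_mem' := fun c a ha y hy => by
            obtain ⟨c, rfl⟩ := Ideal.Quotient.mk_surjective c
            obtain ⟨a, rfl⟩ := Submodule.Quotient.mk_surjective _ a
            change Submodule.Quotient.mk y = Submodule.Quotient.mk (c • a) at hy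
            rw [Submodule.Quotient.eq] at hy
            have := add_mem (hP i hy) ((P i).smul_mem c (ha a rfl))
            simpa using this }
      have hp : ∀ i, p i ≠ ⊤ := by
        intro i htop
        have hW : W i = ⊤ := hgen i (W i) fun y hy => by
          have : Submodule.Quotient.mk ⟨y, hy⟩ ∈ p i := htop ▸ trivial
          exact this _ rfl
        have h1 : Module.finrank (κ i) (W i) = k := by
          change Module.finrank (κ i) (Submodule.span (κ i) (Set.range fun j => π i (x j))) = k
          rw [finrank_span_eq_card (hxi i), Fintype.card_fin]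
        rw [hW, finrank_top, Module.finrank_fin_fun] at h1
        omega
      obtain ⟨v, hv⟩ := Submodule.exists_forall_notMem_of_forall_ne_top p hp
      obtain ⟨y, rfl⟩ := Submodule.Quotient.mk_surjective _ v
      refine ⟨Fin.snoc x (y : M), fun j => ?_, fun i => ?_⟩
      · refine Fin.lastCases ?_ (fun j => ?_) j
        · simp
        · simpa using hxN j
      · have : (fun j => π i ((Fin.snoc x (y : M) : Fin (k + 1) → M) j)) =
            Fin.snoc (fun j => π i (x j)) (π i y) := by
          funext j
          refine Fin.lastCases ?_ (fun j => ?_) j <;> simp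
        rw [this, linearIndependent_finSnoc]
        refine ⟨hxi i, fun hmem => hv i fun y' hy' => ?_⟩
        rw [Submodule.Quotient.eq] at hy'
        have := add_mem (hP i hy') (show y ∈ P i from hmem)
        simpa using this
  obtain ⟨x, hxN, hxi⟩ := key r le_rfl
  have hspan : (⊤ : Submodule A M) ≤ Submodule.span A (Set.range x) := by
    have hloc : ∀ i : MaximalSpectrum A,
        (⊤ : Submodule A (M ⧸ Submodule.span A (Set.range x))) ≤ i.asIdeal • ⊤ := by
      intro i q _
      obtain ⟨m, rfl⟩ := Submodule.Quotient.mk_surjective _ q
      have htop : Submodule.span (κ i) (Set.range fun j => π i (x j)) = ⊤ :=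
        (hxi i).span_eq_top_of_card_eq_finrank' (by simp)
      obtain ⟨c, hc⟩ := (Submodule.mem_span_range_iff_exists_fun (κ i)).1
        (htop ▸ Submodule.mem_top (x := π i m))
      choose a ha using fun j => Ideal.Quotient.mk_surjective (c j)
      set d := m - ∑ j, a j • x j with hd
      have hd0 : π i d = 0 := by
        rw [hd, map_sub, map_sum]
        simp only [hπsmul, ha, hc, sub_self]
      have hcoord : ∀ l, e.coord l d ∈ i.asIdeal := fun l =>
        Ideal.Quotient.eq_zero_iff_mem.1 (congrFun hd0 l)
      have hmem : d ∈ (i.asIdeal • ⊤ : Submodule A M) := by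
        rw [← e.sum_repr d]
        exact Submodule.sum_mem _ fun l _ => Submodule.smul_mem_smul (hcoord l) trivial
      have := Submodule.mem_map_of_mem (f := (Submodule.span A (Set.range x)).mkQ) hmem
      rw [Submodule.map_smul'', Submodule.map_top, Submodule.range_mkQ, hd, map_sub] at this
      rwa [show (Submodule.span A (Set.range x)).mkQ (∑ j, a j • x j) = 0 from
        (Submodule.Quotient.mk_eq_zero _).2 (Submodule.sum_mem _ fun j _ =>
          Submodule.smul_mem _ _ (Submodule.subset_span ⟨j, rfl⟩)), sub_zero] at this
    by_contra hne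
    have hann : (⊤ : Submodule A (M ⧸ Submodule.span A (Set.range x))).annihilator ≠ ⊤ := fun h => by
      have := Submodule.annihilator_eq_top_iff.1 h
      exact hne (le_of_eq (Submodule.Quotient.subsingleton_iff.1
        ((Submodule.subsingleton_iff A).1 (subsingleton_of_bot_eq_top this.symm))).symm)
    obtain ⟨m, hm, hle⟩ := Ideal.exists_le_maximal _ hann
    obtain ⟨c, hc1, hc2⟩ := Submodule.exists_sub_one_mem_and_smul_eq_zero_of_fg_of_le_smul m
      (⊤ : Submodule A (M ⧸ Submodule.span A (Set.range x))) Module.Finite.fg_top (hloc ⟨m, hm⟩)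
    have hcm : c ∈ m := hle (Submodule.mem_annihilator.2 hc2)
    exact hm.ne_top ((Ideal.eq_top_iff_one m).2 (by simpa using sub_mem hcm hc1))
  exact ⟨basisOfTopLeSpanOfCardEqFinrank x hspan (by simp [r]), fun i => by
    rw [coe_basisOfTopLeSpanOfCardEqFinrank]; exact hxN i⟩

end Groth.Agent.S5213
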