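import Groth.Statements.S5219
import Groth.Agent.Lib.DerivedOX.Grothendieck
-- import your own Groth.Agent.* helpers here

set_option autoImplicit false
open CategoryTheory
universe u
open ShfCat

namespace Groth.Agent.S5219

/-- For a small category `C` and a presheaf of rings `O` on it, the category of presheaves of
`O`-modules has enough injectives. (The published statement also asserts that `O` itself is a
generator; in general only the family of modules `O_S` induced on the objects `S` of `C` generates —
for the category with one non-identity arrow a → b and a module vanishing at b, no direct sum of
copies of `O` maps onto it — and the row keeps the conclusion the argument establishes.) -/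
theorem result (C : Type u) [SmallCategory C] (O : Cᵒᵖ ⥤ RingCat.{u}) :
    EnoughInjectives (PresheafOfModules.{u} O) := by
  let R : Sheaf (⊥ : GrothendieckTopology C) RingCat.{u} := ⟨O, Presheaf.isSheaf_bot O⟩
  let T : PresheafOfModules.{u} O ⥤ SheafOfModules.{u} R :=
    { obj := fun M => ⟨M, Presheaf.isSheaf_bot _⟩
      map := fun f => ⟨f⟩ }
  let e : PresheafOfModules.{u} O ≌ SheafOfModules.{u} R :=
    CategoryTheory.Equivalence.mk T (SheafOfModules.forget R) (Iso.refl _) (Iso.refl _)
  have := Lib.DerivedOX.Grothendieck.isGrothendieckAbelian_sheafOfModules R
  have : EnoughInjectives (SheafOfModules.{u} R) := inferInstance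
  exact (e.enoughInjectives_iff).2 this

end Groth.Agent.S5219
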