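import Groth.Statements.S5220
-- import your own Groth.Agent.* helpers here

set_option autoImplicit false
open CategoryTheory CategoryTheory.Limits
universe w v₁ u₁
open GrpQ

namespace Groth.Agent.S5220

/-- In a category with pullbacks: let `d₀ d₁ : X₁ ⇉ X₀` admit a common section and let `f₀ : Y₀ ⟶ X₀` be
an effective epimorphism which is also a universal epimorphism. For the inverse-image pair `Y₁ :=
(Y₀ ×_{X₀,d₁} X₁) ×_{d₀,X₀} Y₀ ⇉ Y₀`, every morphism out of `Y₀` equalized by the two projections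
descends uniquely to a morphism out of `X₀` equalized by `d₀, d₁`. (Only the common section of the
groupoid structure is used.) -/
theorem result {C : Type u₁} [Category.{v₁} C] [HasPullbacks C]
    {X₁ X₀ Y₀ : C} (d₀ d₁ : X₁ ⟶ X₀) (s : X₀ ⟶ X₁) (hs₀ : s ≫ d₀ = 𝟙 X₀) (hs₁ : s ≫ d₁ = 𝟙 X₀)
    (f₀ : Y₀ ⟶ X₀) [EffectiveEpi f₀]
    (hf : MorphismProperty.universally (MorphismProperty.epimorphisms C) f₀)
    {T : C} (g : Y₀ ⟶ T)
    (hg : (pullback.fst (pullback.snd f₀ d₁ ≫ d₀) f₀ ≫ pullback.fst f₀ d₁) ≫ g =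
      pullback.snd (pullback.snd f₀ d₁ ≫ d₀) f₀ ≫ g) :
    ∃! h : X₀ ⟶ T, d₁ ≫ h = d₀ ≫ h ∧ f₀ ≫ h = g := by
  have hk : ∀ {Z : C} (g₁ g₂ : Z ⟶ Y₀), g₁ ≫ f₀ = g₂ ≫ f₀ → g₁ ≫ g = g₂ ≫ g := by
    intro Z g₁ g₂ h
    let a : Z ⟶ pullback f₀ d₁ := pullback.lift g₁ (g₁ ≫ f₀ ≫ s)
      (by rw [Category.assoc, Category.assoc, hs₁, Category.comp_id])
    have ha : a ≫ pullback.snd f₀ d₁ ≫ d₀ = g₂ ≫ f₀ := by
      rw [pullback.lift_snd_assoc, Category.assoc, Category.assoc, hs₀, Category.comp_id, h]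
    have := pullback.lift a g₂ ha ≫= hg
    simp only [a, Category.assoc] at this
    erw [pullback.lift_fst_assoc, pullback.lift_fst_assoc, pullback.lift_snd_assoc] at this
    exact this
  have e1 : Epi (pullback.snd f₀ d₁) :=
    hf _ _ _ (IsPullback.of_hasPullback f₀ d₁).flip
  have e2 : Epi (pullback.fst (pullback.snd f₀ d₁ ≫ d₀) f₀) :=
    hf _ _ _ (IsPullback.of_hasPullback (pullback.snd f₀ d₁ ≫ d₀) f₀)
  refine ⟨EffectiveEpi.desc f₀ g hk, ⟨?_, EffectiveEpi.fac f₀ g hk⟩, ?_⟩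
  · have L : pullback.snd f₀ d₁ ≫ d₁ ≫ EffectiveEpi.desc f₀ g hk = pullback.fst f₀ d₁ ≫ g := by
      rw [← pullback.condition_assoc, EffectiveEpi.fac f₀ g hk]
    have R : pullback.fst (pullback.snd f₀ d₁ ≫ d₀) f₀ ≫ pullback.snd f₀ d₁ ≫ d₀ ≫
        EffectiveEpi.desc f₀ g hk = pullback.snd (pullback.snd f₀ d₁ ≫ d₀) f₀ ≫ g := by
      rw [← Category.assoc (pullback.snd f₀ d₁), pullback.condition_assoc,
        EffectiveEpi.fac f₀ g hk]
    rw [← cancel_epi (pullback.snd f₀ d₁),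
      ← cancel_epi (pullback.fst (pullback.snd f₀ d₁ ≫ d₀) f₀), L, R]
    simpa using hg
  · rintro h ⟨-, h2⟩
    exact EffectiveEpi.uniq f₀ g hk h h2

end Groth.Agent.S5220
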