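import Groth.Statements.S5221
import Groth.Agent.S5220
-- import your own Groth.Agent.* helpers here

set_option autoImplicit false
open CategoryTheory CategoryTheory.Limits
universe w v₁ u₁
open GrpQ

namespace Groth.Agent.S5221

/-- Existence part: in a category with pullbacks: with `d₀ d₁ : X₁ ⇉ X₀` admitting a common section and
`f₀ : Y₀ ⟶ X₀` an effective and universal epimorphism, the pair `(d₀, d₁)` has a coequalizer if and
only if its inverse-image pair on `Y₀` has one. -/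
theorem result {C : Type u₁} [Category.{v₁} C] [HasPullbacks C]
    {X₁ X₀ Y₀ : C} (d₀ d₁ : X₁ ⟶ X₀) (s : X₀ ⟶ X₁) (hs₀ : s ≫ d₀ = 𝟙 X₀) (hs₁ : s ≫ d₁ = 𝟙 X₀)
    (f₀ : Y₀ ⟶ X₀) [EffectiveEpi f₀]
    (hf : MorphismProperty.universally (MorphismProperty.epimorphisms C) f₀) :
    HasCoequalizer d₁ d₀ ↔
      HasCoequalizer (pullback.fst (pullback.snd f₀ d₁ ≫ d₀) f₀ ≫ pullback.fst f₀ d₁)
        (pullback.snd (pullback.snd f₀ d₁ ≫ d₀) f₀) := by
  have key : ∀ {T : C} (g : Y₀ ⟶ T),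
      (pullback.fst (pullback.snd f₀ d₁ ≫ d₀) f₀ ≫ pullback.fst f₀ d₁) ≫ g =
        pullback.snd (pullback.snd f₀ d₁ ≫ d₀) f₀ ≫ g →
      ∃! h : X₀ ⟶ T, d₁ ≫ h = d₀ ≫ h ∧ f₀ ≫ h = g :=
    fun g hg => Groth.Agent.S5220.result d₀ d₁ s hs₀ hs₁ f₀ hf g hg
  have back : ∀ {T : C} (h : X₀ ⟶ T), d₁ ≫ h = d₀ ≫ h →
      (pullback.fst (pullback.snd f₀ d₁ ≫ d₀) f₀ ≫ pullback.fst f₀ d₁) ≫ (f₀ ≫ h) =
        pullback.snd (pullback.snd f₀ d₁ ≫ d₀) f₀ ≫ (f₀ ≫ h) := by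
    intro T h hh
    rw [Category.assoc, pullback.condition_assoc, hh, ← pullback.condition_assoc, Category.assoc]
  constructor
  · intro _
    refine ⟨⟨⟨Cofork.ofπ (f₀ ≫ coequalizer.π d₁ d₀) (back _ (coequalizer.condition d₁ d₀)),
      Cofork.IsColimit.mk' _ fun c => ?_⟩⟩⟩
    choose h hh hu using key c.π c.condition
    refine ⟨coequalizer.desc h hh.1, ?_, fun {m} hm => ?_⟩
    · show (f₀ ≫ coequalizer.π d₁ d₀) ≫ coequalizer.desc h hh.1 = c.π
      rw [Category.assoc, coequalizer.π_desc, hh.2]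
    · replace hm : (f₀ ≫ coequalizer.π d₁ d₀) ≫ m = c.π := hm
      refine coequalizer.hom_ext (f := d₁) (g := d₀) ?_
      rw [coequalizer.π_desc, ← cancel_epi f₀, hh.2, ← hm, Category.assoc]
  · intro _
    choose h hh hu using key _ (coequalizer.condition
      (pullback.fst (pullback.snd f₀ d₁ ≫ d₀) f₀ ≫ pullback.fst f₀ d₁)
      (pullback.snd (pullback.snd f₀ d₁ ≫ d₀) f₀))
    refine ⟨⟨⟨Cofork.ofπ h hh.1, Cofork.IsColimit.mk' _ fun c => ?_⟩⟩⟩
    refine ⟨coequalizer.desc (f₀ ≫ c.π) (back c.π c.condition), ?_, fun {m} hm => ?_⟩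
    · show h ≫ coequalizer.desc _ _ = c.π
      rw [← cancel_epi f₀, reassoc_of% hh.2, coequalizer.π_desc]
    · replace hm : h ≫ m = c.π := hm
      refine coequalizer.hom_ext
        (f := pullback.fst (pullback.snd f₀ d₁ ≫ d₀) f₀ ≫ pullback.fst f₀ d₁)
        (g := pullback.snd (pullback.snd f₀ d₁ ≫ d₀) f₀) ?_
      rw [coequalizer.π_desc, ← hh.2, Category.assoc, hm]

end Groth.Agent.S5221
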