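import Groth.Statements.S5222
import Groth.Agent.Lib.DescCat.Basic

set_option autoImplicit false
open CategoryTheory CategoryTheory.Limits MonoidalCategory
universe v₁ u₁
open DescCat

namespace Groth.Agent.S5222

open MonObj CartesianMonoidalCategory SemiCartesianMonoidalCategory in
/-- In a cartesian monoidal category with pullbacks: for a homomorphism `f : G ⟶ G'` of group objects
with kernel `K = G ×_{G'} e`, the pair `G × K ⇉ G` given by the projection and by multiplication is
the kernel pair of `f`. -/
theorem result {C : Type u₁} [Category.{v₁} C]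
    [CartesianMonoidalCategory C] [HasPullbacks C]
    {G G' : C} [GrpObj G] [GrpObj G'] (f : G ⟶ G') [IsMonHom f] :
    IsKernelPair f (fst G (pullback f η[G']))
      ((G ◁ pullback.fst f η[G']) ≫ μ[G]) := by
  open MonObj CartesianMonoidalCategory SemiCartesianMonoidalCategory in
  have hm : ((G ◁ pullback.fst f η[G']) ≫ μ[G] : G ⊗ pullback f η[G'] ⟶ G) =
      fst G _ * (snd G _ ≫ pullback.fst f η[G']) := by
    rw [Hom.mul_def]
    congr 1
    apply CartesianMonoidalCategory.hom_ext <;> simp
  have hK : pullback.fst f η[G'] ≫ f = 1 := by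
    rw [pullback.condition, Hom.one_def, Subsingleton.elim (toUnit (pullback f η[G'])) (pullback.snd f η[G'])]
  refine IsPullback.of_isLimit' ⟨?_⟩ (PullbackCone.IsLimit.mk _
    (fun s => lift s.fst (pullback.lift (s.fst⁻¹ * s.snd) (toUnit _)
      (by rw [MonObj.mul_comp, GrpObj.inv_comp, s.condition, _root_.inv_mul_cancel]; rfl)))
    (fun s => lift_fst _ _) (fun s => ?_) fun s m h₁ h₂ => ?_)
  · rw [hm, MonObj.mul_comp, Category.assoc, hK, MonObj.comp_one, _root_.mul_one]
  · rw [hm, MonObj.comp_mul, lift_fst, ← Category.assoc, lift_snd, pullback.lift_fst, _root_.mul_inv_cancel_left]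
  · apply CartesianMonoidalCategory.hom_ext
    · rw [lift_fst]; exact h₁
    · rw [lift_snd]
      apply pullback.hom_ext
      · rw [pullback.lift_fst]
        rw [hm, MonObj.comp_mul, h₁] at h₂
        rw [← h₂, _root_.inv_mul_cancel_left, Category.assoc]
      · exact Subsingleton.elim _ _

end Groth.Agent.S5222
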