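import Groth.Statements.S5224
import Groth.Agent.Lib.GrpdQuot.Separation
import Groth.Agent.Lib.AlgSpace.Props
import Groth.Agent.Lib.Flat55.FlatDescend

set_option autoImplicit false
open CategoryTheory CategoryTheory.Limits AlgebraicGeometry
universe u
open GrpQ
open Groth.Agent.Lib Groth.Agent.Lib.AlgSpace

namespace Groth.Agent.S5224

/-- A Mathlib equivalence relation is one on points. -/
theorem isEqvRel {S : Scheme.{u}} {R U : Over S} {s t : R ⟶ U} (h : EquivalenceRelation s t) :
    AlgSp.IsEqvRel s t where
  injective _ r r' h1 h2 := h.right_cancellation r r' h2 h1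
  equivalence T := by
    refine ⟨fun a => ⟨a ≫ h.r, by simp, by simp⟩, ?_, ?_⟩
    · rintro a b ⟨r, h1, h2⟩
      exact ⟨r ≫ h.s, by rw [Category.assoc, h.symmetry₂, h2], by rw [Category.assoc, h.symmetry₁, h1]⟩
    · rintro a b c ⟨w, h1, h2⟩ ⟨w', h3, h4⟩
      obtain ⟨l, hl1, hl2⟩ := PullbackCone.IsLimit.lift' h.isLimit w' w (h3.trans h2.symm)
      exact ⟨l ≫ h.t, by rw [Category.assoc, h.transitivity₂, ← Category.assoc, hl2, h1],
        by rw [Category.assoc, h.transitivity₁, ← Category.assoc, hl1, h4]⟩

set_option backward.isDefEq.respectTransparency false in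
/-- For the fppf topology: let `s, t : R ⇉ U` be an equivalence relation of schemes over `S` with `s`
faithfully flat and locally of finite presentation. A morphism `q : U ⟶ Y` over `S` is a faithfully
flat, locally finitely presented quotient with kernel pair `R` if and only if `q` identifies `h_Y`
with the fppf quotient sheaf `U/R`. -/
theorem result {S : Scheme.{u}} {R U Y : Over S} (s t : R ⟶ U)
    [IsEquivalenceRelation s t]
    [Flat s.left] [Surjective s.left] [LocallyOfFinitePresentation s.left]
    (q : U ⟶ Y) :
    (IsKernelPair q s t ∧ Flat q.left ∧ Surjective q.left ∧ LocallyOfFinitePresentation q.left) ↔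
      QuotSh.IsQuotient Scheme.fppfPrecoverage s t q := by
  obtain ⟨heq⟩ := (inferInstance : IsEquivalenceRelation s t).nonempty_equivalenceRelation
  have hR := isEqvRel heq
  constructor
  · rintro ⟨hk, hf, hs, hp⟩
    exact GrpdQuot.isQuotient_of_fppfCover s t q ⟨⟨hs, hf⟩, hp⟩
      ((IsPullback.map (Over.forget S) hk).flip)
  intro h
  have hsurj := GrpdQuot.surjective_of_isQuotient h
  obtain ⟨w, hiso⟩ := h
  have := hiso
  let e := asIso (QuotSh.quotDesc Scheme.fppfPrecoverage q w) ≪≫
    QuotSh.repIsoUliftYoneda Scheme.fppfPrecoverage Y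
  have he : quotMap s t ≫ e.hom = (AlgSp.yon S).map q := by
    have h1 : QuotSh.quotπ Scheme.fppfPrecoverage s t ≫ QuotSh.quotDesc _ q w =
      QuotSh.repMap Scheme.fppfPrecoverage q := coequalizer.π_desc _ _
    simp [e, quotMap, reassoc_of% h1, repMap_repIso_hom]
  have sq' : IsPullback ((AlgSp.yon S).map t) ((AlgSp.yon S).map s) ((AlgSp.yon S).map q) ((AlgSp.yon S).map q) :=
    (isPullback_quot hR).of_iso (Iso.refl _) (Iso.refl _) (Iso.refl _) e (by simp) (by simp) (by simp [he])
      (by simp [he])
  have hk : IsKernelPair q s t := (IsPullback.of_map (AlgSp.yon S) w.symm sq').flip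
  have sq := IsPullback.map (Over.forget S) hk
  have : IsIso heq.s.left := by
    have : IsIso heq.s := ⟨heq.s, heq.right_cancellation _ _ (by rw [Category.assoc, heq.symmetry₁, heq.symmetry₂, Category.id_comp])
      (by rw [Category.assoc, heq.symmetry₂, heq.symmetry₁, Category.id_comp]),
      heq.right_cancellation _ _ (by rw [Category.assoc, heq.symmetry₁, heq.symmetry₂, Category.id_comp])
      (by rw [Category.assoc, heq.symmetry₂, heq.symmetry₁, Category.id_comp])⟩
    exact (Over.forget S).map_isIso heq.s
  have ht : t.left = heq.s.left ≫ s.left := by rw [← Over.comp_left, heq.symmetry₁]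
  have : Flat t.left := ht ▸ inferInstance
  have : LocallyOfFinitePresentation t.left := ht ▸ inferInstance
  have : Sheaf.IsLocallySurjective ((AlgSp.yon S).map q) := by
    have := epi_quotMap s t
    have : Epi ((AlgSp.yon S).map q) := he ▸ inferInstance
    exact (Sheaf.isLocallySurjective_iff_epi' (Type (u + 1)) _).2 ‹_›
  obtain ⟨M', p, x, hp, hx⟩ := exists_lift_of_isLocallySurjective ((AlgSp.yon S).map q) (𝟙 _)
  obtain ⟨x, rfl⟩ := (AlgSp.yon S).map_surjective x
  rw [Category.comp_id, ← Functor.map_comp] at hx
  have hxp : x.left ≫ q.left = p.left := by rw [← Over.comp_left, (AlgSp.yon S).map_injective hx]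
  have big : IsPullback (pullback.fst t.left x.left ≫ s.left) (pullback.snd t.left x.left) q.left p.left :=
    hxp ▸ (IsPullback.of_hasPullback t.left x.left).paste_horiz sq
  have := hp.1.1
  have := hp.1.2
  have := hp.2
  have : Flat (pullback.fst t.left x.left ≫ s.left) := MorphismProperty.of_isPullback big.flip hp.1.2
  have : Surjective (pullback.fst t.left x.left ≫ s.left) := MorphismProperty.of_isPullback big.flip hp.1.1
  refine ⟨hk, ?_, hsurj, ?_⟩
  · have : Flat ((pullback.fst t.left x.left ≫ s.left) ≫ q.left) := by
      rw [big.w]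
      infer_instance
    exact Flat55.FlatDescend.flat_of_comp (pullback.fst t.left x.left ≫ s.left) q.left
  · exact MorphismProperty.of_isPullback_of_descendsAlong
      (P := (@LocallyOfFinitePresentation : MorphismProperty Scheme.{u})) (Q := fppfCover) big.flip hp
      inferInstance

end Groth.Agent.S5224
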