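import Groth.Statements.S5225
import Groth.Agent.H81.QuotShGen
import Groth.Agent.Lib.AlgSpace.Props
import Mathlib.AlgebraicGeometry.Sites.Fpqc

set_option autoImplicit false
open CategoryTheory CategoryTheory.Limits AlgebraicGeometry
universe u
open GrpQ
open Groth.Agent.Lib.AlgSpace Groth.Agent.H81

namespace Groth.Agent.S5225

/-- A Mathlib equivalence relation is one on points. -/
theorem isEqvRel {S : Scheme.{u}} {R U : Over S} {s t : R ⟶ U} (h : EquivalenceRelation s t) :
    AlgSp.IsEqvRel s t where
  injective _ r r' h1 h2 := h.right_cancellation r r' h2 h1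
  equivalence T := by
    refine ⟨fun a => ⟨a ≫ h.r, by simp, by simp⟩, ?_, ?_⟩
    · rintro a b ⟨r, h1, h2⟩
      exact ⟨r ≫ h.s, by rw [Category.assoc, h.symmetry₂, h2], by rw [Category.assoc, h.symmetry₁, h1]⟩
    · rintro a b c ⟨w, h1, h2⟩ ⟨w', h3, h4⟩
      obtain ⟨l, hl1, hl2⟩ := PullbackCone.IsLimit.lift' h.isLimit w' w (h3.trans h2.symm)
      exact ⟨l ≫ h.t, by rw [Category.assoc, h.transitivity₂, ← Category.assoc, hl2, h1],
        by rw [Category.assoc, h.transitivity₁, ← Category.assoc, hl1, h4]⟩

/-- The etale topology is coarser than the fppf topology, hence subcanonical. -/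
theorem subcanonical : (Scheme.etaleTopology.{u}).Subcanonical :=
  .of_le (show Scheme.etaleTopology.{u} ≤ Scheme.fppfTopology from Scheme.grothendieckTopology_monotone (Q := @Flat ⊓ @LocallyOfFinitePresentation)
    fun _ _ f (_ : Etale f) => ⟨inferInstance, inferInstance⟩)

set_option backward.isDefEq.respectTransparency false in
/-- For the étale topology: let `s, t : R ⇉ U` be an equivalence relation of schemes over `S` with `s`
étale and surjective. A morphism `q : U ⟶ Y` over `S` is an étale surjective quotient with kernel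
pair `R` if and only if `q` identifies `h_Y` with the étale quotient sheaf `U/R`. -/
theorem result {S : Scheme.{u}} {R U Y : Over S} (s t : R ⟶ U)
    [IsEquivalenceRelation s t] [Etale s.left] [Surjective s.left]
    (q : U ⟶ Y) :
    (IsKernelPair q s t ∧ Etale q.left ∧ Surjective q.left) ↔
      QuotSh.IsQuotient Scheme.etalePrecoverage s t q := by
  obtain ⟨heq⟩ := (inferInstance : IsEquivalenceRelation s t).nonempty_equivalenceRelation
  have hR := isEqvRel heq
  have : (Scheme.etalePrecoverage.toGrothendieck : GrothendieckTopology Scheme.{u}).Subcanonical := subcanonical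
  constructor
  · rintro ⟨hk, he, hs⟩
    have : Presheaf.IsLocallySurjective (QuotSh.J Scheme.etalePrecoverage S) (preMap q) := by
      refine ⟨fun {W} b => ?_⟩
      obtain ⟨b⟩ := b
      rw [GrothendieckTopology.mem_over_iff]
      have hp := IsPullback.map (Over.forget S) (IsPullback.of_hasPullback q b)
      have : Etale (pullback.snd q b).left := MorphismProperty.of_isPullback hp he
      have : Surjective (pullback.snd q b).left := MorphismProperty.of_isPullback hp hs
      refine GrothendieckTopology.superset_covering _ ?_ (Precoverage.generate_mem_toGrothendieck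
        (R := Presieve.singleton (pullback.snd q b).left) ((Scheme.singleton_mem_precoverage_iff
          @Etale _).2 ⟨Surjective.surj, inferInstance⟩))
      rw [Sieve.generate_le_iff]
      rintro _ _ ⟨⟩
      refine (Sieve.overEquiv_iff _ _).2 ⟨⟨Over.homMk (pullback.fst q b).left (by simp)⟩, ULift.ext _ _ ?_⟩
      have hc := congrArg Over.Hom.left (pullback.condition (f := q) (g := b))
      exact Over.OverMorphism.ext hc
    have : Epi (QuotSh.repMap Scheme.etalePrecoverage q) :=
      (Sheaf.isLocallySurjective_iff_epi' (Type (u + 1)) _).1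
        ((Presheaf.isLocallySurjective_presheafToSheaf_map_iff _ _).2 this)
    exact QuotShGen.isQuotient_of_epi q hk
  intro h
  have hk := QuotShGen.isKernelPair_of_isQuotient hR h
  have hls := QuotShGen.isLocallySurjective_of_isQuotient h
  have hmem := hls.imageSieve_mem (U := Y) (⟨𝟙 Y⟩ : ULift (Y ⟶ Y))
  rw [GrothendieckTopology.mem_over_iff] at hmem
  obtain ⟨𝒰, hle⟩ := Scheme.exists_cover_of_mem_grothendieckTopology (P := @Etale) hmem
  have hx : ∀ i, ∃ x : 𝒰.X i ⟶ U.left, x ≫ q.left = 𝒰.f i := fun i => by
    obtain ⟨t', ht'⟩ := (Sieve.overEquiv_iff _ _).1 (hle _ _ (Presieve.ofArrows.mk i))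
    exact ⟨t'.down.left, by
      have := congrArg (fun z => z.down.left) ht'
      simpa using this⟩
  choose x hx using hx
  let p : (∐ 𝒰.X) ⟶ Y.left := Sigma.desc 𝒰.f
  have hxp : Sigma.desc x ≫ q.left = p := Sigma.hom_ext _ _ fun i => by simp [p, hx]
  have hpe : Etale p := IsZariskiLocalAtSource.sigmaDesc (P := @Etale) fun i => 𝒰.map_prop i
  have hps : Surjective p := ⟨fun y => by
    obtain ⟨i, z, hz⟩ := 𝒰.exists_eq y
    exact ⟨Sigma.ι 𝒰.X i z, by rw [← Scheme.Hom.comp_apply, Sigma.ι_desc]; exact hz⟩⟩
  have : IsIso heq.s.left := by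
    have : IsIso heq.s := ⟨heq.s, heq.right_cancellation _ _ (by rw [Category.assoc, heq.symmetry₁, heq.symmetry₂, Category.id_comp])
      (by rw [Category.assoc, heq.symmetry₂, heq.symmetry₁, Category.id_comp]),
      heq.right_cancellation _ _ (by rw [Category.assoc, heq.symmetry₁, heq.symmetry₂, Category.id_comp])
      (by rw [Category.assoc, heq.symmetry₂, heq.symmetry₁, Category.id_comp])⟩
    exact (Over.forget S).map_isIso heq.s
  have ht : t.left = heq.s.left ≫ s.left := by rw [← Over.comp_left, heq.symmetry₁]
  have : Etale t.left := ht ▸ inferInstance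
  have big : IsPullback (pullback.fst t.left (Sigma.desc x) ≫ s.left) (pullback.snd t.left (Sigma.desc x)) q.left p :=
    hxp ▸ (IsPullback.of_hasPullback t.left (Sigma.desc x)).paste_horiz (IsPullback.map (Over.forget S) hk)
  refine ⟨hk, ?_, ?_⟩
  · exact MorphismProperty.of_isPullback_of_descendsAlong
      (P := (@Etale : MorphismProperty Scheme.{u})) (Q := fppfCover) big.flip (fppfCover_mk p) inferInstance
  · have : Surjective (Sigma.desc x ≫ q.left) := hxp ▸ hps
    exact Surjective.of_comp (Sigma.desc x) q.left

end Groth.Agent.S5225
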