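import Groth.Statements.S5228
import Groth.Agent.Lib.Comod.Basic
import Groth.Agent.H66.Integral
import Mathlib.RingTheory.HopfAlgebra.MonoidAlgebra
-- import your own Groth.Agent.* helpers here

set_option autoImplicit false
universe w u
open HopfRep

namespace Groth.Agent.S5228

/-- Over an affine base, in comodule form: for a representation `V` of a diagonalizable group `D(M)`
over a commutative ring `k` (a `k[M]`-comodule), every sub-representation which is a direct summand
as a `k`-module is a direct summand as a representation. (The published statement: a short exact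
sequence of quasi-coherent `D(M)`-modules that splits as a sequence of modules splits
equivariantly.) -/
theorem result {k : Type u} [CommRing k] {M : Type u} [CommGroup M]
    (V : Type w) [AddCommGroup V] [Module k V] [HopfRep.Comod k (MonoidAlgebra k M) V]
    (W : Submodule k V) (hW : HopfRep.IsSubcomod (k := k) (A := MonoidAlgebra k M) W)
    (hsplit : ∃ W' : Submodule k V, IsCompl W W') :
    ∃ W'' : Submodule k V, HopfRep.IsSubcomod (k := k) (A := MonoidAlgebra k M) W'' ∧ IsCompl W W'' := by
  obtain ⟨W', hc⟩ := hsplit
  classical
  let A := MonoidAlgebra k M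
  let α₀ : A →ₗ[k] k := Finsupp.lapply 1 ∘ₗ (MonoidAlgebra.coeffLinearEquiv k).toLinearMap
  have hα₀ : ∀ (m : M) (r : k), α₀ (MonoidAlgebra.single m r) = if m = 1 then r else 0 := by
    intro m r
    change (MonoidAlgebra.single m r).coeff 1 = _
    simp [Finsupp.single_apply, eq_comm]
  have hα : @Hoch.IsComodHom k _ A _ _ _ A _ _ _ k _ _ (HopfRep.Comod.trivial k A k) α₀ := by
    refine LinearMap.ext fun a => ?_
    change α₀ a ⊗ₜ[k] (1 : A) = α₀.rTensor A (CoalgebraStruct.comul a)
    induction a using MonoidAlgebra.induction_linear with
    | zero => simp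
    | add x y hx hy => simp only [map_add, ← hx, ← hy, TensorProduct.add_tmul]
    | single m r =>
      rw [MonoidAlgebra.comul_single]
      by_cases hm : m = 1
      · subst hm
        simp only [TensorProduct.map_tmul, CommSemiring.comul_apply, MonoidAlgebra.lsingle_apply,
          LinearMap.rTensor_tmul, hα₀, if_true]
        rw [← mul_one r, ← smul_eq_mul, ← MonoidAlgebra.smul_single, TensorProduct.tmul_smul, TensorProduct.smul_tmul']
        simp [MonoidAlgebra.one_def, TensorProduct.smul_tmul']
        rfl
      · simp [hα₀, hm]
  letI cW : HopfRep.Comod k A W := Lib.Comod.Basic.subComod W hW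
  obtain ⟨q, hq, hqi⟩ := H66.Integral.exists_comodHom_leftInverse (A := A) α₀ hα ((hα₀ 1 1).trans (if_pos rfl))
    W.subtype (Lib.Comod.Basic.isComodHom_subtype hW) (Submodule.projectionOnto W W' hc)
    (LinearMap.ext fun w => Submodule.projectionOnto_apply_left hc w)
  exact ⟨LinearMap.ker q, Lib.Comod.Basic.isSubcomod_ker hq,
    LinearMap.isCompl_of_proj fun w => LinearMap.congr_fun hqi w⟩

end Groth.Agent.S5228
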