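import Groth.Statements.S5232
import Groth.Agent.Lib.AlgSpace.DescendRep
import Groth.Agent.Lib.AlgSpMor.RepDescent
import Groth.Agent.Lib.AlgSpMor.AffineDescent
import Groth.Agent.Lib.AlgSpace.Quot

set_option autoImplicit false
open CategoryTheory CategoryTheory.Limits AlgebraicGeometry
universe u
open GrpQ

namespace Groth.Agent.S5232

/-- On the big fppf site of a scheme `S`, in the case where the local representing objects are affine
over the cover (so that the canonical descent datum is effective): if `Z` is an fppf sheaf over `S`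
and, for an fppf cover `S' ⟶ S`, the sheaf `Z ×_S S'` is represented over `S'` by a scheme affine
over `S'`, then `Z` is represented by a scheme affine over `S`. -/
theorem result {S S' : Scheme.{u}} (f : S' ⟶ S)
    [Flat f] [Surjective f] [LocallyOfFinitePresentation f]
    (Z : QuotSh.Sh Scheme.fppfPrecoverage S)
    (T' : Over S) (a : T' ⟶ Over.mk f) [IsAffineHom a.left]
    (φ : QuotSh.rep Scheme.fppfPrecoverage T' ≅ Z ⨯ QuotSh.rep Scheme.fppfPrecoverage (Over.mk f))
    (hφ : φ.hom ≫ prod.snd = QuotSh.repMap Scheme.fppfPrecoverage a) :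
    ∃ T : Over S, IsAffineHom T.hom ∧ Nonempty (QuotSh.rep Scheme.fppfPrecoverage T ≅ Z) := by
  let one : Over S := Over.mk (𝟙 S)
  let hone : IsTerminal ((AlgSp.yon S).obj one) :=
    IsTerminal.isTerminalObj (AlgSp.yon S) one Over.mkIdTerminal
  let z : Z ⟶ (AlgSp.yon S).obj one := hone.from _
  let q : Over.mk f ⟶ one := Over.homMk f (Category.comp_id f)
  have hq : Lib.AlgSpace.fppfCover q.left := Lib.AlgSpace.fppfCover_mk f
  haveI := Lib.AlgSpace.isLocallySurjective_yon_map q hq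
  let ρ := QuotSh.repIsoUliftYoneda Scheme.fppfPrecoverage (Over.mk f)
  let ρ' := QuotSh.repIsoUliftYoneda Scheme.fppfPrecoverage T'
  have sq₀ : IsPullback (prod.fst : Z ⨯ QuotSh.rep Scheme.fppfPrecoverage (Over.mk f) ⟶ Z)
      (prod.snd ≫ ρ.hom) z ((AlgSp.yon S).map q) :=
    (IsPullback.of_is_product (prodIsProd Z (QuotSh.rep Scheme.fppfPrecoverage (Over.mk f))) hone
      |>.of_iso (Iso.refl _) (Iso.refl _) ρ (Iso.refl _) (by simp) (by simp) (hone.hom_ext _ _)
        (hone.hom_ext _ _))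
  have sq : IsPullback ((ρ'.inv ≫ φ.hom) ≫ prod.fst) ((AlgSp.yon S).map a) z ((AlgSp.yon S).map q) := by
    refine sq₀.of_iso (φ.symm ≪≫ ρ') (Iso.refl _) (Iso.refl _) (Iso.refl _) ?_ ?_ ?_ ?_
    · simp
    · simp only [Iso.trans_hom, Iso.symm_hom, Iso.refl_hom, Category.comp_id, Category.assoc]
      rw [← Lib.AlgSpace.repMap_repIso_hom, ← hφ, Category.assoc, Iso.inv_hom_id_assoc]
    · exact hone.hom_ext _ _
    · exact hone.hom_ext _ _
  haveI := Lib.AlgSpMor.AffineDescent.isLocalAtTarget_isAffineHom.{u}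
  have heff : Lib.AlgSpace.Effective @IsAffineHom.{u} :=
    Lib.AlgSpace.effective_quasiAffine.mono fun _ _ g hg =>
      @Lib.AlgSpMor.RepDescent.isQuasiAffine_of_isAffineHom _ _ g hg
  have hrep : AlgSp.RepWith @IsAffineHom z :=
    Lib.AlgSpace.repWith_of_effective _ sq heff ((AlgSp.repWith_yon_map_iff _ _).2 ‹_›)
  let ξ := 𝟙 ((AlgSp.yon S).obj one)
  have sqT := hrep.rep.isPullback ξ
  have ha : IsAffineHom (hrep.rep.snd ξ).left := hrep.property_snd ξ
  haveI : IsIso (hrep.rep.fst ξ) := sqT.isIso_fst_of_isIso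
  refine ⟨hrep.rep.pullback ξ, ?_, ⟨QuotSh.repIsoUliftYoneda _ _ ≪≫ asIso (hrep.rep.fst ξ)⟩⟩
  rw [← Over.w (hrep.rep.snd ξ)]
  exact MorphismProperty.comp_mem _ _ _ ha (inferInstanceAs (IsAffineHom (𝟙 S)))

end Groth.Agent.S5232
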