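import Groth.Statements.S5233

import Groth.Agent.Lib.FFDesc.SubobjDesc

set_option autoImplicit false
open CategoryTheory CategoryTheory.Limits AlgebraicGeometry
universe u
open GrpQ

open AlgebraicGeometry CategoryTheory Groth.Agent.Lib.FFDesc.SubobjDesc

namespace Groth.Agent.S5233

/-- For schemes, with (M) the faithfully flat quasi-compact morphisms and (N) the closed immersions: if
`π : X ⟶ X'` is flat, surjective and quasi-compact (so `X' = X/R` for its kernel pair `R ⇉ X`), then
`Y' ↦ π⁻¹(Y')` is a bijection from closed subschemes of `X'` onto the closed subschemes of `X`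
stable under `R`. -/
theorem result {X X' : Scheme.{u}} (π : X ⟶ X')
    [Flat π] [Surjective π] [QuasiCompact π] :
    Set.BijOn (Subobject.pullback π).obj
      {Y' : Subobject X' | IsClosedImmersion Y'.arrow}
      {Y : Subobject X | IsClosedImmersion Y.arrow ∧
        (Subobject.pullback (pullback.fst π π)).obj Y = (Subobject.pullback (pullback.snd π π)).obj Y} := by
  refine ⟨fun y hy => ⟨?_, pullback_stable π y⟩, fun a _ b _ h => eq_of_pullback_eq π h, ?_⟩
  · exact MorphismProperty.of_isPullback (P := @IsClosedImmersion) (Subobject.isPullback π y) hy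
  · rintro Y ⟨hY, hst⟩
    have : IsClosedImmersion Y.arrow := hY
    obtain ⟨y, h1, h2⟩ := exists_closed π Y hst
    exact ⟨y, h1, h2⟩

end Groth.Agent.S5233
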