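import Groth.Statements.S5234
import Groth.Agent.H83.Fppf
import Groth.Agent.Lib.Flat55.FlatDescend

set_option autoImplicit false
open CategoryTheory CategoryTheory.Limits AlgebraicGeometry MonoidalCategory
universe u
open RedSub

namespace Groth.Agent.S5234

open CartesianMonoidalCategory SemiCartesianMonoidalCategory in
/-- (ii) ⇔ (iii), for schemes with the fppf topology: let `G` be an `S`-group scheme which is faithfully
flat and locally of finite presentation over `S`, acting on `X` so that `X` is formally principal
homogeneous. Then `X` is a torsor (its structure map is faithfully flat and locally of finite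
presentation) if and only if `X` has a point over some faithfully flat, locally finitely presented
`S' ⟶ S`. -/
theorem result {S : Scheme.{u}} {G X : Over S} [GrpObj G]
    (a : AlgGrp.Action G X)
    [Flat G.hom] [Surjective G.hom] [LocallyOfFinitePresentation G.hom]
    (hX : IsIso (lift a.act (snd G X))) :
    RedSub.IsTorsor a ↔
      ∃ S' : Over S, Surjective S'.hom ∧ Flat S'.hom ∧ LocallyOfFinitePresentation S'.hom ∧
        Nonempty (S' ⟶ X) := by
  constructor
  · rintro ⟨h1, h2, h3, -⟩
    exact ⟨X, h1, h2, h3, ⟨𝟙 X⟩⟩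
  · rintro ⟨S', h1, h2, h3, ⟨x⟩⟩
    have hcS : Groth.Agent.H83.Fppf.IsCov (toUnit S') := ⟨h1, h2, h3⟩
    let φ : G ⊗ S' ⟶ X ⊗ S' := lift (lift (fst G S') (snd G S' ≫ x) ≫ a.act) (snd G S')
    let ψ : X ⊗ S' ⟶ G ⊗ S' :=
      lift (lift (fst X S') (snd X S' ≫ x) ≫ inv (lift a.act (snd G X)) ≫ fst G X) (snd X S')
    have e1 : φ ≫ lift (fst X S') (snd X S' ≫ x) =
        lift (fst G S') (snd G S' ≫ x) ≫ lift a.act (snd G X) := by
      apply CartesianMonoidalCategory.hom_ext <;> simp [φ]
    have h12 : φ ≫ ψ = 𝟙 _ := by
      apply CartesianMonoidalCategory.hom_ext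
      · calc (φ ≫ ψ) ≫ fst G S'
            = (φ ≫ lift (fst X S') (snd X S' ≫ x)) ≫ inv (lift a.act (snd G X)) ≫ fst G X := by
              simp only [ψ, Category.assoc, lift_fst]
          _ = _ := by rw [e1, Category.assoc, IsIso.hom_inv_id_assoc, lift_fst, Category.id_comp]
      · simp [φ, ψ]
    have e2 : ψ ≫ lift (fst G S') (snd G S' ≫ x) =
        lift (fst X S') (snd X S' ≫ x) ≫ inv (lift a.act (snd G X)) := by
      have e3 : inv (lift a.act (snd G X)) ≫ snd G X = snd X X := by
        rw [IsIso.inv_comp_eq]; simp
      apply CartesianMonoidalCategory.hom_ext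
      · simp [ψ]
      · simp [ψ, e3]
    have h21 : ψ ≫ φ = 𝟙 _ := by
      apply CartesianMonoidalCategory.hom_ext
      · calc (ψ ≫ φ) ≫ fst X S' = (ψ ≫ lift (fst G S') (snd G S' ≫ x)) ≫ a.act := by
              simp only [φ, Category.assoc, lift_fst]
          _ = _ := by
            rw [e2]
            have e4 : inv (lift a.act (snd G X)) ≫ a.act = fst X X := by
              rw [IsIso.inv_comp_eq]; simp
            rw [Category.assoc, e4, lift_fst, Category.id_comp]
      · simp [φ, ψ]
    let e : G ⊗ S' ≅ X ⊗ S' := ⟨φ, ψ, h12, h21⟩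
    have hsnd : snd X S' = e.inv ≫ snd G S' := by simp [e, ψ]
    have hG : Groth.Agent.H83.Fppf.IsCov (toUnit G) := ⟨‹_›, ‹_›, ‹_›⟩
    have hQ : (@Surjective ⊓ @Flat ⊓ @LocallyOfFinitePresentation : MorphismProperty Scheme.{u})
        S'.hom := ⟨⟨h1, h2⟩, h3⟩
    have hiso : IsIso e.inv.left :=
      ((Over.forget S).mapIso e).isIso_inv
    have hsndl : (snd X S').left = e.inv.left ≫ pullback.snd G.hom S'.hom := by
      rw [hsnd]; rfl
    have s1 : Surjective (pullback.snd X.hom S'.hom) := by
      change Surjective (snd X S').left; rw [hsndl]; infer_instance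
    have s2 : Flat (pullback.snd X.hom S'.hom) := by
      change Flat (snd X S').left; rw [hsndl]; infer_instance
    have s3 : LocallyOfFinitePresentation (pullback.snd X.hom S'.hom) := by
      change LocallyOfFinitePresentation (snd X S').left; rw [hsndl]; infer_instance
    have f1 : Surjective X.hom := by
      have : Surjective (pullback.fst X.hom S'.hom ≫ X.hom) := by
        rw [pullback.condition]; infer_instance
      exact Surjective.of_comp (pullback.fst X.hom S'.hom) X.hom
    have f2 : Flat X.hom := by
      have : Flat (pullback.fst X.hom S'.hom ≫ X.hom) := by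
        rw [pullback.condition]; infer_instance
      exact Groth.Agent.Lib.Flat55.FlatDescend.flat_of_comp (pullback.fst X.hom S'.hom) X.hom
    refine ⟨f1, f2, ?_, hX⟩
    exact MorphismProperty.of_isPullback_of_descendsAlong
      (P := @LocallyOfFinitePresentation.{u}) (IsPullback.of_hasPullback X.hom S'.hom).flip hQ s3

end Groth.Agent.S5234
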