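import Groth.Statements.S5236
import Groth.Agent.H83.Fppf

set_option autoImplicit false
open CategoryTheory CategoryTheory.Limits AlgebraicGeometry MonoidalCategory
universe u
open RedSub
open CartesianMonoidalCategory MonObj GrpObj

namespace Groth.Agent.S5236

/-- For group schemes and the fppf topology: if `i : H ⟶ G` is a normal monomorphism of `S`-group
schemes and `q : G ⟶ Q` exhibits `Q` as the fppf quotient `G/H`, then there is exactly one
group-scheme structure on `Q` over `S` making `q` a homomorphism. -/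
theorem result {S : Scheme.{u}} {H G Q : Over S} [GrpObj H] [hG : GrpObj G]
    (i : H ⟶ G) [IsMonHom i] [Mono i] (hn : AlgGrp.IsNormalHom i)
    (q : G ⟶ Q) (hq : RedSub.IsQuotient i q) :
    ∃! s : GrpObj Q, @IsMonHom (Over S) _ _ G Q hG.toMonObj s.toMonObj q := by
  classical
  obtain hcov := Groth.Agent.H83.Fppf.isCov_of_isQuotient hq
  have hmul : ∀ (T : Over S) (a b : T ⟶ G ⊗ G), a ≫ (q ⊗ₘ q) = b ≫ (q ⊗ₘ q) →
      a ≫ μ[G] ≫ q = b ≫ μ[G] ≫ q := by
    intro T a b e
    have e1 : (a ≫ fst G G) ≫ q = (b ≫ fst G G) ≫ q := by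
      simpa using congr_arg (· ≫ fst Q Q) e
    have e2 : (a ≫ snd G G) ≫ q = (b ≫ snd G G) ≫ q := by
      simpa using congr_arg (· ≫ snd Q Q) e
    obtain ⟨h1, hh1⟩ := Groth.Agent.H83.Fppf.exists_translate hq e1
    obtain ⟨h2, hh2⟩ := Groth.Agent.H83.Fppf.exists_translate hq e2
    obtain ⟨h3, hh3⟩ := hn T (a ≫ snd G G)⁻¹ h1
    have key : (b ≫ fst G G) * (b ≫ snd G G) =
        ((a ≫ fst G G) * (a ≫ snd G G)) * ((h3 * h2) ≫ i) := by
      rw [hh1, hh2, MonObj.mul_comp, ← hh3]
      group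
    have ha : a ≫ μ[G] = (a ≫ fst G G) * (a ≫ snd G G) := by
      rw [Hom.mul_def, ← comp_lift, lift_fst_snd, Category.comp_id]
    have hb : b ≫ μ[G] = (b ≫ fst G G) * (b ≫ snd G G) := by
      rw [Hom.mul_def, ← comp_lift, lift_fst_snd, Category.comp_id]
    rw [← Category.assoc, ← Category.assoc, ha, hb, key,
      Groth.Agent.H83.Fppf.eq_of_translate hq]
  obtain ⟨m, hm⟩ := (hcov.tensor hcov).exists_desc (μ[G] ≫ q) hmul
  obtain ⟨iv, hiv⟩ := Groth.Agent.H83.Fppf.exists_desc_quotient hq (ι[G] ≫ q) (by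
    intro T g h
    obtain ⟨h', hh'⟩ := hn T g h⁻¹
    have key : (g * (h ≫ i))⁻¹ = g⁻¹ * (h' ≫ i) := by
      rw [← hh', GrpObj.inv_comp]
      group
    have e1 : (g * (h ≫ i)) ≫ ι[G] = (g * (h ≫ i))⁻¹ := (Hom.inv_def _).symm
    have e2 : g ≫ ι[G] = g⁻¹ := (Hom.inv_def _).symm
    rw [← Category.assoc, ← Category.assoc, e1, e2, key, Groth.Agent.H83.Fppf.eq_of_translate hq])
  let sQ : GrpObj Q :=
    { one := η[G] ≫ q
      mul := m
      one_mul := by
        apply (hcov.whiskerLeft (𝟙_ (Over S))).cancel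
        calc (𝟙_ (Over S) ◁ q) ≫ (η[G] ≫ q) ▷ Q ≫ m
            = (η[G] ▷ G) ≫ (q ⊗ₘ q) ≫ m := by
              rw [← id_tensorHom, ← tensorHom_id, ← tensorHom_id, tensorHom_comp_tensorHom_assoc,
                tensorHom_comp_tensorHom_assoc, Category.id_comp, Category.comp_id, Category.id_comp]
          _ = _ := by rw [hm]; simp
      mul_one := by
        apply (hcov.whiskerRight (𝟙_ (Over S))).cancel
        calc (q ▷ 𝟙_ (Over S)) ≫ Q ◁ (η[G] ≫ q) ≫ m
            = (G ◁ η[G]) ≫ (q ⊗ₘ q) ≫ m := by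
              simp [tensorHom_def', whisker_exchange_assoc]
          _ = _ := by rw [hm]; simp
      mul_assoc := by
        apply ((hcov.tensor hcov).tensor hcov).cancel
        calc ((q ⊗ₘ q) ⊗ₘ q) ≫ m ▷ Q ≫ m
            = (μ[G] ▷ G) ≫ (q ⊗ₘ q) ≫ m := by
              rw [← tensorHom_id, ← tensorHom_id, tensorHom_comp_tensorHom_assoc,
                tensorHom_comp_tensorHom_assoc, hm, Category.comp_id, Category.id_comp]
          _ = (α_ G G G).hom ≫ (G ◁ μ[G]) ≫ (q ⊗ₘ q) ≫ m := by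
              rw [hm]; simp
          _ = _ := by
              rw [associator_naturality_assoc, ← id_tensorHom, tensorHom_comp_tensorHom_assoc,
                ← id_tensorHom, tensorHom_comp_tensorHom_assoc, hm]
              simp
      inv := iv
      left_inv := by
        apply hcov.cancel
        calc q ≫ lift iv (𝟙 Q) ≫ m
            = lift ι[G] (𝟙 G) ≫ (q ⊗ₘ q) ≫ m := by
              rw [lift_map_assoc, comp_lift_assoc, hiv]; simp
          _ = _ := by
              rw [hm, GrpObj.left_inv_assoc]; simp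
      right_inv := by
        apply hcov.cancel
        calc q ≫ lift (𝟙 Q) iv ≫ m
            = lift (𝟙 G) ι[G] ≫ (q ⊗ₘ q) ≫ m := by
              rw [lift_map_assoc, comp_lift_assoc, hiv]; simp
          _ = _ := by
              rw [hm, GrpObj.right_inv_assoc]; simp }
  refine ⟨sQ, @IsMonHom.mk _ _ _ _ _ hG.toMonObj sQ.toMonObj q rfl hm.symm, ?_⟩
  intro s hs
  apply GrpObj.ext
  apply MonObj.ext
  apply (hcov.tensor hcov).cancel
  exact ((@IsMonHom.mul_hom _ _ _ _ _ hG.toMonObj s.toMonObj q hs).symm.trans hm.symm)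

end Groth.Agent.S5236
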