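import Groth.Statements.S5237
import Groth.Agent.H83.Fppf

set_option autoImplicit false
open CategoryTheory CategoryTheory.Limits AlgebraicGeometry MonoidalCategory
universe u
open RedSub

namespace Groth.Agent.S5237

open MonObj GrpObj CartesianMonoidalCategory in
/-- For group schemes and the fppf topology: if `q : G ⟶ Q = G/H` is the fppf quotient of `G` by a
normal subgroup `H`, with its group structure, then a homomorphism `G ⟶ K` that kills `H` factors
uniquely through `q`, and the factorisation is a homomorphism. -/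
theorem result {S : Scheme.{u}} {H G Q K : Over S}
    [GrpObj H] [GrpObj G] [GrpObj Q] [GrpObj K]
    (i : H ⟶ G) [IsMonHom i] [Mono i] (hn : AlgGrp.IsNormalHom i)
    (q : G ⟶ Q) [IsMonHom q] (hq : RedSub.IsQuotient i q)
    (f : G ⟶ K) [IsMonHom f] (hf : i ≫ f = 1) :
    ∃! g : Q ⟶ K, q ≫ g = f ∧ IsMonHom g := by
  obtain hcov := Groth.Agent.H83.Fppf.isCov_of_isQuotient hq
  obtain ⟨g, hg⟩ := Groth.Agent.H83.Fppf.exists_desc_quotient hq f (by
    intro T x h
    rw [MonObj.mul_comp, Category.assoc, hf]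
    simp)
  refine ⟨g, ⟨hg, ⟨?_, ?_⟩⟩, fun g' hg' ↦ hcov.cancel (hg'.1.trans hg.symm)⟩
  · rw [← IsMonHom.one_hom q, Category.assoc, hg, IsMonHom.one_hom]
  · apply (hcov.tensor hcov).cancel
    rw [← IsMonHom.mul_hom_assoc q, hg, IsMonHom.mul_hom f, tensorHom_comp_tensorHom_assoc, hg]

end Groth.Agent.S5237
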