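import Groth.Statements.S5238
import Groth.Agent.S2735

set_option autoImplicit false
open CategoryTheory AlgebraicGeometry
universe w u
open GrpQ

namespace Groth.Agent.S5238

open Limits Opposite

/-- Pullbacks of an affine quasi-finite cover are separating for a Zariski sheaf satisfying the
affine condition. -/
lemma isSeparatedFor_pullback (F : Scheme.{u}ᵒᵖ ⥤ Type w)
    (hzar : Presieve.IsSheaf Scheme.zariskiTopology F)
    (hff : ∀ (T S : Scheme.{u}) [IsAffine T] [IsAffine S] (f : T ⟶ S)
          [Flat f] [Surjective f] [LocallyOfFinitePresentation f] [LocallyQuasiFinite f],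
          Presieve.IsSheafFor F (Presieve.singleton f))
    {S' T : Scheme.{u}} [IsAffine S'] [IsAffine T] (g : S' ⟶ T) [Flat g] [Surjective g]
    [LocallyOfFinitePresentation g] [LocallyQuasiFinite g] {V : Scheme.{u}} (v : V ⟶ T) :
    Presieve.IsSeparatedFor F (Presieve.singleton (pullback.snd g v)) := by
  rw [Presieve.isSeparatedFor_singleton]
  intro x y hxy
  refine (hzar _ (Precoverage.generate_mem_toGrothendieck V.affineCover.mem₀)).isSeparatedFor.ext
    fun Y k hk ↦ ?_
  obtain ⟨W, a, -, ⟨i⟩, rfl⟩ := hk
  rw [op_comp, Functor.map_comp, comp_apply, comp_apply]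
  congr 1
  have hsep := (hff _ _ (pullback.snd g (V.affineCover.f i ≫ v))).isSeparatedFor
  rw [Presieve.isSeparatedFor_singleton] at hsep
  apply hsep
  let m : pullback g (V.affineCover.f i ≫ v) ⟶ pullback g v :=
    pullback.lift (pullback.fst _ _) (pullback.snd _ _ ≫ V.affineCover.f i)
      (by rw [pullback.condition, Category.assoc])
  have hm : m ≫ pullback.snd g v =
      pullback.snd g (V.affineCover.f i ≫ v) ≫ V.affineCover.f i := pullback.lift_snd _ _ _
  simp only [← comp_apply, ← Functor.map_comp, ← op_comp]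
  rw [← hm, op_comp, Functor.map_comp, comp_apply, comp_apply, hxy]

/-- Sheaf condition for an fppf cover of an affine scheme. -/
lemma isSheafFor_cover (F : Scheme.{u}ᵒᵖ ⥤ Type w)
    (hzar : Presieve.IsSheaf Scheme.zariskiTopology F)
    (hff : ∀ (T S : Scheme.{u}) [IsAffine T] [IsAffine S] (f : T ⟶ S)
          [Flat f] [Surjective f] [LocallyOfFinitePresentation f] [LocallyQuasiFinite f],
          Presieve.IsSheafFor F (Presieve.singleton f))
    {T : Scheme.{u}} [IsAffine T]
    (𝒰 : Precoverage.ZeroHypercover.{u} Scheme.fppfPrecoverage T) :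
    Presieve.IsSheafFor F (Presieve.ofArrows 𝒰.X 𝒰.f) := by
  have hmem := 𝒰.mem₀
  change 𝒰.presieve₀ ∈ Scheme.precoverage (@Flat ⊓ @LocallyOfFinitePresentation) T at hmem
  rw [Scheme.presieve₀_mem_precoverage_iff] at hmem
  have hflat : Flat (Sigma.desc 𝒰.f) :=
    IsZariskiLocalAtSource.sigmaDesc (P := @Flat) fun i ↦ (hmem.2 i).1
  have hlfp : LocallyOfFinitePresentation (Sigma.desc 𝒰.f) :=
    IsZariskiLocalAtSource.sigmaDesc (P := @LocallyOfFinitePresentation) fun i ↦ (hmem.2 i).2
  have hsurj : Surjective (Sigma.desc 𝒰.f) := ⟨fun t ↦ by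
    obtain ⟨i, y, rfl⟩ := hmem.1 t
    exact ⟨Sigma.ι 𝒰.X i y, by simp [← Scheme.Hom.comp_apply]⟩⟩
  obtain ⟨S', g, h, hg, hgf, hglfp, hgqf, hgs, haff⟩ := S2735.result (Sigma.desc 𝒰.f)
  haveI : IsAffine S' := haff inferInstance
  rw [Presieve.isSheafFor_iff_generate]
  refine Presieve.isSheafFor_trans F (Sieve.generate (Presieve.singleton g)) _
    ((Presieve.isSheafFor_iff_generate _).1 (hff _ _ g)) (fun Y y _ ↦ ?_) (fun Y y hy ↦ ?_)
  · rw [← Sieve.pullbackArrows_comm, ← Presieve.isSeparatedFor_iff_generate,
      Presieve.pullback_singleton]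
    exact isSeparatedFor_pullback F hzar hff g y
  · obtain ⟨W, a, g₀, ⟨⟩, rfl⟩ := hy
    rw [Sieve.pullback_comp]
    refine hzar _ (Scheme.zariskiTopology.pullback_stable a ?_)
    refine Scheme.zariskiTopology.superset_covering ?_
      (Precoverage.generate_mem_toGrothendieck ((sigmaOpenCover 𝒰.X).pullback₁ h).mem₀)
    rw [Sieve.generate_le_iff, Presieve.ofArrows_le_iff]
    intro i
    refine ⟨_, pullback.snd h (Sigma.ι 𝒰.X i), 𝒰.f i, ⟨i⟩, ?_⟩
    have hc := (pullback.condition (f := h) (g := Sigma.ι 𝒰.X i)).symm =≫ Sigma.desc 𝒰.f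
    rw [Category.assoc, Category.assoc, hg, Sigma.ι_desc] at hc
    exact hc

/-- A presheaf of sets on schemes is a sheaf for the fppf topology (the topology generated by jointly
surjective families of flat morphisms locally of finite presentation) if and only if it is a Zariski
sheaf and satisfies the sheaf condition for every single morphism of affine schemes `T ⟶ S` which is
flat, surjective, locally of finite presentation and locally quasi-finite. (Between affine schemes
such a morphism is faithfully flat, of finite presentation and quasi-finite; that these quasi-finite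
covers suffice rests on the existence of quasi-finite flat quasi-sections of flat surjective
morphisms locally of finite presentation.) -/
theorem result (F : Scheme.{u}ᵒᵖ ⥤ Type w) :
    Presheaf.IsSheaf Scheme.fppfTopology F ↔
      Presheaf.IsSheaf Scheme.zariskiTopology F ∧
        ∀ (T S : Scheme.{u}) [IsAffine T] [IsAffine S] (f : T ⟶ S)
          [Flat f] [Surjective f] [LocallyOfFinitePresentation f] [LocallyQuasiFinite f],
          Presieve.IsSheafFor F (Presieve.singleton f) := by
  rw [isSheaf_iff_isSheaf_of_type, isSheaf_iff_isSheaf_of_type]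
  refine ⟨fun hF ↦ ⟨Presieve.isSheaf_of_le _
    (Precoverage.toGrothendieck_mono Scheme.zariskiPrecoverage_le_fppfPrecoverage) hF,
    fun T S _ _ f _ _ _ _ ↦ ?_⟩, fun ⟨hzar, hff⟩ ↦ ?_⟩
  · rw [Presieve.isSheafFor_iff_generate]
    exact hF _ (Precoverage.generate_mem_toGrothendieck f.singleton_mem_fppfPrecoverage)
  · have : Precoverage.Small.{u} Scheme.fppfPrecoverage.{u} := inferInstanceAs
      (Precoverage.Small.{u} (Scheme.precoverage.{u} (@Flat ⊓ @LocallyOfFinitePresentation)))
    rw [Precoverage.isSheaf_toGrothendieck_iff_of_isStableUnderBaseChange_of_small.{u}]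
    intro T 𝒰
    refine T.affineOneHypercover.isSheafFor_of_pullback hzar ?_ ?_
    · intro i
      rw [← Sieve.pullbackArrows_comm, ← Presieve.ofArrows_pullback,
        ← Presieve.isSheafFor_iff_generate]
      exact isSheafFor_cover F hzar hff (𝒰.pullback₂ (T.affineCover.f i))
    · intro i j k
      rw [← Sieve.pullbackArrows_comm, ← Presieve.isSeparatedFor_iff_generate]
      apply Presieve.IsSheafFor.isSeparatedFor
      rw [← Presieve.ofArrows_pullback]
      haveI : IsAffine (T.affineOneHypercover.Y k) := inferInstanceAs (IsAffine (Spec _))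
      exact isSheafFor_cover F hzar hff (𝒰.pullback₂ _)

end Groth.Agent.S5238
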