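import Groth.Statements.S5243
import Mathlib
import Groth.Agent.H83.MultType.Lift

set_option autoImplicit false
universe u
open TensorProduct SGA3b
open SGA3b

namespace Groth.Agent.S5243

/-- Let G = Spec A be an R-group of multiplicative type, H = Spec C an affine R-group and u : G ⟶ H a
homomorphism of R-groups, given by the bialgebra map φ : C → A, which is a monomorphism: for every
R-algebra T the induced map on T-valued points G(T) → H(T) is injective. Then u is a closed
immersion, i.e. φ is surjective. (The published statement also asserts that the quotient of H by G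
exists and is affine over the base, and that H is a torsor over it; this row states only that u is a
closed immersion.) (Affine group schemes over an affine base are taken in Hopf-algebra form; base
change is the tensor product; a homomorphism of groups Spec A ⟶ Spec C is a bialgebra map C → A.) -/
theorem result (R : Type u) [CommRing R] (A : Type u) [CommRing A] [HopfAlgebra R A]
    (h : IsMultType R A) (C : Type u) [CommRing C] [HopfAlgebra R C] (φ : C →ₐc[R] A)
    (hmono : ∀ (T : Type u) [CommRing T] [Algebra R T],
      Function.Injective (fun x : A →ₐ[R] T => x.comp (φ : C →ₐ[R] A))) :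
    Function.Surjective φ := by
  classical
  obtain ⟨s, hs, ht⟩ := H83.MultType.exists_trivialisations h
  intro a
  suffices ha : a ∈ LinearMap.range (φ : C →ₗ[R] A) from ha
  rw [← Submodule.Quotient.mk_eq_zero]
  refine H83.MultType.eq_zero_of_forall_pow_smul hs fun f hf => ?_
  obtain ⟨S, _, _, P, _, _, ⟨e⟩, hdet⟩ := ht f hf
  refine hdet _ _ ?_
  let el : (S ⊗[R] A) →ₗ[S] MonoidAlgebra S P := (e : (S ⊗[R] A) →ₐc[S] MonoidAlgebra S P)
  let co : P → A →ₗ[R] S := fun p => (H83.MultType.coeffAt S p ∘ₗ el).restrictScalars R ∘ₗ TensorProduct.mk R S A 1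
  have hco : ∀ (p : P) (b : A), co p b = H83.MultType.coeffAt S p (e ((1 : S) ⊗ₜ[R] b)) := fun p b => rfl
  let φS : S ⊗[R] C →ₐ[S] MonoidAlgebra S P :=
    ((e : (S ⊗[R] A) →ₐc[S] MonoidAlgebra S P).toAlgHom).comp
      (Algebra.TensorProduct.map (AlgHom.id S S) (φ : C →ₐ[R] A))
  have hφS : ∀ (t : S) (c : C), φS (t ⊗ₜ[R] c) = e (t ⊗ₜ[R] φ c) := fun t c => rfl
  -- each coefficient gives an element of the image
  have hd : ∀ (q : P) (c : C), ∃ d : S ⊗[R] C, φS d = MonoidAlgebra.single q (co q (φ c)) := by
    intro q c
    refine ⟨TensorProduct.map (co q ∘ₗ (φ : C →ₗ[R] A)) LinearMap.id (CoalgebraStruct.comul (R := R) c), ?_⟩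
    let Ψ : A ⊗[R] A →ₗ[R] MonoidAlgebra S P :=
      TensorProduct.lift (LinearMap.mk₂ R (fun b b' => co q b • e ((1 : S) ⊗ₜ[R] b'))
        (fun b b₁ b' => by simp only [map_add, add_smul])
        (fun r b b' => by simp only [map_smul, smul_assoc])
        (fun b b' b₁ => by simp only [TensorProduct.tmul_add, map_add, smul_add])
        (fun r b b' => by
          rw [TensorProduct.tmul_smul, ← algebraMap_smul S r, map_smul, smul_comm, algebraMap_smul]))
    have h1 : φS (TensorProduct.map (co q ∘ₗ (φ : C →ₗ[R] A)) LinearMap.id (CoalgebraStruct.comul (R := R) c)) =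
        Ψ (CoalgebraStruct.comul (R := R) (φ c)) := by
      rw [← CoalgHomClass.map_comp_comul_apply φ c]
      generalize CoalgebraStruct.comul (R := R) c = z
      induction z using TensorProduct.induction_on with
      | zero => simp
      | add x y hx hy => simp only [map_add, hx, hy]
      | tmul x y =>
        show φS (co q (φ x) ⊗ₜ[R] y) = co q (φ x) • e ((1 : S) ⊗ₜ[R] φ y)
        rw [hφS, ← map_smul, TensorProduct.smul_tmul', smul_eq_mul, mul_one]
    rw [h1]
    generalize φ c = b
    apply (MonoidAlgebra.coeffLinearEquiv S).injective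
    ext r
    show H83.MultType.coeffAt S r (Ψ (CoalgebraStruct.comul (R := R) b)) =
      H83.MultType.coeffAt S r (MonoidAlgebra.single q (co q b))
    rw [H83.MultType.coeffAt_single]
    have h2 := H83.MultType.coeffAt_comul q r (e ((1 : S) ⊗ₜ[R] b))
    rw [← CoalgHomClass.map_comp_comul_apply e, TensorProduct.comul_tmul, Bialgebra.comul_one] at h2
    refine Eq.trans ?_ h2
    generalize CoalgebraStruct.comul (R := R) b = z
    induction z using TensorProduct.induction_on with
    | zero => simp
    | tmul x y => simp [Ψ, co, el, Algebra.TensorProduct.one_def]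
    | add x y hx hy => simp only [TensorProduct.tmul_add, map_add, hx, hy]
  -- compatibility with the antipodes
  have hanti : ∀ (q : P) (c : C), co q⁻¹ (φ (HopfAlgebraStruct.antipode R c)) = co q (φ c) := by
    let ι : C →ₗ[R] MonoidAlgebra S P := φS.toLinearMap.restrictScalars R ∘ₗ TensorProduct.mk R S C 1
    let ιS : C →ₗ[R] MonoidAlgebra S P := ι ∘ₗ HopfAlgebraStruct.antipode R
    let τ : C →ₗ[R] MonoidAlgebra S P := ((HopfAlgebraStruct.antipode S : MonoidAlgebra S P →ₗ[S] MonoidAlgebra S P)).restrictScalars R ∘ₗ ι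
    have hιc : ∀ c, CoalgebraStruct.counit (R := S) (ι c) = algebraMap R S (CoalgebraStruct.counit (R := R) c) := fun c => by
      show CoalgebraStruct.counit (R := S) (e ((1 : S) ⊗ₜ[R] φ c)) = _
      rw [CoalgHomClass.counit_comp_apply, TensorProduct.counit_tmul, CoalgHomClass.counit_comp_apply, Bialgebra.counit_one,
        Algebra.algebraMap_eq_smul_one]
    have hmul1 : WithConv.toConv ιS * WithConv.toConv ι = 1 := by
      apply WithConv.ofConv_injective
      ext1 c
      rw [LinearMap.convMul_apply, LinearMap.convOne_def]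
      show LinearMap.mul' R _ (TensorProduct.map ιS ι (CoalgebraStruct.comul (R := R) c)) = algebraMap R _ (CoalgebraStruct.counit (R := R) c)
      have key : LinearMap.mul' R _ (TensorProduct.map ιS ι (CoalgebraStruct.comul (R := R) c)) =
          ι (LinearMap.mul' R C ((HopfAlgebraStruct.antipode R).rTensor C (CoalgebraStruct.comul (R := R) c))) := by
        generalize CoalgebraStruct.comul (R := R) c = z
        induction z using TensorProduct.induction_on with
        | zero => simp
        | tmul x y =>
          show ι (HopfAlgebraStruct.antipode R x) * ι y = ι (HopfAlgebraStruct.antipode R x * y)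
          simp [ι, ← map_mul]
        | add x y hx hy => simp only [map_add, hx, hy]
      rw [key, HopfAlgebra.mul_antipode_rTensor_comul_apply]
      show φS ((1 : S) ⊗ₜ[R] algebraMap R C _) = _
      rw [Algebra.algebraMap_eq_smul_one (A := C), TensorProduct.tmul_smul, ← algebraMap_smul S (CoalgebraStruct.counit (R := R) c),
        map_smul, show φS ((1 : S) ⊗ₜ[R] (1 : C)) = 1 from map_one φS, ← Algebra.algebraMap_eq_smul_one, ← IsScalarTower.algebraMap_apply]
    have hmul2 : WithConv.toConv ι * WithConv.toConv τ = 1 := by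
      apply WithConv.ofConv_injective
      ext1 c
      rw [LinearMap.convMul_apply, LinearMap.convOne_def]
      show LinearMap.mul' R _ (TensorProduct.map ι τ (CoalgebraStruct.comul (R := R) c)) = algebraMap R _ (CoalgebraStruct.counit (R := R) c)
      rw [IsScalarTower.algebraMap_apply R S (MonoidAlgebra S P), ← hιc,
        ← HopfAlgebra.mul_antipode_lTensor_comul_apply (R := S) (ι c)]
      show _ = LinearMap.mul' S _ ((HopfAlgebraStruct.antipode S).lTensor _ (CoalgebraStruct.comul (R := S) (e ((1 : S) ⊗ₜ[R] φ c))))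
      rw [← CoalgHomClass.map_comp_comul_apply e, TensorProduct.comul_tmul, Bialgebra.comul_one, ← CoalgHomClass.map_comp_comul_apply φ c]
      generalize CoalgebraStruct.comul (R := R) c = z
      induction z using TensorProduct.induction_on with
      | zero => simp
      | tmul x y => simp [ι, τ, hφS, Algebra.TensorProduct.one_def]
      | add x y hx hy => simp only [TensorProduct.tmul_add, map_add, hx, hy]
    have hιτ : ιS = τ := congrArg WithConv.ofConv (left_inv_eq_right_inv hmul1 hmul2)
    intro q c
    show H83.MultType.coeffAt S q⁻¹ (ιS c) = H83.MultType.coeffAt S q (ι c)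
    rw [hιτ]
    show H83.MultType.coeffAt S q⁻¹ (HopfAlgebraStruct.antipode S (ι c)) = _
    generalize ι c = y
    induction y using MonoidAlgebra.induction_linear with
    | zero => simp
    | add x y hx hy => rw [map_add, map_add, map_add, hx, hy]
    | single g r =>
      rw [MonoidAlgebra.antipode_single, H83.MultType.coeffAt_single, H83.MultType.coeffAt_single]
      simp
  -- every coefficient ideal is the unit ideal
  have hE : ∀ p : P, Ideal.span (Set.range fun c : C => co p (φ c)) = ⊤ := by
    intro p
    by_contra hne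
    obtain ⟨𝔪, h𝔪, hle⟩ := Ideal.exists_le_maximal _ hne
    letI := Ideal.Quotient.field 𝔪
    have key : ∀ (q : P) (z : S ⊗[R] C), H83.MultType.coeffAt S q (φS z) ∉ 𝔪 → ∃ c, co q (φ c) ∉ 𝔪 := by
      intro q z hz
      by_contra hall
      push_neg at hall
      apply hz
      clear hz
      induction z using TensorProduct.induction_on with
      | zero => simp
      | add x y hx hy => rw [map_add, map_add]; exact add_mem hx hy
      | tmul t c =>
        rw [hφS, show t ⊗ₜ[R] φ c = t • ((1 : S) ⊗ₜ[R] φ c) by rw [TensorProduct.smul_tmul', smul_eq_mul, mul_one],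
          map_smul, map_smul, smul_eq_mul]
        exact Ideal.mul_mem_left _ _ (hall c)
    let H : Subgroup P :=
      { carrier := {q | ∃ c, co q (φ c) ∉ 𝔪}
        one_mem' := ⟨1, by
          rw [hco, map_one, show ((1 : S) ⊗ₜ[R] (1 : A)) = 1 from rfl, map_one, MonoidAlgebra.one_def,
            H83.MultType.coeffAt_single, if_pos rfl]
          exact fun h1 => h𝔪.ne_top ((Ideal.eq_top_iff_one _).mpr h1)⟩
        mul_mem' := by
          rintro q r ⟨c, hc⟩ ⟨c', hc'⟩
          obtain ⟨d, hd₁⟩ := hd q c
          obtain ⟨d', hd₂⟩ := hd r c'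
          refine key (q * r) (d * d') ?_
          rw [map_mul, hd₁, hd₂, MonoidAlgebra.single_mul_single, H83.MultType.coeffAt_single, if_pos rfl]
          exact fun hm => (h𝔪.isPrime.mem_or_mem hm).elim hc hc'
        inv_mem' := by
          rintro q ⟨c, hc⟩
          exact ⟨HopfAlgebraStruct.antipode R c, by rwa [hanti]⟩ }
    have hp : p ∉ H := fun ⟨c, hc⟩ => hc (hle (Ideal.subset_span ⟨c, rfl⟩))
    let T := MonoidAlgebra (S ⧸ 𝔪) (P ⧸ H)
    let χ₁ : MonoidAlgebra S P →ₐ[S] T := MonoidAlgebra.lift S T P ((MonoidAlgebra.of (S ⧸ 𝔪) (P ⧸ H)).comp (QuotientGroup.mk' H))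
    let χ₀ : MonoidAlgebra S P →ₐ[S] T := MonoidAlgebra.lift S T P 1
    let x₁ : A →ₐ[R] T := ((χ₁.comp (e : (S ⊗[R] A) →ₐc[S] MonoidAlgebra S P).toAlgHom).restrictScalars R).comp Algebra.TensorProduct.includeRight
    let x₀ : A →ₐ[R] T := ((χ₀.comp (e : (S ⊗[R] A) →ₐc[S] MonoidAlgebra S P).toAlgHom).restrictScalars R).comp Algebra.TensorProduct.includeRight
    have heq : x₁ = x₀ := hmono T (by
      apply AlgHom.ext
      intro c
      show χ₁ (e ((1 : S) ⊗ₜ[R] φ c)) = χ₀ (e ((1 : S) ⊗ₜ[R] φ c))
      have hall : ∀ q, H83.MultType.coeffAt S q (e ((1 : S) ⊗ₜ[R] φ c)) ∈ 𝔪 ∨ q ∈ H := fun q => by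
        by_cases hq : q ∈ H
        · exact Or.inr hq
        · exact Or.inl (by_contra fun h1 => hq ⟨c, h1⟩)
      generalize e ((1 : S) ⊗ₜ[R] φ c) = y at hall
      rw [← y.sum_coeff_single, Finsupp.sum, map_sum, map_sum]
      refine Finset.sum_congr rfl fun q _ => ?_
      simp only [χ₁, χ₀, MonoidAlgebra.lift_single]
      rcases hall q with h1 | h1
      · have h2 : algebraMap S T (y.coeff q) = 0 := by
          rw [IsScalarTower.algebraMap_apply S (S ⧸ 𝔪) T, show algebraMap S (S ⧸ 𝔪) (y.coeff q) = 0 from Ideal.Quotient.eq_zero_iff_mem.mpr h1, map_zero]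
        rw [Algebra.smul_def, Algebra.smul_def, h2, zero_mul, zero_mul]
      · have h2 : (QuotientGroup.mk q : P ⧸ H) = 1 := (QuotientGroup.eq_one_iff q).mpr h1
        simp [h2]
        exact congrArg (y.coeff q • ·) MonoidAlgebra.one_def.symm)
    have heq2 : ∀ z : S ⊗[R] A, χ₁ (e z) = χ₀ (e z) := by
      intro z
      induction z using TensorProduct.induction_on with
      | zero => simp
      | add x y hx hy => simp only [map_add, hx, hy]
      | tmul t b =>
        rw [show t ⊗ₜ[R] b = t • ((1 : S) ⊗ₜ[R] b) by rw [TensorProduct.smul_tmul', smul_eq_mul, mul_one],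
          map_smul, map_smul, map_smul]
        exact congrArg (t • ·) (AlgHom.congr_fun heq b)
    have h3 := heq2 (e.symm (MonoidAlgebra.single p 1))
    rw [show e (e.symm (MonoidAlgebra.single p 1)) = _ from e.apply_symm_apply _] at h3
    simp only [χ₁, χ₀, MonoidAlgebra.lift_single, one_smul, MonoidHom.comp_apply, MonoidHom.one_apply, MonoidAlgebra.one_def,
      MonoidAlgebra.of_apply] at h3
    exact hp ((QuotientGroup.eq_one_iff p).mp (MonoidAlgebra.single_left_injective one_ne_zero h3))
  -- surjectivity over `S`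
  have hsurj : ∀ y : MonoidAlgebra S P, y ∈ LinearMap.range φS.toLinearMap := by
    intro y
    induction y using MonoidAlgebra.induction_linear with
    | zero => exact zero_mem _
    | add x y hx hy => exact add_mem hx hy
    | single p r =>
      rw [show MonoidAlgebra.single p r = r • MonoidAlgebra.single p (1 : S) by rw [MonoidAlgebra.smul_single, smul_eq_mul, mul_one]]
      refine Submodule.smul_mem _ r ?_
      have h1 : (1 : S) ∈ Ideal.span (Set.range fun c : C => co p (φ c)) := hE p ▸ Submodule.mem_top
      suffices h2 : ∀ t ∈ Ideal.span (Set.range fun c : C => co p (φ c)), MonoidAlgebra.single p t ∈ LinearMap.range φS.toLinearMap from h2 1 h1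
      intro t ht'
      induction ht' using Submodule.span_induction with
      | zero => simp
      | add u v _ _ hu hv => rw [MonoidAlgebra.single_add]; exact add_mem hu hv
      | smul u v _ hv => rw [← MonoidAlgebra.smul_single]; exact Submodule.smul_mem _ u hv
      | mem t ht' =>
        obtain ⟨c, rfl⟩ := ht'
        obtain ⟨d, hd'⟩ := hd p c
        exact ⟨d, hd'⟩
  obtain ⟨z, hz⟩ := hsurj (e ((1 : S) ⊗ₜ[R] a))
  have hz' : Algebra.TensorProduct.map (AlgHom.id S S) (φ : C →ₐ[R] A) z = (1 : S) ⊗ₜ[R] a := EquivLike.injective e hz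
  show (LinearMap.range (φ : C →ₗ[R] A)).mkQ.baseChange S ((1 : S) ⊗ₜ[R] a) = 0
  rw [← hz']
  clear hz hz'
  induction z using TensorProduct.induction_on with
  | zero => simp
  | add x y hx hy => rw [map_add, map_add, hx, hy, add_zero]
  | tmul t c =>
    rw [Algebra.TensorProduct.map_tmul, LinearMap.baseChange_tmul, Submodule.mkQ_apply,
      show (Submodule.Quotient.mk ((φ : C →ₐ[R] A) c) : A ⧸ LinearMap.range (φ : C →ₗ[R] A)) = 0 from (Submodule.Quotient.mk_eq_zero _).mpr ⟨c, rfl⟩,
      TensorProduct.tmul_zero]

end Groth.Agent.S5243
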