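import Groth.Statements.S5244
import Mathlib
import Groth.Agent.H83.MultType.Quot

set_option autoImplicit false
universe u
open TensorProduct SGA3b
open SGA3b

namespace Groth.Agent.S5244

/-- Case of a group of multiplicative type, assertion on the subgroup; G is taken of finite type, the
case the printed proof treats in full before a limit argument: Let k be a field, G = Spec A a
k-group of multiplicative type and of finite type, and H = Spec (A/J) a closed subgroup scheme of G
(J a Hopf ideal). Then H is of multiplicative type. (Affine group schemes over an affine base are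
taken in Hopf-algebra form; base change is the tensor product; a homomorphism of groups Spec A ⟶
Spec C is a bialgebra map C → A.) -/
theorem result (k : Type u) [Field k] (A : Type u) [CommRing A] [HopfAlgebra k A]
    (hft : Algebra.FiniteType k A) (h : IsMultType k A) (J : Ideal A) [J.IsHopfIdeal k] :
    IsMultType k (A ⧸ J) := by
  classical
  obtain ⟨s, hs, ht⟩ := H83.MultType.exists_trivialisations h
  obtain ⟨f, hf, hf0⟩ : ∃ f ∈ s, f ≠ 0 := by
    by_contra hne
    push_neg at hne
    exact bot_ne_top (α := Ideal k) ((Ideal.span_eq_bot.mpr hne).symm.trans hs)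
  obtain ⟨S, _, _, P, _, _, ⟨e⟩, hdet⟩ := ht f hf
  have : Nontrivial S := by
    by_contra hS
    rw [not_nontrivial_iff_subsingleton] at hS
    haveI : Subsingleton (S ⊗[k] k) := (TensorProduct.rid k S).injective.subsingleton
    obtain ⟨n, hn⟩ := hdet k 1 (Subsingleton.elim _ _)
    exact hf0 (eq_zero_of_pow_eq_zero (by simpa using hn))
  obtain ⟨𝔪, h𝔪⟩ := Ideal.exists_maximal S
  letI := Ideal.Quotient.field 𝔪
  obtain ⟨π, hπ⟩ := H83.MultType.exists_baseChange_presentation e (S ⧸ 𝔪)
  let q : (S ⧸ 𝔪) ⊗[k] A →ₐc[S ⧸ 𝔪] (S ⧸ 𝔪) ⊗[k] (A ⧸ J) :=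
    Bialgebra.TensorProduct.map (BialgHom.id (S ⧸ 𝔪) (S ⧸ 𝔪)) (Bialgebra.Quotient.mkBialgHom (R := k) J)
  have hq : Function.Surjective q := by
    intro z
    induction z using TensorProduct.induction_on with
    | zero => exact ⟨0, map_zero _⟩
    | tmul t c =>
      obtain ⟨a, rfl⟩ := Ideal.Quotient.mk_surjective c
      exact ⟨t ⊗ₜ a, by simp [q]⟩
    | add a b ha hb =>
      obtain ⟨x, rfl⟩ := ha; obtain ⟨y, rfl⟩ := hb
      exact ⟨x + y, map_add q x y⟩
  obtain ⟨Q, _, -, -, he⟩ := H83.MultType.exists_quotient_group (q.comp π) (hq.comp hπ)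
  exact H83.MultType.isMultType_of_diag (S ⧸ 𝔪) ⟨Q, inferInstance, he⟩

end Groth.Agent.S5244
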