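import Groth.Statements.S5245
import Mathlib
import Groth.Agent.H83.MultType.Rigid

set_option autoImplicit false
universe u
open TensorProduct SGA3b
open SGA3b

namespace Groth.Agent.S5245

/-- Over a local base, where an open neighbourhood of the closed point is the whole base; affine target
group: Let R be a local ring with maximal ideal 𝔪, H = Spec A an R-group of multiplicative type and
of finite type, G = Spec C an affine R-group, with R Noetherian or C of finite presentation over R,
and u : H ⟶ G a homomorphism given by the bialgebra map φ : C → A. If the restriction of u to the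
closed fibre is the unit homomorphism (φ c − ε(c)·1 ∈ 𝔪A for every c), then u is the unit
homomorphism. (Affine group schemes over an affine base are taken in Hopf-algebra form; base change
is the tensor product; a homomorphism of groups Spec A ⟶ Spec C is a bialgebra map C → A.) -/
theorem result (R : Type u) [CommRing R] [IsLocalRing R]
    (A : Type u) [CommRing A] [HopfAlgebra R A] (hft : Algebra.FiniteType R A) (hH : IsMultType R A)
    (C : Type u) [CommRing C] [HopfAlgebra R C] (hC : IsNoetherianRing R ∨ Algebra.FinitePresentation R C)
    (φ : C →ₐc[R] A)
    (hs : ∀ c : C, φ c - algebraMap R A (Coalgebra.counit c) ∈ Ideal.map (algebraMap R A) (IsLocalRing.maximalIdeal R)) :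
    ∀ c : C, φ c = algebraMap R A (Coalgebra.counit c) := by
  classical
  let η : C →ₐc[R] A := BialgHom.ofAlgHom ((Algebra.ofId R A).comp (Bialgebra.counitAlgHom R C))
    (by ext c; simp)
    (AlgHom.ext fun c => by
      have h1 : TensorProduct.map (Algebra.linearMap R A ∘ₗ CoalgebraStruct.counit (R := R) (A := C))
          (Algebra.linearMap R A ∘ₗ CoalgebraStruct.counit (R := R) (A := C)) (CoalgebraStruct.comul (R := R) c) =
          CoalgebraStruct.comul (R := R) (algebraMap R A (CoalgebraStruct.counit (R := R) c)) := by
        rw [TensorProduct.map_comp, LinearMap.comp_apply,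
          show TensorProduct.map (CoalgebraStruct.counit (R := R) (A := C)) (CoalgebraStruct.counit (R := R) (A := C)) =
            TensorProduct.map LinearMap.id CoalgebraStruct.counit ∘ₗ TensorProduct.map CoalgebraStruct.counit LinearMap.id by
            rw [← TensorProduct.map_comp, LinearMap.id_comp, LinearMap.comp_id],
          LinearMap.comp_apply, ← LinearMap.rTensor_def, Coalgebra.rTensor_counit_comul]
        rw [TensorProduct.map_tmul, TensorProduct.map_tmul, LinearMap.id_apply, Algebra.linearMap_apply, Algebra.linearMap_apply, map_one, Bialgebra.comul_algebraMap]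
        exact (Algebra.TensorProduct.algebraMap_apply' _).symm
      exact h1)
  have hη : ∀ c, η c = algebraMap R A (Coalgebra.counit c) := fun c => rfl
  suffices hφ : φ = η by
    intro c; rw [hφ, hη]
  refine H83.MultType.eq_of_sub_mem hH φ η (fun S _ _ f => ?_) ?_ (fun c => hs c)
  · have hcentral : WithConv.toConv (f ∘ₗ (η : C →ₗ[R] A)) = algebraMap S (WithConv (C →ₗ[R] S)) (f 1) := by
      apply WithConv.ofConv_injective
      ext c
      simp [LinearMap.convAlgebraMap_apply, hη, Algebra.algebraMap_eq_smul_one, mul_comm]
    rw [hcentral]
    exact (Algebra.commutes _ _).symm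
  · rcases hC with hR | hfp
    · haveI : IsNoetherianRing A := Algebra.FiniteType.isNoetherianRing R A
      exact IsNoetherian.noetherian _
    · obtain ⟨T, hT⟩ := (inferInstance : Algebra.FiniteType R C).out
      refine ⟨T.image fun c => φ c - η c, le_antisymm (Ideal.span_mono ?_) (Ideal.span_le.mpr ?_)⟩
      · rintro _ hx
        obtain ⟨c, -, rfl⟩ := Finset.mem_image.mp hx
        exact ⟨c, rfl⟩
      · rintro _ ⟨c, rfl⟩
        have hc : c ∈ Algebra.adjoin R (T : Set C) := by rw [hT]; trivial
        induction hc using Algebra.adjoin_induction with
        | mem x hx => exact Ideal.subset_span (Finset.mem_image.mpr ⟨x, hx, rfl⟩)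
        | algebraMap r =>
          have e1 : φ (algebraMap R C r) = algebraMap R A r := AlgHomClass.commutes φ r
          have e2 : η (algebraMap R C r) = algebraMap R A r := AlgHomClass.commutes η r
          simp [e1, e2]
        | add a b _ _ ha hb =>
          simp only [SetLike.mem_coe] at ha hb ⊢
          rw [map_add, map_add, add_sub_add_comm]; exact add_mem ha hb
        | mul a b _ _ ha hb =>
          simp only [SetLike.mem_coe] at ha hb ⊢
          rw [map_mul, map_mul, show φ a * φ b - η a * η b = φ a * (φ b - η b) + (φ a - η a) * η b by ring]
          exact add_mem (Ideal.mul_mem_left _ _ hb) (Ideal.mul_mem_right _ _ ha)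

end Groth.Agent.S5245
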