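import Groth.Statements.S5252
import Mathlib
import Groth.Agent.S2969
import Groth.Agent.H83.MultType.Deform
import Groth.Agent.H83.MultType.EtaleLift

set_option autoImplicit false
universe u
open TensorProduct SGA3b
open SGA3b

namespace Groth.Agent.S5252

/-- Let A be an Artinian local ring with residue field k and H = Spec C an affine A-group with C flat
and of finite type over A, whose closed fibre Spec (k ⊗ C) is a k-group of multiplicative type. Then
H is of multiplicative type and isotrivial. (Affine group schemes over an affine base are taken in
Hopf-algebra form; base change is the tensor product; a homomorphism of groups Spec A ⟶ Spec C is a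
bialgebra map C → A.) -/
theorem result (A : Type u) [CommRing A] [IsArtinianRing A] [IsLocalRing A]
    (C : Type u) [CommRing C] [HopfAlgebra A C] [Module.Flat A C] (hft : Algebra.FiniteType A C)
    (h0 : IsMultType (IsLocalRing.ResidueField A) (IsLocalRing.ResidueField A ⊗[A] C)) :
    IsMultType A C ∧ IsIsotrivial A C := by
  haveI := hft
  let m := IsLocalRing.maximalIdeal A
  have hft' : Algebra.FiniteType (IsLocalRing.ResidueField A) (IsLocalRing.ResidueField A ⊗[A] C) := inferInstance
  obtain ⟨k', _, _, hfin, hsep, M, _, -, hM⟩ := Groth.Agent.S2969.result (IsLocalRing.ResidueField A) _ hft' h0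
  have het : Algebra.Etale (IsLocalRing.ResidueField A) k' := by
    haveI := hfin; haveI := hsep
    haveI : Algebra.FormallyEtale (IsLocalRing.ResidueField A) k' := Algebra.FormallyEtale.of_isSeparable _ _
    haveI : Algebra.FinitePresentation (IsLocalRing.ResidueField A) k' :=
      Algebra.FinitePresentation.of_finiteType.mp inferInstance
    exact ⟨inferInstance, inferInstance⟩
  have hiso : IsIsotrivial (IsLocalRing.ResidueField A) (IsLocalRing.ResidueField A ⊗[A] C) :=
    ⟨k', inferInstance, inferInstance, het, hfin, inferInstance, M, inferInstance, hM⟩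
  have hmn : IsNilpotent m := by
    have h0 : IsNilpotent (⊥ : Ideal A).jacobson := IsArtinianRing.isNilpotent_jacobson_bot
    rwa [IsLocalRing.jacobson_eq_maximalIdeal ⊥ bot_ne_top] at h0
  have h := H83.MultType.exists_isotrivial_lift (H83.MultType.nil_of_isNilpotent hmn) hiso fun L _ _ _ hd =>
    H83.MultType.isDiag_of_flat_mod_nilpotent (H83.MultType.isNilpotent_map hmn L) hd
  refine ⟨?_, h⟩
  obtain ⟨S, _, _, _, _, hff, hd⟩ := h
  exact @H83.MultType.isMultType_of_diag A _ C _ _ S _ _ hff hd

end Groth.Agent.S5252
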