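import Groth.Statements.S5254
import Mathlib
import Groth.Agent.H83.MultType.Finite

set_option autoImplicit false
universe u
open TensorProduct SGA3b
open SGA3b

namespace Groth.Agent.S5254

set_option maxHeartbeats 1600000 in
set_option synthInstance.maxHeartbeats 100000 in
/-- Over a local base, where an open neighbourhood of the closed point is the whole base: Let R be a
local ring with maximal ideal 𝔪, H = Spec A an R-group of multiplicative type and of finite type,
and K = Spec (A/J) a closed subgroup scheme of H (J a Hopf ideal) with A/J of finite presentation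
over R. If the closed fibre of K is the unit group, i.e. J + 𝔪A = Ker ε + 𝔪A with ε the counit, then
K is the unit group: J = Ker ε. (Affine group schemes over an affine base are taken in Hopf-algebra
form; base change is the tensor product; a homomorphism of groups Spec A ⟶ Spec C is a bialgebra map
C → A.) -/
theorem result (R : Type u) [CommRing R] [IsLocalRing R]
    (A : Type u) [CommRing A] [HopfAlgebra R A] (hft : Algebra.FiniteType R A) (hH : IsMultType R A)
    (J : Ideal A) [J.IsHopfIdeal R] (hK : Algebra.FinitePresentation R (A ⧸ J))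
    (hs : J ⊔ Ideal.map (algebraMap R A) (IsLocalRing.maximalIdeal R) =
      RingHom.ker (Bialgebra.counitAlgHom R A) ⊔ Ideal.map (algebraMap R A) (IsLocalRing.maximalIdeal R)) :
    J = RingHom.ker (Bialgebra.counitAlgHom R A) := by
  classical
  let L : Ideal A := RingHom.ker (Bialgebra.counitAlgHom R A)
  let 𝔪 := IsLocalRing.maximalIdeal R
  let q : A →ₐc[R] A ⧸ J := Bialgebra.Quotient.mkBialgHom (R := R) J
  have hmemL : ∀ a, a ∈ L ↔ CoalgebraStruct.counit (R := R) a = 0 := fun a => Iff.rfl
  have hJL : J ≤ L := fun a ha => by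
    rw [hmemL, ← CoalgHomClass.counit_comp_apply q a, show q a = 0 from Ideal.Quotient.eq_zero_iff_mem.mpr ha, map_zero]
  let P0 : A →ₗ[R] A := LinearMap.id - Algebra.linearMap R A ∘ₗ CoalgebraStruct.counit (R := R) (A := A)
  have hP0 : ∀ a, P0 a = a - algebraMap R A (CoalgebraStruct.counit (R := R) a) := fun a => rfl
  have hP0L : ∀ a, P0 a ∈ L := fun a => by simp [hmemL, hP0]
  -- the torsion kernels of `K` are trivial
  have hstep : ∀ n : ℕ, 0 < n → L ≤ J ⊔ torsionIdeal R A n := by
    intro n hn
    let I := J ⊔ torsionIdeal R A n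
    have hIL : I ≤ L := sup_le hJL (Ideal.map_le_iff_le_comap.mpr fun a ha => by
      rw [Ideal.mem_comap, hmemL, H83.MultType.counit_powConv]; exact ha)
    haveI := H83.MultType.finite_quotient hft hH n hn I le_sup_right
    let one : Submodule R (A ⧸ I) := Submodule.span R {1}
    have htop : (⊤ : Submodule R (A ⧸ I)) ≤ one ⊔ 𝔪 • (⊤ : Submodule R (A ⧸ I)) := by
      intro z _
      obtain ⟨x, rfl⟩ := Ideal.Quotient.mk_surjective z
      have hx : P0 x ∈ J ⊔ Ideal.map (algebraMap R A) 𝔪 := by
        rw [hs]; exact Submodule.mem_sup_left (hP0L x)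
      obtain ⟨j, hj, y, hy, hsum⟩ := Submodule.mem_sup.mp hx
      have hxeq : x = algebraMap R A (CoalgebraStruct.counit (R := R) x) + j + y := by
        rw [add_assoc, hsum, hP0, add_sub_cancel]
      rw [hxeq, map_add, map_add, Ideal.Quotient.eq_zero_iff_mem.mpr (Submodule.mem_sup_left hj : j ∈ I), add_zero]
      refine add_mem (Submodule.mem_sup_left ?_) (Submodule.mem_sup_right ?_)
      · exact Submodule.mem_span_singleton.mpr ⟨_, (Algebra.algebraMap_eq_smul_one (A := A ⧸ I) _).symm.trans rfl⟩
      · have hy' : y ∈ 𝔪 • (⊤ : Submodule R A) := by rw [Ideal.smul_top_eq_map]; exact hy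
        exact H83.MultType.map_mem_of_mem_smul (Ideal.Quotient.mkₐ R I).toLinearMap hy'
    have h1 : (⊤ : Submodule R (A ⧸ I)) ≤ one := Submodule.le_of_le_smul_of_le_jacobson_bot
      Module.Finite.fg_top (IsLocalRing.jacobson_eq_maximalIdeal ⊥ bot_ne_top).ge htop
    intro x hx
    obtain ⟨r, hr⟩ := Submodule.mem_span_singleton.mp (h1 (Submodule.mem_top : Ideal.Quotient.mk I x ∈ ⊤))
    have h2 : x - algebraMap R A r ∈ I := by
      rw [← Ideal.Quotient.eq, ← hr, Algebra.smul_def, mul_one]; rfl
    have hr0 : r = 0 := by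
      have h3 := hIL h2
      rw [hmemL, map_sub, Bialgebra.counit_algebraMap, (hmemL x).mp hx, zero_sub, neg_eq_zero] at h3
      exact h3
    rwa [hr0, map_zero, sub_zero] at h2
  -- the fibres of `K` are trivial
  obtain ⟨s, hs1, ht⟩ := H83.MultType.exists_trivialisations hH
  obtain ⟨f, hf, hfu⟩ : ∃ f ∈ s, IsUnit f := by
    by_contra hne
    push_neg at hne
    exact (IsLocalRing.maximalIdeal.isMaximal R).ne_top (top_le_iff.mp
      (hs1 ▸ Ideal.span_le.mpr fun f hf => (IsLocalRing.mem_maximalIdeal f).mpr (hne f hf)))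
  obtain ⟨S, _, _, P, _, _, ⟨e⟩, hdet0⟩ := ht f hf
  let P1 : (A ⧸ J) →ₗ[R] (A ⧸ J) := LinearMap.id - Algebra.linearMap R (A ⧸ J) ∘ₗ CoalgebraStruct.counit (R := R) (A := A ⧸ J)
  have hfib : ∀ (p : Ideal R) [p.IsPrime], ∀ c : A ⧸ J, CoalgebraStruct.counit (R := R) c = 0 →
      ∃ r ∉ p, r • c ∈ p • (LinearMap.range P1) := by
    intro p _ c hc
    let κ := p.ResidueField
    haveI : Nontrivial (S ⊗[R] κ) := by
      by_contra hS
      rw [not_nontrivial_iff_subsingleton] at hS
      obtain ⟨n, hn⟩ := hdet0 κ 1 (Subsingleton.elim _ _)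
      exact one_ne_zero ((hfu.pow n).smul_eq_zero.mp hn : (1 : κ) = 0)
    obtain ⟨𝔫, h𝔫⟩ := Ideal.exists_maximal (S ⊗[R] κ)
    letI := Ideal.Quotient.field 𝔫
    let K := (S ⊗[R] κ) ⧸ 𝔫
    letI : Algebra κ K := ((Ideal.Quotient.mk 𝔫).comp (Algebra.TensorProduct.includeRight : κ →ₐ[R] S ⊗[R] κ).toRingHom).toAlgebra
    haveI : IsScalarTower R κ K := IsScalarTower.of_algebraMap_eq fun r => by
      show algebraMap R K r = Ideal.Quotient.mk 𝔫 (Algebra.TensorProduct.includeRight (algebraMap R κ r))
      rw [AlgHom.commutes]; rfl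
    haveI : Nontrivial S := by
      by_contra hS
      rw [not_nontrivial_iff_subsingleton] at hS
      haveI : Subsingleton (S ⊗[R] κ) := by
        haveI := Module.subsingleton S (S ⊗[R] κ)
        infer_instance
      exact not_subsingleton (S ⊗[R] κ) inferInstance
    obtain ⟨π, hπ⟩ := H83.MultType.exists_baseChange_presentation e K
    let qK : K ⊗[R] A →ₐc[K] K ⊗[R] (A ⧸ J) := Bialgebra.TensorProduct.map (BialgHom.id K K) q
    have hqK : Function.Surjective qK := by
      intro z
      induction z using TensorProduct.induction_on with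
      | zero => exact ⟨0, map_zero _⟩
      | tmul t c =>
        obtain ⟨a, rfl⟩ := Ideal.Quotient.mk_surjective c
        exact ⟨t ⊗ₜ a, by simp [qK, q]⟩
      | add a b ha hb =>
        obtain ⟨x, rfl⟩ := ha; obtain ⟨y, rfl⟩ := hb
        exact ⟨x + y, map_add qK x y⟩
    obtain ⟨Q, _, g, hg, ⟨ψ⟩⟩ := H83.MultType.exists_quotient_group (qK.comp π) (hqK.comp hπ)
    haveI := H83.MultType.fg_of_finiteType hft e
    haveI : Group.FG Q := Group.fg_of_surjective hg
    let θ : K ⊗[R] A →ₐc[K] MonoidAlgebra K Q := (ψ : K ⊗[R] (A ⧸ J) →ₐc[K] MonoidAlgebra K Q).comp qK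
    have hdiv : ∀ n : ℕ, 0 < n → ∀ x : Q, ∃ y : Q, y ^ n = x := by
      intro n hn x
      let N : Subgroup Q := (powMonoidHom n : Q →* Q).range
      let μ : MonoidAlgebra K Q →ₐ[K] MonoidAlgebra K (Q ⧸ N) := MonoidAlgebra.mapDomainAlgHom K K (QuotientGroup.mk' N)
      let ξ : A →ₐ[R] MonoidAlgebra K (Q ⧸ N) :=
        ((μ.comp (θ : K ⊗[R] A →ₐ[K] MonoidAlgebra K Q)).restrictScalars R).comp Algebra.TensorProduct.includeRight
      have hξ : ∀ a, ξ a = μ (θ ((1 : K) ⊗ₜ[R] a)) := fun a => rfl
      have hkill : J ⊔ torsionIdeal R A n ≤ RingHom.ker ξ := by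
        refine sup_le (fun a ha => ?_) (Ideal.map_le_iff_le_comap.mpr fun b hb => ?_)
        · rw [RingHom.mem_ker, hξ]
          have : qK ((1 : K) ⊗ₜ[R] a) = 0 := by
            show (1 : K) ⊗ₜ[R] (Ideal.Quotient.mk J a) = 0
            rw [Ideal.Quotient.eq_zero_iff_mem.mpr ha, TensorProduct.tmul_zero]
          show μ (ψ (qK ((1 : K) ⊗ₜ[R] a))) = 0
          rw [this, map_zero, map_zero]
        · rw [Ideal.mem_comap, RingHom.mem_ker, hξ, H83.MultType.map_powConv θ n b]
          have hb0 : CoalgebraStruct.counit (R := K) (θ ((1 : K) ⊗ₜ[R] b)) = 0 := by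
            rw [CoalgHomClass.counit_comp_apply, TensorProduct.counit_tmul, show CoalgebraStruct.counit (R := R) b = 0 from hb, zero_smul]
          have key : ∀ y : MonoidAlgebra K Q, μ (MonoidAlgebra.mapDomainAlgHom K K (powMonoidHom n : Q →* Q) y) =
              algebraMap K _ (CoalgebraStruct.counit (R := K) y) := by
            intro y
            induction y using MonoidAlgebra.induction_linear with
            | zero => simp
            | add a b ha hb => simp only [map_add, ha, hb]
            | single p r =>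
              have h1 : (QuotientGroup.mk (p ^ n) : Q ⧸ N) = 1 := (QuotientGroup.eq_one_iff _).mpr ⟨p, rfl⟩
              simp [μ, h1]
          rw [key, hb0, map_zero]
      have hall : ∀ z : K ⊗[R] A, μ (θ z) = algebraMap K _ (CoalgebraStruct.counit (R := K) z) := by
        intro z
        induction z using TensorProduct.induction_on with
        | zero => simp
        | add a b ha hb => simp only [map_add, ha, hb]
        | tmul t a =>
          have h1 : ξ (P0 a) = 0 := hkill (hstep n hn (hP0L a))
          rw [hP0, map_sub, AlgHom.commutes, sub_eq_zero, hξ] at h1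
          rw [show t ⊗ₜ[R] a = t • ((1 : K) ⊗ₜ[R] a) by rw [TensorProduct.smul_tmul', smul_eq_mul, mul_one],
            map_smul, map_smul, h1, map_smul, TensorProduct.counit_tmul, Bialgebra.counit_one,
            ← Algebra.algebraMap_eq_smul_one, smul_eq_mul,
            map_mul, ← IsScalarTower.algebraMap_apply, Algebra.smul_def]
      obtain ⟨w, hw⟩ := (EquivLike.surjective ψ).comp hqK (MonoidAlgebra.single x 1)
      have h2 := hall w
      have hw' : θ w = MonoidAlgebra.single x 1 := hw
      rw [← CoalgHomClass.counit_comp_apply θ w, hw'] at h2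
      simp only [MonoidAlgebra.counit_single, μ, MonoidAlgebra.mapDomainAlgHom_apply, MonoidAlgebra.mapDomain_single,
        CommSemiring.counit_apply, map_one, MonoidAlgebra.one_def] at h2
      exact (QuotientGroup.eq_one_iff x).mp (MonoidAlgebra.single_left_injective one_ne_zero h2)
    have hQ : ∀ x : Q, x = 1 := by
      intro x
      have htor : ∀ y : Q, IsOfFinOrder y := by
        let M := Additive Q
        haveI : Module.Finite ℤ M := Module.Finite.iff_addGroup_fg.mpr inferInstance
        have hle : (⊤ : Submodule ℤ M) ≤ (Ideal.span {(2 : ℤ)}) • (⊤ : Submodule ℤ M) := by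
          intro y _
          obtain ⟨z, hz⟩ := hdiv 2 two_pos (Additive.toMul y)
          rw [show y = (2 : ℤ) • Additive.ofMul z by
            apply Additive.toMul.injective
            rw [toMul_zsmul, toMul_ofMul]
            exact hz.symm.trans (zpow_natCast z 2).symm]
          exact Submodule.smul_mem_smul (Ideal.mem_span_singleton_self _) Submodule.mem_top
        obtain ⟨r, hr1, hr2⟩ := Submodule.exists_sub_one_mem_and_smul_eq_zero_of_fg_of_le_smul _ ⊤ Module.Finite.fg_top hle
        intro y
        have hr0 : r ≠ 0 := by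
          rintro rfl
          rw [Ideal.mem_span_singleton] at hr1
          omega
        have h1 := hr2 (Additive.ofMul y) Submodule.mem_top
        refine isOfFinOrder_iff_zpow_eq_one.mpr ⟨r, hr0, ?_⟩
        exact h1
      haveI : Finite Q := CommGroup.finite_of_fg_torsion _ htor
      obtain ⟨y, hy⟩ := hdiv (Nat.card Q) Nat.card_pos x
      rw [← hy]; exact pow_card_eq_one'
    have h0 : (1 : K) ⊗ₜ[R] c = 0 := by
      apply EquivLike.injective ψ
      rw [map_zero]
      have h1 : CoalgebraStruct.counit (R := K) (ψ ((1 : K) ⊗ₜ[R] c)) = 0 := by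
        rw [CoalgHomClass.counit_comp_apply, TensorProduct.counit_tmul, hc, zero_smul]
      generalize ψ ((1 : K) ⊗ₜ[R] c) = y at h1
      have h2 : y = algebraMap K _ (CoalgebraStruct.counit (R := K) y) := by
        clear h1
        induction y using MonoidAlgebra.induction_linear with
        | zero => simp
        | add a b ha hb => rw [map_add, map_add, ← ha, ← hb]
        | single p r => rw [hQ p]; simp
      rw [h2, h1, map_zero]
    have h1 : (1 : K) ⊗ₜ[κ] ((1 : κ) ⊗ₜ[R] c) = 0 := by
      have := congrArg (TensorProduct.AlgebraTensorModule.cancelBaseChange R κ K K (A ⧸ J)).symm h0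
      simpa using this
    rw [Module.FaithfullyFlat.one_tmul_eq_zero_iff] at h1
    have h2 : (1 : κ) ⊗ₜ[R ⧸ p] ((1 : R ⧸ p) ⊗ₜ[R] c) = 0 := by
      have := congrArg (TensorProduct.AlgebraTensorModule.cancelBaseChange R (R ⧸ p) κ κ (A ⧸ J)).symm h1
      simpa using this
    obtain ⟨⟨r, hr⟩, hn⟩ := (IsLocalizedModule.eq_zero_iff (nonZeroDivisors (R ⧸ p))
      (TensorProduct.mk (R ⧸ p) κ ((R ⧸ p) ⊗[R] (A ⧸ J)) 1)).mp h2
    obtain ⟨r, rfl⟩ := Ideal.Quotient.mk_surjective r
    refine ⟨r, fun hrp => (mem_nonZeroDivisors_iff_ne_zero.mp hr) (Ideal.Quotient.eq_zero_iff_mem.mpr hrp), ?_⟩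
    have h3 : r • c ∈ p • (⊤ : Submodule R (A ⧸ J)) := by
      rw [← Submodule.Quotient.mk_eq_zero, ← (TensorProduct.quotTensorEquivQuotSMul (A ⧸ J) p).symm.map_eq_zero_iff,
        TensorProduct.quotTensorEquivQuotSMul_symm_mk, TensorProduct.tmul_smul]
      rw [← algebraMap_smul (R ⧸ p) r]
      exact hn
    have h4 : P1 (r • c) = r • c := by simp [P1, hc]
    rw [← h4]
    have h5 := Submodule.mem_map_of_mem (f := P1) h3
    rwa [Submodule.map_smul'', Submodule.map_top] at h5
  -- conclusion
  refine le_antisymm hJL fun a ha => Ideal.Quotient.eq_zero_iff_mem.mp ?_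
  have hLfg : L.FG := by
    obtain ⟨T, hT⟩ := hft.out
    refine ⟨T.image P0, le_antisymm (Ideal.span_le.mpr fun x hx => ?_) fun x hx => ?_⟩
    · obtain ⟨t, -, rfl⟩ := Finset.mem_image.mp hx
      exact hP0L t
    · suffices h1 : P0 x ∈ Ideal.span ((T.image P0 : Finset A) : Set A) by
        rwa [hP0, (hmemL x).mp hx, map_zero, sub_zero] at h1
      have hx' : x ∈ Algebra.adjoin R (T : Set A) := by rw [hT]; trivial
      clear hx
      induction hx' using Algebra.adjoin_induction with
      | mem y hy => exact Ideal.subset_span (Finset.mem_image.mpr ⟨y, hy, rfl⟩)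
      | algebraMap r => simp [hP0]
      | add y z _ _ hy hz => rw [map_add]; exact add_mem hy hz
      | mul y z _ _ hy hz =>
        rw [show P0 (y * z) = y * P0 z + P0 y * algebraMap R A (CoalgebraStruct.counit (R := R) z) by
          simp only [hP0, Bialgebra.counit_mul, map_mul]; ring]
        exact add_mem (Ideal.mul_mem_left _ _ hz) (Ideal.mul_mem_right _ _ hy)
  let L' : Ideal (A ⧸ J) := L.map (Ideal.Quotient.mk J)
  have hL' : ∀ x, x ∈ L' ↔ CoalgebraStruct.counit (R := R) x = 0 := by
    intro x
    obtain ⟨y, rfl⟩ := Ideal.Quotient.mk_surjective x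
    rw [Ideal.mem_quotient_iff_mem hJL, hmemL, ← CoalgHomClass.counit_comp_apply q y]
    rfl
  suffices h : ∀ x ∈ L', x = 0 from h _ (Ideal.mem_map_of_mem _ ha)
  intro x hx
  by_contra hx0
  obtain ⟨P', hP', hle⟩ := Ideal.exists_le_maximal (Submodule.annihilator (Submodule.span (A ⧸ J) {x})) (by
    intro h
    rw [Submodule.annihilator_eq_top_iff, Submodule.span_singleton_eq_bot] at h
    exact hx0 h)
  let p : Ideal R := P'.comap (algebraMap R (A ⧸ J))
  let Cp := Localization.AtPrime P'
  have hle2 : L'.map (algebraMap (A ⧸ J) Cp) ≤ IsLocalRing.maximalIdeal Cp • L'.map (algebraMap (A ⧸ J) Cp) := by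
    refine Ideal.map_le_iff_le_comap.mpr fun y hy => ?_
    obtain ⟨r, hr, hrc⟩ := hfib p y ((hL' y).mp hy)
    have hu : IsUnit (algebraMap (A ⧸ J) Cp (algebraMap R (A ⧸ J) r)) :=
      IsLocalization.map_units Cp (⟨algebraMap R (A ⧸ J) r, hr⟩ : P'.primeCompl)
    have key : algebraMap (A ⧸ J) Cp (r • y) ∈ IsLocalRing.maximalIdeal Cp • L'.map (algebraMap (A ⧸ J) Cp) := by
      clear hu hr hy
      generalize r • y = z at hrc
      induction hrc using Submodule.smul_induction_on' with
      | add u _ v _ hu hv => rw [map_add]; exact add_mem hu hv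
      | smul t ht' u hu =>
        rw [Algebra.smul_def, map_mul]
        refine Submodule.smul_mem_smul ?_ (Ideal.mem_map_of_mem _ ((hL' u).mpr ?_))
        · exact (IsLocalization.AtPrime.to_map_mem_maximal_iff Cp P' _).mpr ht'
        · obtain ⟨v, rfl⟩ := hu
          simp [P1]
    rw [Algebra.smul_def, map_mul] at key
    rw [Ideal.mem_comap]
    exact (Ideal.unit_mul_mem_iff_mem _ hu).mp key
  have hbot := Submodule.eq_bot_of_le_smul_of_le_jacobson_bot (IsLocalRing.maximalIdeal Cp) (L'.map (algebraMap (A ⧸ J) Cp))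
    (Ideal.FG.map (Ideal.FG.map hLfg (Ideal.Quotient.mk J)) (algebraMap (A ⧸ J) Cp)) hle2
    (IsLocalRing.jacobson_eq_maximalIdeal ⊥ bot_ne_top).ge
  have hx1 : algebraMap (A ⧸ J) Cp x = 0 := by
    rw [← Submodule.mem_bot (R := Cp), ← hbot]
    exact Ideal.mem_map_of_mem _ hx
  obtain ⟨⟨t, ht'⟩, htx⟩ := (IsLocalization.map_eq_zero_iff P'.primeCompl Cp x).mp hx1
  exact ht' (hle (Submodule.mem_annihilator_span_singleton _ _ |>.mpr htx))

end Groth.Agent.S5254
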