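import Groth.Statements.S5259
import Groth.Agent.Lib.SmWeil.MonoApps

set_option autoImplicit false
open CategoryTheory MonoidalCategory CartesianMonoidalCategory MonObj GrpObj AlgebraicGeometry
universe u
open SGA3x

namespace Groth.Agent.S5259

/-- Centralizer: Let G be an S-group locally of finite type and quasi-separated over S, H an S-group
which is smooth and of finite presentation over S with connected fibres, and i : H ⟶ G a
homomorphism which is a monomorphism. Then the centralizer of H in G is representable by a closed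
subgroup scheme of G whose immersion into G is of finite presentation. -/
theorem result {S : Scheme.{u}} (G H : Over S) [GrpObj G] [GrpObj H]
    [LocallyOfFiniteType G.hom] [QuasiSeparated G.hom] [Smooth H.hom] [QuasiCompact H.hom] [QuasiSeparated H.hom]
    (hconn : ∀ s : S, ConnectedSpace ↥(Limits.pullback H.hom (S.fromSpecResidueField s)))
    (i : H ⟶ G) [IsMonHom i] [Mono i] :
    ∃ (Z : Over S) (_ : GrpObj Z) (j : Z ⟶ G), Red.IsCentralizerOf i j ∧ IsClosedImmersion j.left ∧
      LocallyOfFinitePresentation j.left := by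
  haveI := Lib.SmWeil.geometricallyConnected_grp H hconn
  obtain ⟨C, c, hc, hfp, hC⟩ := Lib.SmWeil.exists_centralizer_mono i
  haveI : Mono c := Lib.GrpQ.mono_of_left c
  obtain ⟨hG, hcG⟩ := Lib.FreeRes.exists_grpObj_of_mono c
    (fun T => (hC 1).2 fun T' x h => by simp)
    (fun {T} a b => (hC _).2 fun T' x h => by
      have ha := (hC (a ≫ c)).1 ⟨a, rfl⟩ T' x h
      have hb := (hC (b ≫ c)).1 ⟨b, rfl⟩ T' x h
      rw [MonObj.comp_mul, _root_.mul_assoc, hb, ← _root_.mul_assoc, ha, _root_.mul_assoc])
    (fun {T} a => (hC _).2 fun T' x h => by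
      have ha := (hC (a ≫ c)).1 ⟨a, rfl⟩ T' x h
      rw [GrpObj.comp_inv, eq_mul_inv_iff_mul_eq, _root_.mul_assoc, ← ha, ← _root_.mul_assoc,
        inv_mul_cancel, _root_.one_mul])
  exact ⟨C, hG, c, ⟨hcG, inferInstance, fun _ g => hC g⟩, hc, hfp⟩

end Groth.Agent.S5259
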