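import Groth.Statements.S5260
import Groth.Agent.Lib.SmWeil.MonoApps

set_option autoImplicit false
open CategoryTheory MonoidalCategory CartesianMonoidalCategory MonObj GrpObj AlgebraicGeometry
universe u
open SGA3x

namespace Groth.Agent.S5260

/-- Normalizer: Let G be an S-group locally of finite type and quasi-separated over S, H an S-group
which is smooth and of finite presentation over S with connected fibres, and i : H ⟶ G a
homomorphism which is a monomorphism. Then the normalizer of H in G is representable by a closed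
subgroup scheme of G whose immersion into G is of finite presentation. -/
theorem result {S : Scheme.{u}} (G H : Over S) [GrpObj G] [GrpObj H]
    [LocallyOfFiniteType G.hom] [QuasiSeparated G.hom] [Smooth H.hom] [QuasiCompact H.hom] [QuasiSeparated H.hom]
    (hconn : ∀ s : S, ConnectedSpace ↥(Limits.pullback H.hom (S.fromSpecResidueField s)))
    (i : H ⟶ G) [IsMonHom i] [Mono i] :
    ∃ (N : Over S) (_ : GrpObj N) (j : N ⟶ G), Red.IsNormalizerOf i j ∧ IsClosedImmersion j.left ∧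
      LocallyOfFinitePresentation j.left := by
  haveI := Lib.SmWeil.geometricallyConnected_grp H hconn
  haveI := Lib.SmWeil.lfp_left i
  obtain ⟨C₁, c₁, hc₁, hfp₁, hC₁⟩ := Lib.SmWeil.exists_transporter_mono i i
  haveI : Mono c₁ := Lib.GrpQ.mono_of_left c₁
  obtain ⟨C, y, -, hyfp, hyc, hy⟩ := Lib.SmWeil.exists_preimage_mono (c₁⁻¹) c₁
  haveI := hyc hc₁
  haveI := hyfp hfp₁
  let c : C ⟶ G := y ≫ c₁
  have hclosed : IsClosedImmersion c.left := inferInstanceAs (IsClosedImmersion (y.left ≫ c₁.left))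
  have hfp : LocallyOfFinitePresentation c.left :=
    inferInstanceAs (LocallyOfFinitePresentation (y.left ≫ c₁.left))
  haveI : Mono c := Lib.GrpQ.mono_of_left c
  have hC : ∀ {T : Over S} (g : T ⟶ G), (∃ z, z ≫ c = g) ↔
      ∀ (T' : Over S) (x : T' ⟶ T) (h : T' ⟶ H),
        (∃ h' : T' ⟶ H, (x ≫ g) * (h ≫ i) * (x ≫ g)⁻¹ = h' ≫ i) ∧
        (∃ h' : T' ⟶ H, (x ≫ g)⁻¹ * (h ≫ i) * (x ≫ g) = h' ≫ i) := by
    intro T g
    have h1 := hC₁ g
    have h2 := hC₁ g⁻¹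
    simp only [GrpObj.comp_inv, _root_.inv_inv] at h2
    constructor
    · rintro ⟨z, rfl⟩ T' x h
      refine ⟨h1.1 ⟨z ≫ y, Category.assoc _ _ _⟩ T' x h, h2.1 ?_ T' x h⟩
      obtain ⟨κ, hκ⟩ := (hy (z ≫ y)).1 ⟨z, rfl⟩
      refine ⟨κ, ?_⟩
      rw [hκ, GrpObj.comp_inv]
      simp only [c, Category.assoc]
    · intro hg
      obtain ⟨w, hw⟩ := h1.2 fun T' x h => (hg T' x h).1
      obtain ⟨κ, hκ⟩ := h2.2 fun T' x h => (hg T' x h).2
      obtain ⟨z, hz⟩ := (hy w).2 ⟨κ, by rw [GrpObj.comp_inv, hw, hκ]⟩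
      exact ⟨z, by simp only [c, reassoc_of% hz, hw]⟩
  obtain ⟨hG, hcG⟩ := Lib.FreeRes.exists_grpObj_of_mono c
    (fun T => (hC 1).2 fun T' x h => ⟨⟨h, by simp⟩, ⟨h, by simp⟩⟩)
    (fun {T} a b => (hC _).2 fun T' x h => by
      obtain ⟨⟨h₁, e₁⟩, -⟩ := (hC (b ≫ c)).1 ⟨b, rfl⟩ T' x h
      obtain ⟨⟨h₂, e₂⟩, -⟩ := (hC (a ≫ c)).1 ⟨a, rfl⟩ T' x h₁
      obtain ⟨-, ⟨h₃, e₃⟩⟩ := (hC (a ≫ c)).1 ⟨a, rfl⟩ T' x h
      obtain ⟨-, ⟨h₄, e₄⟩⟩ := (hC (b ≫ c)).1 ⟨b, rfl⟩ T' x h₃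
      refine ⟨⟨h₂, ?_⟩, ⟨h₄, ?_⟩⟩
      · rw [← e₂, ← e₁, MonObj.comp_mul]; group
      · rw [← e₄, ← e₃, MonObj.comp_mul]; group)
    (fun {T} a => (hC _).2 fun T' x h => by
      obtain ⟨⟨h₁, e₁⟩, ⟨h₂, e₂⟩⟩ := (hC (a ≫ c)).1 ⟨a, rfl⟩ T' x h
      exact ⟨⟨h₂, by rw [← e₂, GrpObj.comp_inv, _root_.inv_inv]⟩, ⟨h₁, by rw [← e₁, GrpObj.comp_inv, _root_.inv_inv]⟩⟩)
  exact ⟨C, hG, c, ⟨hcG, inferInstance, fun _ g => hC g⟩, hclosed, hfp⟩

end Groth.Agent.S5260
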