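import Groth.Statements.S5263
import Groth.Agent.H87.SplitHom
import Groth.Agent.Lib.DescAlg.Descends
-- import your own Groth.Agent.* helpers here

set_option autoImplicit false
open CategoryTheory MonoidalCategory CartesianMonoidalCategory MonObj GrpObj AlgebraicGeometry
universe u
open SGA3x

namespace Groth.Agent.S5263

/-- Let G and H be S-groups of multiplicative type which are finite over S. Then the functor of group
homomorphisms from G to H is representable by an S-scheme which is finite and etale over S (with its
universal family of homomorphisms). -/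
theorem result {S : Scheme.{u}} (G H : Over S) [GrpObj G] [GrpObj H]
    (hG : SGA3x.IsMultTypeFT G) [IsFinite G.hom] (hH : SGA3x.IsMultTypeFT H) [IsFinite H.hom] :
    ∃ (A : Over S) (υ : G ⊗ A ⟶ H), AutFam.RepresentsHom G H A υ ∧ IsFinite A.hom ∧ Etale A.hom := by
  classical
  obtain ⟨S', f, hf, hs, hc, hloc⟩ := Groth.Agent.H87.Charts.exists_common_charts hG hH
  choose U hU M N iM iN hMfg hNfg eM eN using hloc
  let X : S' → Scheme.{u} := fun s => (U s : Scheme.{u})
  let g : ∀ s, X s ⟶ S := fun s => (U s).ι ≫ f
  have hcov : Presieve.ofArrows X g ∈ Scheme.fpqcPrecoverage S :=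
    Groth.Agent.H87.HomFam.mem_fpqc f hc U fun x => ⟨x, hU x⟩
  have hfin : ∀ s, Finite (N s →+ M s) := fun s => by
    have key : ∀ (P : Over S) [GrpObj P] [IsFinite P.hom] (L : Type) [AddCommGroup L],
        Nonempty (Grp.mk (Red.bc (g s) P) ≅ Grp.mk (Red.DS (X s) L)) → Finite L := by
      intro P _ _ L _ ⟨e⟩
      have hbc : IsFinite (Red.bc (g s) P).hom :=
        MorphismProperty.pullback_snd (P := @IsFinite) _ _ inferInstance
      let e' := Groth.Agent.Lib.Tori.BaseChange.overIso e
      have : IsFinite (Red.DS (X s) L).hom := by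
        rw [← Over.w e'.inv]
        have : IsIso e'.inv.left := inferInstanceAs (IsIso ((Over.forget _).map e'.inv))
        exact (MorphismProperty.cancel_left_of_respectsIso @IsFinite e'.inv.left _).2 hbc
      exact @Groth.Agent.H87.HomFam.finite_of_isFinite (X s) ⟨s, hU s⟩ L _ this
    have := key G (M s) (eM s)
    have := key H (N s) (eN s)
    exact @Finite.of_injective _ _ (@Pi.finite _ _ ‹Finite (N s)› (fun _ => ‹Finite (M s)›))
      (fun a : N s →+ M s => (a : N s → M s)) DFunLike.coe_injective
  have hV := fun s => @Groth.Agent.H87.HomFam.exists_reps_const (X s) (M s) (N s) _ _ (hNfg s)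
  choose V hV using hV
  let A : ∀ s, Over (X s) := fun s => TwC.const (X s) (N s →+ M s)
  have hA : ∀ s, IsFinite (A s).hom ∧ Etale (A s).hom := fun s =>
    have := hfin s
    ⟨Groth.Agent.H87.HomFam.isFinite_const _ _, Groth.Agent.H87.HomFam.etale_const _ _⟩
  obtain ⟨R, W, hR, hpc⟩ := Groth.Agent.H87.HomFam.exists_reps_of_indQA g hcov A _
    (fun s => Groth.Agent.H87.HomFam.repsOn_of_charts (g s) (A s) (eM s).some (eN s).some (V s) (hV s))
    (fun s => Groth.Agent.H54.IndQAff.of_isQuasiAffineHom (by
      have := (hA s).1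
      exact ⟨inferInstance, fun W hW => by
        have : IsAffine ((A s).hom ⁻¹ᵁ W : Scheme.{u}) := hW.preimage (A s).hom
        infer_instance⟩))
  exact ⟨R, W.toMor, Groth.Agent.H87.HomFam.representsHom R W hR,
    Groth.Agent.H87.HomFam.prop_of_pieces g hcov @IsFinite
      Groth.Agent.Lib.DescAlg.Descends.descends_isFinite R A hpc fun s => (hA s).1,
    Groth.Agent.H87.HomFam.prop_of_pieces g hcov @Etale inferInstance R A hpc fun s => (hA s).2⟩

end Groth.Agent.S5263
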