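import Groth.Statements.S5278
import Mathlib.AlgebraicGeometry.Morphisms.QuasiFinite
import Mathlib.Topology.Connected.Clopen
import Mathlib.AlgebraicGeometry.Morphisms.UniversallyOpen
import Mathlib.AlgebraicGeometry.Morphisms.Etale

set_option autoImplicit false
open CategoryTheory AlgebraicGeometry
universe u
open SGA3x

namespace Groth.Agent.S5278


/-- A clopen subset of the source of a closed and open map onto a connected space is empty or surjects. -/
theorem clopen_surj {α β : Type*} [TopologicalSpace α] [TopologicalSpace β] [PreconnectedSpace β]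
    (f : α → β) (ho : IsOpenMap f) (hc : IsClosedMap f) {U : Set α} (hU : IsClopen U) (hne : U.Nonempty)
    (y : β) : ∃ a ∈ U, f a = y := by
  have h : f '' U = Set.univ := IsClopen.eq_univ ⟨hc U hU.1, ho U hU.2⟩ (hne.image f)
  have hy : y ∈ f '' U := h ▸ Set.mem_univ y
  exact hy

theorem finite_isClopen {α β : Type*} [TopologicalSpace α] [TopologicalSpace β] [PreconnectedSpace β]
    (f : α → β) (ho : IsOpenMap f) (hc : IsClosedMap f) (y : β) (hF : (f ⁻¹' {y}).Finite) :
    {U : Set α | IsClopen U}.Finite := by
  refine Set.Finite.of_finite_image (f := fun U => U ∩ f ⁻¹' {y}) ?_ ?_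
  · exact hF.finite_subsets.subset (by rintro _ ⟨U, -, rfl⟩; exact Set.inter_subset_right)
  · intro U hU V hV h
    have key : ∀ A B : Set α, IsClopen A → IsClopen B → A ∩ f ⁻¹' {y} = B ∩ f ⁻¹' {y} → A ⊆ B := by
      intro A B hA hB hAB
      by_contra hne
      obtain ⟨a, ha, hay⟩ := clopen_surj f ho hc (hA.diff hB) (Set.sdiff_nonempty.mpr hne) y
      have : a ∈ B ∩ f ⁻¹' {y} := hAB ▸ (⟨ha.1, hay⟩ : a ∈ A ∩ f ⁻¹' {y})
      exact ha.2 this.1
    exact (key U V hU hV h).antisymm (key V U hV hU h.symm)


/-- Let X be a connected scheme, f : X' ⟶ X a finite etale morphism and x a point of X. Then every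
connected component of X' meets the fibre of f over x; equivalently the map from the connected
components of the fibre (or of the geometric fibre) to those of X' is surjective. -/
theorem result {X X' : Scheme.{u}} [ConnectedSpace X] (f : X' ⟶ X)
    [IsFinite f] [Etale f] (x : X) (c : X') :
    ∃ x' : X', f.base x' = x ∧ x' ∈ connectedComponent c := by
  have : UniversallyOpen f := inferInstance
  have ho : IsOpenMap f.base := Scheme.Hom.isOpenMap f
  have hc : IsClosedMap f.base := f.isClosedMap
  have hfin := finite_isClopen f.base ho hc x (f.finite_preimage_singleton x)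
  let W : Set X' := ⋂ U ∈ {U : Set X' | IsClopen U ∧ c ∈ U}, U
  have hfin' : {U : Set X' | IsClopen U ∧ c ∈ U}.Finite := hfin.subset fun U h => h.1
  have hW : IsClopen W := hfin'.isClopen_biInter fun U h => h.1
  have hcW : c ∈ W := Set.mem_iInter₂.mpr fun U h => h.2
  have hpre : _root_.IsPreconnected W := by
    rw [isPreconnected_iff_subset_of_disjoint]
    intro u v hu hv hcov hdis
    have hcl : ∀ u v : Set X', IsOpen u → IsOpen v → W ⊆ u ∪ v → W ∩ (u ∩ v) = ∅ → c ∈ u → W ⊆ u := by
      intro u v hu hv hcov hdis hc'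
      have hWu : IsClopen (W ∩ u) := by
        refine ⟨?_, hW.2.inter hu⟩
        have : W ∩ u = W \ v := by
          ext a
          have h1 : a ∈ W → a ∈ u ∪ v := fun h => hcov h
          have h2 : ¬ a ∈ W ∩ (u ∩ v) := by rw [hdis]; exact id
          simp only [Set.mem_inter_iff, Set.mem_sdiff, Set.mem_union] at *
          tauto
        rw [this]
        exact hW.1.sdiff hv
      intro a ha
      exact (Set.mem_iInter₂.mp ha (W ∩ u) ⟨hWu, hcW, hc'⟩).2
    rcases hcov hcW with hcu | hcv
    · exact Or.inl (hcl u v hu hv hcov hdis hcu)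
    · exact Or.inr (hcl v u hv hu (by rwa [Set.union_comm]) (by rwa [Set.inter_comm v u]) hcv)
  obtain ⟨a, ha, hax⟩ := clopen_surj f.base ho hc hW ⟨c, hcW⟩ x
  exact ⟨a, hax, hpre.subset_connectedComponent hcW ha⟩

end Groth.Agent.S5278
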