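import Groth.Statements.S5280
import Groth.Agent.H87.Rigid

set_option autoImplicit false
open CategoryTheory MonoidalCategory CartesianMonoidalCategory MonObj GrpObj AlgebraicGeometry
universe u
open SGA3x

namespace Groth.Agent.S5280

/-- Let i₀ : S₀ ⟶ S be a closed immersion whose ideal is locally nilpotent (nilpotent on each member of
an affine open cover of S; in particular S₀ and S have the same underlying space), u : G ⟶ H a
homomorphism of S-groups with G of multiplicative type (fpqc-locally on S isomorphic, as a group, to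
diagonalisable groups D(M), M allowed to vary and taken in Type 0) and H locally of finite
presentation over S. If the restriction u₀ of u to S₀ is central (u(g) commutes with h for all
points g of G and h of H defined over an S₀-scheme), then u is central. -/
theorem result {S S₀ : Scheme.{u}} (i₀ : S₀ ⟶ S) [IsClosedImmersion i₀]
    (hnil : ∀ x : S, ∃ U : S.affineOpens, x ∈ (U : S.Opens) ∧ IsNilpotent (i₀.ker.ideal U))
    (G H : Over S) [GrpObj G] [GrpObj H] (hG : TwC.Locally S TwC.Topology.fpqc (fun S' f => ∃ (M : Type) (_ : AddCommGroup M), Nonempty (Grp.mk (Red.bc f G) ≅ Grp.mk (Red.DS S' M))))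
    [LocallyOfFinitePresentation H.hom] (u : G ⟶ H) [IsMonHom u]
    (h0 : ∀ (Y : Over S) (p : Y ⟶ Over.mk i₀) (g : Y ⟶ G) (h : Y ⟶ H), (g ≫ u) * h = h * (g ≫ u)) :
    ∀ (Y : Over S) (g : Y ⟶ G) (h : Y ⟶ H), (g ≫ u) * h = h * (g ≫ u) := by
  let a : AlgGrp.Action G H :=
    { act := (fst G H ≫ u) * snd G H * (fst G H ≫ u)⁻¹
      one_act := by
        rw [comp_mul, comp_mul, comp_inv, whiskerRight_fst_assoc, whiskerRight_snd, IsMonHom.one_hom u,
          leftUnitor_hom]
        have h1 : fst (𝟙_ (Over S)) H ≫ η[H] = 1 := by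
          rw [Hom.one_def, toUnit_unique (fst (𝟙_ (Over S)) H) (toUnit _)]
        rw [h1, inv_one, _root_.mul_one, _root_.one_mul]
      mul_act := by
        simp only [comp_mul, comp_inv, whiskerLeft_fst_assoc, whiskerLeft_snd, associator_hom_fst_assoc,
          associator_hom_snd_fst_assoc, associator_hom_snd_snd, whiskerRight_fst_assoc, whiskerRight_snd,
          associator_hom_fst, associator_hom_snd_fst]
        have hμ : μ[G] ≫ u = (fst G G ≫ u) * (snd G G ≫ u) := by
          rw [IsMonHom.mul_hom u, Hom.mul_def]
          congr 1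
          
        rw [hμ, comp_mul]
        group }
  have key : ∀ (Y : Over S) (g : Y ⟶ G) (h : Y ⟶ H), lift g h ≫ a.act = (g ≫ u) * h * (g ≫ u)⁻¹ := by
    intro Y g h
    simp [a, comp_mul, comp_inv]
  intro Y g h
  have := Groth.Agent.H87.Rigid.act_trivial i₀ hnil G H hG a
    (fun Y p g h => by rw [key, h0 Y p g h, mul_inv_cancel_right]) Y g h
  rw [key] at this
  exact mul_inv_eq_iff_eq_mul.mp this

end Groth.Agent.S5280
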