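import Groth.Statements.S5281
import Groth.Agent.H87.MultLift

set_option autoImplicit false
open CategoryTheory MonoidalCategory CartesianMonoidalCategory MonObj GrpObj AlgebraicGeometry
universe u
open SGA3x

namespace Groth.Agent.S5281

/-- Let S = Spec R be affine, J a nilpotent ideal of R, S₀ = Spec (R/J), G an S-group which is smooth
over S, and j₀ : H₀ ⟶ G₀ = G ×_S S₀ a sub-group-scheme (a homomorphism which is an immersion) of
multiplicative type (H₀ fpqc-locally on S₀ isomorphic, as a group, to diagonalisable groups D(M), M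
allowed to vary and taken in Type 0). Then there is a subgroup scheme j : H ⟶ G (a homomorphism
which is an immersion), with H flat over S, whose base change to S₀ coincides with H₀ as a subgroup
of G₀: there is an isomorphism H ×_S S₀ ≅ H₀ over S₀ compatible with the two maps to G₀. -/
theorem result {R : Type u} [CommRing R] (J : Ideal R) (hJ : IsNilpotent J)
    (G : Over (Spec (CommRingCat.of R))) [GrpObj G] (hG : Smooth G.hom)
    (H₀ : Over (Spec (CommRingCat.of (R ⧸ J)))) [GrpObj H₀]
    (hH₀ : TwC.Locally (Spec (CommRingCat.of (R ⧸ J))) TwC.Topology.fpqc (fun S' f => ∃ (M : Type) (_ : AddCommGroup M), Nonempty (Grp.mk (Red.bc f H₀) ≅ Grp.mk (Red.DS S' M))))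
    (j₀ : H₀ ⟶ Red.bc (Spec.map (CommRingCat.ofHom (Ideal.Quotient.mk J))) G) [IsMonHom j₀] [IsImmersion j₀.left] :
    ∃ (H : Over (Spec (CommRingCat.of R))) (_ : GrpObj H) (j : H ⟶ G), IsMonHom j ∧ IsImmersion j.left ∧ Flat H.hom ∧
      ∃ φ : Red.bc (Spec.map (CommRingCat.ofHom (Ideal.Quotient.mk J))) H ≅ H₀, φ.hom ≫ j₀ = (Over.pullback (Spec.map (CommRingCat.ofHom (Ideal.Quotient.mk J)))).map j := by
  haveI := hG
  let π := Groth.Agent.H87.Bridge.mq J
  haveI : Smooth (Red.bc π G).hom := MorphismProperty.pullback_snd _ _ hG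
  have hlft : LocallyOfFiniteType H₀.hom := by
    rw [← Over.w j₀]
    infer_instance
  obtain ⟨H, _, hH, ⟨ε⟩⟩ := Groth.Agent.H87.Bridge.exists_lift hJ H₀ hH₀ hlft
  have hsplit : Groth.Agent.Lib.MultAvg.LocSplit H := by
    obtain ⟨S', f, h1, h2, h3, h4⟩ := hH
    exact ⟨S', f, h1, h2, h3, fun s' => by
      obtain ⟨U, hU, M, iM, -, he⟩ := h4 s'
      exact ⟨U, hU, M, iM, he⟩⟩
  let φ := Groth.Agent.Lib.Tori.BaseChange.overIso ε
  obtain ⟨j, hj, hjv⟩ := Groth.Agent.H87.Bridge.exists_hom_lift hJ hsplit (φ.hom ≫ j₀)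
  have : IsImmersion ((Over.pullback (Groth.Agent.H87.Bridge.mq J)).map j).left := by
    have : IsIso φ.hom.left := inferInstanceAs (IsIso ((Over.forget _).map φ.hom))
    rw [hjv, Over.comp_left]
    infer_instance
  exact ⟨H, inferInstance, j, hj, Groth.Agent.H87.Bridge.isImmersion_of_mod hJ j, Groth.Agent.H87.MT.flat hH, φ, hjv.symm⟩

end Groth.Agent.S5281
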