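import Groth.Statements.S5282
import Groth.Agent.H87.ExtGeneric
-- import your own Groth.Agent.* helpers here

set_option autoImplicit false
open CategoryTheory MonoidalCategory CartesianMonoidalCategory MonObj GrpObj AlgebraicGeometry
universe u
open SGA3x

namespace Groth.Agent.S5282

/-- Let S be a locally Noetherian, integral and normal scheme (all local rings integrally closed
domains) with generic point η, H an S-group smooth over S with connected fibres, T an S-group of
multiplicative type and of finite type, and u_η : H_η ⟶ T_η a homomorphism between the generic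
fibres. Then u_η extends to a homomorphism of S-groups u : H ⟶ T (whose base change to η is u_η). -/
theorem result {S : Scheme.{u}} [IsIntegral S] [IsLocallyNoetherian S]
    (hnorm : ∀ x : S, IsIntegrallyClosed (S.presheaf.stalk x))
    (H T : Over S) [GrpObj H] [GrpObj T] (hH : Smooth H.hom)
    (hconn : ∀ s : S, ConnectedSpace ↥(Limits.pullback H.hom (S.fromSpecResidueField s)))
    (hT : SGA3x.IsMultTypeFT T)
    (uη : Red.bc (S.fromSpecResidueField (genericPoint S)) H ⟶ Red.bc (S.fromSpecResidueField (genericPoint S)) T) [IsMonHom uη] :
    ∃ u : H ⟶ T, IsMonHom u ∧ (Over.pullback (S.fromSpecResidueField (genericPoint S))).map u = uη := by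
  haveI := hH
  have hk : Spec.map (S.residue (genericPoint S)) ≫ Groth.Agent.H87.ExtPoint.gen S =
      S.fromSpecResidueField (genericPoint S) := rfl
  haveI : IsIso (S.residue (genericPoint S)) :=
    (ConcreteCategory.isIso_iff_bijective _).2
      ⟨(letI : Field (S.presheaf.stalk (genericPoint S)) := inferInstanceAs (Field S.functionField)
        RingHom.injective (S.residue (genericPoint S)).hom), S.residue_surjective _⟩
  obtain ⟨u, hu, -⟩ := Groth.Agent.H87.ExtGeneric.existsUnique_of_bc (H := H) (T := T) hk uη
    (fun x => ⟨inferInstance, hnorm x⟩)
    (fun s => haveI := hconn s; Groth.Agent.H87.ExtGeneric.isConnected_fibre H s) hT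
  exact ⟨u, hu⟩

end Groth.Agent.S5282
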