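import Groth.Statements.S5283
import Groth.Agent.Lib.SmWeil.MonoApps

set_option autoImplicit false
open CategoryTheory MonoidalCategory CartesianMonoidalCategory MonObj GrpObj AlgebraicGeometry
universe u
open SGA3x

namespace Groth.Agent.S5283

/-- Let X be an S-group which is smooth and of finite presentation over S with connected fibres, Y an
S-group of finite presentation over S and i : Y ⟶ X a homomorphism which is a monomorphism. Then the
functor on S-schemes whose value at S' ⟶ S is a point when X ×_S S' ⟶ X factors through Y and empty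
otherwise is representable by a closed subscheme of S whose immersion is of finite presentation. -/
theorem result {S : Scheme.{u}} (X Y : Over S) [GrpObj X] [GrpObj Y]
    [Smooth X.hom] [QuasiCompact X.hom] [QuasiSeparated X.hom]
    (hconn : ∀ s : S, ConnectedSpace ↥(Limits.pullback X.hom (S.fromSpecResidueField s)))
    [LocallyOfFinitePresentation Y.hom] [QuasiCompact Y.hom] [QuasiSeparated Y.hom]
    (i : Y ⟶ X) [IsMonHom i] [Mono i] :
    ∃ (T : Scheme.{u}) (t : T ⟶ S), IsClosedImmersion t ∧ LocallyOfFinitePresentation t ∧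
      ∀ (S' : Scheme.{u}) (g : S' ⟶ S), (∃ g' : S' ⟶ T, g' ≫ t = g) ↔
        ∃ l : Limits.pullback X.hom g ⟶ Y.left, l ≫ i.left = Limits.pullback.fst X.hom g := by
  haveI := Lib.SmWeil.geometricallyConnected_grp X hconn
  haveI : LocallyOfFinitePresentation i.left := Lib.AlgSpMor.Cancel.locallyOfFinitePresentation_of_comp
    (g := X.hom) (by rw [Over.w]; infer_instance) inferInstance
  obtain ⟨Y', y, hym, hyfp, -, hy⟩ := Lib.SmWeil.exists_preimage_mono (snd (𝟙_ (Over S)) X) i
  haveI := hyfp inferInstance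
  obtain ⟨C, c, hc, hfp, hC⟩ := Lib.SmWeil.exists_closed_factor_mono y
    ((hy _).2 ⟨1, by rw [MonObj.one_comp, lift_snd]⟩)
    (fun g a b ha hb => by
      rw [hy, lift_snd] at ha hb ⊢
      obtain ⟨κ₁, h₁⟩ := ha
      obtain ⟨κ₂, h₂⟩ := hb
      exact ⟨κ₁ * κ₂, by rw [MonObj.mul_comp, h₁, h₂]⟩)
  refine ⟨C.left, c.left, hc, hfp, fun S' g => ?_⟩
  let gO : Over.mk g ⟶ 𝟙_ (Over S) := Over.homMk g (Category.comp_id g)
  have h := hC gO
  rw [hy, whiskerRight_snd] at h
  let e : Limits.pullback X.hom g ≅ (Over.mk g ⊗ X).left := Limits.pullbackSymmetry X.hom g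
  have he : e.hom ≫ (snd (Over.mk g) X).left = Limits.pullback.fst X.hom g :=
    Limits.pullbackSymmetry_hom_comp_snd _ _
  constructor
  · rintro ⟨g', hg'⟩
    obtain ⟨κ, hκ⟩ := h.1 ⟨Over.homMk g' (by rw [← Over.w c, reassoc_of% hg']; exact Over.w gO),
      Over.OverMorphism.ext hg'⟩
    exact ⟨e.hom ≫ κ.left, by rw [Category.assoc, ← Over.comp_left, hκ, he]⟩
  · rintro ⟨l, hl⟩
    have hl' : (e.inv ≫ l) ≫ i.left = (snd (Over.mk g) X).left := by
      rw [Category.assoc, hl, ← he, Iso.inv_hom_id_assoc]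
    obtain ⟨z, hz⟩ := h.2 ⟨Over.homMk (e.inv ≫ l)
      (by rw [← Over.w i, ← Category.assoc, hl']; exact Over.w (snd (Over.mk g) X)), Over.OverMorphism.ext hl'⟩
    exact ⟨z.left, congr($(hz).left)⟩

end Groth.Agent.S5283
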