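import Groth.Statements.S5284
import Groth.Agent.H87.FreeAct
-- import your own Groth.Agent.* helpers here

set_option autoImplicit false
open CategoryTheory MonoidalCategory CartesianMonoidalCategory MonObj GrpObj AlgebraicGeometry
universe u
open SGA3x

open CategoryTheory.Limits Groth.Agent.H87 Groth.Agent.Lib.Tori Groth.Agent.Lib.RedPts
namespace Groth.Agent.S5284

/-- Let G be an S-group of multiplicative type (fpqc-locally on S isomorphic, as a group, to
diagonalisable groups D(M), M allowed to vary and taken in Type 0) acting on an S-scheme X which is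
affine over S, the action being free (a point g of G fixing a point x of X is the unit). Then the
graph morphism G ×_S X ⟶ X ×_S X, (g, x) ↦ (g·x, x), is a closed immersion; and for every section σ
of X over S the orbit morphism G ⟶ X, g ↦ g·σ, is a closed immersion. -/
theorem result {S : Scheme.{u}} (G X : Over S) [GrpObj G]
    (hG : TwC.Locally S TwC.Topology.fpqc (fun S' f => ∃ (M : Type) (_ : AddCommGroup M), Nonempty (Grp.mk (Red.bc f G) ≅ Grp.mk (Red.DS S' M)))) (hX : IsAffineHom X.hom) (a : AlgGrp.Action G X)
    (hfree : ∀ (Y : Over S) (g : Y ⟶ G) (x : Y ⟶ X), lift g x ≫ a.act = x → g = 1) :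
    IsClosedImmersion (lift a.act (snd G X)).left ∧
      ∀ σ : 𝟙_ (Over S) ⟶ X, IsClosedImmersion (a.orbitMap σ).left := by
  have hΦ := FreeAct.graph_closed a hG hfree
  refine ⟨hΦ, fun σ => ?_⟩
  let Φ := lift a.act (snd G X)
  let s : G ⟶ G ⊗ X := lift (𝟙 G) (toUnit G ≫ σ)
  let j : X ⟶ X ⊗ X := lift (𝟙 X) (toUnit X ≫ σ)
  have he : a.orbitMap σ ≫ j = s ≫ Φ := by
    apply CartesianMonoidalCategory.hom_ext
    · simp [j, s, Φ, AlgGrp.Action.orbitMap]
    · simp only [j, s, Φ, Category.assoc, lift_snd]
      rw [← Category.assoc]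
      exact congrArg (· ≫ σ) (toUnit_unique _ _)
  have hsec : ∀ {Y : Over S} (q : Y ⟶ Y ⊗ X), q ≫ fst Y X = 𝟙 Y → IsClosedImmersion q.left := by
    intro Y q hq
    have : IsSeparated (fst Y X).left := by
      have : IsSeparated X.hom := inferInstance
      exact (inferInstanceAs (IsSeparated (pullback.fst Y.hom X.hom)))
    have : IsClosedImmersion (q.left ≫ (fst Y X).left) := by
      rw [← Over.comp_left, hq]
      exact inferInstanceAs (IsClosedImmersion (𝟙 Y.left))
    exact IsClosedImmersion.of_comp q.left (fst Y X).left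
  have : IsClosedImmersion s.left := hsec s (lift_fst _ _)
  have : IsClosedImmersion j.left := hsec j (lift_fst _ _)
  have : IsClosedImmersion Φ.left := hΦ
  have : IsClosedImmersion ((a.orbitMap σ).left ≫ j.left) := by
    rw [← Over.comp_left, he, Over.comp_left]
    infer_instance
  exact IsClosedImmersion.of_comp (a.orbitMap σ).left j.left

end Groth.Agent.S5284
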