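import Groth.Statements.S5289
import Groth.Agent.Lib.MultAvg.Hom

set_option autoImplicit false
open CategoryTheory MonoidalCategory CartesianMonoidalCategory MonObj GrpObj AlgebraicGeometry
universe u
open SGA3x

namespace Groth.Agent.S5289
/-- `Spec R₀` restricted to a test point, as an object over it. -/
theorem exists_match {R : Type u} [CommRing R] (J : Ideal R) {G H H' : Over (Spec (CommRingCat.of R))}
    (i : H ⟶ G) (i' : H' ⟶ G)
    (f : Red.bc (Spec.map (CommRingCat.ofHom (Ideal.Quotient.mk J))) H ⟶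
      Red.bc (Spec.map (CommRingCat.ofHom (Ideal.Quotient.mk J))) H')
    (hf : f ≫ (Over.pullback (Spec.map (CommRingCat.ofHom (Ideal.Quotient.mk J)))).map i' =
      (Over.pullback (Spec.map (CommRingCat.ofHom (Ideal.Quotient.mk J)))).map i)
    (Y : Over (Spec (CommRingCat.of R)))
    (q : Y ⟶ Groth.Agent.H87.HomDS.test (𝟙 (Spec (CommRingCat.of R)))
      (Groth.Agent.Lib.MultAvg.mkA (A := CommRingCat.of R) J)) (x : Y ⟶ H) :
    ∃ x' : Y ⟶ H', x' ≫ i' = x ≫ i := by
  have hq : q.left ≫ Spec.map (CommRingCat.ofHom (Ideal.Quotient.mk J)) = Y.hom :=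
    (congrArg (q.left ≫ ·) (Category.comp_id _).symm).trans (Over.w q)
  let π := Spec.map (CommRingCat.ofHom (Ideal.Quotient.mk J))
  let a : Y ⟶ (Over.map π).obj (Over.mk q.left) := Over.homMk (𝟙 Y.left) ((Category.id_comp _).trans hq)
  let b : (Over.map π).obj (Over.mk q.left) ⟶ Y := Over.homMk (𝟙 Y.left) ((Category.id_comp _).trans hq.symm)
  refine ⟨a ≫ Groth.Agent.Lib.RedPts.BC.down π (Groth.Agent.Lib.RedPts.BC.up π (b ≫ x) ≫ f), ?_⟩
  have hab : a ≫ b = 𝟙 Y := Over.OverMorphism.ext (Category.id_comp _)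
  rw [Category.assoc, ← Groth.Agent.Lib.RedPts.BC.down_map, Category.assoc, hf,
    Groth.Agent.Lib.RedPts.BC.down_map, Groth.Agent.Lib.RedPts.BC.down_up, Category.assoc,
    reassoc_of% hab]


/-- Let S = Spec R be affine, J an ideal of R with J² = 0 and S₀ = Spec (R/J); let G be an arbitrary
S-group and i : H ⟶ G, i' : H' ⟶ G two sub-group-schemes (homomorphisms which are immersions) of
multiplicative type (fpqc-locally on S isomorphic, as groups, to diagonalisable groups D(M), M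
allowed to vary and taken in Type 0), such that H ×_S S₀ and H' ×_S S₀ coincide as subgroups of G
×_S S₀. Then there is an S-point g of G whose restriction to S₀ is the unit and which conjugates H
onto H': int(g) ∘ i factors through i' by an isomorphism H ≅ H'. -/
theorem result {R : Type u} [CommRing R] (J : Ideal R) (hJ : J ^ 2 = ⊥)
    (G H H' : Over (Spec (CommRingCat.of R))) [GrpObj G] [GrpObj H] [GrpObj H']
    (hH : TwC.Locally (Spec (CommRingCat.of R)) TwC.Topology.fpqc (fun S' f => ∃ (M : Type) (_ : AddCommGroup M), Nonempty (Grp.mk (Red.bc f H) ≅ Grp.mk (Red.DS S' M))))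
    (hH' : TwC.Locally (Spec (CommRingCat.of R)) TwC.Topology.fpqc (fun S' f => ∃ (M : Type) (_ : AddCommGroup M), Nonempty (Grp.mk (Red.bc f H') ≅ Grp.mk (Red.DS S' M))))
    (i : H ⟶ G) [IsMonHom i] [IsImmersion i.left] (i' : H' ⟶ G) [IsMonHom i'] [IsImmersion i'.left]
    (h0 : ∃ ψ : Red.bc (Spec.map (CommRingCat.ofHom (Ideal.Quotient.mk J))) H ≅ Red.bc (Spec.map (CommRingCat.ofHom (Ideal.Quotient.mk J))) H',
      ψ.hom ≫ (Over.pullback (Spec.map (CommRingCat.ofHom (Ideal.Quotient.mk J)))).map i' = (Over.pullback (Spec.map (CommRingCat.ofHom (Ideal.Quotient.mk J)))).map i) :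
    ∃ g : 𝟙_ (Over (Spec (CommRingCat.of R))) ⟶ G, toUnit (Over.mk (Spec.map (CommRingCat.ofHom (Ideal.Quotient.mk J))) : Over (Spec (CommRingCat.of R))) ≫ g = 1 ∧ SGA3x.ConjBy i i' g := by
  have : Mono i := (Over.forget _).mono_of_mono_map (inferInstanceAs (Mono i.left))
  have : Mono i' := (Over.forget _).mono_of_mono_map (inferInstanceAs (Mono i'.left))
  obtain ⟨ψ, hψ⟩ := h0
  have hψ' : ψ.inv ≫ (Over.pullback (Spec.map (CommRingCat.ofHom (Ideal.Quotient.mk J)))).map i =
      (Over.pullback (Spec.map (CommRingCat.ofHom (Ideal.Quotient.mk J)))).map i' := by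
    rw [← hψ, Iso.inv_hom_id_assoc]
  obtain ⟨a, hma, hrel⟩ := Groth.Agent.Lib.MultAvg.exists_conj_iso (A := CommRingCat.of R) ⟨2, hJ⟩ hH hH' i i'
    (1 : Groth.Agent.H87.HomDS.test (𝟙 (Spec (CommRingCat.of R))) (Groth.Agent.Lib.MultAvg.mkA (A := CommRingCat.of R) J) ⟶ G)
    (fun Y q x => by
      obtain ⟨x', hx'⟩ := exists_match J i i' ψ.hom hψ Y q x
      exact ⟨x', by simp [hx']⟩)
    (fun Y q x => by
      obtain ⟨x', hx'⟩ := exists_match J i' i ψ.inv hψ' Y q x
      exact ⟨x', by simp [hx']⟩)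
  obtain ⟨g, hg, hrel'⟩ := Groth.Agent.Lib.MultAvg.exists_rel_of_lift (A := CommRingCat.of R) hH i (a.hom ≫ i')
    (𝟙 _) J hJ (1 : Groth.Agent.H87.HomDS.test (𝟙 (Spec (CommRingCat.of R))) (𝟙 (CommRingCat.of R)) ⟶ G)
    (by rw [MonObj.comp_one]; exact hrel)
  refine ⟨Groth.Agent.Lib.MultAvg.toPt ≫ g, ?_, a, ?_⟩
  · rw [← Category.assoc]
    refine (congrArg (· ≫ g) (Groth.Agent.Lib.MultAvg.toUnit_toPt (A := CommRingCat.of R) J)).trans ?_
    rw [Category.assoc, hg, MonObj.comp_one, MonObj.comp_one]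
  · have h := hrel'.global H (𝟙 H)
    rw [Category.id_comp, Category.id_comp] at h
    exact h.symm

end Groth.Agent.S5289
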