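import Groth.Statements.S5290
import Groth.Agent.H87.CentralEq
-- import your own Groth.Agent.* helpers here

set_option autoImplicit false
open CategoryTheory MonoidalCategory CartesianMonoidalCategory MonObj GrpObj AlgebraicGeometry
universe u
open SGA3x

open CategoryTheory.Limits Groth.Agent.H87 Groth.Agent.Lib.Tori Groth.Agent.Lib.RedPts
namespace Groth.Agent.S5290

/-- Let S = Spec R be affine, J a nilpotent ideal of R and S₀ = Spec (R/J); let G be an arbitrary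
S-group and i : H ⟶ G, i' : H' ⟶ G two sub-group-schemes (homomorphisms which are immersions) of
multiplicative type (fpqc-locally on S isomorphic, as groups, to diagonalisable groups D(M), M
allowed to vary and taken in Type 0), with H central in G (every point of G commutes with every
point of H). If H ×_S S₀ and H' ×_S S₀ coincide as subgroups of G ×_S S₀, then H = H' as subgroups
of G: there is an isomorphism H ≅ H' compatible with i and i'. -/
theorem result {R : Type u} [CommRing R] (J : Ideal R) (hJ : IsNilpotent J)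
    (G H H' : Over (Spec (CommRingCat.of R))) [GrpObj G] [GrpObj H] [GrpObj H']
    (hH : TwC.Locally (Spec (CommRingCat.of R)) TwC.Topology.fpqc (fun S' f => ∃ (M : Type) (_ : AddCommGroup M), Nonempty (Grp.mk (Red.bc f H) ≅ Grp.mk (Red.DS S' M))))
    (hH' : TwC.Locally (Spec (CommRingCat.of R)) TwC.Topology.fpqc (fun S' f => ∃ (M : Type) (_ : AddCommGroup M), Nonempty (Grp.mk (Red.bc f H') ≅ Grp.mk (Red.DS S' M))))
    (i : H ⟶ G) [IsMonHom i] [IsImmersion i.left] (i' : H' ⟶ G) [IsMonHom i'] [IsImmersion i'.left]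
    (hc : ∀ (X : Over (Spec (CommRingCat.of R))) (g : X ⟶ G) (h : X ⟶ H), g * (h ≫ i) = (h ≫ i) * g)
    (h0 : ∃ ψ : Red.bc (Spec.map (CommRingCat.ofHom (Ideal.Quotient.mk J))) H ≅ Red.bc (Spec.map (CommRingCat.ofHom (Ideal.Quotient.mk J))) H',
      ψ.hom ≫ (Over.pullback (Spec.map (CommRingCat.ofHom (Ideal.Quotient.mk J)))).map i' = (Over.pullback (Spec.map (CommRingCat.ofHom (Ideal.Quotient.mk J)))).map i) :
    ∃ φ : H ≅ H', φ.hom ≫ i' = i := by
  obtain ⟨S₁, f₁, hf₁, hs₁, hc₁, hl₁⟩ := hH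
  obtain ⟨S₂, f₂, hf₂, hs₂, hc₂, hl₂⟩ := hH'
  let a := pullback.fst f₁ f₂
  let b := pullback.snd f₁ f₂
  have hc' := Charts.isQCCover_comp (Basic.isQCCover_pullback_snd hc₂ f₁) hc₁
  have hloc : ∀ s' : (pullback f₁ f₂ : Scheme.{u}), ∃ U : (pullback f₁ f₂ : Scheme.{u}).Opens, s' ∈ U ∧
      ∃ (M N : Type) (_ : AddCommGroup M) (_ : AddCommGroup N),
        Nonempty (Grp.mk (Red.bc (U.ι ≫ a ≫ f₁) H) ≅ Grp.mk (Red.DS (U : Scheme.{u}) M)) ∧
        Nonempty (Grp.mk (Red.bc (U.ι ≫ a ≫ f₁) H') ≅ Grp.mk (Red.DS (U : Scheme.{u}) N)) := by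
    intro s'
    obtain ⟨U₁, hU₁, M, iM, ⟨e₁⟩⟩ := hl₁ (a s')
    obtain ⟨U₂, hU₂, N, iN, ⟨e₂⟩⟩ := hl₂ (b s')
    let U := a ⁻¹ᵁ U₁ ⊓ b ⁻¹ᵁ U₂
    let r₁ : (U : Scheme.{u}) ⟶ U₁ := (pullback f₁ f₂).homOfLE inf_le_left ≫ a ∣_ U₁
    let r₂ : (U : Scheme.{u}) ⟶ U₂ := (pullback f₁ f₂).homOfLE inf_le_right ≫ b ∣_ U₂
    refine ⟨U, ⟨hU₁, hU₂⟩, M, N, iM, iN,
      ⟨BaseChange.bcCongr ?_ H ≪≫ Charts.resChart e₁ r₁⟩, ⟨BaseChange.bcCongr ?_ H' ≪≫ Charts.resChart e₂ r₂⟩⟩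
    · simp [r₁, a, U]
    · simp [r₂, b, a, U, pullback.condition]
  obtain ⟨ψ, hψ⟩ := h0
  let π := Spec.map (CommRingCat.ofHom (Ideal.Quotient.mk J))
  have : Mono i := by
    have : Mono i.left := inferInstance
    exact Over.mono_of_mono_left i
  have : Mono i' := by
    have : Mono i'.left := inferInstance
    exact Over.mono_of_mono_left i'
  have key : ∀ {A B : Over (Spec (CommRingCat.of R))} (k : A ⟶ G) (k' : B ⟶ G) (θ : Red.bc π A ⟶ Red.bc π B),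
      θ ≫ (Over.pullback π).map k' = (Over.pullback π).map k →
      ∀ (Y : Over (Spec (CommRingCat.of R))) (_ : ∃ q : Y.left ⟶ Spec (CommRingCat.of (R ⧸ J)),
        q ≫ π = Y.hom ≫ 𝟙 _) (γ : Y ⟶ A), ∃ γ' : Y ⟶ B, γ' ≫ k' = γ ≫ k := by
    intro A B k k' θ hθ Y ⟨q, hq⟩ γ
    let ε : (Over.map π).obj (Over.mk q) ≅ Y :=
      Over.isoMk (Iso.refl _) (by
        show 𝟙 _ ≫ Y.hom = q ≫ π
        rw [hq, Category.id_comp, Category.comp_id])
    refine ⟨ε.inv ≫ BC.down π (BC.up π (ε.hom ≫ γ) ≫ θ), ?_⟩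
    rw [Category.assoc, ← BC.down_map, Category.assoc, hθ, BC.down_map, BC.down_up]
    simp
  obtain ⟨φ, hφ⟩ := CentralEq.fac_of_nilpotent i i' (𝟙 _) J hJ (a ≫ f₁) hc' hloc
    (fun X h h' => (hc X (h' ≫ i') h).symm) (key i i' ψ.hom hψ)
  obtain ⟨φ', hφ'⟩ := CentralEq.fac_of_nilpotent i' i (𝟙 _) J hJ (a ≫ f₁) hc'
    (fun s' => by obtain ⟨U, hU, M, N, iM, iN, h₁, h₂⟩ := hloc s'; exact ⟨U, hU, N, M, iN, iM, h₂, h₁⟩)
    (fun X h' h => hc X (h' ≫ i') h) (key i' i ψ.inv (by rw [← hψ, Iso.inv_hom_id_assoc]))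
  exact ⟨⟨φ, φ', (cancel_mono i).mp (by rw [Category.assoc, hφ', hφ, Category.id_comp]),
    (cancel_mono i').mp (by rw [Category.assoc, hφ, hφ', Category.id_comp])⟩, hφ⟩

end Groth.Agent.S5290
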