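import Groth.Statements.S5292
import Groth.Agent.H87.ConstDual
-- import your own Groth.Agent.* helpers here

set_option autoImplicit false
open CategoryTheory MonoidalCategory CartesianMonoidalCategory MonObj GrpObj AlgebraicGeometry
universe u
open SGA3x

open Groth.Agent.H87

namespace Groth.Agent.S5292

/-- Let R be a commutative twisted constant S-group (fpqc-locally on S isomorphic, as a group, to
constant groups M_{S'}, the groups M allowed to vary and taken in Type 0, like the character groups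
of the conclusion). Then the functor D_S(R) = Hom_{S-gr}(R, G_m) is representable: there is an
S-group D with a universal family of characters R ×_S D ⟶ G_{m,S}, multiplicative in the D-variable
as well (the group law of D is the pointwise product of characters), and D is of multiplicative type
(fpqc-locally on S isomorphic, as a group, to diagonalisable groups D(M), M allowed to vary and
taken in Type 0). -/
theorem result {S : Scheme.{u}} (R : Over S) [GrpObj R]
    (hR : TwC.Locally S TwC.Topology.fpqc (fun S' f => ∃ (M : Type) (_ : Group M) (e : Red.bc f R ≅ TwC.const S' M),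
      TwC.IsConstGrp M (Red.bc f R) e))
    (hcomm : ∀ (X : Over S) (a b : X ⟶ R), a * b = b * a) :
    ∃ (D : Over S) (_ : GrpObj D) (υ : R ⊗ D ⟶ Red.Gm S), AutFam.RepresentsHom R (Red.Gm S) D υ ∧
      (∀ (X : Over S) (r : X ⟶ R) (a b : X ⟶ D), lift r (a * b) ≫ υ = (lift r a ≫ υ) * (lift r b ≫ υ)) ∧
      TwC.Locally S TwC.Topology.fpqc (fun S' f => ∃ (M : Type) (_ : AddCommGroup M), Nonempty (Grp.mk (Red.bc f D) ≅ Grp.mk (Red.DS S' M))) := by
  classical
  obtain ⟨S', f, hf, hs, hc, hloc⟩ := hR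
  choose O hO M iM e he using hloc
  let X : S' → Scheme.{u} := fun s => (O s : Scheme.{u})
  let g : ∀ s, X s ⟶ S := fun s => (O s).ι ≫ f
  have hcov : Presieve.ofArrows X g ∈ Scheme.fpqcPrecoverage S :=
    HomFam.mem_fpqc f hc O fun x => ⟨x, hO x⟩
  let eG : ∀ s, Grp.mk (Red.bc (g s) (Red.Gm S)) ≅ Grp.mk (Red.DS (X s) ℤ) := fun s =>
    Groth.Agent.Lib.Tori.DS.dsBC ℤ (g s)
  let eR : ∀ s, Grp.mk (Red.bc (g s) R) ≅ Grp.mk (Red.bc (g s) R) := fun s => Iso.refl _
  choose V₀ hV₀ hV₀mul using fun s => ConstDual.exists_reps_dual (e s) (he s)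
  let A : ∀ s, Over (X s) := fun s => Red.DS (X s) (ConstDual.L (M s))
  let U := fun s => HomFam.Fam.ofU (g s) ((V₀ s).mapIso (eR s).symm (eG s).symm)
  have hU : ∀ s, HomFam.RepsOn (g s) (A s) (U s) := fun s =>
    HomFam.repsOn_of_charts (g s) _ (eR s) (eG s) (V₀ s) (hV₀ s)
  have hAff : ∀ s, MoreMor.IsIndQuasiAffineHom (A s).hom := fun s =>
    Groth.Agent.H54.IndQAff.of_isQuasiAffineHom (by
      have := Groth.Agent.Lib.Tori.DS.isAffineHom (X s) (ConstDual.L (M s))
      exact ⟨inferInstance, fun W hW => by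
        have : IsAffine ((A s).hom ⁻¹ᵁ W : Scheme.{u}) := hW.preimage (A s).hom
        infer_instance⟩)
  obtain ⟨D, V, hD, -⟩ := HomFam.exists_reps_of_indQA g hcov A U hU hAff
  obtain ⟨inst, hmul⟩ := HomFam.exists_grp (fun Y a b => Groth.Agent.H87.HomDS.gm_comm a b) D V hD
  refine ⟨D, inst, V.toMor, HomFam.representsHom D V hD,
    fun Y h a b => HomFam.toMor_mul D V hmul Y h a b,
    S', f, hf, hs, hc, fun s => ⟨O s, hO s, ConstDual.L (M s), inferInstance, ⟨?_⟩⟩⟩
  have hex := HomFam.exists_iso_of_repsOn (g s) D V hD (A s) (U s) (hU s)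
  let e' := hex.choose
  have hcompat := hex.choose_spec.choose_spec
  have key : ∀ {Y : Over (X s)} (c : Y ⟶ Red.bc (g s) D),
      (V₀ s).res (c ≫ e'.hom).left (Over.w (c ≫ e'.hom)) =
        (HomFam.Fam.toU (g s) (V.res (Groth.Agent.Lib.RedPts.BC.down (g s) c).left
          (Over.w (Groth.Agent.Lib.RedPts.BC.down (g s) c)))).mapIso (eR s) (eG s) := fun {Y} c => by
    have hcw : c.left ≫ Limits.pullback.snd D.hom (g s) = Y.hom := Over.w c
    have h1 := congrArg (fun F => HomFam.Fam.res (t' := Y.hom ≫ g s) F c.left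
      (by rw [← Category.assoc, hcw])) hcompat
    simp only [HomFam.Fam.res_res] at h1
    refine Eq.trans ?_ (congrArg (fun F => (HomFam.Fam.toU (g s) F).mapIso (eR s) (eG s)) h1).symm
    show _ = (HomFam.Fam.toU (g s) ((U s).res (c ≫ e'.hom).left _)).mapIso (eR s) (eG s)
    rw [HomFam.Fam.toU_res (g s) _ _ (Over.w (c ≫ e'.hom)), HomFam.Fam.toU_ofU, ← HomFam.Fam.mapIso_res]
    exact (HomFam.Fam.mapIso_symm (eR s).symm (eG s).symm _).symm
  have : IsMonHom e'.hom := Groth.Agent.H87.HomDS.isMonHom_of_points _ fun Y a b => by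
    refine Over.OverMorphism.ext ((hV₀ s _ _ _).unique ⟨Over.w ((a * b) ≫ e'.hom), rfl⟩
      ⟨Over.w ((a ≫ e'.hom) * (b ≫ e'.hom)), ?_⟩)
    refine HomFam.Fam.ext (funext fun Z => funext fun z => funext fun hz => funext fun h => ?_)
    rw [hV₀mul, key, key, key]
    show (Groth.Agent.Lib.RedPts.BC.up (g s) ((V.res _ _).app _ z _ _) ≫ _) *
      (Groth.Agent.Lib.RedPts.BC.up (g s) ((V.res _ _).app _ z _ _) ≫ _) =
      Groth.Agent.Lib.RedPts.BC.up (g s) ((V.res _ _).app _ z _ _) ≫ _
    refine Eq.trans (@MonObj.mul_comp _ _ _ _ _ _ _ _ _ _ _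
      (Groth.Agent.Lib.Tori.BaseChange.isMonHom_overIso (eG s))).symm (congrArg (· ≫ _) ?_)
    rw [← Groth.Agent.Lib.RedPts.BC.up_mul, ← hmul]
    simp only [Groth.Agent.Lib.RedPts.BC.down_mul]
  exact Groth.Agent.Lib.Tori.BaseChange.grpIso e'

end Groth.Agent.S5292
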