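import Groth.Statements.S5293
import Groth.Agent.H87.HomGrp
-- import your own Groth.Agent.* helpers here

set_option autoImplicit false
open CategoryTheory MonoidalCategory CartesianMonoidalCategory MonObj GrpObj AlgebraicGeometry
universe u
open SGA3x

open Groth.Agent.H87

namespace Groth.Agent.S5293

/-- Let H be a quasi-isotrivial S-group of multiplicative type (etale-locally on S isomorphic, as a
group, to diagonalisable groups D(M), M allowed to vary and taken in Type 0). Then the functor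
D_S(H) = Hom_{S-gr}(H, G_m) is representable: there is an S-group D with a universal family of
characters H ×_S D ⟶ G_{m,S}, multiplicative in the D-variable as well (the group law of D is the
pointwise product of characters), and D is a quasi-isotrivial twisted constant S-group
(etale-locally on S a constant group). -/
theorem result {S : Scheme.{u}} (H : Over S) [GrpObj H]
    (hH : TwC.Locally S TwC.Topology.etale (fun S' f => ∃ (M : Type) (_ : AddCommGroup M), Nonempty (Grp.mk (Red.bc f H) ≅ Grp.mk (Red.DS S' M)))) :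
    ∃ (D : Over S) (_ : GrpObj D) (υ : H ⊗ D ⟶ Red.Gm S), AutFam.RepresentsHom H (Red.Gm S) D υ ∧
      (∀ (X : Over S) (h : X ⟶ H) (a b : X ⟶ D), lift h (a * b) ≫ υ = (lift h a ≫ υ) * (lift h b ≫ υ)) ∧
      TwC.IsTwConstGrp TwC.Topology.etale D := by
  classical
  choose X g hge hgr M iM hM using hH
  have hcov : Presieve.ofArrows X g ∈ Scheme.fpqcPrecoverage S :=
    haveI : ∀ s, Etale (g s) := hge
    HomFam.mem_fpqc_of_etale g fun s => ⟨s, hgr s⟩
  let eH : ∀ s, Grp.mk (Red.bc (g s) H) ≅ Grp.mk (Red.DS (X s) (M s)) := fun s => (hM s).some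
  let eG : ∀ s, Grp.mk (Red.bc (g s) (Red.Gm S)) ≅ Grp.mk (Red.DS (X s) ℤ) := fun s =>
    Groth.Agent.Lib.Tori.DS.dsBC ℤ (g s)
  have hV := fun s => HomFam.exists_reps_const' (U := X s) (M := M s) (N := ℤ)
  choose V₀ hV₀ hV₀φ using hV
  let U := fun s => HomFam.Fam.ofU (g s) ((V₀ s).mapIso (eH s).symm (eG s).symm)
  have hU : ∀ s, HomFam.RepsOn (g s) (TwC.const (X s) (ℤ →+ M s)) (U s) := fun s =>
    HomFam.repsOn_of_charts (g s) _ (eH s) (eG s) (V₀ s) (hV₀ s)
  obtain ⟨R, V, hR, -⟩ := HomFam.exists_reps_of_indQA g hcov _ U hU fun s => HomFam.indQA_const _ _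
  obtain ⟨inst, hmul⟩ := HomFam.exists_grp
    (fun Y a b => Groth.Agent.H87.HomDS.gm_comm a b) R V hR
  refine ⟨R, inst, V.toMor, HomFam.representsHom R V hR, fun Y h a b => HomFam.toMor_mul R V hmul Y h a b,
    fun s => ⟨X s, g s, hge s, hgr s, ?_⟩⟩
  obtain ⟨e, hw, he⟩ := HomFam.exists_iso_of_repsOn (g s) R V hR _ (U s) (hU s)
  let E := e ≪≫ HomFam.constULift (X s) (ℤ →+ M s)
  refine ⟨Multiplicative (ULift.{u} (ℤ →+ M s)), inferInstance, E, fun m n => ?_⟩
  let K := fun φ : ℤ →+ M s => (HomFam.constFam φ (𝟙 (X s))).mapIso (eH s).symm (eG s).symm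
  let c := fun k : Multiplicative (ULift.{u} (ℤ →+ M s)) =>
    Groth.Agent.Lib.RedPts.BC.down (g s) (TwC.pt (X s) (Multiplicative (ULift.{u} (ℤ →+ M s))) k ≫ E.inv)
  have hc : ∀ k, V.res (c k).left (Over.w (c k)) = HomFam.Fam.ofU (g s) (K k.toAdd.down) := fun k => by
    let q := TwC.pt (X s) (Multiplicative (ULift.{u} (ℤ →+ M s))) k ≫ E.inv
    have hq : q.left ≫ e.hom.left = Limits.Sigma.ι (fun _ : ℤ →+ M s => X s) k.toAdd.down := by
      show ((TwC.pt _ _ k).left ≫ (HomFam.constULift _ _).inv.left ≫ e.inv.left) ≫ e.hom.left = _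
      rw [Category.assoc, Category.assoc, ← Over.comp_left, e.inv_hom_id, Over.id_left, Category.comp_id]
      exact (Limits.Sigma.ι_desc _ _).trans (Category.id_comp _)
    have hqw : q.left ≫ Limits.pullback.snd R.hom (g s) = 𝟙 (X s) := Over.w q
    have h1 := congrArg (fun F => HomFam.Fam.res (t' := 𝟙 (X s) ≫ g s) F q.left
      (by rw [← Category.assoc, hqw])) he
    simp only [HomFam.Fam.res_res] at h1
    refine (h1.trans (((U s).res_congr hq _).trans ?_))
    show (U s).res _ _ = _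
    rw [HomFam.Fam.ofU_res (g s) _ _ (Limits.Sigma.ι_desc _ _), ← HomFam.Fam.mapIso_res, hV₀φ s _ _]
  show (TwC.pt _ _ m ≫ E.inv) * (TwC.pt _ _ n ≫ E.inv) = TwC.pt _ _ (m * n) ≫ E.inv
  apply Groth.Agent.Lib.RedPts.BC.down_injective
  rw [Groth.Agent.Lib.RedPts.BC.down_mul]
  show c m * c n = c (m * n)
  refine Over.OverMorphism.ext ((hR _ _ _).unique ⟨Over.w (c m * c n), ?_⟩ ⟨Over.w (c (m * n)), rfl⟩)
  refine HomFam.Fam.ext (funext fun Y => funext fun y => funext fun hy => funext fun h => ?_)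
  rw [hmul, hc, hc, hc]
  let p : Y ⟶ (Over.map (g s)).obj (Over.mk (y ≫ 𝟙 (X s))) := Over.homMk (𝟙 Y.left) (by
    show 𝟙 Y.left ≫ (y ≫ 𝟙 (X s)) ≫ g s = Y.hom
    rw [Category.id_comp, Category.assoc]; exact hy)
  have hK : ∀ (φ ψ : ℤ →+ M s) (Z : Over (X s)) (z : Z.left ⟶ X s) (hz : z ≫ 𝟙 (X s) = Z.hom)
      (k : Z ⟶ Red.bc (g s) H), (K (φ + ψ)).app Z z hz k = (K φ).app Z z hz k * (K ψ).app Z z hz k := by
    intro φ ψ Z z hz k
    have := Groth.Agent.Lib.Tori.BaseChange.isMonHom_overIso (eG s).symm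
    show (_ ≫ Red.DSmap (X s) (φ + ψ)) ≫ _ = (_ ≫ Red.DSmap (X s) φ) ≫ _ * (_ ≫ Red.DSmap (X s) ψ) ≫ _
    refine Eq.trans (congrArg (· ≫ _) ?_)
      (@MonObj.mul_comp _ _ _ _ _ _ _ _ _ _ _ (Groth.Agent.Lib.Tori.BaseChange.isMonHom_overIso (eG s).symm))
    exact Groth.Agent.Lib.RedPts.Gm.dsFn_ext fun z' => by
      rw [Groth.Agent.Lib.RedPts.Gm.dsFn_mul, Groth.Agent.Lib.RedPts.Gm.dsFn_DSmap,
        Groth.Agent.Lib.RedPts.Gm.dsFn_DSmap, Groth.Agent.Lib.RedPts.Gm.dsFn_DSmap,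
        AddMonoidHom.add_apply, Groth.Agent.Lib.RedPts.Gm.dsFn_add]
  show p ≫ Groth.Agent.Lib.RedPts.BC.down (g s) ((K m.toAdd.down).app _ _ _ _) *
      (p ≫ Groth.Agent.Lib.RedPts.BC.down (g s) ((K n.toAdd.down).app _ _ _ _)) =
    p ≫ Groth.Agent.Lib.RedPts.BC.down (g s) ((K (m.toAdd.down + n.toAdd.down)).app _ _ _ _)
  rw [hK, Groth.Agent.Lib.RedPts.BC.down_mul, MonObj.comp_mul]

end Groth.Agent.S5293
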