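import Groth.Statements.S5297
import Groth.Agent.Lib.MultAvg.Hom
import Groth.Agent.Lib.MultAvg.HomSmooth

set_option autoImplicit false
open CategoryTheory MonoidalCategory CartesianMonoidalCategory MonObj GrpObj AlgebraicGeometry
universe u
open SGA3x

namespace Groth.Agent.S5297
open Groth.Agent.H87.HomDS Groth.Agent.Lib.MultAvg Groth.Agent.H87.HomFam in
/-- The twisted homomorphism lifts. -/
theorem exists_lift_twist {A : CommRingCat.{u}} {J : Ideal A} (hJ : IsNilpotent J)
    {G K H : Over (Spec A)} [GrpObj G] [GrpObj K] [GrpObj H] (k : K ⟶ G) [IsMonHom k] [Mono k]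
    (hK : Smooth K.hom ∨ LocSplit K) (hH : LocSplit H) (u : H ⟶ G) [IsMonHom u]
    (c : test (𝟙 (Spec A)) (mkA J) ⟶ G)
    (h0 : ∀ (Y : Over (Spec A)) (q : Y ⟶ test (𝟙 (Spec A)) (mkA J)) (x : Y ⟶ H),
      ∃ z : Y ⟶ K, (q ≫ c) * (x ≫ u) * (q ≫ c)⁻¹ = z ≫ k) :
    ∃ a : H ⟶ K, IsMonHom a ∧ Rel u (a ≫ k) c := by
  choose f hf using h0
  have hnat : ∀ {Y Y' : Over (Spec A)} (r : Y' ⟶ Y) (q : Y ⟶ test (𝟙 (Spec A)) (mkA J)) (x : Y ⟶ H),
      f Y' (r ≫ q) (r ≫ x) = r ≫ f Y q x := fun r q x => by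
    rw [← cancel_mono k, ← hf, Category.assoc r (f _ q x), ← hf, Category.assoc, Category.assoc,
      MonObj.comp_mul, MonObj.comp_mul, GrpObj.comp_inv]
  have hmul : ∀ {Y : Over (Spec A)} (q : Y ⟶ test (𝟙 (Spec A)) (mkA J)) (x x' : Y ⟶ H),
      f Y q (x * x') = f Y q x * f Y q x' := fun q x x' => by
    rw [← cancel_mono k, ← hf, MonObj.mul_comp _ _ k, ← hf, ← hf, MonObj.mul_comp _ _ u]
    group
  obtain ⟨a, hma, ha⟩ : ∃ a : H ⟶ K, IsMonHom a ∧
      ∀ (Y : Over (Spec A)) (q : Y ⟶ test (𝟙 (Spec A)) (mkA J)) (x : Y ⟶ H), x ≫ a = f Y q x := by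
    rcases hK with hK | hK
    · haveI := hK
      let F₀ : Fam H K (Spec.map (mkA J) ≫ 𝟙 (Spec A)) :=
        { app := fun Y y hy x => f Y (Over.homMk y hy) x
          natural := fun {Y Y'} r y hy y' hy' x e => by
            rw [← hnat]
            congr 1
            exact Over.OverMorphism.ext e.symm
          mul := fun Y y hy x x' => hmul _ x x' }
      obtain ⟨F, hF⟩ := exists_fam_lift hH (𝟙 (Spec A)) J hJ F₀
      let a : H ⟶ K := F.app H H.hom (Category.comp_id _) (𝟙 H)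
      have ha : ∀ (Y : Over (Spec A)) (x : Y ⟶ H), x ≫ a = F.app Y Y.hom (Category.comp_id _) x :=
        fun Y x => by
          refine (F.natural x H.hom (Category.comp_id _) Y.hom (Category.comp_id _) (𝟙 H) (Over.w x)).symm.trans ?_
          rw [Category.comp_id]
      refine ⟨a, isMonHom_of_points a fun X x x' => by rw [ha, ha, ha, F.mul], fun Y q x => ?_⟩
      have hq : q.left ≫ Spec.map (mkA J) ≫ 𝟙 _ = Y.hom := Over.w q
      rw [ha]
      refine Eq.trans (F.app_congr ?_ _ _ _) (congr(($hF).app Y q.left hq x))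
      exact hq.symm.trans (congrArg (q.left ≫ ·) (Category.comp_id _))
    · exact exists_hom_lift hJ hH hK ⟨f, hnat, hmul⟩
  exact ⟨a, hma, fun Y p x => by rw [← Category.assoc, ha Y p x, hf]⟩

/-- In the lifting form that formal smoothness of the transporter means. Let S = Spec R be affine, J a
nilpotent ideal of R and S₀ = Spec (R/J); let G be an S-group smooth over S, k : K ⟶ G a
sub-group-scheme (a homomorphism which is an immersion) with K smooth over S or of multiplicative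
type, H an S-group of multiplicative type (fpqc-locally on S isomorphic, as a group, to
diagonalisable groups D(M), M allowed to vary and taken in Type 0), u : H ⟶ G a homomorphism, and g₀
an S₀-valued point of G such that int(g₀) ∘ u takes the points of H defined over S₀-schemes into K.
Then g₀ lifts to an S-point g of G such that int(g) ∘ u factors through K on all points. -/
theorem result {R : Type u} [CommRing R] (J : Ideal R) (hJ : IsNilpotent J)
    (G K H : Over (Spec (CommRingCat.of R))) [GrpObj G] [GrpObj K] [GrpObj H] (hG : Smooth G.hom)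
    (k : K ⟶ G) [IsMonHom k] [IsImmersion k.left]
    (hK : Smooth K.hom ∨ TwC.Locally (Spec (CommRingCat.of R)) TwC.Topology.fpqc (fun S' f => ∃ (M : Type) (_ : AddCommGroup M), Nonempty (Grp.mk (Red.bc f K) ≅ Grp.mk (Red.DS S' M))))
    (hH : TwC.Locally (Spec (CommRingCat.of R)) TwC.Topology.fpqc (fun S' f => ∃ (M : Type) (_ : AddCommGroup M), Nonempty (Grp.mk (Red.bc f H) ≅ Grp.mk (Red.DS S' M))))
    (u : H ⟶ G) [IsMonHom u] (g₀ : (Over.mk (Spec.map (CommRingCat.ofHom (Ideal.Quotient.mk J))) : Over (Spec (CommRingCat.of R))) ⟶ G)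
    (h0 : ∀ (X : Over (Spec (CommRingCat.of R))) (p : X ⟶ (Over.mk (Spec.map (CommRingCat.ofHom (Ideal.Quotient.mk J))) : Over (Spec (CommRingCat.of R)))) (h : X ⟶ H),
      ∃ x : X ⟶ K, (p ≫ g₀) * (h ≫ u) * (p ≫ g₀)⁻¹ = x ≫ k) :
    ∃ g : 𝟙_ (Over (Spec (CommRingCat.of R))) ⟶ G, toUnit (Over.mk (Spec.map (CommRingCat.ofHom (Ideal.Quotient.mk J))) : Over (Spec (CommRingCat.of R))) ≫ g = g₀ ∧
      ∀ (X : Over (Spec (CommRingCat.of R))) (h : X ⟶ H), ∃ x : X ⟶ K, (toUnit X ≫ g) * (h ≫ u) * (toUnit X ≫ g)⁻¹ = x ≫ k := by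
  haveI := hG
  haveI : Mono k := (Over.forget _).mono_of_mono_map (inferInstanceAs (Mono k.left))
  obtain ⟨a, hma, hrel⟩ := exists_lift_twist (A := CommRingCat.of R) hJ k hK hH u
    (Groth.Agent.Lib.MultAvg.ofMod (A := CommRingCat.of R) J ≫ g₀) (fun Y q x => by
      rw [← Category.assoc]
      exact h0 Y (q ≫ Groth.Agent.Lib.MultAvg.ofMod (A := CommRingCat.of R) J) x)
  obtain ⟨g, hg, hrel'⟩ := Groth.Agent.Lib.MultAvg.exists_rel_lift (A := CommRingCat.of R) hH u (a ≫ k)
    (𝟙 _) J hJ _ hrel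
  refine ⟨Groth.Agent.Lib.MultAvg.toPt ≫ g, ?_, fun X h => ⟨h ≫ a, ?_⟩⟩
  · rw [← Category.assoc]
    refine (congrArg (· ≫ g) (Groth.Agent.Lib.MultAvg.toUnit_toPt (A := CommRingCat.of R) J)).trans ?_
    rw [Category.assoc, hg, ← Category.assoc, Groth.Agent.Lib.MultAvg.toMod_ofMod]
    exact Category.id_comp g₀
  · rw [Category.assoc]
    exact (hrel'.global X h).symm

end Groth.Agent.S5297
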