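import Groth.Statements.S5305
import Groth.Agent.S5257
import Groth.Agent.Lib.EtaleSection.Sections
import Groth.Agent.Lib.RedPts.BC
-- import your own Groth.Agent.* helpers here

set_option autoImplicit false
open CategoryTheory MonoidalCategory CartesianMonoidalCategory MonObj GrpObj AlgebraicGeometry
universe u
open SGA3x

namespace Groth.Agent.S5305

/-- (ii) ⇒ (i): Let H be an S-group of multiplicative type and of finite type, G an S-group smooth and
affine over S, and u₁, u₂ : H ⟶ G two homomorphisms. Suppose that for every s ∈ S, writing s̄ for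
the spectrum of an algebraic closure of κ(s), the homomorphisms u₁ and u₂ restricted to points over
s̄ are conjugate by a point of G with values in s̄. Then u₁ and u₂ are conjugate locally for the
etale topology: every point of S is in the image of an etale S' ⟶ S over which there is an S'-point
g of G ×_S S' with u₂ = int(g) ∘ u₁ on points. -/
theorem result {S : Scheme.{u}} (H G : Over S) [GrpObj H] [GrpObj G]
    (hH : SGA3x.IsMultTypeFT H) (hG : Smooth G.hom) (hGa : IsAffineHom G.hom) (u₁ u₂ : H ⟶ G) [IsMonHom u₁] [IsMonHom u₂]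
    (hgeom : ∀ s : S, ∃ g : Over.mk (Red.geomPt s) ⟶ G, ∀ (X : Over S) (p : X ⟶ Over.mk (Red.geomPt s)) (h : X ⟶ H),
      h ≫ u₂ = (p ≫ g) * (h ≫ u₁) * (p ≫ g)⁻¹) :
    TwC.Locally S TwC.Topology.etale (fun S' f => ∃ g : 𝟙_ (Over S') ⟶ Red.bc f G,
      ∀ (X : Over S') (h : X ⟶ Red.bc f H),
        h ≫ (Over.pullback f).map u₂ = (toUnit X ≫ g) * (h ≫ (Over.pullback f).map u₁) * (toUnit X ≫ g)⁻¹) := by
  obtain ⟨T, j, -, hs, hT⟩ := Groth.Agent.S5257.result H G hH hG hGa u₁ u₂
  have : Smooth T.hom := hs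
  have hmem : ∀ (X : Over S) (g : X ⟶ G), (∃ t : X ⟶ T, t ≫ j = g) →
      ∀ (X' : Over S) (x : X' ⟶ X) (h : X' ⟶ H),
        (x ≫ g) * (h ≫ u₁) * (x ≫ g)⁻¹ = h ≫ u₂ := fun X g => (hT X g).1
  have : Surjective T.hom := ⟨fun s => by
    obtain ⟨g, hg⟩ := hgeom s
    obtain ⟨t, -⟩ := (hT _ g).2 fun X' x h => (hg X' x h).symm
    let pt : (Spec (CommRingCat.of (AlgebraicClosure (S.residueField s))) : Scheme.{u}) :=
      IsLocalRing.closedPoint (AlgebraicClosure (S.residueField s))
    refine ⟨t.left pt, ?_⟩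
    rw [← Scheme.Hom.comp_apply, Over.w t]
    exact S.fromSpecResidueField_apply s _⟩
  obtain ⟨S', f, k, hf, hfs, hk⟩ :=
    Groth.Agent.Lib.EtaleSection.Sections.exists_etale_surjective_section T.hom
  intro s
  refine ⟨S', f, hf, f.surjective s, ?_⟩
  let t₀ : (Over.map f).obj (𝟙_ (Over S')) ⟶ T :=
    Over.homMk k (by rw [hk]; exact (Category.id_comp f).symm)
  refine ⟨Groth.Agent.Lib.RedPts.BC.up f (t₀ ≫ j), fun X h => ?_⟩
  apply Groth.Agent.Lib.RedPts.BC.down_injective
  rw [Groth.Agent.Lib.RedPts.BC.down_map, Groth.Agent.Lib.RedPts.BC.down_mul,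
    Groth.Agent.Lib.RedPts.BC.down_mul, Groth.Agent.Lib.RedPts.BC.down_inv,
    Groth.Agent.Lib.RedPts.BC.down_comp, Groth.Agent.Lib.RedPts.BC.down_up,
    Groth.Agent.Lib.RedPts.BC.down_map]
  exact (hmem _ _ ⟨t₀, rfl⟩ _ _ _).symm

end Groth.Agent.S5305
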