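import Groth.Statements.S5307
import Groth.Agent.H87.MultDescent

set_option autoImplicit false
open CategoryTheory MonoidalCategory CartesianMonoidalCategory MonObj GrpObj AlgebraicGeometry
universe u
open SGA3x

namespace Groth.Agent.S5307

/-- The case of an fpqc covering. Let G be an S-group separated and of finite presentation over S
(locally of finite presentation, quasi-compact, quasi-separated), π : S' ⟶ S a flat surjective
morphism which is an fpqc covering (every affine open of S is the image of a quasi-compact open of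
S') with geometrically connected fibres, and j' : H' ⟶ G ×_S S' a central sub-group-scheme (a
homomorphism which is an immersion, every point of G ×_S S' commuting with every point of H') of
multiplicative type and of finite type. Then there is a sub-group-scheme j : H ⟶ G of multiplicative
type and of finite type with H ×_S S' = H' as subgroups of G ×_S S' (an isomorphism compatible with
the inclusions), and any two such subgroups of G coincide (are isomorphic compatibly with their
inclusions). -/
theorem result {S S' : Scheme.{u}} (G : Over S) [GrpObj G]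
    [IsSeparated G.hom] [LocallyOfFinitePresentation G.hom] [QuasiCompact G.hom] [QuasiSeparated G.hom]
    (π : S' ⟶ S) [Flat π] [Surjective π]
    (hcov : ∀ V : S.Opens, IsAffineOpen V → ∃ W : S'.Opens, IsCompact (W : Set S') ∧ π.base '' (W : Set S') = (V : Set S))
    (hconn : ∀ s : S, ConnectedSpace ↥(Limits.pullback π (Red.geomPt s)))
    (H' : Over S') [GrpObj H'] (hH' : SGA3x.IsMultTypeFT H') (j' : H' ⟶ Red.bc π G) [IsMonHom j'] [IsImmersion j'.left]
    (hc : ∀ (X : Over S') (g : X ⟶ Red.bc π G) (h : X ⟶ H'), g * (h ≫ j') = (h ≫ j') * g) :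
    (∃ (H : Over S) (_ : GrpObj H) (j : H ⟶ G), IsMonHom j ∧ IsImmersion j.left ∧ SGA3x.IsMultTypeFT H ∧
      ∃ φ : Red.bc π H ≅ H', φ.hom ≫ j' = (Over.pullback π).map j) ∧
    (∀ (H₁ H₂ : Over S) [GrpObj H₁] [GrpObj H₂] (j₁ : H₁ ⟶ G) (j₂ : H₂ ⟶ G) [IsMonHom j₁] [IsMonHom j₂]
      [IsImmersion j₁.left] [IsImmersion j₂.left],
      (∃ φ₁ : Red.bc π H₁ ≅ H', φ₁.hom ≫ j' = (Over.pullback π).map j₁) →
      (∃ φ₂ : Red.bc π H₂ ≅ H', φ₂.hom ≫ j' = (Over.pullback π).map j₂) →
      ∃ ψ : H₁ ≅ H₂, ψ.hom ≫ j₂ = j₁) := by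
  haveI : Mono j' := by
    have : Mono j'.left := inferInstance
    exact Over.mono_of_mono_left j'
  haveI := Groth.Agent.H87.MT.isAffineHom hH'
  constructor
  · obtain ⟨H, gH, j, hj, hjm, ⟨φ, hφm, hφ⟩, -⟩ := Groth.Agent.H87.SubgroupDescent.exists_descent hcov j'
      (Groth.Agent.H87.MultDescent.invariant j' hconn hH' hc)
    exact ⟨H, gH, j, hj, Groth.Agent.H87.SubgroupDescent.isImmersion_of_bc hcov j' φ j hφ,
      Groth.Agent.H87.SubgroupDescent.isMultTypeFT_of_bc hcov φ hH', φ, hφ⟩
  · intro H₁ H₂ _ _ j₁ j₂ _ _ _ _ ⟨φ₁, h₁⟩ ⟨φ₂, h₂⟩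
    haveI : Mono j₁ := by
      have : Mono j₁.left := inferInstance
      exact Over.mono_of_mono_left j₁
    haveI : Mono j₂ := by
      have : Mono j₂.left := inferInstance
      exact Over.mono_of_mono_left j₂
    obtain ⟨r, hr⟩ := Groth.Agent.H87.MultDescent.exists_fac_of_bc hcov j₁ j₂ (φ₁.hom ≫ φ₂.inv)
      (by rw [← h₂, Category.assoc, Iso.inv_hom_id_assoc, h₁])
    obtain ⟨r', hr'⟩ := Groth.Agent.H87.MultDescent.exists_fac_of_bc hcov j₂ j₁ (φ₂.hom ≫ φ₁.inv)
      (by rw [← h₁, Category.assoc, Iso.inv_hom_id_assoc, h₂])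
    exact ⟨⟨r, r', by rw [← cancel_mono j₁, Category.assoc, hr', hr, Category.id_comp],
      by rw [← cancel_mono j₂, Category.assoc, hr, hr', Category.id_comp]⟩, hr⟩

end Groth.Agent.S5307
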