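import Groth.Statements.S5309
import Groth.Agent.Lib.SubEq.IsoImm
import Mathlib.AlgebraicGeometry.SpreadingOut
import Mathlib.RingTheory.Ideal.MinimalPrime.Basic

set_option autoImplicit false
open CategoryTheory MonoidalCategory CartesianMonoidalCategory MonObj GrpObj AlgebraicGeometry
universe u
open CategoryTheory.Limits
open SGA3x

namespace Groth.Agent.S5309

/-- Elements vanishing off the closed point and in a high infinitesimal neighbourhood vanish. -/
theorem exists_bound (O : Type u) [CommRing O] [IsNoetherianRing O] [IsLocalRing O] :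
    ∃ N : ℕ, ∀ r : O,
      (∀ (q : Ideal O) [q.IsPrime], q ≠ IsLocalRing.maximalIdeal O →
        algebraMap O (Localization.AtPrime q) r = 0) →
      r ∈ IsLocalRing.maximalIdeal O ^ N → r = 0 := by
  let m := IsLocalRing.maximalIdeal O
  let J : Ideal O :=
    { carrier := {r | ∀ (q : Ideal O) [q.IsPrime], q ≠ m → algebraMap O (Localization.AtPrime q) r = 0}
      add_mem' := fun ha hb q _ hq => by rw [map_add, ha q hq, hb q hq, add_zero]
      zero_mem' := fun q _ _ => map_zero _
      smul_mem' := fun a b hb q _ hq => by rw [smul_eq_mul, map_mul, hb q hq, mul_zero] }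
  obtain ⟨T, hT⟩ := IsNoetherian.noetherian J
  have hrad : m ≤ (Submodule.annihilator J).radical := by
    rw [Ideal.radical_eq_sInf]
    refine le_sInf fun q ⟨hle, hq⟩ => ?_
    haveI := hq
    by_contra hne
    have hqm : q ≠ m := fun h => hne h.ge
    have : ∀ z : T, ∃ b : q.primeCompl, (b : O) * z.1 = 0 := fun z =>
      (IsLocalization.map_eq_zero_iff q.primeCompl _ z.1).mp ((hT ▸ Submodule.subset_span z.2 : z.1 ∈ J) q hqm)
    choose b hb using this
    have hprod : (∏ z ∈ T.attach, (b z : O)) ∈ Submodule.annihilator J := by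
      rw [← hT, Submodule.mem_annihilator_span]
      intro z
      obtain ⟨d, hd⟩ := Finset.dvd_prod_of_mem (fun z => (b z : O)) (Finset.mem_attach T ⟨z.1, z.2⟩)
      rw [smul_eq_mul, hd, _root_.mul_comm (b _ : O), _root_.mul_assoc]
      exact (congrArg (d * ·) (hb ⟨z.1, z.2⟩)).trans (mul_zero d)
    obtain ⟨z, -, hz⟩ := hq.prod_mem_iff.mp (hle hprod)
    exact (b z).2 hz
  obtain ⟨c, hc⟩ := Ideal.exists_pow_le_of_le_radical_of_fg hrad (IsNoetherian.noetherian m)
  obtain ⟨k, hk⟩ := Ideal.exists_pow_inf_eq_pow_smul m J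
  refine ⟨k + c, fun r hr hrm => ?_⟩
  have h1 : r ∈ m ^ (k + c) • (⊤ : Submodule O O) ⊓ J := ⟨by simpa using hrm, fun q _ hq => hr q hq⟩
  rw [hk (k + c) (Nat.le_add_right k c), Nat.add_sub_cancel_left] at h1
  have h2 : m ^ c • (m ^ k • ⊤ ⊓ J : Submodule O O) ≤ Submodule.annihilator J • J :=
    Submodule.smul_mono hc inf_le_right
  simpa using h2 h1

variable {X : Scheme.{u}} {D : Type u} [Preorder D] {Xi : D → Scheme.{u}} (x : ∀ i, Xi i ⟶ X)

/-- The points near which `x i` is an isomorphism. -/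
def Good (i : D) (p : X) : Prop := ∃ V : X.Opens, p ∈ V ∧ ∃ σ : (V : Scheme.{u}) ⟶ Xi i, σ ≫ x i = V.ι

theorem isOpen_good (i : D) : IsOpen {p | Good x i p} :=
  isOpen_iff_forall_mem_open.mpr fun p ⟨V, hpV, hV⟩ =>
    ⟨V, fun q hq => ⟨V, hq, hV⟩, V.2, hpV⟩

theorem good_mono (hmono : ∀ i j, i ≤ j → ∃ t : Xi i ⟶ Xi j, t ≫ x j = x i) {i j : D} (hij : i ≤ j) {p : X}
    (h : Good x i p) : Good x j p := by
  obtain ⟨V, hpV, σ, hσ⟩ := h
  obtain ⟨t, ht⟩ := hmono i j hij
  exact ⟨V, hpV, σ ≫ t, by rw [Category.assoc, ht, hσ]⟩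

set_option backward.isDefEq.respectTransparency false in
theorem isIso_of_good (i : D) [Mono (x i)] (h : ∀ p, Good x i p) : IsIso (x i) := by
  choose V hV σ hσ using h
  let 𝒰 := X.openCoverOfIsOpenCover V (TopologicalSpace.IsOpenCover.mk
    (eq_top_iff.mpr fun y _ => TopologicalSpace.Opens.mem_iSup.mpr ⟨y, hV y⟩))
  let g : X ⟶ Xi i := 𝒰.glueMorphisms σ (fun a b => by
    rw [← cancel_mono (x i), Category.assoc, Category.assoc, hσ, hσ]
    exact pullback.condition)
  haveI : IsSplitEpi (x i) := ⟨⟨g, 𝒰.hom_ext _ _ fun a => by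
    rw [← Category.assoc]
    erw [𝒰.ι_glueMorphisms, hσ]
    exact (Category.comp_id _).symm⟩⟩
  exact isIso_of_mono_of_isSplitEpi _


/-- Let S be a Noetherian scheme, f : X ⟶ S quasi-finite (locally quasi-finite, of finite type), and
(X_i) an increasing filtered family of subschemes of X (immersions x_i : X_i ⟶ X indexed by a
directed preorder, x_i factoring through x_j for i ≤ j) such that for every s ∈ S and every n ≥ 0
there is an index i for which the base change of x_i to Spec (O_{S,s}/𝔪_s^(n+1)) is an isomorphism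
onto X ×_S Spec (O_{S,s}/𝔪_s^(n+1)). Then x_i is an isomorphism for some i. -/
theorem result {S X : Scheme.{u}} [IsNoetherian S] (f : X ⟶ S)
    [LocallyQuasiFinite f] [LocallyOfFiniteType f] [QuasiCompact f]
    {D : Type u} [Preorder D] [IsDirected D (fun a b => a ≤ b)] [Nonempty D]
    (Xi : D → Scheme.{u}) (x : ∀ i, Xi i ⟶ X) (hx : ∀ i, IsImmersion (x i))
    (hmono : ∀ i j, i ≤ j → ∃ t : Xi i ⟶ Xi j, t ≫ x j = x i)
    (h : ∀ (s : S) (n : ℕ), ∃ i : D,
      IsIso (pullback.snd (x i) (pullback.fst f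
        (Spec.map (CommRingCat.ofHom (Ideal.Quotient.mk (IsLocalRing.maximalIdeal (S.presheaf.stalk s) ^ (n + 1)))) ≫ S.fromSpecStalk s)))) :
    ∃ i : D, IsIso (x i) := by
  
  classical
  haveI : IsLocallyNoetherian X := LocallyOfFiniteType.isLocallyNoetherian f
  haveI : CompactSpace X := QuasiCompact.compactSpace_of_compactSpace f
  haveI : IsNoetherian X := { }
  haveI : ∀ i, Mono (x i) := fun i => by haveI := hx i; infer_instance
  let G : D → X.Opens := fun i => ⟨{p | Good x i p}, isOpen_good x i⟩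
  obtain ⟨_, ⟨i₀, rfl⟩, hmax⟩ := (wellFounded_gt (α := X.Opens)).has_min (Set.range G) ⟨_, Classical.arbitrary D, rfl⟩
  have hge : ∀ i p, Good x i p → Good x i₀ p := by
    intro i p hp
    obtain ⟨j, hj₀, hj⟩ := directed_of (α := D) (· ≤ ·) i₀ i
    have hle : G i₀ ≤ G j := fun q hq => good_mono x hmono hj₀ hq
    have : G j ≤ G i₀ := hle.eq_or_lt.elim (fun e => e.ge) fun hlt => absurd hlt (hmax (G j) ⟨j, rfl⟩)
    exact this (good_mono x hmono hj hp)
  refine ⟨i₀, isIso_of_good x i₀ fun p => ?_⟩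
  by_contra hp
  -- a bad point all of whose proper generizations are good
  obtain ⟨q, hq, hgen⟩ : ∃ q : X, ¬ Good x i₀ q ∧ ∀ y, y ⤳ q → y ≠ q → Good x i₀ y := by
    let O := X.presheaf.stalk p
    let T : Set (PrimeSpectrum O) := {a | ¬ Good x i₀ (X.fromSpecStalk p a)}
    have hTc : IsClosed T :=
      ((isOpen_good x i₀).preimage (X.fromSpecStalk p).continuous).isClosed_compl
    obtain ⟨I, hI⟩ := (PrimeSpectrum.isClosed_iff_zeroLocus_ideal T).mp hTc
    have hmT : IsLocalRing.closedPoint O ∈ T := by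
      show ¬ Good x i₀ _
      rw [Scheme.fromSpecStalk_closedPoint]
      exact hp
    rw [hI] at hmT
    haveI := (IsLocalRing.closedPoint O).2
    obtain ⟨a, ha, -⟩ := Ideal.exists_minimalPrimes_le (I := I) (J := (IsLocalRing.closedPoint O).asIdeal) hmT
    let A : PrimeSpectrum O := ⟨a, ha.1.1⟩
    have hA : A ∈ T := hI ▸ ha.1.2
    refine ⟨X.fromSpecStalk p A, hA, fun y hy hne => ?_⟩
    obtain ⟨b, rfl⟩ : y ∈ Set.range (X.fromSpecStalk p) := by
      rw [Scheme.range_fromSpecStalk]
      exact hy.trans (Scheme.range_fromSpecStalk.le ⟨A, rfl⟩)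
    by_contra hb
    have hb' : (b : PrimeSpectrum O) ∈ T := hb
    rw [hI] at hb'
    have hba : PrimeSpectrum.asIdeal b ≤ a := by
      have := (X.fromSpecStalk p).isEmbedding.isInducing.specializes_iff.mp hy
      exact (PrimeSpectrum.le_iff_specializes b A).mpr this
    exact hne (congrArg (X.fromSpecStalk p) (PrimeSpectrum.ext (le_antisymm hba (ha.2 ⟨b.2, hb'⟩ hba))))
  let O := X.presheaf.stalk q
  obtain ⟨N, hN⟩ := exists_bound O
  let O' := S.presheaf.stalk (f q)
  let m := IsLocalRing.maximalIdeal O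
  let m' := IsLocalRing.maximalIdeal O'
  obtain ⟨i₁, hi₁⟩ := h (f q) N
  obtain ⟨i, hi₀, hi⟩ := directed_of (α := D) (· ≤ ·) i₀ i₁
  let ρ : O' ⧸ m' ^ (N + 1) →+* O ⧸ m ^ (N + 1) :=
    Ideal.quotientMap _ (f.stalkMap q).hom (Ideal.map_le_iff_le_comap.mp (by
      rw [Ideal.map_pow]
      refine Ideal.pow_right_mono (Ideal.map_le_iff_le_comap.mpr fun z hz => ?_) _
      exact map_nonunit (f.stalkMap q).hom z hz))
  let π := Spec.map (CommRingCat.ofHom (Ideal.Quotient.mk (m ^ (N + 1))))
  have hl : ∃ l, l ≫ x i = π ≫ X.fromSpecStalk q := by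
    let π' := Spec.map (CommRingCat.ofHom (Ideal.Quotient.mk (m' ^ (N + 1)))) ≫ S.fromSpecStalk (f q)
    let w : Spec (CommRingCat.of (O ⧸ m ^ (N + 1))) ⟶ pullback f π' :=
      pullback.lift (π ≫ X.fromSpecStalk q) (Spec.map (CommRingCat.ofHom ρ)) (by
        rw [Category.assoc, ← Scheme.SpecMap_stalkMap_fromSpecStalk, ← Category.assoc, ← Category.assoc,
          ← Spec.map_comp, ← Spec.map_comp]
        rfl)
    haveI := hi₁
    obtain ⟨t, ht⟩ := hmono i₁ i hi
    refine ⟨w ≫ inv (pullback.snd (x i₁) (pullback.fst f π')) ≫ pullback.fst _ _ ≫ t, ?_⟩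
    rw [Category.assoc, Category.assoc, Category.assoc, ht, pullback.condition, IsIso.inv_hom_id_assoc]
    exact pullback.lift_fst _ _ _
  let j := pullback.snd (x i) (X.fromSpecStalk q)
  haveI : IsImmersion (x i) := hx i
  haveI : IsIso j := by
    refine Groth.Agent.Lib.SubEq.isIso_of_immersion j (fun a ha => ?_) (fun r hr => ?_)
    · obtain ⟨l, hl⟩ := hl
      haveI : Nontrivial (O ⧸ m ^ (N + 1)) :=
        Ideal.Quotient.nontrivial_iff.mpr fun h =>
          (IsLocalRing.maximalIdeal.isMaximal O).ne_top (top_le_iff.mp (h ▸ Ideal.pow_le_self (Nat.succ_ne_zero N)))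
      let z : PrimeSpectrum (O ⧸ m ^ (N + 1)) := Classical.arbitrary _
      refine ⟨pullback.lift l π hl z, ?_⟩
      show (pullback.lift l π hl ≫ j) z = a
      rw [pullback.lift_snd]
      refine PrimeSpectrum.ext (ha.eq_of_le (Ideal.IsPrime.ne_top (PrimeSpectrum.isPrime _)) fun e he => ?_).symm
      show Ideal.Quotient.mk (m ^ (N + 1)) e ∈ z.asIdeal
      refine z.2.mem_of_pow_mem (N + 1) ?_
      rw [← map_pow, Ideal.Quotient.eq_zero_iff_mem.mpr
        (Ideal.pow_mem_pow (show e ∈ m from (IsLocalRing.eq_maximalIdeal ha).le he) _)]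
      exact zero_mem _
    · refine hN r (fun a _ ha => ?_) ?_
      · let A : PrimeSpectrum O := ⟨a, inferInstance⟩
        let c := Spec.map (CommRingCat.ofHom (algebraMap O (Localization.AtPrime a))) ≫ X.fromSpecStalk q
        have hAq : X.fromSpecStalk q A ⤳ q := Scheme.range_fromSpecStalk.le ⟨A, rfl⟩
        have hne : X.fromSpecStalk q A ≠ q := fun h => ha (congrArg PrimeSpectrum.asIdeal
          ((X.fromSpecStalk q).isEmbedding.injective (h.trans Scheme.fromSpecStalk_closedPoint.symm)))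
        obtain ⟨V, hV, σ, hσ⟩ := good_mono x hmono hi₀ (hgen _ hAq hne)
        have hr' : Set.range c ⊆ Set.range V.ι := by
          rintro _ ⟨z, rfl⟩
          rw [Scheme.Opens.range_ι]
          refine Specializes.mem_open ?_ V.2 hV
          refine ((PrimeSpectrum.le_iff_specializes _ A).mp ?_).map (X.fromSpecStalk q).continuous
          intro e he
          by_contra hea
          exact (PrimeSpectrum.isPrime (R := Localization.AtPrime a) z).ne_top
            (Ideal.eq_top_of_isUnit_mem _ he (IsLocalization.map_units (M := a.primeCompl) _ ⟨e, hea⟩))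
        exact hr _ (CommRingCat.ofHom (algebraMap O (Localization.AtPrime a)))
          (pullback.lift (IsOpenImmersion.lift V.ι c hr' ≫ σ) _
            (by rw [Category.assoc, hσ, IsOpenImmersion.lift_fac]; exact rfl)) (pullback.lift_snd _ _ _)
      · obtain ⟨l, hl⟩ := hl
        exact Ideal.pow_le_pow_right (Nat.le_succ N)
          (Ideal.Quotient.eq_zero_iff_mem.mp (hr _ _ (pullback.lift l π hl) (pullback.lift_snd _ _ _)))
  obtain ⟨V, hqV, σ, -, hσ⟩ := spread_out_of_isGermInjective' (𝟙 X) (x i)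
    (inv j ≫ pullback.fst (x i) (X.fromSpecStalk q)) (by
      rw [Category.assoc, pullback.condition, IsIso.inv_hom_id_assoc, Category.comp_id])
  exact hq (hge i q ⟨V, hqV, σ, by rw [hσ, Category.comp_id]⟩)

end Groth.Agent.S5309
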