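import Groth.Statements.S5317
import Groth.Agent.Lib.ActSep.HomogFlat
import Groth.Agent.H47.UnramLocus
import Mathlib.AlgebraicGeometry.Morphisms.FlatMono

set_option autoImplicit false
universe u
open CategoryTheory CategoryTheory.Limits MonoidalCategory CartesianMonoidalCategory MonObj GrpObj AlgebraicGeometry
open SGA3

namespace Groth.Agent.S5317

/-- Let u : G → H be a homomorphism of S-group schemes which is universally injective (for instance a
monomorphism), with G flat and locally of finite presentation over S and H locally of finite type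
over S. Then the set U of points s of S such that u_s : G_s → H_s is an open immersion is open in S,
and the restriction of u over every open of S contained in U is an open immersion. -/
theorem result (S : Scheme.{u}) (G H : Over S) [GrpObj G] [GrpObj H]
    (u : G ⟶ H) [IsMonHom u] [UniversallyInjective u.left]
    [Flat G.hom] [LocallyOfFinitePresentation G.hom] [LocallyOfFiniteType H.hom] :
    IsOpen {s : S | IsOpenImmersion ((Over.pullback (S.fromSpecResidueField s)).map u).left} ∧
    ∀ W : S.Opens, (W : Set S) ⊆ {s : S | IsOpenImmersion ((Over.pullback (S.fromSpecResidueField s)).map u).left} → IsOpenImmersion ((G.hom ⁻¹ᵁ W).ι ≫ u.left) := by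
  have : LocallyOfFinitePresentation u.left :=
    Groth.Agent.Lib.Flat55.FibreTransfer.locallyOfFinitePresentation u.left H.hom (Over.w u)
  have hP := Groth.Agent.Lib.ActSep.flatBC_etale.{u}
  have hF := Groth.Agent.Lib.ActSep.fibreCrit_etale u
  -- a radicial etale morphism is an open immersion
  have key : ∀ {A B : Scheme.{u}} (f : A ⟶ B), UniversallyInjective f → Etale f → IsOpenImmersion f := by
    intro A B f hf he
    have : Mono f := (Groth.Agent.H47.UnramLocus.mono_iff f).2 ⟨hf, inferInstance⟩
    exact IsOpenImmersion.of_flat_of_mono f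
  have hset : {s : S | IsOpenImmersion ((Over.pullback (S.fromSpecResidueField s)).map u).left} =
      {s : S | Etale ((Over.pullback (S.fromSpecResidueField s)).map u).left} := by
    ext s
    refine ⟨fun (h : IsOpenImmersion _) => (inferInstance : Etale _), fun (h : Etale _) => key _ ?_ h⟩
    exact MorphismProperty.of_isPullback (P := @UniversallyInjective) (Groth.Agent.Lib.ActSep.isPullback_map u _) ‹_›
  rw [hset]
  refine ⟨Groth.Agent.Lib.ActSep.isOpen_setOf_map' u hP hF, fun W hW => ?_⟩
  refine key _ (MorphismProperty.comp_mem _ _ _ inferInstance ‹_›) ?_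
  have hsub : (G.hom ⁻¹ᵁ W : Set G.left) ⊆ Groth.Agent.Lib.ActSep.nhdLocus @Etale u.left := by
    rw [Groth.Agent.Lib.ActSep.nhdLocus_eq_preimage' u hP hF]
    exact Set.preimage_mono hW
  rw [Groth.Agent.Lib.ActSep.iff_nhdLocus_eq_univ @Etale]
  refine Set.eq_univ_of_forall fun x => ?_
  obtain ⟨U, hU, hUP⟩ := hsub x.2
  refine ⟨(G.hom ⁻¹ᵁ W).ι ⁻¹ᵁ U, hU, ?_⟩
  rw [← morphismRestrict_ι_assoc]
  exact MorphismProperty.comp_mem _ _ _ inferInstance hUP

end Groth.Agent.S5317
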