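import Groth.Statements.S5318
import Groth.Agent.Lib.ActSep.HomogInst
import Groth.Agent.Lib.ActSep.SepAlg
import Groth.Agent.H47.UnramLocus

set_option autoImplicit false
universe u
open CategoryTheory CategoryTheory.Limits MonoidalCategory CartesianMonoidalCategory MonObj GrpObj AlgebraicGeometry
open SGA3
open Groth.Agent.Lib.GrpSch

namespace Groth.Agent.S5318

/-- (ii) ⟺ (iii) and, for G locally of finite presentation over S, (ii) ⟺ (iv): let G be an S-group
scheme. The unit section of G is an open immersion if and only if G is locally of finite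
presentation over S on some open containing the unit section and every fibre G_s is unramified
(formally unramified and locally of finite presentation) over κ(s). If G is locally of finite
presentation over S, the unit section is an open immersion if and only if G is unramified over S. -/
theorem result (S : Scheme.{u}) (G : Over S) [GrpObj G] :
    (IsOpenImmersion η[G].left ↔
      ((∃ W : G.left.Opens, (∀ p : ↥(𝟙_ (Over S)).left, η[G].left.base p ∈ W) ∧ LocallyOfFinitePresentation (W.ι ≫ G.hom)) ∧
        ∀ s : S, FormallyUnramified (G.hom.fiberToSpecResidueField s) ∧ LocallyOfFinitePresentation (G.hom.fiberToSpecResidueField s))) ∧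
    (LocallyOfFinitePresentation G.hom → (IsOpenImmersion η[G].left ↔ FormallyUnramified G.hom)) := by
  refine ⟨⟨fun hη => ?_, fun ⟨⟨W, hW, hWP⟩, hf⟩ => ?_⟩,
    fun hlfp => (Groth.Agent.Lib.ActSep.formallyUnramified_iff_isOpenImmersion_unit G).symm⟩
  · refine ⟨⟨η[G].left.opensRange, fun p => ⟨p, rfl⟩, ?_⟩, fun s => ?_⟩
    · have h1 : η[G].left.isoOpensRange.hom ≫ η[G].left.opensRange.ι ≫ G.hom = 𝟙 S := by
        rw [Scheme.Hom.isoOpensRange_hom_ι_assoc]
        exact η_left_comp_hom G
      have : IsIso (η[G].left.opensRange.ι ≫ G.hom) :=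
        @IsIso.of_isIso_comp_left _ _ _ _ _ η[G].left.isoOpensRange.hom _ inferInstance (by rw [h1]; exact (inferInstance : IsIso (𝟙 S)))
      infer_instance
    · let r := S.fromSpecResidueField s
      let H := (Over.pullback r).obj G
      let : GrpObj H := ((Over.pullback r).mapGrp.obj ⟨G⟩).grp
      have hFU : FormallyUnramified G.hom := Groth.Agent.Lib.ActSep.formallyUnramified_of_isOpenImmersion_unit G
      have hd : IsOpenImmersion (pullback.diagonal G.hom) := by
        have sq := (Groth.Agent.Lib.ActSep.isPullback_diagonal G).map (Over.forget S)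
        have h : IsOpenImmersion (lift (𝟙 G) (𝟙 G)).left :=
          MorphismProperty.of_isPullback (P := @IsOpenImmersion) sq.flip hη
        have e : (lift (𝟙 G) (𝟙 G)).left = pullback.diagonal G.hom := by
          apply pullback.hom_ext
          · rw [pullback.diagonal_fst]
            exact (congrArg CommaMorphism.left (lift_fst (𝟙 G) (𝟙 G))).trans rfl
          · rw [pullback.diagonal_snd]
            exact (congrArg CommaMorphism.left (lift_snd (𝟙 G) (𝟙 G))).trans rfl
        rwa [e] at h
      have hd' : IsOpenImmersion (pullback.diagonal (G.hom.fiberToSpecResidueField s)) :=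
        MorphismProperty.pullback_snd (P := MorphismProperty.diagonal @IsOpenImmersion) G.hom r hd
      have h1 : LocallyOfFiniteType (G.hom.fiberToSpecResidueField s) :=
        @Groth.Agent.Lib.ActSep.locallyOfFiniteType_of_isOpenImmersion_diagonal _ _ _ _ hd'
      exact ⟨MorphismProperty.pullback_snd (P := @FormallyUnramified) G.hom r hFU, inferInstance⟩
  · let g := W.ι ≫ G.hom
    have hu : ∀ p : S, ∃ U : (W : Scheme.{u}).Opens, (⟨η[G].left p, hW p⟩ : (W : Scheme.{u})) ∈ U ∧ FormallyUnramified (U.ι ≫ g) := by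
      intro p
      refine (Groth.Agent.Lib.Unram.AtPrime.exists_formallyUnramified_nhd_iff g _).2
        (Groth.Agent.H47.UnramLocus.stalkMap_of_field g _ fun K _ y hy => ?_)
      obtain ⟨⟨y₀, φ⟩, rfl⟩ := (Scheme.SpecToEquivOfField K S).symm.surjective y
      show FormallyUnramified (pullback.snd (W.ι ≫ G.hom) (Spec.map φ ≫ S.fromSpecResidueField y₀))
      have h2 : FormallyUnramified (G.hom.fiberToSpecResidueField y₀) := (hf y₀).1
      have h1 : FormallyUnramified (pullback.snd G.hom (Spec.map φ ≫ S.fromSpecResidueField y₀)) := by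
        rw [← pullbackLeftPullbackSndIso_inv_snd_snd]
        exact MorphismProperty.comp_mem _ _ _ inferInstance
          (MorphismProperty.of_isPullback (P := @FormallyUnramified) (IsPullback.of_hasPullback _ _) h2)
      rw [← pullbackRightPullbackFstIso_inv_snd_snd]
      exact MorphismProperty.comp_mem _ _ _ inferInstance (MorphismProperty.comp_mem _ _ _ inferInstance h1)
    choose U hU hUP using hu
    let V : G.left.Opens := ⨆ p : S, W.ι ''ᵁ U p
    have hVW : V ≤ W := iSup_le fun p => Scheme.Opens.ι_image_le _ _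
    have hlft : LocallyOfFiniteType (V.ι ≫ G.hom) := by
      rw [← G.left.homOfLE_ι hVW, Category.assoc]; infer_instance
    have hFU : FormallyUnramified (V.ι ≫ G.hom) := by
      refine (IsZariskiLocalAtSource.iff_of_iSup_eq_top (P := @FormallyUnramified)
        (fun p : S => V.ι ⁻¹ᵁ (W.ι ''ᵁ U p)) ?_).2 fun p => ?_
      · rw [← Scheme.Hom.preimage_iSup]
        exact Scheme.Opens.ι_preimage_self V
      · have hle : W.ι ''ᵁ U p ≤ V := le_iSup (fun p : S => W.ι ''ᵁ U p) p
        have h1 : FormallyUnramified ((W.ι ''ᵁ U p).ι ≫ G.hom) := by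
          rw [← W.ι.isoImage_inv_ι (U p), Category.assoc, Category.assoc]
          exact MorphismProperty.comp_mem _ _ _ inferInstance (hUP p)
        have e : V.ι ''ᵁ (V.ι ⁻¹ᵁ (W.ι ''ᵁ U p)) = W.ι ''ᵁ U p := by
          rw [Scheme.Hom.image_preimage_eq_opensRange_inf, Scheme.Opens.opensRange_ι]
          exact inf_eq_right.2 hle
        have e2 : (V.ι ⁻¹ᵁ (W.ι ''ᵁ U p)).ι ≫ V.ι ≫ G.hom =
            (V.ι.isoImage _).hom ≫ G.left.homOfLE e.le ≫ (W.ι ''ᵁ U p).ι ≫ G.hom := by
          rw [G.left.homOfLE_ι_assoc, Scheme.Hom.isoImage_hom_ι_assoc]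
        rw [e2]
        exact MorphismProperty.comp_mem _ _ _ inferInstance (MorphismProperty.comp_mem _ _ _ inferInstance h1)
    let η' : (𝟙_ (Over S)).left ⟶ (V : Scheme.{u}) := IsOpenImmersion.lift V.ι η[G].left (by
      rintro _ ⟨p, rfl⟩
      rw [Scheme.Opens.range_ι]
      exact TopologicalSpace.Opens.mem_iSup.2 ⟨p, ⟨_, hU p, rfl⟩⟩)
    have hsec : η' ≫ V.ι ≫ G.hom = 𝟙 S := by
      rw [IsOpenImmersion.lift_fac_assoc]; exact η_left_comp_hom G
    have h2 : IsOpenImmersion η' := Groth.Agent.H14.Sep.SelfBC.isOpenImmersion_of_section (V.ι ≫ G.hom) η' hsec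
    rw [← IsOpenImmersion.lift_fac V.ι η[G].left (by
      rintro _ ⟨p, rfl⟩
      rw [Scheme.Opens.range_ι]
      exact TopologicalSpace.Opens.mem_iSup.2 ⟨p, ⟨_, hU p, rfl⟩⟩)]
    exact MorphismProperty.comp_mem _ _ _ h2 inferInstance


end Groth.Agent.S5318
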