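import Groth.Statements.S5319
import Groth.Agent.Lib.ActSep.HomogInst

set_option autoImplicit false
universe u
open CategoryTheory CategoryTheory.Limits MonoidalCategory CartesianMonoidalCategory MonObj GrpObj AlgebraicGeometry
open SGA3

namespace Groth.Agent.S5319

/-- Let u : G → H be a homomorphism of S-group schemes which is locally of finite type, with every fibre
G_s locally of finite type over κ(s), and let i : K → G be the kernel of u (the square i, u, unit of
H is cartesian). The following are equivalent: u is locally quasi-finite; every fibre u_s : G_s →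
H_s is locally quasi-finite; K is locally quasi-finite over S; every fibre of K over S is a discrete
space. -/
theorem result (S : Scheme.{u}) (G H : Over S) [GrpObj G] [GrpObj H] (u : G ⟶ H) [IsMonHom u]
    [LocallyOfFiniteType u.left] (hG : ∀ s : S, LocallyOfFiniteType (G.hom.fiberToSpecResidueField s)) (K : Over S) [GrpObj K] (i : K ⟶ G) [IsMonHom i] (hK : AlgGrp.IsKernel i u) :
    (LocallyQuasiFinite u.left ↔ ∀ s : S, LocallyQuasiFinite ((Over.pullback (S.fromSpecResidueField s)).map u).left) ∧
    (LocallyQuasiFinite u.left ↔ LocallyQuasiFinite K.hom) ∧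
    (LocallyQuasiFinite u.left ↔ ∀ s : S, DiscreteTopology ↥(K.hom.base ⁻¹' {s})) := by
  have hP := Groth.Agent.Lib.ActSep.pointwiseBC_locallyQuasiFinite
  have hk := Groth.Agent.Lib.ActSep.iff_kernel u hP hG i hK
  have hlft : LocallyOfFiniteType K.hom := by
    have sq := Functor.map_isPullback (Over.forget S) hK
    have e : (toUnit K).left = K.hom := (Category.comp_id _).symm.trans (Over.w (toUnit K))
    rw [← e]
    exact MorphismProperty.of_isPullback (P := @LocallyOfFiniteType) sq ‹LocallyOfFiniteType u.left›
  refine ⟨Groth.Agent.Lib.ActSep.iff_forall_map u hP hG, hk, hk.trans ?_⟩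
  exact locallyQuasiFinite_iff_isDiscrete_preimage_singleton.trans
    (forall_congr' fun s => isDiscrete_iff_discreteTopology)


end Groth.Agent.S5319
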