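import Groth.Statements.S5321
import Groth.Agent.H47.UnramLocus
import Groth.Agent.H14.Sep.SelfBC

set_option autoImplicit false
universe u
open CategoryTheory CategoryTheory.Limits MonoidalCategory CartesianMonoidalCategory MonObj GrpObj AlgebraicGeometry
open SGA3

namespace Groth.Agent.S5321

/-- Consider a morphism π : X → S admitting a section ε, and assume the map of underlying spaces of π is
closed. Fix a point s of S, and suppose that on some open neighbourhood of ε(s) the morphism π is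
locally of finite presentation, and that the fibre X_s → Spec κ(s) is an isomorphism. Under these
assumptions one can find an open subset U of S containing s such that π restricts to an isomorphism
π⁻¹(U) → U (consequently ε restricted to U is an isomorphism onto π⁻¹(U)). -/
theorem result (X S : Scheme.{u}) (π : X ⟶ S) (ε : S ⟶ X) (hε : ε ≫ π = 𝟙 S)
    (hcl : IsClosedMap π.base) (s : S)
    (hfp : ∃ W : X.Opens, ε.base s ∈ W ∧ LocallyOfFinitePresentation (W.ι ≫ π))
    (hs : IsIso (π.fiberToSpecResidueField s)) :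
    ∃ U : S.Opens, s ∈ U ∧ IsIso (π ∣_ U) := by
  obtain ⟨W, hsW, hW⟩ := hfp
  let g := W.ι ≫ π
  let x : (W : Scheme.{u}) := ⟨ε s, hsW⟩
  have hgx : g x = s := by
    show (W.ι ≫ π) x = s
    rw [Scheme.Hom.comp_apply]
    show π (ε s) = s
    rw [← Scheme.Hom.comp_apply, hε]; rfl
  have hu : (g.stalkMap x).hom.FormallyUnramified := by
    refine Groth.Agent.H47.UnramLocus.stalkMap_of_field g x fun K _ y hy => ?_
    obtain ⟨⟨y₀, φ⟩, rfl⟩ := (Scheme.SpecToEquivOfField K S).symm.surjective y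
    have hy₀ : y₀ = s := by
      have h := hy (IsLocalRing.closedPoint K)
      rw [hgx] at h
      exact ((Scheme.Hom.comp_apply _ _ _).trans (Scheme.fromSpecResidueField_apply _ _)).symm.trans h
    subst hy₀
    let y := Spec.map φ ≫ S.fromSpecResidueField y₀
    show FormallyUnramified (pullback.snd (W.ι ≫ π) y)
    have h1 : FormallyUnramified (pullback.snd π y) := by
      have h2 : FormallyUnramified (π.fiberToSpecResidueField y₀) := inferInstance
      rw [← pullbackLeftPullbackSndIso_inv_snd_snd]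
      exact MorphismProperty.comp_mem _ _ _ inferInstance
        (MorphismProperty.of_isPullback (P := @FormallyUnramified) (IsPullback.of_hasPullback _ _) h2)
    rw [← pullbackRightPullbackFstIso_inv_snd_snd]
    exact MorphismProperty.comp_mem _ _ _ inferInstance (MorphismProperty.comp_mem _ _ _ inferInstance h1)
  obtain ⟨U₁, hxU₁, hU₁⟩ := (Groth.Agent.Lib.Unram.AtPrime.exists_formallyUnramified_nhd_iff g x).2 hu
  -- the fibre is a single point
  have hfib : ∀ w : X, π w = s → w = ε s := by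
    intro w hw
    have hinj : Function.Injective (π.fiberToSpecResidueField s) := (π.fiberToSpecResidueField s).homeomorph.injective
    have hεs : π (ε s) = s := by rw [← Scheme.Hom.comp_apply, hε]; rfl
    obtain ⟨a, rfl⟩ : w ∈ Set.range (π.fiberι s) := by rw [π.range_fiberι]; exact hw
    obtain ⟨b, hb⟩ : ε s ∈ Set.range (π.fiberι s) := by rw [π.range_fiberι]; exact hεs
    rw [← hb, hinj (Subsingleton.elim (α := Spec (CommRingCat.of (S.residueField s)))
      (π.fiberToSpecResidueField s a) (π.fiberToSpecResidueField s b))]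
  -- shrinking the base so that the preimage lies in a given open containing the section
  have shrink : ∀ O : X.Opens, ε s ∈ O → ∃ U : S.Opens, s ∈ U ∧ π ⁻¹ᵁ U ≤ O := fun O hO =>
    ⟨⟨(π '' (O : Set X)ᶜ)ᶜ, (hcl _ O.2.isClosed_compl).isOpen_compl⟩,
      fun ⟨w, hw, hws⟩ => hw (hfib w hws ▸ hO),
      fun w hw => not_not.1 fun h => hw ⟨w, h, rfl⟩⟩
  obtain ⟨U, hsU, hUW⟩ := shrink (W.ι ''ᵁ U₁) ⟨x, hxU₁, rfl⟩
  have hUW' : π ⁻¹ᵁ U ≤ W := hUW.trans (Scheme.Opens.ι_image_le _ _)
  let π' := π ∣_ U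
  -- the restriction is locally of finite type and unramified
  have hπ'lft : LocallyOfFiniteType π' := by
    have : LocallyOfFiniteType (π' ≫ U.ι) := by
      rw [morphismRestrict_ι, ← X.homOfLE_ι hUW', Category.assoc]
      infer_instance
    exact locallyOfFiniteType_of_comp π' U.ι
  have hπ'u : FormallyUnramified π' := by
    have : FormallyUnramified (π' ≫ U.ι) := by
      let O := W.ι ''ᵁ U₁
      have : FormallyUnramified (O.ι ≫ π) := by
        have e : O.ι = (W.ι.isoImage U₁).inv ≫ U₁.ι ≫ W.ι := (W.ι.isoImage_inv_ι U₁).symm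
        rw [e, Category.assoc, Category.assoc]
        exact MorphismProperty.comp_mem _ _ _ inferInstance hU₁
      rw [morphismRestrict_ι, ← X.homOfLE_ι hUW, Category.assoc]
      exact MorphismProperty.comp_mem _ _ _ inferInstance this
    exact FormallyUnramified.of_comp π' U.ι
  let ε' : (U : Scheme.{u}) ⟶ (π ⁻¹ᵁ U : Scheme.{u}) := IsOpenImmersion.lift (π ⁻¹ᵁ U).ι (U.ι ≫ ε) (by
    rintro _ ⟨z, rfl⟩
    rw [Scheme.Opens.range_ι]
    show π ((U.ι ≫ ε) z) ∈ U
    rw [← Scheme.Hom.comp_apply, Category.assoc, hε, Category.comp_id]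
    exact z.2)
  have hsec : ε' ≫ π' = 𝟙 _ := by
    rw [← cancel_mono U.ι, Category.assoc, morphismRestrict_ι, IsOpenImmersion.lift_fac_assoc, Category.assoc, hε,
      Category.comp_id, Category.id_comp]
  have hoi : IsOpenImmersion ε' := Groth.Agent.H14.Sep.SelfBC.isOpenImmersion_of_section π' ε' hsec
  obtain ⟨U', hsU', hU'⟩ := shrink ((π ⁻¹ᵁ U).ι ''ᵁ ε'.opensRange) ⟨ε' ⟨s, hsU⟩, ⟨_, rfl⟩, by
    show ((π ⁻¹ᵁ U).ι) (ε' ⟨s, hsU⟩) = ε s
    rw [← Scheme.Hom.comp_apply, IsOpenImmersion.lift_fac]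
    rfl⟩
  refine ⟨U' ⊓ U, ⟨hsU', hsU⟩, ?_⟩
  -- over `U' ⊓ U` the section is surjective
  let V : (U : Scheme.{u}).Opens := U.ι ⁻¹ᵁ (U' ⊓ U)
  have hV : IsIso (π' ∣_ V) := by
    have hsurj : Surjective (ε' ∣_ (π' ⁻¹ᵁ V)) := by
      refine ⟨fun w => ?_⟩
      have hw : (π ⁻¹ᵁ U).ι w.1 ∈ π ⁻¹ᵁ U' := by
        have h := w.2
        show π ((π ⁻¹ᵁ U).ι w.1) ∈ U'
        have h2 : U.ι (π' w.1) = π ((π ⁻¹ᵁ U).ι w.1) := by
          rw [← Scheme.Hom.comp_apply, morphismRestrict_ι, Scheme.Hom.comp_apply]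
        exact h2 ▸ h.1
      obtain ⟨_, ⟨z, rfl⟩, hz⟩ := hU' hw
      have hz' : ε' z = w.1 := (π ⁻¹ᵁ U).ι.injective hz
      refine ⟨⟨z, ?_⟩, ?_⟩
      · show ε' z ∈ π' ⁻¹ᵁ V
        rw [hz']; exact w.2
      · apply (π' ⁻¹ᵁ V).ι.injective
        rw [← Scheme.Hom.comp_apply, morphismRestrict_ι, Scheme.Hom.comp_apply]
        exact hz'
    have : IsIso (ε' ∣_ (π' ⁻¹ᵁ V)) := (isIso_iff_isOpenImmersion_and_surjective _).mpr ⟨inferInstance, hsurj⟩
    have hcomp : IsIso ((ε' ≫ π') ∣_ V) := by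
      rw [hsec]; infer_instance
    rw [morphismRestrict_comp] at hcomp
    have := hcomp
    exact @IsIso.of_isIso_comp_left _ _ _ _ _ (ε' ∣_ (π' ⁻¹ᵁ V)) (π' ∣_ V) inferInstance hcomp
  have e := (morphismRestrictRestrict π U V).trans (morphismRestrictEq π (show U.ι ''ᵁ V = U' ⊓ U by
    rw [Scheme.Hom.image_preimage_eq_opensRange_inf, Scheme.Opens.opensRange_ι]
    exact inf_eq_right.2 inf_le_right))
  exact (MorphismProperty.isomorphisms Scheme.{u}).arrow_mk_iso_iff e |>.1 hV


end Groth.Agent.S5321
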