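import Groth.Statements.S5323
import Groth.Agent.Lib.ActSep.NeutralGen
import Groth.Agent.Lib.ActSep.Fibre

set_option autoImplicit false
universe u
open CategoryTheory CategoryTheory.Limits MonoidalCategory CartesianMonoidalCategory MonObj GrpObj AlgebraicGeometry
open SGA3

namespace Groth.Agent.S5323

open Groth.Agent.Lib.GrpSch Groth.Agent.Lib.ActSep

/-- Let S be a quasi-compact quasi-separated scheme and G an S-group scheme whose fibres G_s are locally
of finite type over κ(s). Then there is a quasi-compact open subset of G containing the union of the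
neutral components of the fibres G_s. -/
theorem result (S : Scheme.{u}) [CompactSpace S] [QuasiSeparatedSpace S]
    (G : Over S) [GrpObj G] (hG : ∀ s : S, LocallyOfFiniteType (G.hom.fiberToSpecResidueField s)) :
    ∃ U : G.left.Opens, IsCompact (U : Set G.left) ∧ SGA3x.neutralSet G ⊆ U := by
  let A := {A : S.Opens // IsAffineOpen A}
  obtain ⟨cov, hcov⟩ := isCompact_univ.elim_finite_subcover (fun A : A => (A.1 : Set S)) (fun A => A.1.2)
    (fun s _ => by
      obtain ⟨V, hV, hsV, -⟩ := exists_isAffineOpen_mem_and_subset (U := ⊤) (x := s) trivial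
      exact Set.mem_iUnion.2 ⟨⟨V, hV⟩, hsV⟩)
  let Ψ : G ⊗ G ⟶ G := fst G G * (snd G G)⁻¹
  have key : ∀ S₀ : A, ∃ C : Set G.left, IsCompact C ∧
      SGA3x.neutralSet G ∩ G.hom ⁻¹' (S₀.1 : Set S) ⊆ C := by
    intro S₀
    let e : Set G.left := η[G].left '' (S₀.1 : Set S)
    have hec : IsCompact e := S₀.2.isCompact.image η[G].left.continuous
    let B := {B : G.left.Opens // IsAffineOpen B ∧ B ≤ G.hom ⁻¹ᵁ S₀.1}
    obtain ⟨fin, hfin⟩ := hec.elim_finite_subcover (fun B : B => (B.1 : Set G.left)) (fun B => B.1.2) (by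
      rintro _ ⟨p, hp, rfl⟩
      have hmem : η[G].left p ∈ G.hom ⁻¹ᵁ S₀.1 := by
        show G.hom (η[G].left p) ∈ S₀.1
        rw [← Scheme.Hom.comp_apply, η_left_comp_hom]
        exact hp
      obtain ⟨V, hV, hmemV, hsub⟩ := exists_isAffineOpen_mem_and_subset hmem
      exact Set.mem_iUnion.2 ⟨⟨V, hV, hsub⟩, hmemV⟩)
    let O : G.left.Opens := ⟨⋃ B ∈ fin, (B.1 : Set G.left), isOpen_biUnion fun B _ => B.1.2⟩
    have hO : IsCompact (O : Set G.left) := fin.isCompact_biUnion fun B _ => B.2.1.isCompact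
    have hOS : O ≤ G.hom ⁻¹ᵁ S₀.1 := fun z hz => by
      obtain ⟨B, -, hB⟩ := Set.mem_iUnion₂.1 hz
      exact B.2.2 hB
    refine ⟨_, (isCompact_prod G G S₀.2 O O hO hO hOS hOS).image Ψ.left.continuous, ?_⟩
    rintro g ⟨hg, hgS⟩
    obtain ⟨T, a, b, p, ha, hb, he⟩ := exists_div_of_mem_neutralSet G O (hG _) (hfin ⟨_, hgS, rfl⟩) hg
    refine ⟨(lift a b).left p, ⟨?_, ?_⟩, ?_⟩
    · show (fst G G).left ((lift a b).left p) ∈ O
      rw [← Scheme.Hom.comp_apply, ← Over.comp_left, lift_fst]; exact ha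
    · show (snd G G).left ((lift a b).left p) ∈ O
      rw [← Scheme.Hom.comp_apply, ← Over.comp_left, lift_snd]; exact hb
    · show Ψ.left ((lift a b).left p) = g
      rw [← Scheme.Hom.comp_apply, ← Over.comp_left,
        show lift a b ≫ Ψ = a * b⁻¹ by simp [Ψ, MonObj.comp_mul, GrpObj.comp_inv]]
      exact he
  choose C hC hsub using key
  have hCc : IsCompact (⋃ S₀ ∈ cov, C S₀) := cov.isCompact_biUnion fun S₀ _ => hC S₀
  obtain ⟨fin, hfin⟩ := hCc.elim_finite_subcover (fun V : {V : G.left.Opens // IsAffineOpen V} => (V.1 : Set G.left))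
    (fun V => V.1.2) (fun x _ => by
      obtain ⟨V, hV, hxV, -⟩ := exists_isAffineOpen_mem_and_subset (U := ⊤) (x := x) trivial
      exact Set.mem_iUnion.2 ⟨⟨V, hV⟩, hxV⟩)
  refine ⟨⟨⋃ V ∈ fin, (V.1 : Set G.left), isOpen_biUnion fun V _ => V.1.2⟩,
    fin.isCompact_biUnion fun V _ => V.2.isCompact, fun g hg => hfin ?_⟩
  obtain ⟨S₀, hS₀, hgS⟩ := Set.mem_iUnion₂.1 (hcov (Set.mem_univ (G.hom g)))
  exact Set.mem_iUnion₂.2 ⟨S₀, hS₀, hsub S₀ ⟨hg, hgS⟩⟩

end Groth.Agent.S5323
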