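import Groth.Statements.S5324
import Groth.Agent.Lib.ActSep.NeutralGen
import Groth.Agent.Lib.ActSep.Fibre

set_option autoImplicit false
universe u
open CategoryTheory CategoryTheory.Limits MonoidalCategory CartesianMonoidalCategory MonObj GrpObj AlgebraicGeometry
open SGA3

namespace Groth.Agent.S5324

open Groth.Agent.Lib.GrpSch Groth.Agent.Lib.ActSep

/-- Let G be an S-group scheme whose fibres G_s are locally of finite type over κ(s) and connected. Then
G is quasi-compact over S. -/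
theorem result (S : Scheme.{u}) (G : Over S) [GrpObj G]
    (hG : ∀ s : S, LocallyOfFiniteType (G.hom.fiberToSpecResidueField s))
    (hconn : ∀ s : S, _root_.IsConnected (G.hom.base ⁻¹' {s})) : QuasiCompact G.hom := by
  let A := {A : S.Opens // IsAffineOpen A}
  let Ψ : G ⊗ G ⟶ G := fst G G * (snd G G)⁻¹
  have key : ∀ S₀ : A, ∃ C : Set G.left, IsCompact C ∧ C ⊆ G.hom ⁻¹' (S₀.1 : Set S) ∧
      SGA3x.neutralSet G ∩ G.hom ⁻¹' (S₀.1 : Set S) ⊆ C := by
    intro S₀
    let e : Set G.left := η[G].left '' (S₀.1 : Set S)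
    have hec : IsCompact e := S₀.2.isCompact.image η[G].left.continuous
    let B := {B : G.left.Opens // IsAffineOpen B ∧ B ≤ G.hom ⁻¹ᵁ S₀.1}
    obtain ⟨fin, hfin⟩ := hec.elim_finite_subcover (fun B : B => (B.1 : Set G.left)) (fun B => B.1.2) (by
      rintro _ ⟨p, hp, rfl⟩
      have hmem : η[G].left p ∈ G.hom ⁻¹ᵁ S₀.1 := by
        show G.hom (η[G].left p) ∈ S₀.1
        rw [← Scheme.Hom.comp_apply, η_left_comp_hom]
        exact hp
      obtain ⟨V, hV, hmemV, hsub⟩ := exists_isAffineOpen_mem_and_subset hmem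
      exact Set.mem_iUnion.2 ⟨⟨V, hV, hsub⟩, hmemV⟩)
    let O : G.left.Opens := ⟨⋃ B ∈ fin, (B.1 : Set G.left), isOpen_biUnion fun B _ => B.1.2⟩
    have hO : IsCompact (O : Set G.left) := fin.isCompact_biUnion fun B _ => B.2.1.isCompact
    have hOS : O ≤ G.hom ⁻¹ᵁ S₀.1 := fun z hz => by
      obtain ⟨B, -, hB⟩ := Set.mem_iUnion₂.1 hz
      exact B.2.2 hB
    refine ⟨_, (isCompact_prod G G S₀.2 O O hO hO hOS hOS).image Ψ.left.continuous, ?_, ?_⟩
    · rintro _ ⟨z, ⟨hz, -⟩, rfl⟩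
      show G.hom (Ψ.left z) ∈ S₀.1
      rw [← Scheme.Hom.comp_apply, Over.w Ψ, ← Over.w (fst G G), Scheme.Hom.comp_apply]
      exact hOS hz
    rintro g ⟨hg, hgS⟩
    obtain ⟨T, a, b, p, ha, hb, he⟩ := exists_div_of_mem_neutralSet G O (hG _) (hfin ⟨_, hgS, rfl⟩) hg
    refine ⟨(lift a b).left p, ⟨?_, ?_⟩, ?_⟩
    · show (fst G G).left ((lift a b).left p) ∈ O
      rw [← Scheme.Hom.comp_apply, ← Over.comp_left, lift_fst]; exact ha
    · show (snd G G).left ((lift a b).left p) ∈ O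
      rw [← Scheme.Hom.comp_apply, ← Over.comp_left, lift_snd]; exact hb
    · show Ψ.left ((lift a b).left p) = g
      rw [← Scheme.Hom.comp_apply, ← Over.comp_left,
        show lift a b ≫ Ψ = a * b⁻¹ by simp [Ψ, MonObj.comp_mul, GrpObj.comp_inv]]
      exact he
  refine quasiCompact_iff_forall_isAffineOpen.2 fun U hU => ?_
  obtain ⟨C, hC, hCU, hNC⟩ := key ⟨U, hU⟩
  have huniv : SGA3x.neutralSet G = Set.univ := Set.eq_univ_of_forall fun g => by
    refine Set.mem_iUnion.2 ⟨G.hom g, (hconn _).isPreconnected.subset_connectedComponentIn ?_ subset_rfl ?_⟩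
    · show G.hom (η[G].left (G.hom g)) = (𝟙_ (Over S)).hom (G.hom g)
      rw [← Scheme.Hom.comp_apply, Over.w η[G]]
    · show G.hom g = G.hom g
      rfl
  rw [huniv, Set.univ_inter] at hNC
  have hEq : C = G.hom ⁻¹' (U : Set S) := Set.Subset.antisymm hCU hNC
  rw [hEq] at hC
  exact hC

end Groth.Agent.S5324
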