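import Groth.Statements.S5326
import Groth.Agent.Lib.ActSep.NeutralCons
import Groth.Agent.Lib.LimTop.Points
import Groth.Agent.Lib.MultSmooth.Lifting
import Groth.Agent.H69.SurjectiveLfp
import Mathlib.AlgebraicGeometry.Morphisms.FlatMono

set_option backward.isDefEq.respectTransparency false
set_option backward.isDefEq.respectTransparency.types false

set_option autoImplicit false
universe u
open CategoryTheory CategoryTheory.Limits MonoidalCategory CartesianMonoidalCategory MonObj GrpObj AlgebraicGeometry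
open SGA3

namespace Groth.Agent.S5326

/-- Let G be an S-group scheme locally of finite presentation over S, and suppose the neutral component
subfunctor of G is representable: there is a monomorphism i : G⁰ → G of S-schemes such that a point
g : T → G factors through i exactly when the image of the underlying map of g lies in the union of
the neutral components of the fibres G_s. Then i is an open immersion and G⁰ is quasi-compact over
S. -/
theorem result (S : Scheme.{u}) (G : Over S) [GrpObj G]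
    [LocallyOfFinitePresentation G.hom] (G0 : Over S) (i : G0 ⟶ G) [Mono i]
    (hrep : ∀ (T : Over S) (g : T ⟶ G), (∃ z : T ⟶ G0, z ≫ i = g) ↔ Set.range g.left.base ⊆ SGA3x.neutralSet G) :
    IsOpenImmersion i.left ∧ QuasiCompact G0.hom := by
  have hN : Set.range i.left = SGA3x.neutralSet G := by
    refine Set.Subset.antisymm ((hrep G0 i).1 ⟨𝟙 _, Category.id_comp i⟩) fun g hg => ?_
    let T : Over S := Over.mk (G.left.fromSpecResidueField g ≫ G.hom)
    let r : T ⟶ G := Over.homMk (G.left.fromSpecResidueField g) rfl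
    obtain ⟨z, hz⟩ := (hrep T r).2 (by
      show Set.range (G.left.fromSpecResidueField g) ⊆ _
      rw [Scheme.range_fromSpecResidueField]
      exact Set.singleton_subset_iff.2 hg)
    obtain ⟨v⟩ : Nonempty ↥(Spec (G.left.residueField g)) := inferInstance
    refine ⟨z.left v, ?_⟩
    rw [← Scheme.Hom.comp_apply, ← Over.comp_left, hz]
    exact Scheme.fromSpecResidueField_apply g v
  have : Mono ((Over.forget S).map i) := inferInstance
  haveI hmono : Mono i.left := this
  have key : ∀ {T : Scheme.{u}} (g : T ⟶ G.left), Set.range g ⊆ SGA3x.neutralSet G →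
      ∃ z : T ⟶ G0.left, z ≫ i.left = g := fun {T} g hg => by
    obtain ⟨z, hz⟩ := (hrep (Over.mk (g ≫ G.hom)) (Over.homMk g rfl)).2 hg
    exact ⟨z.left, congrArg CommaMorphism.left hz⟩
  haveI hlfp : LocallyOfFinitePresentation i.left := by
    refine Groth.Agent.H69.SurjectiveLfp.lfp_of_surjective i.left
      fun J _ _ _ D t c hc hD j₀ g hg => ?_
    haveI : ∀ j, CompactSpace (D.obj j) := fun j => haveI := hD j; inferInstance
    haveI : ∀ (a b : Jᵒᵖ) (f : a ⟶ b), IsAffineHom (D.map f) := fun a b f =>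
      haveI := hD a; haveI := hD b; inferInstance
    let Z : Set (D.obj j₀) := t.app j₀ ⁻¹' (SGA3x.neutralSet G)ᶜ
    have hZ : Groth.Agent.Lib.LimTop.PC.IsPC Z :=
      (Groth.Agent.Lib.LimTop.PC.IsPC.compl_of_isIndConstructible
        (Groth.Agent.Lib.ActSep.isIndConstructible_neutralSet G)).preimage (t.app j₀)
    obtain ⟨j, φ, hj⟩ := Groth.Agent.Lib.LimTop.Points.exists_map_preimage_eq_empty hc j₀ hZ (by
      refine Set.eq_empty_iff_forall_notMem.2 fun s hs => hs ?_
      rw [← hN]
      refine ⟨g s, ?_⟩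
      rw [← Scheme.Hom.comp_apply, hg]; rfl)
    have ht : D.map φ ≫ t.app j₀ = t.app j := by
      have := t.naturality φ
      erw [Category.comp_id] at this
      exact this
    obtain ⟨z, hz⟩ := key (t.app j) (by
      rintro _ ⟨x, rfl⟩
      by_contra h
      refine Set.eq_empty_iff_forall_notMem.1 hj x ?_
      rw [← ht, Scheme.Hom.comp_apply] at h
      exact h)
    refine ⟨j, z, hz, ?_⟩
    rw [← cancel_mono i.left, Category.assoc, hz, hg, ← ht, ← c.w φ, Category.assoc]
  haveI hflat : Flat i.left := by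
    refine (IsZariskiLocalAtSource.iff_of_iSup_eq_top (P := @Flat)
      (fun U : {U : G0.left.Opens // IsAffineOpen U ∧ ∃ V : G.left.Opens, IsAffineOpen V ∧ U ≤ i.left ⁻¹ᵁ V} => U.1)
      (eq_top_iff.2 fun x _ => ?_)).2 fun U => ?_
    · obtain ⟨V, hV, hxV, -⟩ := exists_isAffineOpen_mem_and_subset (U := ⊤) (x := i.left x) trivial
      obtain ⟨U, hU, hxU, hUV⟩ := exists_isAffineOpen_mem_and_subset (U := i.left ⁻¹ᵁ V) (x := x) hxV
      exact TopologicalSpace.Opens.mem_iSup.2 ⟨⟨U, hU, V, hV, hUV⟩, hxU⟩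
    · obtain ⟨U, hU, V, hV, hUV⟩ := U
      haveI : IsAffine (U : Scheme.{u}) := hU
      haveI : IsAffine (V : Scheme.{u}) := hV
      let f : (U : Scheme.{u}) ⟶ V := IsOpenImmersion.lift V.ι (U.ι ≫ i.left) (by
        rintro _ ⟨x, rfl⟩; rw [Scheme.Opens.range_ι]; exact hUV x.2)
      have hf : f ≫ V.ι = U.ι ≫ i.left := IsOpenImmersion.lift_fac _ _ _
      haveI : LocallyOfFinitePresentation (f ≫ V.ι) := by rw [hf]; infer_instance
      haveI : LocallyOfFinitePresentation f :=
        Groth.Agent.Lib.AlgSpMor.Cancel.locallyOfFinitePresentation_of_comp (g := V.ι) ‹_› inferInstance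
      have hsm : Smooth f := by
        refine Groth.Agent.Lib.MultSmooth.smooth_of_lifts f fun A J hJ t c₀ hc₀ => ?_
        rw [Category.comp_id] at hc₀ ⊢
        let π := Spec.map (CommRingCat.ofHom (Ideal.Quotient.mk J))
        have hsurj : Function.Surjective π := fun x => by
          have : J ≤ x.asIdeal := fun a ha => x.isPrime.mem_of_pow_mem 2
            (by rw [show a ^ 2 = 0 from (hJ ▸ Ideal.pow_mem_pow ha 2 : a ^ 2 ∈ (⊥ : Ideal A))]; exact zero_mem _)
          have h : x ∈ Set.range (PrimeSpectrum.comap (Ideal.Quotient.mk J)) := by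
            rw [range_comap_of_surjective _ _ Ideal.Quotient.mk_surjective, Ideal.mk_ker]
            exact this
          exact h
        have hfac : c₀ ≫ U.ι ≫ i.left = π ≫ t ≫ V.ι := by rw [← hf, reassoc_of% hc₀]
        have hpt : ∀ x, i.left (c₀ x).1 = (t ≫ V.ι) (π x) := fun x =>
          congrArg (fun φ : Spec (CommRingCat.of (A ⧸ J)) ⟶ G.left => φ x) hfac
        obtain ⟨z, hz⟩ := key (t ≫ V.ι) (by
          rintro _ ⟨x, rfl⟩
          obtain ⟨w, rfl⟩ := hsurj x
          rw [← hN]
          exact ⟨_, hpt w⟩)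
        have hπz : π ≫ z = c₀ ≫ U.ι := by
          rw [← cancel_mono i.left, Category.assoc, hz, Category.assoc, hfac]
        let c : Spec A ⟶ U := IsOpenImmersion.lift U.ι z (by
          rintro _ ⟨x, rfl⟩
          obtain ⟨w, rfl⟩ := hsurj x
          rw [Scheme.Opens.range_ι]
          have : z (π w) = (c₀ w).1 := congrArg (fun φ : Spec (CommRingCat.of (A ⧸ J)) ⟶ G0.left => φ w) hπz
          rw [this]
          exact (c₀ w).2)
        have hc : c ≫ U.ι = z := IsOpenImmersion.lift_fac _ _ _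
        refine ⟨c, ?_, ?_⟩
        · rw [← cancel_mono V.ι, Category.assoc, hf, reassoc_of% hc, hz]
        · rw [← cancel_mono U.ι, Category.assoc, hc, hπz]
      haveI := hsm
      show Flat (U.ι ≫ i.left)
      rw [← hf]
      infer_instance
  haveI hop : IsOpenImmersion i.left := IsOpenImmersion.of_flat_of_mono i.left
  refine ⟨hop, quasiCompact_iff_forall_isAffineOpen.2 fun A hA => ?_⟩
  have hloc : ∀ a ∈ A, ∃ A' : S.Opens, IsAffineOpen A' ∧ a ∈ A' ∧
      IsCompact (SGA3x.neutralSet G ∩ G.hom ⁻¹' (A' : Set S)) := fun a _ => by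
    obtain ⟨A', hA', haA, PP, hPP, ψ, _, _, P, hP, himg⟩ := Groth.Agent.Lib.ActSep.exists_cover G a
    exact ⟨A', hA', haA, himg ▸ (Groth.Agent.Lib.LimTop.PC.IsPC.isCompact
      (Groth.Agent.Lib.LimTop.PC.IsPC.of_isConstructible hP)).image ψ.continuous⟩
  choose A' hA' haA' hcpt using hloc
  have hsm : ∀ a : A, ∃ B : S.Opens, IsAffineOpen B ∧ a.1 ∈ B ∧ B ≤ A ∧
      IsCompact (G0.hom ⁻¹ᵁ B : Set G0.left) := fun a => by
    obtain ⟨c, hcA, hac⟩ := (hA' a.1 a.2).exists_basicOpen_le (V := A) ⟨a.1, a.2⟩ (haA' a.1 a.2)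
    refine ⟨_, (hA' a.1 a.2).basicOpen c, hac, hcA, ?_⟩
    have h1 : IsCompact (G0.hom ⁻¹ᵁ A' a.1 a.2 : Set G0.left) := by
      refine i.left.isOpenEmbedding.isInducing.isCompact_iff.2 ?_
      convert hcpt a.1 a.2 using 1
      rw [← Over.w i, ← hN, ← Set.image_preimage_eq_range_inter]
      rfl
    haveI : IsAffine (A' a.1 a.2 : Scheme.{u}) := hA' a.1 a.2
    haveI : CompactSpace ↥(G0.hom ⁻¹ᵁ A' a.1 a.2 : Scheme.{u}) := isCompact_iff_compactSpace.1 h1
    haveI : QuasiCompact (G0.hom ∣_ A' a.1 a.2) :=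
      (HasAffineProperty.iff_of_isAffine (P := @QuasiCompact)).2 ‹_›
    have h2 := (G0.hom ∣_ A' a.1 a.2).isCompact_preimage (U := (A' a.1 a.2).ι ⁻¹ᵁ S.basicOpen c)
      ((A' a.1 a.2).ι.isOpenEmbedding.isInducing.isCompact_iff.2 (by
        convert ((hA' a.1 a.2).basicOpen c).isCompact using 1
        ext y
        exact ⟨fun ⟨w, hw, e⟩ => e ▸ hw, fun hy => ⟨⟨y, S.basicOpen_le c hy⟩, hy, rfl⟩⟩))
    have h3 := h2.image (G0.hom ⁻¹ᵁ A' a.1 a.2).ι.continuous
    convert h3 using 1
    ext x
    constructor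
    · intro hx
      refine ⟨⟨x, S.basicOpen_le c hx⟩, ?_, rfl⟩
      show ((G0.hom ∣_ A' a.1 a.2) ⟨x, S.basicOpen_le c hx⟩).1 ∈ S.basicOpen c
      rw [morphismRestrict_base_coe]
      exact hx
    · rintro ⟨w, hw, rfl⟩
      have hw' : ((G0.hom ∣_ A' a.1 a.2) w).1 ∈ S.basicOpen c := hw
      rw [morphismRestrict_base_coe] at hw'
      exact hw'
  choose B hB haB hBA hBc using hsm
  obtain ⟨σ, hσ⟩ := hA.isCompact.elim_finite_subcover (fun a : A => (B a : Set S)) (fun a => (B a).2)
    fun a ha => Set.mem_iUnion.2 ⟨⟨a, ha⟩, haB _⟩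
  convert σ.isCompact_biUnion fun a _ => hBc a using 1
  ext x
  constructor
  · intro hx
    obtain ⟨a, ha, hxa⟩ := Set.mem_iUnion₂.1 (hσ hx)
    exact Set.mem_iUnion₂.2 ⟨a, ha, hxa⟩
  · intro hx
    obtain ⟨a, ha, hxa⟩ := Set.mem_iUnion₂.1 hx
    exact hBA a hxa

end Groth.Agent.S5326
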