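import Groth.Statements.S5327
import Groth.Agent.Lib.ActSep.NeutralGen

set_option autoImplicit false
universe u
open CategoryTheory CategoryTheory.Limits MonoidalCategory CartesianMonoidalCategory MonObj GrpObj AlgebraicGeometry
open SGA3

namespace Groth.Agent.S5327

open Groth.Agent.Lib.GrpSch Groth.Agent.Lib.ActSep

/-- Let G be an S-group scheme whose fibres are locally of finite type over κ(s), and let i : H → G be a
homomorphism of S-group schemes which is an open immersion (an open subgroup scheme). Then the union
G⁰ of the neutral components of the fibres of G is contained in the image of i, and G⁰ is the image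
under i of the union H⁰ of the neutral components of the fibres of H. -/
theorem result (S : Scheme.{u}) (G H : Over S) [GrpObj G] [GrpObj H]
    (hG : ∀ s : S, LocallyOfFiniteType (G.hom.fiberToSpecResidueField s)) (i : H ⟶ G) [IsMonHom i]
    [IsOpenImmersion i.left] :
    SGA3x.neutralSet G ⊆ Set.range i.left.base ∧ i.left.base '' SGA3x.neutralSet H = SGA3x.neutralSet G := by
  have hi : ∀ s : S, i.left (η[H].left s) = η[G].left s := fun s => by
    rw [← Scheme.Hom.comp_apply, ← Over.comp_left, IsMonHom.one_hom]
  have hw : ∀ x, G.hom (i.left x) = H.hom x := fun x => by rw [← Scheme.Hom.comp_apply, Over.w]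
  have hrange : SGA3x.neutralSet G ⊆ Set.range i.left.base := by
    intro g hg
    obtain ⟨T, a, b, p, ha, hb, he⟩ := exists_div_of_mem_neutralSet G i.left.opensRange (hG _)
      ⟨_, hi _⟩ hg
    let L : Over S := Over.mk (T.left.fromSpecResidueField p ≫ T.hom)
    let ρ : L ⟶ T := Over.homMk (T.left.fromSpecResidueField p) rfl
    have hlift : ∀ c : T ⟶ G, c.left p ∈ i.left.opensRange → ∃ c' : L ⟶ H, c' ≫ i = ρ ≫ c := by
      intro c hc
      have hr : Set.range (T.left.fromSpecResidueField p ≫ c.left) ⊆ Set.range i.left := by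
        rintro _ ⟨v, rfl⟩
        rw [Scheme.Hom.comp_apply, Scheme.fromSpecResidueField_apply]
        exact hc
      have hfac : IsOpenImmersion.lift i.left (T.left.fromSpecResidueField p ≫ c.left) hr ≫ i.left =
          T.left.fromSpecResidueField p ≫ c.left := IsOpenImmersion.lift_fac _ _ _
      exact ⟨Over.homMk (IsOpenImmersion.lift i.left (T.left.fromSpecResidueField p ≫ c.left) hr) (by
          show _ ≫ H.hom = T.left.fromSpecResidueField p ≫ T.hom
          rw [← Over.w i, ← Category.assoc, hfac, Category.assoc, Over.w c]),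
        Over.OverMorphism.ext hfac⟩
    obtain ⟨a', ha'⟩ := hlift a ha
    obtain ⟨b', hb'⟩ := hlift b hb
    obtain ⟨v⟩ : Nonempty ↥(Spec (T.left.residueField p)) := inferInstance
    refine ⟨(a' * b'⁻¹).left v, ?_⟩
    show i.left ((a' * b'⁻¹).left v) = g
    rw [← Scheme.Hom.comp_apply, ← Over.comp_left,
      show (a' * b'⁻¹) ≫ i = ρ ≫ (a * b⁻¹) by
        simp [← ha', ← hb', MonObj.comp_mul, GrpObj.comp_inv, MonObj.mul_comp, GrpObj.inv_comp], Over.comp_left, Scheme.Hom.comp_apply]
    show (a * b⁻¹).left (T.left.fromSpecResidueField p v) = g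
    rw [Scheme.fromSpecResidueField_apply]
    exact he
  refine ⟨hrange, Set.Subset.antisymm ?_ ?_⟩
  · rintro _ ⟨h, hh, rfl⟩
    rw [mem_neutralSet_iff] at hh ⊢
    rw [hw]
    refine (isPreconnected_connectedComponentIn.image i.left i.left.continuous.continuousOn).subset_connectedComponentIn
      ⟨_, mem_connectedComponentIn ?_, hi _⟩ ?_ ⟨h, hh, rfl⟩
    · show H.hom (η[H].left (H.hom h)) = H.hom h
      rw [← Scheme.Hom.comp_apply, η_left_comp_hom]; rfl
    · rintro _ ⟨x, hx, rfl⟩
      show G.hom (i.left x) = H.hom h
      rw [hw]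
      exact connectedComponentIn_subset (H.hom ⁻¹' {H.hom h}) _ hx
  · intro g hg
    obtain ⟨h, rfl⟩ := hrange hg
    refine ⟨h, ?_, rfl⟩
    have hg' := (mem_neutralSet_iff G (i.left h)).1 hg
    rw [mem_neutralSet_iff]
    rw [hw] at hg'
    let C := connectedComponentIn (G.hom ⁻¹' {H.hom h}) (η[G].left (H.hom h))
    have hC : C ⊆ Set.range i.left := by
      intro x hx
      refine hrange ((mem_neutralSet_iff G x).2 ?_)
      rw [show G.hom x = H.hom h from connectedComponentIn_subset (G.hom ⁻¹' {H.hom h}) _ hx]
      exact hx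
    have hpre : _root_.IsPreconnected (i.left ⁻¹' C) := by
      rw [← i.left.isOpenEmbedding.isInducing.isPreconnected_image, Set.image_preimage_eq_of_subset hC]
      exact isPreconnected_connectedComponentIn
    refine hpre.subset_connectedComponentIn ?_ ?_ hg'
    · show i.left (η[H].left (H.hom h)) ∈ C
      rw [hi]
      refine mem_connectedComponentIn ?_
      show G.hom (η[G].left (H.hom h)) = H.hom h
      rw [← Scheme.Hom.comp_apply, η_left_comp_hom]; rfl
    · intro x hx
      show H.hom x = H.hom h
      rw [← hw]
      exact connectedComponentIn_subset (G.hom ⁻¹' {H.hom h}) _ hx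

end Groth.Agent.S5327
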