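import Groth.Statements.S5328
import Groth.Agent.Lib.ActSep.NeutralHom
-- import your own Groth.Agent.* helpers here

set_option autoImplicit false
set_option backward.isDefEq.respectTransparency false
set_option backward.isDefEq.respectTransparency.types false
universe u
open CategoryTheory CategoryTheory.Limits MonoidalCategory CartesianMonoidalCategory MonObj GrpObj AlgebraicGeometry
open SGA3

namespace Groth.Agent.S5328

/-- Let u : G → H be a homomorphism between S-group schemes locally of finite presentation over S, and
let G⁰, H⁰ be the unions of the neutral components of the fibres. If u is flat then u(G⁰) = H⁰.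
Conversely, if G is flat over S, the fibres H_s are reduced and u(G⁰) = H⁰, then u is flat. -/
theorem result (S : Scheme.{u}) (G H : Over S) [GrpObj G] [GrpObj H]
    [LocallyOfFinitePresentation G.hom] [LocallyOfFinitePresentation H.hom] (u : G ⟶ H) [IsMonHom u] :
    (Flat u.left → u.left.base '' SGA3x.neutralSet G = SGA3x.neutralSet H) ∧
    (Flat G.hom → (∀ s : S, IsReduced (H.hom.fiber s)) → u.left.base '' SGA3x.neutralSet G = SGA3x.neutralSet H →
      Flat u.left) := by
  have : LocallyOfFinitePresentation u.left :=
    Groth.Agent.Lib.Flat55.FibreTransfer.locallyOfFinitePresentation u.left H.hom (Over.w u)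
  refine ⟨fun hflat => Groth.Agent.Lib.ActSep.image_neutralSet_of_fibres u fun s =>
    Groth.Agent.Lib.ActSep.isOpenMap_map u s, fun hG hred himg => ?_⟩
  refine Groth.Agent.Lib.ActSep.flat_of_map u fun s => ?_
  let r := S.fromSpecResidueField s
  have : LocallyOfFiniteType (Red.bc r G).hom :=
    MorphismProperty.pullback_snd (P := @LocallyOfFiniteType) _ _ inferInstance
  have : AlgebraicGeometry.IsReduced (Red.bc r H).left := hred s
  refine Groth.Agent.Lib.ActSep.flat_of_neutralSet_subset_range (k := S.residueField s) (G := Red.bc r G) (H := Red.bc r H)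
    ((Over.pullback r).map u) fun h hh => ?_
  rw [Groth.Agent.Lib.ActSep.neutralSet_bc] at hh
  obtain ⟨g, -, hg⟩ := himg.ge hh
  obtain ⟨z, -, hz⟩ := Scheme.exists_preimage_of_isPullback (Groth.Agent.Lib.ActSep.isPullback_map u r) g h hg
  exact ⟨z, hz⟩

end Groth.Agent.S5328
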