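import Groth.Statements.S5331
import Groth.Agent.Lib.GrpSch.Basic

set_option autoImplicit false
universe u
open CategoryTheory CategoryTheory.Limits MonoidalCategory CartesianMonoidalCategory MonObj GrpObj AlgebraicGeometry
open SGA3

namespace Groth.Agent.S5331

/-- Let S be a scheme whose underlying topological space is discrete. Then every S-group scheme is
separated over S. -/
theorem result (S : Scheme.{u}) [DiscreteTopology S] (G : Over S) [GrpObj G] :
    IsSeparated G.hom := by
  have : IsImmersion η[G].left := Groth.Agent.Lib.GrpSch.isImmersion_η G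
  have hcl : IsClosed (Set.range η[G].left) := by
    refine isClosed_of_closure_subset fun z hz => ?_
    let s : S := G.hom z
    have hopen : IsOpen (G.hom ⁻¹' {s}) := (isOpen_discrete {s}).preimage G.hom.continuous
    have hfix : ∀ p : S, G.hom (η[G].left p) = p := fun p => by
      rw [← Scheme.Hom.comp_apply, Groth.Agent.Lib.GrpSch.η_left_comp_hom]
      rfl
    have hsub : G.hom ⁻¹' {s} ∩ Set.range η[G].left ⊆ {η[G].left s} := by
      rintro _ ⟨h, p, rfl⟩
      rw [Set.mem_preimage, hfix, Set.mem_singleton_iff] at h
      rw [h]
      rfl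
    have h1 : z ∈ closure {η[G].left s} :=
      closure_mono hsub (hopen.inter_closure ⟨rfl, hz⟩)
    let F := G.hom.fiber s
    let k := S.residueField s
    let e : Spec k ⟶ F := pullback.lift (S.fromSpecResidueField s ≫ η[G].left) (𝟙 _)
      (by rw [Category.assoc, Groth.Agent.Lib.GrpSch.η_left_comp_hom]; exact (Category.comp_id _).trans (Category.id_comp _).symm)
    obtain ⟨v⟩ : Nonempty ↥(Spec k) := inferInstance
    have he : G.hom.fiberι s (e v) = η[G].left s := by
      rw [← Scheme.Hom.comp_apply]
      show (e ≫ pullback.fst _ _) v = _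
      rw [show e ≫ pullback.fst G.hom (S.fromSpecResidueField s) = _ from pullback.lift_fst _ _ _, Scheme.Hom.comp_apply, Scheme.fromSpecResidueField_apply]
    have hclosed : IsClosed ({e v} : Set F) := by
      have : IsClosedImmersion e := isClosedImmersion_of_comp_eq_id (G.hom.fiberToSpecResidueField s) e (pullback.lift_snd _ _ _)
      have h := e.isClosedEmbedding.isClosed_range
      rwa [show Set.range e = {e v} from Set.ext fun y =>
        ⟨fun ⟨w, hw⟩ => by rw [← hw, Subsingleton.elim (α := Spec k) w v]; rfl, fun h => ⟨v, h.symm⟩⟩] at h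
    obtain ⟨z', hz'⟩ : z ∈ Set.range (G.hom.fiberι s) := by
      rw [Scheme.Hom.range_fiberι]; rfl
    have h2 : z' ∈ closure ({e v} : Set F) := by
      rw [(G.hom.fiberι s).isEmbedding.isInducing.closure_eq_preimage_closure_image, Set.mem_preimage,
        Set.image_singleton, he, hz']
      exact h1
    rw [hclosed.closure_eq] at h2
    exact ⟨s, by rw [← he, ← hz', Set.mem_singleton_iff.1 h2]⟩
  have : IsClosedImmersion η[G].left := IsClosedImmersion.of_isPreimmersion _ hcl
  exact Groth.Agent.Lib.GrpSch.isSeparated_of_isClosedImmersion_η G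

end Groth.Agent.S5331
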