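import Groth.Statements.S5332
import Groth.Agent.Lib.ActSep.Exists

set_option autoImplicit false
universe u
open CategoryTheory CategoryTheory.Limits MonoidalCategory CartesianMonoidalCategory MonObj GrpObj AlgebraicGeometry
open SGA3

namespace Groth.Agent.S5332

open Groth.Agent.Lib.GrpSch Groth.Agent.Lib.ActSep Groth.Agent.Lib.ActSep.MaxPt

/-- Let G be an S-group scheme locally of finite presentation over S and universally open over S on some
open containing the unit section, acting on an S-scheme X so that the morphism G ×_S X → X ×_S X,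
(g, x) ↦ (gx, x), is surjective. Suppose that for every point s of S the fibre X_s is locally of
finite type over κ(s) and there is an open subscheme U of X, separated over S, whose fibre U_s is
dense in X_s. Then X is separated over S. -/
theorem result (S : Scheme.{u}) (G X : Over S) [GrpObj G] [LocallyOfFinitePresentation G.hom]
    (hGo : ∃ W : G.left.Opens, (∀ p : ↥(𝟙_ (Over S)).left, η[G].left.base p ∈ W) ∧ UniversallyOpen (W.ι ≫ G.hom))
    (a : AlgGrp.Action G X) (hΦ : Surjective (lift a.act (snd G X)).left)
    (hft : ∀ s : S, LocallyOfFiniteType (X.hom.fiberToSpecResidueField s))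
    (hU : ∀ s : S, ∃ U : X.left.Opens, IsSeparated (U.ι ≫ X.hom) ∧
      X.hom.base ⁻¹' {s} ⊆ closure ((U : Set X.left) ∩ X.hom.base ⁻¹' {s})) :
    IsSeparated X.hom := by
  obtain ⟨W, hW1, hW⟩ := hGo
  refine Criterion.isSeparated_of_translate a W hW fun K _ _ t x₁ x₂ => ?_
  obtain ⟨U, hUs, hUd⟩ := hU (t (IsLocalRing.closedPoint K))
  let T := Over.mk t
  have : LocallyOfFiniteType (snd G T).left := snd_left_of (P := @LocallyOfFiniteType) T inferInstance
  have hX : LocallyOfFiniteType (snd X T).left := by
    obtain ⟨⟨s, φ⟩, rfl⟩ := (Scheme.SpecToEquivOfField K S).symm.surjective t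
    let q : pullback X.hom (Spec.map φ ≫ S.fromSpecResidueField s) ⟶ X.hom.fiber s :=
      pullback.lift (pullback.fst _ _) (pullback.snd _ _ ≫ Spec.map φ)
        (by rw [pullback.condition, Category.assoc])
    have hq : IsPullback q (pullback.snd X.hom (Spec.map φ ≫ S.fromSpecResidueField s))
        (X.hom.fiberToSpecResidueField s) (Spec.map φ) := by
      refine IsPullback.of_right ?_ (pullback.lift_snd _ _ _)
        (IsPullback.of_hasPullback X.hom (S.fromSpecResidueField s))
      rw [show q ≫ pullback.fst X.hom (S.fromSpecResidueField s) = pullback.fst _ _ from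
        pullback.lift_fst _ _ _]
      exact IsPullback.of_hasPullback _ _
    exact MorphismProperty.of_isPullback (P := @LocallyOfFiniteType) hq (hft s)
  have : LocallyOfFiniteType (snd X T).left := hX
  have : IsLocallyNoetherian T.left := inferInstanceAs (IsLocallyNoetherian (Spec (CommRingCat.of K)))
  have : IsLocallyNoetherian (X ⊗ T).left := LocallyOfFiniteType.isLocallyNoetherian (snd X T).left
  have hd : Dense ((fst X T).left ⁻¹' (U : Set X.left)) :=
    dense_preimage_fst X.hom t U.2 _ rfl hUd
  let e := lift (toUnit T ≫ η[G]) (𝟙 T)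
  obtain ⟨z⟩ : Nonempty ↥(Spec (CommRingCat.of K)) := inferInstance
  obtain ⟨ξ, hξ, hsp⟩ := exists_isMaxPt (G ⊗ T).left (e.left z)
  have hξW : (fst G T).left ξ ∈ W := by
    refine (hsp.map (fst G T).left.continuous).mem_open W.2 ?_
    rw [← Scheme.Hom.comp_apply, ← Over.comp_left, show e ≫ fst G T = toUnit T ≫ η[G] from lift_fst _ _]
    exact hW1 _
  exact exists_translate_of_point a t W U hUs x₁ x₂ ξ hξW
    (mem_of_dense (U.2.preimage (fst X T).left.continuous) hd (isMaxPt_orb a t hΦ x₁ hξ))
    (mem_of_dense (U.2.preimage (fst X T).left.continuous) hd (isMaxPt_orb a t hΦ x₂ hξ))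

end Groth.Agent.S5332
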