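import Groth.Statements.S5333
import Groth.Agent.H75.RedSub
import Mathlib.AlgebraicGeometry.Morphisms.Separated

set_option autoImplicit false
universe u
open CategoryTheory CategoryTheory.Limits MonoidalCategory CartesianMonoidalCategory MonObj GrpObj AlgebraicGeometry
open SGA3

namespace Groth.Agent.S5333

/-- A morphism with reduced source factors through an immersion as soon as it does so
set-theoretically. -/
lemma exists_lift_of_isImmersion {X Y Z : Scheme.{u}} [IsReduced X] (f : X ⟶ Y) (j : Z ⟶ Y)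
    [IsImmersion j] (h : Set.range f ⊆ Set.range j) : ∃ g : X ⟶ Z, g ≫ j = f := by
  have hf : Set.range f ⊆ Set.range j.coborderRange.ι :=
    h.trans fun y ⟨z, hz⟩ => ⟨j.liftCoborder z, by rw [← Scheme.Hom.comp_apply, j.liftCoborder_ι, hz]⟩
  have hfac : IsOpenImmersion.lift j.coborderRange.ι f hf ≫ j.coborderRange.ι = f :=
    IsOpenImmersion.lift_fac _ _ _
  obtain ⟨g, hg⟩ := Groth.Agent.H75.RedKer.exists_lift (IsOpenImmersion.lift j.coborderRange.ι f hf)
    j.liftCoborder (by
      rintro _ ⟨x, rfl⟩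
      obtain ⟨z, hz⟩ := h ⟨x, rfl⟩
      refine ⟨z, j.coborderRange.ι.injective ?_⟩
      rw [← Scheme.Hom.comp_apply, j.liftCoborder_ι, hz, ← Scheme.Hom.comp_apply, hfac])
  exact ⟨g, by rw [← j.liftCoborder_ι, ← Category.assoc, hg, hfac]⟩

lemma isSeparated_of_isClosed_range {X S : Scheme.{u}} (f : X ⟶ S)
    (h : IsClosed (Set.range (pullback.diagonal f))) : IsSeparated f :=
  ⟨IsClosedImmersion.of_isPreimmersion _ h⟩

lemma isSeparated_of_valuative {X S : Scheme.{u}} (f : X ⟶ S)
    (H : ∀ (T : Scheme.{u}) [IsReduced T] (g₁ g₂ : T ⟶ X) (U : T.Opens), g₁ ≫ f = g₂ ≫ f →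
      Dense (U : Set T) → U.ι ≫ g₁ = U.ι ≫ g₂ → g₁ = g₂) : IsSeparated f := by
  refine isSeparated_of_isClosed_range f ?_
  let Δ := pullback.diagonal f
  let I := Scheme.IdealSheafData.vanishingIdeal (X := pullback f f)
    ⟨closure (Set.range Δ), isClosed_closure⟩
  have hr : Set.range I.subschemeι = closure (Set.range Δ) := by
    rw [Scheme.IdealSheafData.range_subschemeι, Scheme.IdealSheafData.coe_support_vanishingIdeal]
    rfl
  let incl := I.subschemeι
  let U : I.subscheme.Opens := incl ⁻¹ᵁ Δ.coborderRange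
  have hU : (U : Set I.subscheme) = incl ⁻¹' Set.range Δ := by
    ext x
    show incl x ∈ coborder (Set.range Δ) ↔ incl x ∈ Set.range Δ
    refine ⟨fun hx => ?_, fun hx => subset_coborder hx⟩
    have := coborder_inter_closure (s := Set.range Δ)
    exact this.le ⟨hx, hr.le ⟨x, rfl⟩⟩
  have hdense : Dense (U : Set I.subscheme) := by
    intro x
    rw [incl.isEmbedding.isInducing.closure_eq_preimage_closure_image, Set.mem_preimage, hU,
      Set.image_preimage_eq_inter_range, hr, Set.inter_eq_left.2 subset_closure, ← hr]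
    exact ⟨x, rfl⟩
  obtain ⟨g, hg⟩ := exists_lift_of_isImmersion (U.ι ≫ incl) Δ (by
    rintro _ ⟨x, rfl⟩
    rw [Scheme.Hom.comp_apply]
    exact hU.le x.2)
  have heq := H I.subscheme (incl ≫ pullback.fst f f) (incl ≫ pullback.snd f f) U
    (by simp [Category.assoc, pullback.condition]) hdense
    (by rw [← Category.assoc, ← Category.assoc, ← hg]; simp [Δ, Category.assoc])
  refine isClosed_of_closure_subset fun y hy => ?_
  obtain ⟨x, rfl⟩ := hr.ge hy
  have key : (incl ≫ pullback.fst f f) ≫ Δ = incl := by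
    apply pullback.hom_ext
    · rw [Category.assoc, Category.assoc]
      erw [pullback.diagonal_fst]
      simp
    · rw [Category.assoc]
      erw [pullback.diagonal_snd]
      rw [Category.comp_id]
      exact heq
  exact ⟨(incl ≫ pullback.fst f f) x,
    (Scheme.Hom.comp_apply _ Δ x).symm.trans (congrArg (fun φ : I.subscheme ⟶ pullback f f => φ x) key)⟩

lemma isSeparated_of_pairs {X S : Scheme.{u}} (f : X ⟶ S)
    (H : ∀ x₁ x₂ : X, f.base x₁ = f.base x₂ →
      ∃ V : X.Opens, x₁ ∈ V ∧ x₂ ∈ V ∧ IsSeparated (V.ι ≫ f)) : IsSeparated f := by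
  refine isSeparated_of_isClosed_range f (isClosed_of_closure_subset fun y hy => ?_)
  obtain ⟨V, h1, h2, hV⟩ := H (pullback.fst f f y) (pullback.snd f f y) (by
    rw [← Scheme.Hom.comp_apply, ← Scheme.Hom.comp_apply, pullback.condition])
  let j := pullback.map (V.ι ≫ f) (V.ι ≫ f) f f V.ι V.ι (𝟙 S) (by simp) (by simp)
  have : IsOpenImmersion j := inferInstance
  have hj : pullback.diagonal (V.ι ≫ f) ≫ j = V.ι ≫ pullback.diagonal f := by
    apply pullback.hom_ext
    · rw [Category.assoc, Category.assoc]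
      erw [pullback.lift_fst, pullback.diagonal_fst]
      rw [pullback.diagonal_fst_assoc, Category.comp_id]
    · rw [Category.assoc, Category.assoc]
      erw [pullback.lift_snd, pullback.diagonal_snd]
      rw [pullback.diagonal_snd_assoc, Category.comp_id]
  obtain ⟨z, rfl⟩ : y ∈ Set.range j := by
    rw [Scheme.Pullback.range_map]
    exact ⟨by simpa using h1, by simpa using h2⟩
  have hz : z ∈ closure (Set.range (pullback.diagonal (V.ι ≫ f))) := by
    rw [j.isOpenEmbedding.isInducing.closure_eq_preimage_closure_image, Set.mem_preimage]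
    refine mem_closure_iff.2 fun O hO hzO => ?_
    obtain ⟨_, ⟨hwO, v, hv⟩, ⟨x, rfl⟩⟩ :=
      mem_closure_iff.1 hy (O ∩ Set.range j) (hO.inter j.isOpenEmbedding.isOpen_range) ⟨hzO, z, rfl⟩
    have hxV : x ∈ V := by
      have h3 : pullback.fst f f (j v) ∈ (V : Set X) := by
        rw [← Scheme.Hom.comp_apply]
        simp only [j, pullback.map, pullback.lift_fst, Scheme.Hom.comp_apply]
        exact (pullback.fst (V.ι ≫ f) (V.ι ≫ f) v).2
      rw [hv, ← Scheme.Hom.comp_apply, pullback.diagonal_fst] at h3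
      exact h3
    refine ⟨_, hwO, pullback.diagonal (V.ι ≫ f) ⟨x, hxV⟩, ⟨⟨x, hxV⟩, rfl⟩, ?_⟩
    exact ((Scheme.Hom.comp_apply _ j _).symm.trans (congrArg (fun φ : (V : Scheme.{u}) ⟶ pullback f f => φ ⟨x, hxV⟩) hj))
  rw [(pullback.diagonal (V.ι ≫ f)).isClosedEmbedding.isClosed_range.closure_eq] at hz
  obtain ⟨w, rfl⟩ := hz
  exact ⟨V.ι w, by rw [← Scheme.Hom.comp_apply, ← hj, Scheme.Hom.comp_apply]⟩

/-- (i) ⟺ (iii) ⟺ (iv'): let f : X → S be a morphism of schemes. Then X is separated over S if and only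
if for every reduced scheme T and every two morphisms T → X with the same composite to S which agree
on a dense open subscheme of T are equal; and X is separated over S if and only if every two points
of X in the same fibre over S lie in a common open subscheme of X which is separated over S. -/
theorem result (X S : Scheme.{u}) (f : X ⟶ S) :
    (IsSeparated f ↔ ∀ (T : Scheme.{u}) [IsReduced T] (g₁ g₂ : T ⟶ X) (U : T.Opens), g₁ ≫ f = g₂ ≫ f →
      Dense (U : Set T) → U.ι ≫ g₁ = U.ι ≫ g₂ → g₁ = g₂) ∧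
    (IsSeparated f ↔ ∀ x₁ x₂ : X, f.base x₁ = f.base x₂ →
      ∃ V : X.Opens, x₁ ∈ V ∧ x₂ ∈ V ∧ IsSeparated (V.ι ≫ f)) := by
  refine ⟨⟨fun h T _ g₁ g₂ U hg hd hU => ?_, isSeparated_of_valuative f⟩,
    ⟨fun h x₁ x₂ _ => ⟨⊤, trivial, trivial, inferInstance⟩, isSeparated_of_pairs f⟩⟩
  have : IsDominant U.ι := ⟨by
    rw [DenseRange, Scheme.Opens.range_ι]
    exact hd⟩
  exact ext_of_isDominant_of_isSeparated f hg U.ι hU

end Groth.Agent.S5333
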