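import Groth.Statements.S5335
import Groth.Agent.Lib.ActSep.SubgroupClosed

set_option autoImplicit false
universe u
open CategoryTheory CategoryTheory.Limits MonoidalCategory CartesianMonoidalCategory MonObj GrpObj AlgebraicGeometry
open SGA3

namespace Groth.Agent.S5335

open Groth.Agent.Lib

/-- Let A be a local artinian ring and f : X' → X, g : Y' → Y two quasi-compact dominant morphisms of
schemes over A. Then the product morphism f ×_A g : X' ×_A Y' → X ×_A Y is dominant (and
quasi-compact). -/
theorem result (A : Type u) [CommRing A] [IsArtinianRing A] [IsLocalRing A] (X X' Y Y' : Over (Spec (CommRingCat.of A)))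
    (f : X' ⟶ X) (g : Y' ⟶ Y) [QuasiCompact f.left] [QuasiCompact g.left]
    (hf : DenseRange f.left.base) (hg : DenseRange g.left.base) :
    DenseRange (f ⊗ₘ g).left.base ∧ QuasiCompact (f ⊗ₘ g).left := by
  refine ⟨?_, GrpSch.tensorHom_left_of (P := @QuasiCompact) f g ‹_› ‹_›⟩
  let R := Set.range (f ⊗ₘ g).left
  have h1 : ∀ z : ↥(X ⊗ Y).left, (fst X Y).left z ∈ Set.range f.left → (snd X Y).left z ∈ Set.range g.left → z ∈ R := by
    rintro z ⟨a, ha⟩ ⟨b, hb⟩
    obtain ⟨w, hw, -⟩ := Scheme.exists_preimage_of_isPullback (GrpSch.isPullback_whiskerRight f Y) z a ha.symm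
    have hwb : (snd X' Y).left w = g.left b := by
      rw [← whiskerRight_snd f Y, Over.comp_left, Scheme.Hom.comp_apply, show (f ▷ Y).left w = z from hw]
      exact hb.symm
    obtain ⟨v, hv, -⟩ := Scheme.exists_preimage_of_isPullback (GrpSch.isPullback_whiskerLeft X' g) w b hwb
    refine ⟨v, ?_⟩
    rw [tensorHom_def', Over.comp_left, Scheme.Hom.comp_apply, show (X' ◁ g).left v = w from hv]
    exact hw
  -- the first factor
  have h2 : ∀ z : ↥(X ⊗ Y).left, (snd X Y).left z ∈ Set.range g.left → z ∈ closure R := by
    intro z hz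
    let c := (snd X Y).left z
    let T : Over (Spec (CommRingCat.of A)) := Over.mk (Y.left.fromSpecResidueField c ≫ Y.hom)
    let cT : T ⟶ Y := Over.homMk (Y.left.fromSpecResidueField c) rfl
    have : UniversallyOpen T.hom := (ActSep.universallyOpen_fieldPoint A _ _).1
    have : UniversallyOpen (fst X T).left := GrpSch.fst_left_of (P := @UniversallyOpen) X ‹_›
    obtain ⟨w, hw, -⟩ := Scheme.exists_preimage_of_isPullback (GrpSch.isPullback_whiskerLeft X cT) z
      (IsLocalRing.closedPoint (Y.left.residueField c)) (Y.left.fromSpecResidueField_apply c _).symm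
    have hmaps : Set.MapsTo (X ◁ cT).left ((fst X T).left ⁻¹' Set.range f.left) R := fun y hy => by
      refine h1 _ ?_ ?_
      · rw [← Scheme.Hom.comp_apply, ← Over.comp_left, whiskerLeft_fst]
        exact hy
      · rw [← Scheme.Hom.comp_apply, ← Over.comp_left, whiskerLeft_snd, Over.comp_left, Scheme.Hom.comp_apply]
        show Y.left.fromSpecResidueField c _ ∈ _
        rw [Scheme.fromSpecResidueField_apply]
        exact hz
    exact hw ▸ map_mem_closure (X ◁ cT).left.continuous (Dense.preimage hf (fst X T).left.isOpenMap w) hmaps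
  intro z
  show z ∈ closure R
  let c := (fst X Y).left z
  let T : Over (Spec (CommRingCat.of A)) := Over.mk (X.left.fromSpecResidueField c ≫ X.hom)
  let cT : T ⟶ X := Over.homMk (X.left.fromSpecResidueField c) rfl
  have : UniversallyOpen T.hom := (ActSep.universallyOpen_fieldPoint A _ _).1
  have : UniversallyOpen (snd T Y).left := GrpSch.snd_left_of (P := @UniversallyOpen) Y ‹_›
  obtain ⟨w, hw, -⟩ := Scheme.exists_preimage_of_isPullback (GrpSch.isPullback_whiskerRight cT Y) z
    (IsLocalRing.closedPoint (X.left.residueField c)) (X.left.fromSpecResidueField_apply c _).symm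
  have hmaps : Set.MapsTo (cT ▷ Y).left ((snd T Y).left ⁻¹' Set.range g.left) (closure R) := fun y hy => by
    refine h2 _ ?_
    rw [← Scheme.Hom.comp_apply, ← Over.comp_left, whiskerRight_snd]
    exact hy
  have h := map_mem_closure (cT ▷ Y).left.continuous (Dense.preimage hg (snd T Y).left.isOpenMap w) hmaps
  rw [closure_closure] at h
  exact hw ▸ h

end Groth.Agent.S5335
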