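import Groth.Statements.S5337
import Groth.Agent.Lib.ActSep.Spread
import Groth.Agent.Lib.ActSep.FlatTransl
-- import your own Groth.Agent.* helpers here

set_option autoImplicit false
set_option backward.isDefEq.respectTransparency false
set_option backward.isDefEq.respectTransparency.types false
universe u
open CategoryTheory CategoryTheory.Limits MonoidalCategory CartesianMonoidalCategory MonObj GrpObj AlgebraicGeometry
open SGA3

namespace Groth.Agent.S5337

/-- Quasi-finite, unramified, smooth and etale cases: let A be a local artinian ring, G an A-group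
scheme which is flat and locally of finite type over A, and u : G → H a homomorphism of A-group
schemes. If u is locally quasi-finite (resp. unramified, that is formally unramified and locally of
finite presentation, resp. smooth, resp. etale) on some nonempty open subscheme of G, then u is
locally quasi-finite (resp. unramified, resp. smooth, resp. etale). (Here u is automatically locally
of finite type.) -/
theorem result (A : Type u) [CommRing A] [IsArtinianRing A] [IsLocalRing A] (G H : Over (Spec (CommRingCat.of A))) [GrpObj G] [GrpObj H]
    [Flat G.hom] [LocallyOfFiniteType G.hom] (u : G ⟶ H) [IsMonHom u] (W : G.left.Opens) (hW : (W : Set G.left).Nonempty) :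
    (LocallyQuasiFinite (W.ι ≫ u.left) → LocallyQuasiFinite u.left) ∧
    (FormallyUnramified (W.ι ≫ u.left) → LocallyOfFinitePresentation (W.ι ≫ u.left) →
      FormallyUnramified u.left ∧ LocallyOfFinitePresentation u.left) ∧
    (Smooth (W.ι ≫ u.left) → Smooth u.left) ∧ (Etale (W.ι ≫ u.left) → Etale u.left) := by
  have : Subsingleton ↥(Spec (CommRingCat.of A)) := inferInstanceAs (Subsingleton (PrimeSpectrum A))
  have : IsLocallyNoetherian (Spec (CommRingCat.of A)) := inferInstance
  have : LocallyOfFinitePresentation G.hom := inferInstance
  have : LocallyOfFiniteType u.left := by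
    have : LocallyOfFiniteType (u.left ≫ H.hom) := by rw [Over.w]; infer_instance
    exact locallyOfFiniteType_of_comp u.left H.hom
  obtain ⟨e, he⟩ := Groth.Agent.Lib.ActSep.exists_iso_hom u G (𝟙 G)
  rw [Category.comp_id] at he
  obtain ⟨w, hw⟩ := hW
  have mem : ∀ {P : MorphismProperty Scheme.{u}}, P (W.ι ≫ u.left) → w ∈ Groth.Agent.Lib.ActSep.nhdLocus P u.left :=
    fun h => ⟨W, hw, h⟩
  refine ⟨fun h => Groth.Agent.Lib.ActSep.spread_pointwiseBC u e he
      Groth.Agent.Lib.ActSep.pointwiseBC_locallyQuasiFinite (mem h),
    fun h h' => ⟨Groth.Agent.Lib.ActSep.spread_pointwiseBC u e he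
      Groth.Agent.Lib.ActSep.pointwiseBC_formallyUnramified (mem h),
      Groth.Agent.Lib.ActSep.spread_lfp u e he (mem h')⟩, fun h => ?_, fun h => ?_⟩
  · have := Groth.Agent.Lib.ActSep.spread_lfp u e he (mem (inferInstance : LocallyOfFinitePresentation (W.ι ≫ u.left)))
    exact Groth.Agent.Lib.ActSep.spread_flatBC u e he Groth.Agent.Lib.ActSep.flatBC_smooth (mem h)
  · have := Groth.Agent.Lib.ActSep.spread_lfp u e he (mem (inferInstance : LocallyOfFinitePresentation (W.ι ≫ u.left)))
    exact Groth.Agent.Lib.ActSep.spread_flatBC u e he Groth.Agent.Lib.ActSep.flatBC_etale (mem h)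

end Groth.Agent.S5337
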