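import Groth.Statements.S8369
import Mathlib.RingTheory.Flat.EquationalCriterion
import Mathlib.RingTheory.Nilpotent.Basic

set_option autoImplicit false
universe u v
open SGA3

namespace Groth.Agent.S8369

/-- Let A be a commutative ring, J a nilpotent ideal, N ⊆ M A-modules with M/N flat over A. If elements
of N have images generating the image of N in M/JM, then they generate N. (The published statement
takes finitely many elements; this row allows an arbitrary set, which the same argument permits.) -/
theorem result (A : Type u) [CommRing A] (J : Ideal A) (hJ : IsNilpotent J)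
    (M : Type v) [AddCommGroup M] [Module A M] (N : Submodule A M) [Module.Flat A (M ⧸ N)] (s : Set M)
    (hs : s ⊆ N)
    (hgen : (Submodule.span A s).map (J • (⊤ : Submodule A M)).mkQ = N.map (J • (⊤ : Submodule A M)).mkQ) :
    Submodule.span A s = N := by
  classical
  have key : N ⊓ J • (⊤ : Submodule A M) ≤ J • N := by
    rintro m ⟨hmN, hmJ⟩
    obtain ⟨n, c, x, rfl⟩ : ∃ (n : ℕ) (c : Fin n → J) (x : Fin n → M), m = ∑ i, (c i : A) • x i := by
      refine Submodule.smul_induction_on hmJ (fun r hr y _ => ⟨1, fun _ => ⟨r, hr⟩, fun _ => y, by simp⟩) ?_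
      rintro p q ⟨n, c, x, rfl⟩ ⟨n', c', x', rfl⟩
      exact ⟨n + n', Fin.append c c', Fin.append x x', by simp [Fin.sum_univ_add]⟩
    have h0 : ∑ i, (c i : A) • N.mkQ (x i) = 0 := by
      simp_rw [← map_smul, ← map_sum]
      exact (Submodule.Quotient.mk_eq_zero N).2 hmN
    obtain ⟨k, a, y, hxy, ha⟩ := Module.Flat.isTrivialRelation_of_sum_smul_eq_zero h0
    choose z hz using fun j => N.mkQ_surjective (y j)
    have hn : ∀ i, x i - ∑ j, a i j • z j ∈ N := fun i =>
      (Submodule.Quotient.mk_eq_zero N).1 (by
        show N.mkQ _ = 0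
        simp only [map_sub, map_sum, map_smul, hz, ← hxy i, sub_self])
    have : ∑ i, (c i : A) • x i = ∑ i, (c i : A) • (x i - ∑ j, a i j • z j) := by
      simp only [smul_sub, Finset.sum_sub_distrib, Finset.smul_sum, smul_smul]
      rw [Finset.sum_comm (f := fun i j => ((c i : A) * a i j) • z j)]
      simp [← Finset.sum_smul, ha]
    rw [this]
    exact Submodule.sum_mem _ fun i _ => Submodule.smul_mem_smul (c i).2 (hn i)
  have hle : Submodule.span A s ≤ N := Submodule.span_le.2 hs
  have hstep : N ≤ Submodule.span A s ⊔ J • N := by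
    intro m hm
    obtain ⟨p, hp, hpm⟩ := hgen.ge (Submodule.mem_map_of_mem hm)
    exact Submodule.mem_sup.2 ⟨p, hp, m - p,
      key ⟨N.sub_mem hm (hle hp), (Submodule.Quotient.eq _).1 hpm.symm⟩, add_sub_cancel _ _⟩
  obtain ⟨n, hn⟩ := hJ
  have hiter : ∀ i, N ≤ Submodule.span A s ⊔ J ^ i • N := by
    intro i
    induction i with
    | zero => simp
    | succ i ih =>
      refine ih.trans (sup_le le_sup_left ?_)
      refine (smul_mono_right _ hstep).trans ?_
      rw [Submodule.smul_sup, pow_succ, Submodule.mul_smul]
      exact sup_le (Submodule.smul_le_right.trans le_sup_left) le_sup_right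
  refine le_antisymm hle ?_
  simpa [hn] using hiter n

end Groth.Agent.S8369
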