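import Groth.Statements.S5338
import Groth.Agent.S8369
import Mathlib.RingTheory.FinitePresentation
import Mathlib.RingTheory.MvPolynomial.Ideal

set_option autoImplicit false
universe u
open CategoryTheory CategoryTheory.Limits MonoidalCategory CartesianMonoidalCategory MonObj GrpObj AlgebraicGeometry
open SGA3

namespace Groth.Agent.S5338

/-- Let A → B → C be homomorphisms of commutative rings and n a nilpotent ideal of A; write nB and nC
for the extended ideals. (i) If C/nC is a (B/nB)-algebra of finite type, then C is a B-algebra of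
finite type. (ii) If moreover C is flat over A and C/nC is a (B/nB)-algebra of finite presentation,
then C is a B-algebra of finite presentation. -/
theorem result (A B C : Type u) [CommRing A] [CommRing B] [CommRing C]
    [Algebra A B] [Algebra B C] [Algebra A C] [IsScalarTower A B C] (n : Ideal A) (hn : IsNilpotent n) :
    (Algebra.FiniteType (B ⧸ n.map (algebraMap A B)) (C ⧸ (n.map (algebraMap A B)).map (algebraMap B C)) →
      Algebra.FiniteType B C) ∧
    (Module.Flat A C →
      Algebra.FinitePresentation (B ⧸ n.map (algebraMap A B)) (C ⧸ (n.map (algebraMap A B)).map (algebraMap B C)) →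
      Algebra.FinitePresentation B C) := by
  classical
  set nB := n.map (algebraMap A B) with hnB
  set nC := nB.map (algebraMap B C) with hnC
  have hnC' : nC = n.map (algebraMap A C) := by
    rw [hnC, hnB, Ideal.map_map, ← IsScalarTower.algebraMap_eq]
  have hi : Algebra.FiniteType (B ⧸ nB) (C ⧸ nC) → Algebra.FiniteType B C := by
    intro h
    obtain ⟨s, hs⟩ := h.out
    choose x hx using fun c : C ⧸ nC => Ideal.Quotient.mk_surjective c
    let S := Algebra.adjoin B (x '' (s : Set (C ⧸ nC)))
    have h1 : ∀ c : C, ∃ a ∈ S, c - a ∈ nC := by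
      intro c
      have hc : Ideal.Quotient.mk nC c ∈ Algebra.adjoin (B ⧸ nB) (s : Set (C ⧸ nC)) := hs ▸ Algebra.mem_top
      suffices ∀ q ∈ Algebra.adjoin (B ⧸ nB) (s : Set (C ⧸ nC)), ∃ a ∈ S, Ideal.Quotient.mk nC a = q by
        obtain ⟨a, ha, he⟩ := this _ hc
        exact ⟨a, ha, Ideal.Quotient.eq.1 he.symm⟩
      intro q hq
      induction hq using Algebra.adjoin_induction with
      | mem q hq => exact ⟨x q, Algebra.subset_adjoin ⟨q, hq, rfl⟩, hx q⟩
      | algebraMap r =>
        obtain ⟨b, rfl⟩ := Ideal.Quotient.mk_surjective r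
        exact ⟨algebraMap B C b, S.algebraMap_mem b, rfl⟩
      | add _ _ _ _ ha hb =>
        obtain ⟨a, ha, rfl⟩ := ha
        obtain ⟨b, hb, rfl⟩ := hb
        exact ⟨a + b, S.add_mem ha hb, map_add _ _ _⟩
      | mul _ _ _ _ ha hb =>
        obtain ⟨a, ha, rfl⟩ := ha
        obtain ⟨b, hb, rfl⟩ := hb
        exact ⟨a * b, S.mul_mem ha hb, map_mul _ _ _⟩
    let SA : Submodule A C := Subalgebra.toSubmodule (S.restrictScalars A)
    have htop : (⊤ : Submodule A C) ≤ SA ⊔ n • ⊤ := by
      intro c _
      obtain ⟨a, ha, hca⟩ := h1 c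
      refine Submodule.mem_sup.2 ⟨a, ha, c - a, ?_, add_sub_cancel _ _⟩
      rw [Ideal.smul_top_eq_map]
      exact hnC' ▸ hca
    obtain ⟨m, hm⟩ := hn
    have hiter : ∀ i, (⊤ : Submodule A C) ≤ SA ⊔ n ^ i • ⊤ := by
      intro i
      induction i with
      | zero => rw [pow_zero, Ideal.one_eq_top, Submodule.top_smul]; exact le_sup_right
      | succ i ih =>
        refine ih.trans (sup_le le_sup_left ?_)
        refine (smul_mono_right _ htop).trans ?_
        rw [Submodule.smul_sup, pow_succ, Submodule.mul_smul]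
        exact sup_le (Submodule.smul_le_right.trans le_sup_left) le_sup_right
    have hS : S = ⊤ := eq_top_iff.2 fun c _ => by
      have : c ∈ SA := by simpa [hm] using hiter m (Submodule.mem_top (x := c))
      exact this
    exact ⟨⟨s.image x, by rw [Finset.coe_image]; exact hS⟩⟩
  refine ⟨hi, fun hflat hfp => ?_⟩
  obtain ⟨N, f, hf⟩ := Algebra.FiniteType.iff_quotient_mvPolynomial''.1 (hi inferInstance)
  let P := MvPolynomial (Fin N) B
  let π : P →+* MvPolynomial (Fin N) (B ⧸ nB) := MvPolynomial.map (Ideal.Quotient.mk nB)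
  let g : MvPolynomial (Fin N) (B ⧸ nB) →ₐ[B ⧸ nB] C ⧸ nC :=
    MvPolynomial.aeval fun i => Ideal.Quotient.mk nC (f (MvPolynomial.X i))
  have hgπ : ∀ p : P, g (π p) = Ideal.Quotient.mk nC (f p) := by
    refine fun p => RingHom.congr_fun (f := g.toRingHom.comp π) (g := (Ideal.Quotient.mk nC).comp f.toRingHom) ?_ p
    refine MvPolynomial.ringHom_ext (fun b => ?_) (fun i => ?_)
    · show g (MvPolynomial.map (Ideal.Quotient.mk nB) (MvPolynomial.C b)) = Ideal.Quotient.mk nC (f (MvPolynomial.C b))
      rw [MvPolynomial.map_C, ← MvPolynomial.algebraMap_eq, g.commutes, ← MvPolynomial.algebraMap_eq, f.commutes]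
      rfl
    · show g (MvPolynomial.map (Ideal.Quotient.mk nB) (MvPolynomial.X i)) = Ideal.Quotient.mk nC (f (MvPolynomial.X i))
      rw [MvPolynomial.map_X]
      exact MvPolynomial.aeval_X _ i
  have hπ : Function.Surjective π := MvPolynomial.map_surjective _ Ideal.Quotient.mk_surjective
  have hg : Function.Surjective g := fun c => by
    obtain ⟨c, rfl⟩ := Ideal.Quotient.mk_surjective c
    obtain ⟨p, rfl⟩ := hf c
    exact ⟨π p, hgπ p⟩
  obtain ⟨T, hT⟩ := Algebra.FinitePresentation.ker_fG_of_surjective g hg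
  have hkerπ : RingHom.ker π = n.map (algebraMap A P) := by
    rw [MvPolynomial.ker_map, Ideal.mk_ker, hnB, Ideal.map_map]
    rfl
  have hfn : (n.map (algebraMap A P)).map f = nC := by
    show Ideal.map f.toRingHom (Ideal.map (algebraMap A P) n) = nC
    rw [Ideal.map_map, hnC']
    congr 1
    exact (f.restrictScalars A).comp_algebraMap
  have hlift : ∀ q : MvPolynomial (Fin N) (B ⧸ nB), g q = 0 → ∃ p : P, f p = 0 ∧ π p = q := by
    intro q hq
    obtain ⟨p, rfl⟩ := hπ q
    rw [hgπ, Ideal.Quotient.eq_zero_iff_mem, ← hfn, Ideal.mem_map_iff_of_surjective _ hf] at hq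
    obtain ⟨r, hr, hre⟩ := hq
    refine ⟨p - r, by rw [map_sub, hre, sub_self], ?_⟩
    rw [← hkerπ, RingHom.mem_ker] at hr
    rw [map_sub, hr, sub_zero]
  choose lift hlift1 hlift2 using hlift
  have hTk : ∀ q, q ∈ Ideal.span (T : Set (MvPolynomial (Fin N) (B ⧸ nB))) ↔ g q = 0 := fun q =>
    (SetLike.ext_iff.1 hT q).trans RingHom.mem_ker
  have hTz : ∀ q ∈ T, g q = 0 := fun q hq => (hTk q).1 (Ideal.subset_span hq)
  let T' : Finset P := T.attach.image fun q => lift q.1 (hTz q.1 q.2)
  let J : Ideal P := Ideal.span (T' : Set P)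
  have hJle : J ≤ RingHom.ker f := Ideal.span_le.2 fun p hp => by
    obtain ⟨q, -, rfl⟩ := Finset.mem_image.1 hp
    exact hlift1 _ _
  let K : Submodule A P := (RingHom.ker f).restrictScalars A
  let fA : P →ₗ[A] C := (f.restrictScalars A).toLinearMap
  have : Module.Flat A (P ⧸ K) :=
    have e : (P ⧸ LinearMap.ker fA) ≃ₗ[A] C := fA.quotKerEquivOfSurjective hf
    Module.Flat.of_linearEquiv e
  have hsub : (J : Set P) ⊆ (K : Set P) := fun p hp => hJle hp
  have hJ : Submodule.span A ((J : Set P)) = K := by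
    refine @Groth.Agent.S8369.result A _ n hn P _ _ K (by assumption) (J : Set P) hsub (le_antisymm ?_ ?_)
    · exact Submodule.map_mono (Submodule.span_le.2 hsub)
    · rintro _ ⟨m, hm, rfl⟩
      have hm1 : π m ∈ Ideal.map π J := by
        refine Ideal.span_le.2 ?_ ((hTk (π m)).2 (by rw [hgπ, show f m = 0 from hm, map_zero]))
        intro q hq
        rw [show q = π (lift q (hTz q hq)) from (hlift2 _ _).symm]
        exact Ideal.mem_map_of_mem _ (Ideal.subset_span (Finset.mem_image.2 ⟨⟨q, hq⟩, Finset.mem_attach _ _, rfl⟩))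
      obtain ⟨j, hj, hje⟩ := (Ideal.mem_map_iff_of_surjective _ hπ).1 hm1
      refine ⟨j, Submodule.subset_span hj, ?_⟩
      rw [Submodule.mkQ_apply, Submodule.mkQ_apply, Submodule.Quotient.eq, Ideal.smul_top_eq_map]
      show j - m ∈ n.map (algebraMap A P)
      rw [← hkerπ, RingHom.mem_ker, map_sub, hje, sub_self]
  refine Algebra.FinitePresentation.of_surjective hf ⟨T', le_antisymm hJle fun m hm => ?_⟩
  have : m ∈ Submodule.span A ((J : Set P)) := hJ.ge hm
  have hle' : Submodule.span A ((J : Set P)) ≤ Submodule.restrictScalars A J :=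
    Submodule.span_le.2 fun _ h => h
  exact hle' this

end Groth.Agent.S5338
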