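import Groth.Statements.S5339
import Groth.Agent.Lib.ActSep.LftSpread
import Groth.Agent.Lib.ActSep.Spread
-- import your own Groth.Agent.* helpers here

set_option autoImplicit false
set_option backward.isDefEq.respectTransparency false
set_option backward.isDefEq.respectTransparency.types false
universe u
open CategoryTheory CategoryTheory.Limits MonoidalCategory CartesianMonoidalCategory MonObj GrpObj AlgebraicGeometry
open SGA3

namespace Groth.Agent.S5339

/-- Let A be a local artinian ring and G a flat A-group scheme (not assumed locally of finite type). If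
G is locally quasi-finite and locally of finite type (resp. unramified, resp. smooth, resp. etale)
over A on some nonempty open subscheme, then G is locally quasi-finite and locally of finite type
(resp. unramified, resp. smooth, resp. etale) over A. -/
theorem result (A : Type u) [CommRing A] [IsArtinianRing A] [IsLocalRing A] (G : Over (Spec (CommRingCat.of A))) [GrpObj G] [Flat G.hom]
    (W : G.left.Opens) (hW : (W : Set G.left).Nonempty) :
    (LocallyQuasiFinite (W.ι ≫ G.hom) → LocallyOfFiniteType (W.ι ≫ G.hom) → LocallyQuasiFinite G.hom ∧ LocallyOfFiniteType G.hom) ∧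
    (FormallyUnramified (W.ι ≫ G.hom) → LocallyOfFinitePresentation (W.ι ≫ G.hom) →
      FormallyUnramified G.hom ∧ LocallyOfFinitePresentation G.hom) ∧
    (Smooth (W.ι ≫ G.hom) → Smooth G.hom) ∧ (Etale (W.ι ≫ G.hom) → Etale G.hom) := by
  have : Subsingleton ↥(Spec (CommRingCat.of A)) := inferInstanceAs (Subsingleton (PrimeSpectrum A))
  have : IsLocallyNoetherian (Spec (CommRingCat.of A)) := inferInstance
  have he : lift (snd G G * fst G G) (snd G G) ≫ (toUnit G ▷ G) =
      (toUnit G ▷ G) ≫ (Iso.refl (𝟙_ (Over (Spec (CommRingCat.of A))) ⊗ G)).hom := by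
    apply CartesianMonoidalCategory.hom_ext
    · exact toUnit_unique _ _
    · simp
  obtain ⟨w, hw⟩ := hW
  have mem : ∀ {P : MorphismProperty Scheme.{u}}, P (W.ι ≫ G.hom) →
      w ∈ Groth.Agent.Lib.ActSep.nhdLocus P (toUnit G).left := fun h => ⟨W, hw, h⟩
  have lft : LocallyOfFiniteType (W.ι ≫ G.hom) → LocallyOfFiniteType G.hom := fun h =>
    Groth.Agent.Lib.ActSep.locallyOfFiniteType_of_open G W ⟨w, hw⟩
  have lfp : LocallyOfFiniteType G.hom → LocallyOfFinitePresentation G.hom := fun h => inferInstance
  refine ⟨fun h h' => ?_, fun h h' => ?_, fun h => ?_, fun h => ?_⟩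
  · have hft := lft h'
    have : LocallyOfFiniteType (toUnit G).left := hft
    exact ⟨Groth.Agent.Lib.ActSep.spread_pointwiseBC (toUnit G) _ he
      Groth.Agent.Lib.ActSep.pointwiseBC_locallyQuasiFinite (mem h), hft⟩
  · have hft := lft inferInstance
    have : LocallyOfFiniteType (toUnit G).left := hft
    exact ⟨Groth.Agent.Lib.ActSep.spread_pointwiseBC (toUnit G) _ he
      Groth.Agent.Lib.ActSep.pointwiseBC_formallyUnramified (mem h), lfp hft⟩
  · have := lfp (lft inferInstance)
    have : LocallyOfFinitePresentation (toUnit G).left := this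
    exact Groth.Agent.Lib.ActSep.spread_flatBC (toUnit G) _ he Groth.Agent.Lib.ActSep.flatBC_smooth (mem h)
  · have := lfp (lft inferInstance)
    have : LocallyOfFinitePresentation (toUnit G).left := this
    exact Groth.Agent.Lib.ActSep.spread_flatBC (toUnit G) _ he Groth.Agent.Lib.ActSep.flatBC_etale (mem h)

end Groth.Agent.S5339
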