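import Groth.Statements.S5343
import Mathlib.Algebra.Module.Projective
import Mathlib.LinearAlgebra.Matrix.Adjugate
import Mathlib.RingTheory.Spectrum.Prime.Topology
import Mathlib.RingTheory.Ideal.GoingUp

set_option autoImplicit false
universe u
open CategoryTheory CategoryTheory.Limits MonoidalCategory CartesianMonoidalCategory MonObj GrpObj AlgebraicGeometry
open SGA3

namespace Groth.Agent.S5343

/-- Let R be a commutative ring and B a commutative R-algebra which is projective as an R-module. Then
the image of Spec B → Spec R is an open and closed subset of Spec R. (The published statement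
concerns a quasi-coherent algebra on any scheme which is a direct summand of a free module; this row
is the affine case.) -/
theorem result (R B : Type u) [CommRing R] [CommRing B] [Algebra R B] [Module.Projective R B] :
    IsClopen (Set.range (PrimeSpectrum.comap (algebraMap R B))) := by
  classical
  -- `T`: the ideal generated by all coordinates
  let T : Set R := {r | ∃ (f : B →ₗ[R] R) (b : B), f b = r}
  have h1 : ∀ p : PrimeSpectrum R, p ∈ Set.range (PrimeSpectrum.comap (algebraMap R B)) ↔
      ¬ T ⊆ p.asIdeal := by
    intro p
    rw [PrimeSpectrum.mem_range_comap_iff]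
    constructor
    · intro hp hT
      obtain ⟨g, hg⟩ := Module.projective_def'.1 (inferInstance : Module.Projective R B)
      have hb : ∀ b : B, b ∈ p.asIdeal.map (algebraMap R B) := by
        intro b
        have hb := LinearMap.congr_fun hg b
        rw [LinearMap.comp_apply, Finsupp.linearCombination_apply] at hb
        rw [show b = (g b).sum fun x r => r • id x from hb.symm]
        refine Submodule.sum_mem _ fun x _ => ?_
        show g b x • id x ∈ _
        rw [Algebra.smul_def]
        exact Ideal.mul_mem_right _ _ (Ideal.mem_map_of_mem _ (hT ⟨(Finsupp.lapply x).comp g, b, rfl⟩))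
      exact p.isPrime.ne_top (hp ▸ by
        rw [Ideal.eq_top_iff_one, Ideal.mem_comap]
        exact hb _)
    · intro hT
      refine le_antisymm (fun r hr => ?_) Ideal.le_comap_map
      obtain ⟨x, ⟨f, b, rfl⟩, hx⟩ := Set.not_subset.1 hT
      have hf : ∀ y ∈ p.asIdeal.map (algebraMap R B), f y ∈ p.asIdeal := by
        intro y hy
        rw [← Submodule.restrictScalars_mem R, ← Ideal.smul_top_eq_map] at hy
        refine Submodule.smul_induction_on hy (fun r hr z _ => ?_) (fun _ _ h h' => by rw [map_add]; exact p.asIdeal.add_mem h h')
        rw [map_smul]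
        exact Ideal.mul_mem_right _ _ hr
      have := hf _ (Ideal.mul_mem_right b _ (Ideal.mem_comap.1 hr))
      rw [← Algebra.smul_def, map_smul, smul_eq_mul] at this
      exact (p.isPrime.mem_or_mem this).resolve_right hx
  constructor
  · rw [← isOpen_compl_iff, isOpen_iff_forall_mem_open]
    intro p hp
    have hT : T ⊆ p.asIdeal := by
      by_contra h
      exact hp ((h1 p).2 h)
    obtain ⟨g, hg⟩ := Module.projective_def'.1 (inferInstance : Module.Projective R B)
    let Idx := (g 1).support
    let c : Idx → R := fun i => g 1 i
    let M : Matrix Idx Idx R := fun i j => g j.1 i.1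
    have hone : (1 : B) = ∑ j : Idx, c j • (j.1 : B) := by
      have := LinearMap.congr_fun hg (1 : B)
      rw [LinearMap.comp_apply, Finsupp.linearCombination_apply] at this
      rw [Finset.sum_coe_sort (g 1).support (fun x => g 1 x • x)]
      exact this.symm
    have hc : Matrix.mulVec (1 - M) c = 0 := by
      funext i
      have h := congrArg (fun x => g x i.1) hone
      simp only [map_sum, map_smul, Finsupp.coe_finset_sum, Finset.sum_apply, Finsupp.coe_smul,
        Pi.smul_apply, smul_eq_mul] at h
      rw [Matrix.sub_mulVec, Matrix.one_mulVec, Pi.sub_apply, Pi.zero_apply, sub_eq_zero]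
      exact h.trans (Finset.sum_congr rfl fun j _ => mul_comm _ _)
    let d := (1 - M).det
    have hd : d ∉ p.asIdeal := by
      intro hd
      have : Ideal.Quotient.mk p.asIdeal d = 1 := by
        rw [RingHom.map_det, show (Ideal.Quotient.mk p.asIdeal).mapMatrix (1 - M) = 1 from ?_, Matrix.det_one]
        ext i j
        have : Ideal.Quotient.mk p.asIdeal (M i j) = 0 :=
          Ideal.Quotient.eq_zero_iff_mem.2 (hT ⟨(Finsupp.lapply i.1).comp g, j.1, rfl⟩)
        simp [RingHom.mapMatrix_apply, Matrix.map_apply, this, Matrix.one_apply, apply_ite (Ideal.Quotient.mk p.asIdeal)]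
      rw [Ideal.Quotient.eq_zero_iff_mem.2 hd] at this
      exact zero_ne_one this
    have hd1 : algebraMap R B d = 0 := by
      have h := congrArg (Matrix.mulVec (1 - M).adjugate) hc
      rw [Matrix.mulVec_mulVec, Matrix.adjugate_mul, Matrix.smul_mulVec, Matrix.one_mulVec,
        Matrix.mulVec_zero] at h
      rw [Algebra.algebraMap_eq_smul_one, hone, Finset.smul_sum]
      refine Finset.sum_eq_zero fun j _ => ?_
      rw [smul_smul, show d * c j = 0 from congrFun h j, zero_smul]
    refine ⟨PrimeSpectrum.basicOpen d, ?_, (PrimeSpectrum.basicOpen d).2, hd⟩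
    rintro q hq ⟨P, rfl⟩
    apply hq
    show algebraMap R B d ∈ P.asIdeal
    rw [hd1]
    exact P.asIdeal.zero_mem
  · rw [show Set.range (PrimeSpectrum.comap (algebraMap R B)) = (PrimeSpectrum.zeroLocus T)ᶜ from
      Set.ext fun p => h1 p]
    exact (PrimeSpectrum.isClosed_zeroLocus T).isOpen_compl

end Groth.Agent.S5343
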