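import Groth.Statements.S5346
import Groth.Agent.Lib.ActSep.ThickNil
import Groth.Agent.H30.SysLemmas
import Groth.Agent.Lib.GrpSch.BaseChange

set_option autoImplicit false
universe u
open CategoryTheory CategoryTheory.Limits MonoidalCategory CartesianMonoidalCategory MonObj GrpObj AlgebraicGeometry
open SGA3

namespace Groth.Agent.S5346

/-- Let A be a local artinian ring with residue field k and i : Spec k → Spec A the closed point. (i) If
X is an A-scheme whose base change X ⊗_A k is locally of finite type (resp. of finite type) over k,
then X is locally of finite type (resp. of finite type) over A. (ii) If u : X → Y is a morphism of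
A-schemes whose base change u ⊗_A k is an immersion (resp. a closed immersion), then u is an
immersion (resp. a closed immersion). -/
theorem result (A : Type u) [CommRing A] [IsArtinianRing A] [IsLocalRing A] (X Y : Over (Spec (CommRingCat.of A))) (u : X ⟶ Y) :
    letI i : Spec (CommRingCat.of (IsLocalRing.ResidueField A)) ⟶ (Spec (CommRingCat.of A)) := Spec.map (CommRingCat.ofHom (IsLocalRing.residue A))
    (LocallyOfFiniteType (pullback.snd X.hom i) → LocallyOfFiniteType X.hom) ∧
    (LocallyOfFiniteType (pullback.snd X.hom i) → QuasiCompact (pullback.snd X.hom i) → QuasiCompact X.hom) ∧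
    (IsImmersion ((Over.pullback i).map u).left → IsImmersion u.left) ∧
    (IsClosedImmersion ((Over.pullback i).map u).left → IsClosedImmersion u.left) := by
  let i : Spec (CommRingCat.of (IsLocalRing.ResidueField A)) ⟶ (Spec (CommRingCat.of A)) :=
    Spec.map (CommRingCat.ofHom (IsLocalRing.residue A))
  have : IsClosedImmersion i := IsClosedImmersion.spec_of_surjective _ IsLocalRing.residue_surjective
  have : Surjective i := ⟨fun x => ⟨IsLocalRing.closedPoint (IsLocalRing.ResidueField A),
    Subsingleton.elim (α := PrimeSpectrum A) _ _⟩⟩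
  have hA : IsNoetherianRing A := inferInstance
  have : IsLocallyNoetherian (Spec (CommRingCat.of A)) := inferInstance
  have hI : IsNilpotent (RingHom.ker (i.app ⊤).hom) := by
    have : IsNoetherianRing Γ(Spec (CommRingCat.of A), ⊤) :=
      IsLocallyNoetherian.component_noetherian ⟨⊤, isAffineOpen_top _⟩
    obtain ⟨n, hn⟩ := IsNoetherianRing.isNilpotent_nilradical Γ(Spec (CommRingCat.of A), ⊤)
    exact ⟨n, le_bot_iff.mp ((Ideal.pow_right_mono
      (Groth.Agent.H54.ThickLocal.le_nilradical_of_surjective i (isAffineOpen_top _)) n).trans hn.le)⟩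
  have hX := IsPullback.of_hasPullback X.hom i
  have : IsClosedImmersion (pullback.fst X.hom i) := MorphismProperty.pullback_fst _ _ ‹_›
  have : Surjective (pullback.fst X.hom i) := MorphismProperty.pullback_fst _ _ ‹_›
  refine ⟨fun h => ?_, fun _ h => ?_, fun h => ?_, fun h => ?_⟩
  · exact Groth.Agent.H30.SysLemmas.locallyOfFiniteType_of_thickening hX
  · exact (Groth.Agent.H54.ThickBasic.quasiCompact_iff hX.w).mp h
  · exact Lib.ActSep.isImmersion_of_nilpotent_base hI (Lib.GrpSch.isPullback_bc i Y)
      (Lib.GrpSch.isPullback_bc_map i u).flip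
  · exact Lib.ActSep.isClosedImmersion_of_nilpotent_base hI (Lib.GrpSch.isPullback_bc i Y)
      (Lib.GrpSch.isPullback_bc_map i u).flip

end Groth.Agent.S5346
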