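import Groth.Statements.S5350
import Groth.Agent.Lib.ActSep.HomogBC
-- import your own Groth.Agent.* helpers here

set_option autoImplicit false
set_option backward.isDefEq.respectTransparency false
set_option backward.isDefEq.respectTransparency.types false
universe u
open CategoryTheory CategoryTheory.Limits MonoidalCategory CartesianMonoidalCategory MonObj GrpObj AlgebraicGeometry
open SGA3

namespace Groth.Agent.S5350

open Groth.Agent.Lib.ActSep.HomogX Groth.Agent.Lib.ActSep.MaxPt

/-- Let G be a group scheme over a field k (not assumed of finite type) acting on a k-scheme X so that G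
×_k X → X ×_k X, (g, x) ↦ (gx, x), is surjective; let C⁰ be an irreducible component of G containing
the unit point and U an open subset of X. Let C⁰·U be the image under the action of the set of
points of G ×_k X whose projections lie in C⁰ and in U. Then (i) C⁰·U is open in X and equals the
union of the irreducible components of X whose generic point lies in U; (ii) if U is retrocompact in
X then C⁰·U is the closure of U (so is open and closed). -/
theorem result (k : Type u) [Field k] (G X : Over (Spec (CommRingCat.of k))) [GrpObj G] (a : AlgGrp.Action G X) (hΦ : Surjective (lift a.act (snd G X)).left)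
    (pt : ↥(𝟙_ (Over (Spec (CommRingCat.of k)))).left) (C0 : Set G.left) (hC0 : C0 ∈ irreducibleComponents ↥G.left)
    (he : η[G].left.base pt ∈ C0) (U : X.left.Opens) :
    letI V : Set X.left := a.act.left.base '' {z : ↥(G ⊗ X).left | (fst G X).left.base z ∈ C0 ∧ (snd G X).left.base z ∈ U}
    IsOpen V ∧ V = ⋃₀ {Z : Set X.left | Z ∈ irreducibleComponents ↥X.left ∧ ∃ ξ ∈ U, closure {ξ} = Z} ∧
    (IsRetrocompact (U : Set X.left) → V = closure (U : Set X.left)) := by
  have : Subsingleton ↥(Spec (CommRingCat.of k)) := subsingleton_field k
  obtain rfl : C0 = Groth.Agent.H63.GrpComponent.comp0 G := by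
    refine Groth.Agent.H63.GrpIrred.eq_irreducibleComponent G hC0 ?_
    have : pt = IsLocalRing.closedPoint k := Subsingleton.elim (α := ↥(Spec (CommRingCat.of k))) _ _
    subst this
    exact he
  show IsOpen (satX a (U : Set X.left)) ∧ satX a (U : Set X.left) = _ ∧ (_ → satX a (U : Set X.left) = _)
  refine ⟨isOpen_satX a U.isOpen, ?_, satX_eq_closure a hΦ⟩
  rw [satX_eq a hΦ U.isOpen]
  ext y
  constructor
  · exact fun hy => ⟨closure {genX y}, ⟨closure_genX_mem a hΦ y, genX y, hy, rfl⟩, (genX_specializes y).mem_closure⟩
  · rintro ⟨Z, ⟨hZ, ξ, hξU, rfl⟩, hyZ⟩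
    have h := eq_closure_genX a hΦ hZ hyZ
    show genX y ∈ (U : Set X.left)
    rwa [← ((specializes_iff_closure_subset.2 h.ge).antisymm (specializes_iff_closure_subset.2 h.le)).eq]

end Groth.Agent.S5350
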