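import Groth.Statements.S5354
import Groth.Agent.Lib.ActSep.DensePair
import Groth.Agent.Lib.SchTopo.Closure

set_option autoImplicit false
universe u
open CategoryTheory CategoryTheory.Limits MonoidalCategory CartesianMonoidalCategory MonObj GrpObj AlgebraicGeometry
open SGA3

namespace Groth.Agent.S5354

open Groth.Agent.Lib.SchTopo.Closure

/-- Let G be a group scheme over a field k (not assumed of finite type). For every point x of G there is
a point z of G ×_k G with product x whose two projections are maximal points of G (generic points of
irreducible components). -/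
theorem result (k : Type u) [Field k] (G : Over (Spec (CommRingCat.of k))) [GrpObj G] (x : G.left) :
    ∃ z : ↥(G ⊗ G).left, μ[G].left.base z = x ∧
      closure {(fst G G).left.base z} ∈ irreducibleComponents ↥G.left ∧
      closure {(snd G G).left.base z} ∈ irreducibleComponents ↥G.left := by
  let r : Spec (G.left.residueField x) ⟶ Spec (CommRingCat.of k) := G.left.fromSpecResidueField x ≫ G.hom
  let T : Over (Spec (CommRingCat.of k)) := Over.mk r
  let gT : T ⟶ G := Over.homMk (G.left.fromSpecResidueField x) rfl
  have : Flat (fst G T).left := inferInstanceAs (Flat (pullback.fst G.hom r))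
  have hgen := Flat.generalizingMap (fst G T).left
  obtain ⟨φ, hφ⟩ := Groth.Agent.Lib.ActSep.exists_flip G T gT
  obtain ⟨y, hy, -⟩ := exists_maximal_specializes (G ⊗ T).left
    ((lift gT (𝟙 T)).left (IsLocalRing.closedPoint (G.left.residueField x)))
  have hmax : ∀ w, closure {w} ∈ irreducibleComponents ↥(G ⊗ T).left →
      closure {(fst G T).left w} ∈ irreducibleComponents ↥G.left := fun w hw =>
    maximal_of_forall_eq fun b hb => by
      obtain ⟨c, hc, rfl⟩ := hgen hb
      rw [eq_of_specializes_of_closure_mem hw hc]
  have hφy : closure {φ y} ∈ irreducibleComponents ↥(G ⊗ T).left :=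
    maximal_of_forall_eq fun b hb => by
      have : φ.symm b = y := eq_of_specializes_of_closure_mem hy (by simpa using hb.map φ.symm.continuous)
      rw [← this, φ.apply_symm_apply]
  obtain ⟨z, h1, h2, h3⟩ := hφ y
  refine ⟨z, ?_, ?_, ?_⟩
  · show μ[G].left z = x
    rw [h3]
    exact G.left.fromSpecResidueField_apply x _
  · show closure {(fst G G).left z} ∈ _
    rw [h1]; exact hmax y hy
  · show closure {(snd G G).left z} ∈ _
    rw [h2]; exact hmax _ hφy

end Groth.Agent.S5354
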