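import Groth.Statements.S5356
import Groth.Agent.H22.Nil
import Groth.Agent.Lib.DescAlg.FpqcCover
import Groth.Agent.Lib.DescAlg.Descends
import Mathlib.RingTheory.Artinian.Module
import Mathlib.RingTheory.SimpleModule.InjectiveProjective

set_option autoImplicit false
universe u
open CategoryTheory CategoryTheory.Limits MonoidalCategory CartesianMonoidalCategory MonObj GrpObj AlgebraicGeometry
open SGA3

namespace Groth.Agent.S5356

theorem projective_of_flat_artinian {R : Type u} [CommRing R] [IsArtinianRing R] (M : Type u) [AddCommGroup M]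
    [Module R M] [Module.Flat R M] : Module.Projective R M := by
  have : IsSemisimpleRing (R ⧸ Ring.jacobson R) := IsSemiprimaryRing.isSemisimpleRing
  have := Module.projective_of_isSemisimpleRing (R ⧸ Ring.jacobson R) (TensorProduct R (R ⧸ Ring.jacobson R) M)
  exact H22.Nil.projective_of_quotient (I := Ring.jacobson R) IsSemiprimaryRing.isNilpotent

theorem projective_baseChange {V S' V' S'' : Scheme.{u}} [IsAffine V] [IsAffine S'] [IsAffine S'']
    {m : V' ⟶ V} {a' : V' ⟶ S''} {a : V ⟶ S'} {b : S'' ⟶ S'} (h : IsPullback m a' a b)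
    (hproj : letI := a.appTop.hom.toAlgebra; Module.Projective Γ(S', ⊤) Γ(V, ⊤)) :
    letI := a'.appTop.hom.toAlgebra; Module.Projective Γ(S'', ⊤) Γ(V', ⊤) := by
  have hp := (isPushout_appTop_of_isPullback h).flip
  letI := a.appTop.hom.toAlgebra
  letI := a'.appTop.hom.toAlgebra
  letI := b.appTop.hom.toAlgebra
  letI := m.appTop.hom.toAlgebra
  letI : Algebra Γ(S', ⊤) Γ(V', ⊤) := (b.appTop ≫ a'.appTop).hom.toAlgebra
  have : IsScalarTower Γ(S', ⊤) Γ(S'', ⊤) Γ(V', ⊤) := IsScalarTower.of_algebraMap_eq' rfl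
  have : IsScalarTower Γ(S', ⊤) Γ(V, ⊤) Γ(V', ⊤) := IsScalarTower.of_algebraMap_eq' (by
    show (b.appTop ≫ a'.appTop).hom = (a.appTop ≫ m.appTop).hom
    rw [← Scheme.Hom.comp_appTop, ← Scheme.Hom.comp_appTop, h.w])
  have hP : Algebra.IsPushout Γ(S', ⊤) Γ(S'', ⊤) Γ(V, ⊤) Γ(V', ⊤) :=
    CommRingCat.isPushout_iff_isPushout.mp hp
  exact Module.Projective.of_equiv hP.out.equiv

/-- b), c) (first assertion of c)): (a) an essentially free morphism f : X → S is flat, and conversely
if S is the spectrum of an artinian ring every flat S-scheme is essentially free over S; (b) every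
scheme over a field is essentially free over it; (c) if X is essentially free over S then X ×_S S'
is essentially free over S' for every S' → S. -/
theorem result :
    (∀ (X S : Scheme.{u}) (f : X ⟶ S), SGA3x.IsEssentiallyFree f → Flat f) ∧
    (∀ (A : Type u) [CommRing A] [IsArtinianRing A] (X : Scheme.{u}) (f : X ⟶ Spec (CommRingCat.of A)),
      Flat f → SGA3x.IsEssentiallyFree f) ∧
    (∀ (k : Type u) [Field k] (X : Scheme.{u}) (f : X ⟶ Spec (CommRingCat.of k)), SGA3x.IsEssentiallyFree f) ∧
    (∀ (X S S' : Scheme.{u}) (f : X ⟶ S) (g : S' ⟶ S), SGA3x.IsEssentiallyFree f →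
      SGA3x.IsEssentiallyFree (pullback.snd f g)) := by
  have hA : ∀ (A : Type u) [CommRing A] [IsArtinianRing A] (X : Scheme.{u}) (f : X ⟶ Spec (CommRingCat.of A)),
      Flat f → SGA3x.IsEssentiallyFree f := by
    intro A _ _ X f hf s
    refine ⟨⊤, trivial, isAffineOpen_top _, Spec (CommRingCat.of A), inferInstance,
      (Scheme.topIso (Spec (CommRingCat.of A))).inv, inferInstance, inferInstance, fun x => ?_⟩
    let q := (Scheme.topIso (Spec (CommRingCat.of A))).inv ≫ (⊤ : (Spec (CommRingCat.of A)).Opens).ι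
    obtain ⟨V, hV, hxV, -⟩ := exists_isAffineOpen_mem_and_subset (X := pullback f q) (x := x) (U := ⊤) trivial
    refine ⟨V, hxV, hV, ?_⟩
    have : IsAffine (V : Scheme.{u}) := hV
    have : Flat (V.ι ≫ pullback.snd f q) := inferInstance
    have hflat := (V.ι ≫ pullback.snd f q).flat_appTop
    letI := (V.ι ≫ pullback.snd f q).appTop.hom.toAlgebra
    have : Module.Flat Γ(Spec (CommRingCat.of A), ⊤) Γ(↑V, ⊤) := hflat
    have : IsArtinianRing Γ(Spec (CommRingCat.of A), ⊤) :=
      (Scheme.ΓSpecIso (CommRingCat.of A)).commRingCatIsoToRingEquiv.symm.isArtinianRing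
    exact projective_of_flat_artinian _
  refine ⟨?_, hA, fun k _ X f => hA k X f inferInstance, ?_⟩
  · intro X S f hf
    choose U hsU hU S' hS' g hg1 hg2 hcov using hf
    refine IsZariskiLocalAtTarget.of_iSup_eq_top (P := @Flat) U (top_unique fun s _ =>
      TopologicalSpace.Opens.mem_iSup.2 ⟨s, hsU s⟩) fun s => ?_
    have : IsAffine (U s : Scheme.{u}) := hU s
    have := hS' s
    have := hg1 s
    have := hg2 s
    have hT : Flat (pullback.snd f (g s ≫ (U s).ι)) := by
      choose V hxV hV hproj using hcov s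
      refine IsZariskiLocalAtSource.of_openCover ((pullback f (g s ≫ (U s).ι)).openCoverOfIsOpenCover V
        (top_unique fun x _ => TopologicalSpace.Opens.mem_iSup.2 ⟨x, hxV x⟩)) fun (x : ↥(pullback f (g s ≫ (U s).ι))) => ?_
      show Flat ((V x).ι ≫ pullback.snd f (g s ≫ (U s).ι))
      have : IsAffine (V x : Scheme.{u}) := hV x
      rw [HasRingHomProperty.iff_of_isAffine (P := @Flat)]
      letI := ((V x).ι ≫ pullback.snd f (g s ≫ (U s).ι)).appTop.hom.toAlgebra
      have := hproj x
      exact (inferInstance : Module.Flat Γ(S' s, ⊤) Γ(↑(V x), ⊤))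
    have hD := Lib.DescAlg.Descends.descends_flat.{u}
    have : Flat (pullback.snd f (U s).ι) := by
      refine MorphismProperty.of_pullback_snd_of_descendsAlong (P := @Flat) (Q := @Surjective ⊓ @Flat ⊓ @QuasiCompact)
        (g := g s) ⟨⟨hg2 s, hg1 s⟩, inferInstance⟩ ?_
      rwa [Lib.DescAlg.FpqcCover.snd_iff @Flat]
    exact (MorphismProperty.arrow_mk_iso_iff @Flat (morphismRestrictEq f (by simp) ≪≫ morphismRestrictOpensRange f (U s).ι)).2 this
  · intro X S S₁ f g hf s₁
    obtain ⟨U, hsU, hU, S', hS', g₀, hg1, hg2, hcov⟩ := hf (g s₁)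
    obtain ⟨U₁, hU₁, hs₁, hle⟩ := exists_isAffineOpen_mem_and_subset (X := S₁) (x := s₁) (U := g ⁻¹ᵁ U) hsU
    have : IsAffine (U : Scheme.{u}) := hU
    have : IsAffine (U₁ : Scheme.{u}) := hU₁
    let e := g.resLE U U₁ hle
    refine ⟨U₁, hs₁, hU₁, pullback g₀ e, inferInstance, pullback.snd g₀ e, inferInstance, inferInstance, fun x => ?_⟩
    let q₁ := pullback.snd g₀ e ≫ U₁.ι
    let q := g₀ ≫ U.ι
    let b := pullback.fst g₀ e
    have hw : q₁ ≫ g = b ≫ q := by
      simp only [q₁, q, b, Category.assoc]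
      rw [pullback.condition_assoc, Scheme.Hom.resLE_comp_ι]
    let m : pullback (pullback.snd f g) q₁ ⟶ pullback f q :=
      pullback.lift (pullback.fst (pullback.snd f g) q₁ ≫ pullback.fst f g) (pullback.snd (pullback.snd f g) q₁ ≫ b) (by
        rw [Category.assoc, Category.assoc, pullback.condition, pullback.condition_assoc]
        exact congrArg _ hw)
    have hm : IsPullback m (pullback.snd (pullback.snd f g) q₁) (pullback.snd f q) b := by
      refine IsPullback.of_right ?_ (pullback.lift_snd _ _ _) (IsPullback.of_hasPullback f q)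
      rw [pullback.lift_fst, ← hw]
      exact (IsPullback.of_hasPullback (pullback.snd f g) q₁).paste_horiz (IsPullback.of_hasPullback f g)
    obtain ⟨V, hxV, hV, hproj⟩ := hcov (m x)
    have : IsAffine (V : Scheme.{u}) := hV
    have : IsAffineHom b := inferInstance
    have : IsAffineHom m := MorphismProperty.of_isPullback hm.flip ‹IsAffineHom b›
    refine ⟨m ⁻¹ᵁ V, hxV, hV.preimage m, ?_⟩
    exact projective_baseChange ((isPullback_morphismRestrict m V).paste_vert hm) hproj

end Groth.Agent.S5356
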