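import Groth.Statements.S5358
import Groth.Agent.Lib.FreeRes.GrpTransp
import Groth.Agent.H63.GrpdField
import Groth.Agent.H63.GrpToGrpd

set_option autoImplicit false
universe u
open CategoryTheory CategoryTheory.Limits MonoidalCategory CartesianMonoidalCategory MonObj GrpObj AlgebraicGeometry
open SGA3

namespace Groth.Agent.S5358

/-- Let G be a group scheme over a field k, y' : Y' → G an immersion and y : Y → G a closed immersion.
(ii) The transporter of Y' into Y, whose points with values in S' are the g such that conjugation by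
g carries every point of Y' (after any base change S'' → S') into Y, is represented by a closed
subscheme of G; if y' is also a closed immersion, so is the strict transporter (g Y' g⁻¹ = Y
functorially). (iii) For every subgroup scheme h : H → G (a homomorphism which is an immersion), the
normalizer of H in G is represented by a closed subscheme of G. -/
theorem result (k : Type u) [Field k] (G Y Y' : Over (Spec (CommRingCat.of k))) [GrpObj G]
    (y : Y ⟶ G) [IsClosedImmersion y.left] (y' : Y' ⟶ G) [IsImmersion y'.left] :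
    (∃ (T : Over (Spec (CommRingCat.of k))) (t : T ⟶ G), IsClosedImmersion t.left ∧
      ∀ (S' : Over (Spec (CommRingCat.of k))) (g : S' ⟶ G), (∃ z : S' ⟶ T, z ≫ t = g) ↔
        ∀ (S'' : Over (Spec (CommRingCat.of k))) (s : S'' ⟶ S') (x : S'' ⟶ Y'),
          ∃ x' : S'' ⟶ Y, (s ≫ g) * (x ≫ y') * (s ≫ g)⁻¹ = x' ≫ y) ∧
    (IsClosedImmersion y'.left →
      ∃ (T : Over (Spec (CommRingCat.of k))) (t : T ⟶ G), IsClosedImmersion t.left ∧
      ∀ (S' : Over (Spec (CommRingCat.of k))) (g : S' ⟶ G), (∃ z : S' ⟶ T, z ≫ t = g) ↔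
        ((∀ (S'' : Over (Spec (CommRingCat.of k))) (s : S'' ⟶ S') (x : S'' ⟶ Y'),
          ∃ x' : S'' ⟶ Y, (s ≫ g) * (x ≫ y') * (s ≫ g)⁻¹ = x' ≫ y) ∧
        (∀ (S'' : Over (Spec (CommRingCat.of k))) (s : S'' ⟶ S') (x' : S'' ⟶ Y),
          ∃ x : S'' ⟶ Y', (s ≫ g)⁻¹ * (x' ≫ y) * (s ≫ g) = x ≫ y'))) ∧
    (∀ (H : Over (Spec (CommRingCat.of k))) [GrpObj H] (h : H ⟶ G) [IsMonHom h] [IsImmersion h.left],
      ∃ (N : Over (Spec (CommRingCat.of k))) (_ : GrpObj N) (n : N ⟶ G), IsClosedImmersion n.left ∧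
        Red.IsNormalizerOf h n) := by
  have hfree : ∀ X : Over (Spec (CommRingCat.of k)), SGA3x.IsEssentiallyFree X.hom :=
    fun X => Groth.Agent.Lib.FreeRes.isEssentiallyFree_field _
  refine ⟨?_, fun hy' => ?_, fun H _ h _ _ => ?_⟩
  · obtain ⟨T, t, ht, hT, -⟩ := Groth.Agent.Lib.FreeRes.exists_transporter y y' (hfree _)
    exact ⟨T, t, ht, fun S' g => hT g⟩
  · obtain ⟨T, t, ht, hT⟩ := Groth.Agent.Lib.FreeRes.exists_strictTransporter y y' (hfree _) (hfree _)
    exact ⟨T, t, ht, fun S' g => hT g⟩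
  · have : IsIso (Groth.Agent.H63.GrpToGrpd.ofHom h).fU := inferInstanceAs (IsIso (𝟙 _))
    have : IsIntegral (Groth.Agent.H63.GrpToGrpd.ofGrp G).U :=
      inferInstanceAs (IsIntegral (Spec (CommRingCat.of k)))
    have : Subsingleton (Groth.Agent.H63.GrpToGrpd.ofGrp G).U :=
      inferInstanceAs (Subsingleton (PrimeSpectrum k))
    have hcl : IsClosed (Set.range h.left) :=
      Groth.Agent.H63.GrpdField.isClosed_img (Groth.Agent.H63.GrpToGrpd.ofHom h)
        h.left.isLocallyClosed_range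
    have := IsClosedImmersion.of_isPreimmersion h.left hcl
    obtain ⟨N, M, n, hn, hnm, hmono, hN⟩ :=
      Groth.Agent.Lib.FreeRes.exists_normalizer h (hfree H)
    exact ⟨N, M, n, hn, hnm, hmono, fun X g => (hN g).trans
      ⟨fun hh X' x a => ⟨hh.1 X' x a, hh.2 X' x a⟩,
        fun hh => ⟨fun X' x a => (hh X' x a).1, fun X' x a => (hh X' x a).2⟩⟩⟩

end Groth.Agent.S5358
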