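import Groth.Statements.S5359
import Groth.Agent.Lib.EndoIso.Descend

set_option autoImplicit false
universe u
open CategoryTheory CategoryTheory.Limits MonoidalCategory CartesianMonoidalCategory MonObj GrpObj AlgebraicGeometry
open SGA3

namespace Groth.Agent.S5359

/-- Let G be an S-group scheme and u : X → G a monomorphism of S-schemes with X of finite presentation
over S. If a point g : T → G is such that, for every T' → T and every point x of X with values in
T', the conjugate g x g⁻¹ is again a point of X, then the same holds for g⁻¹: the transporter of X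
into X coincides with the strict transporter (the normalizer of X). -/
theorem result (S : Scheme.{u}) (G X : Over S) [GrpObj G] (u : X ⟶ G) [Mono u]
    [LocallyOfFinitePresentation X.hom] [QuasiCompact X.hom] [QuasiSeparated X.hom]
    (T : Over S) (g : T ⟶ G)
    (hg : ∀ (T' : Over S) (t : T' ⟶ T) (x : T' ⟶ X), ∃ x' : T' ⟶ X, (t ≫ g) * (x ≫ u) * (t ≫ g)⁻¹ = x' ≫ u) :
    ∀ (T' : Over S) (t : T' ⟶ T) (x : T' ⟶ X), ∃ x' : T' ⟶ X, (t ≫ g)⁻¹ * (x ≫ u) * (t ≫ g) = x' ≫ u := by
  haveI : LocallyOfFinitePresentation (fst T X).left :=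
    MorphismProperty.pullback_fst (P := @LocallyOfFinitePresentation) _ _ ‹_›
  haveI : QuasiCompact (fst T X).left :=
    MorphismProperty.pullback_fst (P := @QuasiCompact) _ _ ‹_›
  haveI : QuasiSeparated (fst T X).left :=
    MorphismProperty.pullback_fst (P := @QuasiSeparated) _ _ ‹_›
  obtain ⟨w, hw⟩ := hg (T ⊗ X) (fst T X) (snd T X)
  let c : T ⊗ X ⟶ T ⊗ X := lift (fst T X) w
  have hcomp : ∀ {T' : Over S} (a : T' ⟶ T ⊗ X), (a ≫ w) ≫ u =
      ((a ≫ fst T X) ≫ g) * ((a ≫ snd T X) ≫ u) * ((a ≫ fst T X) ≫ g)⁻¹ := fun a => by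
    rw [Category.assoc, ← hw, MonObj.comp_mul, MonObj.comp_mul, GrpObj.comp_inv]
    simp only [Category.assoc]
  haveI : Mono c := ⟨fun {T'} a b h => by
    have h1 : a ≫ fst T X = b ≫ fst T X := by simpa [c] using congrArg (· ≫ fst T X) h
    have h2 : a ≫ w = b ≫ w := by simpa [c] using congrArg (· ≫ snd T X) h
    have h3 := hcomp a
    rw [h2, hcomp b, h1, mul_left_inj, mul_right_inj, cancel_mono] at h3
    exact CartesianMonoidalCategory.hom_ext _ _ h1 h3.symm⟩
  haveI : IsIso c.left := by
    refine Lib.EndoIso.isIso_of_mono (fst T X).left c.left ?_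
    rw [← Over.comp_left, lift_fst]
  haveI : IsIso ((Over.forget S).map c) := inferInstanceAs (IsIso c.left)
  haveI : IsIso c := isIso_of_reflects_iso c (Over.forget S)
  intro T' t x
  obtain ⟨z, hz⟩ : ∃ z : T' ⟶ T ⊗ X, z ≫ c = lift t x :=
    ⟨lift t x ≫ CategoryTheory.inv c, by simp⟩
  have h1 : z ≫ fst T X = t := by simpa [c] using congrArg (· ≫ fst T X) hz
  have h2 : z ≫ w = x := by simpa [c] using congrArg (· ≫ snd T X) hz
  have h3 := hcomp z
  rw [h1, h2] at h3
  refine ⟨z ≫ snd T X, ?_⟩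
  rw [h3]
  group

end Groth.Agent.S5359
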