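import Groth.Statements.S5360
import Groth.Agent.Lib.EndoIso.Descend

set_option autoImplicit false
universe u
open CategoryTheory CategoryTheory.Limits MonoidalCategory CartesianMonoidalCategory MonObj GrpObj AlgebraicGeometry
open SGA3

set_option linter.style.haveILetI false

namespace Groth.Agent.S5360
theorem isIso_shear {S : Scheme.{u}} {G P : Over S} (p : P ⟶ G)
    [LocallyOfFinitePresentation p.left] [QuasiCompact p.left] [QuasiSeparated p.left]
    (s : P ⟶ P) (hs : s ≫ p = p) (hinj : ∀ {T : Over S} (a b : T ⟶ P), a ≫ s = b ≫ s → a = b) :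
    IsIso s := by
  haveI : Mono s := ⟨fun a b h => hinj a b h⟩
  haveI : IsIso s.left := by
    refine Lib.EndoIso.isIso_of_mono p.left s.left ?_
    rw [← Over.comp_left, hs]
  haveI : IsIso ((Over.forget S).map s) := inferInstanceAs (IsIso s.left)
  exact isIso_of_reflects_iso s (Over.forget S)


/-- Let G be an S-scheme of finite presentation over S with an associative composition law m : G ×_S G →
G such that for every S-scheme S' and every point g of G with values in S' the left and right
translations by g are injective on G(S'), and such that G has an S-point. Then G is an S-group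
scheme: there is a group object structure on G over S whose multiplication is m. -/
theorem result (S : Scheme.{u}) (G : Over S)
    [LocallyOfFinitePresentation G.hom] [QuasiCompact G.hom] [QuasiSeparated G.hom]
    (m : G ⊗ G ⟶ G) (hassoc : (m ▷ G) ≫ m = (α_ G G G).hom ≫ (G ◁ m) ≫ m)
    (hl : ∀ (T : Over S) (g : T ⟶ G), Function.Injective (fun x : T ⟶ G => lift g x ≫ m))
    (hr : ∀ (T : Over S) (g : T ⟶ G), Function.Injective (fun x : T ⟶ G => lift x g ≫ m))
    (e : 𝟙_ (Over S) ⟶ G) :
    ∃ inst : GrpObj G, inst.mul = m := by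
  haveI : LocallyOfFinitePresentation (fst G G).left :=
    MorphismProperty.pullback_fst (P := @LocallyOfFinitePresentation) _ _ ‹_›
  haveI : QuasiCompact (fst G G).left :=
    MorphismProperty.pullback_fst (P := @QuasiCompact) _ _ ‹_›
  haveI : QuasiSeparated (fst G G).left :=
    MorphismProperty.pullback_fst (P := @QuasiSeparated) _ _ ‹_›
  haveI : LocallyOfFinitePresentation (snd G G).left :=
    MorphismProperty.pullback_snd (P := @LocallyOfFinitePresentation) _ _ ‹_›
  haveI : QuasiCompact (snd G G).left :=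
    MorphismProperty.pullback_snd (P := @QuasiCompact) _ _ ‹_›
  haveI : QuasiSeparated (snd G G).left :=
    MorphismProperty.pullback_snd (P := @QuasiSeparated) _ _ ‹_›
  let s : G ⊗ G ⟶ G ⊗ G := lift (fst G G) m
  let r : G ⊗ G ⟶ G ⊗ G := lift m (snd G G)
  have hm : ∀ {T : Over S} (a : T ⟶ G ⊗ G), a ≫ m = lift (a ≫ fst G G) (a ≫ snd G G) ≫ m :=
    fun a => by rw [lift_comp_fst_snd]
  haveI : IsIso s := isIso_shear (fst G G) s (lift_fst _ _) fun {T} a b h => by
    have h1 : a ≫ fst G G = b ≫ fst G G := by simpa [s] using congrArg (· ≫ fst G G) h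
    refine CartesianMonoidalCategory.hom_ext _ _ h1 ?_
    have h2 : a ≫ m = b ≫ m := by simpa [s] using congrArg (· ≫ snd G G) h
    rw [hm a, hm b, h1] at h2
    exact hl T _ h2
  haveI : IsIso r := isIso_shear (snd G G) r (lift_snd _ _) fun {T} a b h => by
    have h1 : a ≫ snd G G = b ≫ snd G G := by simpa [r] using congrArg (· ≫ snd G G) h
    refine CartesianMonoidalCategory.hom_ext _ _ ?_ h1
    have h2 : a ≫ m = b ≫ m := by simpa [r] using congrArg (· ≫ fst G G) h
    rw [hm a, hm b, h1] at h2
    exact hr T _ h2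
  have ha : ∀ {T : Over S} (a b c : T ⟶ G),
      lift (lift a b ≫ m) c ≫ m = lift a (lift b c ≫ m) ≫ m := fun a b c => by
    simpa [lift_whiskerRight_assoc, lift_whiskerLeft_assoc, lift_lift_associator_hom_assoc] using
      congrArg (lift (lift a b) c ≫ ·) hassoc
  let dl : ∀ {T : Over S}, (T ⟶ G) → (T ⟶ G) → (T ⟶ G) := fun a y => lift a y ≫ CategoryTheory.inv s ≫ snd G G
  have hdl : ∀ {T : Over S} (a y : T ⟶ G), lift a (dl a y) ≫ m = y := fun a y => by
    have h1 : CategoryTheory.inv s ≫ fst G G = fst G G := by rw [IsIso.inv_comp_eq]; exact (lift_fst _ _).symm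
    have : lift a (dl a y) = lift a y ≫ CategoryTheory.inv s := by
      refine CartesianMonoidalCategory.hom_ext _ _ ?_ ?_
      · rw [lift_fst, Category.assoc, h1, lift_fst]
      · rw [lift_snd, Category.assoc]
    rw [this, Category.assoc, show CategoryTheory.inv s ≫ m = snd G G by
      rw [IsIso.inv_comp_eq]; exact (lift_snd _ _).symm, lift_snd]
  let u : 𝟙_ (Over S) ⟶ G := dl e e
  let oneT : ∀ T : Over S, T ⟶ G := fun T => toUnit T ≫ u
  have heu : ∀ T : Over S, lift (toUnit T ≫ e) (oneT T) ≫ m = toUnit T ≫ e := fun T => by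
    rw [← comp_lift, Category.assoc, hdl]
  have h1m : ∀ {T : Over S} (y : T ⟶ G), lift (oneT T) y ≫ m = y := fun {T} y => by
    apply hl T (toUnit T ≫ e)
    simp only
    rw [← ha, heu]
  have hm1 : ∀ {T : Over S} (y : T ⟶ G), lift y (oneT T) ≫ m = y := fun {T} y => by
    apply hr T (toUnit T ≫ e)
    simp only
    rw [ha, h1m]
  let invG : G ⟶ G := dl (𝟙 G) (oneT G)
  have hri : lift (𝟙 G) invG ≫ m = oneT G := hdl _ _
  have hli : lift invG (𝟙 G) ≫ m = oneT G := by
    apply hr G invG
    simp only
    rw [ha, hri, hm1, h1m]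
  refine ⟨{ one := u, mul := m, inv := invG, one_mul := ?_, mul_one := ?_, mul_assoc := hassoc, left_inv := hli, right_inv := hri }, rfl⟩
  · have := h1m (snd (𝟙_ (Over S)) G)
    rw [leftUnitor_hom, show u ▷ G = lift (oneT _) (snd _ _) by
      refine CartesianMonoidalCategory.hom_ext _ _ ?_ ?_
      · rw [whiskerRight_fst, lift_fst]; simp only [oneT]; rw [toUnit_unique (toUnit _) (fst _ _)]
      · rw [whiskerRight_snd, lift_snd]]
    exact this
  · have := hm1 (fst G (𝟙_ (Over S)))
    rw [rightUnitor_hom, show G ◁ u = lift (fst _ _) (oneT _) by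
      refine CartesianMonoidalCategory.hom_ext _ _ ?_ ?_
      · rw [whiskerLeft_fst, lift_fst]
      · rw [whiskerLeft_snd, lift_snd]; simp only [oneT]; rw [toUnit_unique (toUnit _) (snd _ _)]]
    exact this

end Groth.Agent.S5360
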