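import Groth.Statements.S5362
import Groth.Agent.Lib.GenSub.ImageMap
import Groth.Agent.Lib.GenSub.Basic
import Groth.Agent.H2.Rigid.Smooth

set_option autoImplicit false
universe u
open CategoryTheory CategoryTheory.Limits MonoidalCategory CartesianMonoidalCategory MonObj GrpObj AlgebraicGeometry
open SGA3

namespace Groth.Agent.S5362

/-- Let G be a group scheme locally of finite type over a field k, and a : A → G, b : B → G two closed
subgroup schemes which are smooth and of finite type over k, such that B normalizes A (conjugating a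
point of A by a point of B gives a point of A). Let i : Γ → G be the smallest closed subgroup scheme
of G through which both a and b factor. Then Γ is reduced and its underlying set is A·B, the image
of A ×_k B under (x, y) ↦ a(x) b(y). -/
theorem result (k : Type u) [Field k] (G A B : Over (Spec (CommRingCat.of k))) [GrpObj G] [GrpObj A] [GrpObj B]
    [LocallyOfFiniteType G.hom] (a : A ⟶ G) [IsMonHom a] [IsClosedImmersion a.left] (b : B ⟶ G) [IsMonHom b]
    [IsClosedImmersion b.left] [Smooth A.hom] [QuasiCompact A.hom] [Smooth B.hom] [QuasiCompact B.hom]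
    (hN : ∀ (T : Over (Spec (CommRingCat.of k))) (y : T ⟶ B) (x : T ⟶ A), ∃ x' : T ⟶ A, (y ≫ b) * (x ≫ a) * (y ≫ b)⁻¹ = x' ≫ a)
    (Γ : Over (Spec (CommRingCat.of k))) [GrpObj Γ] (i : Γ ⟶ G) [IsMonHom i] [IsClosedImmersion i.left]
    (ha : ∃ a' : A ⟶ Γ, a' ≫ i = a) (hb : ∃ b' : B ⟶ Γ, b' ≫ i = b)
    (hmin : ∀ (Γ' : Over (Spec (CommRingCat.of k))) (_ : GrpObj Γ') (i' : Γ' ⟶ G), IsMonHom i' → IsClosedImmersion i'.left →
        (∃ a'' : A ⟶ Γ', a'' ≫ i' = a) → (∃ b'' : B ⟶ Γ', b'' ≫ i' = b) → ∃ j : Γ ⟶ Γ', j ≫ i' = i) :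
    IsReduced Γ.left ∧ Set.range i.left.base = Set.range ((a ⊗ₘ b) ≫ μ[G]).left.base := by
  let W := A ⊗ B
  let pA : W ⟶ G := fst A B ≫ a
  let pB : W ⟶ G := snd A B ≫ b
  let f : W ⟶ G := (a ⊗ₘ b) ≫ μ[G]
  have hf : f = pA * pB := by
    show (a ⊗ₘ b) ≫ μ[G] = lift (fst A B ≫ a) (snd A B ≫ b) ≫ μ[G]
    rw [lift_fst_comp_snd_comp]
  have hsep : IsSeparated G.hom := Lib.GrpSch.isSeparated_of_field G
  have : QuasiCompact W.hom := by
    have := Lib.GrpSch.fst_left_of (P := @QuasiCompact) A ‹QuasiCompact B.hom›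
    show QuasiCompact (A ⊗ B).hom
    rw [← Over.w (fst A B)]
    infer_instance
  have : LocallyOfFiniteType W.hom := by
    have := Lib.GrpSch.fst_left_of (P := @LocallyOfFiniteType) A (show LocallyOfFiniteType B.hom from inferInstance)
    show LocallyOfFiniteType (A ⊗ B).hom
    rw [← Over.w (fst A B)]
    infer_instance
  have : QuasiCompact f.left := by
    have : QuasiCompact (f.left ≫ G.hom) := by rw [Over.w]; infer_instance
    exact QuasiCompact.of_comp f.left G.hom
  have hcf : ∀ {T : Over (Spec (CommRingCat.of k))} (x : T ⟶ A) (y : T ⟶ B), lift x y ≫ f = (x ≫ a) * (y ≫ b) :=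
    fun x y => by simp [hf, pA, pB, MonObj.comp_mul]
  have hf' : ∀ {T : Over (Spec (CommRingCat.of k))} (w : T ⟶ W), w ≫ f = ((w ≫ fst A B) ≫ a) * ((w ≫ snd A B) ≫ b) :=
    fun w => by simp [hf, pA, pB, MonObj.comp_mul]
  let w₁ : W ⊗ W ⟶ W := fst W W
  let w₂ : W ⊗ W ⟶ W := snd W W
  obtain ⟨x', hx'⟩ := hN (W ⊗ W) (w₁ ≫ snd A B) (w₂ ≫ fst A B)
  obtain ⟨x'', hx''⟩ := hN W (snd A B)⁻¹ (fst A B)⁻¹
  obtain ⟨H', hG', i', f', hi', hf'i, hci', hdom, hqc', hrange⟩ := Lib.GenSub.exists_image_of_map f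
    (lift ((w₁ ≫ fst A B) * x') ((w₁ ≫ snd A B) * (w₂ ≫ snd A B))) (by
      rw [hcf, show (f ⊗ₘ f) ≫ μ[G] = (w₁ ≫ f) * (w₂ ≫ f) by rw [Hom.mul_def, ← lift_fst_comp_snd_comp],
        hf' w₁, hf' w₂, MonObj.mul_comp, MonObj.mul_comp, ← hx']
      group)
    (lift η[A] η[B]) (by rw [hcf, IsMonHom.one_hom, IsMonHom.one_hom, show η[G] = 1 by rw [Hom.one_def, toUnit_unit, Category.id_comp], _root_.one_mul])
    (lift x'' (snd A B)⁻¹) (by
      rw [hcf, GrpObj.inv_comp, ← hx'', show f ≫ GrpObj.inv = f⁻¹ from rfl, hf, GrpObj.inv_comp, GrpObj.inv_comp]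
      simp only [pA, pB]
      group)
  have hclosed : IsClosed (Set.range f.left) := Lib.GenSub.isClosed_range_of_map f
    (lift ((w₁ ≫ fst A B) * x') ((w₁ ≫ snd A B) * (w₂ ≫ snd A B))) (by
      rw [hcf, show (f ⊗ₘ f) ≫ μ[G] = (w₁ ≫ f) * (w₂ ≫ f) by rw [Hom.mul_def, ← lift_fst_comp_snd_comp],
        hf' w₁, hf' w₂, MonObj.mul_comp, MonObj.mul_comp, ← hx']
      group)
    (lift η[A] η[B]) (lift x'' (snd A B)⁻¹) (by
      rw [hcf, GrpObj.inv_comp, ← hx'', show f ≫ GrpObj.inv = f⁻¹ from rfl, hf, GrpObj.inv_comp, GrpObj.inv_comp]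
      simp only [pA, pB]
      group)
  obtain ⟨j, hj⟩ := hmin H' hG' i' hi' hci'
    ⟨lift (𝟙 A) 1 ≫ f', by rw [Category.assoc, hf'i, hcf, Category.id_comp, MonObj.one_comp, _root_.mul_one]⟩
    ⟨lift 1 (𝟙 B) ≫ f', by rw [Category.assoc, hf'i, hcf, Category.id_comp, MonObj.one_comp, _root_.one_mul]⟩
  obtain ⟨a', ha'⟩ := ha
  obtain ⟨b', hb'⟩ := hb
  have hfac : ((fst A B ≫ a') * (snd A B ≫ b')) ≫ i = f := by
    rw [MonObj.mul_comp, Category.assoc, Category.assoc, ha', hb', hf]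
  have hr : Set.range i.left = Set.range f.left := by
    refine Set.Subset.antisymm ?_ ?_
    · rintro _ ⟨z, rfl⟩
      show i.left z ∈ Set.range f.left
      rw [← hclosed.closure_eq, ← hrange, ← hj]
      exact ⟨j.left z, rfl⟩
    · rintro _ ⟨z, rfl⟩
      rw [← hfac, Over.comp_left, Scheme.Hom.comp_apply]
      exact ⟨_, rfl⟩
  refine ⟨?_, hr⟩
  have : IsReduced W.left := by
    have : GeometricallyReduced A.hom := H2.Rigid.geometricallyReduced_of_smooth A.hom
    have : GeometricallyReduced B.hom := H2.Rigid.geometricallyReduced_of_smooth B.hom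
    have : IsReduced B.left := Lib.GenSub.isReduced_left B
    exact H52.FBase.ReducedProd.isReduced_pullback A.hom B.hom
  have : IsReduced H'.left := IsSchemeTheoreticallyDominant.isReduced f'.left
  have : IsClosedImmersion j.left := by
    have : IsClosedImmersion (j.left ≫ i'.left) := by rw [← Over.comp_left, hj]; infer_instance
    exact IsClosedImmersion.of_comp j.left i'.left
  obtain ⟨l, hl⟩ := H75.RedKer.exists_lift (𝟙 H'.left) j.left (by
    rintro x -
    obtain ⟨z, hz⟩ : i'.left x ∈ Set.range i.left := by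
      rw [hr, ← hclosed.closure_eq, ← hrange]; exact ⟨x, rfl⟩
    refine ⟨z, i'.left.isClosedEmbedding.injective ?_⟩
    rw [← Scheme.Hom.comp_apply, ← Over.comp_left, hj]
    exact hz)
  have : IsIso j.left := ⟨l, by rw [← cancel_mono j.left, Category.assoc, hl, Category.comp_id, Category.id_comp], hl⟩
  exact isReduced_of_isOpenImmersion j.left

end Groth.Agent.S5362
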