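import Groth.Statements.S5363
import Groth.Agent.Lib.FreeRes.GrpTransp
import Groth.Agent.Lib.GrpSch.Basic

set_option autoImplicit false
universe u
open CategoryTheory CategoryTheory.Limits MonoidalCategory CartesianMonoidalCategory MonObj GrpObj AlgebraicGeometry
open SGA3

namespace Groth.Agent.S5363

/-- Points commuting with a family of points form a closed subgroup; if the only closed subgroup
through `g` is everything, such a family containing the commutant of `g` exhausts the group. -/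
theorem commutes_of_subgroup {k : Type u} [Field k] {Γ X : Over (Spec (CommRingCat.of k))} [GrpObj Γ]
    [IsSeparated Γ.hom] (x₀ : X ⟶ Γ) :
    ∃ (Z : Over (Spec (CommRingCat.of k))) (_ : GrpObj Z) (z : Z ⟶ Γ), IsMonHom z ∧ IsClosedImmersion z.left ∧
      ∀ (T : Over (Spec (CommRingCat.of k))) (a : T ⟶ Γ), (∃ b, b ≫ z = a) ↔
        ∀ (T' : Over (Spec (CommRingCat.of k))) (s : T' ⟶ T) (x : T' ⟶ X), (s ≫ a) * (x ≫ x₀) = (x ≫ x₀) * (s ≫ a) := by
  obtain ⟨Z, z, hz, hZ⟩ := Lib.FreeRes.exists_closed_eq (P := Γ) (X := X)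
    (Lib.FreeRes.isEssentiallyFree_field _)
    (fst Γ X * (snd Γ X ≫ x₀)) ((snd Γ X ≫ x₀) * fst Γ X)
  have h : ∀ (T : Over (Spec (CommRingCat.of k))) (a : T ⟶ Γ), (∃ b, b ≫ z = a) ↔
      ∀ (T' : Over (Spec (CommRingCat.of k))) (s : T' ⟶ T) (x : T' ⟶ X), Commute (s ≫ a) (x ≫ x₀) := fun T a => by
    rw [hZ a, Lib.FreeRes.forall_pair_iff]
    simp only [MonObj.comp_mul, lift_fst, lift_snd_assoc, commute_iff_eq]
  have : Mono z := (Over.forget _).mono_of_mono_map (show Mono z.left from inferInstance)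
  obtain ⟨_, hh⟩ := Lib.FreeRes.exists_grpObj_of_mono z
    (fun T => (h T 1).2 fun T' s x => by rw [MonObj.comp_one]; exact Commute.one_left _)
    (fun {T} a b => (h T _).2 fun T' s x => by
      rw [MonObj.comp_mul]
      exact ((h T _).1 ⟨a, rfl⟩ T' s x).mul_left ((h T _).1 ⟨b, rfl⟩ T' s x))
    (fun {T} a => (h T _).2 fun T' s x => by
      rw [GrpObj.comp_inv]
      exact ((h T _).1 ⟨a, rfl⟩ T' s x).inv_left)
  exact ⟨Z, _, z, hh, hz, fun T a => (h T a).trans (by simp only [commute_iff_eq])⟩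

/-- Let G be a group scheme over a field k and g a k-rational point of G. Then the smallest closed
subgroup scheme Γ of G through which g factors (the closed subgroup generated by g) is commutative. -/
theorem result (k : Type u) [Field k] (G : Over (Spec (CommRingCat.of k))) [GrpObj G]
    (g : 𝟙_ (Over (Spec (CommRingCat.of k))) ⟶ G) (Γ : Over (Spec (CommRingCat.of k))) [GrpObj Γ] (i : Γ ⟶ G) [IsMonHom i] [IsClosedImmersion i.left]
    (hf : ∃ f' : 𝟙_ (Over (Spec (CommRingCat.of k))) ⟶ Γ, f' ≫ i = g)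
    (hmin : ∀ (Γ' : Over (Spec (CommRingCat.of k))) (_ : GrpObj Γ') (i' : Γ' ⟶ G), IsMonHom i' → IsClosedImmersion i'.left →
        (∃ f'' : 𝟙_ (Over (Spec (CommRingCat.of k))) ⟶ Γ', f'' ≫ i' = g) → ∃ j : Γ ⟶ Γ', j ≫ i' = i) :
    IsCommMonObj Γ := by
  obtain ⟨g₀, hg₀⟩ := hf
  have : IsSeparated Γ.hom := Lib.GrpSch.isSeparated_of_field Γ
  have : Mono i := (Over.forget _).mono_of_mono_map (show Mono i.left from inferInstance)
  -- every closed subgroup of Γ through g₀ is the whole of Γ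
  have full : ∀ (Z : Over (Spec (CommRingCat.of k))) (hG : GrpObj Z) (z : Z ⟶ Γ), IsMonHom z → IsClosedImmersion z.left →
      (∃ b, b ≫ z = g₀) → ∀ {T : Over (Spec (CommRingCat.of k))} (a : T ⟶ Γ), ∃ b, b ≫ z = a := by
    intro Z hG z hz hzc ⟨b, hb⟩ T a
    have hzc' : IsClosedImmersion (z ≫ i).left := by rw [Over.comp_left]; infer_instance
    obtain ⟨j, hj⟩ := hmin Z hG (z ≫ i) inferInstance hzc' ⟨b, by rw [← Category.assoc, hb, hg₀]⟩
    refine ⟨a ≫ j, ?_⟩
    have : j ≫ z = 𝟙 Γ := by rw [← cancel_mono i, Category.assoc, hj, Category.id_comp]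
    rw [Category.assoc, this, Category.comp_id]
  obtain ⟨Z₁, hG₁, z₁, hz₁, hzc₁, h₁⟩ := commutes_of_subgroup g₀
  have hcg : ∀ {T : Over (Spec (CommRingCat.of k))} (a : T ⟶ Γ) (x : T ⟶ 𝟙_ _), a * (x ≫ g₀) = (x ≫ g₀) * a := by
    intro T a x
    have := (h₁ T a).1 (full Z₁ hG₁ z₁ hz₁ hzc₁ ((h₁ _ g₀).2 fun T' s x => by rw [toUnit_unique s x]) a) T (𝟙 T) x
    rwa [Category.id_comp] at this
  obtain ⟨Z₂, hG₂, z₂, hz₂, hzc₂, h₂⟩ := commutes_of_subgroup (𝟙 Γ)
  have hall : ∀ {T : Over (Spec (CommRingCat.of k))} (a b : T ⟶ Γ), a * b = b * a := by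
    intro T a b
    have := (h₂ T a).1 (full Z₂ hG₂ z₂ hz₂ hzc₂ ((h₂ _ g₀).2 fun T' s x => by
      rw [Category.comp_id]
      exact (hcg x s).symm) a) T (𝟙 T) b
    rwa [Category.id_comp, Category.comp_id] at this
  constructor
  rw [show μ[Γ] = fst Γ Γ * snd Γ Γ from by rw [Hom.mul_def, lift_fst_snd, Category.id_comp],
    MonObj.comp_mul, hall (fst Γ Γ)]
  congr 1 <;> simp

end Groth.Agent.S5363
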