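import Groth.Statements.S5364
import Groth.Agent.Lib.FreeRes.GrpTransp

set_option autoImplicit false
universe u
open CategoryTheory CategoryTheory.Limits MonoidalCategory CartesianMonoidalCategory MonObj GrpObj AlgebraicGeometry
open SGA3

namespace Groth.Agent.S5364

/-- Let G be a group scheme over a field k and a : A → G, b : B → G two closed subgroup schemes which
are geometrically reduced over k and normal in G. Let i : Γ → G be the commutator subgroup scheme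
(A, B): the smallest closed subgroup scheme of G through which the morphism A ×_k B → G, (x, y) ↦
a(x) b(y) a(x)⁻¹ b(y)⁻¹, factors. Then Γ is normal in G. (The published statement also covers
characteristic subgroups; this row states the case of normal subgroups only.) -/
theorem result (k : Type u) [Field k] (G A B : Over (Spec (CommRingCat.of k))) [GrpObj G] [GrpObj A] [GrpObj B]
    (a : A ⟶ G) [IsMonHom a] [IsClosedImmersion a.left] (b : B ⟶ G) [IsMonHom b] [IsClosedImmersion b.left]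
    [GeometricallyReduced A.hom] [GeometricallyReduced B.hom] (hA : AlgGrp.IsNormalHom a) (hB : AlgGrp.IsNormalHom b)
    (Γ : Over (Spec (CommRingCat.of k))) [GrpObj Γ] (i : Γ ⟶ G) [IsMonHom i] [IsClosedImmersion i.left]
    (hf : ∃ f' : A ⊗ B ⟶ Γ, f' ≫ i = (((fst A B) ≫ a) * ((snd A B) ≫ b) * ((fst A B) ≫ a)⁻¹ * ((snd A B) ≫ b)⁻¹))
    (hmin : ∀ (Γ' : Over (Spec (CommRingCat.of k))) (_ : GrpObj Γ') (i' : Γ' ⟶ G), IsMonHom i' → IsClosedImmersion i'.left →
        (∃ f'' : A ⊗ B ⟶ Γ', f'' ≫ i' = (((fst A B) ≫ a) * ((snd A B) ≫ b) * ((fst A B) ≫ a)⁻¹ * ((snd A B) ≫ b)⁻¹)) → ∃ j : Γ ⟶ Γ', j ≫ i' = i) :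
    AlgGrp.IsNormalHom i := by
  obtain ⟨C, c, hc, hC, -⟩ := Lib.FreeRes.exists_closed_factor (P := Γ) (X := G)
    (Lib.FreeRes.isEssentiallyFree_field _) (snd Γ G * (fst Γ G ≫ i) * (snd Γ G)⁻¹) i
  have h : ∀ {T : Over (Spec (CommRingCat.of k))} (g : T ⟶ Γ), (∃ z, z ≫ c = g) ↔
      ∀ (T' : Over (Spec (CommRingCat.of k))) (s : T' ⟶ T) (x : T' ⟶ G), ∃ l : T' ⟶ Γ, x * (s ≫ g ≫ i) * x⁻¹ = l ≫ i := by
    intro T g
    rw [hC g, Lib.FreeRes.forall_pair_factor_iff]
    simp only [MonObj.comp_mul, GrpObj.comp_inv, lift_snd, lift_fst_assoc, Category.assoc]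
  have : Mono c := (Over.forget _).mono_of_mono_map (show Mono c.left from inferInstance)
  obtain ⟨hG, hh⟩ := Lib.FreeRes.exists_grpObj_of_mono c
    (fun T => (h _).2 fun T' s x => ⟨1, by simp⟩)
    (fun {T} p q => (h _).2 fun T' s x => by
      obtain ⟨l₁, h₁⟩ := (h _).1 ⟨p, rfl⟩ T' s x
      obtain ⟨l₂, h₂⟩ := (h _).1 ⟨q, rfl⟩ T' s x
      refine ⟨l₁ * l₂, ?_⟩
      rw [MonObj.mul_comp l₁ l₂ i, ← h₁, ← h₂, MonObj.mul_comp (p ≫ c) (q ≫ c) i, MonObj.comp_mul]
      simp only [Category.assoc]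
      group)
    (fun {T} p => (h _).2 fun T' s x => by
      obtain ⟨l₁, h₁⟩ := (h _).1 ⟨p, rfl⟩ T' s x
      refine ⟨l₁⁻¹, ?_⟩
      rw [GrpObj.inv_comp l₁ i, ← h₁, GrpObj.inv_comp (p ≫ c) i, GrpObj.comp_inv]
      simp only [Category.assoc]
      group)
  have hci : IsClosedImmersion (c ≫ i).left := by rw [Over.comp_left]; infer_instance
  obtain ⟨f', hf'⟩ := hf
  obtain ⟨z, hz⟩ := (h f').2 fun T' s x => by
    obtain ⟨a₂, ha₂⟩ := hA T' x (s ≫ fst A B)
    obtain ⟨b₂, hb₂⟩ := hB T' x (s ≫ snd A B)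
    refine ⟨lift a₂ b₂ ≫ f', ?_⟩
    rw [Category.assoc, hf', MonObj.comp_mul, MonObj.comp_mul, MonObj.comp_mul, GrpObj.comp_inv, GrpObj.comp_inv,
      MonObj.comp_mul, MonObj.comp_mul, MonObj.comp_mul, GrpObj.comp_inv, GrpObj.comp_inv, lift_fst_assoc,
      lift_snd_assoc, ← ha₂, ← hb₂]
    simp only [Category.assoc]
    group
  obtain ⟨j, hj⟩ := hmin C hG (c ≫ i) inferInstance hci ⟨z, by rw [← Category.assoc, hz, hf']⟩
  intro T g n
  have : Mono i := (Over.forget _).mono_of_mono_map (show Mono i.left from inferInstance)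
  have hjc : j ≫ c = 𝟙 Γ := by rw [← cancel_mono i, Category.assoc, hj, Category.id_comp]
  obtain ⟨l, hl⟩ := (h n).1 ⟨n ≫ j, by rw [Category.assoc, hjc, Category.comp_id]⟩ T (𝟙 T) g
  exact ⟨l, by rw [← hl, Category.id_comp]⟩

end Groth.Agent.S5364
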