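import Groth.Statements.S5365
import Groth.Agent.Lib.GenSub.Connected
import Groth.Agent.S5324

set_option autoImplicit false
universe u
open CategoryTheory CategoryTheory.Limits MonoidalCategory CartesianMonoidalCategory MonObj GrpObj AlgebraicGeometry
open SGA3

namespace Groth.Agent.S5365

/-- Let G be a group scheme locally of finite type over a field k, a : A → G and b : B → G two closed
subgroup schemes which are geometrically reduced over k, and i : Γ → G the commutator subgroup
scheme (A, B), the smallest closed subgroup scheme through which (x, y) ↦ a(x) b(y) a(x)⁻¹ b(y)⁻¹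
factors. Suppose either (a) A and B are normal in G and of finite type over k, or (b) A is connected
and B is of finite type over k. Then Γ is of finite type over k, and in case (b) Γ is connected.
(The published statement also asserts that this subgroup represents the fppf sheaf generated by
commutators and describes its neutral component; this row states only the finiteness and
connectedness assertions.) -/
theorem result (k : Type u) [Field k] (G A B : Over (Spec (CommRingCat.of k))) [GrpObj G] [GrpObj A] [GrpObj B]
    [LocallyOfFiniteType G.hom]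
    (a : A ⟶ G) [IsMonHom a] [IsClosedImmersion a.left] (b : B ⟶ G) [IsMonHom b] [IsClosedImmersion b.left]
    [GeometricallyReduced A.hom] [GeometricallyReduced B.hom] [QuasiCompact B.hom]
    (hcase : (AlgGrp.IsNormalHom a ∧ AlgGrp.IsNormalHom b ∧ QuasiCompact A.hom) ∨ ConnectedSpace A.left)
    (Γ : Over (Spec (CommRingCat.of k))) [GrpObj Γ] (i : Γ ⟶ G) [IsMonHom i] [IsClosedImmersion i.left]
    (hf : ∃ f' : A ⊗ B ⟶ Γ, f' ≫ i = (((fst A B) ≫ a) * ((snd A B) ≫ b) * ((fst A B) ≫ a)⁻¹ * ((snd A B) ≫ b)⁻¹))
    (hmin : ∀ (Γ' : Over (Spec (CommRingCat.of k))) (_ : GrpObj Γ') (i' : Γ' ⟶ G), IsMonHom i' → IsClosedImmersion i'.left →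
        (∃ f'' : A ⊗ B ⟶ Γ', f'' ≫ i' = (((fst A B) ≫ a) * ((snd A B) ≫ b) * ((fst A B) ≫ a)⁻¹ * ((snd A B) ≫ b)⁻¹)) → ∃ j : Γ ⟶ Γ', j ≫ i' = i) :
    QuasiCompact Γ.hom ∧ (ConnectedSpace A.left → ConnectedSpace Γ.left) := by
  have : LocallyOfFiniteType Γ.hom := by rw [← Over.w i]; infer_instance
  have : Mono i := (Over.forget _).mono_of_mono_map (show Mono i.left from inferInstance)
  have hconn : ConnectedSpace A.left → ConnectedSpace Γ.left := by
    intro hA
    obtain ⟨f', hf'⟩ := hf
    have : IsReduced (A ⊗ B).left :=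
      have : IsReduced B.left := Lib.GenSub.isReduced_left B
      H52.FBase.ReducedProd.isReduced_pullback A.hom B.hom
    refine Lib.GenSub.connectedSpace_of_pieces Γ f' (fun x => ?_) fun Γ' hG' i' hi' hc' ⟨f'', hf''⟩ => ?_
    · have : GeometricallyConnected A.hom :=
        Lib.GrpSch.geometricallyConnected_of_rationalPoint A.hom η[A].left (Over.w η[A])
      have : GeometricallyConnected (snd A B).left := Lib.GrpSch.snd_left_of (P := @GeometricallyConnected) B ‹_›
      let s : B ⟶ A ⊗ B := lift (toUnit B ≫ η[A]) (𝟙 B)
      let v := (snd A B).left x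
      have hs : (snd A B).left (s.left v) = v := by
        rw [← Scheme.Hom.comp_apply, ← Over.comp_left, lift_snd]; rfl
      refine ⟨(snd A B).left ⁻¹' {v}, ((snd A B).left.isConnected_preimage_singleton v).isPreconnected, rfl,
        s.left v, hs, (toUnit B).left v, ?_⟩
      refine i.left.injective ?_
      have hkey : s ≫ f' ≫ i = toUnit B ≫ η[Γ] ≫ i := by
        rw [hf', IsMonHom.one_hom, ← Hom.one_def]
        simp [s, MonObj.comp_mul, GrpObj.comp_inv, IsMonHom.one_hom, ← Hom.one_def]
      exact (congrArg (fun q : B ⟶ G => q.left v) hkey).symm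
    · have : IsClosedImmersion (i' ≫ i).left := by rw [Over.comp_left]; infer_instance
      obtain ⟨j, hj⟩ := hmin Γ' hG' (i' ≫ i) inferInstance this ⟨f'', by rw [← Category.assoc, hf'', hf']⟩
      exact ⟨j, by rw [← cancel_mono i, Category.assoc, hj, Category.id_comp]⟩
  refine ⟨?_, hconn⟩
  rcases hcase with ⟨hA, hB, hqc⟩ | hA
  · obtain ⟨x', hx'⟩ := hA (A ⊗ B) (snd A B ≫ b) (fst A B)⁻¹
    obtain ⟨j, hj⟩ := hmin A inferInstance a inferInstance inferInstance ⟨fst A B * x', by
      rw [MonObj.mul_comp, ← hx', GrpObj.inv_comp]; group⟩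
    have : IsClosedImmersion j.left := by
      have : IsClosedImmersion (j.left ≫ a.left) := by rw [← Over.comp_left, hj]; infer_instance
      exact IsClosedImmersion.of_comp j.left a.left
    rw [← Over.w j]
    infer_instance
  · have := hconn hA
    have : Subsingleton (Spec (CommRingCat.of k)) := inferInstanceAs (Subsingleton (PrimeSpectrum k))
    refine Groth.Agent.S5324.result _ Γ (fun s => ?_) fun s => ?_
    · exact inferInstanceAs (LocallyOfFiniteType (pullback.snd Γ.hom ((Spec (CommRingCat.of k)).fromSpecResidueField s)))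
    · rw [Set.eq_univ_of_forall (s := Γ.hom ⁻¹' {s}) fun _ => Subsingleton.elim _ _]
      exact isConnected_univ

end Groth.Agent.S5365
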