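import Groth.Statements.S5370
import Groth.Agent.Lib.GrpQ.Transfer
import Mathlib.AlgebraicGeometry.Properties

set_option autoImplicit false
set_option backward.isDefEq.respectTransparency false
set_option backward.isDefEq.respectTransparency.types false
universe u
open CategoryTheory CategoryTheory.Limits MonoidalCategory CartesianMonoidalCategory MonObj GrpObj AlgebraicGeometry
open SGA3

namespace Groth.Agent.S5370

/-- Let u : G' → G be a monomorphism of S-group schemes and p : G → G'' a morphism of S-schemes which is
covering for the fpqc topology (some Z → G'' which is flat, surjective, with every affine open of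
G'' the image of a quasi-compact open of Z, factors through p) and such that the square (g, h) ↦
g·u(h), first projection G ×_S G' → G, p, p is cartesian, so that G'' represents the fpqc quotient
sheaf G/G'. Then: (ix) if G is reduced, G'' is reduced; (xi) G' is flat over S if and only if p is
flat, and in that case G'' is flat over S if and only if G is flat over S. -/
theorem result (S : Scheme.{u}) (G G' G'' : Over S) [GrpObj G] [GrpObj G']
    (u : G' ⟶ G) [IsMonHom u] [Mono u] (p : G ⟶ G'')
    (hcov : (∃ (Z : Scheme.{u}) (q : Z ⟶ G''.left) (r : Z ⟶ G.left), r ≫ p.left = q ∧ Surjective q ∧ Flat q ∧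
        ∀ V : G''.left.Opens, IsAffineOpen V → ∃ W : Z.Opens, IsCompact (W : Set Z) ∧ q.base '' (W : Set Z) = (V : Set G''.left)))
    (hsq : IsPullback ((G ◁ u) ≫ μ[G]) (fst G G') p p) :
    (IsReduced G.left → IsReduced G''.left) ∧
    (Flat G'.hom ↔ Flat p.left) ∧ (Flat p.left → (Flat G''.hom ↔ Flat G.hom)) := by
  have hsurj : Surjective p.left := Lib.GrpQ.Transfer.surjective_proj hcov
  refine ⟨fun hG => ?_, ⟨fun h => Lib.GrpQ.Transfer.to_proj hsq hcov @Flat Lib.DescAlg.Descends.descends_flat.{u} h,
    fun h => Lib.GrpQ.Transfer.of_proj hsq @Flat h⟩, fun hp => ⟨fun h => ?_, fun h => ?_⟩⟩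
  · obtain ⟨Z, q, r, hr, _, _, _⟩ := hcov
    have : ∀ y : G''.left, _root_.IsReduced (G''.left.presheaf.stalk y) := fun y => by
      obtain ⟨z, rfl⟩ := q.surjective y
      have hflat : (q.stalkMap z).hom.Flat := Flat.stalkMap q z
      have hinj : Function.Injective (q.stalkMap z).hom := by
        algebraize [(q.stalkMap z).hom]
        have : IsLocalHom (algebraMap (G''.left.presheaf.stalk (q z)) (Z.presheaf.stalk z)) := q.toLRSHom.prop z
        have : Module.FaithfullyFlat (G''.left.presheaf.stalk (q z)) (Z.presheaf.stalk z) :=
          Module.FaithfullyFlat.of_flat_of_isLocalHom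
        exact FaithfulSMul.algebraMap_injective _ _
      subst hr
      rw [Scheme.Hom.stalkMap_comp] at hinj
      exact isReduced_of_injective (p.left.stalkMap (r z)).hom (Function.Injective.of_comp (f := (r.stalkMap z).hom) hinj)
    exact isReduced_of_isReduced_stalk G''.left
  · rw [← Over.w p]; infer_instance
  · have : Flat (p.left ≫ G''.hom) := by rw [Over.w p]; exact h
    exact Lib.Flat55.FlatDescend.flat_of_comp p.left G''.hom

end Groth.Agent.S5370
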