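import Groth.Statements.S5371
import Groth.Agent.Lib.GrpQ.Transfer

set_option autoImplicit false
set_option backward.isDefEq.respectTransparency false
set_option backward.isDefEq.respectTransparency.types false
universe u
open CategoryTheory CategoryTheory.Limits MonoidalCategory CartesianMonoidalCategory MonObj GrpObj AlgebraicGeometry
open SGA3

namespace Groth.Agent.S5371

/-- Let u : G' → G be a monomorphism of S-group schemes and p : G → G'' a morphism of S-schemes which is
covering for the fpqc topology (some Z → G'' which is flat, surjective, with every affine open of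
G'' the image of a quasi-compact open of Z, factors through p) and such that the square (g, h) ↦
g·u(h), first projection G ×_S G' → G, p, p is cartesian, so that G'' represents the fpqc quotient
sheaf G/G'. (xii) G' is flat and locally of finite presentation over S if and only if p is
surjective, flat and locally of finite presentation; in that case, if G is locally of finite
presentation (resp. locally of finite type, of finite type, smooth, etale, unramified, locally
quasi-finite) over S, so is G''. (xiii) If G' is flat and of finite presentation over S then p is of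
finite presentation, and G is of finite presentation over S if and only if G'' is. -/
theorem result (S : Scheme.{u}) (G G' G'' : Over S) [GrpObj G] [GrpObj G']
    (u : G' ⟶ G) [IsMonHom u] [Mono u] (p : G ⟶ G'')
    (hcov : (∃ (Z : Scheme.{u}) (q : Z ⟶ G''.left) (r : Z ⟶ G.left), r ≫ p.left = q ∧ Surjective q ∧ Flat q ∧
        ∀ V : G''.left.Opens, IsAffineOpen V → ∃ W : Z.Opens, IsCompact (W : Set Z) ∧ q.base '' (W : Set Z) = (V : Set G''.left)))
    (hsq : IsPullback ((G ◁ u) ≫ μ[G]) (fst G G') p p) :
    ((Flat G'.hom ∧ LocallyOfFinitePresentation G'.hom) ↔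
      (Surjective p.left ∧ Flat p.left ∧ LocallyOfFinitePresentation p.left)) ∧
    (Flat p.left → LocallyOfFinitePresentation p.left →
      (LocallyOfFinitePresentation G.hom → LocallyOfFinitePresentation G''.hom) ∧
      (LocallyOfFiniteType G.hom → LocallyOfFiniteType G''.hom) ∧
      (LocallyOfFiniteType G.hom → QuasiCompact G.hom → QuasiCompact G''.hom) ∧
      (Smooth G.hom → Smooth G''.hom) ∧ (Etale G.hom → Etale G''.hom) ∧
      (FormallyUnramified G.hom → LocallyOfFinitePresentation G.hom → FormallyUnramified G''.hom) ∧
      (LocallyQuasiFinite G.hom → LocallyOfFiniteType G.hom → LocallyQuasiFinite G''.hom)) ∧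
    (Flat G'.hom → LocallyOfFinitePresentation G'.hom → QuasiCompact G'.hom → QuasiSeparated G'.hom →
      QuasiCompact p.left ∧ QuasiSeparated p.left ∧ LocallyOfFinitePresentation p.left ∧
      ((LocallyOfFinitePresentation G.hom ∧ QuasiCompact G.hom ∧ QuasiSeparated G.hom) ↔
        (LocallyOfFinitePresentation G''.hom ∧ QuasiCompact G''.hom ∧ QuasiSeparated G''.hom))) := by
  have hsurj : Surjective p.left := Lib.GrpQ.Transfer.surjective_proj hcov
  have hw : p.left ≫ G''.hom = G.hom := Over.w p
  have hflat : Flat G'.hom → Flat p.left :=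
    fun h => Lib.GrpQ.Transfer.to_proj hsq hcov @Flat Lib.DescAlg.Descends.descends_flat.{u} h
  have hlfp : LocallyOfFinitePresentation G'.hom → LocallyOfFinitePresentation p.left :=
    fun h => Lib.GrpQ.Transfer.to_proj hsq hcov @LocallyOfFinitePresentation inferInstance h
  refine ⟨⟨fun h => ⟨hsurj, hflat h.1, hlfp h.2⟩, fun h =>
    ⟨Lib.GrpQ.Transfer.of_proj hsq @Flat h.2.1, Lib.GrpQ.Transfer.of_proj hsq @LocallyOfFinitePresentation h.2.2⟩⟩,
    fun _ _ => ⟨fun h => ?_, fun h => ?_, fun h h' => ?_, fun h => ?_, fun h => ?_, fun h h' => ?_, fun h h' => ?_⟩,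
    fun hf hl hc hs => ?_⟩
  · exact Groth.Agent.H14.FppfDesc.Scheme.locallyOfFinitePresentation_of_comp p.left G''.hom (by rwa [hw])
  · exact Groth.Agent.H14.FppfDesc.Scheme.locallyOfFiniteType_of_comp p.left G''.hom (by rwa [hw])
  · have : QuasiCompact (p.left ≫ G''.hom) := by rwa [hw]
    exact Lib.GrpQ.Transfer.quasiCompact_of_comp_surjective p.left G''.hom
  · have : Smooth (p.left ≫ G''.hom) := by rwa [hw]
    exact Lib.EtSite.FppfSourceSmooth.smooth p.left G''.hom
  · exact Lib.AlgSpFpqc.SourceEtale.etale_of_comp p.left G''.hom (by rwa [hw])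
  · have : FormallyUnramified (p.left ≫ G''.hom) := by rwa [hw]
    have : LocallyOfFinitePresentation (p.left ≫ G''.hom) := by rwa [hw]
    exact Lib.GrpQ.Transfer.formallyUnramified_of_comp p.left G''.hom
  · have : LocallyQuasiFinite (p.left ≫ G''.hom) := by rwa [hw]
    have : LocallyOfFiniteType G''.hom :=
      Groth.Agent.H14.FppfDesc.Scheme.locallyOfFiniteType_of_comp p.left G''.hom (by rwa [hw])
    exact Lib.GrpQ.Transfer.locallyQuasiFinite_of_comp p.left G''.hom
  · have := hflat hf
    have := hlfp hl
    have : QuasiCompact p.left :=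
      Lib.GrpQ.Transfer.to_proj hsq hcov @QuasiCompact Lib.DescAlg.Descends.descends_quasiCompact.{u} hc
    have : QuasiSeparated p.left :=
      Lib.GrpQ.Transfer.to_proj hsq hcov @QuasiSeparated
        (by rw [quasiSeparated_eq_diagonal_is_quasiCompact]; infer_instance) hs
    refine ⟨inferInstance, inferInstance, inferInstance, ⟨fun h => ?_, fun h => ?_⟩⟩
    · obtain ⟨h1, h2, h3⟩ := h
      have : QuasiCompact (p.left ≫ G''.hom) := by rwa [hw]
      have : QuasiSeparated (p.left ≫ G''.hom) := by rwa [hw]
      exact ⟨Groth.Agent.H14.FppfDesc.Scheme.locallyOfFinitePresentation_of_comp p.left G''.hom (by rwa [hw]),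
        Lib.GrpQ.Transfer.quasiCompact_of_comp_surjective p.left G''.hom,
        Lib.GrpQ.Transfer.quasiSeparated_of_comp_surjective p.left G''.hom⟩
    · obtain ⟨h1, h2, h3⟩ := h
      rw [← hw]
      exact ⟨inferInstance, inferInstance, inferInstance⟩

end Groth.Agent.S5371
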