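import Groth.Statements.S5380
import Mathlib.RingTheory.Flat.Stability
import Mathlib.RingTheory.Flat.Localization
import Mathlib.RingTheory.Localization.BaseChange
import Mathlib.LinearAlgebra.TensorProduct.Quotient

set_option autoImplicit false
universe u
open CategoryTheory CategoryTheory.Limits MonoidalCategory CartesianMonoidalCategory MonObj GrpObj AlgebraicGeometry
open SGA3

namespace Groth.Agent.S5380

open scoped TensorProduct

section

variable {A : Type u} [CommRing A] (a : A) {M : Type u} [AddCommGroup M] [Module A M]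

/-- A map whose image is saturated for `a` stays injective modulo `a`. -/
lemma lTensor_quot_injective {K F : Type u} [AddCommGroup K] [Module A K] [AddCommGroup F]
    [Module A F] (j : K →ₗ[A] F) (hj : Function.Injective j)
    (hsat : ∀ f, a • f ∈ LinearMap.range j → f ∈ LinearMap.range j) :
    Function.Injective (j.lTensor (A ⧸ Ideal.span {a})) := by
  refine (injective_iff_map_eq_zero _).2 fun y hy => ?_
  obtain ⟨k, rfl⟩ : ∃ k, (1 : A ⧸ Ideal.span {a}) ⊗ₜ[A] k = y :=
    TensorProduct.mk_surjective A _ _ Ideal.Quotient.mk_surjective y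
  rw [LinearMap.lTensor_tmul] at hy
  have hy' := congrArg (TensorProduct.quotTensorEquivQuotSMul F (Ideal.span {a})) hy
  have hone : ∀ {P : Type u} [AddCommGroup P] [Module A P] (v : P),
      TensorProduct.quotTensorEquivQuotSMul P (Ideal.span {a}) ((1 : A ⧸ Ideal.span {a}) ⊗ₜ[A] v) =
        Submodule.Quotient.mk v := by
    intro P _ _ v
    show TensorProduct.quotTensorEquivQuotSMul P _ (Ideal.Quotient.mk (Ideal.span {a}) 1 ⊗ₜ[A] v) = _
    rw [TensorProduct.quotTensorEquivQuotSMul_mk_tmul, one_smul]
  rw [hone, map_zero, Submodule.Quotient.mk_eq_zero, Submodule.ideal_span_singleton_smul,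
    ← SetLike.mem_coe, Submodule.coe_pointwise_smul] at hy'
  obtain ⟨f, -, hf⟩ := hy'
  have hf' : a • f = j k := hf
  obtain ⟨k', rfl⟩ := hsat f ⟨k, hf'.symm⟩
  apply (TensorProduct.quotTensorEquivQuotSMul K (Ideal.span {a})).injective
  rw [hone, map_zero, Submodule.Quotient.mk_eq_zero,
    show k = a • k' from hj (by rw [map_smul, hf'])]
  exact Submodule.smul_mem_smul (Ideal.mem_span_singleton_self a) trivial

/-- Injectivity after `A ⧸ I` persists after any flat `A ⧸ I`-module. -/
lemma lTensor_injective_of_flat_quot (I : Ideal A) (P : Type u) [AddCommGroup P] [Module A P]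
    [Module (A ⧸ I) P] [IsScalarTower A (A ⧸ I) P] (hP : Module.Flat (A ⧸ I) P)
    {K F : Type u} [AddCommGroup K] [Module A K] [AddCommGroup F]
    [Module A F] (j : K →ₗ[A] F) (hj : Function.Injective (j.lTensor (A ⧸ I))) :
    Function.Injective (j.lTensor P) := by
  let e₁ := TensorProduct.AlgebraTensorModule.cancelBaseChange A (A ⧸ I) (A ⧸ I) P K
  let e₂ := TensorProduct.AlgebraTensorModule.cancelBaseChange A (A ⧸ I) (A ⧸ I) P F
  let jb := TensorProduct.AlgebraTensorModule.lTensor (A ⧸ I) (A ⧸ I) j
  have hsq : ∀ y, e₂ (jb.lTensor P y) = j.lTensor P (e₁ y) := by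
    intro y
    induction y using TensorProduct.induction_on with
    | zero => simp
    | tmul m u =>
        induction u using TensorProduct.induction_on with
        | zero => simp
        | tmul c v => simp [e₁, e₂, jb]
        | add u v hu hv => simp only [TensorProduct.tmul_add, map_add, hu, hv]
    | add u v hu hv => simp only [map_add, hu, hv]
  intro y y' hyy
  obtain ⟨y, rfl⟩ := e₁.surjective y
  obtain ⟨y', rfl⟩ := e₁.surjective y'
  rw [← hsq, ← hsq] at hyy
  exact congrArg e₁ (Module.Flat.lTensor_preserves_injective_linearMap (M := P) jb hj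
    (e₂.injective hyy))

/-- If `a` is regular on `M` and on `N` and `M ⧸ a M` is flat over `A ⧸ a` then `a` is regular on
`M ⊗ N`. -/
lemma smul_tensor_eq_zero_aux (hM : ∀ m : M, a • m = 0 → m = 0)
    (h1 : Module.Flat (A ⧸ Ideal.span {a}) (M ⧸ (Ideal.span {a} • (⊤ : Submodule A M))))
    {N : Type u} [AddCommGroup N] [Module A N] (hN : ∀ n : N, a • n = 0 → n = 0)
    {F : Type u} [AddCommGroup F] [Module A F] [Module.Flat A F] (p : F →ₗ[A] N)
    (hp : Function.Surjective p) (x : M ⊗[A] N) (hx : a • x = 0) : x = 0 := by
  let I := Ideal.span {a}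
  let Mb := M ⧸ (I • (⊤ : Submodule A M))
  let incl := (LinearMap.ker p).subtype
  have hex : Function.Exact (incl.lTensor M) (p.lTensor M) :=
    _root_.lTensor_exact M (LinearMap.exact_subtype_ker_map p) hp
  obtain ⟨z, rfl⟩ := LinearMap.lTensor_surjective M hp x
  rw [← map_smul] at hx
  obtain ⟨w, hw⟩ := (hex _).1 hx
  let q : M →ₗ[A] Mb := (I • (⊤ : Submodule A M)).mkQ
  have hqa : ∀ m, q (a • m) = 0 := fun m => (Submodule.Quotient.mk_eq_zero _).2
    (Submodule.smul_mem_smul (Ideal.mem_span_singleton_self a) trivial)
  have hinjM : Function.Injective (incl.lTensor Mb) :=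
    lTensor_injective_of_flat_quot I Mb h1 incl
      (lTensor_quot_injective a incl Subtype.val_injective fun f hf => by
        obtain ⟨k, hk⟩ := hf
        exact ⟨⟨f, hN _ (by rw [← map_smul, ← hk]; exact k.2)⟩, rfl⟩)
  have hw0 : q.rTensor (LinearMap.ker p) w = 0 := by
    apply hinjM
    rw [map_zero, ← LinearMap.comp_apply, LinearMap.lTensor_comp_rTensor,
      ← LinearMap.rTensor_comp_lTensor, LinearMap.comp_apply, hw, map_smul]
    clear hw hx hex
    induction z using TensorProduct.induction_on with
    | zero => simp
    | tmul m f => rw [LinearMap.rTensor_tmul, TensorProduct.smul_tmul', ← map_smul, hqa,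
        TensorProduct.zero_tmul]
    | add u v hu hv => rw [map_add, smul_add, hu, hv, add_zero]
  have hex2 : Function.Exact ((LinearMap.lsmul A M a).rTensor (LinearMap.ker p))
      (q.rTensor (LinearMap.ker p)) := by
    refine _root_.rTensor_exact _ (fun m => ⟨fun hm => ?_, ?_⟩) (Submodule.mkQ_surjective _)
    · have h := (Submodule.Quotient.mk_eq_zero _).1 hm
      rw [Submodule.ideal_span_singleton_smul, ← SetLike.mem_coe,
        Submodule.coe_pointwise_smul] at h
      obtain ⟨m', -, rfl⟩ := h
      exact ⟨m', rfl⟩
    · rintro ⟨m', rfl⟩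
      exact hqa m'
  obtain ⟨w', rfl⟩ := (hex2 w).1 hw0
  have hsm : ∀ {P : Type u} [AddCommGroup P] [Module A P] (v : M ⊗[A] P),
      (LinearMap.lsmul A M a).rTensor P v = a • v := by
    intro P _ _ v
    induction v using TensorProduct.induction_on with
    | zero => simp
    | tmul m f => simp [TensorProduct.smul_tmul']
    | add u v hu hv => simp [hu, hv]
  have hzero : (LinearMap.lsmul A M a).rTensor F (z - incl.lTensor M w') = 0 := by
    rw [hsm] at hw
    rw [hsm, smul_sub, ← map_smul, hw, sub_self]
  have := (Module.Flat.rTensor_preserves_injective_linearMap (M := F) (LinearMap.lsmul A M a)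
    ((injective_iff_map_eq_zero _).2 hM)).eq_iff.1 (hzero.trans (map_zero _).symm)
  rw [sub_eq_zero] at this
  rw [this]
  exact (hex _).2 ⟨w', rfl⟩

lemma smul_tensor_eq_zero (hM : ∀ m : M, a • m = 0 → m = 0)
    (h1 : Module.Flat (A ⧸ Ideal.span {a}) (M ⧸ (Ideal.span {a} • (⊤ : Submodule A M))))
    {N : Type u} [AddCommGroup N] [Module A N] (hN : ∀ n : N, a • n = 0 → n = 0)
    (x : M ⊗[A] N) (hx : a • x = 0) : x = 0 :=
  smul_tensor_eq_zero_aux a hM h1 hN (Finsupp.linearCombination A id)
    (Finsupp.linearCombination_id_surjective A N) x hx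

end

/-- Let R be a discrete valuation ring with uniformizer π, A a flat commutative R-algebra and M an
A-module which is flat over R. Suppose that M/πM is a flat module over A/πA and that M ⊗_R K is a
flat module over A ⊗_R K, K the fraction field of R (equivalently, M[1/π] is flat over A[1/π], the
form used here). Then M is a flat A-module. -/
theorem result (R : Type u) [CommRing R] [IsDomain R] [IsDiscreteValuationRing R]
    (π : R) (hπ : Irreducible π) (A : Type u) [CommRing A] [Algebra R A] [Module.Flat R A]
    (M : Type u) [AddCommGroup M] [Module A M] [Module R M] [IsScalarTower R A M] [Module.Flat R M]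
    (h1 : Module.Flat (A ⧸ Ideal.span {algebraMap R A π}) (M ⧸ (Ideal.span {algebraMap R A π} • (⊤ : Submodule A M))))
    (h2 : Module.Flat (Localization.Away (algebraMap R A π)) (LocalizedModule (Submonoid.powers (algebraMap R A π)) M)) :
    Module.Flat A M := by
  set a := algebraMap R A π
  have hπ0 : π ≠ 0 := hπ.ne_zero
  have hreg : ∀ {P : Type u} [AddCommGroup P] [Module R P] [Module.Flat R P] (v : P),
      π • v = 0 → v = 0 := by
    intro P _ _ _ v hv
    have hinj := Module.Flat.rTensor_preserves_injective_linearMap (M := P) (LinearMap.lsmul R R π)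
      (fun r r' h => mul_left_cancel₀ hπ0 h)
    have h0 : (LinearMap.lsmul R R π).rTensor P ((1 : R) ⊗ₜ[R] v) = 0 := by
      rw [LinearMap.rTensor_tmul, LinearMap.lsmul_apply, TensorProduct.smul_tmul, hv,
        TensorProduct.tmul_zero]
    have h1 := hinj (h0.trans (map_zero _).symm)
    simpa using congrArg (TensorProduct.lid R P) h1
  have hMa : ∀ m : M, a • m = 0 → m = 0 := fun m hm => hreg m (by rwa [algebraMap_smul] at hm)
  let S := Submonoid.powers a
  let L := Localization.Away a
  let LM := LocalizedModule S M
  have : Module.Flat A L := IsLocalization.flat L S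
  have : Module.Flat L LM := h2
  have : Module.Flat A LM := Module.Flat.trans A L LM
  refine Module.Flat.iff_lTensor_injective'.2 fun I => (injective_iff_map_eq_zero _).2 fun x hx => ?_
  let g := LocalizedModule.mkLinearMap S M
  have h0 : TensorProduct.AlgebraTensorModule.rTensor A I g x = 0 := by
    apply Module.Flat.lTensor_preserves_injective_linearMap (M := LM) I.subtype I.injective_subtype
    have hc : ∀ y, I.subtype.lTensor LM (TensorProduct.AlgebraTensorModule.rTensor A I g y) =
        g.rTensor A (I.subtype.lTensor M y) := by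
      intro y
      induction y using TensorProduct.induction_on with
      | zero => simp
      | tmul m i => simp
      | add u v hu hv => simp only [map_add, hu, hv]
    rw [hc, hx, map_zero, map_zero]
  obtain ⟨⟨c, n, rfl⟩, hc⟩ := (IsLocalizedModule.eq_zero_iff S _).1 h0
  have hc' : a ^ n • x = 0 := hc
  clear hc h0 hx
  induction n with
  | zero => simpa using hc'
  | succ n ih =>
      rw [pow_succ', mul_smul] at hc'
      refine ih (smul_tensor_eq_zero a hMa h1 (N := I) (fun i hi => Subtype.ext ?_) _ hc')
      refine hreg (P := A) _ ?_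
      rw [Algebra.smul_def]
      exact congrArg Subtype.val hi

end Groth.Agent.S5380
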