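import Groth.Statements.S5381
import Mathlib.RingTheory.Flat.TorsionFree

set_option autoImplicit false
universe u
open CategoryTheory CategoryTheory.Limits MonoidalCategory CartesianMonoidalCategory MonObj GrpObj AlgebraicGeometry
open SGA3

namespace Groth.Agent.S5381

/-- For S the spectrum of a Dedekind domain R: let X be a scheme which is flat, quasi-compact and
quasi-separated over R. Then the ring of global sections Γ(X, O_X) is a flat R-module. (The
published remark takes S locally noetherian and regular of dimension 1 and also observes, when S is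
local with closed point s and uniformizer π, that Γ(X, O_X)/πΓ(X, O_X) → Γ(X_s, O_{X_s}) is
injective; this row takes S the spectrum of a Dedekind domain and omits the injectivity.) -/
theorem result (R : Type u) [CommRing R] [IsDedekindDomain R]
    (X : Scheme.{u}) (f : X ⟶ Spec (CommRingCat.of R)) [Flat f] [QuasiCompact f] [QuasiSeparated f] :
    letI := ((Scheme.ΓSpecIso (CommRingCat.of R)).inv ≫ f.appTop).hom.toAlgebra
    Module.Flat R Γ(X, ⊤) := by
  letI := ((Scheme.ΓSpecIso (CommRingCat.of R)).inv ≫ f.appTop).hom.toAlgebra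
  rw [IsDedekindDomain.flat_iff_torsion_eq_bot, eq_bot_iff]
  rintro m ⟨⟨r, hr⟩, h⟩
  have h' : f.appTop.hom ((Scheme.ΓSpecIso (CommRingCat.of R)).inv.hom r) * m = 0 := h
  show m = 0
  refine TopCat.Sheaf.eq_of_locally_eq' X.sheaf (fun U : X.affineOpens => U.1) ⊤ (fun U => homOfLE le_top)
    (iSup_affineOpens_eq_top X).ge m 0 fun U => ?_
  rw [map_zero]
  have hfl : (f.appLE ⊤ U.1 le_top).hom.Flat := f.flat_appLE (isAffineOpen_top _) U.2 le_top
  letI := (f.appLE ⊤ U.1 le_top).hom.toAlgebra
  have : Module.Flat Γ(Spec (CommRingCat.of R), ⊤) Γ(X, U.1) := hfl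
  have hreg : (Scheme.ΓSpecIso (CommRingCat.of R)).inv.hom r ∈ nonZeroDivisors Γ(Spec (CommRingCat.of R), ⊤) := by
    exact MulEquivClass.map_nonZeroDivisors (Scheme.ΓSpecIso (CommRingCat.of R)).commRingCatIsoToRingEquiv.symm ▸
      Submonoid.mem_map_of_mem _ hr
  refine Module.Flat.isSMulRegular_of_nonZeroDivisors (M := Γ(X, U.1)) hreg ?_
  show (f.appLE ⊤ U.1 le_top).hom _ * _ = (f.appLE ⊤ U.1 le_top).hom _ * 0
  rw [mul_zero]
  have := congrArg (X.presheaf.map (homOfLE (le_top : U.1 ≤ ⊤)).op).hom h'
  rw [map_mul, map_zero] at this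
  exact this

end Groth.Agent.S5381
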