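import Groth.Statements.S5383
import Groth.Agent.H46.UnibranchDomain
import Groth.Agent.H46.UnibranchCrit

set_option autoImplicit false
universe u
open CategoryTheory CategoryTheory.Limits MonoidalCategory CartesianMonoidalCategory MonObj GrpObj AlgebraicGeometry
open SGA3

namespace Groth.Agent.S5383

/-- (i) let A ⊆ B be domains with B integral over A, and q a prime of B such that the local ring of A at
p = q ∩ A is unibranch; then Spec B → Spec A is open at q (it maps neighbourhoods of q to
neighbourhoods of p). (ii) Let f : X → Y be a dominant morphism of irreducible schemes which is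
locally of finite type, x a point of X isolated in its fibre (f quasi-finite at x) such that the
local ring of Y at f(x) is unibranch; then f is open at x. -/
theorem result :
    (∀ (A B : Type u) [CommRing A] [IsDomain A] [CommRing B] [IsDomain B] [Algebra A B],
      Function.Injective (algebraMap A B) → Algebra.IsIntegral A B →
      ∀ q : PrimeSpectrum B, CAlg2.IsUnibranch (Localization.AtPrime (q.asIdeal.comap (algebraMap A B))) →
        EGA43.IsOpenAt (PrimeSpectrum.comap (algebraMap A B)) q) ∧
    (∀ (X Y : Scheme.{u}) (f : X ⟶ Y) [IrreducibleSpace X] [IrreducibleSpace Y] [LocallyOfFiniteType f],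
      DenseRange f.base → ∀ x : X, (nhdsWithin x (f.base ⁻¹' {f.base x})) = pure x →
        CAlg2.IsUnibranch (Y.presheaf.stalk (f.base x)) → EGA43.IsOpenAt f.base x) := by
  refine ⟨fun A B _ _ _ _ _ hinj hint q hq => ?_, ?_⟩
  · haveI := hint
    exact Groth.Agent.H46.UnibranchCore.isOpenAt_of_isIntegral hinj q
      (Groth.Agent.H46.UnibranchDomain.ub_of_isLocalization _ hq)
  · intro X Y f _ _ _ hd x hiso hy
    obtain ⟨hmax, h0⟩ := Groth.Agent.H46.UnibranchCrit.trd_eq_zero_of_isolated f hiso
    have hs : genericPoint X ⤳ x := genericPoint_specializes x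
    have hfξ : f (genericPoint X) = genericPoint Y := by
      refine ((genericPoint_spec Y).eq (isGenericPoint_def.2 (Set.eq_univ_of_univ_subset ?_))).symm
      intro y _
      refine (closure_minimal (fun z hz => ?_) isClosed_closure) (hd.closure_range.ge (Set.mem_univ y))
      obtain ⟨a, rfl⟩ := hz
      exact ((genericPoint_specializes a).map f.continuous).mem_closure
    have hle : Groth.Agent.H46.FibreTrdeg.trd f (genericPoint X) = 0 :=
      Nat.le_zero.1 (h0 ▸ Groth.Agent.H46.FibreTrdeg.trd_le_of_specializes f hs hmax)
    refine Groth.Agent.H46.UnibranchSch.isOpenAt_of_trd_zero f hs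
      (Groth.Agent.H46.UnibranchCrit.nhd_of_irreducible
        (hfξ ▸ Groth.Agent.H46.UnibranchCrit.isMaxPt_genericPoint) _) hy hle fun ζ _ hζx hfζ => ?_
    rw [hmax ζ hfζ hζx, h0]
    exact Nat.zero_le _

end Groth.Agent.S5383
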