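import Groth.Statements.S5384
import Groth.Agent.Lib.ActSep.SubgroupClosed

set_option autoImplicit false
universe u
open CategoryTheory CategoryTheory.Limits MonoidalCategory CartesianMonoidalCategory MonObj GrpObj AlgebraicGeometry
open SGA3

namespace Groth.Agent.S5384

open Groth.Agent.Lib.ActSep

/-- Let A be a local artinian ring, G an A-group scheme and u : H → G a homomorphism of A-group schemes
which is an immersion (a subgroup scheme; no finiteness is assumed). Then u is a closed immersion. -/
theorem result (A : Type u) [CommRing A] [IsArtinianRing A] [IsLocalRing A] (G H : Over (Spec (CommRingCat.of A))) [GrpObj G] [GrpObj H]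
    (u : H ⟶ G) [IsMonHom u] [IsImmersion u.left] : IsClosedImmersion u.left :=
  IsClosedImmersion.iff_isPreimmersion.2 ⟨inferInstance,
    isClosed_of_mulStable u.left.isLocallyClosed_range
      ⟨_, η[H].left (IsLocalRing.closedPoint A), rfl⟩
      (range_mulStable u) (range_invStable u) (universallyOpen_fieldPoint A)⟩

end Groth.Agent.S5384
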