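import Groth.Statements.S5385
import Groth.Agent.S0376
import Groth.Agent.S0377
import Groth.Agent.S0372
import Groth.Agent.Lib.Excellent.Transport
-- import your own Groth.Agent.* helpers here

set_option autoImplicit false
set_option backward.isDefEq.respectTransparency false
set_option backward.isDefEq.respectTransparency.types false
universe u
open CategoryTheory CategoryTheory.Limits MonoidalCategory CartesianMonoidalCategory MonObj GrpObj AlgebraicGeometry
open SGA3

namespace Groth.Agent.S5385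

theorem exists_dualizing_artinian (A : Type u) [CommRing A] [IsArtinianRing A] [IsLocalRing A] :
    ∃ ω : Dual.D A, Dual.IsDualizing A ω := by
  obtain ⟨n, hn⟩ : IsNilpotent (IsLocalRing.maximalIdeal A) := by
    rw [← IsLocalRing.jacobson_eq_maximalIdeal ⊥ bot_ne_top]
    exact IsArtinianRing.isNilpotent_jacobson_bot
  have h0 : ∀ m, n ≤ m → (IsLocalRing.maximalIdeal A ^ m • ⊤ : Submodule A A) = ⊥ := fun m hm => by
    have h : IsLocalRing.maximalIdeal A ^ m = ⊥ := le_bot_iff.1 ((Ideal.pow_le_pow_right hm).trans hn.le)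
    rw [h, Submodule.bot_smul]
  have : IsHausdorff (IsLocalRing.maximalIdeal A) A := ⟨fun x hx => by
    have := SModEq.zero.1 (hx n); rwa [h0 n le_rfl, Submodule.mem_bot] at this⟩
  have : IsPrecomplete (IsLocalRing.maximalIdeal A) A := ⟨fun f hf => ⟨f n, fun m => by
    rcases le_total m n with h | h
    · exact hf h
    · have e := hf h
      rw [h0 n le_rfl, SModEq.bot] at e
      rw [e]⟩⟩
  have : IsAdicComplete (IsLocalRing.maximalIdeal A) A := ⟨⟩
  exact Groth.Agent.S0376.result A

/-- Let A be an artinian ring and X a nonempty scheme locally of finite type over A. Then X has a closed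
point whose local ring is Cohen–Macaulay. -/
theorem result (A : Type u) [CommRing A] [IsArtinianRing A] (X : Scheme.{u})
    (f : X ⟶ Spec (CommRingCat.of A)) [LocallyOfFiniteType f] [Nonempty X] :
    ∃ x : X, IsClosed ({x} : Set X) ∧ LocCoh.IsCohenMacaulayLocalRing (X.presheaf.stalk x) := by
  obtain ⟨x₀⟩ := ‹Nonempty X›
  let p : PrimeSpectrum A := f x₀
  have hopen : IsOpen ({p} : Set (PrimeSpectrum A)) := isOpen_discrete _
  obtain ⟨U, hU, hxU, hUp⟩ := exists_isAffineOpen_mem_and_subset (x := x₀)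
    (U := ⟨f ⁻¹' {p}, hopen.preimage f.continuous⟩) rfl
  let φ : A →+* Γ(X, U) := ((Scheme.ΓSpecIso (CommRingCat.of A)).inv ≫ f.appLE ⊤ U le_top).hom
  let := φ.toAlgebra
  have hφ : φ.FiniteType := by
    have h := f.finiteType_appLE (U := ⊤) (isAffineOpen_top _) hU le_top
    exact h.comp (RingHom.FiniteType.of_surjective _
      (ConcreteCategory.bijective_of_isIso (Scheme.ΓSpecIso (CommRingCat.of A)).inv).2)
  have : Algebra.FiniteType A Γ(X, U) := hφ
  have hunit : ∀ s : p.asIdeal.primeCompl, IsUnit (φ s) := fun s => by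
    by_contra hs
    obtain ⟨m, hm, hsm⟩ := exists_max_ideal_of_mem_nonunits hs
    have hq := hU.fromSpec_primeIdealOf
    let q : PrimeSpectrum Γ(X, U) := ⟨m, hm.isPrime⟩
    have hqU : hU.fromSpec q ∈ U := hU.range_fromSpec.le (Set.mem_range_self q)
    have hqp : f (hU.fromSpec q) = p := hUp hqU
    have e : hU.fromSpec ≫ f = Spec.map (CommRingCat.ofHom φ) := by
      show _ = Spec.map (_ ≫ _)
      rw [← IsAffineOpen.SpecMap_appLE_fromSpec f (isAffineOpen_top _) hU le_top, Spec.map_comp,
        IsAffineOpen.fromSpec_top, Scheme.isoSpec_Spec_inv]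
    rw [← Scheme.Hom.comp_apply, e] at hqp
    apply s.2
    exact (SetLike.ext_iff.1 (congrArg PrimeSpectrum.asIdeal hqp) (s : A)).1 hsm
  let ψ : Localization.AtPrime p.asIdeal →+* Γ(X, U) := IsLocalization.lift hunit
  let := ψ.toAlgebra
  have : IsScalarTower A (Localization.AtPrime p.asIdeal) Γ(X, U) :=
    IsScalarTower.of_algebraMap_eq fun a => (IsLocalization.lift_eq hunit a).symm
  have : Algebra.FiniteType (Localization.AtPrime p.asIdeal) Γ(X, U) :=
    Algebra.FiniteType.of_restrictScalars_finiteType A _ _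
  have : IsArtinianRing (Localization.AtPrime p.asIdeal) := inferInstance
  have : IsNoetherianRing Γ(X, U) := Algebra.FiniteType.isNoetherianRing (Localization.AtPrime p.asIdeal) _
  obtain ⟨ω, hω⟩ := exists_dualizing_artinian (Localization.AtPrime p.asIdeal)
  obtain ⟨ω', hω'⟩ := Groth.Agent.S0377.result _ ω hω Γ(X, U)
  obtain ⟨ho, hd⟩ := Groth.Agent.S0372.result Γ(X, U) ω' hω'
  have : Nonempty (PrimeSpectrum Γ(X, U)) := ⟨hU.primeIdealOf ⟨x₀, hxU⟩⟩
  have : JacobsonSpace X := LocallyOfFiniteType.jacobsonSpace f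
  obtain ⟨x, hx, hxc⟩ := nonempty_inter_closedPoints (hd.nonempty.image hU.fromSpec)
    (hU.fromSpec.isOpenEmbedding.isOpenMap _ ho).isLocallyClosed
  refine ⟨x, hxc, ?_⟩
  obtain ⟨q, hq, rfl⟩ := hx
  have hqU : hU.fromSpec q ∈ U := hU.range_fromSpec.le (Set.mem_range_self q)
  let := TopCat.Presheaf.algebra_section_stalk X.presheaf (U := U) ⟨_, hqU⟩
  have := hU.isLocalization_stalk ⟨_, hqU⟩
  have hq' : LocCoh.IsCohenMacaulayLocalRing (Localization.AtPrime (hU.primeIdealOf ⟨_, hqU⟩).asIdeal) := by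
    rwa [show hU.primeIdealOf ⟨hU.fromSpec q, hqU⟩ = q from
      hU.fromSpec.isOpenEmbedding.injective (hU.fromSpec_primeIdealOf ⟨_, hqU⟩)]
  exact Groth.Agent.Lib.Excellent.Transport.isCohenMacaulayLocalRing_of_ringEquiv
    (IsLocalization.algEquiv (hU.primeIdealOf ⟨_, hqU⟩).asIdeal.primeCompl
      (Localization.AtPrime (hU.primeIdealOf ⟨_, hqU⟩).asIdeal) (X.presheaf.stalk _)).toRingEquiv

end Groth.Agent.S5385
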