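import Groth.Statements.S5386
import Groth.Agent.Lib.ActSep.QuasiSection

set_option autoImplicit false
set_option backward.isDefEq.respectTransparency false
set_option backward.isDefEq.respectTransparency.types false
universe u
open CategoryTheory CategoryTheory.Limits MonoidalCategory CartesianMonoidalCategory MonObj GrpObj AlgebraicGeometry
open SGA3

namespace Groth.Agent.S5386

/-- Let A be a local artinian ring, G an A-group scheme which is flat and locally of finite type over A,
and x a closed point of G. Then there is a local A-algebra A', finite and free as an A-module, such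
that every point of G ⊗_A A' lying over x is strictly rational over A': it is the image of the
closed point under some section Spec A' → G ⊗_A A' of the projection. -/
theorem result (A : Type u) [CommRing A] [IsArtinianRing A] [IsLocalRing A] (G : Over (Spec (CommRingCat.of A))) [GrpObj G] [Flat G.hom]
    [LocallyOfFiniteType G.hom] (x : G.left) (hx : IsClosed ({x} : Set G.left)) :
    ∃ (A' : Type u) (_ : CommRing A') (_ : IsLocalRing A') (_ : Algebra A A') (_ : Module.Finite A A') (_ : Module.Free A A'),
      ∀ x' : ↥(pullback G.hom (Spec.map (CommRingCat.ofHom (algebraMap A A')))),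
        (pullback.fst G.hom (Spec.map (CommRingCat.ofHom (algebraMap A A')))).base x' = x →
        ∃ s : Spec (CommRingCat.of A') ⟶ pullback G.hom (Spec.map (CommRingCat.ofHom (algebraMap A A'))),
          s ≫ pullback.snd G.hom (Spec.map (CommRingCat.ofHom (algebraMap A A'))) = 𝟙 _ ∧ x' ∈ Set.range s.base := by
  obtain ⟨B, φ, j, hfin, hflat, hlft, hj, ⟨b₀⟩, hjx⟩ :=
    Groth.Agent.Lib.ActSep.exists_finiteFree_quasiSection G x hx
  let _ : Algebra A B := φ.hom.toAlgebra
  have hφ : CommRingCat.ofHom (algebraMap A B) = φ := rfl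
  have : Module.Finite A B := hfin
  have : Module.Flat A B := hflat
  let K : Type u := AlgebraicClosure (IsLocalRing.ResidueField A)
  have := Groth.Agent.Lib.ActSep.finite_algHom_field (A := A) B K
  let := Fintype.ofFinite (B →ₐ[A] K)
  obtain ⟨A', _, _, _, _, _, ev, hev⟩ :=
    Groth.Agent.Lib.ActSep.exists_finiteFree_local (A := A) B (K := K) Finset.univ
  refine ⟨A', inferInstance, inferInstance, inferInstance, inferInstance, inferInstance,
    fun x' hx' => ?_⟩
  have : IsArtinianRing A' := IsArtinianRing.of_finite A A'
  have hss : Subsingleton (Spec (CommRingCat.of A')) := Groth.Agent.Lib.ActSep.subsingleton_spec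
  let a := Spec.map (CommRingCat.ofHom (algebraMap A A'))
  have : IsFinite a := (IsFinite.SpecMap_iff _).mpr (RingHom.finite_algebraMap.mpr inferInstance)
  let e : Spec (CommRingCat.of K) ⟶ Spec (CommRingCat.of A') := Spec.map (CommRingCat.ofHom ev.toRingHom)
  let X := pullback (pullback.snd G.hom a) e
  -- `x'` is closed
  have hx'c : IsClosed ({x'} : Set ↥(pullback G.hom a)) := by
    refine closure_subset_iff_isClosed.mp fun y hy => ?_
    have hy' : (pullback.fst G.hom a) y = x :=
      closure_minimal (Set.singleton_subset_iff.mpr (show x' ∈ (pullback.fst G.hom a) ⁻¹' {x} from hx'))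
        (hx.preimage (pullback.fst G.hom a).continuous) hy
    have : DiscreteTopology ((pullback.fst G.hom a) ⁻¹' {x}) :=
      isDiscrete_iff_discreteTopology.mp ((pullback.fst G.hom a).isDiscrete_preimage_singleton x)
    let yF : (pullback.fst G.hom a) ⁻¹' {x} := ⟨y, hy'⟩
    let xF : (pullback.fst G.hom a) ⁻¹' {x} := ⟨x', hx'⟩
    have hsp : yF ∈ closure ({xF} : Set _) := by
      rw [closure_subtype, Set.image_singleton]; exact hy
    rw [closure_discrete] at hsp
    exact congrArg Subtype.val hsp
  -- a rational point of the geometric fibre over `x'`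
  let S : Set X := (pullback.fst (pullback.snd G.hom a) e) ⁻¹' {x'}
  have hSne : S.Nonempty := by
    obtain ⟨z⟩ : Nonempty (Spec (CommRingCat.of K)) := inferInstance
    obtain ⟨w, hw, -⟩ := Scheme.Pullback.exists_preimage_pullback (f := pullback.snd G.hom a)
      (g := e) x' z (Subsingleton.elim _ _)
    exact ⟨w, hw⟩
  have : JacobsonSpace X := LocallyOfFiniteType.jacobsonSpace (pullback.snd (pullback.snd G.hom a) e)
  obtain ⟨y, hy, hyc⟩ := nonempty_inter_closedPoints hSne
    (hx'c.preimage (pullback.fst (pullback.snd G.hom a) e).continuous).isLocallyClosed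
  let q : Spec (CommRingCat.of K) ⟶ pullback G.hom a :=
    pointOfClosedPoint (pullback.snd (pullback.snd G.hom a) e) y hyc ≫ pullback.fst _ _
  have hq : ∀ z, q z = x' := fun z => by
    rw [Scheme.Hom.comp_apply, pointOfClosedPoint_apply]; exact hy
  have hqs : q ≫ pullback.snd G.hom a = e := by
    rw [Category.assoc, pullback.condition, ← Category.assoc, pointOfClosedPoint_comp, Category.id_comp]
  let g := q ≫ pullback.fst G.hom a
  have hg : ∀ z, g z = x := fun z => by rw [Scheme.Hom.comp_apply, hq]; exact hx'
  -- lift `g` to the quasi-section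
  have : JacobsonSpace ↥(pullback j g) := LocallyOfFiniteType.jacobsonSpace (pullback.snd j g)
  obtain ⟨z₀⟩ : Nonempty (Spec (CommRingCat.of K)) := inferInstance
  obtain ⟨w, -, -⟩ := Scheme.Pullback.exists_preimage_pullback (f := j) (g := g) b₀ z₀
    ((hjx b₀).trans (hg z₀).symm)
  obtain ⟨v, -, hv⟩ := nonempty_inter_closedPoints (Z := Set.univ (α := ↥(pullback j g))) ⟨w, trivial⟩
    isClosed_univ.isLocallyClosed
  let p := pointOfClosedPoint (pullback.snd j g) v hv
  let h : Spec (CommRingCat.of K) ⟶ Spec B := p ≫ pullback.fst j g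
  have hh : h ≫ j = g := by
    rw [Category.assoc, pullback.condition, ← Category.assoc, pointOfClosedPoint_comp, Category.id_comp]
  obtain ⟨τ₀, hτ₀⟩ := Spec.map_surjective h
  have hcomm : φ ≫ τ₀ = CommRingCat.ofHom (algebraMap A K) := by
    apply Spec.map_injective
    rw [Spec.map_comp, hτ₀, ← hj, reassoc_of% hh, Category.assoc, pullback.condition,
      reassoc_of% hqs, ← Spec.map_comp]
    congr 1
    ext r
    exact ev.commutes r
  let τ : B →ₐ[A] K := { τ₀.hom with
    commutes' := fun r => RingHom.congr_fun (congrArg CommRingCat.Hom.hom hcomm) r }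
  obtain ⟨ψ, hψ⟩ := hev τ (Finset.mem_univ τ)
  let Ψ : B ⟶ CommRingCat.of A' := CommRingCat.ofHom ψ.toRingHom
  have hΨ : φ ≫ Ψ = CommRingCat.ofHom (algebraMap A A') := by
    ext r
    exact ψ.commutes r
  let s : Spec (CommRingCat.of A') ⟶ pullback G.hom a :=
    pullback.lift (Spec.map Ψ ≫ j) (𝟙 _)
      (by rw [Category.assoc, hj, ← Spec.map_comp, hΨ, Category.id_comp])
  have hs : e ≫ s = q := by
    apply pullback.hom_ext
    · rw [Category.assoc, pullback.lift_fst, ← Category.assoc, ← Spec.map_comp]
      have : Ψ ≫ CommRingCat.ofHom ev.toRingHom = τ₀ := by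
        ext r
        exact DFunLike.congr_fun hψ r
      rw [this, hτ₀]; exact hh
    · rw [Category.assoc, pullback.lift_snd, Category.comp_id, hqs]
  refine ⟨s, pullback.lift_snd _ _ _, e z₀, ?_⟩
  rw [← hq z₀, ← hs]; rfl

end Groth.Agent.S5386
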