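import Groth.Statements.S5387
import Groth.Agent.Lib.ActSep.GrpCM

set_option autoImplicit false
universe u
open CategoryTheory CategoryTheory.Limits MonoidalCategory CartesianMonoidalCategory MonObj GrpObj AlgebraicGeometry
open SGA3

namespace Groth.Agent.S5387

/-- Let k be an algebraically closed field, G a group scheme locally of finite type over k and x a
closed point of G. Then the local ring of G at x is isomorphic to the local ring of G at the unit
point (an isomorphism is induced by a translation; this row asserts the existence of an isomorphism
of rings). -/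
theorem result (k : Type u) [Field k] [IsAlgClosed k] (G : Over (Spec (CommRingCat.of k))) [GrpObj G]
    [LocallyOfFiniteType G.hom] (pt : ↥(𝟙_ (Over (Spec (CommRingCat.of k)))).left) (x : G.left) (hx : IsClosed ({x} : Set G.left)) :
    Nonempty (G.left.presheaf.stalk (η[G].left.base pt) ≅ G.left.presheaf.stalk x) := by
  refine Groth.Agent.Lib.ActSep.nonempty_stalk_iso ?_ hx
  have : IsLocallyNoetherian G.left := LocallyOfFiniteType.isLocallyNoetherian G.hom
  have : JacobsonSpace G.left := LocallyOfFiniteType.jacobsonSpace G.hom
  have hη : IsImmersion η[G].left := Groth.Agent.Lib.GrpSch.isImmersion_η G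
  have : Subsingleton ↥(𝟙_ (Over (Spec (CommRingCat.of k)))).left := inferInstanceAs (Subsingleton (PrimeSpectrum k))
  have h : ({η[G].left pt} : Set G.left) = Set.range η[G].left := by
    ext y
    exact ⟨fun h => ⟨pt, h.symm⟩, fun ⟨q, hq⟩ => hq ▸ congrArg η[G].left (Subsingleton.elim q pt)⟩
  exact isClosed_singleton_of_isLocallyClosed_singleton (h ▸ η[G].left.isLocallyClosed_range)

end Groth.Agent.S5387
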