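import Groth.Statements.S5388
import Groth.Agent.H63.GrpSmooth
import Groth.Agent.H56.SpecStalk
-- import your own Groth.Agent.* helpers here

set_option autoImplicit false
universe u
open CategoryTheory CategoryTheory.Limits MonoidalCategory CartesianMonoidalCategory MonObj GrpObj AlgebraicGeometry
open SGA3

namespace Groth.Agent.S5388
open Groth.Agent.H63.GrpSmooth

/-- Let G be a group scheme locally of finite type over a field k, e its unit point and K a perfect
extension field of k. If K ⊗_k O_{G,e} is a reduced ring, then G is smooth over k. (The published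
statement is for a group flat and locally of finite type over a local artinian ring, with K the
perfect closure of the residue field; this row is the case of a base field, with K any perfect
extension.) -/
theorem result (k : Type u) [Field k] (G : Over (Spec (CommRingCat.of k))) [GrpObj G]
    [LocallyOfFiniteType G.hom] (pt : ↥(𝟙_ (Over (Spec (CommRingCat.of k)))).left) (K : Type u) [Field K] [Algebra k K] [PerfectField K] :
    letI := ((Scheme.ΓSpecIso (CommRingCat.of k)).inv ≫ G.hom.appTop ≫ G.left.presheaf.germ ⊤ (η[G].left.base pt) trivial).hom.toAlgebra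
    IsReduced (TensorProduct k K (G.left.presheaf.stalk (η[G].left.base pt))) → Smooth G.hom := by
  intro hred
  let g : Spec (CommRingCat.of K) ⟶ Spec (CommRingCat.of k) := Spec.map (CommRingCat.ofHom (algebraMap k K))
  let e := η[G].left.base pt
  let j := G.left.fromSpecStalk e
  have hj : j ≫ G.hom = Spec.map (CommRingCat.ofHom ((Scheme.ΓSpecIso (CommRingCat.of k)).inv ≫ G.hom.appTop ≫ G.left.presheaf.germ ⊤ e trivial).hom) := by
    have h1 : G.hom = G.left.toSpecΓ ≫ Spec.map G.hom.appTop ≫ Spec.map (Scheme.ΓSpecIso (CommRingCat.of k)).inv := by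
      rw [← Scheme.toSpecΓ_naturality_assoc, ← SpecMap_ΓSpecIso_hom, ← Spec.map_comp, Iso.inv_hom_id, Spec.map_id]
      exact (Category.comp_id _).symm
    conv_lhs => rw [h1]
    rw [Scheme.fromSpecStalk_toSpecΓ_assoc, ← Spec.map_comp, ← Spec.map_comp]
    rfl
  have : IsReduced (pullback g (j ≫ G.hom)) := by
    rw [hj]
    let := ((Scheme.ΓSpecIso (CommRingCat.of k)).inv ≫ G.hom.appTop ≫ G.left.presheaf.germ ⊤ e trivial).hom.toAlgebra
    have : _root_.IsReduced (CommRingCat.of (TensorProduct k K (G.left.presheaf.stalk e))) := hred
    exact isReduced_of_isOpenImmersion (pullbackSpecIso k K (G.left.presheaf.stalk e)).hom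
  have : IsReduced (pullback j (pullback.fst G.hom g)) := by
    exact isReduced_of_isOpenImmersion
      ((pullbackRightPullbackFstIso G.hom g j) ≪≫ pullbackSymmetry _ _).hom
  obtain ⟨z, hz, -⟩ := Scheme.Pullback.exists_preimage_pullback (f := G.hom) (g := g) e
    (IsLocalRing.closedPoint _) (Subsingleton.elim (α := PrimeSpectrum k) _ _)
  obtain ⟨p, -, hp⟩ := Scheme.Pullback.exists_preimage_pullback (f := j) (g := pullback.fst G.hom g)
    (IsLocalRing.closedPoint _) z (Scheme.fromSpecStalk_closedPoint.trans hz.symm)
  have : Flat j := Groth.Agent.H56.SpecStalk.flat_fromSpecStalk _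
  refine smooth_of_isReduced_stalk G g z ?_
  subst hp
  exact isReduced_of_injective _
    (RingEquiv.ofBijective ((pullback.snd j (pullback.fst G.hom g)).stalkMap p).hom
      (Groth.Agent.H56.SpecStalk.stalkMap_bijective _ p)).injective

end Groth.Agent.S5388
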