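import Groth.Statements.S5389
import Groth.Agent.Lib.ActSep.MaxTarget
import Groth.Agent.Lib.ActSep.Homog

set_option autoImplicit false
universe u
open CategoryTheory CategoryTheory.Limits MonoidalCategory CartesianMonoidalCategory MonObj GrpObj AlgebraicGeometry
open SGA3

namespace Groth.Agent.S5389

/-- Let P be a property of morphisms of schemes which is local on the target for the fpqc topology
(stable under base change, Zariski-local on the target, and descending along flat surjective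
quasi-compact morphisms). Let u : G → H be a homomorphism of S-group schemes with G flat and
universally open over S, W the largest open subscheme of H over which the restriction of u has P,
and V = u⁻¹(W). Then the image U of V in S is open and V is an open subgroup scheme of G over U: V
contains the unit point of every fibre of G that it meets, V is stable under the inversion of G, and
the product of a point of G ×_S G whose two projections lie in V lies in V. -/
theorem result (P : MorphismProperty Scheme.{u}) [P.IsStableUnderBaseChange] [IsZariskiLocalAtTarget P]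
    [P.DescendsAlong (@Flat ⊓ @Surjective ⊓ @QuasiCompact)]
    (S : Scheme.{u}) (G H : Over S) [GrpObj G] [GrpObj H] (u : G ⟶ H) [IsMonHom u] [Flat G.hom] [UniversallyOpen G.hom]
    (W : H.left.Opens) (hW : P (u.left ∣_ W)) (hmax : ∀ W' : H.left.Opens, P (u.left ∣_ W') → W' ≤ W) :
    letI V : G.left.Opens := u.left ⁻¹ᵁ W
    IsOpen (G.hom.base '' (V : Set G.left)) ∧
    (∀ g ∈ V, ∀ p : ↥(𝟙_ (Over S)).left, (𝟙_ (Over S)).hom.base p = G.hom.base g → η[G].left.base p ∈ V) ∧
    (∀ g ∈ V, ι[G].left.base g ∈ V) ∧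
    (∀ z : ↥(G ⊗ G).left, (fst G G).left.base z ∈ V → (snd G G).left.base z ∈ V → μ[G].left.base z ∈ V) := by
  let V : G.left.Opens := u.left ⁻¹ᵁ W
  show IsOpen (G.hom.base '' (V : Set G.left)) ∧ _
  let f := (u ▷ G).left
  let q := (fst H G).left
  have : Flat q := Groth.Agent.Lib.GrpSch.fst_left_of (P := @Flat) H ‹_›
  have : UniversallyOpen q := Groth.Agent.Lib.GrpSch.fst_left_of (P := @UniversallyOpen) H ‹_›
  -- the largest open over which the base change has the property
  let W₁ : (H ⊗ G).left.Opens := ⨆ U : {U : (H ⊗ G).left.Opens // P (f ∣_ U)}, U.1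
  have hmax₁ : ∀ U, P (f ∣_ U) → U ≤ W₁ := fun U hU => le_iSup (fun U : {U // P (f ∣_ U)} => U.1) ⟨U, hU⟩
  have hW₁ : P (f ∣_ W₁) := by
    rw [IsZariskiLocalAtTarget.iff_of_iSup_eq_top (P := P)
      (fun U : {U : (H ⊗ G).left.Opens // P (f ∣_ U)} => W₁.ι ⁻¹ᵁ U.1)
      (by rw [← Scheme.Hom.preimage_iSup]; exact Scheme.Opens.ι_preimage_self W₁)]
    intro U
    refine ((MorphismProperty.arrow_mk_iso_iff P ((morphismRestrictRestrict f W₁ (W₁.ι ⁻¹ᵁ U.1)).trans
      (morphismRestrictEq f (show W₁.ι ''ᵁ (W₁.ι ⁻¹ᵁ U.1) = U.1 by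
        rw [Scheme.Hom.image_preimage_eq_opensRange_inf, Scheme.Opens.opensRange_ι]
        exact inf_eq_right.2 (hmax₁ _ U.2))))).2 U.2)
  have e1 : W₁ = q ⁻¹ᵁ W := Groth.Agent.Lib.ActSep.maxTarget_baseChange P
    (Groth.Agent.Lib.GrpSch.isPullback_whiskerRight u G).flip q.isOpenMap W hW hmax W₁ hW₁ hmax₁
  -- translating by the tautological point
  let τ := Groth.Agent.Lib.ActSep.mulR (G := H) u
  have : IsIso (Groth.Agent.Lib.ActSep.mulR (G := G) (𝟙 G)).left :=
    inferInstanceAs (IsIso ((Over.forget S).mapIso (Groth.Agent.Lib.ActSep.mulRIso (G := G) (𝟙 G))).hom)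
  have : IsIso τ.left :=
    inferInstanceAs (IsIso ((Over.forget S).mapIso (Groth.Agent.Lib.ActSep.mulRIso (G := H) u)).hom)
  have e2 : W₁ = τ.left ⁻¹ᵁ W₁ := by
    refine Groth.Agent.Lib.ActSep.maxTarget_baseChange P (IsPullback.of_horiz_isIso
      (fst := (Groth.Agent.Lib.ActSep.mulR (G := G) (𝟙 G)).left) (snd := f) (f := f) (g := τ.left) ⟨?_⟩)
      τ.left.isOpenMap W₁ hW₁ hmax₁ W₁ hW₁ hmax₁
    show _ ≫ (u ▷ G).left = (u ▷ G).left ≫ _
    rw [← Over.comp_left, ← Over.comp_left, Groth.Agent.Lib.ActSep.mulR_whiskerRight, Category.id_comp]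
  have key : ∀ z : ↥(G ⊗ G).left, μ[G].left z ∈ V ↔ (fst G G).left z ∈ V := by
    intro z
    have h1 : q ((u ▷ G).left z) = u.left ((fst G G).left z) := by
      rw [← Scheme.Hom.comp_apply, ← Over.comp_left, whiskerRight_fst, Over.comp_left, Scheme.Hom.comp_apply]
    have h2 : q (τ.left ((u ▷ G).left z)) = u.left (μ[G].left z) := by
      rw [← Scheme.Hom.comp_apply, ← Scheme.Hom.comp_apply, ← Over.comp_left, ← Over.comp_left,
        ← Scheme.Hom.comp_apply μ[G].left, ← Over.comp_left]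
      congr 3
      simp [τ, Groth.Agent.Lib.ActSep.mulR, MonObj.comp_mul, MonObj.mul_eq_mul, MonObj.mul_comp]
    show u.left (μ[G].left z) ∈ W ↔ u.left ((fst G G).left z) ∈ W
    rw [← h2, ← h1]
    show τ.left ((u ▷ G).left z) ∈ q ⁻¹ᵁ W ↔ (u ▷ G).left z ∈ q ⁻¹ᵁ W
    rw [← e1]
    conv_rhs => rw [e2]
    rfl
  have hinv : ∀ g : G.left, (η[G].left (G.hom g) ∈ V ↔ g ∈ V) ∧ (η[G].left (G.hom g) ∈ V ↔ ι[G].left g ∈ V) := by
    intro g
    have h := key ((lift (𝟙 G) (𝟙 G)⁻¹).left g)
    have h' := key ((lift ι[G] (𝟙 G)).left g)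
    rw [← Scheme.Hom.comp_apply, ← Over.comp_left, ← Scheme.Hom.comp_apply, ← Over.comp_left, lift_fst,
      ← Hom.mul_def, mul_inv_cancel, Hom.one_def, Over.comp_left, Scheme.Hom.comp_apply] at h
    rw [← Scheme.Hom.comp_apply, ← Over.comp_left, ← Scheme.Hom.comp_apply, ← Over.comp_left, lift_fst,
      ← Hom.mul_def, show ι[G] = (𝟙 G)⁻¹ from (Hom.inv_def (𝟙 G)).symm ▸ (Category.id_comp _).symm,
      inv_mul_cancel, Hom.one_def, Over.comp_left, Scheme.Hom.comp_apply] at h'
    have e : (toUnit G).left g = G.hom g :=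
      congrArg (fun φ : G.left ⟶ S => φ g) ((Category.comp_id _).symm.trans (Over.w (toUnit G)))
    rw [e] at h h'
    exact ⟨h, h'.trans (by rw [show ι[G] = (𝟙 G)⁻¹ from (Hom.inv_def (𝟙 G)).symm ▸ (Category.id_comp _).symm])⟩
  refine ⟨G.hom.isOpenMap _ V.2, fun g hg p hp => ?_, fun g hg => (hinv g).2.1 ((hinv g).1.2 hg),
    fun z h1 _ => (key z).2 h1⟩
  obtain rfl : p = G.hom g := hp
  exact (hinv g).1.2 hg


end Groth.Agent.S5389
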