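import Groth.Statements.S5391
import Groth.Agent.Lib.ActSep.QuasiSectionRel

set_option autoImplicit false
set_option backward.isDefEq.respectTransparency false
set_option backward.isDefEq.respectTransparency.types false
universe u
open CategoryTheory CategoryTheory.Limits MonoidalCategory CartesianMonoidalCategory MonObj GrpObj AlgebraicGeometry
open SGA3

namespace Groth.Agent.S5391

/-- Let f : X → S be a morphism locally of finite presentation, s a point of S and x a point of the
fibre X_s = f⁻¹(s) which is closed in it. Suppose f is universally open at the generic point z of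
some irreducible component Z of the fibre X_s containing x, with the local dimension of X_s at x
equal to dim Z. Then there are an affine scheme S', an etale morphism w : S' → S, a finite
surjective morphism of finite presentation π : S'' → S', and a morphism h : S'' → X with h f = π w,
such that exactly one point s'' of S'' lies over s, h(s'') = x, and h induces an isomorphism κ(x) ≅
κ(s''). -/
theorem result (X S : Scheme.{u}) (f : X ⟶ S) [LocallyOfFinitePresentation f]
    (s : S) (x : X) (hxs : f.base x = s) (hx : IsClosed ((Subtype.val : ↥(f.base ⁻¹' {s}) → X) ⁻¹' {x}))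
    (Z : Set ↥(f.base ⁻¹' {s})) (hZ : Z ∈ irreducibleComponents ↥(f.base ⁻¹' {s})) (hxZ : x ∈ (Subtype.val '' Z))
    (z : X) (hz : z ∈ Subtype.val '' Z ∧ Subtype.val '' Z ⊆ closure {z}) (hopen : EGA43.IsUnivOpenAt f z)
    (hdim : FlatMor.localDim ↥(f.base ⁻¹' {s}) ⟨x, hxs⟩ = topologicalKrullDim ↥Z) :
    ∃ (S' S'' : Scheme.{u}) (_ : IsAffine S') (w : S' ⟶ S) (π : S'' ⟶ S') (h : S'' ⟶ X),
      Etale w ∧ IsFinite π ∧ Surjective π ∧ LocallyOfFinitePresentation π ∧ h ≫ f = π ≫ w ∧
      ∃ s'' : S'', (π ≫ w).base ⁻¹' {s} = {s''} ∧ h.base s'' = x ∧ IsIso (h.residueFieldMap s'') := by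
  obtain ⟨⟨z₀, hz₀Z, hz₀⟩, hZcl⟩ := hz
  obtain ⟨x₀, hx₀Z, hx₀⟩ := hxZ
  subst hxs
  have hzs : f.base z = f.base x := hz₀ ▸ z₀.2
  have hzx : z ⤳ x := specializes_iff_mem_closure.2 (hZcl ⟨x₀, hx₀Z, hx₀⟩)
  have hsub : ∀ {w : ↥(f.base ⁻¹' {f.base x})}, Z ⊆ closure {w} → closure {w} = Z := fun {w} h =>
    (hZ.2 isIrreducible_singleton.closure h).antisymm h
  have hZle : Z ⊆ closure {z₀} := fun v hv => by
    rw [closure_subtype, Set.image_singleton, hz₀]
    exact hZcl ⟨v, hv, rfl⟩
  have hZeq : Subtype.val '' Z = closure ({z} : Set X) ∩ f.base ⁻¹' {f.base z} := by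
    rw [hzs]
    refine Set.Subset.antisymm (fun v hv => ⟨hZcl hv, ?_⟩) ?_
    · obtain ⟨v, -, rfl⟩ := hv
      exact v.2
    · rintro v ⟨hv, hvs⟩
      refine ⟨⟨v, hvs⟩, ?_, rfl⟩
      rw [← hsub hZle, closure_subtype, Set.image_singleton, hz₀]
      exact hv
  have hmax : Groth.Agent.H46.FibreTrdeg.IsMaxFib f z := by
    intro z' hz' hs
    let w : ↥(f.base ⁻¹' {f.base x}) := ⟨z', hz'.trans hzs⟩
    have hle : Z ⊆ closure {w} := fun v hv => by
      rw [closure_subtype, Set.image_singleton]
      exact (hs.trans (specializes_iff_mem_closure.2 (hZcl ⟨v, hv, rfl⟩))).mem_closure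
    have hw : w ∈ Z := hsub hle ▸ subset_closure rfl
    exact (hs.antisymm (specializes_iff_mem_closure.2 (hZcl ⟨w, hw, rfl⟩))).eq
  have hd : FlatMor.fibreDimAt f x = (Groth.Agent.H46.FibreTrdeg.trd f z : WithBot ℕ∞) := by
    rw [Groth.Agent.Lib.FibreDim.Basic.fibreDimAt_eq, hdim,
      ← Groth.Agent.H46.FibreTrdeg.dim_closure_inter f z,
      (Topology.IsEmbedding.subtypeVal.homeomorphImage Z).isHomeomorph.topologicalKrullDim_eq _, hZeq]
  exact Groth.Agent.Lib.ActSep.exists_quasiSection f hzx hzs hmax hopen hd.le hx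

end Groth.Agent.S5391
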