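import Groth.Statements.S5393
import Groth.Agent.Lib.ActSep.NeutralHom
import Mathlib.AlgebraicGeometry.Morphisms.FlatMono
-- import your own Groth.Agent.* helpers here

set_option autoImplicit false
set_option backward.isDefEq.respectTransparency false
set_option backward.isDefEq.respectTransparency.types false
universe u
open CategoryTheory CategoryTheory.Limits MonoidalCategory CartesianMonoidalCategory MonObj GrpObj AlgebraicGeometry
open SGA3

namespace Groth.Agent.S5393

open Groth.Agent.Lib.ActSep

variable {S : Scheme.{u}} {H N : Over S} [GrpObj H] [GrpObj N] (j : H ⟶ N) [IsMonHom j]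

theorem neutralSet_eq_univ (hconn : ∀ s : S, _root_.IsConnected (H.hom ⁻¹' {s})) :
    SGA3x.neutralSet H = Set.univ :=
  Set.eq_univ_of_forall fun h => (mem_neutralSet_iff H h).2
    ((hconn (H.hom h)).isPreconnected.subset_connectedComponentIn (hom_η H _) subset_rfl rfl)

theorem image_fibre (hr : Set.range j.left = SGA3x.neutralSet N) (s : S) :
    j.left '' (H.hom ⁻¹' {s}) = SGA3x.neutralSet N ∩ N.hom ⁻¹' {s} := by
  rw [← hr, ← Set.image_preimage_eq_range_inter]
  congr 1
  ext h
  simp only [Set.mem_preimage, Set.mem_singleton_iff]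
  rw [← Scheme.Hom.comp_apply, Over.w]

theorem isOpenImmersion_map_of_lift [LocallyOfFiniteType N.hom] [Mono j]
    (hr : Set.range j.left = SGA3x.neutralSet N)
    (hl : ∀ (T : Over S) (g : T ⟶ N), Set.range g.left ⊆ SGA3x.neutralSet N → ∃ h : T ⟶ H, h ≫ j = g) (s : S) :
    IsOpenImmersion ((Over.pullback (S.fromSpecResidueField s)).map j).left := by
  let r := S.fromSpecResidueField s
  have : LocallyOfFiniteType (Red.bc r N).hom :=
    MorphismProperty.pullback_snd (P := @LocallyOfFiniteType) _ _ ‹_›
  have hO : IsOpen ((pullback.fst N.hom r) ⁻¹' SGA3x.neutralSet N) := by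
    rw [← neutralSet_bc]
    exact isOpen_neutralSet_field (k := S.residueField s)
  let O : (pullback N.hom r).Opens := ⟨_, hO⟩
  let g : Over.mk (O.ι ≫ pullback.snd N.hom r ≫ r) ⟶ N := Over.homMk (O.ι ≫ pullback.fst N.hom r) (by
    show (O.ι ≫ pullback.fst N.hom r) ≫ N.hom = _
    rw [Category.assoc, pullback.condition]; rfl)
  obtain ⟨h, hh⟩ := hl _ g (by rintro _ ⟨w, rfl⟩; exact w.2)
  have hh' : h.left ≫ j.left = O.ι ≫ pullback.fst N.hom r := by rw [← Over.comp_left, hh]; rfl
  let σ : (O : Scheme.{u}) ⟶ pullback H.hom r := pullback.lift h.left (O.ι ≫ pullback.snd N.hom r) (by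
    rw [Over.w h]; exact (Category.assoc _ _ _).symm)
  let m : pullback H.hom r ⟶ pullback N.hom r := ((Over.pullback r).map j).left
  have hmfst : m ≫ pullback.fst N.hom r = pullback.fst H.hom r ≫ j.left :=
    (isPullback_map j r).w.symm
  have hmsnd : m ≫ pullback.snd N.hom r = pullback.snd H.hom r := pullback.lift_snd _ _ _
  have hσm : σ ≫ m = O.ι := by
    refine pullback.hom_ext ?_ ?_
    · rw [Category.assoc, hmfst, pullback.lift_fst_assoc, hh']
    · rw [Category.assoc, hmsnd, pullback.lift_snd]
  let m' : pullback H.hom r ⟶ O := IsOpenImmersion.lift O.ι m (by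
    rintro _ ⟨z, rfl⟩
    rw [Scheme.Opens.range_ι]
    show pullback.fst N.hom r (m z) ∈ SGA3x.neutralSet N
    rw [← hr, ← Scheme.Hom.comp_apply, hmfst]
    exact ⟨_, rfl⟩)
  have hm' : m' ≫ O.ι = m := IsOpenImmersion.lift_fac _ _ _
  have : Mono m := (MorphismProperty.monomorphisms Scheme.{u}).of_isPullback (isPullback_map j r)
    (inferInstance : Mono j.left)
  have : IsIso m' := by
    refine ⟨σ, ?_, ?_⟩
    · rw [← cancel_mono m, Category.assoc, hσm, hm', Category.id_comp]
    · rw [← cancel_mono O.ι, Category.assoc, hm', hσm, Category.id_comp]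
  show IsOpenImmersion m
  rw [← hm']
  infer_instance

/-- Let G be an S-group scheme locally of finite presentation and quasi-separated over S, H an S-group
scheme smooth and of finite presentation over S with connected fibres, u : H → G a homomorphism
which is a monomorphism, n : N → G the normalizer of H in G (a closed subgroup scheme) and j : H → N
the homomorphism with j n = u. The following are equivalent: (i) j is an open immersion; (ii) H
represents the neutral component of N: a point g : T → N factors through j exactly when the image of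
its underlying map lies in the union of the neutral components of the fibres of N; (iii) for every s
in S, the fibre j_s : H_s → N_s is an open immersion whose image is the neutral component of N_s.
(The published statement asks H only to be smooth over S with connected fibres; this row also asks H
quasi-compact and quasi-separated over S, the hypotheses under which the normalizer is shown to be
representable.) -/
theorem result (S : Scheme.{u}) (G H N : Over S) [GrpObj G] [GrpObj H] [GrpObj N]
    [LocallyOfFinitePresentation G.hom] [QuasiSeparated G.hom] [Smooth H.hom] [QuasiCompact H.hom] [QuasiSeparated H.hom]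
    (hconn : ∀ s : S, _root_.IsConnected (H.hom.base ⁻¹' {s})) (u : H ⟶ G) [IsMonHom u] [Mono u]
    (n : N ⟶ G) [IsClosedImmersion n.left] (hN : Red.IsNormalizerOf u n) (j : H ⟶ N) [IsMonHom j] (hj : j ≫ n = u) :
    (IsOpenImmersion j.left ↔
      ∀ (T : Over S) (g : T ⟶ N), (∃ h : T ⟶ H, h ≫ j = g) ↔ Set.range g.left.base ⊆ SGA3x.neutralSet N) ∧
    (IsOpenImmersion j.left ↔
      ∀ s : S, IsOpenImmersion ((Over.pullback (S.fromSpecResidueField s)).map j).left ∧
        j.left.base '' (H.hom.base ⁻¹' {s}) = SGA3x.neutralSet N ∩ N.hom.base ⁻¹' {s}) := by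
  have : LocallyOfFiniteType N.hom := by rw [← Over.w n]; infer_instance
  have : LocallyOfFinitePresentation j.left :=
    Groth.Agent.Lib.Flat55.FibreTransfer.locallyOfFinitePresentation j.left N.hom (Over.w j)
  have : Mono j := by
    have : Mono (j ≫ n) := by rw [hj]; infer_instance
    exact mono_of_mono j n
  have hrange : (∀ s : S, IsOpenMap ((Over.pullback (S.fromSpecResidueField s)).map j).left) →
      Set.range j.left = SGA3x.neutralSet N := fun hop => by
    rw [← image_neutralSet_of_fibres j hop, neutralSet_eq_univ hconn, Set.image_univ]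
  have hfib : IsOpenImmersion j.left → ∀ s : S,
      IsOpenImmersion ((Over.pullback (S.fromSpecResidueField s)).map j).left := fun hi s =>
    MorphismProperty.of_isPullback (P := @IsOpenImmersion) (isPullback_map j _) hi
  have hrange' : IsOpenImmersion j.left → Set.range j.left = SGA3x.neutralSet N := fun hi =>
    hrange fun s => (have := hfib hi s; ((Over.pullback (S.fromSpecResidueField s)).map j).left.isOpenEmbedding.isOpenMap)
  have hback : (∀ s : S, IsOpenImmersion ((Over.pullback (S.fromSpecResidueField s)).map j).left) →
      IsOpenImmersion j.left := fun hs => by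
    have : Flat j.left := flat_of_map j fun s => (have := hs s; inferInstance)
    exact IsOpenImmersion.of_flat_of_mono j.left
  refine ⟨⟨fun hi T g => ⟨?_, fun hg => ?_⟩, fun hl => hback fun s => ?_⟩,
    fun hi s => ⟨hfib hi s, image_fibre j (hrange' hi) s⟩, fun hs => hback fun s => (hs s).1⟩
  · rintro ⟨h, rfl⟩
    rw [Over.comp_left, ← hrange' hi]
    exact Set.range_comp_subset_range h.left j.left
  · refine ⟨Over.homMk (IsOpenImmersion.lift j.left g.left ((hrange' hi).symm ▸ hg)) ?_, ?_⟩
    · rw [← Over.w j, IsOpenImmersion.lift_fac_assoc, Over.w]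
    · ext1; exact IsOpenImmersion.lift_fac _ _ _
  · refine isOpenImmersion_map_of_lift j (Set.Subset.antisymm ((hl H j).1 ⟨𝟙 H, Category.id_comp j⟩) ?_)
      (fun T g => (hl T g).2) s
    intro x hx
    obtain ⟨h, hh⟩ := (hl (Over.mk (N.left.fromSpecResidueField x ≫ N.hom))
      (Over.homMk (N.left.fromSpecResidueField x))).2 (by
        rintro _ ⟨p, rfl⟩
        show N.left.fromSpecResidueField x p ∈ _
        rw [Scheme.fromSpecResidueField_apply]; exact hx)
    refine ⟨h.left (IsLocalRing.closedPoint _), ?_⟩
    rw [← Scheme.Hom.comp_apply, ← Over.comp_left, hh]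
    exact Scheme.fromSpecResidueField_apply _ _

end Groth.Agent.S5393
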