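import Groth.Statements.S5394
import Groth.Agent.Lib.ActSep.DensePair
import Groth.Agent.Lib.GrpSch.Translate
import Groth.Agent.Lib.SchTopo.Closure
import Groth.Agent.Lib.Flat55.FibreTransfer

set_option autoImplicit false
universe u
open CategoryTheory CategoryTheory.Limits MonoidalCategory CartesianMonoidalCategory MonObj GrpObj AlgebraicGeometry
open SGA3

namespace Groth.Agent.S5394

open Groth.Agent.Lib

theorem homeo_components {X Y : Type*} [TopologicalSpace X] [TopologicalSpace Y] (e : X ≃ₜ Y) {x : X}
    (h : closure {x} ∈ irreducibleComponents X) : closure {e x} ∈ irreducibleComponents Y := by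
  have h1 := preimage_mem_irreducibleComponents h e.symm.isOpenEmbedding
    ⟨x, subset_closure rfl, e x, e.symm_apply_apply x⟩
  rwa [e.symm.preimage_closure, ← e.image_eq_preimage_symm, Set.image_singleton] at h1

/-- Let G be an S-group scheme which is flat and locally of finite presentation over S and f : X → G a
morphism of S-schemes with X locally of finite presentation over S. Suppose that for every point s
of S and every maximal point g of the fibre G_s (generic point of an irreducible component) there is
a point x of X with f(x) = g at which f is flat. Let V be the open subscheme of X where f is flat.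
Then the morphism V ×_S V → G, (x, y) ↦ f(x)·f(y), is flat, locally of finite presentation and
surjective; in particular X ×_S X → G, (x, y) ↦ f(x)·f(y), is covering for the fppf topology. (The
published statement does not assume G flat over S and asserts only the covering property; this row
assumes G flat over S, as the flatness step of the printed proof does, and concludes the flat,
locally finitely presented, surjective form that proof establishes. Without flatness of G the
flatness conclusion fails, e.g. for the identity of the closed subgroup tx = 0 of the additive group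
over k[t].) -/
theorem result (S : Scheme.{u}) (G X : Over S) [GrpObj G] [LocallyOfFinitePresentation G.hom] [Flat G.hom]
    [LocallyOfFinitePresentation X.hom] (f : X ⟶ G)
    (hf : ∀ (s : S) (g : ↥(G.hom.base ⁻¹' {s})), closure {g} ∈ irreducibleComponents ↥(G.hom.base ⁻¹' {s}) →
      ∃ x : X.left, f.left.base x = g.1 ∧ (f.left.stalkMap x).hom.Flat)
    (V : X.left.Opens) (hV : (V : Set X.left) = {x : X.left | (f.left.stalkMap x).hom.Flat}) :
    letI fV : Over.mk (V.ι ≫ X.hom) ⟶ G := Over.homMk (V.ι ≫ f.left) ((Category.assoc _ _ _).trans (congrArg (V.ι ≫ ·) (Over.w f)))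
    Flat ((fV ⊗ₘ fV) ≫ μ[G]).left ∧ LocallyOfFinitePresentation ((fV ⊗ₘ fV) ≫ μ[G]).left ∧
      Surjective ((fV ⊗ₘ fV) ≫ μ[G]).left := by
  let fV : Over.mk (V.ι ≫ X.hom) ⟶ G := Over.homMk (V.ι ≫ f.left) ((Category.assoc _ _ _).trans (congrArg (V.ι ≫ ·) (Over.w f)))
  have hfl : Flat fV.left := by
    show Flat (V.ι ≫ f.left)
    refine Flat.of_stalkMap _ fun y => ?_
    rw [Scheme.Hom.stalkMap_comp]
    exact (RingHom.Flat.respectsIso.cancel_right_isIso (f.left.stalkMap (V.ι y)) (V.ι.stalkMap y)).2 (hV.le y.2)
  have hlfp : LocallyOfFinitePresentation fV.left := by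
    have h1 : LocallyOfFinitePresentation (f.left ≫ G.hom) := by rw [Over.w]; infer_instance
    have : LocallyOfFinitePresentation f.left := Flat55.FibreTransfer.locallyOfFinitePresentation_of_comp h1 inferInstance
    exact inferInstanceAs (LocallyOfFinitePresentation (V.ι ≫ f.left))
  have hμ : Flat μ[G].left := GrpSch.act_left_of (GrpSch.regularAction G) (P := @Flat) ‹_›
  have hμ' : LocallyOfFinitePresentation μ[G].left :=
    GrpSch.act_left_of (GrpSch.regularAction G) (P := @LocallyOfFinitePresentation) ‹_›
  have h2 : Flat (fV ⊗ₘ fV).left := GrpSch.tensorHom_left_of (P := @Flat) fV fV hfl hfl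
  have h3 : LocallyOfFinitePresentation (fV ⊗ₘ fV).left :=
    GrpSch.tensorHom_left_of (P := @LocallyOfFinitePresentation) fV fV hlfp hlfp
  refine ⟨?_, ?_, ⟨fun g => ?_⟩⟩
  · show Flat ((fV ⊗ₘ fV) ≫ μ[G]).left
    rw [Over.comp_left]; infer_instance
  · show LocallyOfFinitePresentation ((fV ⊗ₘ fV) ≫ μ[G]).left
    rw [Over.comp_left]; infer_instance
  let s := G.hom g
  let T : Over S := Over.mk (G.left.fromSpecResidueField g ≫ G.hom)
  let gT : T ⟶ G := Over.homMk (G.left.fromSpecResidueField g) rfl
  let R : Over S := Over.mk (S.fromSpecResidueField s)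
  let π : T ⟶ R := Over.homMk (Spec.map (G.hom.residueFieldMap g)) (Scheme.Hom.SpecMap_residueFieldMap_fromSpecResidueField _ _)
  have : Flat π.left := by
    show Flat (Spec.map (G.hom.residueFieldMap g))
    rw [Flat.SpecMap_iff]
    letI := (G.hom.residueFieldMap g).hom.toAlgebra
    exact (inferInstance : Module.Flat (S.residueField (G.hom g)) (G.left.residueField g))
  have : Flat (G ◁ π).left := GrpSch.whiskerLeft_left_of (P := @Flat) G π ‹_›
  have hgen := Flat.generalizingMap (G ◁ π).left
  obtain ⟨φ, hφ⟩ := ActSep.exists_flip G T gT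
  obtain ⟨η₀, hη₀, -⟩ := SchTopo.Closure.exists_maximal_specializes (G ⊗ T).left
    ((lift gT (𝟙 T)).left (IsLocalRing.closedPoint (G.left.residueField g)))
  have hφη : closure {φ η₀} ∈ irreducibleComponents ↥(G ⊗ T).left := homeo_components φ hη₀
  have hmem : ∀ w, closure {w} ∈ irreducibleComponents ↥(G ⊗ T).left → ∃ v : (Over.mk (V.ι ≫ X.hom)).left,
      fV.left v = (fst G T).left w := by
    intro w hw
    have hw' : closure {(G ◁ π).left w} ∈ irreducibleComponents ↥(G ⊗ R).left :=
      SchTopo.Closure.maximal_of_forall_eq fun b hb => by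
        obtain ⟨c, hc, rfl⟩ := hgen hb
        rw [SchTopo.Closure.eq_of_specializes_of_closure_mem hw hc]
    obtain ⟨x, hx, hfx⟩ := hf s (G.hom.fiberHomeo s ((G ◁ π).left w)) (homeo_components (G.hom.fiberHomeo s) hw')
    refine ⟨⟨x, hV.ge hfx⟩, ?_⟩
    show f.left x = _
    rw [show f.left x = (G.hom.fiberHomeo s ((G ◁ π).left w)).1 from hx]
    show (fst G R).left ((G ◁ π).left w) = _
    rw [← Scheme.Hom.comp_apply, ← Over.comp_left, whiskerLeft_fst]
  obtain ⟨z, h1, h2, h3⟩ := hφ η₀
  obtain ⟨a, ha⟩ := hmem η₀ hη₀
  obtain ⟨b, hb⟩ := hmem _ hφη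
  obtain ⟨w, hw, -⟩ := Scheme.exists_preimage_of_isPullback (GrpSch.isPullback_whiskerRight fV G) z a
    (h1.trans ha.symm)
  have hwb : (snd (Over.mk (V.ι ≫ X.hom)) G).left w = fV.left b := by
    rw [← whiskerRight_snd fV G, Over.comp_left, Scheme.Hom.comp_apply, show (fV ▷ G).left w = z from hw, hb]
    exact h2
  obtain ⟨v, hv, -⟩ := Scheme.exists_preimage_of_isPullback (GrpSch.isPullback_whiskerLeft (Over.mk (V.ι ≫ X.hom)) fV) w b hwb
  refine ⟨v, ?_⟩
  show ((fV ⊗ₘ fV) ≫ μ[G]).left v = g
  rw [Over.comp_left, tensorHom_def', Over.comp_left, Scheme.Hom.comp_apply, Scheme.Hom.comp_apply,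
    show ((Over.mk (V.ι ≫ X.hom)) ◁ fV).left v = w from hv, show (fV ▷ G).left w = z from hw, h3]
  exact G.left.fromSpecResidueField_apply g _

end Groth.Agent.S5394
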