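import Groth.Statements.S5395
import Groth.Agent.Lib.GrpSch.GeomPoints
import Groth.Agent.Lib.GrpSch.BaseChange

set_option autoImplicit false
universe u
open CategoryTheory CategoryTheory.Limits MonoidalCategory CartesianMonoidalCategory MonObj GrpObj AlgebraicGeometry
open SGA3

namespace Groth.Agent.S5395

theorem exists_isLocallyClosed_of_ind {X : Type*} [TopologicalSpace X] {A : Set X}
    (hA : ProCons.IsIndConstructible A) {x : X} (hx : x ∈ A) :
    ∃ Z : Set X, IsLocallyClosed Z ∧ x ∈ Z ∧ Z ⊆ A := by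
  obtain ⟨U, hU, hxU, S, hS, hAU⟩ := hA x
  obtain ⟨T, hT, hxT⟩ : (⟨x, hxU⟩ : U) ∈ ⋃₀ S := hAU.le hx
  obtain ⟨V, hV, hVo, hVc⟩ := hS T hT ⟨x, hxU⟩
  obtain ⟨Z, hZ, hxZ, hZT⟩ := Lib.GrpSch.exists_isLocallyClosed_subset hVc ⟨⟨x, hxU⟩, mem_of_mem_nhds hV⟩ hxT
  have h1 : IsLocallyClosed (((↑) : V → U) '' Z) :=
    hZ.image hVo.isOpenEmbedding_subtypeVal.isInducing (by rw [Subtype.range_coe]; exact hVo.isLocallyClosed)
  refine ⟨((↑) : U → X) '' (((↑) : V → U) '' Z),
    h1.image hU.isOpenEmbedding_subtypeVal.isInducing (by rw [Subtype.range_coe]; exact hU.isLocallyClosed),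
    ⟨⟨x, hxU⟩, ⟨⟨⟨x, hxU⟩, mem_of_mem_nhds hV⟩, hxZ, rfl⟩, rfl⟩, ?_⟩
  rintro _ ⟨_, ⟨v, hv, rfl⟩, rfl⟩
  exact hAU.ge ⟨T, hT, hZT hv⟩

/-- Let k be an algebraically closed field, G a group scheme locally of finite type over k, and A, B two
ind-constructible subsets of G. Let A·B be the image under the multiplication of the set of points
of G ×_k G whose two projections lie in A and B. Then every closed point z of G lying in A·B is the
product of a closed point of G ×_k G whose two projections lie in A and B (and are then closed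
points): the rational points of A·B are the products of rational points of A and of B. -/
theorem result (k : Type u) [Field k] [IsAlgClosed k] (G : Over (Spec (CommRingCat.of k))) [GrpObj G]
    [LocallyOfFiniteType G.hom] (A B : Set G.left) (hA : ProCons.IsIndConstructible A) (hB : ProCons.IsIndConstructible B)
    (z : G.left) (hz : IsClosed ({z} : Set G.left))
    (hzAB : z ∈ μ[G].left.base '' {w : ↥(G ⊗ G).left | (fst G G).left.base w ∈ A ∧ (snd G G).left.base w ∈ B}) :
    ∃ w : ↥(G ⊗ G).left, IsClosed ({w} : Set ↥(G ⊗ G).left) ∧ (fst G G).left.base w ∈ A ∧ (snd G G).left.base w ∈ B ∧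
      μ[G].left.base w = z := by
  have h1 : LocallyOfFiniteType (pullback.fst G.hom G.hom) :=
    MorphismProperty.pullback_fst (P := @LocallyOfFiniteType) _ _ ‹_›
  have h2 : LocallyOfFiniteType (G ⊗ G).hom := by
    show LocallyOfFiniteType (pullback.fst G.hom G.hom ≫ G.hom)
    infer_instance
  have : JacobsonSpace ↥(G ⊗ G).left := LocallyOfFiniteType.jacobsonSpace (G ⊗ G).hom
  obtain ⟨w, ⟨hwA, hwB⟩, hwz⟩ := hzAB
  obtain ⟨ZA, hZA, hwZA, hZAs⟩ := exists_isLocallyClosed_of_ind hA hwA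
  obtain ⟨ZB, hZB, hwZB, hZBs⟩ := exists_isLocallyClosed_of_ind hB hwB
  obtain ⟨c, ⟨⟨hcA, hcB⟩, hcz⟩, hc⟩ := nonempty_inter_closedPoints
    (Z := ((fst G G).left ⁻¹' ZA ∩ (snd G G).left ⁻¹' ZB) ∩ μ[G].left ⁻¹' {z})
    ⟨w, ⟨hwZA, hwZB⟩, hwz⟩
    (((hZA.preimage (fst G G).left.continuous).inter (hZB.preimage (snd G G).left.continuous)).inter
      (hz.preimage μ[G].left.continuous).isLocallyClosed)
  exact ⟨c, hc, hZAs hcA, hZBs hcB, hcz⟩

end Groth.Agent.S5395
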