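import Groth.Statements.S5397
import Groth.Agent.Lib.ActSep.Fibre

set_option autoImplicit false
universe u
open CategoryTheory CategoryTheory.Limits MonoidalCategory CartesianMonoidalCategory MonObj GrpObj AlgebraicGeometry
open SGA3

namespace Groth.Agent.S5397

open Groth.Agent.Lib.GrpSch Groth.Agent.Lib.ActSep Groth.Agent.Lib.ActSep.MaxPt

/-- Let G be an S-group scheme locally of finite presentation over S and universally open over S on some
open containing the unit section, acting on an S-scheme X so that G ×_S X → X ×_S X, (g, x) ↦ (gx,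
x), is surjective, and suppose every fibre X_s is a quasi-separated and connected space. Then X is
separated over S; and if there is an open subscheme V of X, quasi-compact over S, meeting every
nonempty fibre X_s, then X is quasi-compact over S. (The published statement concludes that X is
quasi-compact over S without the open V; for a local scheme S whose punctured spectrum is not
quasi-compact, the trivial group acting on the disjoint union of the closed point and the punctured
spectrum satisfies every hypothesis and is not quasi-compact over S, so the open V is required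
here.) -/
theorem result (S : Scheme.{u}) (G X : Over S) [GrpObj G]
    [LocallyOfFinitePresentation G.hom]
    (hGo : ∃ W : G.left.Opens, (∀ p : ↥(𝟙_ (Over S)).left, η[G].left.base p ∈ W) ∧ UniversallyOpen (W.ι ≫ G.hom))
    (a : AlgGrp.Action G X) (hΦ : Surjective (lift a.act (snd G X)).left)
    (hqs : ∀ s : S, QuasiSeparatedSpace ↥(X.hom.base ⁻¹' {s}))
    (hconn : ∀ s : S, _root_.IsPreconnected (X.hom.base ⁻¹' {s})) :
    IsSeparated X.hom ∧
    ((∃ V : X.left.Opens, QuasiCompact (V.ι ≫ X.hom) ∧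
        ∀ s : S, (X.hom.base ⁻¹' {s}).Nonempty → ((V : Set X.left) ∩ X.hom.base ⁻¹' {s}).Nonempty) →
      QuasiCompact X.hom) := by
  obtain ⟨W, hW1, hW⟩ := hGo
  have hGlft : LocallyOfFiniteType G.hom := inferInstance
  refine ⟨Criterion.isSeparated_of_translate a W hW fun K _ _ t x₁ x₂ => ?_, fun ⟨V, hV, hVne⟩ => ?_⟩
  · obtain ⟨z⟩ : Nonempty ↥(Spec (CommRingCat.of K)) := inferInstance
    have hx : X.hom (x₁.left z) = t (IsLocalRing.closedPoint K) := by
      rw [← Scheme.Hom.comp_apply, Over.w x₁]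
      exact congrArg t (Subsingleton.elim (α := Spec (CommRingCat.of K)) _ _)
    obtain ⟨U, hU, hxU, -⟩ := exists_isAffineOpen_mem_and_subset (U := ⊤) (x := x₁.left z) trivial
    have hUs : IsSeparated (U.ι ≫ X.hom) := by
      have : IsAffine U := hU
      infer_instance
    obtain ⟨W', -, hW'U, hsat⟩ := exists_satW_eq_univ a hΦ hqs hconn t x₁ U ⟨_, hxU, hx⟩
    obtain ⟨ξ, hξ, hsp⟩ := exists_isMaxPt (G ⊗ Over.mk t).left (pt t (1 : Over.mk t ⟶ G))
    have hξW : (fst G (Over.mk t)).left ξ ∈ W := by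
      refine (hsp.map (fst G (Over.mk t)).left.continuous).mem_open W.2 ?_
      rw [pt, ← Scheme.Hom.comp_apply, ← Over.comp_left, lift_fst, Hom.one_def, Over.comp_left,
        Scheme.Hom.comp_apply]
      exact hW1 _
    have hmem : ∀ η', IsMaxPt η' → (fst X (Over.mk t)).left η' ∈ U := fun η' hη' =>
      hW'U ((hsat ▸ Set.mem_univ η' : η' ∈ satW t (W' : Set (X ⊗ Over.mk t).left)) η' hη' (specializes_refl η'))
    exact exists_translate_of_point a t W U hUs x₁ x₂ ξ hξW
      (hmem _ (isMaxPt_orb a t hΦ x₁ hξ)) (hmem _ (isMaxPt_orb a t hΦ x₂ hξ))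
  refine quasiCompact_iff_forall_isAffineOpen.2 fun S₀ hS₀ => ?_
  -- a compact open neighbourhood of the unit section over `S₀`
  let e : Set G.left := η[G].left '' (S₀ : Set S)
  have hec : IsCompact e := hS₀.isCompact.image η[G].left.continuous
  let A := {A : G.left.Opens // IsAffineOpen A ∧ A ≤ W ⊓ G.hom ⁻¹ᵁ S₀}
  obtain ⟨fin, hfin⟩ := hec.elim_finite_subcover (fun A : A => (A.1 : Set G.left)) (fun A => A.1.2) (by
    rintro _ ⟨p, hp, rfl⟩
    have hmem : η[G].left p ∈ W ⊓ G.hom ⁻¹ᵁ S₀ := ⟨hW1 p, by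
      show G.hom (η[G].left p) ∈ S₀
      rw [← Scheme.Hom.comp_apply, η_left_comp_hom]
      exact hp⟩
    obtain ⟨B, hB, hmemB, hsub⟩ := exists_isAffineOpen_mem_and_subset hmem
    exact Set.mem_iUnion.2 ⟨⟨B, hB, hsub⟩, hmemB⟩)
  let W₀ : G.left.Opens := ⟨⋃ A ∈ fin, (A.1 : Set G.left), isOpen_biUnion fun A _ => A.1.2⟩
  have hW₀ : IsCompact (W₀ : Set G.left) := fin.isCompact_biUnion fun A _ => A.2.1.isCompact
  have hW₀S : W₀ ≤ G.hom ⁻¹ᵁ S₀ := fun z hz => by
    obtain ⟨A, -, hA⟩ := Set.mem_iUnion₂.1 hz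
    exact (A.2.2 hA).2
  let V₀ : X.left.Opens := V ⊓ X.hom ⁻¹ᵁ S₀
  have hV₀ : IsCompact (V₀ : Set X.left) := by
    have h := ((V.ι ≫ X.hom).isCompact_preimage (U := S₀) hS₀.isCompact).image V.ι.continuous
    have h' : IsCompact (V.ι '' (V.ι ⁻¹' (X.hom ⁻¹' (S₀ : Set S)))) := h
    rwa [Set.image_preimage_eq_inter_range, Scheme.Opens.range_ι, Set.inter_comm] at h'
  let P₁ : (G ⊗ X).left.Opens := (fst G X).left ⁻¹ᵁ W₀ ⊓ (snd G X).left ⁻¹ᵁ V₀
  have hP₁ : IsCompact (P₁ : Set (G ⊗ X).left) :=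
    isCompact_prod G X hS₀ W₀ V₀ hW₀ hV₀ hW₀S inf_le_right
  have hP₁S : P₁ ≤ (G ⊗ X).hom ⁻¹ᵁ S₀ := fun z hz => by
    show (G ⊗ X).hom z ∈ S₀
    rw [← Over.w (snd G X), Scheme.Hom.comp_apply]
    exact hz.2.2
  have hP := isCompact_prod G (G ⊗ X) hS₀ W₀ P₁ hW₀ hP₁ hW₀S hP₁S
  let Ψ : G ⊗ (G ⊗ X) ⟶ X :=
    lift (fst _ _) (lift (snd _ _ ≫ fst G X)⁻¹ (snd _ _ ≫ snd G X) ≫ a.act) ≫ a.act
  convert! hP.image Ψ.left.continuous using 1
  refine Set.Subset.antisymm (fun z hz => ?_) ?_
  · let K := AlgebraicClosure (X.left.residueField z)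
    let r : Spec (CommRingCat.of K) ⟶ X.left :=
      Spec.map (CommRingCat.ofHom (algebraMap (X.left.residueField z) K)) ≫ X.left.fromSpecResidueField z
    have hr : ∀ v, r v = z := fun v =>
      (Scheme.Hom.comp_apply _ _ _).trans (Scheme.fromSpecResidueField_apply _ _)
    let t := r ≫ X.hom
    let x : Over.mk t ⟶ X := Over.homMk r rfl
    let p := IsLocalRing.closedPoint K
    have htp : t p = X.hom z := by rw [Scheme.Hom.comp_apply, hr]
    obtain ⟨v, hvV, hvs⟩ := hVne (X.hom z) ⟨z, rfl⟩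
    obtain ⟨W', -, hW'U, hsat⟩ :=
      exists_satW_eq_univ a hΦ hqs hconn t x (V ⊓ X.hom ⁻¹ᵁ S₀) ⟨v, ⟨hvV, by
        show X.hom v ∈ S₀
        rw [show X.hom v = X.hom z from hvs]
        exact hz⟩, by
        show X.hom v = t p
        rw [htp]; exact hvs⟩
    obtain ⟨h, hh, hhW⟩ := exists_translate_of_mem_satW t a hΦ x W'.2
      (z := (lift x (𝟙 (Over.mk t))).left p) (hsat ▸ Set.mem_univ _)
    have h1 : pt t (1 : Over.mk t ⟶ G) ∈ (fst G (Over.mk t)).left ⁻¹' (W₀ : Set G.left) := by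
      show (fst G (Over.mk t)).left ((lift (1 : Over.mk t ⟶ G) (𝟙 _)).left p) ∈ W₀
      rw [← Scheme.Hom.comp_apply, ← Over.comp_left, lift_fst, Hom.one_def, Over.comp_left,
        Scheme.Hom.comp_apply]
      exact hfin ⟨_, by
        show ((toUnit (Over.mk t)).left p) ∈ (S₀ : Set S)
        rw [show (toUnit (Over.mk t)).left = t from (Category.comp_id _).symm.trans (Over.w (toUnit (Over.mk t))), htp]
        exact hz, rfl⟩
    let O := (fst G (Over.mk t)).left ⁻¹' (W₀ : Set G.left)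
    have hO : IsOpen O := W₀.2.preimage (fst G (Over.mk t)).left.continuous
    have hg1 : genOne G t ∈ O := (genOne_specializes G t).mem_open hO h1
    have hg2 : genOne G t ∈ (mulL h).left ⁻¹' O := by
      show (mulL h).left (genOne G t) ∈ O
      rw [mulL_fix t hh (isMaxPt_genOne G t)]
      exact hg1
    obtain ⟨g, hgO, hhg⟩ := exists_pt_mem t (Z := O ∩ (mulL h).left ⁻¹' O) ⟨_, hg1, hg2⟩
      (hO.inter (hO.preimage (mulL h).left.continuous)).isLocallyClosed
    rw [Set.mem_preimage, mulL_pt] at hhg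
    have hg' : g.left p ∈ W₀ := by
      have : (lift g (𝟙 (Over.mk t)) ≫ fst G (Over.mk t)).left p ∈ W₀ := hgO
      rwa [lift_fst] at this
    have hhg' : (h * g).left p ∈ W₀ := by
      have : (lift (h * g) (𝟙 (Over.mk t)) ≫ fst G (Over.mk t)).left p ∈ W₀ := hhg
      rwa [lift_fst] at this
    let v' : Over.mk t ⟶ X := lift h x ≫ a.act
    have hv' : v'.left p ∈ V₀ := by
      have e : (lift x (𝟙 (Over.mk t)) ≫ actL a h) ≫ fst X (Over.mk t) = v' := by
        simp [actL, v', comp_lift_assoc]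
      have := hW'U hhW
      rw [← e, Over.comp_left, Over.comp_left, Scheme.Hom.comp_apply, Scheme.Hom.comp_apply]
      exact this
    refine ⟨(lift g (lift (h * g) v')).left p, ⟨?_, ?_, ?_⟩, ?_⟩
    · show (lift g (lift (h * g) v') ≫ fst _ _).left p ∈ W₀
      rw [lift_fst]; exact hg'
    · show ((lift g (lift (h * g) v') ≫ snd _ _) ≫ fst G X).left p ∈ W₀
      rw [lift_snd, lift_fst]; exact hhg'
    · show ((lift g (lift (h * g) v') ≫ snd _ _) ≫ snd G X).left p ∈ V₀
      rw [lift_snd, lift_snd]; exact hv'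
    · show (lift g (lift (h * g) v') ≫ Ψ).left p = z
      rw [show lift g (lift (h * g) v') ≫ Ψ = x by
        simp only [Ψ, v', comp_lift_assoc, GrpObj.comp_inv, lift_fst, lift_snd, lift_fst_assoc, lift_snd_assoc]
        rw [← act_mul, ← act_mul, show g * (h * g)⁻¹ * h = 1 by group, act_one]]
      exact hr p
  · rintro _ ⟨q, hq, rfl⟩
    show X.hom (Ψ.left q) ∈ S₀
    rw [← Scheme.Hom.comp_apply, Over.w Ψ, ← Over.w (fst G (G ⊗ X)), Scheme.Hom.comp_apply]
    exact hW₀S hq.1

end Groth.Agent.S5397
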