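import Groth.Statements.S5399
import Groth.Agent.Lib.MaxFibre.Field

set_option backward.isDefEq.respectTransparency false
set_option backward.isDefEq.respectTransparency.types false

set_option autoImplicit false
universe u
open CategoryTheory CategoryTheory.Limits MonoidalCategory CartesianMonoidalCategory MonObj GrpObj AlgebraicGeometry
open SGA3

namespace Groth.Agent.S5399

/-- Let G be a nonempty scheme of finite type over a field k, K a field extension of k, π : G ⊗_k K → G
the projection and W a dense open subset of G ⊗_k K. Then the set U of points g of G such that W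
contains every maximal point of the fibre π⁻¹(g) (every point whose closure in π⁻¹(g) is an
irreducible component of π⁻¹(g)) is open and dense in G. -/
theorem result (k : Type u) [Field k] (K : Type u) [Field K] [Algebra k K]
    (G : Scheme.{u}) (f : G ⟶ Spec (CommRingCat.of k)) [LocallyOfFiniteType f] [QuasiCompact f] [Nonempty G]
    (W : (pullback f (Spec.map (CommRingCat.ofHom (algebraMap k K)))).Opens)
    (hW : Dense (W : Set ↥(pullback f (Spec.map (CommRingCat.ofHom (algebraMap k K)))))) :
    letI π := (pullback.fst f (Spec.map (CommRingCat.ofHom (algebraMap k K)))).base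
    letI U : Set G := {g : G | ∀ z : ↥(π ⁻¹' {g}), closure {z} ∈ irreducibleComponents ↥(π ⁻¹' {g}) → z.1 ∈ W}
    IsOpen U ∧ Dense U := by
  obtain ⟨Gl, σ, ρ, hσi, hσo, hρ, hfac⟩ := Groth.Agent.Lib.MaxFibre.exists_factor k K f
  haveI := hσi
  haveI := hσo
  haveI := hρ
  let π := (pullback.fst f (Spec.map (CommRingCat.ofHom (algebraMap k K)))).base
  have hπ : ∀ z, π z = ρ (σ z) := fun z => by
    rw [← Scheme.Hom.comp_apply, hfac]
  let U : Set G := {g : G | ∀ z : ↥(π ⁻¹' {g}), closure {z} ∈ irreducibleComponents ↥(π ⁻¹' {g}) → z.1 ∈ W}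
  -- the generic point of the part of a fibre over a point of `Gl`
  have hgen : ∀ g' : Gl, ∃ ξ, σ ξ = g' ∧ ∀ w, σ w = g' → ξ ⤳ w := by
    intro g'
    obtain ⟨ξ, hξ⟩ := QuasiSober.sober ((σ.isIrreducible_preimage σ.isOpenMap
      (isIrreducible_singleton (x := g'))).closure) isClosed_closure
    have h2 : ∀ w, σ w = g' → ξ ⤳ w := fun w hw => hξ.specializes (subset_closure hw)
    obtain ⟨w₀, hw₀⟩ := σ.surjective g'
    have h3 : g' ⤳ σ ξ := by
      rw [specializes_iff_mem_closure]
      exact closure_minimal (Set.preimage_mono subset_closure) (isClosed_closure.preimage σ.continuous) hξ.mem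
    exact ⟨ξ, (((h2 w₀ hw₀).map σ.continuous).trans (specializes_of_eq hw₀)).antisymm h3 |>.eq, h2⟩
  choose ξ hξσ hξ using hgen
  have hcomp : ∀ (g : G) (z : ↥(π ⁻¹' {g})),
      closure {z} ∈ irreducibleComponents ↥(π ⁻¹' {g}) ↔ z.1 = ξ (σ z.1) := by
    intro g z
    have hg : ρ (σ (z.1)) = g := by rw [← hπ]; exact z.2
    let z₀ : ↥(π ⁻¹' {g}) := ⟨ξ (σ z.1), show π _ = g by rw [hπ, hξσ, hg]⟩
    have hz₀ : z₀ ⤳ z := Topology.IsInducing.subtypeVal.specializes_iff.1 (hξ _ _ rfl)
    constructor
    · intro hz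
      have := hz.2 isIrreducible_singleton.closure
        (closure_minimal (Set.singleton_subset_iff.2 (specializes_iff_mem_closure.1 hz₀)) isClosed_closure)
      have h2 : z ⤳ z₀ := specializes_iff_mem_closure.2 (this (subset_closure rfl))
      exact (h2.map continuous_subtype_val).antisymm (hz₀.map continuous_subtype_val) |>.eq
    · intro hz
      refine ⟨isIrreducible_singleton.closure, fun T hT hzT => ?_⟩
      obtain ⟨t, ht⟩ := QuasiSober.sober ((hT.image Subtype.val continuous_subtype_val.continuousOn).closure)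
        isClosed_closure
      have hzmem : z ∈ T := hzT (subset_closure rfl)
      have htz : t ⤳ z.1 := ht.specializes (subset_closure ⟨z, hzmem, rfl⟩)
      have h4 : g ⤳ π t := by
        have hsub : Subtype.val '' T ⊆ π ⁻¹' closure {g} := by
          rintro _ ⟨v, -, rfl⟩
          exact subset_closure v.2
        exact specializes_iff_mem_closure.2
          (closure_minimal hsub (isClosed_closure.preimage π.hom.continuous) ht.mem)
      have hπt : π t = g := ((htz.map π.hom.continuous).trans (specializes_of_eq z.2)).antisymm h4 |>.eq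
      have hσt : σ t = σ z.1 := Groth.Agent.Lib.MaxFibre.eq_of_specializes ρ (htz.map σ.continuous)
        (by rw [← hπ, hπt, hg])
      have ht' : z.1 ⤳ t := by rw [hz]; exact hξ _ _ hσt
      intro v hv
      rw [← specializes_iff_mem_closure]
      exact Topology.IsInducing.subtypeVal.specializes_iff.1 (ht'.trans (ht.specializes (subset_closure ⟨v, hv, rfl⟩)))
  have hU : U = (ρ '' (σ '' (W : Set _))ᶜ)ᶜ := by
    ext g
    constructor
    · rintro hg ⟨g', hg', rfl⟩
      refine hg' ⟨ξ g', hg ⟨ξ g', show π _ = _ by rw [hπ, hξσ]⟩ ((hcomp _ _).2 ?_), hξσ g'⟩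
      show ξ g' = ξ (σ (ξ g'))
      rw [hξσ]
    · intro hg z hz
      by_contra hzW
      refine hg ⟨σ z.1, ?_, by rw [← hπ]; exact z.2⟩
      rintro ⟨w, hw, e⟩
      refine hzW ?_
      rw [(hcomp g z).1 hz]
      exact (hξ _ w e).mem_open W.2 hw
  have hUo : IsOpen U := by
    rw [hU]
    exact (ρ.isClosedMap _ (σ.isOpenMap _ W.2).isClosed_compl).isOpen_compl
  refine ⟨hUo, ?_⟩
  show Dense U
  haveI : IsNoetherianRing (CommRingCat.of K) := inferInstanceAs (IsNoetherianRing K)
  haveI := LocallyOfFiniteType.isLocallyNoetherian (pullback.snd f (Spec.map (CommRingCat.ofHom (algebraMap k K))))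
  have hmaxW : ∀ ζ, Groth.Agent.Lib.ActSep.MaxPt.IsMaxPt ζ → ζ ∈ W := fun ζ hζ => by
    obtain ⟨V, hV, hζV, hVc⟩ := Groth.Agent.Lib.ActSep.MaxPt.exists_open_subset_closure hζ
    obtain ⟨w, hwW, hwV⟩ := hW.exists_mem_open hV ⟨ζ, hζV⟩
    exact (specializes_iff_mem_closure.2 (hVc hwV)).mem_open W.2 hwW
  rw [dense_iff_inter_open]
  rintro O hO ⟨g₁, hg₁⟩
  obtain ⟨ζ, hζ, hζg⟩ := Groth.Agent.Lib.ActSep.MaxPt.exists_isMaxPt G g₁
  refine ⟨ζ, hζg.mem_open hO hg₁, ?_⟩
  rw [hU]
  rintro ⟨g', hg', rfl⟩
  refine hg' ⟨ξ g', hmaxW _ (fun y hy => ?_), hξσ g'⟩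
  have h1 : σ y = g' := by
    have h1 := hy.map σ.continuous
    rw [hξσ] at h1
    exact Groth.Agent.Lib.MaxFibre.eq_of_specializes ρ h1 (hζ _ (h1.map ρ.continuous))
  exact (hy.antisymm (hξ _ _ h1)).eq

end Groth.Agent.S5399
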