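import Groth.Statements.S5400
import Groth.Agent.S5326
import Groth.Agent.Lib.ActSep.NeutralBC
import Groth.Agent.Lib.LimTop.Descend
import Groth.Agent.Lib.Lim.Basic

set_option backward.isDefEq.respectTransparency false
set_option backward.isDefEq.respectTransparency.types false

set_option autoImplicit false
universe u
open CategoryTheory CategoryTheory.Limits MonoidalCategory CartesianMonoidalCategory MonObj GrpObj AlgebraicGeometry
open SGA3

namespace Groth.Agent.S5400

open Groth.Agent.Lib.ActSep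

/-- The neutral component is representable as soon as the neutral set is open. -/
theorem exists_rep {S : Scheme.{u}} (G : Over S) [GrpObj G] (hN : IsOpen (SGA3x.neutralSet G)) :
    ∃ (G0 : Over S) (i0 : G0 ⟶ G), Mono i0 ∧
      ∀ (T : Over S) (g : T ⟶ G), (∃ z : T ⟶ G0, z ≫ i0 = g) ↔
        Set.range g.left.base ⊆ SGA3x.neutralSet G := by
  let U : G.left.Opens := ⟨_, hN⟩
  let G0 : Over S := Over.mk (U.ι ≫ G.hom)
  let i0 : G0 ⟶ G := Over.homMk U.ι rfl
  refine ⟨G0, i0, (Over.forget S).mono_of_mono_map (inferInstanceAs (Mono U.ι)), fun T g => ⟨?_, fun hg => ?_⟩⟩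
  · rintro ⟨z, rfl⟩ _ ⟨x, rfl⟩
    exact (z.left x).2
  · have hr : Set.range g.left ⊆ Set.range U.ι := fun x hx => ⟨⟨x, hg hx⟩, rfl⟩
    have hfac : IsOpenImmersion.lift U.ι g.left hr ≫ U.ι = g.left := IsOpenImmersion.lift_fac _ _ _
    exact ⟨Over.homMk (IsOpenImmersion.lift U.ι g.left hr)
        (by show _ ≫ U.ι ≫ G.hom = T.hom; rw [← Category.assoc, hfac, Over.w]),
      Over.OverMorphism.ext hfac⟩

/-- A representable neutral component is open. -/
theorem isOpen_of_rep {S : Scheme.{u}} (G : Over S) [GrpObj G] [LocallyOfFinitePresentation G.hom]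
    (G0 : Over S) (i0 : G0 ⟶ G) [Mono i0]
    (h : ∀ (T : Over S) (g : T ⟶ G), (∃ z : T ⟶ G0, z ≫ i0 = g) ↔
        Set.range g.left.base ⊆ SGA3x.neutralSet G) : IsOpen (SGA3x.neutralSet G) := by
  haveI := (Groth.Agent.S5326.result S G G0 i0 h).1
  have hsub := (h G0 i0).1 ⟨𝟙 _, Category.id_comp i0⟩
  have e : Set.range i0.left = SGA3x.neutralSet G := Set.Subset.antisymm hsub fun g hg => by
    obtain ⟨z, hz⟩ := (h (Over.mk (G.left.fromSpecResidueField g ≫ G.hom))
      (Over.homMk (G.left.fromSpecResidueField g) rfl)).2 (by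
      show Set.range (G.left.fromSpecResidueField g) ⊆ _
      rw [Scheme.range_fromSpecResidueField]
      exact Set.singleton_subset_iff.2 hg)
    obtain ⟨v⟩ : Nonempty ↥(Spec (G.left.residueField g)) := inferInstance
    refine ⟨z.left v, ?_⟩
    rw [← Scheme.Hom.comp_apply, ← Over.comp_left, hz]
    exact Scheme.fromSpecResidueField_apply g v
  exact e ▸ i0.left.isOpenEmbedding.isOpen_range

/-- Let S be the limit of a cofiltered system (S_i) of quasi-compact quasi-separated schemes with affine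
transition morphisms, j an index and G_j an S_j-group scheme of finite presentation; put G = G_j
×_{S_j} S. Then the neutral component subfunctor of G is representable (there is a monomorphism G⁰ →
G through which a point factors exactly when its image lies in the union of the neutral components
of the fibres) if and only if there is an index i over j such that the neutral component of G_j
×_{S_j} S_i is representable. -/
theorem result {I : Type u} [SmallCategory I] [IsCofiltered I]
    (D : I ⥤ Scheme.{u}) (c : Limits.Cone D) (hc : Limits.IsLimit c)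
    [∀ (i i' : I) (f : i ⟶ i'), IsAffineHom (D.map f)] [∀ i, CompactSpace (D.obj i)] [∀ i, QuasiSeparatedSpace (D.obj i)]
    (j : I) (Gj : Over (D.obj j)) [GrpObj Gj]
    [LocallyOfFinitePresentation Gj.hom] [QuasiCompact Gj.hom] [QuasiSeparated Gj.hom] :
    (∃ (G0 : Over c.pt) (i0 : G0 ⟶ Red.bc (c.π.app j) Gj), Mono i0 ∧
      ∀ (T : Over c.pt) (g : T ⟶ Red.bc (c.π.app j) Gj), (∃ z : T ⟶ G0, z ≫ i0 = g) ↔
        Set.range g.left.base ⊆ SGA3x.neutralSet (Red.bc (c.π.app j) Gj)) ↔
    ∃ (i : I) (f : i ⟶ j) (G0 : Over (D.obj i)) (i0 : G0 ⟶ Red.bc (D.map f) Gj), Mono i0 ∧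
      ∀ (T : Over (D.obj i)) (g : T ⟶ Red.bc (D.map f) Gj), (∃ z : T ⟶ G0, z ≫ i0 = g) ↔
        Set.range g.left.base ⊆ SGA3x.neutralSet (Red.bc (D.map f) Gj) := by
  haveI : ∀ {i i' : I} (f : i ⟶ i'), IsAffineHom (D.map f) := fun {i i'} f => inferInstance
  have hc' := Groth.Agent.Lib.Lim.Basic.isLimitBcCone (a := Gj.hom) hc
    (IsPullback.of_hasPullback Gj.hom (c.π.app j))
  let top : Over j := Over.mk (𝟙 j)
  let N := SGA3x.neutralSet Gj
  let Z : Set ((Groth.Agent.Lib.Lim.Basic.bcDiagram D Gj.hom).obj top : Scheme.{u}) :=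
    (Limits.pullback.fst Gj.hom (D.map (𝟙 j))) ⁻¹' N
  have hN : Topology.IsConstructible N := Groth.Agent.Lib.ActSep.isConstructible_neutralSet Gj
  haveI : CompactSpace ↥Gj.left := QuasiCompact.compactSpace_of_compactSpace Gj.hom
  haveI := Groth.Agent.Lib.Lim.Basic.compactSpace_bcDiagram D Gj.hom top
  haveI : ∀ (a b : Over j) (φ : a ⟶ b), IsAffineHom ((Groth.Agent.Lib.Lim.Basic.bcDiagram D Gj.hom).map φ) :=
    fun a b φ => inferInstance
  have hiff := Groth.Agent.Lib.LimTop.Descend.isOpen_preimage_iff hc' top (Z := Z)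
    ((Groth.Agent.Lib.LimTop.PC.IsPC.of_isConstructible hN).preimage _)
    ((Groth.Agent.Lib.LimTop.PC.IsPC.compl_of_isConstructible hN).preimage _)
  have hlim : SGA3x.neutralSet (Red.bc (c.π.app j) Gj) =
      (Limits.pullback.fst Gj.hom (c.π.app j)) ⁻¹' N := neutralSet_bc _ _
  have hZlim : ((Groth.Agent.Lib.Lim.Basic.bcCone (a := Gj.hom)
      (IsPullback.of_hasPullback Gj.hom (c.π.app j)).w).π.app top) ⁻¹' Z =
      (Limits.pullback.fst Gj.hom (c.π.app j)) ⁻¹' N := by
    ext x
    exact iff_of_eq (congrArg (· ∈ N) ((Scheme.Hom.comp_apply _ _ _).symm.trans (congrArg (fun φ => φ x)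
      (Groth.Agent.Lib.Lim.Basic.bcCone_π_fst (IsPullback.of_hasPullback Gj.hom (c.π.app j)).w top))))
  have hZst : ∀ (k : Over j) (φ : k ⟶ top), ((Groth.Agent.Lib.Lim.Basic.bcDiagram D Gj.hom).map φ) ⁻¹' Z =
      (Limits.pullback.fst Gj.hom (D.map k.hom)) ⁻¹' N := by
    intro k φ
    ext x
    exact iff_of_eq (congrArg (· ∈ N) ((Scheme.Hom.comp_apply _ _ _).symm.trans (congrArg (fun φ => φ x)
      (Groth.Agent.Lib.Lim.Basic.bcDiagram_map_fst D Gj.hom φ))))
  constructor
  · rintro ⟨G0, i0, hm, hrep⟩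
    haveI := hm
    haveI : LocallyOfFinitePresentation (Red.bc (c.π.app j) Gj).hom :=
      inferInstanceAs (LocallyOfFinitePresentation (Limits.pullback.snd Gj.hom (c.π.app j)))
    have ho := isOpen_of_rep _ G0 i0 hrep
    rw [hlim, ← hZlim] at ho
    obtain ⟨k, φ, hk⟩ := hiff.1 ho
    rw [hZst] at hk
    obtain ⟨G0', i0', h⟩ := exists_rep (Red.bc (D.map k.hom) Gj) (by
      rw [neutralSet_bc]; exact hk)
    exact ⟨k.left, k.hom, G0', i0', h⟩
  · rintro ⟨i, f, G0, i0, hm, hrep⟩
    haveI := hm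
    haveI : LocallyOfFinitePresentation (Red.bc (D.map f) Gj).hom :=
      inferInstanceAs (LocallyOfFinitePresentation (Limits.pullback.snd Gj.hom (D.map f)))
    have ho := isOpen_of_rep _ G0 i0 hrep
    rw [neutralSet_bc] at ho
    refine exists_rep _ ?_
    rw [hlim, ← hZlim]
    refine hiff.2 ⟨Over.mk f, Over.homMk f (by simp [top]), ?_⟩
    rw [hZst]
    exact ho

end Groth.Agent.S5400
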