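import Groth.Statements.S5402
import Groth.Agent.Lib.ActSep.Translating

set_option autoImplicit false
set_option backward.isDefEq.respectTransparency false
set_option backward.isDefEq.respectTransparency.types false
universe u
open CategoryTheory CategoryTheory.Limits MonoidalCategory CartesianMonoidalCategory MonObj GrpObj AlgebraicGeometry
open SGA3

namespace Groth.Agent.S5402

open Groth.Agent.Lib.GrpSch Groth.Agent.Lib.ActSep Groth.Agent.Lib.ActSep.HomogX Groth.Agent.H63.GrpIrred
open Groth.Agent.H63.GrpComponent Groth.Agent.H46 Groth.Agent.H46.FibreTrdeg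

/-- Let G be an S-group scheme locally of finite presentation over S and universally open over S on some
open containing the unit section, acting on an S-scheme X so that G ×_S X → X ×_S X, (g, x) ↦ (gx,
x), is surjective. Let U be an open subset of X, s a point of S such that the fibre X_s is locally
of finite type over κ(s) and U ∩ X_s is dense in X_s, and A a finite set of points of X_s. Then
there are morphisms S'' → S' → S, the first finite and surjective and the second etale, with exactly
one point of S'' lying over s, and an S-morphism h : S'' → G, such that for every point z of X ×_S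
S'' whose image in X lies in A, the image in X of the translate h·z lies in U. -/
theorem result (S : Scheme.{u}) (G X : Over S) [GrpObj G]
    [LocallyOfFinitePresentation G.hom]
    (hGo : ∃ W : G.left.Opens, (∀ p : ↥(𝟙_ (Over S)).left, η[G].left.base p ∈ W) ∧ UniversallyOpen (W.ι ≫ G.hom))
    (a : AlgGrp.Action G X) (hΦ : Surjective (lift a.act (snd G X)).left)
    (U : X.left.Opens) (s : S) (hft : LocallyOfFiniteType (X.hom.fiberToSpecResidueField s))
    (hdense : X.hom.base ⁻¹' {s} ⊆ closure ((U : Set X.left) ∩ X.hom.base ⁻¹' {s}))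
    (A : Set X.left) (hA : A.Finite) (hAs : A ⊆ X.hom.base ⁻¹' {s}) :
    ∃ (S' S'' : Scheme.{u}) (w : S' ⟶ S) (π : S'' ⟶ S') (h : Over.mk (π ≫ w) ⟶ G),
      Etale w ∧ IsFinite π ∧ Surjective π ∧ (∃ s₀ : S'', (π ≫ w).base ⁻¹' {s} = {s₀}) ∧
      ∀ z : ↥(X ⊗ Over.mk (π ≫ w)).left, (fst X (Over.mk (π ≫ w))).left.base z ∈ A →
        (lift (snd X (Over.mk (π ≫ w)) ≫ h) (fst X (Over.mk (π ≫ w))) ≫ a.act).left.base z ∈ U := by
  let r := S.fromSpecResidueField s
  let k : Type u := S.residueField s
  let G' : Over (Spec (CommRingCat.of k)) := Red.bc r G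
  let X' : Over (Spec (CommRingCat.of k)) := Red.bc r X
  let : GrpObj G' := ((Over.pullback r).mapGrp.obj ⟨G⟩).grp
  have hsub : Subsingleton ↥(Spec (CommRingCat.of k)) := subsingleton_field k
  have : LocallyOfFiniteType G'.hom := inferInstanceAs (LocallyOfFiniteType (pullback.snd G.hom r))
  have : LocallyOfFiniteType X'.hom := hft
  let prG : G'.left ⟶ G.left := pullback.fst G.hom r
  let prX : X'.left ⟶ X.left := pullback.fst X.hom r
  have hGr : Set.range prG = G.hom.base ⁻¹' {s} := G.hom.range_fiberι s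
  have hXr : Set.range prX = X.hom.base ⁻¹' {s} := X.hom.range_fiberι s
  have hGe : Topology.IsEmbedding prG := (G.hom.fiberι s).isEmbedding
  have hXe : Topology.IsEmbedding prX := (X.hom.fiberι s).isEmbedding
  let a' : AlgGrp.Action G' X' := bcAct r a
  have hΦ' : Surjective (lift a'.act (snd G' X')).left := surjective_bcAct r a hΦ
  let U' : X'.left.Opens := prX ⁻¹ᵁ U
  have hU' : Dense (U' : Set X'.left) := by
    intro y
    rw [hXe.isInducing.closure_eq_preimage_closure_image]
    show prX y ∈ closure (prX '' (prX ⁻¹' (U : Set X.left)))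
    rw [Set.image_preimage_eq_inter_range, hXr]
    exact hdense (hXr.le ⟨y, rfl⟩)
  obtain ⟨g, hgc, hg0, hgU⟩ := exists_closed_translating a' hΦ' U' hU' (prX ⁻¹' A)
    (hA.preimage hXe.injective.injOn)
  let x := prG g
  let z₁ := Groth.Agent.H63.GrpIrred.genPt G' (unitPt G')
  let z := prG z₁
  have hfibre : ∀ v, G.hom (prG v) = s := fun v => hGr.le ⟨v, rfl⟩
  have hz₁g : z₁ ⤳ g := by
    rw [comp0, mem_component_iff] at hg0
    rw [show z₁ = Groth.Agent.H63.GrpIrred.genPt G' g from hg0.symm]
    exact Groth.Agent.H63.GrpIrred.genPt_specializes G' _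
  have hzx : z ⤳ x := hz₁g.map prG.continuous
  have hfz : G.hom z = G.hom x := (hfibre z₁).trans (hfibre g).symm
  have hmax : IsMaxFib G.hom z := fun v hv hs => by
    obtain ⟨v, rfl⟩ : v ∈ Set.range prG := hGr.symm.le (hv.trans (hfibre z₁))
    exact congrArg prG (genPt_max G' (hGe.isInducing.specializes_iff.1 hs))
  have hdim : FlatMor.fibreDimAt G.hom x ≤ (trd G.hom z : WithBot ℕ∞) := by
    refine (fibreDimAt_le_iff G.hom x _).2 fun v hv hs => ?_
    obtain ⟨v, rfl⟩ : v ∈ Set.range prG := hGr.symm.le (hv.trans (hfibre g))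
    have hvg : v ⤳ g := hGe.isInducing.specializes_iff.1 hs
    have h : z₁ ⤳ v := by
      rw [comp0, mem_component_iff] at hg0
      rw [show z₁ = Groth.Agent.H63.GrpIrred.genPt G' v from
        (hg0.symm.trans (genPt_eq_of_specializes G' hvg).symm)]
      exact Groth.Agent.H63.GrpIrred.genPt_specializes G' _
    exact trd_le G.hom (h.map prG.continuous) ((hfibre z₁).trans (hfibre v).symm)
  have hopen : EGA43.IsUnivOpenAt G.hom z := by
    obtain ⟨W, hW, hWo⟩ := hGo
    have hη : prG (unitPt G') ∈ W := by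
      show prG (η[G'].left _) ∈ W
      rw [← Scheme.Hom.comp_apply, η_bc_fst G r, Scheme.Hom.comp_apply]
      exact hW _
    have hzW : z ∈ W :=
      ((Groth.Agent.H63.GrpIrred.genPt_specializes G' (unitPt G')).map prG.continuous).mem_open W.isOpen hη
    exact OpenAt.isUnivOpenAt_of_comp W.ι G.hom ⟨z, hzW⟩
      (UnivOpen.isUnivOpenAt_of_universallyOpen (W.ι ≫ G.hom) _)
  have hxs : G.hom x = s := hfibre g
  have hx : IsClosed ((Subtype.val : ↥(G.hom.base ⁻¹' {G.hom x}) → G.left) ⁻¹' {x}) := by
    have hxr : Topology.IsInducing (Subtype.val : ↥(G.hom.base ⁻¹' {G.hom x}) → G.left) :=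
      Topology.IsInducing.subtypeVal
    obtain ⟨C, hC, hCeq⟩ := hGe.isInducing.isClosed_iff.1 hgc
    rw [hxr.isClosed_iff]
    refine ⟨C, hC, ?_⟩
    ext v
    obtain ⟨w, hw⟩ : v.1 ∈ Set.range prG := hGr.symm.le ((show G.hom v.1 = G.hom x from v.2).trans hxs)
    simp only [Set.mem_preimage, Set.mem_singleton_iff]
    rw [← hw]
    show w ∈ prG ⁻¹' C ↔ prG w = prG g
    rw [hCeq, Set.mem_singleton_iff, hGe.injective.eq_iff]
  obtain ⟨S', S'', _, w, π, h, hw, hπfin, hπs, -, hcomm, s₀, hs₀, hs₀x, -⟩ :=
    Groth.Agent.Lib.ActSep.exists_quasiSection G.hom hzx hfz hmax hopen hdim hx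
  rw [hxs] at hs₀
  let h' : Over.mk (π ≫ w) ⟶ G := Over.homMk h hcomm
  refine ⟨S', S'', w, π, h', hw, hπfin, hπs, ⟨s₀, hs₀⟩, fun v hv => ?_⟩
  let T : Over S := Over.mk (π ≫ w)
  rw [Over.comp_left, Scheme.Hom.comp_apply]
  let q : (G ⊗ X).left := (lift (snd X T ≫ h') (fst X T)).left v
  have hqX : (snd G X).left q = (fst X T).left v := by
    rw [← Scheme.Hom.comp_apply, ← Over.comp_left, lift_snd]
  have hvs : (snd X T).left v = s₀ := by
    have h1 : (π ≫ w) ((snd X T).left v) = X.hom ((fst X T).left v) := by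
      show T.hom ((snd X T).left v) = _
      exact ((Scheme.Hom.comp_apply _ _ _).symm.trans
        (congrArg (fun φ : _ ⟶ S => φ v) ((Over.w (snd X T)).trans (Over.w (fst X T)).symm))).trans
        (Scheme.Hom.comp_apply _ _ _)
    exact hs₀.le (h1.trans (hAs hv))
  have hqG : (fst G X).left q = x := by
    rw [← Scheme.Hom.comp_apply, ← Over.comp_left, lift_fst, Over.comp_left, Scheme.Hom.comp_apply]
    show h ((snd X T).left v) = x
    rw [hvs]; exact hs₀x
  show a.act.left q ∈ U
  -- move to the fibre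
  obtain ⟨qs, hqs⟩ : q ∈ Set.range (pullback.fst (G ⊗ X).hom r) := by
    rw [show Set.range (pullback.fst (G ⊗ X).hom r) = (G ⊗ X).hom.base ⁻¹' {s} from (G ⊗ X).hom.range_fiberι s]
    show (G ⊗ X).hom q = s
    rw [← Over.w (fst G X), Scheme.Hom.comp_apply, hqG, hxs]
  let v' := (Functor.OplaxMonoidal.δ (Over.pullback r) G X).left qs
  have h1 : prG ((fst G' X').left v') = x := by
    rw [← hqG, ← hqs]
    show prG ((Functor.OplaxMonoidal.δ (Over.pullback r) G X ≫ fst (Red.bc r G) (Red.bc r X)).left qs) = _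
    rw [Functor.OplaxMonoidal.δ_fst]
    exact congrArg (fun φ : _ ⟶ G.left => φ qs) (bc_map_proj r (fst G X))
  have h2 : prX ((snd G' X').left v') = (fst X T).left v := by
    rw [← hqX, ← hqs]
    show prX ((Functor.OplaxMonoidal.δ (Over.pullback r) G X ≫ snd (Red.bc r G) (Red.bc r X)).left qs) = _
    rw [Functor.OplaxMonoidal.δ_snd]
    exact congrArg (fun φ : _ ⟶ X.left => φ qs) (bc_map_proj r (snd G X))
  have h3 : prX (a'.act.left v') = a.act.left q := by
    rw [← hqs]
    show prX ((Functor.OplaxMonoidal.δ (Over.pullback r) G X ≫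
        Functor.LaxMonoidal.μ (Over.pullback r) G X ≫ (Over.pullback r).map a.act).left qs) = _
    rw [← Category.assoc, Functor.Monoidal.δ_μ, Category.id_comp]
    exact congrArg (fun φ : _ ⟶ X.left => φ qs) (bc_map_proj r a.act)
  rw [← h3]
  exact hgU v' (hGe.injective h1) (show prX _ ∈ A from h2.symm ▸ hv)

end Groth.Agent.S5402
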