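import Groth.Statements.S5403
import Groth.Agent.Lib.ActSep.HomogBC
-- import your own Groth.Agent.* helpers here

set_option autoImplicit false
set_option backward.isDefEq.respectTransparency false
set_option backward.isDefEq.respectTransparency.types false
universe u
open CategoryTheory CategoryTheory.Limits MonoidalCategory CartesianMonoidalCategory MonObj GrpObj AlgebraicGeometry
open SGA3

namespace Groth.Agent.S5403

open Groth.Agent.Lib.ActSep.HomogX Groth.Agent.Lib.ActSep.MaxPt

/-- Let G be a group scheme over a field k (not assumed of finite type) acting on a quasi-separated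
k-scheme X so that G ×_k X → X ×_k X, (g, x) ↦ (gx, x), is surjective, and let x be a k-rational
point of X and C the connected component of X containing x. Then the orbit morphism g ↦ g·x maps the
irreducible component of G containing the unit point (the underlying set of the neutral component
G⁰) onto C, and for every field extension K of k the inverse image of C in X ⊗_k K is irreducible. -/
theorem result (k : Type u) [Field k] (G X : Over (Spec (CommRingCat.of k)))
    [GrpObj G] [QuasiSeparatedSpace X.left] (a : AlgGrp.Action G X) (hΦ : Surjective (lift a.act (snd G X)).left)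
    (x : 𝟙_ (Over (Spec (CommRingCat.of k))) ⟶ X) (pt : ↥(𝟙_ (Over (Spec (CommRingCat.of k)))).left)
    (C0 : Set G.left) (hC0 : C0 ∈ irreducibleComponents ↥G.left) (he : η[G].left.base pt ∈ C0) :
    (a.orbitMap x).left.base '' C0 = connectedComponent (x.left.base pt) ∧
    ∀ (K : Type u) [Field K] [Algebra k K],
      IsIrreducible ((pullback.fst X.hom (Spec.map (CommRingCat.ofHom (algebraMap k K)))).base ⁻¹' connectedComponent (x.left.base pt)) := by
  have : Subsingleton ↥(Spec (CommRingCat.of k)) := subsingleton_field k
  obtain rfl : C0 = Groth.Agent.H63.GrpComponent.comp0 G := by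
    refine Groth.Agent.H63.GrpIrred.eq_irreducibleComponent G hC0 ?_
    have : pt = IsLocalRing.closedPoint k := Subsingleton.elim (α := ↥(Spec (CommRingCat.of k))) _ _
    subst this
    exact he
  refine ⟨image_orbit_comp0 a hΦ x pt, fun K _ _ => ?_⟩
  rw [connectedComponent_eq a hΦ]
  exact isIrreducible_preimage_component a hΦ _ x pt

end Groth.Agent.S5403
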