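import Groth.Statements.S5415
import Groth.Agent.Lib.DescAlg.Descends
import Groth.Agent.Lib.GrpQ.Desc
import Groth.Agent.Lib.GrpSch.Basic
import Groth.Agent.Lib.Homog.Basic

set_option autoImplicit false
universe u
open CategoryTheory MonoidalCategory CartesianMonoidalCategory MonObj GrpObj AlgebraicGeometry CategoryTheory.Limits
open SGA3x

namespace Groth.Agent.S5415

/-- Let G be an S-group scheme of finite presentation over S, p : G → G'' a homomorphism which is
surjective, flat and locally of finite presentation onto an S-group scheme G'' proper and of finite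
presentation over S, and i : G' → G its kernel, with G' flat and of finite presentation over S. Let
H be an S-group scheme which is of finite presentation over S, or locally of finite presentation
over a locally Noetherian S, and u : G → H a homomorphism. If the restriction u ∘ i of u to G' is
proper, then u is proper. -/
theorem result (S : Scheme.{u}) (G G' G'' : Over S) [GrpObj G] [GrpObj G'] [GrpObj G'']
    [QuasiCompact G.hom] [QuasiSeparated G.hom] [LocallyOfFinitePresentation G.hom]
    [IsProper G''.hom] [LocallyOfFinitePresentation G''.hom]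
    [Flat G'.hom] [QuasiCompact G'.hom] [QuasiSeparated G'.hom] [LocallyOfFinitePresentation G'.hom]
    (p : G ⟶ G'') [IsMonHom p] [Surjective p.left] [Flat p.left] [LocallyOfFinitePresentation p.left]
    (i : G' ⟶ G) [IsMonHom i] (hker : AlgGrp.IsKernel i p)
    (H : Over S) [GrpObj H] [LocallyOfFinitePresentation H.hom]
    (hH : (QuasiCompact H.hom ∧ QuasiSeparated H.hom) ∨ IsLocallyNoetherian S)
    (u : G ⟶ H) [IsMonHom u] (hu : IsProper (i ≫ u).left) : IsProper u.left := by
  let φ : G ⟶ G'' ⊗ H := lift p u
  let m : G ⊗ G' ⟶ G := (G ◁ i) ≫ μ[G]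
  let ψ : G ⊗ G' ⟶ G ⊗ H := lift (fst G G') (m ≫ u)
  have hm : m = fst G G' * (snd G G' ≫ i) := by
    rw [Hom.mul_def]
    simp only [m]
    congr 1
  have hmp : m ≫ p = fst G G' ≫ p := by
    rw [hm, MonObj.mul_comp, Category.assoc, Groth.Agent.Lib.GrpQ.kernel_comp hker, MonObj.comp_one, _root_.mul_one]
  -- base change of `φ` along `p ▷ H`
  have sq : IsPullback ψ m (p ▷ H) φ := by
    have hw : ψ ≫ (p ▷ H) = m ≫ φ := by
      apply CartesianMonoidalCategory.hom_ext
      · simp [ψ, φ, hmp]
      · simp [ψ, φ]
    have hrel : ∀ c : PullbackCone (p ▷ H) φ, ((c.fst ≫ fst G H)⁻¹ * c.snd) ≫ p = 1 := fun c => by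
      have h : c.fst ≫ fst G H ≫ p = c.snd ≫ p := by
        have := congrArg (fun z => z ≫ fst G'' H) c.condition
        simpa [φ] using this
      rw [MonObj.mul_comp, GrpObj.inv_comp, Category.assoc, h, inv_mul_cancel]
    refine ⟨⟨hw⟩, ⟨PullbackCone.IsLimit.mk _ (fun c => lift (c.fst ≫ fst G H)
      (((Groth.Agent.Lib.GrpQ.mem_kernel hker _).2 (hrel c)).choose)) (fun c => ?_) (fun c => ?_)
      (fun c l h1 h2 => ?_)⟩⟩
    · have e : lift (c.fst ≫ fst G H) ((Groth.Agent.Lib.GrpQ.mem_kernel hker _).2 (hrel c)).choose ≫ m = c.snd := by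
        rw [hm, MonObj.comp_mul, lift_fst, lift_snd_assoc,
          ((Groth.Agent.Lib.GrpQ.mem_kernel hker _).2 (hrel c)).choose_spec, mul_inv_cancel_left]
      apply CartesianMonoidalCategory.hom_ext
      · simp [ψ]
      · rw [Category.assoc, lift_snd, reassoc_of% e]
        have := congrArg (fun z => z ≫ snd G'' H) c.condition
        simpa [φ] using this.symm
    · rw [hm, MonObj.comp_mul, lift_fst, lift_snd_assoc,
        ((Groth.Agent.Lib.GrpQ.mem_kernel hker _).2 (hrel c)).choose_spec, mul_inv_cancel_left]
    · have hfst : l ≫ fst G G' = c.fst ≫ fst G H := by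
        rw [← h1]
        simp [ψ]
      apply CartesianMonoidalCategory.hom_ext
      · rw [lift_fst, hfst]
      · haveI := Groth.Agent.Lib.GrpQ.kernel_mono hker
        rw [lift_snd, ← cancel_mono i, ((Groth.Agent.Lib.GrpQ.mem_kernel hker _).2 (hrel c)).choose_spec, ← h2, hm,
          MonObj.comp_mul, hfst, inv_mul_cancel_left, Category.assoc]
  let sh : G ⊗ H ≅ G ⊗ H :=
    { hom := lift (fst G H) ((fst G H ≫ u) * snd G H)
      inv := lift (fst G H) ((fst G H ≫ u)⁻¹ * snd G H)
      hom_inv_id := by
        apply CartesianMonoidalCategory.hom_ext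
        · simp
        · simp only [Category.assoc, lift_snd, MonObj.comp_mul, GrpObj.comp_inv, lift_fst_assoc, Category.id_comp,
            inv_mul_cancel_left]
      inv_hom_id := by
        apply CartesianMonoidalCategory.hom_ext
        · simp
        · simp only [Category.assoc, lift_snd, MonObj.comp_mul, GrpObj.comp_inv, lift_fst_assoc, Category.id_comp,
            mul_inv_cancel_left] }
  have hψeq : ψ = (G ◁ (i ≫ u)) ≫ sh.hom := by
    apply CartesianMonoidalCategory.hom_ext
    · simp [ψ, sh]
    · simp only [ψ, sh, Category.assoc, lift_snd, MonObj.comp_mul, whiskerLeft_fst_assoc, whiskerLeft_snd, hm,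
        MonObj.mul_comp]
  have hψ : IsProper ψ.left := by
    haveI : IsProper (G ◁ (i ≫ u)).left := Groth.Agent.Lib.GrpSch.whiskerLeft_left_of (P := @IsProper) G (i ≫ u) hu
    haveI : IsIso sh.hom.left := ((Over.forget S).mapIso sh).isIso_hom
    rw [hψeq, Over.comp_left]
    infer_instance
  have hc : (@Surjective ⊓ @Flat ⊓ @LocallyOfFinitePresentation : MorphismProperty Scheme.{u}) (p ▷ H).left :=
    ⟨⟨Groth.Agent.Lib.GrpSch.whiskerRight_left_of (P := @Surjective) p H ‹_›,
      Groth.Agent.Lib.GrpSch.whiskerRight_left_of (P := @Flat) p H ‹_›⟩,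
      Groth.Agent.Lib.GrpSch.whiskerRight_left_of (P := @LocallyOfFinitePresentation) p H ‹_›⟩
  haveI := Groth.Agent.Lib.DescAlg.Descends.descends_isProper.{u}
  haveI : MorphismProperty.DescendsAlong (@IsProper : MorphismProperty Scheme.{u})
      (@Surjective ⊓ @Flat ⊓ @LocallyOfFinitePresentation : MorphismProperty Scheme.{u}) := inferInstance
  have hφ : IsProper φ.left :=
    MorphismProperty.DescendsAlong.of_isPullback (P := @IsProper)
      (Q := @Surjective ⊓ @Flat ⊓ @LocallyOfFinitePresentation) (sq.map (Over.forget S)) hc hψ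
  haveI := hφ
  haveI : IsProper (snd G'' H).left := Groth.Agent.Lib.GrpSch.snd_left_of (P := @IsProper) H ‹_›
  have e : φ.left ≫ (snd G'' H).left = u.left := by
    rw [← Over.comp_left, lift_snd]
  rw [← e]
  infer_instance

end Groth.Agent.S5415
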