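import Groth.Statements.S5442
import Groth.Agent.Lib.MultSmooth.FixFP
import Groth.Agent.Lib.FreeRes.SubGrp

set_option autoImplicit false
universe u
open CategoryTheory MonoidalCategory CartesianMonoidalCategory MonObj GrpObj AlgebraicGeometry CategoryTheory.Limits
open SGA3x

namespace Groth.Agent.S5442

/-- Let S be a scheme, G an S-group scheme separated and smooth over S, and H an S-group of
multiplicative type and of finite type acting on G by group automorphisms (on points, h · (g g′) =
(h · g)(h · g′)). Then the functor Z = G^H of invariants (points of G fixed by all points of H after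
any base change) is representable by a closed subgroup scheme of G which is smooth over S: there are
an S-group Z and a homomorphism Z → G which is a closed immersion, with Z smooth over S, whose
points are exactly the invariant points. (The published statement allows any S-group of
multiplicative type; this row assumes it moreover of finite type.) -/
theorem result (S : Scheme.{u}) (H G : Over S) [GrpObj H] [GrpObj G] (hH : SGA3x.IsMultTypeFT H)
    [IsSeparated G.hom] [Smooth G.hom] (a : AlgGrp.Action H G)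
    (hmul : ∀ (X : Over S) (h : X ⟶ H) (g g' : X ⟶ G),
      lift h (g * g') ≫ a.act = (lift h g ≫ a.act) * (lift h g' ≫ a.act)) :
    ∃ (Z : Over S) (_ : GrpObj Z) (z : Z ⟶ G) (_ : IsMonHom z), IsClosedImmersion z.left ∧ Smooth Z.hom ∧
      ∀ (X : Over S) (g : X ⟶ G), (∃ x : X ⟶ Z, x ≫ z = g) ↔
        ∀ (X' : Over S) (f : X' ⟶ X) (h : X' ⟶ H), lift h (f ≫ g) ≫ a.act = f ≫ g := by
  obtain ⟨C, c, hc, -, hC⟩ := Groth.Agent.Lib.MultSmooth.exists_fixedPoints hH a
  haveI := hc
  haveI : Mono c := (Over.forget S).mono_of_mono_map (show Mono c.left from inferInstance)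
  have hone : ∀ {X : Over S} (h : X ⟶ H), lift h (1 : X ⟶ G) ≫ a.act = 1 := fun {X} h => by
    have h1 := hmul X h 1 1
    rw [_root_.one_mul] at h1
    exact left_eq_mul.mp h1
  have hinv : ∀ {X : Over S} (h : X ⟶ H) (g : X ⟶ G),
      lift h g⁻¹ ≫ a.act = (lift h g ≫ a.act)⁻¹ := fun {X} h g => by
    refine eq_inv_of_mul_eq_one_left ?_
    rw [← hmul, _root_.inv_mul_cancel, hone]
  obtain ⟨M, hM⟩ := Groth.Agent.Lib.FreeRes.exists_grpObj_of_mono c
    (fun T => (hC _ 1).2 fun T' t g => by rw [MonObj.comp_one, hone])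
    (fun x y => (hC _ _).2 fun T' t g => by
      rw [MonObj.comp_mul, hmul, (hC _ (x ≫ c)).1 ⟨x, rfl⟩ T' t g, (hC _ (y ≫ c)).1 ⟨y, rfl⟩ T' t g])
    (fun x => (hC _ _).2 fun T' t g => by
      rw [GrpObj.comp_inv, hinv, (hC _ (x ≫ c)).1 ⟨x, rfl⟩ T' t g])
  refine ⟨C, M, c, hM, hc, ?_, hC⟩
  rw [← Over.w c]
  refine Groth.Agent.Lib.MultSmooth.smooth_fixedPoints' hH a c.left fun T x => ?_
  rw [← hC T x]
  constructor
  · rintro ⟨y, hy⟩
    refine ⟨Over.homMk y ?_, Over.OverMorphism.ext hy⟩
    rw [← Over.w c, ← Category.assoc, hy, Over.w x]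
  · rintro ⟨z, rfl⟩
    exact ⟨z.left, rfl⟩

end Groth.Agent.S5442
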