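import Groth.Statements.S5420
import Groth.Agent.S5442
import Groth.Agent.H87.GmFibre
import Groth.Agent.H1.Classical.FieldDescent
import Groth.Agent.H1.Classical.Semidirect
import Groth.Agent.Lib.Tori.Basic
import Groth.Agent.Lib.Tori.Comm
import Groth.Agent.Lib.SmWeil.TorusCentralizer


set_option autoImplicit false
set_option maxHeartbeats 1000000
set_option linter.all false
universe u
open CategoryTheory MonoidalCategory CartesianMonoidalCategory MonObj GrpObj AlgebraicGeometry CategoryTheory.Limits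
open Red

namespace Groth.Agent.S5420

/-- The semidirect product of `H` by `Q`, on points. -/
theorem exists_semidirect {S : Scheme.{u}} {Q H : Over S} [GrpObj Q] [GrpObj H] (a : AlgGrp.Action Q H)
    (hmul : ∀ (X : Over S) (q : X ⟶ Q) (h h' : X ⟶ H),
      lift q (h * h') ≫ a.act = (lift q h ≫ a.act) * (lift q h' ≫ a.act)) :
    ∃ (P : Over S) (_ : GrpObj P) (e : P ≅ H ⊗ Q), ∀ (X : Over S) (x y : X ⟶ P),
      (x * y) ≫ e.hom = lift ((x ≫ e.hom ≫ fst H Q) * (lift (x ≫ e.hom ≫ snd H Q) (y ≫ e.hom ≫ fst H Q) ≫ a.act))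
        ((x ≫ e.hom ≫ snd H Q) * (y ≫ e.hom ≫ snd H Q)) := by
  have hone : ∀ {X : Over S} (q : X ⟶ Q), lift q (1 : X ⟶ H) ≫ a.act = 1 := fun {X} q => by
    have h1 := hmul X q 1 1
    rw [_root_.one_mul] at h1
    exact left_eq_mul.mp h1
  have hact1 : ∀ {X : Over S} (h : X ⟶ H), lift (1 : X ⟶ Q) h ≫ a.act = h := fun {X} h => by
    have := congrArg (lift (toUnit X) h ≫ ·) a.one_act
    simp only [← Category.assoc, lift_whiskerRight, lift_leftUnitor_hom] at this
    exact this
  have hactmul : ∀ {X : Over S} (q r : X ⟶ Q) (h : X ⟶ H),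
      lift (q * r) h ≫ a.act = lift q (lift r h ≫ a.act) ≫ a.act := fun {X} q r h => by
    have := congrArg (lift (lift q r) h ≫ ·) a.mul_act
    simp only [← Category.assoc, lift_whiskerRight, lift_lift_associator_hom, lift_whiskerLeft] at this
    exact this
  let hom : ∀ X : Over S, (X ⟶ Q) →* MulAut (X ⟶ H) := fun X =>
    MonoidHom.mk' (fun q =>
      { toFun := fun h => lift q h ≫ a.act
        invFun := fun h => lift q⁻¹ h ≫ a.act
        left_inv := fun h => by dsimp only; rw [← hactmul, inv_mul_cancel, hact1]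
        right_inv := fun h => by dsimp only; rw [← hactmul, mul_inv_cancel, hact1]
        map_mul' := fun h h' => hmul X q h h' })
      (fun q r => MulEquiv.ext fun h => hactmul q r h)
  let F : (Over S)ᵒᵖ ⥤ GrpCat.{u} :=
    { obj := fun T => GrpCat.of (SemidirectProduct (T.unop ⟶ H) (T.unop ⟶ Q) (hom T.unop))
      map := fun {T T'} g => GrpCat.ofHom (MonoidHom.mk'
        (fun x => ⟨g.unop ≫ x.left, g.unop ≫ x.right⟩)
        (fun x y => SemidirectProduct.ext
          (show g.unop ≫ (x.left * (lift x.right y.left ≫ a.act)) =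
              (g.unop ≫ x.left) * (lift (g.unop ≫ x.right) (g.unop ≫ y.left) ≫ a.act) by
            rw [MonObj.comp_mul, comp_lift_assoc])
          (MonObj.comp_mul g.unop x.right y.right)))
      map_id := fun T => GrpCat.ext fun x => SemidirectProduct.ext (Category.id_comp x.left) (Category.id_comp x.right)
      map_comp := fun g g' => GrpCat.ext fun x =>
        SemidirectProduct.ext (Category.assoc g'.unop g.unop x.left) (Category.assoc g'.unop g.unop x.right) }
  obtain ⟨P, ⟨e⟩⟩ : ∃ P, Nonempty (P ≅ H ⊗ Q) := ⟨_, ⟨Iso.refl _⟩⟩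
  let α : (F ⋙ forget _).RepresentableBy P :=
    { homEquiv := fun {T} =>
        { toFun := fun z => ⟨z ≫ e.hom ≫ fst H Q, z ≫ e.hom ≫ snd H Q⟩
          invFun := fun x => lift x.left x.right ≫ e.inv
          left_inv := fun z => by
            dsimp only
            rw [← comp_lift, ← comp_lift, lift_fst_snd, Category.comp_id, Category.assoc, e.hom_inv_id, Category.comp_id]
          right_inv := fun x => SemidirectProduct.ext (by simp) (by simp) }
      homEquiv_comp := fun g z => SemidirectProduct.ext (Category.assoc g z _) (Category.assoc g z _) }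
  let inst : GrpObj P := GrpObj.ofRepresentableBy P F α
  refine ⟨P, inst, e, fun X x y => ?_⟩
  have key : μ[P] ≫ e.hom = lift ((fst P P ≫ e.hom ≫ fst H Q) * (lift (fst P P ≫ e.hom ≫ snd H Q) (snd P P ≫ e.hom ≫ fst H Q) ≫ a.act))
      ((fst P P ≫ e.hom ≫ snd H Q) * (snd P P ≫ e.hom ≫ snd H Q)) := by
    change (α.homEquiv.symm (α.homEquiv (fst P P) * α.homEquiv (snd P P))) ≫ e.hom = _
    change (lift _ _ ≫ e.inv) ≫ e.hom = _
    rw [Category.assoc, e.inv_hom_id, Category.comp_id]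
    rfl
  rw [Hom.mul_def, Category.assoc, key, comp_lift, MonObj.comp_mul, MonObj.comp_mul, comp_lift_assoc]
  simp only [lift_fst_assoc, lift_snd_assoc]

open Groth.Agent.H1.Classical in
theorem connected_fixed {S : Scheme.{u}} {Q H : Over S} [GrpObj Q] [GrpObj H] (hQ : Red.IsTorus Q)
    [Smooth H.hom] [IsAffineHom H.hom] (hc : ∀ s : S, _root_.IsConnected (H.hom.base ⁻¹' {s}))
    (a : AlgGrp.Action Q H)
    (hmul : ∀ (X : Over S) (q : X ⟶ Q) (h h' : X ⟶ H),
      lift q (h * h') ≫ a.act = (lift q h ≫ a.act) * (lift q h' ≫ a.act))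
    {F : Over S} [GrpObj F] (f : F ⟶ H) [IsMonHom f] [Mono f]
    (hF : ∀ (X : Over S) (g : X ⟶ H), (∃ x : X ⟶ F, x ≫ f = g) ↔
        ∀ (X' : Over S) (t : X' ⟶ X) (q : X' ⟶ Q), lift q (t ≫ g) ≫ a.act = t ≫ g)
    (s : S) : _root_.IsConnected (F.hom.base ⁻¹' {s}) := by
  obtain ⟨P, instP, e, hPmul⟩ := exists_semidirect a hmul
  have hQc : ∀ {X : Over S} (q r : X ⟶ Q), q * r = r * q :=
    fun q r => Groth.Agent.Lib.Tori.Comm.mul_comm_of_isTorus hQ q r
  have hone : ∀ {X : Over S} (q : X ⟶ Q), lift q (1 : X ⟶ H) ≫ a.act = 1 := fun {X} q => by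
    have h1 := hmul X q 1 1
    rw [_root_.one_mul] at h1
    exact left_eq_mul.mp h1
  have hext : ∀ {X : Over S} (x y : X ⟶ P), x ≫ e.hom ≫ fst H Q = y ≫ e.hom ≫ fst H Q →
      x ≫ e.hom ≫ snd H Q = y ≫ e.hom ≫ snd H Q → x = y := fun x y h1 h2 => by
    rw [← cancel_mono e.hom]
    apply CartesianMonoidalCategory.hom_ext
    · simpa only [Category.assoc] using h1
    · simpa only [Category.assoc] using h2
  have hm1 : ∀ {X : Over S} (x y : X ⟶ P), (x * y) ≫ e.hom ≫ fst H Q =
      (x ≫ e.hom ≫ fst H Q) * (lift (x ≫ e.hom ≫ snd H Q) (y ≫ e.hom ≫ fst H Q) ≫ a.act) := fun x y => by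
    rw [← Category.assoc, hPmul, lift_fst]
  have hm2 : ∀ {X : Over S} (x y : X ⟶ P), (x * y) ≫ e.hom ≫ snd H Q =
      (x ≫ e.hom ≫ snd H Q) * (y ≫ e.hom ≫ snd H Q) := fun x y => by
    rw [← Category.assoc, hPmul, lift_snd]
  -- the torus
  let j : Q ⟶ P := lift 1 (𝟙 Q) ≫ e.inv
  have hj1 : ∀ {X : Over S} (q : X ⟶ Q), (q ≫ j) ≫ e.hom ≫ fst H Q = 1 := fun q => by
    simp [j]
  have hj2 : ∀ {X : Over S} (q : X ⟶ Q), (q ≫ j) ≫ e.hom ≫ snd H Q = q := fun q => by
    simp [j]
  haveI : Mono j := ⟨fun q r hqr => by rw [← hj2 q, hqr, hj2]⟩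
  haveI : IsMonHom j := ConjIso.isMonHom_of_mul j fun q r => by
    refine hext _ _ ?_ ?_
    · rw [hm1, hj1, hj1, hj1, hone, _root_.one_mul]
    · rw [hm2, hj2, hj2, hj2]
  -- the centralizer
  let c : F ⊗ Q ⟶ P := (f ▷ Q) ≫ e.inv
  have hc1 : ∀ {X : Over S} (z : X ⟶ F ⊗ Q), (z ≫ c) ≫ e.hom ≫ fst H Q = (z ≫ fst F Q) ≫ f := fun z => by
    simp [c]
  have hc2 : ∀ {X : Over S} (z : X ⟶ F ⊗ Q), (z ≫ c) ≫ e.hom ≫ snd H Q = z ≫ snd F Q := fun z => by
    simp [c]
  have hfix : ∀ {X : Over S} (q : X ⟶ Q) (x : X ⟶ F), lift q (x ≫ f) ≫ a.act = x ≫ f := fun {X} q x => by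
    simpa using (hF X (x ≫ f)).1 ⟨x, rfl⟩ X (𝟙 X) q
  haveI : Mono c := ⟨fun z w hzw => by
    apply CartesianMonoidalCategory.hom_ext
    · rw [← cancel_mono f, ← hc1, hzw, hc1]
    · rw [← hc2, hzw, hc2]⟩
  haveI : IsMonHom c := ConjIso.isMonHom_of_mul c fun z w => by
    refine hext _ _ ?_ ?_
    · rw [hm1, hc1, hc1, hc1, hc2, hfix, MonObj.mul_comp, MonObj.mul_comp]
    · rw [hm2, hc2, hc2, hc2, MonObj.mul_comp]
  have hcent : Red.IsCentralizerOf j c := by
    refine ⟨inferInstance, inferInstance, fun X g => ⟨?_, fun hg => ?_⟩⟩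
    · rintro ⟨z, rfl⟩ X' x q
      refine hext _ _ ?_ ?_
      · rw [hm1, hm1, ← Category.assoc x z c, hc1, hc2, hj1, hj2, hone, hfix, _root_.one_mul, _root_.mul_one]
      · rw [hm2, hm2, hQc]
    · obtain ⟨x, hx⟩ := (hF X (g ≫ e.hom ≫ fst H Q)).2 fun X' t q => by
        have h1 := congrArg (· ≫ e.hom ≫ fst H Q) (hg X' t q)
        simp only [hm1, hj1, hj2, hone, _root_.one_mul, _root_.mul_one] at h1
        rw [Category.assoc] at h1
        exact h1.symm
      refine ⟨lift x (g ≫ e.hom ≫ snd H Q), hext _ _ ?_ ?_⟩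
      · rw [hc1, lift_fst, hx]
      · rw [hc2, lift_snd]
  -- on the fibre
  let g : Spec (CommRingCat.of (S.residueField s)) ⟶ S := S.fromSpecResidueField s
  haveI : IsAffineHom Q.hom := Groth.Agent.Lib.Tori.Basic.isAffineHom_of_isTorus hQ
  haveI : Smooth Q.hom := Groth.Agent.Lib.Tori.Basic.smooth_of_isTorus hQ
  let H₀ := Red.bc g H
  let Q₀ := Red.bc g Q
  haveI : IsAffineHom H₀.hom := inferInstanceAs (IsAffineHom (Limits.pullback.snd H.hom g))
  haveI : IsAffineHom Q₀.hom := inferInstanceAs (IsAffineHom (Limits.pullback.snd Q.hom g))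
  haveI : Smooth H₀.hom := inferInstanceAs (Smooth (Limits.pullback.snd H.hom g))
  haveI : Smooth Q₀.hom := inferInstanceAs (Smooth (Limits.pullback.snd Q.hom g))
  haveI : ConnectedSpace H₀.left := by
    haveI : ConnectedSpace (H.hom.base ⁻¹' {s}) := isConnected_iff_connectedSpace.mp (hc s)
    exact (H.hom.fiberHomeo s).symm.surjective.connectedSpace (H.hom.fiberHomeo s).symm.continuous
  haveI : ConnectedSpace Q₀.left := Groth.Agent.Lib.SmWeil.connectedSpace_fibre_of_isTorus hQ s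
  haveI : GeometricallyConnected H₀.hom :=
    Groth.Agent.Lib.GrpSch.geometricallyConnected_of_rationalPoint H₀.hom η[H₀].left (Over.w η[H₀])
  haveI : IsAffine (H₀ ⊗ Q₀).left := by
    haveI : IsAffine H₀.left := isAffine_of_isAffineHom H₀.hom
    haveI : IsAffine Q₀.left := isAffine_of_isAffineHom Q₀.hom
    exact inferInstanceAs (IsAffine (Limits.pullback H₀.hom Q₀.hom))
  haveI : Smooth (H₀ ⊗ Q₀).hom := inferInstanceAs (Smooth (Limits.pullback.fst H₀.hom Q₀.hom ≫ H₀.hom))
  haveI : ConnectedSpace (H₀ ⊗ Q₀).left := inferInstanceAs (ConnectedSpace (Limits.pullback H₀.hom Q₀.hom : Scheme))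
  let e₀ : Red.bc g P ≅ H₀ ⊗ Q₀ := (Over.pullback g).mapIso e ≪≫ (Functor.Monoidal.μIso (Over.pullback g) H Q).symm
  let e₀' : (Red.bc g P).left ≅ (H₀ ⊗ Q₀).left := (Over.forget _).mapIso e₀
  haveI : IsIso e₀.hom.left := e₀'.isIso_hom
  haveI : IsAffine (Red.bc g P).left := IsAffine.of_isIso e₀'.hom
  haveI : Smooth (Red.bc g P).hom := by rw [← Over.w e₀.hom]; infer_instance
  haveI : ConnectedSpace (Red.bc g P).left :=
    (Scheme.homeoOfIso e₀').symm.surjective.connectedSpace (Scheme.homeoOfIso e₀').symm.continuous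
  letI : GrpObj ((Over.pullback g).obj P) := inferInstanceAs (GrpObj (Red.bc g P))
  letI : GrpObj ((Over.pullback g).obj Q) := inferInstanceAs (GrpObj (Red.bc g Q))
  letI : GrpObj ((Over.pullback g).obj (F ⊗ Q)) := inferInstanceAs (GrpObj (Red.bc g (F ⊗ Q)))
  have hC := FieldDescent.isCentralizerOf_bc g hcent
  obtain ⟨hconn, -⟩ := FieldDescent.connectedSpace_centralizer ((Over.pullback g).map j)
    (Groth.Agent.Lib.Tori.Basic.isTorus_bc hQ g) ((Over.pullback g).map c) hC
  have hpre : _root_.IsConnected ((F ⊗ Q).hom.base ⁻¹' {s}) := by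
    haveI : ConnectedSpace ((F ⊗ Q).hom.fiber s) := hconn
    exact isConnected_iff_connectedSpace.mpr
      (((F ⊗ Q).hom.fiberHomeo s).surjective.connectedSpace ((F ⊗ Q).hom.fiberHomeo s).continuous)
  convert hpre.image (fst F Q).left.base (fst F Q).left.continuous.continuousOn using 1
  ext x
  constructor
  · intro hx
    refine ⟨(lift (𝟙 F) (toUnit F ≫ η[Q])).left x, ?_, ?_⟩
    · show (F ⊗ Q).hom ((lift (𝟙 F) (toUnit F ≫ η[Q])).left x) = s
      rw [← Scheme.Hom.comp_apply, Over.w]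
      exact hx
    · rw [← Scheme.Hom.comp_apply, ← Over.comp_left, lift_fst]
      rfl
  · rintro ⟨y, hy, rfl⟩
    show F.hom ((fst F Q).left y) = s
    rw [← Scheme.Hom.comp_apply, Over.w]
    exact hy

/-- Let S be a scheme, Q an S-torus acting on an S-group scheme H by group automorphisms (on points, q ·
(h h') = (q · h)(q · h')), with H separated and smooth over S. (i) The functor of invariants H^Q
(points of H fixed by all points of Q after any base change) is representable by a closed subscheme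
F of H which is smooth over S. (ii) If moreover H is affine over S with connected fibres, then F is
affine over S with connected fibres. -/
theorem result (S : Scheme.{u}) (Q H : Over S) [GrpObj Q] [GrpObj H] (hQ : Red.IsTorus Q)
    [IsSeparated H.hom] [Smooth H.hom] (a : AlgGrp.Action Q H)
    (hmul : ∀ (X : Over S) (q : X ⟶ Q) (h h' : X ⟶ H),
      lift q (h * h') ≫ a.act = (lift q h ≫ a.act) * (lift q h' ≫ a.act)) :
    ∃ (F : Over S) (f : F ⟶ H), IsClosedImmersion f.left ∧ Smooth F.hom ∧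
      (∀ (X : Over S) (h : X ⟶ H), (∃ x : X ⟶ F, x ≫ f = h) ↔
        ∀ (X' : Over S) (g : X' ⟶ X) (q : X' ⟶ Q), lift q (g ≫ h) ≫ a.act = g ≫ h) ∧
      (IsAffineHom H.hom → (∀ s : S, _root_.IsConnected (H.hom.base ⁻¹' {s})) →
        IsAffineHom F.hom ∧ ∀ s : S, _root_.IsConnected (F.hom.base ⁻¹' {s})) := by
  obtain ⟨F, instF, f, hf, hcl, hsm, hF⟩ := Groth.Agent.S5442.result S Q H
    (Groth.Agent.H87.GmFibre.isMultTypeFT_of_isTorus hQ) a hmul
  refine ⟨F, f, hcl, hsm, hF, fun haff hcon => ⟨?_, fun s => ?_⟩⟩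
  · haveI := hcl
    haveI := haff
    rw [← Over.w f]
    infer_instance
  · haveI := hcl
    haveI := hf
    haveI := haff
    haveI : Mono f := Over.mono_of_mono_left f
    exact connected_fixed hQ hcon a hmul f hF s

end Groth.Agent.S5420
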