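import Groth.Statements.S5422
import Groth.Agent.H66.ExactSeq
-- import your own Groth.Agent.* helpers here

set_option autoImplicit false
universe u
open TensorProduct
open SGA3t2b

namespace Groth.Agent.S5422

/-- Parts (ii), (iii) and (iv) (Hopf-algebra form; 'unipotent' in the fixed-vector form: every non-zero
finite-dimensional representation has a non-zero fixed vector, which is equivalent to the published
definition for affine algebraic groups): let k be a field and A the coordinate Hopf algebra of an
affine algebraic k-group E. (ii) If E is unipotent, so is every closed subgroup Spec B (B a Hopf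
quotient of A, φ : A → B a surjective bialgebra map). (iii) If E is unipotent, so is every quotient
group Spec C (ψ : C → A an injective bialgebra map). (iv) If ψ : C → A is an injective bialgebra map
(quotient U = Spec C), J the Hopf ideal of A generated by the image of the augmentation ideal of C
(kernel N = Spec (A/J)), and both U and N are unipotent, then E is unipotent. -/
theorem result (k : Type u) [Field k] (A : Type u) [CommRing A] [HopfAlgebra k A] [Algebra.FiniteType k A] :
    (∀ (B : Type u) [CommRing B] [HopfAlgebra k B] [Algebra.FiniteType k B] (φ : A →ₐc[k] B),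
      Function.Surjective φ → HopfRep.IsUnipotent k A → HopfRep.IsUnipotent k B) ∧
    (∀ (C : Type u) [CommRing C] [HopfAlgebra k C] [Algebra.FiniteType k C] (ψ : C →ₐc[k] A),
      Function.Injective ψ → HopfRep.IsUnipotent k A → HopfRep.IsUnipotent k C) ∧
    (∀ (C : Type u) [CommRing C] [HopfAlgebra k C] [Algebra.FiniteType k C] (ψ : C →ₐc[k] A)
      (J : Ideal A) [J.IsHopfIdeal k],
      Function.Injective ψ → J = Ideal.map (ψ : C →+* A) (RingHom.ker (Bialgebra.counitAlgHom k C)) →
      HopfRep.IsUnipotent k C → HopfRep.IsUnipotent k (A ⧸ J) → HopfRep.IsUnipotent k A) := by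
  refine ⟨fun B _ _ _ φ hφ hU => H66.ExactSeq.isUnipotent_of_surjective φ hφ hU,
    fun C _ _ _ ψ hψ hU => H66.ExactSeq.isUnipotent_of_injective ψ hψ hU, fun C _ _ _ ψ J _ hψ hJ hC hQ => ?_⟩
  let S : Subalgebra k A := (ψ : C →ₐ[k] A).range
  have hS : ∀ b ∈ S, CoalgebraStruct.comul (R := k) b ∈
      LinearMap.range (TensorProduct.map S.val.toLinearMap S.val.toLinearMap) :=
    (Lib.HopfTransfer.isHopfSubalgebra_range ψ).1
  have hanti : ∀ b ∈ S, HopfAlgebraStruct.antipode (R := k) b ∈ S :=
    (Lib.HopfTransfer.isHopfSubalgebra_range ψ).2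
  haveI := H66.ExactSeq.faithfullyFlat_subalgebra S hS hanti
  refine H66.ExactSeq.isUnipotent_of_extension S hS hanti ?_
    (Bialgebra.Quotient.mkBialgHom (R := k) J : A →ₐc[k] A ⧸ J) ?_ hQ
  · rintro _ ⟨c, rfl⟩
    obtain ⟨n, hn⟩ := H66.Unip.mem_fil_exists hC c
    exact ⟨n, H66.ExactSeq.map_fil_le ψ n hn⟩
  · intro a ha
    have ha' : a ∈ J := Ideal.Quotient.eq_zero_iff_mem.1 ha
    rw [hJ] at ha'
    refine (Ideal.map_le_iff_le_comap.2 fun c hc => Ideal.mem_comap.2 (Ideal.subset_span (α := A) (s := {a | a ∈ S ∧ CoalgebraStruct.counit (R := k) a = 0}) ⟨⟨c, rfl⟩, ?_⟩)) ha'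
    exact (CoalgHomClass.counit_comp_apply ψ c).trans hc

end Groth.Agent.S5422
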