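import Groth.Statements.S5425
import Groth.Agent.H66.PUnip.Mu
import Groth.Agent.H66.MultType.Const
import Groth.Agent.S7951

set_option autoImplicit false
universe u
open TensorProduct
open SGA3t2b

namespace Groth.Agent.S5425

/-- (i) ⟺ (iv) ⟺ (v): let k be a field of characteristic p > 0 with algebraic closure k̄, and A a
finitely generated commutative Hopf algebra over k with no idempotents other than 0 and 1 (a
connected affine algebraic group G). Then the following are equivalent: (i) G is unipotent
(fixed-vector form); (iv) G_{k̄} contains no closed subgroup isomorphic to μ_p; (v) the Lie algebra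
of G is a unipotent p-Lie algebra: for every ε-derivation D : A → k some p^n-fold convolution power
of D (n > 0) vanishes. -/
theorem result (k : Type u) [Field k] (p : ℕ) [Fact p.Prime] [CharP k p] (A : Type u) [CommRing A] [HopfAlgebra k A]
    [Algebra.FiniteType k A] (hconn : ∀ e : A, IsIdempotentElem e → e = 0 ∨ e = 1) :
    (HopfRep.IsUnipotent k A ↔
      ¬ ∃ φ : (AlgebraicClosure k ⊗[k] A) →ₐc[AlgebraicClosure k]
        MonoidAlgebra (AlgebraicClosure k) (Multiplicative (ZMod p)), Function.Surjective φ) ∧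
    (HopfRep.IsUnipotent k A ↔
      ∀ D : LieHopf.Lie k A, ∃ n : ℕ, 0 < n ∧
        LieHopf.convPow (D.toLinearMap.restrictScalars k ∘ₗ LinearMap.id) (p ^ n) = 0) := by
  open Groth.Agent.H66 in
  let Ω := AlgebraicClosure k
  haveI : CharP Ω p := charP_of_injective_algebraMap (algebraMap k Ω).injective p
  open Groth.Agent.H66 in
  have hdown : PUnip.LocNil Ω (Ω ⊗[k] A) → HopfRep.IsUnipotent k A := fun h =>
    (S7951.result k Ω A).2 (PUnip.isUnipotent_of_locNil p
      (MultType.idem_baseChange_algClosure hconn (Bialgebra.counitAlgHom k A) Ω) h)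
  open Groth.Agent.H66 in
  refine ⟨⟨fun hU ⟨φ, hφ⟩ => ?_, fun h => hdown (PUnip.locNil_of_no_mu p h)⟩, ⟨fun hU D => ?_, fun h => hdown ?_⟩⟩
  · have hμ := Groth.Agent.H66.ExactSeq.isUnipotent_of_surjective φ hφ (Groth.Agent.H66.UnipBC.isUnipotent_baseChange hU)
    have h1 := Groth.Agent.H66.UnipBC.eq_one_of_isGroupLike hμ
      (MonoidAlgebra.isGroupLikeElem_single_one (R := Ω) (Multiplicative.ofAdd (1 : ZMod p)))
    rw [MonoidAlgebra.one_def] at h1
    have h2 := MonoidAlgebra.single_left_injective (one_ne_zero (α := Ω)) h1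
    exact one_ne_zero (α := ZMod p) (Multiplicative.ofAdd.injective h2)
  · obtain ⟨n, hn, hz⟩ := Groth.Agent.H66.PUnip.exists_powFun_eq_zero p hU (Groth.Agent.H66.PUnip.isTangent_dlin D)
    exact ⟨n, hn, (Groth.Agent.H66.PUnip.convPow_eq_powFun _ _).trans hz⟩
  · refine Groth.Agent.H66.PUnip.locNil_baseChange p fun τ hτ => ?_
    obtain ⟨n, -, hn⟩ := h (Groth.Agent.H66.Cot.toLie hτ)
    exact ⟨n, (Groth.Agent.H66.PUnip.convPow_eq_powFun τ _).symm.trans hn⟩

end Groth.Agent.S5425
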