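import Groth.Statements.S5427
import Groth.Agent.Lib.Tori.DS
import Mathlib.RingTheory.SimpleModule.Basic
import Mathlib.RingTheory.Int.Basic
import Mathlib.Data.ZMod.QuotientRing

set_option autoImplicit false
universe u
open CategoryTheory MonoidalCategory CartesianMonoidalCategory MonObj GrpObj AlgebraicGeometry CategoryTheory.Limits
open Red

namespace Groth.Agent.S5427

/-- Let S be a scheme and G = D_S(M) a diagonalizable S-group of finite type, M a non-trivial finitely
generated commutative group. Then there are a prime number r and a closed subgroup of G isomorphic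
to (μ_r)_S: a homomorphism of S-groups D_S(ℤ/r) → D_S(M) which is a closed immersion. -/
theorem result (S : Scheme.{u}) (M : Type) [AddCommGroup M] [AddGroup.FG M] [Nontrivial M] :
    ∃ (r : ℕ) (_ : r.Prime) (j : Red.DS S (ZMod r) ⟶ Red.DS S M), IsMonHom j ∧ IsClosedImmersion j.left := by
  obtain ⟨N, hN⟩ : ∃ N : Submodule ℤ M, IsCoatom N := by
    have : Module.Finite ℤ M := Module.Finite.iff_addGroup_fg.2 inferInstance
    rcases IsCoatomic.eq_top_or_exists_le_coatom (⊥ : Submodule ℤ M) with h | ⟨N, hN, -⟩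
    · exact absurd h bot_ne_top
    · exact ⟨N, hN⟩
  have : IsSimpleModule ℤ (M ⧸ N) := isSimpleModule_iff_isCoatom.2 hN
  obtain ⟨I, hI, ⟨e⟩⟩ := isSimpleModule_iff_quot_maximal.1 this
  obtain ⟨g, hg⟩ : ∃ g : ℤ, I = Ideal.span {g} :=
    ⟨_, (Submodule.IsPrincipal.span_singleton_generator I).symm⟩
  have hg0 : g ≠ 0 := by
    rintro rfl
    rw [Ideal.span_singleton_zero] at hg
    exact Int.not_isField ((Ring.isField_iff_maximal_bot).2 (hg ▸ hI))
  have hp : g.natAbs.Prime :=
    Int.prime_iff_natAbs_prime.1 ((Ideal.span_singleton_prime hg0).1 (hg ▸ hI.isPrime))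
  let φ : M →+ ZMod g.natAbs :=
    ((Ideal.quotEquivOfEq hg).trans (Int.quotientSpanEquivZMod g)).toAddEquiv.toAddMonoidHom.comp
      ((e : (M ⧸ N) →ₗ[ℤ] ℤ ⧸ I).toAddMonoidHom.comp N.mkQ.toAddMonoidHom)
  refine ⟨g.natAbs, hp, Red.DSmap S φ, Groth.Agent.Lib.RedPts.Gm.isMonHom_DSmap φ, ?_⟩
  have hsurj : Function.Surjective φ :=
    ((Ideal.quotEquivOfEq hg).trans (Int.quotientSpanEquivZMod g)).surjective.comp
      (e.surjective.comp N.mkQ_surjective)
  refine MorphismProperty.baseChange_map (P := @IsClosedImmersion) _ _ ?_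
  refine IsClosedImmersion.spec_of_surjective _ fun x => ?_
  induction x using MonoidAlgebra.induction_on with
  | of m =>
    obtain ⟨n, hn⟩ := hsurj m.toAdd
    exact ⟨MonoidAlgebra.single (Multiplicative.ofAdd n) 1, by simp [hn]⟩
  | add a b ha hb =>
    obtain ⟨a', rfl⟩ := ha; obtain ⟨b', rfl⟩ := hb
    exact ⟨a' + b', map_add _ _ _⟩
  | smul r a ha =>
    obtain ⟨a', rfl⟩ := ha
    exact ⟨r • a', map_smul (MonoidAlgebra.mapDomainAlgHom _ _ (AddMonoidHom.toMultiplicative φ)) r a'⟩

end Groth.Agent.S5427
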