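import Groth.Statements.S5429
import Groth.Agent.H66.Conj.Main

set_option autoImplicit false
universe u
open TensorProduct
open SGA3
open WithConv Groth.Agent.H66.MultExt

namespace Groth.Agent.S5429

/-- Hopf form: let k be an algebraically closed field, A a finitely generated commutative Hopf algebra
(an algebraic group E), ψ : B → A an injective bialgebra map from a diagonalizable finitely
generated Hopf algebra B (the quotient H of multiplicative type), J the Hopf ideal generated by the
image of the augmentation ideal of B (the kernel U), with U = Spec (A/J) unipotent in the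
fixed-vector sense. Suppose H is smooth (B reduced) or U is smooth (A/J reduced). If r′, r″ : A → B
are two bialgebra retractions of ψ (two liftings H′, H″ of H in E), then there is a k-point u of E
lying in U (an algebra map u : A → k killing J) such that r″ = u · r′ · u⁻¹ as points of E with
values in B (triple convolution of u, r′ and u composed with the antipode). -/
theorem result (k : Type u) [Field k] [IsAlgClosed k] (A B : Type u) [CommRing A] [HopfAlgebra k A] [Algebra.FiniteType k A] [CommRing B] [HopfAlgebra k B]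
    [Algebra.FiniteType k B] (hB : SGA3b.IsDiag k B) (ψ : B →ₐc[k] A) (hψ : Function.Injective ψ)
    (J : Ideal A) [J.IsHopfIdeal k] (hJ : J = Ideal.map (ψ : B →+* A) (RingHom.ker (Bialgebra.counitAlgHom k B)))
    (hU : HopfRep.IsUnipotent k (A ⧸ J))
    (hsm : IsReduced B ∨ IsReduced (A ⧸ J)) (r' r'' : A →ₐc[k] B)
    (hr' : r'.comp ψ = BialgHom.id k B) (hr'' : r''.comp ψ = BialgHom.id k B) :
    ∃ u : A →ₐ[k] k, (∀ a ∈ J, u a = 0) ∧
      (r'' : A →ₐ[k] B) = Dyn.conv3 k A ((Algebra.ofId k B).comp u) (r' : A →ₐ[k] B)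
        (((Algebra.ofId k B).comp u).comp (HopfAlgebra.antipodeAlgHom k A)) := by
  obtain ⟨M, hM, ⟨e⟩⟩ := hB
  let ej : MonoidAlgebra k M →ₐc[k] B := (e.symm : MonoidAlgebra k M →ₐc[k] B)
  let j : MonoidAlgebra k M →ₐc[k] A := ψ.comp ej
  have hJ' : J = Groth.Agent.H66.Section.augIdeal j := by
    rw [hJ]
    refine le_antisymm (Ideal.map_le_iff_le_comap.2 fun b hb => Ideal.mem_comap.2 ?_)
      (Ideal.map_le_iff_le_comap.2 fun b hb => Ideal.mem_comap.2 ?_)
    · have h1 : (ψ : B →+* A) b = (j : MonoidAlgebra k M →+* A) (e b) := by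
        show ψ b = ψ (e.symm (e b))
        rw [e.symm_apply_apply]
      rw [h1]
      refine Ideal.mem_map_of_mem _ ?_
      show CoalgebraStruct.counit (R := k) (e b) = 0
      exact (CoalgHomClass.counit_comp_apply e b).trans hb
    · show (ψ : B →+* A) (e.symm b) ∈ _
      refine Ideal.mem_map_of_mem _ ?_
      show CoalgebraStruct.counit (R := k) (e.symm b) = 0
      exact (CoalgHomClass.counit_comp_apply e.symm b).trans hb
  have hred : IsReduced (MonoidAlgebra k M) ∨ IsReduced (A ⧸ J) :=
    by
      rcases hsm with h | h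
      · haveI : IsReduced B := h
        exact Or.inl (isReduced_of_injective (e.symm : MonoidAlgebra k M →ₐ[k] B) e.symm.injective)
      · exact Or.inr h
  have hret : ∀ r : A →ₐc[k] B, r.comp ψ = BialgHom.id k B →
      ((e : B →ₐc[k] MonoidAlgebra k M).comp r).comp j = BialgHom.id k (MonoidAlgebra k M) := fun r hr =>
    BialgHom.ext fun b => by
      show e (r (ψ (e.symm b))) = b
      rw [show r (ψ (e.symm b)) = e.symm b from congrArg (fun f : B →ₐc[k] B => f (e.symm b)) hr,
        e.apply_symm_apply]
  obtain ⟨u, hu, h⟩ := Groth.Agent.H66.Conj.exists_conj_point j J hJ' hU hred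
    ((e : B →ₐc[k] MonoidAlgebra k M).comp r') ((e : B →ₐc[k] MonoidAlgebra k M).comp r'') (hret r' hr') (hret r'' hr'')
  refine ⟨u.ofConv, hu, ?_⟩
  have hE : ∀ r : A →ₐc[k] B, post (e.symm : MonoidAlgebra k M →ₐ[k] B)
      (toConv (((e : B →ₐc[k] MonoidAlgebra k M).comp r : A →ₐc[k] MonoidAlgebra k M) : A →ₐ[k] MonoidAlgebra k M) :
        Pt k A (MonoidAlgebra k M)) = toConv (r : A →ₐ[k] B) := fun r =>
    WithConv.ofConv_injective (AlgHom.ext fun a => e.symm_apply_apply (r a))
  have hι : ∀ v : Pt k A k, post (e.symm : MonoidAlgebra k M →ₐ[k] B) (post (Algebra.ofId k (MonoidAlgebra k M)) v) =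
      toConv ((Algebra.ofId k B).comp v.ofConv) := fun v =>
    WithConv.ofConv_injective (AlgHom.ext fun a => AlgHom.commutes (e.symm : MonoidAlgebra k M →ₐ[k] B) (v.ofConv a))
  have h2 := congrArg (post (e.symm : MonoidAlgebra k M →ₐ[k] B)) h
  rw [map_mul, map_mul, post_inv, hE, hE, hι] at h2
  rw [Groth.Agent.H66.Conj.conv3_eq]
  exact congrArg WithConv.ofConv h2

end Groth.Agent.S5429
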