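import Groth.Statements.S5436
import Groth.Agent.H87.SchDense
import Groth.Agent.Lib.AlgSpMor.SchImage.DenseSpace
import Groth.Agent.H1.Classical.ConjIso
import Mathlib.AlgebraicGeometry.Sites.Fpqc


set_option autoImplicit false
set_option maxHeartbeats 1000000
set_option linter.all false
universe u
open CategoryTheory MonoidalCategory CartesianMonoidalCategory MonObj GrpObj AlgebraicGeometry CategoryTheory.Limits
open SGA3x

namespace Groth.Agent.S5436

/-- Schematic density relative to the base. -/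
def RelDense {S : Scheme.{u}} (X : Over S) (U : X.left.Opens) : Prop :=
  ∀ (S' : Scheme.{u}) (g : S' ⟶ S), CInt.IsSchematicallyDense ((pullback.fst X.hom g) ⁻¹ᵁ U)

open Groth.Agent.Lib.AlgSpMor.SchImage in
theorem RelDense.inf {S : Scheme.{u}} {X : Over S} {U U' : X.left.Opens} (h : RelDense X U) (h' : RelDense X U') :
    RelDense X (U ⊓ U') := fun S' g => by
  rw [Scheme.Hom.preimage_inf]
  exact isSchematicallyDense_inf (h S' g) (h' S' g)

open Groth.Agent.Lib.AlgSpMor.SchImage in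
theorem RelDense.of_etale {S : Scheme.{u}} {X Y : Over S} {U : X.left.Opens} (h : RelDense X U) (q : Y ⟶ X)
    [Etale q.left] : RelDense Y (q.left ⁻¹ᵁ U) := fun S' g => by
  let m : pullback Y.hom g ⟶ pullback X.hom g :=
    pullback.lift (pullback.fst Y.hom g ≫ q.left) (pullback.snd Y.hom g) (by
      rw [Category.assoc, Over.w, pullback.condition])
  have hp : IsPullback (pullback.fst Y.hom g) m q.left (pullback.fst X.hom g) := by
    refine IsPullback.of_bot ?_ (pullback.lift_fst _ _ _).symm (IsPullback.of_hasPullback X.hom g)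
    rw [Over.w, pullback.lift_snd]
    exact IsPullback.of_hasPullback Y.hom g
  haveI : Etale m := MorphismProperty.of_isPullback hp ‹Etale q.left›
  have : pullback.fst Y.hom g ⁻¹ᵁ q.left ⁻¹ᵁ U = m ⁻¹ᵁ (pullback.fst X.hom g ⁻¹ᵁ U) := by
    rw [← Scheme.Hom.comp_preimage, ← Scheme.Hom.comp_preimage, pullback.lift_fst]
  rw [this]
  exact isSchematicallyDense_preimage_of_etale m (h S' g)

open Groth.Agent.Lib.AlgSpMor.SchImage in
theorem RelDense.of_fst {S : Scheme.{u}} {X : Over S} {U : X.left.Opens} (h : RelDense X U) (Z : Over S) :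
    RelDense (X ⊗ Z) ((fst X Z).left ⁻¹ᵁ U) := fun S' g => by
  let g' : pullback Z.hom g ⟶ S := pullback.snd Z.hom g ≫ g
  let sX : (X ⊗ Z).left ⟶ Z.left := (snd X Z).left
  let P := pullback (X ⊗ Z).hom g
  let m : P ⟶ pullback Z.hom g := pullback.lift (pullback.fst _ _ ≫ sX) (pullback.snd _ _) (by
    rw [Category.assoc, Over.w, pullback.condition])
  have h0 : IsPullback (fst X Z).left sX X.hom Z.hom := IsPullback.of_hasPullback X.hom Z.hom
  have h1 : IsPullback (pullback.fst (X ⊗ Z).hom g) m sX (pullback.fst Z.hom g) := by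
    refine IsPullback.of_bot ?_ (pullback.lift_fst _ _ _).symm (IsPullback.of_hasPullback Z.hom g)
    rw [Over.w, pullback.lift_snd]
    exact IsPullback.of_hasPullback (X ⊗ Z).hom g
  have h2 : IsPullback (pullback.fst (X ⊗ Z).hom g ≫ (fst X Z).left) m X.hom g' := by
    have h3 := h1.paste_horiz h0
    have : pullback.fst Z.hom g ≫ Z.hom = g' := pullback.condition
    rwa [this] at h3
  let e : P ≅ pullback X.hom g' := h2.isoPullback
  have : pullback.fst (X ⊗ Z).hom g ⁻¹ᵁ (fst X Z).left ⁻¹ᵁ U = e.hom ⁻¹ᵁ (pullback.fst X.hom g' ⁻¹ᵁ U) := by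
    rw [← Scheme.Hom.comp_preimage, ← Scheme.Hom.comp_preimage]
    exact congrArg (fun m : _ ⟶ X.left => m ⁻¹ᵁ U) h2.isoPullback_hom_fst.symm
  rw [this]
  exact isSchematicallyDense_preimage_of_etale e.hom (h _ g')

/-- Factor a point through an open. -/
theorem exists_factor {S : Scheme.{u}} {X Y : Over S} (O : Y.left.Opens) (z : X ⟶ Y)
    (h : Set.range z.left ⊆ O) : ∃ z' : X ⟶ Over.mk (O.ι ≫ Y.hom), z'.left ≫ O.ι = z.left := by
  refine ⟨Over.homMk (IsOpenImmersion.lift O.ι z.left (by rwa [Scheme.Opens.range_ι])) ?_,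
    IsOpenImmersion.lift_fac _ _ _⟩
  show _ ≫ O.ι ≫ Y.hom = X.hom
  rw [IsOpenImmersion.lift_fac_assoc, Over.w]

/-- Let G be an S-group scheme, flat and locally of finite presentation over S, U an open subscheme of G
schematically dense in G relative to S, H an S-group scheme and f̄ : U → H an S-morphism. Let V be
an open of G ×_S G contained in (U ×_S U) ∩ m⁻¹(U) and schematically dense in G ×_S G relative to S,
such that for every S-scheme X and all X-points a, b of U with (a, b) in V, the product ab (a point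
of U) satisfies f̄(ab) = f̄(a) f̄(b). Then there is a unique homomorphism of S-groups f : G → H
whose restriction to U is f̄. (The published statement also covers certain sheaves of groups H for
the fppf topology that are not schemes; this row takes H a group scheme.) -/
theorem result (S : Scheme.{u}) (G H : Over S) [GrpObj G] [GrpObj H] [Flat G.hom] [LocallyOfFinitePresentation G.hom]
    (U : G.left.Opens) (hU : (∀ (S' : Scheme.{u}) (g : S' ⟶ S), CInt.IsSchematicallyDense ((pullback.fst G.hom g) ⁻¹ᵁ U)))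
    (jU : Over.mk (U.ι ≫ G.hom) ⟶ G) (hjU : jU.left = U.ι) (fbar : Over.mk (U.ι ≫ G.hom) ⟶ H)
    (V : (G ⊗ G).left.Opens) (hV : (∀ (S' : Scheme.{u}) (g : S' ⟶ S), CInt.IsSchematicallyDense ((pullback.fst (G ⊗ G).hom g) ⁻¹ᵁ V)))
    (hV1 : V ≤ (fst G G).left ⁻¹ᵁ U) (hV2 : V ≤ (snd G G).left ⁻¹ᵁ U) (hVm : V ≤ μ[G].left ⁻¹ᵁ U)
    (hmul : ∀ (X : Over S) (a b : X ⟶ Over.mk (U.ι ≫ G.hom)),
      Set.range (lift (a ≫ jU) (b ≫ jU)).left.base ⊆ (V : Set ↥(G ⊗ G).left) →
      ∃ c : X ⟶ Over.mk (U.ι ≫ G.hom), c ≫ jU = (a ≫ jU) * (b ≫ jU) ∧ c ≫ fbar = (a ≫ fbar) * (b ≫ fbar)) :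
    ∃! f : G ⟶ H, IsMonHom f ∧ jU ≫ f = fbar := by
  have hH : ∀ s : S, IsSeparated (pullback.snd H.hom (S.fromSpecResidueField s)) := fun s =>
    Groth.Agent.H87.SchDense.isSeparated_over_field (k := S.residueField s) (Red.bc (S.fromSpecResidueField s) H)
  haveI : Mono jU := by
    haveI : Mono jU.left := by rw [hjU]; infer_instance
    exact Over.mono_of_mono_left jU
  have hin : ∀ {X : Over S} (a : X ⟶ Over.mk (U.ι ≫ G.hom)), Set.range (a ≫ jU).left ⊆ (U : Set G.left) := by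
    rintro X a _ ⟨t, rfl⟩
    rw [Over.comp_left, hjU]
    exact (a.left t).2
  have hfac : ∀ {X : Over S} (x : X ⟶ G), Set.range x.left ⊆ (U : Set G.left) →
      ∃ a : X ⟶ Over.mk (U.ι ≫ G.hom), a ≫ jU = x := fun x hx => by
    obtain ⟨a, ha⟩ := exists_factor U x hx
    exact ⟨a, Over.OverMorphism.ext (by rw [Over.comp_left, hjU]; exact ha)⟩
  have hDU : RelDense G U := hU
  have hDV : RelDense (G ⊗ G) V := hV
  -- independence of the auxiliary point
  have hE : ∀ (X : Over S) (x : X ⟶ G) (au av axu axv : X ⟶ Over.mk (U.ι ≫ G.hom)),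
      axu ≫ jU = x * (au ≫ jU) → axv ≫ jU = x * (av ≫ jU) →
      (axu ≫ fbar) * (au ≫ fbar)⁻¹ = (axv ≫ fbar) * (av ≫ fbar)⁻¹ := by
    let T := G ⊗ (G ⊗ G)
    let x₀ : T ⟶ G := fst G (G ⊗ G)
    let u₀ : T ⟶ G := snd G (G ⊗ G) ≫ fst G G
    let v₀ : T ⟶ G := snd G (G ⊗ G) ≫ snd G G
    let O : T.left.Opens := u₀.left ⁻¹ᵁ U ⊓ v₀.left ⁻¹ᵁ U ⊓ (x₀ * u₀).left ⁻¹ᵁ U ⊓ (x₀ * v₀).left ⁻¹ᵁ U
    let TO : Over S := Over.mk (O.ι ≫ T.hom)
    let inc : TO ⟶ T := Over.homMk O.ι rfl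
    have hO : ∀ (w : T ⟶ G), O ≤ w.left ⁻¹ᵁ U → Set.range (inc ≫ w).left ⊆ (U : Set G.left) := by
      rintro w hw _ ⟨t, rfl⟩
      exact hw t.2
    obtain ⟨bu, hbu⟩ := hfac _ (hO u₀ (inf_le_left.trans (inf_le_left.trans inf_le_left)))
    obtain ⟨bv, hbv⟩ := hfac _ (hO v₀ (inf_le_left.trans (inf_le_left.trans inf_le_right)))
    obtain ⟨bxu, hbxu⟩ := hfac _ (hO (x₀ * u₀) (inf_le_left.trans inf_le_right))
    obtain ⟨bxv, hbxv⟩ := hfac _ (hO (x₀ * v₀) inf_le_right)
    let φ : T ≅ (G ⊗ G) ⊗ G :=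
      { hom := lift (lift (x₀ * v₀) (v₀⁻¹ * u₀)) v₀
        inv := lift ((fst _ G ≫ fst G G) * (snd _ G)⁻¹) (lift (snd _ G * (fst _ G ≫ snd G G)) (snd _ G))
        hom_inv_id := by
          apply CartesianMonoidalCategory.hom_ext
          · simp [MonObj.comp_mul, GrpObj.comp_inv, x₀, T]
          · apply CartesianMonoidalCategory.hom_ext <;>
              simp [MonObj.comp_mul, GrpObj.comp_inv, u₀, v₀, T]
        inv_hom_id := by
          apply CartesianMonoidalCategory.hom_ext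
          · apply CartesianMonoidalCategory.hom_ext <;>
              simp [MonObj.comp_mul, GrpObj.comp_inv, x₀, u₀, v₀, T]
          · simp [v₀, T] }
    let ψ : T ≅ (G ⊗ G) ⊗ G :=
      { hom := lift (lift v₀ (v₀⁻¹ * u₀)) x₀
        inv := lift (snd _ G) (lift ((fst _ G ≫ fst G G) * (fst _ G ≫ snd G G)) (fst _ G ≫ fst G G))
        hom_inv_id := by
          apply CartesianMonoidalCategory.hom_ext
          · simp [MonObj.comp_mul, GrpObj.comp_inv, x₀, T]
          · apply CartesianMonoidalCategory.hom_ext <;>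
              simp [MonObj.comp_mul, GrpObj.comp_inv, u₀, v₀, T]
        inv_hom_id := by
          apply CartesianMonoidalCategory.hom_ext
          · apply CartesianMonoidalCategory.hom_ext <;>
              simp [MonObj.comp_mul, GrpObj.comp_inv, x₀, u₀, v₀, T]
          · simp [x₀, T] }
    haveI : IsIso φ.hom.left := ((Over.forget _).mapIso φ).isIso_hom
    haveI : IsIso ψ.hom.left := ((Over.forget _).mapIso ψ).isIso_hom
    have hD : RelDense TO (inc.left ⁻¹ᵁ (φ.hom.left ⁻¹ᵁ ((fst (G ⊗ G) G).left ⁻¹ᵁ V) ⊓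
        ψ.hom.left ⁻¹ᵁ ((fst (G ⊗ G) G).left ⁻¹ᵁ V))) := by
      haveI : Etale inc.left := inferInstanceAs (Etale O.ι)
      exact RelDense.of_etale (((hDV.of_fst G).of_etale φ.hom).inf ((hDV.of_fst G).of_etale ψ.hom)) inc
    have key : (bxu ≫ fbar) * (bu ≫ fbar)⁻¹ = (bxv ≫ fbar) * (bv ≫ fbar)⁻¹ := by
      refine Groth.Agent.H87.SchDense.eq_of_eqOn _ hD hH _ _ ?_
      let D := (inc.left ⁻¹ᵁ (φ.hom.left ⁻¹ᵁ ((fst (G ⊗ G) G).left ⁻¹ᵁ V) ⊓
        ψ.hom.left ⁻¹ᵁ ((fst (G ⊗ G) G).left ⁻¹ᵁ V)))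
      let d : Over.mk (D.ι ≫ TO.hom) ⟶ TO := Over.homMk D.ι rfl
      suffices h : d ≫ ((bxu ≫ fbar) * (bu ≫ fbar)⁻¹) = d ≫ ((bxv ≫ fbar) * (bv ≫ fbar)⁻¹) from
        congrArg CommaMorphism.left h
      have hV' : ∀ (w : T ⟶ G ⊗ G), D ≤ inc.left ⁻¹ᵁ (w.left ⁻¹ᵁ V) →
          Set.range (d ≫ inc ≫ w).left ⊆ (V : Set (G ⊗ G).left) := by
        rintro w hw _ ⟨t, rfl⟩
        exact hw t.2
      have hb1 := hV' (φ.hom ≫ fst _ G) (Scheme.Hom.preimage_mono _ (by
        rw [Over.comp_left, Scheme.Hom.comp_preimage]; exact inf_le_left))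
      have hb2 := hV' (ψ.hom ≫ fst _ G) (Scheme.Hom.preimage_mono _ (by
        rw [Over.comp_left, Scheme.Hom.comp_preimage]; exact inf_le_right))
      obtain ⟨b, hb⟩ := hfac (d ≫ inc ≫ (v₀⁻¹ * u₀)) (by
        rintro _ ⟨t, rfl⟩
        have h2 := hV2 (hb2 ⟨t, rfl⟩)
        have e : d ≫ inc ≫ (v₀⁻¹ * u₀) = (d ≫ inc ≫ ψ.hom ≫ fst _ G) ≫ snd G G := by simp [ψ]
        rw [e, Over.comp_left]
        exact h2)
      have e1 : lift ((d ≫ bxv) ≫ jU) (b ≫ jU) = d ≫ inc ≫ φ.hom ≫ fst _ G := by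
        simp [φ, hb, hbxv, comp_lift]
      have e2 : lift ((d ≫ bv) ≫ jU) (b ≫ jU) = d ≫ inc ≫ ψ.hom ≫ fst _ G := by
        simp [ψ, hb, hbv, comp_lift]
      obtain ⟨c1, hc1, hc1'⟩ := hmul _ (d ≫ bxv) b (by rw [e1]; exact hb1)
      obtain ⟨c2, hc2, hc2'⟩ := hmul _ (d ≫ bv) b (by rw [e2]; exact hb2)
      have hc1u : c1 = d ≫ bxu := by
        rw [← cancel_mono jU, hc1, hb, Category.assoc, Category.assoc, hbxu, hbxv]
        simp only [MonObj.comp_mul, GrpObj.comp_inv]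
        group
      have hc2u : c2 = d ≫ bu := by
        rw [← cancel_mono jU, hc2, hb, Category.assoc, Category.assoc, hbu, hbv]
        simp only [MonObj.comp_mul, GrpObj.comp_inv]
        group
      rw [hc1u, Category.assoc] at hc1'
      rw [hc2u, Category.assoc] at hc2'
      rw [MonObj.comp_mul, MonObj.comp_mul, GrpObj.comp_inv, GrpObj.comp_inv, hc1', hc2']
      simp only [Category.assoc]
      group
    intro X x au av axu axv hu hv
    obtain ⟨z, hz⟩ := exists_factor O (lift x (lift (au ≫ jU) (av ≫ jU))) (by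
      have mem : ∀ (w : T ⟶ G) (a : X ⟶ Over.mk (U.ι ≫ G.hom)), lift x (lift (au ≫ jU) (av ≫ jU)) ≫ w = a ≫ jU →
          ∀ t, (lift x (lift (au ≫ jU) (av ≫ jU))).left t ∈ w.left ⁻¹ᵁ U := fun w a e t => by
        have := hin a ⟨t, rfl⟩
        rw [← e, Over.comp_left] at this
        exact this
      rintro _ ⟨t, rfl⟩
      refine ⟨⟨⟨mem u₀ au ?_ t, mem v₀ av ?_ t⟩, mem _ axu ?_ t⟩, mem _ axv ?_ t⟩
      · simp [u₀]
      · simp [v₀]
      · simp [MonObj.comp_mul, x₀, u₀, hu]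
      · simp [MonObj.comp_mul, x₀, v₀, hv])
    have hz' : z ≫ inc = lift x (lift (au ≫ jU) (av ≫ jU)) := Over.OverMorphism.ext hz
    have h1 : z ≫ bu = au := by
      rw [← cancel_mono jU, Category.assoc, hbu, ← Category.assoc, hz']; simp [u₀]
    have h2 : z ≫ bv = av := by
      rw [← cancel_mono jU, Category.assoc, hbv, ← Category.assoc, hz']; simp [v₀]
    have h3 : z ≫ bxu = axu := by
      rw [← cancel_mono jU, Category.assoc, hbxu, ← Category.assoc, hz', hu]; simp [MonObj.comp_mul, x₀, u₀]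
    have h4 : z ≫ bxv = axv := by
      rw [← cancel_mono jU, Category.assoc, hbxv, ← Category.assoc, hz', hv]; simp [MonObj.comp_mul, x₀, v₀]
    have := congrArg (z ≫ ·) key
    simp only [MonObj.comp_mul, GrpObj.comp_inv, ← Category.assoc, h1, h2, h3, h4] at this
    exact this
  -- the covering
  let W : (G ⊗ G).left.Opens := (snd G G).left ⁻¹ᵁ U ⊓ μ[G].left ⁻¹ᵁ U
  let WW : Over S := Over.mk (W.ι ≫ (G ⊗ G).hom)
  let w : WW ⟶ G ⊗ G := Over.homMk W.ι rfl
  obtain ⟨wu, hwu⟩ := hfac (w ≫ snd G G) (by rintro _ ⟨t, rfl⟩; exact t.2.1)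
  obtain ⟨wxu, hwxu⟩ := hfac (w ≫ μ[G]) (by rintro _ ⟨t, rfl⟩; exact t.2.2)
  let p : WW ⟶ G := w ≫ fst G G
  have hμ : ∀ {X : Over S} (z : X ⟶ G ⊗ G), z ≫ μ[G] = (z ≫ fst G G) * (z ≫ snd G G) := fun z => by
    rw [Hom.mul_def, ← comp_lift, lift_fst_snd, Category.comp_id]
  haveI : Flat (fst G G).left := inferInstanceAs (Flat (Limits.pullback.fst G.hom G.hom))
  haveI : LocallyOfFinitePresentation (fst G G).left :=
    inferInstanceAs (LocallyOfFinitePresentation (Limits.pullback.fst G.hom G.hom))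
  haveI : Flat p.left := inferInstanceAs (Flat (W.ι ≫ (fst G G).left))
  haveI : LocallyOfFinitePresentation p.left :=
    inferInstanceAs (LocallyOfFinitePresentation (W.ι ≫ (fst G G).left))
  haveI : Surjective p.left := ⟨fun x => by
    let K : Over S := Over.mk (G.left.fromSpecResidueField x ≫ G.hom)
    let xK : K ⟶ G := Over.homMk (G.left.fromSpecResidueField x) rfl
    let τ : G ⊗ K ≅ G ⊗ K :=
      { hom := lift ((snd G K ≫ xK) * fst G K) (snd G K)
        inv := lift ((snd G K ≫ xK)⁻¹ * fst G K) (snd G K)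
        hom_inv_id := by apply CartesianMonoidalCategory.hom_ext <;> simp [MonObj.comp_mul, GrpObj.comp_inv]
        inv_hom_id := by apply CartesianMonoidalCategory.hom_ext <;> simp [MonObj.comp_mul, GrpObj.comp_inv] }
    haveI : IsIso τ.hom.left := ((Over.forget _).mapIso τ).isIso_hom
    have h1 : CInt.IsSchematicallyDense ((fst G K).left ⁻¹ᵁ U) := hU K.left K.hom
    have h2 : CInt.IsSchematicallyDense (τ.hom.left ⁻¹ᵁ ((fst G K).left ⁻¹ᵁ U)) :=
      Groth.Agent.Lib.AlgSpMor.SchImage.isSchematicallyDense_preimage_of_etale τ.hom.left h1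
    have hne : Nonempty (G ⊗ K).left := ⟨(lift (toUnit K ≫ η[G]) (𝟙 K)).left (IsLocalRing.closedPoint _)⟩
    obtain ⟨t, ht⟩ := (Groth.Agent.H87.SchDense.dense_of_schDense
      (Groth.Agent.Lib.AlgSpMor.SchImage.isSchematicallyDense_inf h1 h2)).nonempty
    let z : G ⊗ K ⟶ G ⊗ G := lift (snd G K ≫ xK) (fst G K)
    have hz : z.left t ∈ W := by
      constructor
      · show (snd G G).left (z.left t) ∈ U
        rw [← Scheme.Hom.comp_apply, ← Over.comp_left, lift_snd]
        exact ht.1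
      · show μ[G].left (z.left t) ∈ U
        rw [← Scheme.Hom.comp_apply, ← Over.comp_left, hμ, lift_fst, lift_snd]
        have := ht.2
        change (fst G K).left (τ.hom.left t) ∈ U at this
        rw [← Scheme.Hom.comp_apply, ← Over.comp_left, lift_fst] at this
        exact this
    refine ⟨⟨z.left t, hz⟩, ?_⟩
    show (fst G G).left (z.left t) = x
    rw [← Scheme.Hom.comp_apply, ← Over.comp_left, lift_fst, Over.comp_left, Scheme.Hom.comp_apply]
    exact Scheme.fromSpecResidueField_apply x _⟩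
  let e₀ : WW ⟶ H := (wxu ≫ fbar) * (wu ≫ fbar)⁻¹
  have hdesc : ∀ {Z : Scheme.{u}} (g₁ g₂ : Z ⟶ WW.left), g₁ ≫ p.left = g₂ ≫ p.left →
      g₁ ≫ e₀.left = g₂ ≫ e₀.left := fun {Z} g₁ g₂ hg => by
    let Z' : Over S := Over.mk (g₁ ≫ WW.hom)
    let z₁ : Z' ⟶ WW := Over.homMk g₁ rfl
    let z₂ : Z' ⟶ WW := Over.homMk g₂ (by
      show g₂ ≫ WW.hom = g₁ ≫ WW.hom
      rw [← Over.w p, ← Category.assoc, ← hg, Category.assoc])
    have hp : z₁ ≫ p = z₂ ≫ p := Over.OverMorphism.ext hg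
    have h := hE Z' (z₁ ≫ p) (z₁ ≫ wu) (z₂ ≫ wu) (z₁ ≫ wxu) (z₂ ≫ wxu)
      (by simp only [Category.assoc, hwu, hwxu, p, hμ, MonObj.comp_mul])
      (by rw [hp]; simp only [Category.assoc, hwu, hwxu, p, hμ, MonObj.comp_mul])
    simp only [Category.assoc, ← GrpObj.comp_inv, ← MonObj.comp_mul] at h
    exact congrArg CommaMorphism.left h
  let f : G ⟶ H := Over.homMk (EffectiveEpi.desc p.left e₀.left hdesc) (by
    rw [← cancel_epi p.left, EffectiveEpi.fac_assoc, Over.w, Over.w])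
  have hpf : p ≫ f = e₀ := Over.OverMorphism.ext (EffectiveEpi.fac p.left e₀.left hdesc)
  have hf : ∀ (X : Over S) (x : X ⟶ G) (au axu : X ⟶ Over.mk (U.ι ≫ G.hom)), axu ≫ jU = x * (au ≫ jU) →
      x ≫ f = (axu ≫ fbar) * (au ≫ fbar)⁻¹ := fun X x au axu h => by
    obtain ⟨z, hz⟩ := exists_factor W (lift x (au ≫ jU)) (by
      rintro _ ⟨t, rfl⟩
      constructor
      · show (snd G G).left _ ∈ U
        rw [← Scheme.Hom.comp_apply, ← Over.comp_left, lift_snd]
        exact hin au ⟨t, rfl⟩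
      · show μ[G].left _ ∈ U
        rw [← Scheme.Hom.comp_apply, ← Over.comp_left, hμ, lift_fst, lift_snd, ← h]
        exact hin axu ⟨t, rfl⟩)
    have hz' : z ≫ w = lift x (au ≫ jU) := Over.OverMorphism.ext hz
    have h1 : z ≫ wu = au := by
      rw [← cancel_mono jU, Category.assoc, hwu, ← Category.assoc, hz', lift_snd]
    have h2 : z ≫ wxu = axu := by
      rw [← cancel_mono jU, Category.assoc, hwxu, ← Category.assoc, hz', hμ, lift_fst, lift_snd, h]
    have h3 : z ≫ p = x := by simp only [p]; rw [← Category.assoc, hz', lift_fst]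
    rw [← h3, Category.assoc, hpf]
    simp only [e₀, MonObj.comp_mul, GrpObj.comp_inv, ← Category.assoc, h1, h2]
  -- restriction to `U`
  have hres : jU ≫ f = fbar := by
    let O : (G ⊗ G).left.Opens := (fst G G).left ⁻¹ᵁ U
    let OO : Over S := Over.mk (O.ι ≫ (G ⊗ G).hom)
    let o : OO ⟶ G ⊗ G := Over.homMk O.ι rfl
    obtain ⟨oa, hoa⟩ := hfac (o ≫ fst G G) (by rintro _ ⟨t, rfl⟩; exact t.2)
    haveI : Etale o.left := inferInstanceAs (Etale O.ι)
    have key : oa ≫ jU ≫ f = oa ≫ fbar := by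
      refine Groth.Agent.H87.SchDense.eq_of_eqOn _ (hDV.of_etale o) hH _ _ ?_
      let D := o.left ⁻¹ᵁ V
      let d : Over.mk (D.ι ≫ OO.hom) ⟶ OO := Over.homMk D.ι rfl
      suffices h : d ≫ oa ≫ jU ≫ f = d ≫ oa ≫ fbar from congrArg CommaMorphism.left h
      have hd : Set.range (d ≫ o).left ⊆ (V : Set (G ⊗ G).left) := by rintro _ ⟨t, rfl⟩; exact t.2
      obtain ⟨b, hb⟩ := hfac ((d ≫ o) ≫ snd G G) (by rintro _ ⟨t, rfl⟩; exact hV2 (hd ⟨t, rfl⟩))
      have e : lift ((d ≫ oa) ≫ jU) (b ≫ jU) = d ≫ o := by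
        rw [hb, Category.assoc, hoa, ← Category.assoc, ← comp_lift, lift_fst_snd, Category.comp_id]
      obtain ⟨c, hc, hc'⟩ := hmul _ (d ≫ oa) b (by rw [e]; exact hd)
      rw [← Category.assoc oa, ← Category.assoc d (oa ≫ jU), ← Category.assoc d oa, hf _ _ b c hc, hc',
        mul_inv_cancel_right, Category.assoc]
    obtain ⟨s, hs⟩ := exists_factor O (lift jU (1 : Over.mk (U.ι ≫ G.hom) ⟶ G)) (by
      rintro _ ⟨t, rfl⟩
      show (fst G G).left _ ∈ U
      rw [← Scheme.Hom.comp_apply, ← Over.comp_left, lift_fst]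
      have := hin (𝟙 (Over.mk (U.ι ≫ G.hom))) ⟨t, rfl⟩
      rwa [Category.id_comp] at this)
    have hs' : s ≫ o = lift jU 1 := Over.OverMorphism.ext hs
    have h1 : s ≫ oa = 𝟙 _ := by
      rw [← cancel_mono jU, Category.assoc, hoa, ← Category.assoc, hs', lift_fst, Category.id_comp]
    have := congrArg (s ≫ ·) key
    simp only [← Category.assoc, h1, Category.id_comp] at this
    exact this
  -- multiplicativity
  have hhom : μ[G] ≫ f = (fst G G ≫ f) * (snd G G ≫ f) := by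
    refine Groth.Agent.H87.SchDense.eq_of_eqOn V hV hH _ _ ?_
    let d : Over.mk (V.ι ≫ (G ⊗ G).hom) ⟶ G ⊗ G := Over.homMk V.ι rfl
    suffices h : d ≫ μ[G] ≫ f = d ≫ ((fst G G ≫ f) * (snd G G ≫ f)) from congrArg CommaMorphism.left h
    have hd : Set.range d.left ⊆ (V : Set (G ⊗ G).left) := by rintro _ ⟨t, rfl⟩; exact t.2
    obtain ⟨a, ha⟩ := hfac (d ≫ fst G G) (by rintro _ ⟨t, rfl⟩; exact hV1 (hd ⟨t, rfl⟩))
    obtain ⟨b, hb⟩ := hfac (d ≫ snd G G) (by rintro _ ⟨t, rfl⟩; exact hV2 (hd ⟨t, rfl⟩))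
    obtain ⟨c, hc, hc'⟩ := hmul _ a b (by rw [ha, hb, ← comp_lift, lift_fst_snd, Category.comp_id]; exact hd)
    rw [← Category.assoc, hμ, ← ha, ← hb, ← hc, MonObj.comp_mul, ← Category.assoc, ← Category.assoc, ← ha, ← hb,
      Category.assoc, Category.assoc, Category.assoc, hres, hc']
  refine ⟨f, ⟨Groth.Agent.H1.Classical.ConjIso.isMonHom_of_mul f fun a b => ?_, hres⟩, ?_⟩
  · have h := congrArg (lift a b ≫ ·) hhom
    simp only [← Category.assoc, MonObj.comp_mul, hμ, lift_fst, lift_snd] at h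
    exact h
  · rintro g ⟨hg, hg'⟩
    haveI := hg
    refine Groth.Agent.H87.SchDense.eq_of_eqOn U hU hH g f ?_
    rw [← hjU, ← Over.comp_left, ← Over.comp_left, hg', hres]

end Groth.Agent.S5436
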