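import Groth.Statements.S5440
import Groth.Agent.H66.ConjRat.ConnCase

set_option autoImplicit false
universe u
open TensorProduct
open SGA3

namespace Groth.Agent.S5440

/-- c) (Hopf form): let k be a field, A a finitely generated commutative Hopf algebra (an algebraic
group E), ψ : B → A an injective bialgebra map from a finitely generated Hopf algebra B of
multiplicative type which is smooth (formally smooth over k), J the Hopf ideal generated by the
image of the augmentation ideal of B, with U = Spec (A/J) unipotent in the fixed-vector sense.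
Suppose b) U is commutative (A/J cocommutative), or c) k is perfect and U is connected (no
idempotents other than 0, 1 in A/J). If r′, r″ : A → B are two bialgebra retractions of ψ (two
liftings of H in E), there is a k-point u of E killing J (a point of U(k)) with r″ = u · r′ · u⁻¹ as
B-valued points of E. -/
theorem result (k : Type u) [Field k] (A B : Type u) [CommRing A] [HopfAlgebra k A] [Algebra.FiniteType k A] [CommRing B] [HopfAlgebra k B]
    [Algebra.FiniteType k B] (hB : SGA3b.IsMultTypeConst k B) (ψ : B →ₐc[k] A) (hψ : Function.Injective ψ)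
    (J : Ideal A) [J.IsHopfIdeal k] (hJ : J = Ideal.map (ψ : B →+* A) (RingHom.ker (Bialgebra.counitAlgHom k B)))
    (hU : HopfRep.IsUnipotent k (A ⧸ J)) [Algebra.FormallySmooth k B]
    (hbc : Coalgebra.IsCocomm k (A ⧸ J) ∨ (PerfectField k ∧ ∀ e : A ⧸ J, IsIdempotentElem e → e = 0 ∨ e = 1))
    (r' r'' : A →ₐc[k] B) (hr' : r'.comp ψ = BialgHom.id k B) (hr'' : r''.comp ψ = BialgHom.id k B) :
    ∃ u : A →ₐ[k] k, (∀ a ∈ J, u a = 0) ∧
      (r'' : A →ₐ[k] B) = Dyn.conv3 k A ((Algebra.ofId k B).comp u) (r' : A →ₐ[k] B)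
        (((Algebra.ofId k B).comp u).comp (HopfAlgebra.antipodeAlgHom k A)) := by
  obtain ⟨u, hu, h⟩ : ∃ u : Groth.Agent.H66.MultExt.Pt k A k, (∀ a ∈ J, u.ofConv a = 0) ∧
      WithConv.toConv (r'' : A →ₐ[k] B) = Groth.Agent.H66.MultExt.post (Algebra.ofId k B) u *
        WithConv.toConv (r' : A →ₐ[k] B) * (Groth.Agent.H66.MultExt.post (Algebra.ofId k B) u)⁻¹ := by
    rcases hbc with hcomm | ⟨hperf, hconn⟩
    · exact Groth.Agent.H66.ConjRat.retractions_conj_of_comm hB ψ J hJ hU r' r'' hr' hr''
    · exact Groth.Agent.H66.ConjRat.retractions_conj_of_perfect hB ψ J hJ hU hconn r' r'' hr' hr''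
  refine ⟨u.ofConv, hu, ?_⟩
  rw [Groth.Agent.H66.ConjRat.Kernel.inv_eq] at h
  rw [Groth.Agent.H66.Conj.conv3_eq]
  exact congrArg WithConv.ofConv h

end Groth.Agent.S5440
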