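import Groth.Statements.S5441
import Groth.Agent.Lib.Hopf.Points
import Groth.Agent.Lib.Hopf.FaithfullyFlat
import Mathlib.RingTheory.HopfAlgebra.Convolution
import Mathlib.RingTheory.Unramified.Field
import Mathlib.RingTheory.Unramified.Finite
import Mathlib.RingTheory.Etale.Basic
import Mathlib.FieldTheory.Perfect
import Mathlib.FieldTheory.IsAlgClosed.AlgebraicClosure
import Mathlib.LinearAlgebra.FreeModule.Finite.Matrix

set_option autoImplicit false
universe u
open TensorProduct
open SGA3

namespace Groth.Agent.S5441

open Polynomial WithConv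

section

set_option linter.unusedSectionVars false
set_option linter.unusedSimpArgs false

variable {k : Type u} [Field k]

/-- A reduced algebraic algebra over a perfect field is formally unramified. -/
lemma formallyUnramified_of_reduced [PerfectField k] (Q : Type u) [CommRing Q] [Algebra k Q]
    [IsReduced Q] [Module.Finite k Q] : Algebra.FormallyUnramified k Q := by
  have hint : ∀ x : Q, IsIntegral k x := fun x => Algebra.IsIntegral.isIntegral x
  have hsep : ∀ x : Q, (minpoly k x).Separable := fun x => by
    rw [PerfectField.separable_iff_squarefree]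
    rintro a ⟨b, hb⟩
    have h0 : aeval x (a * b) = 0 := by
      refine eq_zero_of_pow_eq_zero (n := 2) ?_
      have : (a * b) ^ 2 = minpoly k x * b := by rw [hb]; ring
      rw [← map_pow, this, map_mul, minpoly.aeval, zero_mul]
    have hne : minpoly k x ≠ 0 := minpoly.ne_zero (hint x)
    have hab : a * b ≠ 0 := fun h => hne (by rw [hb, mul_assoc, h, mul_zero])
    obtain ⟨c, hc⟩ := minpoly.dvd k x h0
    refine IsUnit.of_mul_eq_one c (mul_right_cancel₀ hab ?_)
    rw [one_mul]
    conv_rhs => rw [hc, hb]
    ring
  rw [Algebra.formallyUnramified_iff]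
  have hD : ∀ x : Q, KaehlerDifferential.D k Q x = 0 := by
    intro x
    have h := (KaehlerDifferential.D k Q).map_aeval (minpoly k x) x
    rw [minpoly.aeval, map_zero] at h
    obtain ⟨p, q, hpq⟩ := hsep x
    have h1 := congrArg (aeval x) hpq
    rw [map_add, map_mul, map_mul, minpoly.aeval, mul_zero, zero_add, map_one] at h1
    calc KaehlerDifferential.D k Q x
        = (aeval x q * aeval x (derivative (minpoly k x))) • KaehlerDifferential.D k Q x := by
          rw [h1, one_smul]
      _ = 0 := by rw [mul_smul, ← h, smul_zero]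
  refine subsingleton_of_forall_eq 0 fun y => ?_
  have hy : y ∈ Submodule.span Q (Set.range (KaehlerDifferential.D k Q)) := by
    rw [KaehlerDifferential.span_range_derivation]; trivial
  have hle : Submodule.span Q (Set.range (KaehlerDifferential.D k Q)) ≤ ⊥ :=
    Submodule.span_le.2 (by rintro _ ⟨x, rfl⟩; exact hD x)
  exact (Submodule.mem_bot Q).1 (hle hy)

variable (K : Type u) [Field K] [Algebra k K] [IsAlgClosed K] [Algebra.IsAlgebraic k K]

/-- Points separate the elements of a reduced finitely generated algebra. -/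
lemma eq_zero_of_points {Q : Type u} [CommRing Q] [Algebra k Q] [Algebra.FiniteType k Q]
    [IsReduced Q] {x : Q} (h : ∀ g : Q →ₐ[k] K, g x = 0) : x = 0 := by
  have : IsJacobsonRing Q := isJacobsonRing_of_finiteType (A := k)
  have h1 : x ∈ Ideal.jacobson (⊥ : Ideal Q) := by
    refine Ideal.mem_sInf.2 fun m hm => ?_
    have : m.IsMaximal := hm.2
    let := Ideal.Quotient.field m
    have : Module.Finite k (Q ⧸ m) := finite_of_finite_type_of_isJacobsonRing k (Q ⧸ m)
    have : Algebra.IsAlgebraic k (Q ⧸ m) := Algebra.IsAlgebraic.of_finite k _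
    let e : Q ⧸ m →ₐ[k] K := IsAlgClosed.lift
    have := h (e.comp (Ideal.Quotient.mkₐ k m))
    exact Ideal.Quotient.eq_zero_iff_mem.1 (e.toRingHom.injective (this.trans (map_zero _).symm))
  rwa [IsJacobsonRing.out inferInstance, Ideal.mem_bot] at h1
  exact Ideal.isRadical_bot_iff.2 inferInstance

lemma finite_of_finite_points {Q : Type u} [CommRing Q] [Algebra k Q] [Algebra.FiniteType k Q]
    [IsReduced Q] [Finite (Q →ₐ[k] K)] : Module.Finite k Q := by
  classical
  have hg : ∀ g : Q →ₐ[k] K, Module.Finite k g.range := by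
    intro g
    have : Algebra.FiniteType k g.range :=
      Algebra.FiniteType.of_surjective g.rangeRestrict g.rangeRestrict_surjective
    have : Algebra.IsIntegral k g.range :=
      Algebra.IsIntegral.of_injective g.range.val Subtype.val_injective
    exact Algebra.IsIntegral.finite
  let Φ : Q →ₗ[k] ∀ g : Q →ₐ[k] K, g.range :=
    LinearMap.pi fun g => g.rangeRestrict.toLinearMap
  refine Module.Finite.of_injective Φ ((injective_iff_map_eq_zero Φ).2 fun x hx => ?_)
  exact eq_zero_of_points K fun g => congrArg Subtype.val (congrFun hx g)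

lemma finrank_le_natCard_points [PerfectField k] (Q : Type u) [CommRing Q] [Algebra k Q]
    [IsReduced Q] [Module.Finite k Q] [Finite (Q →ₐ[k] K)] :
    Module.finrank k Q ≤ Nat.card (Q →ₐ[k] K) := by
  classical
  have := formallyUnramified_of_reduced (k := k) Q
  have : IsReduced (K ⊗[k] Q) := Algebra.FormallyUnramified.isReduced_of_field K (K ⊗[k] Q)
  let _ := Fintype.ofFinite (Q →ₐ[k] K)
  let L : K ⊗[k] Q →ₗ[K] ((Q →ₐ[k] K) → K) := LinearMap.pi fun g =>
    (Algebra.TensorProduct.lift (Algebra.ofId K K) g fun _ _ => Commute.all _ _).toLinearMap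
  have hL : Function.Injective L := (injective_iff_map_eq_zero L).2 fun x hx =>
    Groth.Agent.Lib.Hopf.Points.eq_zero_of_forall_point_eq_zero (k := K) fun φ => by
      have e : φ = Algebra.TensorProduct.lift (Algebra.ofId K K)
          ((φ.restrictScalars k).comp Algebra.TensorProduct.includeRight)
          (fun _ _ => Commute.all _ _) := by
        ext q
        simp
      rw [e]
      exact congrFun hx _
  calc Module.finrank k Q = Module.finrank K (K ⊗[k] Q) := Module.finrank_baseChange.symm
    _ ≤ Module.finrank K ((Q →ₐ[k] K) → K) := LinearMap.finrank_le_finrank_of_injective hL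
    _ = Nat.card (Q →ₐ[k] K) := by rw [Module.finrank_pi, Nat.card_eq_fintype_card]

variable {A C : Type u} [CommRing A] [HopfAlgebra k A] [Algebra.FiniteType k A] [CommRing C]
  [HopfAlgebra k C] (ψ : C →ₐc[k] A)

lemma points_injective (J : Ideal A)
    (hJ : J = Ideal.map (ψ : C →+* A) (RingHom.ker (Bialgebra.counitAlgHom k C)))
    [IsLocalRing (A ⧸ J)] (g h : A →ₐ[k] K) (hgh : g.comp (ψ : C →ₐ[k] A) = h.comp ψ) : g = h := by
  let S := HopfAlgebra.antipodeAlgHom k A
  have hleft : ∀ f : A →ₐ[k] K, toConv (f.comp S) * toConv f = 1 := fun f => by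
    refine WithConv.ofConv_injective ?_
    have := AlgHom.comp_convMul_distrib f (toConv S) (toConv (AlgHom.id k A))
    rw [AlgHom.antipode_id_cancel] at this
    simp only [ofConv_toConv, AlgHom.comp_id] at this
    rw [← this]
    refine AlgHom.ext fun a => ?_
    show f (algebraMap k A (CoalgebraStruct.counit a)) = algebraMap k K (CoalgebraStruct.counit a)
    exact f.commutes _
  have hright : ∀ f : A →ₐ[k] K, toConv f * toConv (f.comp S) = 1 := fun f => by
    refine WithConv.ofConv_injective ?_
    have h0 : toConv (AlgHom.id k A) * toConv S = 1 := by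
      apply WithConv.ofConv_injective
      apply AlgHom.toLinearMap_injective
      apply WithConv.toConv_injective
      rw [AlgHom.toLinearMap_convMul, AlgHom.toLinearMap_convOne]
      simp [S, LinearMap.id_mul_antipode]
    have := AlgHom.comp_convMul_distrib f (toConv (AlgHom.id k A)) (toConv S)
    rw [h0] at this
    simp only [ofConv_toConv, AlgHom.comp_id] at this
    rw [← this]
    refine AlgHom.ext fun a => ?_
    show f (algebraMap k A (CoalgebraStruct.counit a)) = algebraMap k K (CoalgebraStruct.counit a)
    exact f.commutes _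
  let u : WithConv (A →ₐ[k] K) := toConv (g.comp S) * toConv h
  have hu : u.ofConv.comp (ψ : C →ₐ[k] A) = (1 : WithConv (C →ₐ[k] K)).ofConv := by
    rw [AlgHom.convMul_comp_bialgHom_distrib]
    simp only [ofConv_toConv]
    rw [← hgh, show toConv ((g.comp S).comp (ψ : C →ₐ[k] A)) * toConv (g.comp (ψ : C →ₐ[k] A)) =
      toConv ((toConv (g.comp S) * toConv g).ofConv.comp (ψ : C →ₐ[k] A)) from by
        rw [AlgHom.convMul_comp_bialgHom_distrib], hleft]
    refine AlgHom.ext fun c => ?_
    show algebraMap k K (CoalgebraStruct.counit (ψ c)) = algebraMap k K (CoalgebraStruct.counit c)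
    rw [CoalgHomClass.counit_comp_apply]
  have hker : J ≤ RingHom.ker u.ofConv := by
    rw [hJ, Ideal.map_le_iff_le_comap]
    intro c hc
    show u.ofConv (ψ c) = 0
    have := AlgHom.congr_fun hu c
    rw [AlgHom.comp_apply] at this
    rw [show u.ofConv (ψ c) = u.ofConv ((ψ : C →ₐ[k] A) c) from rfl, this]
    show algebraMap k K (CoalgebraStruct.counit c) = 0
    rw [show CoalgebraStruct.counit (R := k) c = 0 from hc, map_zero]
  have hεJ : J ≤ RingHom.ker (Bialgebra.counitAlgHom k A) := by
    rw [hJ, Ideal.map_le_iff_le_comap]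
    intro c hc
    show CoalgebraStruct.counit (ψ c) = 0
    rw [CoalgHomClass.counit_comp_apply ψ c]
    exact hc
  have hu1 : u = 1 := by
    refine WithConv.ofConv_injective (AlgHom.ext fun a => ?_)
    show u.ofConv a = algebraMap k K (CoalgebraStruct.counit a)
    rw [← u.ofConv.commutes, ← sub_eq_zero, ← map_sub]
    set b := a - algebraMap k A (CoalgebraStruct.counit a) with hb
    have hbε : Bialgebra.counitAlgHom k A b = 0 := by simp [hb]
    have : IsJacobsonRing (A ⧸ J) := isJacobsonRing_of_finiteType (A := k)
    have hnil : IsNilpotent (Ideal.Quotient.mk J b) := by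
      have hnu : ¬ IsUnit (Ideal.Quotient.mk J b) := fun hU => by
        have := hU.map (Ideal.Quotient.lift J _ hεJ)
        exact not_isUnit_zero (hbε ▸ (this : IsUnit (Bialgebra.counitAlgHom k A b)))
      rw [← mem_nilradical]
      have hj : (nilradical (A ⧸ J)).jacobson = nilradical (A ⧸ J) :=
        IsJacobsonRing.out inferInstance (Ideal.radical_isRadical _)
      rw [← hj]
      refine Ideal.mem_sInf.2 fun m hm => ?_
      rw [IsLocalRing.eq_maximalIdeal hm.2]
      exact hnu
    obtain ⟨n, hn⟩ := hnil
    rw [← map_pow, Ideal.Quotient.eq_zero_iff_mem] at hn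
    have := hker hn
    rw [RingHom.mem_ker, map_pow] at this
    exact eq_zero_of_pow_eq_zero this
  have := congrArg (toConv g * ·) hu1
  simp only [u, ← mul_assoc, hright, one_mul, mul_one] at this
  exact (toConv_injective this).symm

end

/-- Let k be a perfect field, A a finitely generated commutative Hopf algebra (an algebraic group H), ψ
: C → A an injective bialgebra map with C an étale k-algebra (the étale quotient H″), J the Hopf
ideal of A generated by the image of the augmentation ideal of C (the kernel H′ = Spec (A/J)), with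
A/J a local ring (H′ radiciel). Then H″ lifts uniquely into H and the lifting is the reduced
subgroup: there is exactly one bialgebra map r : A → C with r ∘ ψ = id, and every such r has kernel
the nilradical of A. -/
theorem result (k : Type u) [Field k] [PerfectField k] (A C : Type u) [CommRing A] [HopfAlgebra k A] [Algebra.FiniteType k A]
    [CommRing C] [HopfAlgebra k C] [Algebra.Etale k C] (ψ : C →ₐc[k] A) (hψ : Function.Injective ψ)
    (J : Ideal A) [J.IsHopfIdeal k] (hJ : J = Ideal.map (ψ : C →+* A) (RingHom.ker (Bialgebra.counitAlgHom k C)))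
    [IsLocalRing (A ⧸ J)] :
    (∃! r : A →ₐc[k] C, r.comp ψ = BialgHom.id k C) ∧
    ∀ r : A →ₐc[k] C, r.comp ψ = BialgHom.id k C → RingHom.ker (r : A →+* C) = nilradical A := by
  let K := AlgebraicClosure k
  have : IsReduced C := Algebra.FormallyUnramified.isReduced_of_field k C
  have : Module.Finite k C := Algebra.FormallyUnramified.finite_of_free k C
  have : IsReduced (C ⊗[k] C) := by
    have : Algebra.FormallyUnramified k (C ⊗[k] C) := Algebra.FormallyUnramified.comp k C _
    exact Algebra.FormallyUnramified.isReduced_of_field k (C ⊗[k] C)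
  let Q := A ⧸ nilradical A
  let π : A →ₐ[k] Q := Ideal.Quotient.mkₐ k _
  have : IsReduced Q := (Ideal.isRadical_iff_quotient_reduced _).1 (Ideal.radical_isRadical _)
  have : Algebra.FiniteType k Q := Algebra.FiniteType.of_surjective π Ideal.Quotient.mk_surjective
  let σ : C →ₐ[k] Q := π.comp (ψ : C →ₐ[k] A)
  have hσi : Function.Injective σ := (injective_iff_map_eq_zero σ).2 fun c hc => by
    obtain ⟨n, hn⟩ := mem_nilradical.1 (Ideal.Quotient.eq_zero_iff_mem.1 hc)
    refine IsReduced.eq_zero c ⟨n, hψ ?_⟩
    rw [map_zero, map_pow]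
    exact hn
  have hinj : Function.Injective (fun g : Q →ₐ[k] K => g.comp σ) := fun g h hgh => by
    have := points_injective (K := K) ψ J hJ (g.comp π) (h.comp π) hgh
    exact (AlgHom.cancel_right Ideal.Quotient.mk_surjective).1 this
  have : Finite (C →ₐ[k] K) := inferInstance
  have : Finite (Q →ₐ[k] K) := Finite.of_injective _ hinj
  have : Module.Finite k Q := finite_of_finite_points K
  have hdim : Module.finrank k Q ≤ Module.finrank k C :=
    (finrank_le_natCard_points K Q).trans
      ((Nat.card_le_card_of_injective _ hinj).trans (card_algHom_le_finrank k C K))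
  have hσs : Function.Surjective σ := by
    refine (LinearMap.injective_iff_surjective_of_finrank_eq_finrank (f := σ.toLinearMap) ?_).1 hσi
    exact le_antisymm (LinearMap.finrank_le_finrank_of_injective (f := σ.toLinearMap) hσi) hdim
  let e := AlgEquiv.ofBijective σ ⟨hσi, hσs⟩
  let r₀ : A →ₐ[k] C := e.symm.toAlgHom.comp π
  have hr₀ψ : ∀ c, r₀ (ψ c) = c := fun c => e.symm_apply_apply c
  have hdec : ∀ a, ∃ c n, IsNilpotent n ∧ a = ψ c + n := fun a => by
    obtain ⟨c, hc⟩ := hσs (π a)
    refine ⟨c, a - ψ c, mem_nilradical.1 (Ideal.Quotient.eq_zero_iff_mem.1 ?_), by abel⟩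
    rw [map_sub, sub_eq_zero]
    exact hc.symm
  have hagree : ∀ {T : Type u} [CommRing T] [Algebra k T] [IsReduced T] (f f' : A →ₐ[k] T),
      (∀ c, f (ψ c) = f' (ψ c)) → f = f' := by
    intro T _ _ _ f f' h
    refine AlgHom.ext fun a => ?_
    obtain ⟨c, n, hn, rfl⟩ := hdec a
    rw [map_add, map_add, h, IsReduced.eq_zero _ (hn.map f), IsReduced.eq_zero _ (hn.map f')]
  let r : A →ₐc[k] C := BialgHom.ofAlgHom r₀
    (hagree _ _ fun c => by
      show CoalgebraStruct.counit (r₀ (ψ c)) = CoalgebraStruct.counit (ψ c)
      rw [hr₀ψ, CoalgHomClass.counit_comp_apply ψ c])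
    (hagree _ _ fun c => by
      show Algebra.TensorProduct.map r₀ r₀ (CoalgebraStruct.comul (ψ c)) =
        CoalgebraStruct.comul (r₀ (ψ c))
      rw [hr₀ψ, ← CoalgHomClass.map_comp_comul_apply ψ]
      generalize CoalgebraStruct.comul (R := k) c = z
      induction z using TensorProduct.induction_on with
      | zero => simp
      | tmul x y => simp [hr₀ψ]
      | add x y hx hy => simp only [map_add, hx, hy])
  refine ⟨⟨r, BialgHom.ext fun c => hr₀ψ c, fun r' hr' => BialgHom.ext fun a => ?_⟩, fun r' hr' => ?_⟩
  · refine AlgHom.congr_fun (hagree (r' : A →ₐ[k] C) (r : A →ₐ[k] C) fun c => ?_) a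
    exact (congrArg (fun φ : C →ₐc[k] C => φ c) hr').trans (hr₀ψ c).symm
  · refine le_antisymm (fun a ha => ?_) fun a ha => ?_
    · obtain ⟨c, n, hn, rfl⟩ := hdec a
      have h1 : r' (ψ c) = c := congrArg (fun φ : C →ₐc[k] C => φ c) hr'
      have h2 : r' n = 0 := IsReduced.eq_zero _ (hn.map r')
      have h3 : r' (ψ c + n) = 0 := ha
      rw [map_add, h1, h2, add_zero] at h3
      rw [h3, map_zero, zero_add]
      exact mem_nilradical.2 hn
    · exact IsReduced.eq_zero _ ((mem_nilradical.1 ha).map (r' : A →+* C))

end Groth.Agent.S5441
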