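import Groth.Statements.S5443

import Groth.Agent.H60.AffQuot.Finite
import Groth.Agent.H95.UnipClosed.Basic
import Groth.Agent.Lib.GrpQ.Affinization

set_option autoImplicit false
universe u
open TensorProduct CategoryTheory MonoidalCategory CartesianMonoidalCategory MonObj GrpObj AlgebraicGeometry
open SGA3x

open Groth.Agent Groth.Agent.Lib

namespace Groth.Agent.S5443

section

open CategoryTheory.Limits CoactBr

variable {k : Type u} [Field k]

/-- An affine scheme over a field is a spectrum. -/
theorem exists_eX (Y : Over (Spec (CommRingCat.of k))) [IsAffine Y.left] :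
    ∃ (R : Type u) (_ : CommRing R) (_ : Algebra k R), Nonempty (Y ≅ sp k R) := by
  let φ : CommRingCat.of k ⟶ Γ(Y.left, ⊤) := (Scheme.ΓSpecIso (CommRingCat.of k)).inv ≫ Y.hom.appTop
  letI : Algebra k Γ(Y.left, ⊤) := φ.hom.toAlgebra
  refine ⟨Γ(Y.left, ⊤), inferInstance, inferInstance, ⟨Over.isoMk Y.left.isoSpec ?_⟩⟩
  change Y.left.isoSpec.hom ≫ Spec.map φ = Y.hom
  rw [Spec.map_comp, Scheme.isoSpec_hom, ← Category.assoc, ← Scheme.toSpecΓ_naturality, Category.assoc]
  rw [show (Spec (CommRingCat.of k)).toSpecΓ ≫ Spec.map (Scheme.ΓSpecIso (CommRingCat.of k)).inv = 𝟙 _ by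
    rw [← Spec.map_id]; simp [← Spec.map_comp]]
  exact Category.comp_id _

/-- The extension of an action to the affine hull. -/
theorem exists_aff_action {G X : Over (Spec (CommRingCat.of k))} [GrpObj G] [IsAffine G.left]
    [QuasiCompact X.hom] [QuasiSeparated X.hom] (a : AlgGrp.Action G X) :
    ∃ a' : AlgGrp.Action G (GrpQ.Affinization.aff X),
      (G ◁ GrpQ.Affinization.rho X) ≫ a'.act = a.act ≫ GrpQ.Affinization.rho X := by
  haveI : QuasiCompact G.hom := GrpQ.Affinization.qc_of_isAffine G
  haveI : QuasiSeparated G.hom := GrpQ.Affinization.qs_of_isAffine G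
  haveI : IsAffine (G ⊗ G).left := GrpQ.Affinization.isAffine_tensor G G
  haveI : QuasiCompact (G ⊗ G).hom := GrpQ.Affinization.qc_of_isAffine _
  haveI : QuasiSeparated (G ⊗ G).hom := GrpQ.Affinization.qs_of_isAffine _
  haveI : QuasiCompact (GrpQ.Affinization.aff X).hom := GrpQ.Affinization.qc_of_isAffine _
  haveI : QuasiSeparated (GrpQ.Affinization.aff X).hom := GrpQ.Affinization.qs_of_isAffine _
  have key : ∀ (Z : Over (Spec (CommRingCat.of k))) [QuasiCompact Z.hom] [QuasiSeparated Z.hom],
      IsIso (Z ◁ GrpQ.Affinization.rho X).left.appTop := fun Z _ _ => by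
    haveI : IsIso (𝟙 Z : Z ⟶ Z).left.appTop := by
      change IsIso (Scheme.Hom.appTop (𝟙 Z.left)); rw [Scheme.Hom.id_appTop]; infer_instance
    rw [← id_tensorHom]
    exact GrpQ.Affinization.isIso_tensor_appTop _ _
  haveI := key G
  haveI := key (G ⊗ G)
  haveI : IsIso (𝟙_ (Over (Spec (CommRingCat.of k))) ◁ GrpQ.Affinization.rho X).left.appTop := by
    haveI : QuasiCompact (𝟙_ (Over (Spec (CommRingCat.of k)))).hom := inferInstanceAs (QuasiCompact (𝟙 _))
    haveI : QuasiSeparated (𝟙_ (Over (Spec (CommRingCat.of k)))).hom := inferInstanceAs (QuasiSeparated (𝟙 _))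
    exact key _
  obtain ⟨act, hact⟩ := GrpQ.Affinization.exists_fac (G ◁ GrpQ.Affinization.rho X) (a.act ≫ GrpQ.Affinization.rho X)
  refine ⟨⟨act, ?_, ?_⟩, hact⟩
  · refine GrpQ.Affinization.eq_of_comp (𝟙_ (Over (Spec (CommRingCat.of k))) ◁ GrpQ.Affinization.rho X) ?_
    rw [← Category.assoc, whisker_exchange, Category.assoc, hact, ← Category.assoc, a.one_act,
      leftUnitor_naturality]
  · refine GrpQ.Affinization.eq_of_comp ((G ⊗ G) ◁ GrpQ.Affinization.rho X) ?_
    rw [← Category.assoc, whisker_exchange, Category.assoc, hact, ← Category.assoc, a.mul_act]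
    simp only [Category.assoc]
    rw [← hact, ← Category.assoc (G ◁ a.act), ← whiskerLeft_comp, ← hact, whiskerLeft_comp,
      Category.assoc, associator_naturality_right_assoc]

/-- Orbits of unipotent groups on affine schemes are closed. -/
theorem isClosed_orbit_affine {A : Type u} [CommRing A] [HopfAlgebra k A] (hU : HopfRep.IsUnipotent k A)
    {Y : Over (Spec (CommRingCat.of k))} [IsAffine Y.left] (a : AlgGrp.Action (sp k A) Y)
    (y : 𝟙_ (Over (Spec (CommRingCat.of k))) ⟶ Y) : IsClosed (Set.range (a.orbitMap y).left) := by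
  obtain ⟨R, _, _, ⟨eX⟩⟩ := exists_eX Y
  let e : sp k A ≅ sp k A := Iso.refl _
  haveI : IsMonHom e.hom := inferInstanceAs (IsMonHom (𝟙 (sp k A)))
  letI := H60.AffQuot.rComod e eX a
  haveI : GLin.IsCoactAlg k A R :=
    ⟨map_one (H60.AffQuot.rcoact e eX a), map_mul (H60.AffQuot.rcoact e eX a)⟩
  obtain ⟨χ, hχ⟩ := H60.AffQuot.exists_pt (toUnit (sp k k) ≫ y ≫ eX.hom)
  have hclosed := H95.UnipClosed.isClosedOrbit hU χ
  have horb : GLin.orbitHom k A χ = (Algebra.TensorProduct.lift (HopfAlgebra.antipodeAlgHom k A)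
      ((Algebra.ofId k A).comp χ) fun _ _ => .all _ _).comp (H60.AffQuot.coact e eX a) := by
    refine AlgHom.ext fun r => ?_
    change Algebra.TensorProduct.lid k A (Algebra.TensorProduct.map χ (AlgHom.id k A)
      (H60.AffQuot.rcoact e eX a r)) = _
    simp only [H60.AffQuot.rcoact, AlgHom.comp_apply]
    generalize H60.AffQuot.coact e eX a r = z
    induction z using TensorProduct.induction_on with
    | zero => simp
    | add p q hp hq => simp only [map_add, hp, hq]
    | tmul b s => simp [Algebra.ofId_apply, Algebra.smul_def, mul_comm]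
  have hinv : IsIso ((𝟙 (sp k A))⁻¹ : sp k A ⟶ sp k A) :=
    ⟨(𝟙 (sp k A))⁻¹, by rw [GrpObj.comp_inv, Category.comp_id, _root_.inv_inv],
      by rw [GrpObj.comp_inv, Category.comp_id, _root_.inv_inv]⟩
  have hmain : ((𝟙 (sp k A))⁻¹ : sp k A ⟶ sp k A) ≫ a.orbitMap y = pt (GLin.orbitHom k A χ) ≫ eX.inv := by
    change _ = H60.AffQuot.xPt eX (GLin.orbitHom k A χ)
    rw [horb, ← H60.AffQuot.act_rule, AlgGrp.Action.orbitMap, comp_lift_assoc, Category.comp_id, ← Category.assoc,
      comp_toUnit]
    congr 2
    rw [H60.AffQuot.xPt, pt_comp, hχ]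
    simp only [Category.assoc, Iso.hom_inv_id, Category.comp_id]
    rw [← Category.assoc, comp_toUnit]
  have hrange : Set.range (a.orbitMap y).left =
      eX.inv.left '' Set.range (PrimeSpectrum.comap (GLin.orbitHom k A χ).toRingHom) := by
    haveI := hinv
    have h2 := congrArg (fun f : sp k A ⟶ Y => Set.range f.left) hmain
    simp only [Over.comp_left, Scheme.Hom.comp_base, TopCat.coe_comp] at h2
    haveI : IsIso ((𝟙 (sp k A))⁻¹ : sp k A ⟶ sp k A).left :=
      inferInstanceAs (IsIso ((Over.forget _).map ((𝟙 (sp k A))⁻¹ : sp k A ⟶ sp k A)))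
    rw [Set.range_comp, Set.range_comp] at h2
    have hs : Function.Surjective ((𝟙 (sp k A))⁻¹ : sp k A ⟶ sp k A).left :=
      (Scheme.Hom.homeomorph ((𝟙 (sp k A))⁻¹ : sp k A ⟶ sp k A).left).surjective
    rw [hs.range_eq, Set.image_univ] at h2
    exact h2
  rw [hrange]
  haveI : IsIso eX.inv.left := inferInstanceAs (IsIso ((Over.forget _).map eX.inv))
  exact eX.inv.left.homeomorph.isClosedMap _ hclosed

end

/-- Let k be a field, A a finitely generated commutative Hopf algebra over k which is unipotent in the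
fixed-vector sense (a unipotent algebraic group U = Spec A), X a k-scheme of finite type which is
quasi-affine, with an action of U, and x a k-rational point of X. Then the orbit of x — the
set-theoretic image of U under the orbit map g ↦ g · x — is closed in X. (The published statement
does not ask X to be of finite type over k; this row does.) -/
theorem result (k : Type u) [Field k] (A : Type u) [CommRing A] [HopfAlgebra k A] [Algebra.FiniteType k A]
    (hU : HopfRep.IsUnipotent k A) (X : Over (Spec (CommRingCat.of k))) [LocallyOfFiniteType X.hom]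
    (hX : Mor2.IsQuasiAffine X.hom)
    (a : AlgGrp.Action ((Spec (CommRingCat.of A)).asOver (Spec (CommRingCat.of k))) X)
    (x : 𝟙_ (Over (Spec (CommRingCat.of k))) ⟶ X) :
    IsClosed (Set.range (a.orbitMap x).left.base) := by
  obtain ⟨hqc, hq⟩ := hX
  haveI : CompactSpace X.left := by
    haveI := hqc
    exact QuasiCompact.compactSpace_of_compactSpace X.hom
  haveI : X.left.IsQuasiAffine := by
    haveI : Scheme.IsQuasiAffine (((⊤ : X.left.Opens) : Scheme.{u})) := hq ⊤ (isAffineOpen_top _)
    exact Scheme.IsQuasiAffine.of_isImmersion (Scheme.topIso X.left).inv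
  haveI : QuasiCompact X.hom := hqc
  haveI : IsSeparated X.hom := inferInstance
  haveI : QuasiSeparated X.hom := inferInstance
  obtain ⟨a', ha'⟩ := exists_aff_action a
  have hcomp : a.orbitMap x ≫ GrpQ.Affinization.rho X = a'.orbitMap (x ≫ GrpQ.Affinization.rho X) := by
    rw [AlgGrp.Action.orbitMap, AlgGrp.Action.orbitMap, Category.assoc, ← ha', lift_whiskerLeft_assoc,
      Category.assoc]
  haveI : IsOpenImmersion (GrpQ.Affinization.rho X).left := inferInstanceAs (IsOpenImmersion X.left.toSpecΓ)
  have h := isClosed_orbit_affine hU a' (x ≫ GrpQ.Affinization.rho X)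
  rw [← hcomp] at h
  simp only [Over.comp_left, Scheme.Hom.comp_base, TopCat.coe_comp, Set.range_comp] at h
  have := h.preimage (GrpQ.Affinization.rho X).left.continuous
  rwa [Set.preimage_image_eq _ (GrpQ.Affinization.rho X).left.isOpenEmbedding.injective] at this


end Groth.Agent.S5443
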