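import Groth.Statements.S5444
import Groth.Agent.Lib.Subtrusive.Valuation
import Groth.Agent.Lib.Flat55.ResTrdegBC
import Groth.Agent.H20.PrincipalVerticalScheme

set_option autoImplicit false
universe u
open CategoryTheory AlgebraicGeometry Topology
open SGA3x

namespace Groth.Agent.S5444

open Limits Groth.Agent.Lib Groth.Agent.Lib.Cyc Groth.Agent.H20.FlatSupportTrdeg
  Groth.Agent.H20.PrincipalVertical Groth.Agent.Lib.Subtrusive.Valuation IsLocalRing
open Groth.Agent.Lib.VarDim.Fibre Groth.Agent.Lib.VarDim.Basic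

set_option backward.isDefEq.respectTransparency.types false in
/-- Over a valuation ring, residual transcendence degrees do not grow under specialisation from the
generic fibre. -/
theorem trdegAt_le_of_specializes {Y : Scheme.{u}} {V : Type u} [CommRing V] [IsDomain V]
    [ValuationRing V] (f : Y ⟶ Spec (CommRingCat.of V)) [LocallyOfFiniteType f] {η x : Y}
    (hη : f η = genPt V) (hs : η ⤳ x) : Residue.trdegAt f x ≤ Residue.trdegAt f η := by
  classical
  obtain ⟨U, hU, hxU, -⟩ :=
    exists_isAffineOpen_mem_and_subset (U := (⊤ : Y.Opens)) (Set.mem_univ x)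
  have hηU : η ∈ U := hs.mem_open U.2 hxU
  have hV : IsAffineOpen (⊤ : (Spec (CommRingCat.of V)).Opens) := isAffineOpen_top _
  have e : U ≤ f ⁻¹ᵁ ⊤ := fun _ _ => trivial
  obtain ⟨σ, t, hσ, ht⟩ := exists_sections_noRel f hU hV e hxU
  rw [hσ]
  let A := Γ(Spec (CommRingCat.of V), ⊤)
  let ψ : V ≃+* A := (Scheme.ΓSpecIso (CommRingCat.of V)).commRingCatIsoToRingEquiv.symm
  haveI : IsDomain A := ψ.symm.isDomain_iff.mpr inferInstance
  haveI : IsBezout A := ψ.toRingHom.toAlgebra |> fun _ =>
    Function.Surjective.isBezout ψ.toRingHom ψ.surjective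
  letI := (f.appLE ⊤ U e).hom.toAlgebra
  haveI : Algebra.FiniteType A Γ(Y, U) := f.finiteType_appLE hV hU e
  set 𝔫 := (hU.primeIdealOf ⟨η, hηU⟩).asIdeal with h𝔫
  haveI : 𝔫.IsPrime := (hU.primeIdealOf ⟨η, hηU⟩).isPrime
  set q := (hU.primeIdealOf ⟨x, hxU⟩).asIdeal with hq
  haveI : q.IsPrime := (hU.primeIdealOf ⟨x, hxU⟩).isPrime
  set p := (hV.primeIdealOf ⟨f x, e hxU⟩).asIdeal with hp
  haveI : p.IsPrime := (hV.primeIdealOf ⟨f x, e hxU⟩).isPrime
  haveI : q.LiesOver p := ⟨(comap_primeIdealOf f hU hV e hxU).symm⟩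
  have hbot : (hV.primeIdealOf ⟨f η, e hηU⟩).asIdeal = ⊥ := by
    refine (eq_bot_iff.mpr fun a ha => ?_)
    rw [Ideal.mem_bot]
    by_contra ha0
    refine (notMem_primeIdealOf_iff hV (e hηU) a).mpr ?_ ha
    obtain ⟨v, rfl⟩ := ψ.surjective a
    show f η ∈ (Spec (CommRingCat.of V)).basicOpen ((Scheme.ΓSpecIso (CommRingCat.of V)).inv v)
    rw [hη, basicOpen_eq_of_affine]
    show v ∉ (⊥ : Ideal V)
    intro hv
    rw [Ideal.mem_bot] at hv
    exact ha0 (by rw [hv, map_zero])
  have hle : 𝔫 ≤ q := fun a ha => by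
    by_contra haq
    rw [hq, notMem_primeIdealOf_iff] at haq
    exact (notMem_primeIdealOf_iff hU hηU a).mpr (hs.mem_open (Y.basicOpen a).2 haq) ha
  haveI : Algebra.FiniteType A (Γ(Y, U) ⧸ 𝔫) :=
    Algebra.FiniteType.of_surjective (Ideal.Quotient.mkₐ A 𝔫) Ideal.Quotient.mk_surjective
  have hinj : Function.Injective (algebraMap A (Γ(Y, U) ⧸ 𝔫)) := by
    refine (injective_iff_map_eq_zero _).mpr fun a ha => ?_
    have : a ∈ (⊥ : Ideal A) := by
      rw [← hbot, ← comap_primeIdealOf f hU hV e hηU]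
      have ha' : algebraMap A Γ(Y, U) a ∈ 𝔫 := Ideal.Quotient.eq_zero_iff_mem.mp ha
      exact ha'
    exact this
  haveI : FaithfulSMul A (Γ(Y, U) ⧸ 𝔫) := (faithfulSMul_iff_algebraMap_injective _ _).mpr hinj
  haveI : Module.Flat A (Γ(Y, U) ⧸ 𝔫) := by
    rw [Module.Flat.flat_iff_torsion_eq_bot_of_isBezout, eq_bot_iff]
    rintro z ⟨⟨a, ha⟩, haz⟩
    rw [Submodule.mem_bot]
    have h0 : algebraMap A (Γ(Y, U) ⧸ 𝔫) a * z = 0 := by rw [← Algebra.smul_def]; exact haz
    exact (mul_eq_zero.mp h0).resolve_left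
      ((map_ne_zero_iff _ hinj).mpr (nonZeroDivisors.ne_zero ha))
  obtain ⟨Q, hQsupp, hQ⟩ := exists_prime_noRel (B := Γ(Y, U)) (Γ(Y, U) ⧸ 𝔫) (⊥ : Ideal A) p bot_le q
    (by rw [Module.support_eq_zeroLocus, Ideal.annihilator_quotient]; exact hle) t ht
  rw [Module.support_eq_zeroLocus, Ideal.annihilator_quotient] at hQsupp
  refine le_trdegAt_of_noRel f hU hV e hηU t fun P hP hmem => ?_
  rw [hbot] at hP
  exact hQ P hP (hQsupp hmem)

/-- A morphism from a field landing at the value of a section factors through that section. -/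
theorem eq_comp_section {S Y : Scheme.{u}} (f : Y ⟶ S) (a : S ⟶ Y) (ha : a ≫ f = 𝟙 S) {L : Type u}
    [Field L] (g : Spec (CommRingCat.of L) ⟶ Y) (s : S) (hg : g (closedPoint L) = a s) :
    g ≫ f ≫ a = g := by
  obtain ⟨ρ, hρ⟩ := H46.UnivOpenTrdeg.exists_residue_factor g (a s) hg
  have hsurj : Function.Surjective (a.residueFieldMap s).hom := by
    have h1 : (a ≫ f).residueFieldMap s = f.residueFieldMap (a s) ≫ a.residueFieldMap s :=
      Scheme.residueFieldMap_comp _ _ _
    haveI : IsOpenImmersion (a ≫ f) := by rw [ha]; infer_instance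
    have h2 : Function.Surjective (f.residueFieldMap (a s) ≫ a.residueFieldMap s).hom := by
      rw [← h1]
      exact (ConcreteCategory.bijective_of_isIso ((a ≫ f).residueFieldMap s)).2
    intro z
    obtain ⟨w, hw⟩ := h2 z
    exact ⟨_, hw⟩
  haveI : IsIso (a.residueFieldMap s) :=
    (ConcreteCategory.isIso_iff_bijective _).mpr ⟨RingHom.injective _, hsurj⟩
  have key : Y.fromSpecResidueField (a s) ≫ f ≫ a = Y.fromSpecResidueField (a s) := by
    rw [← cancel_epi (Spec.map (a.residueFieldMap s)),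
      Scheme.Hom.SpecMap_residueFieldMap_fromSpecResidueField_assoc,
      Scheme.Hom.SpecMap_residueFieldMap_fromSpecResidueField, reassoc_of% ha]
  rw [← hρ, Category.assoc, key]

/-- Let f : Y → S be a morphism of finite presentation, (a_i)_{i ∈ I} a family of sections of f, and s₀,
s₁ two points of S with s₀ a specialization of s₁. For j = 0, 1 let C_j be the closure in the fibre
Y_{s_j} (with its subspace topology) of the set of points a_i(s_j). Then dim C₁ ≥ dim C₀
(topological Krull dimensions). -/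
theorem result (S Y : Scheme.{u}) (f : Y ⟶ S) [QuasiCompact f] [QuasiSeparated f] [LocallyOfFinitePresentation f]
    (ι : Type u) (a : ι → (S ⟶ Y)) (ha : ∀ i, a i ≫ f = 𝟙 S) (s₀ s₁ : S) (h : s₁ ⤳ s₀) :
    topologicalKrullDim ↥(f.base ⁻¹' {s₀} ∩ closure (Set.range fun i => (a i).base s₀)) ≤
      topologicalKrullDim ↥(f.base ⁻¹' {s₁} ∩ closure (Set.range fun i => (a i).base s₁)) := by
  classical
  have hset : ∀ s, (f.base ⁻¹' {s} ∩ closure (Set.range fun i => (a i).base s)) =
      f ⁻¹' {s} ∩ closure (Set.range fun i => a i s) := fun s => rfl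
  rw [hset, hset, topologicalKrullDim_inter_le_iff f isClosed_closure]
  intro ζ hζs hζ
  -- valuation ring realising the specialisation
  obtain ⟨V, _, _, _, g, hg1, hg0⟩ := exists_valuationRing_of_specializes h
  let Y' := pullback f g
  let f' : Y' ⟶ Spec (CommRingCat.of V) := pullback.snd f g
  let g' : Y' ⟶ Y := pullback.fst f g
  have sq : IsPullback g' f' f g := IsPullback.of_hasPullback f g
  let a' : ι → (Spec (CommRingCat.of V) ⟶ Y') := fun i => pullback.lift (g ≫ a i) (𝟙 _)
    (by rw [Category.assoc, ha, Category.comp_id, Category.id_comp])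
  -- a point over `ζ` in the closed fibre
  obtain ⟨ζ', hζg, hζf, hζtr⟩ := Flat55.ResTrdegBC.exists_trdegAt_ge sq ζ (clPt V) (hζs.trans hg0.symm)
  have hζ' : ζ' ∈ closure (Set.range fun i => a' i (genPt V)) := by
    have hsub : Set.range (fun i => a' i (clPt V)) ⊆
        closure (Set.range fun i => a' i (genPt V)) := by
      rintro _ ⟨i, rfl⟩
      exact closure_mono (Set.singleton_subset_iff.mpr
          (show a' i (genPt V) ∈ Set.range (fun i => a' i (genPt V)) from ⟨i, rfl⟩))
        (((genPt_specializes (clPt V)).map (a' i).continuous).mem_closure)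
    refine closure_minimal hsub isClosed_closure ?_
    -- the closed fibre is open over the fibre at `s₀`
    rw [mem_closure_iff]
    intro O hO hζO
    obtain ⟨j, hj⟩ := Flat55.ResTrdegBC.exists_factor (clPt V) g s₀ hg0
    let π := pullback.fst (f.fiberToSpecResidueField s₀) (Spec.map j)
    haveI : UniversallyOpen (Spec.map j) := inferInstance
    haveI : UniversallyOpen π :=
      MorphismProperty.pullback_fst (P := @UniversallyOpen) _ _ ‹_›
    let κ : pullback (f.fiberToSpecResidueField s₀) (Spec.map j) ⟶ Y' :=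
      pullback.lift (π ≫ f.fiberι s₀) (pullback.snd _ _ ≫
        (Spec (CommRingCat.of V)).fromSpecResidueField (clPt V)) (by
        rw [Category.assoc, Category.assoc, ← hj, ← Category.assoc (pullback.snd _ _),
          ← pullback.condition]
        simp only [Category.assoc, π]
        congr 1
        exact pullback.condition)
    have hκg : κ ≫ g' = π ≫ f.fiberι s₀ := pullback.lift_fst _ _ _
    have hκf : κ ≫ f' = pullback.snd _ _ ≫
        (Spec (CommRingCat.of V)).fromSpecResidueField (clPt V) := pullback.lift_snd _ _ _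
    obtain ⟨z, hz⟩ : ∃ z, κ z = ζ' := by
      obtain ⟨ρ, hρ⟩ := Flat55.ResTrdegBC.exists_factor ζ' f' (clPt V) hζf
      let m : Spec (Y'.residueField ζ') ⟶ pullback (f.fiberToSpecResidueField s₀) (Spec.map j) :=
        pullback.lift (pullback.lift (Y'.fromSpecResidueField ζ' ≫ g') (Spec.map ρ ≫ Spec.map j) (by
            rw [Category.assoc, Category.assoc, hj, ← Category.assoc (Spec.map ρ), hρ,
              Category.assoc, sq.w]))
          (Spec.map ρ) (pullback.lift_snd _ _ _)
      have hm : m ≫ κ = Y'.fromSpecResidueField ζ' := by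
        refine sq.hom_ext ?_ ?_
        · simp only [Category.assoc, κ, g', pullback.lift_fst]
          rw [pullback.lift_fst_assoc]
          exact pullback.lift_fst _ _ _
        · simp only [Category.assoc, κ, f', pullback.lift_snd]
          rw [pullback.lift_snd_assoc, hρ]
      exact ⟨m (closedPoint _), by
        rw [← Scheme.Hom.comp_apply, hm, Scheme.fromSpecResidueField_apply]⟩
    have himg : IsOpen (π '' (κ ⁻¹' O)) := π.isOpenMap _ (hO.preimage κ.continuous)
    obtain ⟨O₀, hO₀, hO₀eq⟩ := (f.fiberι s₀).isEmbedding.toIsInducing.isOpen_iff.mp himg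
    have hζO₀ : ζ ∈ O₀ := by
      have h1 : π z ∈ (f.fiberι s₀) ⁻¹' O₀ := by rw [hO₀eq]; exact ⟨z, by rw [Set.mem_preimage, hz]; exact hζO, rfl⟩
      have h2 : f.fiberι s₀ (π z) = ζ := by
        rw [← hζg, ← hz, ← Scheme.Hom.comp_apply, ← Scheme.Hom.comp_apply]
        rw [hκg]
      rwa [Set.mem_preimage, h2] at h1
    obtain ⟨-, hyO, i, rfl⟩ := mem_closure_iff.mp hζ O₀ hO₀ hζO₀
    have hfa : f (a i s₀) = s₀ := by rw [← Scheme.Hom.comp_apply, ha]; rfl
    obtain ⟨y₀, hy₀⟩ := FieldDim.exists_fiberι_eq f (a i s₀) s₀ hfa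
    obtain ⟨u, huO, hu⟩ : y₀ ∈ π '' (κ ⁻¹' O) := by
      rw [← hO₀eq, Set.mem_preimage, hy₀]; exact hyO
    refine ⟨κ u, huO, i, ?_⟩
    let P := pullback (f.fiberToSpecResidueField s₀) (Spec.map j)
    let q := P.fromSpecResidueField u ≫ κ
    have hq : q (closedPoint _) = κ u := by
      rw [Scheme.Hom.comp_apply, Scheme.fromSpecResidueField_apply]
    have hqg : (q ≫ g') (closedPoint _) = a i s₀ := by
      rw [Scheme.Hom.comp_apply, hq, ← hy₀, ← hu, ← Scheme.Hom.comp_apply, ← Scheme.Hom.comp_apply,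
        hκg]
    have hfac : q = (q ≫ f') ≫ a' i := by
      refine sq.hom_ext ?_ ?_
      · simp only [Category.assoc, a', g', pullback.lift_fst]
        have := eq_comp_section f (a i) (ha i) (q ≫ g') s₀ hqg
        rw [Category.assoc, reassoc_of% sq.w] at this
        exact this.symm
      · simp only [Category.assoc, a', f', pullback.lift_snd, Category.comp_id]
    have hf' : f' (κ u) = clPt V := by
      rw [← Scheme.Hom.comp_apply, hκf,
        Scheme.Hom.comp_apply, Scheme.fromSpecResidueField_apply]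
    show a' i (clPt V) = κ u
    have hlast := congr($hfac (closedPoint _))
    rw [Scheme.Hom.comp_apply (q ≫ f') (a' i), Scheme.Hom.comp_apply q f', hq, hf'] at hlast
    exact hlast.symm
  -- components of the closure in the generic fibre
  haveI : LocallyOfFiniteType (X := f'.fiber (genPt V))
      (Y := Spec (CommRingCat.of ((Spec (CommRingCat.of V)).residueField (genPt V))))
      (f'.fiberToSpecResidueField (genPt V)) :=
    inferInstanceAs (LocallyOfFiniteType
      (pullback.snd f' ((Spec (CommRingCat.of V)).fromSpecResidueField (genPt V))))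
  haveI : QuasiCompact (X := f'.fiber (genPt V))
      (Y := Spec (CommRingCat.of ((Spec (CommRingCat.of V)).residueField (genPt V))))
      (f'.fiberToSpecResidueField (genPt V)) :=
    inferInstanceAs (QuasiCompact
      (pullback.snd f' ((Spec (CommRingCat.of V)).fromSpecResidueField (genPt V))))
  haveI : IsLocallyNoetherian (f'.fiber (genPt V)) :=
    LocallyOfFiniteType.isLocallyNoetherian (f'.fiberToSpecResidueField (genPt V))
  haveI : CompactSpace ↥(f'.fiber (genPt V)) :=
    QuasiCompact.compactSpace_of_compactSpace (f'.fiberToSpecResidueField (genPt V))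
  haveI : IsNoetherian (f'.fiber (genPt V)) := ⟨⟩
  let ι' := f'.fiberι (genPt V)
  let C := ι' ⁻¹' closure (Set.range fun i => a' i (genPt V))
  obtain ⟨T, hTfin, hTc, hTirr, hTC⟩ :=
    TopologicalSpace.NoetherianSpace.exists_finite_set_isClosed_irreducible
      (isClosed_closure.preimage ι'.continuous : IsClosed C)
  choose gen hgen using fun t : T => QuasiSober.sober (hTirr t t.2) (hTc t t.2)
  have hcover : closure (Set.range fun i => a' i (genPt V)) ⊆
      ⋃ t : T, closure {ι' (gen t)} := by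
    refine closure_minimal ?_ (haveI := hTfin.to_subtype; isClosed_iUnion_of_finite fun _ => isClosed_closure)
    rintro _ ⟨i, rfl⟩
    have hfi : f' (a' i (genPt V)) = genPt V := by
      rw [← Scheme.Hom.comp_apply, show a' i ≫ f' = _ from pullback.lift_snd _ _ _]; rfl
    obtain ⟨w, hw⟩ := FieldDim.exists_fiberι_eq f' _ (genPt V) hfi
    have hwC : w ∈ C := by
      show ι' w ∈ closure (Set.range fun i => a' i (genPt V))
      rw [show ι' w = _ from hw]
      exact subset_closure ⟨i, rfl⟩
    rw [show C = ⋃₀ T from hTC] at hwC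
    obtain ⟨t, ht, hwt⟩ := hwC
    refine Set.mem_iUnion.mpr ⟨⟨t, ht⟩, ?_⟩
    show a' i (genPt V) ∈ _
    rw [← hw]
    exact ((hgen ⟨t, ht⟩).specializes hwt |>.map ι'.continuous).mem_closure
  obtain ⟨t, hζt⟩ := Set.mem_iUnion.mp (hcover hζ')
  set η := ι' (gen t)
  have hηf : f' η = genPt V := FieldDim.apply_fiberι f' _ _
  have hηC : gen t ∈ C := by
    rw [show C = ⋃₀ T from hTC]; exact ⟨t.1, t.2, (hgen t).mem⟩
  have hle := trdegAt_le_of_specializes f' hηf (specializes_iff_mem_closure.mpr hζt)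
  have h1 : f (g' η) = s₁ := by
    rw [← Scheme.Hom.comp_apply, sq.w, Scheme.Hom.comp_apply, hηf, hg1]
  have h2 : g' η ∈ closure (Set.range fun i => a i s₁) := by
    refine (image_closure_subset_closure_image g'.continuous).trans (closure_mono ?_) ⟨η, hηC, rfl⟩
    rintro _ ⟨_, ⟨i, rfl⟩, rfl⟩
    refine ⟨i, ?_⟩
    show a i s₁ = g' (a' i (genPt V))
    rw [← hg1, ← Scheme.Hom.comp_apply, ← Scheme.Hom.comp_apply]
    rw [show a' i ≫ g' = g ≫ a i from pullback.lift_fst _ _ _]
  have hfin := hζtr.trans (hle.trans (Flat55.ResTrdegBC.trdegAt_le sq η))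
  rw [trdegAt_eq_tdAt, trdegAt_eq_tdAt] at hfin
  refine le_trans ?_ ((topologicalKrullDim_inter_le_iff f isClosed_closure s₁ _).mp le_rfl (g' η) h1 h2)
  exact_mod_cast hfin

end Groth.Agent.S5444
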