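import Groth.Statements.S5446
import Groth.Agent.Lib.RootDatum.Sub

set_option autoImplicit false
open RootD Groth.Agent.Lib.RootDatum Groth.Agent.Lib.RootDatum.Basic Groth.Agent.Lib.RootDatum.PosSys

namespace Groth.Agent.S5446

/-- If the roots indexed by Δ are indivisible and linearly independent and every root is, up to sign, a
non-negative rational combination of them (some positive multiple is a non-negative integer
combination), then Δ is a system of simple roots: every root is, up to sign, a non-negative integer
combination of Δ. -/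
theorem result {ι M N : Type*} [AddCommGroup M] [AddCommGroup N]
    (P : RootPairing ι ℤ M N) [Finite ι] (Δ : Set ι)
    (hind : ∀ i ∈ Δ, RootD.IsIndiv P i) (hli : LinearIndepOn ℤ P.root Δ)
    (hcone : ∀ k : ι, ∃ n : ℕ, 0 < n ∧
      (n • P.root k ∈ RootD.natSpan P Δ ∨ n • (-P.root k) ∈ RootD.natSpan P Δ)) :
    RootD.IsSimpleSys P Δ := by
  classical
  obtain ⟨S, hS⟩ : ∃ S : Set ι, S = {k | ∃ n : ℕ, 0 < n ∧ n • P.root k ∈ RootD.natSpan P Δ} :=
    ⟨_, rfl⟩
  have hnn : ∀ k ∈ S, ∀ n : ℕ, 0 < n → ∀ d : ι →₀ ℤ, ↑d.support ⊆ Δ →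
      Finsupp.linearCombination ℤ P.root d = n • P.root k → ∀ b, 0 ≤ d b := by
    intro k hk n hn d hd he b
    rw [hS] at hk
    obtain ⟨m, hm, h⟩ := hk
    obtain ⟨c, hc, hc', he'⟩ := exists_comb h
    have heq : (m : ℤ) • d = (n : ℤ) • c := by
      refine sub_eq_zero.mp (linearIndepOn_iff.mp hli _ ?_ ?_)
      · rw [Finsupp.mem_supported]
        refine (Finset.coe_subset.mpr Finsupp.support_sub).trans ?_
        rw [Finset.coe_union, Set.union_subset_iff]
        exact ⟨(Finset.coe_subset.mpr Finsupp.support_smul).trans hd,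
          (Finset.coe_subset.mpr Finsupp.support_smul).trans hc⟩
      · rw [map_sub, map_zsmul, map_zsmul, he, he', natCast_zsmul, natCast_zsmul, ← mul_nsmul,
          ← mul_nsmul', mul_comm, sub_self]
    have := congrArg (fun e => e b) heq
    simp only [Finsupp.smul_apply, smul_eq_mul] at this
    have h2 : 0 ≤ (n : ℤ) * c b := mul_nonneg (by positivity) (hc' b)
    rw [← this] at h2
    exact (mul_nonneg_iff_of_pos_left (by exact_mod_cast hm)).mp h2
  have hpos : RootD.IsPosSys P S := by
    refine isPosSys_of_closed P (fun i hi hn => ?_) (fun i => ?_) (fun i j k hi hj h => ?_)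
    · have hn' := hn
      rw [hS] at hn'
      obtain ⟨m, hm, h⟩ := hn'
      obtain ⟨c, hc, hc', he⟩ := exists_comb h
      have hzero : c = 0 := Finsupp.ext fun b => by
        have := hnn i hi m hm (-c) (by simpa using hc) (by rw [map_neg, he, root_negIdx, smul_neg,
          neg_neg]) b
        have h1 := hc' b
        simp only [Finsupp.coe_neg, Pi.neg_apply] at this
        simp only [Finsupp.coe_zero, Pi.zero_apply]
        lia
      rw [hzero, map_zero] at he
      exact P.ne_zero _ (nsmul_eq_zero_weight P hm.ne' he.symm)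
    · obtain ⟨n, hn, h | h⟩ := hcone i
      · exact Or.inl (by rw [hS]; exact ⟨n, hn, h⟩)
      · exact Or.inr (by rw [hS]; exact ⟨n, hn, by rwa [root_negIdx]⟩)
    · rw [hS] at hi hj ⊢
      obtain ⟨n, hn, hi⟩ := hi
      obtain ⟨m, hm, hj⟩ := hj
      refine ⟨n * m, Nat.mul_pos hn hm, ?_⟩
      rw [h, smul_add]
      refine add_mem ?_ ?_
      · rw [mul_nsmul]; exact nsmul_mem hi m
      · rw [mul_nsmul']; exact nsmul_mem hj n
  have hΔS : Δ ⊆ S := fun i hi => by
    rw [hS]; exact ⟨1, one_pos, by rw [one_nsmul]; exact root_mem_natSpan P hi⟩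
  have hsimp : RootD.IsSimpleSys P (simples P S) := isSimpleSys_simples P hpos
  have hsub : Δ ⊆ simples P S := by
    intro i hi
    refine ⟨hΔS hi, ?_⟩
    rintro ⟨x, y, hx, hy, h⟩
    have hx' := hx
    have hy' := hy
    rw [hS] at hx' hy'
    obtain ⟨n, hn, hxn⟩ := hx'
    obtain ⟨m, hm, hym⟩ := hy'
    obtain ⟨c, hc, hc', hce⟩ := exists_comb hxn
    obtain ⟨d, hd, hd', hde⟩ := exists_comb hym
    have heq : (m : ℤ) • c + (n : ℤ) • d = Finsupp.single i ((n : ℤ) * m) := by
      refine sub_eq_zero.mp (linearIndepOn_iff.mp hli _ ?_ ?_)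
      · rw [Finsupp.mem_supported]
        refine (Finset.coe_subset.mpr Finsupp.support_sub).trans ?_
        rw [Finset.coe_union, Set.union_subset_iff]
        refine ⟨(Finset.coe_subset.mpr Finsupp.support_add).trans ?_,
          (Finset.coe_subset.mpr Finsupp.support_single_subset).trans (by simpa using hi)⟩
        rw [Finset.coe_union, Set.union_subset_iff]
        exact ⟨(Finset.coe_subset.mpr Finsupp.support_smul).trans hc,
          (Finset.coe_subset.mpr Finsupp.support_smul).trans hd⟩
      · rw [map_sub, map_add, map_zsmul, map_zsmul, hce, hde, Finsupp.linearCombination_single, h]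
        module
    have hc0 : c = Finsupp.single i (c i) := Finsupp.ext fun b => by
      by_cases hb : i = b
      · subst hb; simp
      · have := congrArg (fun e => e b) heq
        simp only [Finsupp.coe_add, Pi.add_apply, Finsupp.smul_apply, smul_eq_mul,
          Finsupp.single_eq_of_ne (Ne.symm hb)] at this ⊢
        have h1 := mul_nonneg (Int.natCast_nonneg m) (hc' b)
        have h2 := mul_nonneg (Int.natCast_nonneg n) (hd' b)
        exact (mul_eq_zero.mp (by lia : (m : ℤ) * c b = 0)).resolve_left (by exact_mod_cast hm.ne')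
    have hxe : (n : ℤ) • P.root x = c i • P.root i := by
      rw [natCast_zsmul, ← hce, hc0, Finsupp.linearCombination_single, Finsupp.single_eq_same]
    obtain ⟨t, ht⟩ := Sub.dvd_of_zsmul_eq P (hind i hi) (by exact_mod_cast hn.ne') hxe
    have hxt : P.root x = t • P.root i := by
      rw [ht, mul_smul, ← sub_eq_zero, ← smul_sub] at hxe
      exact sub_eq_zero.mp (zsmul_eq_zero_weight P (by exact_mod_cast hn.ne') hxe)
    have ht0 : 0 < t := by
      rcases lt_trichotomy t 0 with h' | h' | h'
      · exfalso
        have := hc' i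
        rw [ht] at this
        have : (n : ℤ) * t < 0 := mul_neg_of_pos_of_neg (by exact_mod_cast hn) h'
        lia
      · exact absurd (by rw [hxt, h', zero_smul]) (P.ne_zero x)
      · exact h'
    have hy2 : P.root y = (1 - t) • P.root i := by
      rw [sub_smul, one_smul, ← hxt, h]; abel
    have hny : 0 ≤ (1 - t) := by
      have := hnn y hy 1 one_pos (Finsupp.single i (1 - t))
        ((Finset.coe_subset.mpr Finsupp.support_single_subset).trans (by simpa using hi))
        (by rw [Finsupp.linearCombination_single, one_nsmul, hy2]) i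
      simpa using this
    have : t = 1 := by lia
    exact P.ne_zero y (by rw [hy2, this, sub_self, zero_smul])
  suffices simples P S = Δ by rw [← this]; exact hsimp
  refine Set.Subset.antisymm (fun a ha => ?_) hsub
  have haS := ha.1
  rw [hS] at haS
  obtain ⟨n, hn, h⟩ := haS
  have h2 : P.root a ∈ Submodule.span ℤ (P.root '' Δ) :=
    mem_spanZ_of_nsmul hsimp hsub hn (natSpan_le_span P _ _ h)
  have h3 := (mem_inSpanZ_iff hsimp hsub).mp h2
  rw [coeff_self hsimp ha] at h3
  exact h3 (by simp)

end Groth.Agent.S5446
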