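import Groth.Statements.S5447
import Groth.Agent.Lib.RootDatum.Weyl

set_option autoImplicit false
open RootD Groth.Agent.Lib.RootDatum Groth.Agent.Lib.RootDatum.Basic Groth.Agent.Lib.RootDatum.PosSys

namespace Groth.Agent.S5447

/-- If every root can be written in exactly one way as an integer combination of the roots indexed by Δ
with coefficients all of the same sign, then these roots are linearly independent (so Δ is a system
of simple roots) and indivisible. -/
theorem result {ι M N : Type*} [AddCommGroup M] [AddCommGroup N]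
    (P : RootPairing ι ℤ M N) [Finite ι] (Δ : Set ι)
    (h : ∀ k : ι, ∃! c : ι →₀ ℤ, (↑c.support ⊆ Δ ∧ ((∀ j, 0 ≤ c j) ∨ (∀ j, c j ≤ 0)) ∧
      Finsupp.linearCombination ℤ P.root c = P.root k)) :
    RootD.IsSimpleSys P Δ ∧ ∀ i ∈ Δ, RootD.IsIndiv P i := by
  classical
  have hrep : ∀ k, P.root k ∈ RootD.natSpan P Δ ∨ -P.root k ∈ RootD.natSpan P Δ := by
    intro k
    obtain ⟨c, ⟨hc, hs, he⟩, -⟩ := h k
    rw [← he]
    rcases hs with hs | hs
    · exact Or.inl (by
        rw [Finsupp.linearCombination_apply]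
        exact sum_mem fun a ha => zsmul_root_mem_natSpan P (hc ha) (hs a))
    · exact Or.inr (by
        rw [← map_neg, Finsupp.linearCombination_apply]
        refine sum_mem fun a ha => zsmul_root_mem_natSpan P (hc (by simpa using ha)) ?_
        simpa using hs a)
  have uniq : ∀ k (c d : ι →₀ ℤ), ↑c.support ⊆ Δ → ↑d.support ⊆ Δ →
      ((∀ j, 0 ≤ c j) ∨ ∀ j, c j ≤ 0) → ((∀ j, 0 ≤ d j) ∨ ∀ j, d j ≤ 0) →
      Finsupp.linearCombination ℤ P.root c = P.root k →
      Finsupp.linearCombination ℤ P.root d = P.root k → c = d := fun k c d h1 h2 h3 h4 h5 h6 =>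
    (h k).unique ⟨h1, h3, h5⟩ ⟨h2, h4, h6⟩
  have hd : ∀ k, P.root k ∈ RootD.natSpan P Δ → -P.root k ∈ RootD.natSpan P Δ → False := by
    intro k h1 h2
    obtain ⟨c, hc, hc', hce⟩ := exists_comb h1
    obtain ⟨d, hd, hd', hde⟩ := exists_comb h2
    have := uniq k c (-d) hc (by simpa using hd) (Or.inl hc')
      (Or.inr fun j => by simpa using hd' j) hce (by rw [map_neg, hde, neg_neg])
    refine P.ne_zero k ?_
    rw [← hce]
    have hz : c = 0 := Finsupp.ext fun b => by
      have e := congrArg (fun e => e b) this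
      have := hc' b
      have := hd' b
      simp only [Finsupp.coe_neg, Pi.neg_apply] at e
      simp only [Finsupp.coe_zero, Pi.zero_apply]
      lia
    rw [hz, map_zero]
  have hS : RootD.IsPosSys P (RootD.posOf P Δ) := by
    refine isPosSys_of_closed P (fun i hi hn => hd i hi ?_) (fun i => (hrep i).imp id fun h' => ?_)
      (fun i j k hi hj he => ?_)
    · have := hn
      change P.root _ ∈ RootD.natSpan P Δ at this
      rwa [root_negIdx] at this
    · change P.root _ ∈ RootD.natSpan P Δ
      rwa [root_negIdx]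
    · change P.root k ∈ RootD.natSpan P Δ
      rw [he]; exact add_mem hi hj
  have hsimp := isSimpleSys_simples P hS
  suffices simples P (RootD.posOf P Δ) = Δ by
    rw [← this]; exact ⟨hsimp, fun i hi => isIndiv_simple hsimp hi⟩
  have hsub : simples P (RootD.posOf P Δ) ⊆ Δ := by
    rintro k ⟨hk, hn⟩
    refine natSpan_induction P (p := fun k => (k ∈ Δ ∨ ∃ i j : ι, i ∈ RootD.posOf P Δ ∧
      j ∈ RootD.posOf P Δ ∧ P.root k = P.root i + P.root j)) (fun a ha => Or.inl ha) ?_ hk
      |>.resolve_right hn
    exact fun k j a ha h hj _ => Or.inr ⟨j, a, hj, root_mem_natSpan P ha, h⟩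
  refine Set.Subset.antisymm hsub fun i hi => ?_
  obtain ⟨c, hc, hc', hce⟩ := exists_comb (mem_natSpan_simples P (posSys_disjoint P hS)
    (isClosed_of_isPosSys P hS) (show i ∈ RootD.posOf P Δ from root_mem_natSpan P hi))
  have := uniq i c (Finsupp.single i 1) (hc.trans hsub)
    ((Finset.coe_subset.mpr Finsupp.support_single_subset).trans (by simpa using hi))
    (Or.inl hc') (Or.inl fun j => by
      by_cases hj : i = j
      · subst hj; simp
      · simp [Finsupp.single_eq_of_ne (Ne.symm hj)]) hce (by simp)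
  exact hc (by rw [this]; simp)

end Groth.Agent.S5447
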