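import Groth.Statements.S5451
import Groth.Agent.Lib.RootDatum.PosSys

set_option autoImplicit false
open RootD Groth.Agent.Lib.RootDatum Groth.Agent.Lib.RootDatum.Basic Groth.Agent.Lib.RootDatum.PosSys

namespace Groth.Agent.S5451

/-- If a root is a positive integer combination of roots α_i, then it can be reached from 0 by
successively adding roots taken among the α_i in such a way that every partial sum is a root. -/
theorem result {ι M N : Type*} [AddCommGroup M] [AddCommGroup N]
    (P : RootPairing ι ℤ M N) [Finite ι] {n : ℕ} (a : Fin n → ι) (m : Fin n → ℕ)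
    (hm : ∀ i, 0 < m i) (k : ι) (hk : P.root k = ∑ i, m i • P.root (a i)) :
    ∃ (l : ℕ) (b : Fin l → Fin n), 0 < l ∧
      (∀ p : Fin l, ∃ j : ι, P.root j = ∑ q ∈ Finset.univ.filter (fun q : Fin l => q.val ≤ p.val), P.root (a (b q))) ∧
      P.root k = ∑ q, P.root (a (b q)) := by
  have hk' : P.root k ∈ RootD.natSpan P (Set.range a) := by
    rw [hk]
    exact sum_mem fun i _ => nsmul_mem (root_mem_natSpan P (S := Set.range a) ⟨i, rfl⟩) _
  refine natSpan_induction P (p := fun k => ∃ (l : ℕ) (b : Fin l → Fin n), 0 < l ∧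
    (∀ p : Fin l, ∃ j : ι, P.root j = ∑ q ∈ Finset.univ.filter (fun q : Fin l => q.val ≤ p.val),
      P.root (a (b q))) ∧ P.root k = ∑ q, P.root (a (b q))) ?_ ?_ hk'
  · rintro _ ⟨i, rfl⟩
    exact ⟨1, ![i], one_pos, fun p => ⟨a i, by simp⟩, by simp⟩
  · rintro k j _ ⟨i, rfl⟩ he - ⟨l, b, hl, h1, h2⟩
    refine ⟨l + 1, Fin.snoc b i, Nat.succ_pos _, fun p => ?_, ?_⟩
    · refine p.lastCases ⟨k, ?_⟩ fun p' => ?_
      · rw [Finset.filter_true_of_mem (fun q _ => Nat.lt_succ_iff.mp q.isLt), Fin.sum_univ_castSucc]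
        simp [he, h2]
      · obtain ⟨j', hj'⟩ := h1 p'
        refine ⟨j', ?_⟩
        rw [hj', Finset.sum_filter, Finset.sum_filter, Fin.sum_univ_castSucc]
        simp [not_le.mpr p'.isLt]
    · rw [Fin.sum_univ_castSucc]
      simp [he, h2]

end Groth.Agent.S5451
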