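import Groth.Statements.S5460
import Groth.Agent.Lib.RootDatum.Sub

set_option autoImplicit false
open RootD Groth.Agent.Lib.RootDatum Groth.Agent.Lib.RootDatum.Basic Groth.Agent.Lib.RootDatum.PosSys

namespace Groth.Agent.S5460

/-- A set of roots R' is the trace on R of a vector subspace (every root with a positive multiple in the
span of R' lies in R') if and only if R' is the set of roots in the span of a subset Δ' of some
system of simple roots Δ. -/
theorem result {ι M N : Type*} [AddCommGroup M] [AddCommGroup N]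
    (P : RootPairing ι ℤ M N) [Finite ι] (R' : Set ι) :
    (∀ k : ι, (∃ n : ℕ, 0 < n ∧ n • P.root k ∈ Submodule.span ℤ (P.root '' R')) → k ∈ R') ↔
      ∃ Δ Δ' : Set ι, RootD.IsSimpleSys P Δ ∧ Δ' ⊆ Δ ∧ R' = RootD.inSpan P Δ' := by
  constructor
  · intro hsat
    obtain ⟨S₀, hS₀⟩ := exists_isPosSys P
    have hsym : ∀ i ∈ R', negIdx P i ∈ R' := fun i hi => hsat _ ⟨1, one_pos, by
      rw [one_nsmul, root_negIdx]; exact neg_mem (Submodule.subset_span ⟨i, hi, rfl⟩)⟩
    obtain ⟨S, hS, -, -, h1, h2⟩ := Sub.exists_posSys_saturated P hsat (Q := S₀ ∩ R')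
      Set.inter_subset_right (fun i hi hn => hS₀.disjoint hi.1 hn.1)
      (fun i hi => (hS₀.cover i).imp (fun h => ⟨h, hi⟩) fun h => ⟨h, hsym i hi⟩)
      (fun i j k hi hj h => ⟨isClosed_of_isPosSys P hS₀ hi.1 hj.1 h, hsat _ ⟨1, one_pos, by
        rw [one_nsmul, h]
        exact add_mem (Submodule.subset_span ⟨i, hi.2, rfl⟩)
          (Submodule.subset_span ⟨j, hj.2, rfl⟩)⟩⟩)
    exact ⟨_, _, isSimpleSys_simples P hS, Set.inter_subset_left (t := R'),
      Set.ext fun k => ⟨fun hk => h1 k hk, fun hk => h2 k hk⟩⟩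
  · rintro ⟨Δ, Δ', hΔ, hsub, rfl⟩ k ⟨n, hn, hk⟩
    have h : Submodule.span ℤ (P.root '' RootD.inSpan P Δ') ≤ Submodule.span ℤ (P.root '' Δ') :=
      Submodule.span_le.mpr fun x ⟨i, hi, hx⟩ => hx ▸ hi
    exact mem_spanZ_of_nsmul hΔ hsub hn (h hk)

end Groth.Agent.S5460
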