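import Groth.Statements.S5461
import Groth.Agent.Lib.RootDatum.Sub

set_option autoImplicit false
open RootD Groth.Agent.Lib.RootDatum Groth.Agent.Lib.RootDatum.Basic Groth.Agent.Lib.RootDatum.PosSys

namespace Groth.Agent.S5461

/-- If R' is the trace of a vector subspace on the roots, every system of simple roots Δ' of the root
datum with roots R' is contained in a system of simple roots Δ of the whole datum, and R' is the set
of roots in the span of Δ'. -/
theorem result {ι M N : Type*} [AddCommGroup M] [AddCommGroup N]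
    (P : RootPairing ι ℤ M N) [Finite ι] (R' : Set ι)
    (hsat : ∀ k : ι, (∃ n : ℕ, 0 < n ∧ n • P.root k ∈ Submodule.span ℤ (P.root '' R')) → k ∈ R')
    (Δ' : Set ι) (hΔ'R : Δ' ⊆ R') (hli : LinearIndepOn ℤ P.root Δ')
    (hgen : ∀ k ∈ R', P.root k ∈ RootD.natSpan P Δ' ∨ -P.root k ∈ RootD.natSpan P Δ') :
    ∃ Δ : Set ι, RootD.IsSimpleSys P Δ ∧ Δ' ⊆ Δ ∧ R' = RootD.inSpan P Δ' := by
  classical
  have hcomb : ∀ x : M, x ∈ RootD.natSpan P Δ' → -x ∈ RootD.natSpan P Δ' → x = 0 := by
    intro x h1 h2
    obtain ⟨c, hc, hc', hce⟩ := exists_comb h1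
    obtain ⟨d, hd, hd', hde⟩ := exists_comb h2
    have := linearIndepOn_iff.mp hli (c + d) (by
      rw [Finsupp.mem_supported]
      exact (Finset.coe_subset.mpr Finsupp.support_add).trans (by simp [hc, hd]))
      (by rw [map_add, hce, hde, add_neg_cancel])
    rw [← hce]
    have hz : c = 0 := Finsupp.ext fun b => by
      have e := congrArg (fun e => e b) this
      have := hc' b
      have := hd' b
      simp only [Finsupp.coe_add, Pi.add_apply, Finsupp.coe_zero, Pi.zero_apply] at e ⊢
      lia
    rw [hz, map_zero]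
  have hspan : ∀ k, P.root k ∈ RootD.natSpan P Δ' → k ∈ R' := fun k hk => hsat k ⟨1, one_pos, by
    rw [one_nsmul]; exact Submodule.span_mono (Set.image_mono hΔ'R) (natSpan_le_span P _ _ hk)⟩
  obtain ⟨S, hS, hSR, hdec, h1, h2⟩ := Sub.exists_posSys_saturated P hsat
    (Q := RootD.posOf P Δ') hspan (fun i hi hn => P.ne_zero i (hcomb _ hi (by
      have : P.root (negIdx P i) ∈ RootD.natSpan P Δ' := hn
      rwa [root_negIdx] at this)))
    (fun i hi => (hgen i hi).imp id fun h => by
      change P.root _ ∈ RootD.natSpan P Δ'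
      rwa [root_negIdx])
    (fun i j k hi hj h => by
      change P.root k ∈ RootD.natSpan P Δ'
      rw [h]; exact add_mem hi hj)
  have hsimp := isSimpleSys_simples P hS
  have hQS : ∀ i, i ∈ RootD.posOf P Δ' → i ∈ S := fun i hi => by
    rw [← hSR] at hi; exact hi.1
  have hΔ' : Δ' ⊆ simples P S := by
    intro a ha
    refine ⟨hQS a (root_mem_natSpan P ha), ?_⟩
    rintro ⟨i, j, hi, hj, h⟩
    obtain ⟨hi', hj'⟩ := hdec i j a hi hj h (hΔ'R ha)
    obtain ⟨c, hc, hc', hce⟩ := exists_comb hi'
    obtain ⟨d, hd, hd', hde⟩ := exists_comb hj'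
    have heq : c + d = Finsupp.single a 1 := by
      refine sub_eq_zero.mp (linearIndepOn_iff.mp hli _ ?_ ?_)
      · rw [Finsupp.mem_supported]
        refine (Finset.coe_subset.mpr Finsupp.support_sub).trans ?_
        rw [Finset.coe_union, Set.union_subset_iff]
        exact ⟨(Finset.coe_subset.mpr Finsupp.support_add).trans (by simp [hc, hd]),
          (Finset.coe_subset.mpr Finsupp.support_single_subset).trans (by simpa using ha)⟩
      · rw [map_sub, map_add, hce, hde, Finsupp.linearCombination_single, one_smul, h, sub_self]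
    have key : ∀ b, b ≠ a → c b = 0 ∧ d b = 0 := fun b hb => by
      have e := congrArg (fun e => e b) heq
      have := hc' b
      have := hd' b
      simp only [Finsupp.coe_add, Pi.add_apply, Finsupp.single_eq_of_ne hb] at e
      lia
    have ea := congrArg (fun e => e a) heq
    have := hc' a
    have := hd' a
    simp only [Finsupp.coe_add, Pi.add_apply, Finsupp.single_eq_same] at ea
    rcases (by lia : c a = 0 ∨ d a = 0) with h0 | h0
    · refine P.ne_zero i ?_
      rw [← hce, show c = 0 from Finsupp.ext fun b => by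
        by_cases hb : b = a
        · rw [hb]; exact h0
        · exact (key b hb).1, map_zero]
    · refine P.ne_zero j ?_
      rw [← hde, show d = 0 from Finsupp.ext fun b => by
        by_cases hb : b = a
        · rw [hb]; exact h0
        · exact (key b hb).2, map_zero]
  refine ⟨_, hsimp, hΔ', Set.ext fun k => ⟨fun hk => ?_, fun hk => ?_⟩⟩
  · rcases hgen k hk with h | h
    · exact natSpan_le_span P _ _ h
    · change P.root k ∈ Submodule.span ℤ (P.root '' Δ')
      exact neg_mem_iff.mp (natSpan_le_span P _ _ h)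
  · exact hsat k ⟨1, one_pos, by
      rw [one_nsmul]; exact Submodule.span_mono (Set.image_mono hΔ'R) hk⟩

end Groth.Agent.S5461
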