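import Groth.Statements.S5462
import Groth.Agent.Lib.RootDatum.Weyl

set_option autoImplicit false
open RootPairing
open scoped Pointwise
open RootD Groth.Agent.Lib.RootDatum Groth.Agent.Lib.RootDatum.Basic Groth.Agent.Lib.RootDatum.PosSys

namespace Groth.Agent.S5462

/-- For Δ' contained in a system of simple roots Δ, the subgroup of the Weyl group generated by the
reflections in Δ' preserves the set of positive roots not lying in the span of Δ'. -/
theorem result {ι M N : Type*} [AddCommGroup M] [AddCommGroup N]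
    (P : RootPairing ι ℤ M N) [Finite ι] (Δ Δ' : Set ι) (hΔ : RootD.IsSimpleSys P Δ) (hsub : Δ' ⊆ Δ)
    (g : P.Aut) (hg : g ∈ Subgroup.closure ((fun i : ι => Equiv.reflection P i) '' Δ'))
    (k : ι) (hk : k ∈ RootD.posOf P Δ) (hk' : k ∉ RootD.inSpan P Δ') :
    g • k ∈ RootD.posOf P Δ ∧ g • k ∉ RootD.inSpan P Δ' := by
  have step : ∀ a ∈ Δ', ∀ k, k ∈ RootD.posOf P Δ → k ∉ RootD.inSpan P Δ' →
      P.reflectionPerm a k ∈ RootD.posOf P Δ ∧ P.reflectionPerm a k ∉ RootD.inSpan P Δ' := by
    intro a ha k hk hk'
    have haS : P.root a ∈ Submodule.span ℤ (P.root '' Δ') := Submodule.subset_span ⟨a, ha, rfl⟩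
    refine ⟨reflectionPerm_mem_posOf hΔ (hsub ha) hk (fun e => hk' (by subst e; exact haS))
      (fun e => hk' ?_), fun h => hk' ?_⟩
    · change P.root k ∈ Submodule.span ℤ (P.root '' Δ')
      rw [e]; exact nsmul_mem haS 2
    · change P.root k ∈ Submodule.span ℤ (P.root '' Δ')
      have : P.root k = P.root (P.reflectionPerm a k) + pz P k a • P.root a := by
        rw [root_reflectionPerm_eq]; abel
      rw [this]
      exact add_mem h (Submodule.smul_mem _ _ haS)
  obtain ⟨l, hl, rfl⟩ := Weyl.exists_word P (T := Δ') hg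
  clear hg
  induction l with
  | nil => simpa [Weyl.wordProd] using And.intro hk hk'
  | cons a t ih =>
    obtain ⟨h1, h2⟩ := ih (fun b hb => hl b (by simp [hb]))
    have := step a (hl a (by simp)) _ h1 h2
    simp only [Weyl.wordProd, List.map_cons, List.prod_cons, mul_smul]
    exact this

end Groth.Agent.S5462
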