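import Groth.Statements.S5463
import Groth.Agent.Lib.RootDatum.Sub

set_option autoImplicit false
open RootPairing
open scoped Pointwise
open RootD Groth.Agent.Lib.RootDatum Groth.Agent.Lib.RootDatum.Basic Groth.Agent.Lib.RootDatum.PosSys

namespace Groth.Agent.S5463

/-- An element w of the Weyl group belongs to the subgroup generated by the reflections in Δ' ⊆ Δ (Δ a
system of simple roots) if and only if w(α) - α lies in the rational span of Δ' for every root α. -/
theorem result {ι M N : Type*} [AddCommGroup M] [AddCommGroup N]
    (P : RootPairing ι ℤ M N) [Finite ι] (Δ Δ' : Set ι) (hΔ : RootD.IsSimpleSys P Δ)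
    (hsub : Δ' ⊆ Δ) (g : P.Aut) (hg : g ∈ P.weylGroup) :
    g ∈ Subgroup.closure ((fun i : ι => Equiv.reflection P i) '' Δ') ↔
      ∀ k : ι, ∃ n : ℕ, 0 < n ∧ n • (P.root (g • k) - P.root k) ∈ Submodule.span ℤ (P.root '' Δ') := by
  constructor
  · intro h k
    exact ⟨1, one_pos, by rw [one_nsmul]; exact Weyl.smul_sub_mem_spanZ_of_genBy P h k⟩
  · intro h
    rw [← Weyl.genBy_simple hΔ] at hg
    obtain ⟨l, hl, rfl, hmin⟩ := Weyl.exists_minimal_word P hg
    clear hg
    induction l using List.reverseRecOn with
    | nil => exact one_mem _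
    | append_singleton t a ih =>
      have ha : a ∈ Δ := hl a (by simp)
      have ht : ∀ b ∈ t, b ∈ Δ := fun b hb => hl b (by simp [hb])
      have hneg := Weyl.notMem_posOf_of_minimal hΔ subset_rfl ht ha hmin
      have hneg' := (isPosSys_posOf hΔ).cover (Weyl.wordProd P (t ++ [a]) • a)
      replace hneg' := (mem_posOf_iff hΔ).mp (hneg'.resolve_left hneg) a
      rw [coeff_negIdx, Finsupp.neg_apply] at hneg'
      have haΔ' : a ∈ Δ' := by
        by_contra hna
        obtain ⟨n, hn, hmem⟩ := h a
        obtain ⟨c, hc, hce⟩ := (Finsupp.mem_span_image_iff_linearCombination ℤ).mp hmem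
        rw [Finsupp.mem_supported] at hc
        classical
        have heq : (n : ℤ) • (coeff hΔ (Weyl.wordProd P (t ++ [a]) • a) - coeff hΔ a) = c := by
          refine comb_inj hΔ ?_ (hc.trans hsub) ?_
          · refine (Finset.coe_subset.mpr (Finsupp.support_smul.trans Finsupp.support_sub)).trans ?_
            rw [Finset.coe_union, Set.union_subset_iff]
            exact ⟨coeff_support hΔ _, coeff_support hΔ _⟩
          · rw [map_zsmul, map_sub, comb_coeff, comb_coeff, hce, natCast_zsmul]
        have e := congrArg (fun e => e a) heq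
        have hc0 : c a = 0 := Finsupp.notMem_support_iff.mp fun hm => hna (hc hm)
        simp only [Finsupp.smul_apply, Finsupp.coe_sub, Pi.sub_apply, smul_eq_mul, hc0,
          coeff_self hΔ ha, Finsupp.single_eq_same] at e
        have := (mul_eq_zero.mp e).resolve_left (by exact_mod_cast hn.ne')
        lia
      have hsplit : Weyl.wordProd P (t ++ [a]) = Weyl.wordProd P t * Weyl.refl P a := by
        simp [Weyl.wordProd]
      rw [hsplit] at h hmin ⊢
      refine mul_mem (ih ht ?_ ?_) (Subgroup.subset_closure ⟨a, haΔ', rfl⟩)
      · intro k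
        obtain ⟨n, hn, hmem⟩ := h (Weyl.refl P a • k)
        refine ⟨n, hn, ?_⟩
        have e : (Weyl.wordProd P t * Weyl.refl P a) • (Weyl.refl P a • k) =
            Weyl.wordProd P t • k := by
          rw [← mul_smul, mul_assoc, reflection_mul_self, mul_one]
        rw [e] at hmem
        have : n • (P.root (Weyl.wordProd P t • k) - P.root k) =
            n • (P.root (Weyl.wordProd P t • k) - P.root (Weyl.refl P a • k)) +
            n • (-(pz P k a • P.root a)) := by
          rw [← smul_add]
          congr 1
          change _ = _ - P.root (P.reflectionPerm a k) + _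
          rw [root_reflectionPerm_eq]; abel
        rw [this]
        refine Submodule.add_mem _ hmem (nsmul_mem (neg_mem ?_) n)
        exact Submodule.smul_mem _ _ (Submodule.subset_span (Set.mem_image_of_mem _ haΔ'))
      · intro l' h1 h2
        have := hmin (l' ++ [a]) (by simpa [or_imp, forall_and, ha] using h1)
          (by simp [Weyl.wordProd] at h2 ⊢; rw [h2])
        simpa using this

end Groth.Agent.S5463
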