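import Groth.Statements.S5464
import Groth.Agent.Lib.RootDatum.Sub
import Mathlib.Data.Prod.Lex
import Mathlib.Algebra.Order.Monoid.Prod
import Mathlib.Algebra.Order.Group.PiLex

set_option autoImplicit false
open RootD

namespace Groth.Agent.S5464

open Groth.Agent.Lib.RootDatum Groth.Agent.Lib.RootDatum.Basic Groth.Agent.Lib.RootDatum.PosSys in
lemma main {ι M N : Type*} [AddCommGroup M] [AddCommGroup N]
    (P : RootPairing ι ℤ M N) [Finite ι] (i k : ι) (hα : RootD.IsIndiv P i)
    (hli : LinearIndependent ℤ ![P.root i, P.root k]) :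
    ∃ Δ : Set ι, RootD.IsSimpleSys P Δ ∧ i ∈ Δ ∧
      ∃ j ∈ Δ, ∃ a b : ℕ, P.root k = a • P.root i + b • P.root j := by
  classical
  haveI htf := isTorsionFree_weight P
  obtain ⟨m, f, fneg, fadd, fker⟩ := Sub.exists_fun_ker P ({P.root i, P.root k} : Set M)
  obtain ⟨m', g, gneg, gadd, gker⟩ := Sub.exists_fun_ker P ({P.root i} : Set M)
  have hprop : ∀ l, g l = 0 → pz P l i ≠ 0 := by
    intro l hl h0
    obtain ⟨n, hn, hmem⟩ := (gker l).mp hl
    obtain ⟨z, hz⟩ := Submodule.mem_span_singleton.mp hmem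
    have h2 := congrArg (P.coroot' i) hz
    rw [map_zsmul, map_nsmul, coroot'_root, coroot'_root, pz_self, h0, Int.cast_zero, smul_zero,
      smul_eq_mul] at h2
    have hz0 : z = 0 := (mul_eq_zero.mp h2).resolve_right (by norm_num)
    rw [hz0, zero_smul] at hz
    exact P.ne_zero l (nsmul_eq_zero_weight P hn.ne' hz.symm)
  have hgk : g k ≠ 0 := by
    intro h
    obtain ⟨n, hn, hmem⟩ := (gker k).mp h
    obtain ⟨z, hz⟩ := Submodule.mem_span_singleton.mp hmem
    have := (LinearIndependent.pair_iff.mp hli z (-(n : ℤ)) (by rw [hz, neg_smul, natCast_zsmul, add_neg_cancel])).2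
    omega
  obtain ⟨g, gneg, gadd, gker, hprop, hgk⟩ : ∃ g' : ι → Lex (Fin m' → ℤ), (∀ l, g' (negIdx P l) = -g' l) ∧
      (∀ a b c, P.root c = P.root a + P.root b → g' c = g' a + g' b) ∧
      (∀ l, g' l = 0 ↔ ∃ n : ℕ, 0 < n ∧ n • P.root l ∈ Submodule.span ℤ ({P.root i} : Set M)) ∧
      (∀ l, g' l = 0 → pz P l i ≠ 0) ∧ 0 < g' k := by
    rcases lt_or_gt_of_ne hgk with h | h
    · refine ⟨fun l => -g l, fun l => by simp only [gneg], fun a b c e => by simp only [gadd a b c e, neg_add],
        fun l => by simp only [neg_eq_zero]; exact gker l, fun l e => hprop l (neg_eq_zero.mp e),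
        neg_pos.mpr h⟩
    · exact ⟨g, gneg, gadd, gker, hprop, h⟩
  let H : ι → Lex (Fin m → ℤ) ×ₗ (Lex (Fin m' → ℤ) ×ₗ ℤ) :=
    fun l => toLex (f l, toLex (g l, pz P l i))
  have hne : ∀ l, H l ≠ 0 := by
    intro l h
    have h2 := congrArg Prod.snd (congrArg ofLex h)
    have h3 : g l = 0 := congrArg Prod.fst (congrArg ofLex h2)
    have h4 : pz P l i = 0 := congrArg Prod.snd (congrArg ofLex h2)
    exact hprop l h3 h4
  have hS := isPosSys_of_addHom P H
    (fun l => by
      simp only [H, fneg, gneg, pz_negIdx_left]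
      rfl)
    (fun a b c h => by
      simp only [H, fadd a b c h, gadd a b c h, pz_add P h i]
      rfl)
    (fun l => (lt_or_gt_of_ne (hne l)).symm)
  set S : Set ι := {l | 0 < H l}
  have hf : ∀ l ∈ S, 0 ≤ f l := fun l hl => by
    rcases Prod.Lex.lt_iff.mp hl with h | ⟨h, -⟩
    · exact (show (0 : Lex (Fin m → ℤ)) < f l from h).le
    · exact (show (0 : Lex (Fin m → ℤ)) = f l from h).le
  have hg : ∀ l ∈ S, f l = 0 → 0 ≤ g l ∧ (g l = 0 → 0 < pz P l i) := fun l hl h0 => by
    rcases Prod.Lex.lt_iff.mp hl with h | ⟨-, h⟩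
    · exact absurd (show (0 : Lex (Fin m → ℤ)) < f l from h) (by rw [h0]; exact lt_irrefl _)
    · rcases Prod.Lex.lt_iff.mp h with h | ⟨h, h'⟩
      · exact ⟨(show 0 < g l from h).le, fun e => absurd (show 0 < g l from h) (by rw [e]; exact lt_irrefl _)⟩
      · exact ⟨(show 0 = g l from h).le, fun _ => h'⟩
  have hfi : f i = 0 := (fker i).mpr ⟨1, one_pos, by
    rw [one_nsmul]; exact Submodule.subset_span (by simp)⟩
  have hfk : f k = 0 := (fker k).mpr ⟨1, one_pos, by
    rw [one_nsmul]; exact Submodule.subset_span (by simp)⟩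
  have hgi : g i = 0 := (gker i).mpr ⟨1, one_pos, by
    rw [one_nsmul]; exact Submodule.subset_span (by simp)⟩
  have hiS : i ∈ S := by
    refine Prod.Lex.lt_iff.mpr (Or.inr ⟨hfi.symm, Prod.Lex.lt_iff.mpr (Or.inr ⟨?_, ?_⟩)⟩)
    · change (0 : Lex (Fin m' → ℤ)) = g i
      rw [hgi]
    · change (0 : ℤ) < pz P i i
      rw [pz_self]; norm_num
  have hkS : k ∈ S := by
    refine Prod.Lex.lt_iff.mpr (Or.inr ⟨hfk.symm, Prod.Lex.lt_iff.mpr (Or.inl ?_)⟩)
    exact hgk
  have hisimp : i ∈ simples P S := by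
    refine ⟨hiS, ?_⟩
    rintro ⟨b, c, hb, hc, e⟩
    have hfbc : f b = 0 ∧ f c = 0 :=
      (add_eq_zero_iff_of_nonneg (hf b hb) (hf c hc)).mp (by rw [← fadd b c i e, hfi])
    have hgbc : g b = 0 ∧ g c = 0 :=
      (add_eq_zero_iff_of_nonneg (hg b hb hfbc.1).1 (hg c hc hfbc.2).1).mp
        (by rw [← gadd b c i e, hgi])
    have hb1 := (hg b hb hfbc.1).2 hgbc.1
    have hc1 := (hg c hc hfbc.2).2 hgbc.2
    have hsum := pz_add P e i
    rw [pz_self] at hsum
    have hgb : g b = 0 := hgbc.1
    obtain ⟨n, hn, hmem⟩ := (gker b).mp hgb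
    obtain ⟨z, hz⟩ := Submodule.mem_span_singleton.mp hmem
    have h2 := congrArg (P.coroot' i) hz
    rw [map_zsmul, map_nsmul, coroot'_root, coroot'_root, pz_self, show pz P b i = 1 by lia,
      smul_eq_mul, nsmul_eq_mul, Int.cast_one, mul_one] at h2
    have hn2 : (n : ℤ) = 2 * z := by rw [← h2]; simp [mul_comm]
    refine hα b ?_
    rw [← natCast_zsmul, hn2, mul_comm, mul_smul] at hz
    have hz0 : z ≠ 0 := by intro h; rw [h, mul_zero] at hn2; omega
    exact (smul_right_injective M hz0 hz).symm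
  -- the simple roots in the plane
  have hΔ := isSimpleSys_simples P hS
  let Δ₀ : Set ι := {a | a ∈ simples P S ∧ f a = 0}
  have hspan : P.root k ∈ RootD.natSpan P Δ₀ := Sub.face P hS f fadd hf hkS hfk
  have hle : ∀ a ∈ Δ₀, ∀ b ∈ Δ₀, a ≠ i → b ≠ i → a = b := by
    intro a ha b hb hai hbi
    by_contra hab
    have hi0 : i ∈ Δ₀ := ⟨hisimp, hfi⟩
    let v : Fin 3 → ι := ![i, a, b]
    have hv : Function.Injective v := by
      intro x y
      fin_cases x <;> fin_cases y <;> simp [v, eq_comm, hai, hbi, hab, Ne.symm hai, Ne.symm hbi, Ne.symm hab]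
    have hv0 : ∀ x, v x ∈ Δ₀ := by intro x; fin_cases x <;> simp [v, hi0, ha, hb]
    have hlv : LinearIndependent ℤ (fun x => P.root (v x)) := by
      have hh : LinearIndependent ℤ fun x : simples P S => P.root x := hΔ.linInd.restrict_scalars' ℤ
      exact hh.comp (fun x => (⟨v x, (hv0 x).1⟩ : simples P S)) fun x y h => hv (congrArg Subtype.val h)
    choose n hn hmem using fun x => (fker (v x)).mp (hv0 x).2
    let T := Submodule.span ℤ (Set.range ![P.root i, P.root k])
    have hT : ({P.root i, P.root k} : Set M) = Set.range ![P.root i, P.root k] := by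
      ext x; simp [eq_comm, or_comm]
    have hlw : LinearIndependent ℤ (fun x : Fin 3 => (⟨n x • P.root (v x), by
        show _ ∈ Submodule.span ℤ (Set.range ![P.root i, P.root k])
        rw [← hT]; exact hmem x⟩ : T)) := by
      refine LinearIndependent.of_comp T.subtype ?_
      rw [Fintype.linearIndependent_iff]
      intro c hc x
      have h0 := Fintype.linearIndependent_iff.mp hlv (fun y => c y * n y) (by
        rw [← hc]
        refine Finset.sum_congr rfl fun y _ => ?_
        rw [mul_smul, natCast_zsmul]; rfl) x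
      exact (mul_eq_zero.mp h0).resolve_right (by exact_mod_cast (hn x).ne')
    haveI : Module.Finite ℤ T := Module.Finite.span_of_finite ℤ (Set.finite_range _)
    have h3 := hlw.fintype_card_le_finrank
    have h2 : Module.finrank ℤ T ≤ 2 := by
      simpa [T, Set.finrank] using finrank_range_le_card (R := ℤ) ![P.root i, P.root k]
    simp at h3
    omega
  obtain ⟨c, hc, hnn, hck⟩ := exists_comb (P := P) hspan
  obtain ⟨j, hj, hji⟩ : ∃ j ∈ c.support, j ≠ i := by
    by_contra! h
    have hsub : c.support ⊆ {i} := fun x hx => Finset.mem_singleton.mpr (h x hx)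
    rw [Finsupp.linearCombination_apply, Finsupp.sum_of_support_subset _ hsub _
      (fun x _ => zero_smul ℤ (P.root x)), Finset.sum_singleton] at hck
    have := (LinearIndependent.pair_iff.mp hli (c i) (-1) (by rw [hck, neg_one_smul, add_neg_cancel])).2
    exact absurd this (by norm_num)
  refine ⟨simples P S, hΔ, hisimp, j, (hc hj).1, (c i).toNat, (c j).toNat, ?_⟩
  have hsub : c.support ⊆ {i, j} := fun x hx => by
    by_cases hxi : x = i
    · simp [hxi]
    · simp [hle x (hc hx) j (hc hj) hxi hji]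
  rw [← hck, Finsupp.linearCombination_apply, Finsupp.sum_of_support_subset _ hsub _
    (fun x _ => zero_smul ℤ (P.root x)), Finset.sum_pair (Ne.symm hji)]
  rw [← natCast_zsmul, ← natCast_zsmul, Int.toNat_of_nonneg (hnn i), Int.toNat_of_nonneg (hnn j)]

/-- Given an indivisible root α and a root γ not proportional to it, there is a system of simple roots
containing α and a simple root β of it with γ = aα + bβ, a, b ∈ ℕ. -/
theorem result {ι M N : Type*} [AddCommGroup M] [AddCommGroup N]
    (P : RootPairing ι ℤ M N) [Finite ι] (i k : ι) (hα : RootD.IsIndiv P i)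
    (hli : LinearIndependent ℤ ![P.root i, P.root k]) :
    ∃ Δ : Set ι, RootD.IsSimpleSys P Δ ∧ i ∈ Δ ∧
      ∃ j ∈ Δ, ∃ a b : ℕ, P.root k = a • P.root i + b • P.root j := by
  exact main P i k hα hli

end Groth.Agent.S5464
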