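import Groth.Statements.S5465
import Groth.Agent.Lib.RootDatum.Sub
import Groth.Agent.Lib.RootDatum.PosSys

set_option autoImplicit false
open RootD Groth.Agent.Lib.RootDatum Groth.Agent.Lib.RootDatum.Basic Groth.Agent.Lib.RootDatum.PosSys

namespace Groth.Agent.S5465

/-- A map from the roots to an abelian group that is odd and additive on pairs of roots whose sum is a
root extends uniquely to a homomorphism on the lattice generated by the roots. -/
theorem result {ι M N : Type*} [AddCommGroup M] [AddCommGroup N]
    (P : RootPairing ι ℤ M N) [Finite ι] {G : Type*} [AddCommGroup G] (f : ι → G)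
    (hneg : ∀ i : ι, f (P.reflectionPerm i i) = -f i)
    (hadd : ∀ i j k : ι, P.root k = P.root i + P.root j → f k = f i + f j) :
    ∃! φ : Submodule.span ℤ (Set.range P.root) →+ G,
      ∀ i : ι, φ ⟨P.root i, Submodule.subset_span (Set.mem_range_self i)⟩ = f i := by
  obtain ⟨S, hS⟩ := exists_isPosSys P
  have hΔ := isSimpleSys_simples P hS
  have hspan : ∀ x : Submodule.span ℤ (Set.range P.root), ∃ c : ι →₀ ℤ,
      ↑c.support ⊆ simples P S ∧ Finsupp.linearCombination ℤ P.root c = (x : M) := by
    intro x
    have : (x : M) ∈ Submodule.span ℤ (P.root '' simples P S) := by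
      refine Submodule.span_le.mpr ?_ x.2
      rintro _ ⟨k, rfl⟩
      exact (Finsupp.mem_span_image_iff_linearCombination ℤ).mpr
        ⟨_, (Finsupp.mem_supported ℤ _).mpr (coeff_support hΔ k), comb_coeff hΔ k⟩
    obtain ⟨c, hc, he⟩ := (Finsupp.mem_span_image_iff_linearCombination ℤ).mp this
    exact ⟨c, (Finsupp.mem_supported ℤ c).mp hc, he⟩
  choose c hc hce using hspan
  classical
  let φ : Submodule.span ℤ (Set.range P.root) →+ G :=
    AddMonoidHom.mk' (fun x => Finsupp.linearCombination ℤ f (c x)) fun x y => by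
      rw [← map_add]
      congr 1
      refine comb_inj hΔ (hc _) ((Finset.coe_subset.mpr Finsupp.support_add).trans
        (by simp [hc x, hc y])) ?_
      rw [map_add, hce, hce, hce]; rfl
  have hφ : ∀ i, φ ⟨P.root i, Submodule.subset_span (Set.mem_range_self i)⟩ = f i := by
    intro i
    have e : c ⟨P.root i, Submodule.subset_span (Set.mem_range_self i)⟩ = coeff hΔ i :=
      (coeff_eq hΔ (hc _) (hce _)).symm
    change Finsupp.linearCombination ℤ f _ = f i
    rw [e]
    have key : ∀ i ∈ RootD.posOf P (simples P S),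
        Finsupp.linearCombination ℤ f (coeff hΔ i) = f i := fun i hi =>
      natSpan_induction P (p := fun i => Finsupp.linearCombination ℤ f (coeff hΔ i) = f i)
        (fun a ha => by simp [coeff_self hΔ ha])
        (fun k j a ha he _ ih => by
          rw [coeff_add hΔ he, map_add, ih, coeff_self hΔ ha, hadd j a k he]; simp) hi
    rcases (isPosSys_posOf hΔ).cover i with h | h
    · exact key i h
    · have := key _ h
      rw [coeff_negIdx, map_neg, hneg, neg_inj] at this
      exact this
  refine ⟨φ, hφ, fun ψ hψ => AddMonoidHom.ext fun x => ?_⟩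
  obtain ⟨x, hx⟩ := x
  induction hx using Submodule.span_induction with
  | mem z hz => obtain ⟨i, rfl⟩ := hz; rw [hψ i, hφ i]
  | zero => exact (map_zero ψ).trans (map_zero φ).symm
  | add a b ha hb h1 h2 =>
    exact (map_add ψ ⟨a, ha⟩ ⟨b, hb⟩).trans (((congrArg₂ (· + ·) h1 h2)).trans
      (map_add φ ⟨a, ha⟩ ⟨b, hb⟩).symm)
  | smul n a ha h1 =>
    exact (map_zsmul ψ n ⟨a, ha⟩).trans ((congrArg (n • ·) h1).trans (map_zsmul φ n ⟨a, ha⟩).symm)

end Groth.Agent.S5465
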