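import Groth.Statements.S5467
import Groth.Agent.Lib.RootDatum.Weyl

set_option autoImplicit false
open RootD Groth.Agent.Lib.RootDatum Groth.Agent.Lib.RootDatum.Basic Groth.Agent.Lib.RootDatum.PosSys

namespace Groth.Agent.S5467

/-- For an indivisible positive non-simple root α there is a simple root β with (β^v, α) > 0 such that
s_β(α) is positive; its order relative to Δ is then smaller than that of α by (β^v, α). -/
theorem result {ι M N : Type*} [AddCommGroup M] [AddCommGroup N]
    (P : RootPairing ι ℤ M N) [Finite ι] (Δ : Set ι) (hΔ : RootD.IsSimpleSys P Δ)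
    (k : ι) (hk : k ∈ RootD.posOf P Δ) (hkΔ : k ∉ Δ) (hind : RootD.IsIndiv P k) :
    ∃ i ∈ Δ, 0 < P.pairing k i ∧ P.reflectionPerm i k ∈ RootD.posOf P Δ := by
  obtain ⟨l, hl, hs⟩ := (mem_natSpan_iff_list P).mp (show P.root k ∈ RootD.natSpan P Δ from hk)
  obtain ⟨a, ha, hp⟩ := exists_pos_of_sum P (k := k) one_pos (by simpa using hs)
  refine ⟨a, hl a ha, ?_, reflectionPerm_mem_posOf hΔ (hl a ha) hk
    (fun h => hkΔ (h ▸ hl a ha)) ((Weyl.isIndiv_iff P k).mp hind a)⟩
  rw [← cast_pz P k a]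
  exact_mod_cast pz_pos_symm P hp

end Groth.Agent.S5467
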