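import Groth.Statements.S5468
import Groth.Agent.Lib.RootDatum.Weyl
import Groth.Agent.Lib.RootDatum.Sub

set_option autoImplicit false
open RootD Groth.Agent.Lib.RootDatum Groth.Agent.Lib.RootDatum.Basic Groth.Agent.Lib.RootDatum.PosSys

namespace Groth.Agent.S5468

/-- Two roots whose reflections are distinct and commute are orthogonal. -/
theorem result {ι M N : Type*} [AddCommGroup M] [AddCommGroup N]
    (P : RootPairing ι ℤ M N) [Finite ι] (i j : ι)
    (hne : P.reflection i ≠ P.reflection j) (hc : Commute (P.reflection i) (P.reflection j)) :
    P.IsOrthogonal i j := by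
  rw [isOrthogonal_iff]
  by_contra hp
  have hq : pz P j i ≠ 0 := fun h => hp (pz_eq_zero_symm P h)
  let j' := P.reflectionPerm i j
  have hconj : Weyl.refl P j' = Weyl.refl P j := by
    have := conj_reflection P (Weyl.refl P i) j
    rw [Weyl.refl_inv] at this
    change Weyl.refl P (Weyl.refl P i • j) = _
    refine this.symm.trans (aut_ext P fun x => ?_)
    rw [mul_smul, mul_smul]
    change P.reflection i (P.reflection j (P.reflection i x)) = P.reflection j x
    have hcx := LinearEquiv.congr_fun hc.eq (P.reflection i x)
    simp only [LinearEquiv.mul_apply] at hcx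
    rw [hcx, P.reflection_same]
  have h := congrArg (fun g : P.Aut => g • P.root j) hconj
  simp only [reflection_smul_weight, coroot'_root, pz_self, zsmul_eq_mul] at h
  change P.root j - _ • P.root j' = _ at h
  rw [root_reflectionPerm_eq] at h
  have h2 : (pz P j j' - 2) • P.root j = (pz P j j' * pz P j i) • P.root i := by
    simp only [Int.cast_id] at h
    linear_combination (norm := module) (-1 : ℤ) • h
  by_cases hli : LinearIndependent ℤ ![P.root i, P.root j]
  · have h3 := LinearIndependent.pair_iff.mp hli (pz P j j' * pz P j i) (-(pz P j j' - 2))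
      (by rw [neg_smul, ← h2]; abel)
    have h4 : pz P j j' = 2 := by lia
    rw [h4] at h3
    exact hq (by simpa using h3.1)
  · rw [LinearIndependent.pair_iff] at hli
    push Not at hli
    obtain ⟨s, t, hst, hne'⟩ := hli
    have ht : t ≠ 0 := fun h0 => by
      rw [h0, zero_smul, add_zero] at hst
      exact hne' (by_contra fun hs => P.ne_zero i (zsmul_eq_zero_weight P hs hst)) h0
    have hst' : t • P.root j = (-s) • P.root i := by
      rw [neg_smul, eq_neg_iff_add_eq_zero, add_comm]; exact hst
    obtain ⟨e1, e2⟩ := pz_mul_pz_of_smul_eq P ht hst'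
    haveI := Fintype.ofFinite ι
    have hperm : ∀ k, P.root (P.reflectionPerm i k) = P.root (P.reflectionPerm j k) := by
      intro k
      rw [root_reflectionPerm_eq, root_reflectionPerm_eq, sub_right_inj, ← sub_eq_zero]
      have hlin : ∀ l, t * bz P l j = -s * bz P l i := fun l => by
        simp only [bz, Finset.mul_sum]
        refine Finset.sum_congr rfl fun x _ => ?_
        have h' := congrArg (P.coroot' x) hst'
        simp only [map_zsmul, coroot'_root, Int.cast_id, smul_eq_mul] at h'
        linear_combination (pz P l x) * h'
      have hjj : t * t * bz P j j = s * s * bz P i i := by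
        linear_combination t * hlin j - s * hlin i + t * s * bz_comm P i j
      have hkk := hlin k
      refine zsmul_eq_zero_weight P (n := t * t * bz P i i * bz P j j)
        (mul_ne_zero (mul_ne_zero (mul_ne_zero ht ht) (bz_self_pos P i).ne') (bz_self_pos P j).ne') ?_
      have e : t * t * bz P i i * bz P j j * pz P k i = 2 * bz P k i * (s * s * bz P i i) := by
        rw [← hjj, two_mul_bz]; ring
      have e' : t * bz P i i * bz P j j * pz P k j = -(s * (2 * bz P k i)) * bz P i i := by
        linear_combination (-(t * bz P i i)) * two_mul_bz P k j + (2 * bz P i i) * hkk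
      have hj : (t * t * bz P i i * bz P j j * pz P k j) • P.root j =
          (-(s * (2 * bz P k i)) * bz P i i) • (t • P.root j) := by
        rw [← e', ← mul_smul]; congr 1; ring
      rw [smul_sub, ← mul_smul, ← mul_smul, e, hj, hst']
      module
    apply hne
    have hsq : Weyl.refl P j * Weyl.refl P j = 1 := reflection_mul_self P j
    have h1 : Weyl.refl P i * Weyl.refl P j = 1 := by
      refine Weyl.eq_one_of_fix P (fun k => ?_) fun m => ⟨1, one_pos, ?_⟩
      · rw [mul_smul]
        refine P.root.injective ?_
        change P.root (P.reflectionPerm i (P.reflectionPerm j k)) = _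
        rw [hperm, P.reflectionPerm_self]
      · rw [one_nsmul]
        exact Weyl.smul_sub_mem_span P
          (mul_mem (P.reflection_mem_weylGroup i) (P.reflection_mem_weylGroup j)) m
    refine LinearEquiv.ext fun x => ?_
    exact congrArg (fun g : P.Aut => g • x) (mul_right_cancel (h1.trans hsq.symm))

end Groth.Agent.S5468
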