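import Groth.Statements.S5469
import Groth.Agent.Lib.RootDatum.Sub
import Groth.Agent.Lib.RootDatum.Weyl

set_option autoImplicit false
open RootPairing
open scoped Pointwise
open RootD Groth.Agent.Lib.RootDatum Groth.Agent.Lib.RootDatum.Basic Groth.Agent.Lib.RootDatum.PosSys

namespace Groth.Agent.S5469

/-- Two non-orthogonal roots of equal length (for the canonical form ℓ(x) = Σ_{u ∈ R^v} (u, x)²) are
conjugate under the Weyl group. -/
theorem result {ι M N : Type*} [AddCommGroup M] [AddCommGroup N]
    (P : RootPairing ι ℤ M N) [Finite ι] [Fintype ι] (i j : ι) (hno : ¬ P.IsOrthogonal i j)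
    (hl : P.RootForm (P.root i) (P.root i) = P.RootForm (P.root j) (P.root j)) :
    ∃ g : P.Aut, g ∈ P.weylGroup ∧ g • i = j := by
  have hbz : bz P i i = bz P j j := by
    apply Int.cast_injective (α := ℤ)
    rw [cast_bz, cast_bz]; exact hl
  have hp : pz P i j ≠ 0 := fun h => hno ((isOrthogonal_iff P).mpr h)
  have hsym : pz P i j = pz P j i :=
    mul_right_cancel₀ (bz_self_pos P j).ne' (by rw [pz_mul_bz_comm, hbz])
  have hmem := P.pairingIn_pairingIn_mem_set_of_isCrystallographic i j
  by_cases hij : i = j
  · exact ⟨1, one_mem _, by rw [one_smul, hij]⟩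
  by_cases hij' : negIdx P i = j
  · exact ⟨_, P.reflection_mem_weylGroup i, hij'⟩
  by_cases hpos : pz P i j = 1
  · refine ⟨_, mul_mem (mul_mem (P.reflection_mem_weylGroup j) (P.reflection_mem_weylGroup i))
      (P.reflection_mem_weylGroup j), ?_⟩
    rw [mul_smul, mul_smul, reflection_smul_idx P j i]
    have hk : P.root (P.reflectionPerm j i) = P.root i - P.root j := by
      rw [root_reflectionPerm_eq, hpos, one_smul]
    have hki : pz P (P.reflectionPerm j i) i = 1 := by
      have := pz_add P (show P.root i = P.root (P.reflectionPerm j i) + P.root j by rw [hk]; abel) i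
      rw [pz_self, ← hsym, hpos] at this
      lia
    have h2 : P.reflectionPerm i (P.reflectionPerm j i) = negIdx P j := P.root.injective (by
      rw [root_reflectionPerm_eq, hki, one_smul, hk, root_negIdx]; abel)
    change P.reflectionPerm j (P.reflectionPerm i (P.reflectionPerm j i)) = j
    rw [h2]
    exact P.reflectionPerm_self j j
  by_cases hneg : pz P i j = -1
  · refine ⟨_, mul_mem (P.reflection_mem_weylGroup i) (P.reflection_mem_weylGroup j), ?_⟩
    rw [mul_smul, reflection_smul_idx P j i]
    have hk : P.root (P.reflectionPerm j i) = P.root i + P.root j := by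
      rw [root_reflectionPerm_eq, hneg]; module
    refine P.root.injective ?_
    rw [reflection_smul_idx, root_reflectionPerm_eq, pz_add P hk, pz_self, ← hsym, hneg, hk]
    module
  exfalso
  change (pz P i j, pz P j i) ∈ _ at hmem
  rw [← hsym] at hmem
  simp only [Set.mem_insert_iff, Set.mem_singleton_iff, Prod.mk.injEq] at hmem
  have h2 : pz P i j = 2 ∨ pz P i j = -2 := by lia
  haveI := isTorsionFree_weight P
  haveI := isTorsionFree_coweight P
  rcases h2 with h2 | h2
  · exact hij ((P.pairingIn_two_two_iff ℤ i j).mp ⟨h2, hsym.symm.trans h2⟩)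
  · exact hij' ((negIdx_eq_iff P).mpr (by
      rw [(P.pairingIn_neg_two_neg_two_iff ℤ i j).mp ⟨h2, hsym.symm.trans h2⟩, neg_neg]))

end Groth.Agent.S5469
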