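import Groth.Statements.S5471
import Groth.Agent.Lib.RootDatum.Length

set_option autoImplicit false
open RootPairing
open scoped Pointwise
open RootD Groth.Agent.Lib.RootDatum Groth.Agent.Lib.RootDatum.Basic Groth.Agent.Lib.RootDatum.PosSys

namespace Groth.Agent.S5471

/-- In a reduced irreducible root datum the ratios of squared root lengths to the minimal one form one
of the sets {1}, {1, 2}, {1, 3}. -/
theorem result {ι M N : Type*} [AddCommGroup M] [AddCommGroup N]
    (P : RootPairing ι ℤ M N) [Finite ι] [Fintype ι] [Nonempty ι] [P.IsReduced]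
    (hirr : ∀ R' : Set ι, RootD.IsClosedSub P R' → RootD.IsSymmSub P R' → RootD.IsClosedSub P R'ᶜ →
      RootD.IsSymmSub P R'ᶜ → R' = ∅ ∨ R' = Set.univ)
    (i₀ : ι) (hmin : ∀ i : ι, P.RootForm (P.root i₀) (P.root i₀) ≤ P.RootForm (P.root i) (P.root i)) :
    (∀ i : ι, P.RootForm (P.root i) (P.root i) = P.RootForm (P.root i₀) (P.root i₀) ∨
        P.RootForm (P.root i) (P.root i) = 2 * P.RootForm (P.root i₀) (P.root i₀) ∨
        P.RootForm (P.root i) (P.root i) = 3 * P.RootForm (P.root i₀) (P.root i₀)) ∧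
      ¬ ((∃ i : ι, P.RootForm (P.root i) (P.root i) = 2 * P.RootForm (P.root i₀) (P.root i₀)) ∧
          ∃ j : ι, P.RootForm (P.root j) (P.root j) = 3 * P.RootForm (P.root i₀) (P.root i₀)) := by
  have hcon := Sub.connected_of_irreducible P hirr
  haveI := isAddTorsionFree_weight P
  have hno4 : ∀ a b : ι, ¬ (pz P a b = 4 ∧ pz P b a = 1 ∨ pz P a b = -4 ∧ pz P b a = -1) := by
    intro a b h
    rcases Length.root_double_of_four P h with e | e
    · exact P.nsmul_notMem_range_root (n := 2) ⟨a, e⟩
    · exact P.nsmul_notMem_range_root (n := 2)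
        (show (2 : ℕ) • P.root b ∈ Set.range P.root from ⟨negIdx P a, by rw [root_negIdx, e, neg_neg]⟩)
  have hbz : ∀ a : ι, P.RootForm (P.root a) (P.root a) = bz P a a := fun a => by rw [← cast_bz]; rfl
  simp only [hbz] at hmin ⊢
  have step : ∀ a b : ι, bz P a a ≤ bz P b b →
      bz P b b = bz P a a ∨ bz P b b = 2 * bz P a a ∨ bz P b b = 3 * bz P a a := by
    intro a b hle
    obtain ⟨g, -, hga⟩ := Length.exists_conj_nonOrth P (hcon a b)
    have hba : pz P b (g • a) ≠ 0 := fun e => hga (pz_eq_zero_symm P e)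
    have e := Length.bz_smul P g a a
    rcases Length.ratio P hba (by rw [e]; exact hle) with h | h | h | ⟨-, h⟩
    · left; rw [← e]; exact h
    · right; left; rw [← e]; exact h
    · right; right; rw [← e]; exact h
    · exact (hno4 _ _ h).elim
  refine ⟨fun i => step i₀ i (hmin i), fun ⟨⟨i, hi⟩, ⟨j, hj⟩⟩ => ?_⟩
  have := bz_self_pos P i₀
  rcases step i j (by lia) with h | h | h <;> lia

end Groth.Agent.S5471
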