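import Groth.Statements.S5472
import Groth.Agent.Lib.RootDatum.Weyl

set_option autoImplicit false
open RootPairing
open scoped Pointwise
open RootD

namespace Groth.Agent.S5472

open Groth.Agent.Lib.RootDatum Groth.Agent.Lib.RootDatum.Basic Groth.Agent.Lib.RootDatum.PosSys in
lemma main {ι M N : Type*} [AddCommGroup M] [AddCommGroup N]
    (P : RootPairing ι ℤ M N) [Finite ι] (Δ : Set ι) (hΔ : RootD.IsSimpleSys P Δ)
    (k i j : ι) (hi : i ∈ Δ) (hj : j ∈ Δ)
    (hα : 0 < P.pairing k i) (hβ : 0 ≤ P.pairing k j)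
    (g : P.Aut) (hg : g ∈ Subgroup.closure {RootPairing.Equiv.reflection P i, RootPairing.Equiv.reflection P j})
    (c : ι →₀ ℤ) (hc : ↑c.support ⊆ Δ)
    (hck : Finsupp.linearCombination ℤ P.root c = P.root k - P.root (g • k)) :
    0 ≤ c.sum (fun _ a => a) ∧ (g ≠ 1 → g ≠ RootPairing.Equiv.reflection P j → 0 < c.sum (fun _ a => a)) := by
  classical
  have hg' : g ∈ Weyl.genBy P ({i, j} : Set ι) := by
    unfold Weyl.genBy
    rw [Set.image_pair]
    exact hg
  have hsub : ({i, j} : Set ι) ⊆ Δ := Set.insert_subset hi (Set.singleton_subset_iff.mpr hj)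
  obtain ⟨l, hl, hlg, hmin⟩ := Weyl.exists_minimal_word P hg'
  obtain ⟨L, hL1, hL2, hL3⟩ := Weyl.exists_sub_smul_eq hΔ hsub l hl (fun l' h1 h2 => hmin l' h1 (h2.trans hlg))
  have hpz : ∀ a, P.coroot' a (P.root k) = pz P k a := fun a => by rw [coroot'_root]; rfl
  have hnn : ∀ a ∈ ({i, j} : Set ι), 0 ≤ pz P k a := by
    intro a ha
    have e : ∀ a, (pz P k a : ℤ) = P.pairing k a := fun a => cast_pz P k a
    rcases ha with rfl | ha
    · rw [e]; exact hα.le
    · rw [Set.mem_singleton_iff.mp ha, e]; exact hβ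
  let c' : ι →₀ ℤ := (L.map fun p => pz P k p.1 • coeff hΔ p.2).sum
  have hc' : c = c' := by
    refine comb_inj hΔ hc ?_ ?_
    · have : c' ∈ Finsupp.supported ℤ ℤ Δ := list_sum_mem fun x hx => by
        obtain ⟨p, -, rfl⟩ := List.mem_map.mp hx
        exact Submodule.smul_mem _ _ (coeff_support hΔ _)
      exact this
    · rw [hck, map_list_sum, List.map_map, root_smul, ← hlg, hL3 (P.root k)]
      congr 1
      exact List.map_congr_left fun p _ => by
        simp only [Function.comp_apply, map_zsmul, comb_coeff, hpz]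
  let σ : (ι →₀ ℤ) →+ ℤ := Finsupp.liftAddHom fun _ => AddMonoidHom.id ℤ
  have hσ : ∀ x, σ x = x.sum (fun _ a => a) := fun x => rfl
  rw [hc', ← hσ, map_list_sum, List.map_map]
  have hterm : ∀ p ∈ L, 0 ≤ σ (pz P k p.1 • coeff hΔ p.2) := by
    intro p hp
    rw [map_zsmul, hσ, smul_eq_mul]
    refine mul_nonneg (hnn _ (hl _ (hL1 ▸ List.mem_map.mpr ⟨p, hp, rfl⟩))) ?_
    exact (ht_pos hΔ (hL2 p hp).1).le
  refine ⟨List.sum_nonneg fun x hx => ?_, fun h1 hj' => ?_⟩
  · obtain ⟨p, hp, rfl⟩ := List.mem_map.mp hx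
    exact hterm p hp
  · have hmem : i ∈ l := by
      by_contra hni
      have hall : ∀ a ∈ l, a = j := fun a ha =>
        ((hl a ha).resolve_left fun e => hni (e ▸ ha))
      match l, hall, hlg, hmin with
      | [], _, hlg, _ => exact h1 (by rw [← hlg]; rfl)
      | [a], hall, hlg, _ =>
        refine hj' ?_
        rw [← hlg, hall a (by simp)]
        simp [Weyl.wordProd]
      | a :: b :: t, hall, hlg, hmin =>
        have := hmin t (fun x hx => by rw [hall x (by simp [hx])]; right; rfl) (by
          rw [← hlg, hall a (by simp), hall b (by simp)]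
          simp only [Weyl.wordProd, List.map_cons, List.prod_cons, ← mul_assoc, reflection_mul_self,
            one_mul])
        simp at this
    obtain ⟨p, hp, hpi⟩ := List.mem_map.mp (hL1.symm ▸ hmem)
    refine lt_of_lt_of_le ?_ (List.single_le_sum (fun x hx => ?_) _ (List.mem_map.mpr ⟨p, hp, rfl⟩))
    · rw [Function.comp_apply, map_zsmul, hσ, smul_eq_mul, hpi]
      refine mul_pos ?_ (ht_pos hΔ (hL2 p hp).1)
      rw [show (pz P k i : ℤ) = P.pairing k i from cast_pz P k i]
      exact hα
    · obtain ⟨q, hq, rfl⟩ := List.mem_map.mp hx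
      exact hterm q hq

/-- Let Δ be a system of simple roots (root-only sense), γ a positive root and α, β simple roots with
(γ, α^v) > 0 and (γ, β^v) ≥ 0 (equivalently: the order of s_α(γ) along Δ is smaller than that of γ,
and the order of s_β(γ) is at most that of γ). Then for every w in the group generated by s_α and
s_β the order of w(γ) along Δ is at most that of γ, and strictly smaller unless w ∈ {1, s_β}. The
order is the sum of the coefficients along Δ; the conclusion is stated for the coefficient vector c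
of γ - w(γ) along Δ: its coefficient sum is ≥ 0, and > 0 unless w = 1 or w = s_β. -/
theorem result {ι M N : Type*} [AddCommGroup M] [AddCommGroup N]
    (P : RootPairing ι ℤ M N) [Finite ι] (Δ : Set ι) (hΔ : RootD.IsSimpleSys P Δ)
    (k i j : ι) (hk : k ∈ RootD.posOf P Δ) (hi : i ∈ Δ) (hj : j ∈ Δ)
    (hα : 0 < P.pairing k i) (hβ : 0 ≤ P.pairing k j)
    (g : P.Aut) (hg : g ∈ Subgroup.closure {Equiv.reflection P i, Equiv.reflection P j})
    (c : ι →₀ ℤ) (hc : ↑c.support ⊆ Δ)
    (hck : Finsupp.linearCombination ℤ P.root c = P.root k - P.root (g • k)) :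
    0 ≤ c.sum (fun _ a => a) ∧ (g ≠ 1 → g ≠ Equiv.reflection P j → 0 < c.sum (fun _ a => a)) := by
  exact main P Δ hΔ k i j hi hj hα hβ g hg c hc hck

end Groth.Agent.S5472
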