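import Groth.Statements.S5473
import Groth.Agent.Lib.RootDatum.Basic
import Mathlib.LinearAlgebra.RootSystem.Basic

set_option autoImplicit false
open RootD

namespace Groth.Agent.S5473

open Groth.Agent.Lib.RootDatum.Basic in
lemma main {ι M N ι' M' N' : Type*} [AddCommGroup M] [AddCommGroup N] [AddCommGroup M'] [AddCommGroup N']
    (P : RootPairing ι ℤ M N) (P' : RootPairing ι' ℤ M' N') [Finite ι] [Finite ι']
    (f : M' →ₗ[ℤ] M) (g : N →ₗ[ℤ] N') (hfg : ∀ (m' : M') (n : N), P.toLinearMap (f m') n = P'.toLinearMap m' (g n))
    (e : ι' ≃ ι) (he : ∀ i' : ι', f (P'.root i') = P.root (e i'))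
    (e' : ι ≃ ι') (he' : ∀ i : ι, g (P.coroot i) = P'.coroot (e' i)) (i' : ι') :
    g (P.coroot (e i')) = P'.coroot i' := by
  haveI := isTorsionFree_weight P'
  haveI := isAddTorsionFree_weight P'
  have hco : ∀ i m', P.coroot' i (f m') = P'.coroot' (e' i) m' := fun i m' => by
    change P.toLinearMap (f m') (P.coroot i) = _
    rw [hfg, he']
    rfl
  have hinj : ∀ x ∈ Submodule.span ℤ (Set.range P'.root), f x = 0 → x = 0 := fun x hx h =>
    eq_zero_of_mem_span_of_coroot'_eq_zero P' hx fun k => by
      have := hco (e'.symm k) x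
      rwa [h, map_zero, e'.apply_symm_apply, eq_comm] at this
  rw [he']
  refine P'.injOn_dualMap_subtype_span_root_coroot (Set.mem_range_self _) (Set.mem_range_self _) ?_
  simp only [LinearMap.coe_comp, Function.comp_apply]
  refine Module.Dual.eq_of_preReflection_mapsTo' (x := P'.root i') (Set.finite_range P'.root)
    (Submodule.subset_span (Set.mem_range_self i')) ?_ ?_ (P'.coroot_root_two i')
    (P'.mapsTo_reflection_root i')
  · change P'.coroot' (e' (e i')) (P'.root i') = 2
    rw [← hco, he]
    exact P.coroot_root_two (e i')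
  · rintro _ ⟨j', rfl⟩
    refine ⟨e.symm (P.reflectionPerm (e i') (e j')), ?_⟩
    change P'.root _ = P'.root j' - P'.coroot' (e' (e i')) (P'.root j') • P'.root i'
    rw [← sub_eq_zero]
    refine hinj _ (Submodule.sub_mem _ (Submodule.subset_span (Set.mem_range_self _))
      (Submodule.sub_mem _ (Submodule.subset_span (Set.mem_range_self _))
        (Submodule.smul_mem _ _ (Submodule.subset_span (Set.mem_range_self _))))) ?_
    rw [map_sub, map_sub, map_smul, he, he, he, e.apply_symm_apply, P.root_reflectionPerm,
      P.reflection_apply_root, ← hco, he, P.root_coroot'_eq_pairing, sub_self]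

/-- If a linear map f and its transpose g induce bijections from the roots of R' onto the roots of R and
from the coroots of R onto the coroots of R' respectively (a morphism of root data in the
two-bijection sense), then the two bijections correspond: the coroot of α' is g applied to the
coroot of f(α'). -/
theorem result {ι M N ι' M' N' : Type*} [AddCommGroup M] [AddCommGroup N] [AddCommGroup M'] [AddCommGroup N']
    (P : RootPairing ι ℤ M N) (P' : RootPairing ι' ℤ M' N') [Finite ι] [Finite ι']
    (f : M' →ₗ[ℤ] M) (g : N →ₗ[ℤ] N') (hfg : ∀ (m' : M') (n : N), P.toLinearMap (f m') n = P'.toLinearMap m' (g n))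
    (e : ι' ≃ ι) (he : ∀ i' : ι', f (P'.root i') = P.root (e i'))
    (e' : ι ≃ ι') (he' : ∀ i : ι, g (P.coroot i) = P'.coroot (e' i)) :
    ∀ i' : ι', g (P.coroot (e i')) = P'.coroot i' := by
  intro i'
  exact main P P' f g hfg e he e' he' i'

end Groth.Agent.S5473
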