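import Groth.Statements.S5474
import Groth.Agent.Lib.RootDatum.Basic
import Mathlib.LinearAlgebra.RootSystem.Hom
import Mathlib.GroupTheory.FiniteAbelian.Basic
import Mathlib.LinearAlgebra.Dimension.Torsion.Finite

set_option autoImplicit false
open RootD

namespace Groth.Agent.S5474

lemma torsionQuot {A : Type*} [AddCommGroup A] [Module.Finite ℤ A] (T : Submodule ℤ A)
    (h : Module.finrank ℤ T = Module.finrank ℤ A) : Module.IsTorsion ℤ (A ⧸ T) := by
  refine Module.finrank_eq_zero_iff_isTorsion.mp ?_
  have := Submodule.finrank_quotient_add_finrank T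
  omega

open Groth.Agent.Lib.RootDatum.Basic in
lemma main {ι M N ι' M' N' : Type*} [AddCommGroup M] [AddCommGroup N] [AddCommGroup M'] [AddCommGroup N']
    (P : RootPairing ι ℤ M N) (P' : RootPairing ι' ℤ M' N') [Finite ι] [Finite ι']
    [Module.Finite ℤ M] [Module.Finite ℤ N] [Module.Finite ℤ M'] [Module.Finite ℤ N']
    (hss : Module.finrank ℤ (Submodule.span ℤ (Set.range P.root)) = Module.finrank ℤ M)
    (hss' : Module.finrank ℤ (Submodule.span ℤ (Set.range P'.root)) = Module.finrank ℤ M')
    (f : RootPairing.Hom P' P) :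
    Function.Injective f.weightMap ∧ Finite (M ⧸ LinearMap.range f.weightMap) := by
  have hco : ∀ k x, P.coroot' k (f.weightMap x) = P'.coroot' (f.indexEquiv.symm k) x := fun k x => by
    have h := LinearMap.congr_fun (RootPairing.Hom.weight_coweight_transpose_apply P' P (P.coroot k) f) x
    rw [RootPairing.Hom.coroot_coweightMap_apply] at h
    exact h
  haveI := isAddTorsionFree_weight P'
  constructor
  · refine (injective_iff_map_eq_zero _).mpr fun x hx => ?_
    obtain ⟨⟨n, hn⟩, h0⟩ := @torsionQuot M' _ _ (Submodule.span ℤ (Set.range P'.root)) hss' (Submodule.Quotient.mk x)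
    rw [Submonoid.smul_def, ← Submodule.Quotient.mk_smul, Submodule.Quotient.mk_eq_zero] at h0
    have hz : n • x = 0 := eq_zero_of_mem_span_of_coroot'_eq_zero P' h0 fun k => by
      have := hco (f.indexEquiv k) x
      rw [hx, map_zero, f.indexEquiv.symm_apply_apply] at this
      rw [map_zsmul, ← this, smul_zero]
    exact (smul_eq_zero.mp hz).resolve_left (mem_nonZeroDivisors_iff_ne_zero.mp hn)
  · refine Module.finite_of_fg_torsion _ (fun {x} => ?_)
    obtain ⟨y, rfl⟩ := Submodule.Quotient.mk_surjective _ x
    obtain ⟨a, ha⟩ := @torsionQuot M _ _ (Submodule.span ℤ (Set.range P.root)) hss (Submodule.Quotient.mk y)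
    refine ⟨a, ?_⟩
    rw [Submonoid.smul_def, ← Submodule.Quotient.mk_smul, Submodule.Quotient.mk_eq_zero] at ha ⊢
    refine (Submodule.span_le.mpr ?_ : Submodule.span ℤ (Set.range P.root) ≤ _) ha
    rintro _ ⟨k, rfl⟩
    refine ⟨P'.root (f.indexEquiv.symm k), ?_⟩
    rw [RootPairing.Hom.root_weightMap_apply, f.indexEquiv.apply_symm_apply]

/-- Every morphism between semisimple root data is an isogeny (injective on weight lattices with finite
cokernel). -/
theorem result {ι M N ι' M' N' : Type*} [AddCommGroup M] [AddCommGroup N] [AddCommGroup M'] [AddCommGroup N']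
    (P : RootPairing ι ℤ M N) (P' : RootPairing ι' ℤ M' N') [Finite ι] [Finite ι']
    [Module.Finite ℤ M] [Module.Finite ℤ N] [Module.Finite ℤ M'] [Module.Finite ℤ N']
    (hss : Module.finrank ℤ (Submodule.span ℤ (Set.range P.root)) = Module.finrank ℤ M)
    (hss' : Module.finrank ℤ (Submodule.span ℤ (Set.range P'.root)) = Module.finrank ℤ M')
    (f : RootPairing.Hom P' P) :
    Function.Injective f.weightMap ∧ Finite (M ⧸ LinearMap.range f.weightMap) := by
  exact main P P' hss hss' f

end Groth.Agent.S5474
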