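import Groth.Statements.S5475
import Groth.Agent.Lib.RootDatum.Sub
import Groth.Agent.Lib.RootDatum.Weyl

set_option autoImplicit false
open RootD Groth.Agent.Lib.RootDatum Groth.Agent.Lib.RootDatum.Basic Groth.Agent.Lib.RootDatum.PosSys

namespace Groth.Agent.S5475

/-- In an adjoint root datum every indivisible root is an indivisible element of the weight lattice. -/
theorem result {ι M N : Type*} [AddCommGroup M] [AddCommGroup N]
    (P : RootPairing ι ℤ M N) [Finite ι] (had : Submodule.span ℤ (Set.range P.root) = ⊤)
    (i : ι) (hind : RootD.IsIndiv P i) (m : M) (n : ℤ) (h : n • m = P.root i) : n = 1 ∨ n = -1 := by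
  obtain ⟨S, hS⟩ := exists_isPosSys P
  obtain ⟨g, -, a, ha, hga⟩ := Weyl.exists_smul_simple (isSimpleSys_simples P hS) hind
  have hΔ := Weyl.isSimpleSys_smul P g (isSimpleSys_simples P hS)
  have hiΔ : i ∈ (fun j : ι => g • j) '' simples P S := ⟨a, ha, hga⟩
  have hm : m ∈ Submodule.span ℤ (P.root '' ((fun j : ι => g • j) '' simples P S)) := by
    have : m ∈ Submodule.span ℤ (Set.range P.root) := by rw [had]; exact Submodule.mem_top
    refine Submodule.span_le.mpr ?_ this
    rintro _ ⟨k, rfl⟩
    rcases hΔ.mem_or_neg_mem k with h' | h'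
    · exact natSpan_le_span P _ _ h'
    · exact neg_mem_iff.mp (natSpan_le_span P _ _ h')
  obtain ⟨c, hc, hce⟩ := (Finsupp.mem_span_image_iff_linearCombination ℤ).mp hm
  rw [Finsupp.mem_supported] at hc
  have heq : n • c = Finsupp.single i 1 :=
    comb_inj hΔ ((Finset.coe_subset.mpr Finsupp.support_smul).trans hc)
      ((Finset.coe_subset.mpr Finsupp.support_single_subset).trans (by simpa using hiΔ))
      (by rw [map_zsmul, hce, h]; simp)
  have := congrArg (fun e => e i) heq
  simp only [Finsupp.smul_apply, smul_eq_mul, Finsupp.single_eq_same] at this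
  exact Int.eq_one_or_neg_one_of_mul_eq_one this

end Groth.Agent.S5475
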