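import Groth.Statements.S5476
import Groth.Agent.Lib.RootDatum.Basic
import Mathlib.LinearAlgebra.RootSystem.Finite.Nondegenerate

set_option autoImplicit false
open RootD

namespace Groth.Agent.S5476

lemma half {ι M N : Type*} [AddCommGroup M] [AddCommGroup N]
    (P : RootPairing ι ℤ M N) [Finite ι] [Module.Finite ℤ M] [Module.Finite ℤ N] :
    (Module.finrank ℤ (⨅ i : ι, LinearMap.ker (P.coroot' i) : Submodule ℤ M) +
        Module.finrank ℤ (Submodule.span ℤ (Set.range P.root)) = Module.finrank ℤ M) ∧
      (Module.finrank ℤ (Submodule.span ℤ (Set.range P.root)) = Module.finrank ℤ M ↔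
        (⨅ i : ι, LinearMap.ker (P.coroot' i) : Submodule ℤ M) = ⊥) := by
  classical
  haveI := Fintype.ofFinite ι
  haveI : IsAddTorsionFree M := Groth.Agent.Lib.RootDatum.Basic.isAddTorsionFree_weight P
  haveI : Module.Free ℤ M := inferInstance
  set K : Submodule ℤ M := ⨅ i : ι, LinearMap.ker (P.coroot' i)
  set T : Submodule ℤ M := Submodule.span ℤ (Set.range P.root)
  have hK : LinearMap.ker P.Polarization = K := by
    rw [RootPairing.ker_polarization_eq_ker_rootForm]
    ext x
    simp only [K, Submodule.mem_iInf, LinearMap.mem_ker]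
    constructor
    · intro h i
      have h2 : P.RootForm x x = 0 := by rw [h]; rfl
      rw [P.rootForm_apply_apply] at h2
      exact mul_self_eq_zero.mp
        ((Finset.sum_eq_zero_iff_of_nonneg fun j _ => mul_self_nonneg _).mp h2 i (Finset.mem_univ i))
    · intro h
      ext y
      rw [P.rootForm_apply_apply]
      exact Finset.sum_eq_zero fun i _ => by rw [h i, zero_mul]
  have hdisj : Disjoint T (LinearMap.ker P.Polarization) := by
    rw [RootPairing.ker_polarization_eq_ker_rootForm]
    exact P.disjoint_rootSpan_ker_rootForm
  have hinj : Function.Injective (P.Polarization.domRestrict T) := by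
    refine (injective_iff_map_eq_zero _).mpr fun x hx => Subtype.ext ?_
    exact Submodule.disjoint_def.mp hdisj x.1 x.2 hx
  have hr : Module.finrank ℤ (LinearMap.range P.Polarization) = Module.finrank ℤ T := by
    refine le_antisymm ?_ ?_
    · rw [show Module.finrank ℤ T = Module.finrank ℤ (P.corootSpan ℤ) from
        (P.finrank_corootSpan_eq').symm]
      refine Submodule.finrank_mono ?_
      rintro _ ⟨x, rfl⟩
      rw [RootPairing.Polarization_apply]
      exact Submodule.sum_mem _ fun i _ =>
        Submodule.smul_mem _ _ (Submodule.subset_span (Set.mem_range_self i))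
    · rw [← LinearMap.finrank_range_of_inj hinj]
      exact Submodule.finrank_mono (by rintro _ ⟨x, rfl⟩; exact ⟨x.1, rfl⟩)
  have h := Submodule.finrank_quotient_add_finrank (LinearMap.ker P.Polarization)
  rw [P.Polarization.quotKerEquivRange.finrank_eq, hr, hK] at h
  refine ⟨by omega, ?_⟩
  rw [← Submodule.finrank_eq_zero (R := ℤ)]
  omega

/-- The lattice of the coradical (weights killed by every coroot) and the lattice of the radical
(coweights killed by every root) both have rank rgred - rgss, the rank of the weight lattice minus
the rank of the lattice generated by the roots; and the datum is semisimple (the roots span a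
sublattice of full rank) if and only if the coradical lattice vanishes, if and only if the radical
lattice vanishes. -/
theorem result {ι M N : Type*} [AddCommGroup M] [AddCommGroup N]
    (P : RootPairing ι ℤ M N) [Finite ι] [Module.Finite ℤ M] [Module.Finite ℤ N] :
    (Module.finrank ℤ (⨅ i : ι, LinearMap.ker (P.coroot' i) : Submodule ℤ M) +
        Module.finrank ℤ (Submodule.span ℤ (Set.range P.root)) = Module.finrank ℤ M) ∧
      (Module.finrank ℤ (⨅ i : ι, LinearMap.ker (P.root' i) : Submodule ℤ N) +
        Module.finrank ℤ (Submodule.span ℤ (Set.range P.root)) = Module.finrank ℤ M) ∧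
      (Module.finrank ℤ (Submodule.span ℤ (Set.range P.root)) = Module.finrank ℤ M ↔
        (⨅ i : ι, LinearMap.ker (P.coroot' i) : Submodule ℤ M) = ⊥) ∧
      (Module.finrank ℤ (Submodule.span ℤ (Set.range P.root)) = Module.finrank ℤ M ↔
        (⨅ i : ι, LinearMap.ker (P.root' i) : Submodule ℤ N) = ⊥) := by
  classical
  haveI := Fintype.ofFinite ι
  have hflip : Module.finrank ℤ (Submodule.span ℤ (Set.range P.flip.root)) =
      Module.finrank ℤ (Submodule.span ℤ (Set.range P.root)) := P.finrank_corootSpan_eq'
  have hMN : Module.finrank ℤ N = Module.finrank ℤ M := by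
    haveI : Module.Free ℤ M := by
      haveI : IsAddTorsionFree M := Groth.Agent.Lib.RootDatum.Basic.isAddTorsionFree_weight P
      infer_instance
    rw [P.flip.toPerfPair.finrank_eq]
    exact (Module.Free.chooseBasis ℤ M).toDualEquiv.finrank_eq.symm
  obtain ⟨h1, h2⟩ := half P
  obtain ⟨h3, h4⟩ := half P.flip
  refine ⟨h1, ?_, h2, ?_⟩
  · rw [← hflip, ← hMN]; exact h3
  · rw [← hflip, ← hMN]; exact h4

end Groth.Agent.S5476
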