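import Groth.Statements.S5478
import Groth.Agent.Lib.RootDatum.Sub
import Groth.Agent.Lib.RootDatum.Weyl
import Groth.Agent.H84.SpanTools

set_option autoImplicit false
open RootPairing
open scoped Pointwise
open RootD Groth.Agent.Lib.RootDatum Groth.Agent.Lib.RootDatum.Basic Groth.Agent.Lib.RootDatum.PosSys

namespace Groth.Agent.S5478

/-- The group of automorphisms of a root datum that act trivially on the radical is finite. -/
theorem result {ι M N : Type*} [AddCommGroup M] [AddCommGroup N]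
    (P : RootPairing ι ℤ M N) [Finite ι] :
    Set.Finite {u : P.Aut | ∀ m : M, ∃ n : ℕ, 0 < n ∧ n • (u • m - m) ∈ Submodule.span ℤ (Set.range P.root)} := by
  rw [← Set.finite_coe_iff]
  refine Finite.of_injective (fun u => RootPairing.Equiv.indexHom P u.1) ?_
  rintro ⟨u, hu⟩ ⟨v, hv⟩ h
  refine Subtype.ext ((inv_mul_eq_one).mp ?_)
  refine Weyl.eq_one_of_fix P (fun i => ?_) fun m => ?_
  · rw [mul_smul, inv_smul_eq_iff]
    exact (Equiv.ext_iff.mp h i).symm
  · obtain ⟨n, hn, h1⟩ := hu m
    obtain ⟨n', hn', h2⟩ := hv m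
    refine ⟨n * n', Nat.mul_pos hn hn', ?_⟩
    have he : (u⁻¹ * v) • m - m = u⁻¹ • ((v • m - m) - (u • m - m)) := by
      rw [sub_sub_sub_cancel_right, smul_sub, mul_smul, inv_smul_smul]
    rw [he, ← Weyl.smul_nsmul_comm]
    refine Groth.Agent.H84.SpanTools.smul_mem_spanR P _ ?_
    rw [nsmul_sub]
    refine Submodule.sub_mem _ ?_ ?_
    · rw [mul_nsmul]; exact nsmul_mem (by simpa using h2) n |> fun h => by
        rwa [← mul_nsmul, mul_comm, mul_nsmul, ← mul_nsmul, mul_comm, mul_nsmul'] at h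
    · rw [mul_nsmul]; exact nsmul_mem h1 n'

end Groth.Agent.S5478
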