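import Groth.Statements.S5479
import Groth.Agent.Lib.RootDatum.Weyl
import Groth.Agent.H84.ActImage

set_option autoImplicit false
open RootPairing
open scoped Pointwise
open RootD

namespace Groth.Agent.S5479

/-- Aut(R) is the semidirect product of the Weyl group by the stabiliser E_Δ of a system of simple
roots: every automorphism is uniquely w · e with w ∈ W and e(Δ) = Δ. -/
theorem result {ι M N : Type*} [AddCommGroup M] [AddCommGroup N]
    (P : RootPairing ι ℤ M N) [Finite ι] (Δ : Set ι) (hΔ : RootD.IsSimpleSys P Δ) (u : P.Aut) :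
    ∃! w : P.weylGroup, (fun i : ι => ((w : P.Aut)⁻¹ * u) • i) '' Δ = Δ := by
  obtain ⟨g, hg, hgu⟩ := Groth.Agent.Lib.RootDatum.Weyl.exists_smul_simpleSys_eq P hΔ
    (Groth.Agent.Lib.RootDatum.Weyl.isSimpleSys_smul P u hΔ)
  refine ⟨⟨g, hg⟩, ?_, fun w hw => ?_⟩
  · change (fun i : ι => (g⁻¹ * u) • i) '' Δ = Δ
    rw [Groth.Agent.H84.ActImage.image_mul, ← hgu, Groth.Agent.H84.ActImage.image_inv]
  · replace hw : (fun i : ι => ((w : P.Aut)⁻¹ * u) • i) '' Δ = Δ := hw
    rw [Groth.Agent.H84.ActImage.image_mul, ← hgu] at hw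
    rw [← Groth.Agent.H84.ActImage.image_mul] at hw
    have h3 := Groth.Agent.Lib.RootDatum.Weyl.eq_one_of_image_eq hΔ
      (mul_mem (inv_mem w.2) hg) hw
    exact Subtype.ext (inv_mul_eq_one.mp h3)

end Groth.Agent.S5479
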