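import Groth.Statements.S5483
import Groth.Agent.Lib.RootDatum.Sub

set_option autoImplicit false
open RootD Groth.Agent.Lib.RootDatum Groth.Agent.Lib.RootDatum.Basic Groth.Agent.Lib.RootDatum.PosSys

namespace Groth.Agent.S5483

/-- If a system of simple roots Δ is the disjoint union of two mutually orthogonal subsets Δ', Δ'', then
R_{Δ'} and R_{Δ''} partition the set of roots. -/
theorem result {ι M N : Type*} [AddCommGroup M] [AddCommGroup N]
    (P : RootPairing ι ℤ M N) [Finite ι] (Δ Δ' : Set ι) (hΔ : RootD.IsSimpleSys P Δ)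
    (hsub : Δ' ⊆ Δ) (horth : ∀ i ∈ Δ', ∀ j ∈ Δ \ Δ', P.IsOrthogonal i j) (k : ι) :
    (k ∈ RootD.inSpan P Δ' ∨ k ∈ RootD.inSpan P (Δ \ Δ')) ∧
      ¬ (k ∈ RootD.inSpan P Δ' ∧ k ∈ RootD.inSpan P (Δ \ Δ')) := by
  have hS := isPosSys_posOf hΔ
  refine ⟨?_, fun ⟨h1, h2⟩ => ?_⟩
  · have key : ∀ k ∈ RootD.posOf P Δ,
        k ∈ RootD.inSpan P Δ' ∨ k ∈ RootD.inSpan P (Δ \ Δ') := by
      intro k hk
      refine natSpan_induction P (p := fun k => k ∈ RootD.inSpan P Δ' ∨ k ∈ RootD.inSpan P (Δ \ Δ'))
        (fun a ha => ?_) (fun k j a ha he hj ih => ?_) hk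
      · by_cases h : a ∈ Δ'
        · exact Or.inl (Submodule.subset_span ⟨a, h, rfl⟩)
        · exact Or.inr (Submodule.subset_span ⟨a, ⟨ha, h⟩, rfl⟩)
      · have cross : ∀ (A B : Set ι), A ⊆ Δ → B ⊆ Δ → Disjoint A B →
            (∀ x ∈ A, ∀ y ∈ B, pz P x y = 0) → P.root j ∈ Submodule.span ℤ (P.root '' A) →
            a ∈ B → False := by
          intro A B hA hB hAB hz hjA haB
          obtain ⟨c, hc, hce⟩ := (Finsupp.mem_span_image_iff_linearCombination ℤ).mp hjA
          rw [Finsupp.mem_supported] at hc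
          have hpz : pz P j a = 0 := by
            apply Int.cast_injective (α := ℤ)
            rw [← coroot'_root P j a, ← hce, Finsupp.linearCombination_apply, Finsupp.sum, map_sum,
              Int.cast_zero]
            refine Finset.sum_eq_zero fun x hx => ?_
            rw [map_zsmul, coroot'_root, hz x (hc hx) a haB]
            simp
          have hk2 : pz P k a = 2 := by rw [pz_add P he, hpz, pz_self]; rfl
          have hrel : P.root (P.reflectionPerm a k) = P.root j + (-1 : ℤ) • P.root a := by
            rw [root_reflectionPerm_eq, hk2, he]; module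
          have hcj : coeff hΔ (P.reflectionPerm a k) = coeff hΔ j + (-1 : ℤ) • coeff hΔ a :=
            coeff_add_zsmul hΔ hrel
          have hja : coeff hΔ j a = 0 := by
            by_contra hne
            exact Set.disjoint_left.mp hAB ((mem_inSpanZ_iff hΔ hA).mp hjA
              (Finsupp.mem_support_iff.mpr hne)) haB
          obtain ⟨b, hb⟩ := Finsupp.support_nonempty_iff.mpr (coeff_ne_zero hΔ j)
          have hbne : b ≠ a := fun e => (Finsupp.mem_support_iff.mp hb) (e ▸ hja)
          have hb0 : 0 < coeff hΔ j b := lt_of_le_of_ne ((mem_posOf_iff hΔ).mp hj b)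
            (Ne.symm (Finsupp.mem_support_iff.mp hb))
          have hpos : P.reflectionPerm a k ∈ RootD.posOf P Δ := mem_posOf_of_pos hΔ (j := b) (by
            rw [hcj]; simpa [coeff_self hΔ ha, Finsupp.single_eq_of_ne hbne] using hb0)
          have := (mem_posOf_iff hΔ).mp hpos a
          rw [hcj] at this
          simp [coeff_self hΔ ha, hja] at this
        have hzero : ∀ x ∈ Δ', ∀ y ∈ Δ \ Δ', pz P x y = 0 := fun x hx y hy =>
          (isOrthogonal_iff P).mp (horth x hx y hy)
        by_cases haΔ : a ∈ Δ'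
        · rcases ih with ih | ih
          · refine Or.inl ?_
            change P.root k ∈ Submodule.span ℤ (P.root '' Δ')
            rw [he]
            exact Submodule.add_mem _ ih (Submodule.subset_span ⟨a, haΔ, rfl⟩)
          · exact (cross (Δ \ Δ') Δ' Set.diff_subset hsub Set.disjoint_sdiff_left
              (fun x hx y hy => pz_eq_zero_symm P (hzero y hy x hx)) ih haΔ).elim
        · rcases ih with ih | ih
          · exact (cross Δ' (Δ \ Δ') hsub Set.diff_subset Set.disjoint_sdiff_right hzero ih
              ⟨ha, haΔ⟩).elim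
          · refine Or.inr ?_
            change P.root k ∈ Submodule.span ℤ (P.root '' (Δ \ Δ'))
            rw [he]
            exact Submodule.add_mem _ ih (Submodule.subset_span ⟨a, ⟨ha, haΔ⟩, rfl⟩)
    rcases hS.cover k with h | h
    · exact key k h
    · refine (key _ h).imp ?_ ?_ <;>
      · intro h'
        change P.root _ ∈ Submodule.span ℤ _ at h' ⊢
        rwa [root_negIdx, neg_mem_iff] at h'
  · have e1 := (mem_inSpanZ_iff hΔ hsub).mp h1
    have e2 := (mem_inSpanZ_iff hΔ Set.diff_subset).mp h2
    exact coeff_ne_zero hΔ k (Finsupp.support_eq_empty.mp (Finset.eq_empty_of_forall_notMem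
      fun x hx => (e2 hx).2 (e1 hx)))

end Groth.Agent.S5483
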