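import Groth.Statements.S5486
import Groth.Agent.Lib.RootDatum.Sub
import Groth.Agent.Lib.RootDatum.Basic

set_option autoImplicit false
open RootD Groth.Agent.Lib.RootDatum Groth.Agent.Lib.RootDatum.Basic Groth.Agent.Lib.RootDatum.PosSys

namespace Groth.Agent.S5486

/-- For orthogonal roots α, β, the sum α + β is a root if and only if the difference α - β is. -/
theorem result {ι M N : Type*} [AddCommGroup M] [AddCommGroup N]
    (P : RootPairing ι ℤ M N) [Finite ι] (i j : ι) (h : P.IsOrthogonal i j) :
    P.root i + P.root j ∈ Set.range P.root ↔ P.root i - P.root j ∈ Set.range P.root := by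
  rw [isOrthogonal_iff] at h
  have hji := pz_eq_zero_symm P h
  constructor
  · rintro ⟨k, hk⟩
    refine ⟨P.reflectionPerm j k, ?_⟩
    rw [root_reflectionPerm_eq, pz_add P hk, h, pz_self, hk]
    module
  · rintro ⟨k, hk⟩
    refine ⟨P.reflectionPerm j k, ?_⟩
    have hk' : P.root i = P.root k + P.root j := by rw [hk]; abel
    have h2 := pz_add P hk' j
    rw [h, pz_self] at h2
    rw [root_reflectionPerm_eq, show pz P k j = -2 by lia, hk]
    module

end Groth.Agent.S5486
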