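import Groth.Statements.S5487
import Groth.Agent.Lib.RootDatum.Length

set_option autoImplicit false
open RootD Groth.Agent.Lib.RootDatum Groth.Agent.Lib.RootDatum.Basic Groth.Agent.Lib.RootDatum.PosSys

namespace Groth.Agent.S5487

/-- For non-orthogonal roots α, β one has ℓ(α) ℓ(α^v) = ℓ(β) ℓ(β^v), where ℓ is the canonical quadratic
form of the datum and of its dual. -/
theorem result {ι M N : Type*} [AddCommGroup M] [AddCommGroup N]
    (P : RootPairing ι ℤ M N) [Finite ι] [Fintype ι] (i j : ι) (h : ¬ P.IsOrthogonal i j) :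
    P.RootForm (P.root i) (P.root i) * P.CorootForm (P.coroot i) (P.coroot i) =
      P.RootForm (P.root j) (P.root j) * P.CorootForm (P.coroot j) (P.coroot j) := by
  have h' : pz P i j ≠ 0 := fun e => h ((isOrthogonal_iff P).mpr e)
  have := Length.bz_mul_const P h'
  rw [← cast_bz, ← cast_bz, ← Length.cast_bz_coroot, ← Length.cast_bz_coroot]
  exact_mod_cast this

end Groth.Agent.S5487
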