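import Groth.Statements.S5488
import Groth.Agent.Lib.RootDatum.Weyl

set_option autoImplicit false
open RootPairing
open scoped Pointwise
open RootD

namespace Groth.Agent.S5488

/-- The reduced datum of indivisible roots has the same Weyl group: the reflections in indivisible roots
generate W. -/
theorem result {ι M N : Type*} [AddCommGroup M] [AddCommGroup N]
    (P : RootPairing ι ℤ M N) [Finite ι] :
    Subgroup.closure ((fun i : ι => Equiv.reflection P i) '' {i : ι | RootD.IsIndiv P i}) = P.weylGroup := by
  open Groth.Agent.Lib.RootDatum in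
  refine le_antisymm (Weyl.genBy_le P _) ((Subgroup.closure_le _).mpr ?_)
  rintro _ ⟨k, rfl⟩
  rcases Groth.Agent.Lib.RootDatum.Weyl.exists_indiv P k with hk | ⟨j, hj, hkj⟩
  · exact Subgroup.subset_closure ⟨k, hk, rfl⟩
  · change Groth.Agent.Lib.RootDatum.Weyl.refl P k ∈ _
    rw [Groth.Agent.Lib.RootDatum.Weyl.refl_eq_of_double P hkj]
    exact Subgroup.subset_closure ⟨j, hj, rfl⟩

end Groth.Agent.S5488
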