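import Groth.Statements.S5489
import Groth.Agent.Lib.RootDatum.Sub
import Groth.Agent.Lib.RootDatum.Basic

set_option autoImplicit false
open RootD Groth.Agent.Lib.RootDatum Groth.Agent.Lib.RootDatum.Basic Groth.Agent.Lib.RootDatum.PosSys

namespace Groth.Agent.S5489

/-- If a root α, distinct from roots α_1, ..., α_n, is a non-negative rational combination of them, then
some α_l with non-zero coefficient has (α^v, α_l) > 0 and α - α_l a root. -/
theorem result {ι M N : Type*} [AddCommGroup M] [AddCommGroup N]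
    (P : RootPairing ι ℤ M N) [Finite ι] {n : ℕ} (a : Fin n → ι) (m : Fin n → ℕ)
    (k : ι) (hne : ∀ l, a l ≠ k) (c : ℕ) (hc : 0 < c) (hk : c • P.root k = ∑ l, m l • P.root (a l)) :
    ∃ l : Fin n, m l ≠ 0 ∧ 0 < P.pairing (a l) k ∧ P.root k - P.root (a l) ∈ Set.range P.root := by
  by_contra hcon
  have key : ∀ l, (m l : ℤ) * pz P (a l) k ≤ 0 := by
    intro l
    by_contra hl
    have hm : m l ≠ 0 := fun h0 => hl (by simp [h0])
    have hp : 0 < pz P (a l) k := by
      by_contra hp
      exact hl (mul_nonpos_of_nonneg_of_nonpos (by positivity) (not_lt.mp hp))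
    obtain ⟨t, ht⟩ := sub_mem P hp (hne l)
    refine hcon ⟨l, hm, ?_, P.reflectionPerm t t, ?_⟩
    · rw [← cast_pz P (a l) k]; exact_mod_cast hp
    · change P.root (negIdx P t) = _
      rw [root_negIdx, ht]; abel
  have := congrArg (P.coroot' k) hk
  rw [map_nsmul, map_sum] at this
  simp only [map_nsmul, coroot'_root, pz_self, nsmul_eq_mul] at this
  have h2 : (c : ℤ) * 2 = ∑ l, (m l : ℤ) * pz P (a l) k := by exact_mod_cast this
  have : ∑ l, (m l : ℤ) * pz P (a l) k ≤ 0 := Finset.sum_nonpos fun l _ => key l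
  lia

end Groth.Agent.S5489
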