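import Groth.Statements.S5493
import Groth.Agent.Lib.RootDatum.Basic
import Mathlib.LinearAlgebra.RootSystem.Hom
import Mathlib.LinearAlgebra.RootSystem.Basic

set_option autoImplicit false
open RootD

namespace Groth.Agent.S5493

open Groth.Agent.Lib.RootDatum.Basic in
lemma maps {ι M N ι' M' N' : Type*} [AddCommGroup M] [AddCommGroup N] [AddCommGroup M'] [AddCommGroup N']
    (P : RootPairing ι ℤ M N) (P' : RootPairing ι' ℤ M' N') [Finite ι] [P.IsReduced]
    (b : P.Base) (b' : P'.Base) (u : ↥b.support ≃ ↥b'.support)
    (hu : ∀ i j : ↥b.support, P.pairing (i : ι) (j : ι) = P'.pairing (u i : ι') (u j : ι'))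
    (f : M →ₗ[ℤ] M') (hf : ∀ i : ↥b.support, f (P.root i) = P'.root (u i))
    (hsp : Submodule.span ℤ (Set.range P.root) = ⊤) (k : ι) : f (P.root k) ∈ Set.range P'.root := by
  have hcomm : ∀ j : ↥b.support, ∀ x : M, f (P.reflection j x) = P'.reflection (u j) (f x) := by
    intro j x
    have hx : x ∈ Submodule.span ℤ (P.root '' b.support) := by
      rw [b.span_int_root_support, hsp]; trivial
    refine Submodule.span_induction (fun w hw => ?_) (by simp) (fun a c _ _ ha hc => ?_)
      (fun r a _ ha => ?_) hx
    · obtain ⟨i, hi, rfl⟩ := hw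
      rw [P.reflection_apply_root, map_sub, map_smul, hf ⟨i, hi⟩, hf j, P'.reflection_apply_root,
        hu ⟨i, hi⟩ j]
    · simp only [map_add, ha, hc]
    · simp only [map_smul, ha]
  induction k using b.induction_reflect with
  | h₀ i hi =>
    obtain ⟨l, hl⟩ := hi
    refine ⟨P'.reflectionPerm l l, ?_⟩
    rw [P'.root_reflectionPerm, P'.reflection_apply_self, P.root_reflectionPerm,
      P.reflection_apply_self, map_neg, hl]
  | h₁ i hi => exact ⟨u ⟨i, hi⟩, (hf ⟨i, hi⟩).symm⟩
  | h₂ i j hi hj =>
    obtain ⟨l, hl⟩ := hi
    refine ⟨P'.reflectionPerm (u ⟨j, hj⟩) l, ?_⟩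
    rw [P'.root_reflectionPerm, P.root_reflectionPerm, hcomm ⟨j, hj⟩, hl]

open Groth.Agent.Lib.RootDatum.Basic in
lemma main {ι M N ι' M' N' : Type*} [AddCommGroup M] [AddCommGroup N] [AddCommGroup M'] [AddCommGroup N']
    (P : RootPairing ι ℤ M N) (P' : RootPairing ι' ℤ M' N') [Finite ι] [Finite ι'] [P.IsReduced] [P'.IsReduced]
    (had : Submodule.span ℤ (Set.range P.root) = ⊤) (had' : Submodule.span ℤ (Set.range P'.root) = ⊤)
    (b : P.Base) (b' : P'.Base) (u : ↥b.support ≃ ↥b'.support)
    (hu : ∀ i j : ↥b.support, P.pairing (i : ι) (j : ι) = P'.pairing (u i : ι') (u j : ι')) :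
    ∃! e : RootPairing.Equiv P P', ∀ i : ↥b.support, e.indexEquiv (i : ι) = (u i : ι') := by
  haveI := isTorsionFree_weight P
  haveI := isAddTorsionFree_weight P
  let B : Module.Basis b.support ℤ M :=
    Module.Basis.mk (b.linearIndepOn_root.restrict_scalars' ℤ) (by
      change ⊤ ≤ Submodule.span ℤ (Set.range (P.root ∘ ((↑) : b.support → ι)))
      rw [Set.range_comp, Subtype.range_coe_subtype, ← had]
      exact (b.span_int_root_support).ge)
  let B' : Module.Basis b'.support ℤ M' :=
    Module.Basis.mk (b'.linearIndepOn_root.restrict_scalars' ℤ) (by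
      change ⊤ ≤ Submodule.span ℤ (Set.range (P'.root ∘ ((↑) : b'.support → ι')))
      rw [Set.range_comp, Subtype.range_coe_subtype, ← had']
      exact (b'.span_int_root_support).ge)
  let f : M ≃ₗ[ℤ] M' := B.equiv B' u
  have hf : ∀ i : b.support, f (P.root i) = P'.root (u i) := fun i => by
    rw [show P.root i = B i by simp [B], Module.Basis.equiv_apply]; simp [B']
  have hf' : ∀ i : b'.support, f.symm (P'.root i) = P.root (u.symm i) := fun i => by
    rw [f.symm_apply_eq, hf, u.apply_symm_apply]
  have hm := maps P P' b b' u hu f.toLinearMap hf had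
  have hm' := maps P' P b' b u.symm (fun i j => by
    have := (hu (u.symm i) (u.symm j)).symm
    simpa using this) f.symm.toLinearMap hf' had'
  have hbij : Function.Bijective (fun i => (hm i).choose) := by
    constructor
    · intro i j h
      refine P.root.injective (f.injective ?_)
      have a := (hm i).choose_spec
      have c := (hm j).choose_spec
      simp only at h
      rw [h] at a
      exact a.symm.trans c
    · intro k
      obtain ⟨i, hi⟩ := hm' k
      refine ⟨i, P'.root.injective ?_⟩
      rw [(hm i).choose_spec, hi]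
      exact f.apply_symm_apply _
  let e : ι ≃ ι' := Equiv.ofBijective _ hbij
  have he : ∀ i, f (P.root i) = P'.root (e i) := fun i => ((hm i).choose_spec).symm
  have hco : ∀ i x, P'.coroot' (e i) (f x) = P.coroot' i x := by
    intro i
    have key : (P'.coroot' (e i)).comp f.toLinearMap = P.coroot' i := by
      refine Module.Dual.eq_of_preReflection_mapsTo (x := P.root i) (Set.finite_range P.root) had ?_ ?_
        (P.coroot_root_two i) (P.mapsTo_reflection_root i)
      · change P'.coroot' (e i) (f (P.root i)) = 2
        rw [he]; exact P'.coroot_root_two (e i)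
      · rintro _ ⟨j, rfl⟩
        refine ⟨e.symm (P'.reflectionPerm (e i) (e j)), f.injective ?_⟩
        change _ = f (P.root j - P'.coroot' (e i) (f (P.root j)) • P.root i)
        rw [map_sub, map_smul, he, he, he, e.apply_symm_apply, P'.root_reflectionPerm,
          P'.reflection_apply_root, P'.root_coroot'_eq_pairing]
    exact fun x => LinearMap.congr_fun key x
  let g : N' ≃ₗ[ℤ] N :=
    (P'.flip.toPerfPair.trans f.dualMap).trans P.flip.toPerfPair.symm
  have hg : ∀ y, P.flip.toPerfPair (g y) = f.toLinearMap.dualMap (P'.flip.toPerfPair y) := fun y => by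
    simp [g]
    rfl
  let E : RootPairing.Equiv P P' :=
    { weightMap := f.toLinearMap
      coweightMap := g.toLinearMap
      indexEquiv := e
      weight_coweight_transpose := LinearMap.ext fun y => (hg y).symm
      root_weightMap := funext he
      coroot_coweightMap := funext fun k => by
        refine P.flip.toPerfPair.injective ?_
        rw [Function.comp_apply, Function.comp_apply]
        refine (hg _).trans (LinearMap.ext fun x => ?_)
        have := hco (e.symm k) x
        rw [e.apply_symm_apply] at this
        exact this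
      bijective_weightMap := f.bijective
      bijective_coweightMap := g.bijective }
  refine ⟨E, fun i => P'.root.injective ?_, fun E' hE' => ?_⟩
  · exact (he i).symm.trans (hf i)
  · have hw : E'.weightMap = E.weightMap := B.ext fun i => by
      rw [show B i = P.root i by simp [B], RootPairing.Hom.root_weightMap_apply, hE' i]
      exact (hf i).symm
    refine RootPairing.Equiv.ext hw (LinearMap.ext fun y => P.flip.toPerfPair.injective ?_)
      (Equiv.ext fun i => P'.root.injective ?_)
    · rw [← RootPairing.Hom.weight_coweight_transpose_apply,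
        ← RootPairing.Hom.weight_coweight_transpose_apply, hw]
    · rw [← RootPairing.Hom.root_weightMap_apply, ← RootPairing.Hom.root_weightMap_apply, hw]

/-- Adjoint case; the simply connected case is dual: two reduced adjoint root data with systems of
simple roots Δ, Δ' and a bijection u : Δ → Δ' respecting the Cartan matrices are isomorphic through
a unique isomorphism inducing u on Δ. -/
theorem result {ι M N ι' M' N' : Type*} [AddCommGroup M] [AddCommGroup N] [AddCommGroup M'] [AddCommGroup N']
    (P : RootPairing ι ℤ M N) (P' : RootPairing ι' ℤ M' N') [Finite ι] [Finite ι'] [P.IsReduced] [P'.IsReduced]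
    (had : Submodule.span ℤ (Set.range P.root) = ⊤) (had' : Submodule.span ℤ (Set.range P'.root) = ⊤)
    (b : P.Base) (b' : P'.Base) (u : ↥b.support ≃ ↥b'.support)
    (hu : ∀ i j : ↥b.support, P.pairing (i : ι) (j : ι) = P'.pairing (u i : ι') (u j : ι')) :
    ∃! e : RootPairing.Equiv P P', ∀ i : ↥b.support, e.indexEquiv (i : ι) = (u i : ι') := by
  exact main P P' had had' b b' u hu

end Groth.Agent.S5493
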