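import Groth.Statements.S5494
import Groth.Agent.Lib.RootDatum.Sub

set_option autoImplicit false
open RootD Groth.Agent.Lib.RootDatum Groth.Agent.Lib.RootDatum.Basic Groth.Agent.Lib.RootDatum.PosSys

namespace Groth.Agent.S5494

/-- If a system of simple roots has no partition into two non-empty orthogonal subsets, then any two
roots are linked by a chain of roots with consecutive members non-orthogonal. -/
theorem result {ι M N : Type*} [AddCommGroup M] [AddCommGroup N]
    (P : RootPairing ι ℤ M N) [Finite ι] (Δ : Set ι) (hΔ : RootD.IsSimpleSys P Δ)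
    (hconn : ∀ Δ' : Set ι, Δ' ⊆ Δ → (∀ i ∈ Δ', ∀ j ∈ Δ \ Δ', P.IsOrthogonal i j) → Δ' = ∅ ∨ Δ' = Δ)
    (i j : ι) : Relation.ReflTransGen (fun a b : ι => ¬ P.IsOrthogonal a b) i j := by
  have hpart := Sub.isPartition_component P i
  have h := hconn (Δ ∩ Sub.component P i) Set.inter_subset_left
    (fun a ha b hb => hpart.isOrthogonal ha.2 fun hb' => hb.2 ⟨hb.1, hb'⟩)
  rcases h with h | h
  · exfalso
    have := hpart.subset_span hΔ (k := i) Relation.ReflTransGen.refl
    rw [h, Set.image_empty, Submodule.span_empty, Submodule.mem_bot] at this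
    exact P.ne_zero i this
  · by_contra hj
    have := hpart.compl.subset_span hΔ (k := j) hj
    have he : Δ ∩ (Sub.component P i)ᶜ = ∅ :=
      Set.eq_empty_of_forall_notMem fun x hx => hx.2 (h.symm.subset hx.1).2
    rw [he, Set.image_empty, Submodule.span_empty, Submodule.mem_bot] at this
    exact P.ne_zero j this

end Groth.Agent.S5494
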