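import Groth.Statements.S5496
import Groth.Agent.Lib.RootDatum.Weyl
import Mathlib.GroupTheory.OrderOfElement

set_option autoImplicit false
open RootPairing
open scoped Pointwise
open RootD

namespace Groth.Agent.S5496

open Groth.Agent.Lib.RootDatum Groth.Agent.Lib.RootDatum.Basic in
lemma main {ι M N : Type*} [AddCommGroup M] [AddCommGroup N]
    (P : RootPairing ι ℤ M N) [Finite ι] (i j : ι) (hli : LinearIndependent ℤ ![P.root i, P.root j])
    (n : ℕ) (hn : IsLeast {m : ℕ | 0 < m ∧ ((RootPairing.Equiv.reflection P i * RootPairing.Equiv.reflection P j) ^ m) • i = i ∧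
      ((RootPairing.Equiv.reflection P i * RootPairing.Equiv.reflection P j) ^ m) • j = j} n) :
    Nat.card (Subgroup.closure ({RootPairing.Equiv.reflection P i, RootPairing.Equiv.reflection P j} : Set P.Aut)) = 2 * n := by
  classical
  haveI := Fintype.ofFinite ι
  set a := RootPairing.Equiv.reflection P i
  set b := RootPairing.Equiv.reflection P j
  set r := a * b with hr
  have haa : a * a = 1 := reflection_mul_self P i
  have hbb : b * b = 1 := reflection_mul_self P j
  set H := Subgroup.closure ({a, b} : Set P.Aut)
  have haH : a ∈ H := Subgroup.subset_closure (by simp)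
  have hbH : b ∈ H := Subgroup.subset_closure (by simp)
  have hspan : ∀ g ∈ H, ∀ m : M, ∃ x y : ℤ, g • m - m = x • P.root i + y • P.root j := by
    intro g hg
    induction hg using Subgroup.closure_induction'' with
    | one => intro m; exact ⟨0, 0, by simp⟩
    | mem x hx =>
      intro m
      rcases hx with rfl | rfl
      · exact ⟨-P.coroot' i m, 0, by rw [reflection_smul_weight]; module⟩
      · exact ⟨0, -P.coroot' j m, by rw [reflection_smul_weight]; module⟩
    | inv_mem x hx =>
      intro m
      rcases hx with rfl | rfl
      · rw [Weyl.refl_inv P i]; exact ⟨-P.coroot' i m, 0, by rw [reflection_smul_weight]; module⟩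
      · rw [Weyl.refl_inv P j]; exact ⟨0, -P.coroot' j m, by rw [reflection_smul_weight]; module⟩
    | mul u v _ _ hu hv =>
      intro m
      obtain ⟨x, y, h1⟩ := hu (v • m)
      obtain ⟨x', y', h2⟩ := hv m
      exact ⟨x + x', y + y', by
        rw [mul_smul, show u • v • m - m = (u • v • m - v • m) + (v • m - m) by abel, h1, h2]
        module⟩
  have hfix : ∀ g ∈ H, g • i = i → g • j = j → g = 1 := by
    intro g hg hgi hgj
    refine aut_ext P fun m => ?_
    rw [one_smul, ← sub_eq_zero]
    obtain ⟨x, y, hxy⟩ := hspan g hg m
    have h0 : ∀ k, g • k = k → P.RootForm (P.root k) (g • m - m) = 0 := by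
      intro k hk
      have h1 := coroot'_smul P g k m
      rw [hk] at h1
      have h3 := congrArg (P.toLinearMap (g • m - m)) (P.rootForm_self_smul_coroot k)
      rw [map_smul, map_nsmul, P.toLinearMap_apply_apply_Polarization] at h3
      have h2 : P.toLinearMap (g • m - m) (P.coroot k) = 0 := by
        change P.coroot' k (g • m - m) = 0
        rw [map_sub, h1, sub_self]
      rw [h2, smul_zero] at h3
      exact (smul_eq_zero.mp h3.symm).resolve_left two_ne_zero
    have hmem : g • m - m ∈ Submodule.span ℤ (Set.range P.root) := by
      rw [hxy]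
      exact add_mem (Submodule.smul_mem _ _ (Submodule.subset_span (Set.mem_range_self i)))
        (Submodule.smul_mem _ _ (Submodule.subset_span (Set.mem_range_self j)))
    refine P.eq_zero_of_mem_rootSpan_of_rootForm_self_eq_zero hmem ?_
    conv_lhs => arg 1; rw [hxy]
    rw [map_add, map_smul, map_smul, LinearMap.add_apply, LinearMap.smul_apply, LinearMap.smul_apply,
      h0 i hgi, h0 j hgj, smul_zero, smul_zero, add_zero]
  have hrH : r ∈ H := mul_mem haH hbH
  have hrn : r ^ n = 1 := hfix _ (pow_mem hrH n) hn.1.2.1 hn.1.2.2
  have hord : orderOf r = n := by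
    refine le_antisymm (orderOf_le_of_pow_eq_one hn.1.1 hrn) (hn.2 ⟨?_, ?_, ?_⟩)
    · exact (isOfFinOrder_iff_pow_eq_one.mpr ⟨n, hn.1.1, hrn⟩).orderOf_pos
    · rw [pow_orderOf_eq_one, one_smul]
    · rw [pow_orderOf_eq_one, one_smul]
  have hnot : a ∉ Subgroup.zpowers r := by
    intro ha
    obtain ⟨k, hk⟩ := Subgroup.mem_zpowers_iff.mp ha
    have hcomm : a * b = b * a := by
      have h1 : Commute a r := by rw [← hk]; exact (Commute.refl r).zpow_left k
      have h2 : a * (a * b) = a * b * a := h1
      rw [← mul_assoc, haa, one_mul] at h2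
      calc a * b = a * (a * b * a) := by rw [← h2]
        _ = a * a * (b * a) := by simp only [mul_assoc]
        _ = b * a := by rw [haa, one_mul]
    have hroot := congrArg (fun g : P.Aut => g • P.root i) hcomm
    simp only [mul_smul] at hroot
    rw [reflection_smul_weight P j (P.root i), reflection_smul_weight, reflection_smul_weight P i (P.root i),
      reflection_smul_weight] at hroot
    simp only [map_sub, map_smul, P.root_coroot'_eq_pairing, P.pairing_same, smul_eq_mul] at hroot
    have hp := (LinearIndependent.pair_iff.mp hli (P.pairing i j * P.pairing j i) (-(2 * P.pairing i j))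
      (by linear_combination (norm := module) hroot)).2
    have hij : P.pairing i j = 0 := by simpa using hp
    have hji : P.pairing j i = 0 := by
      have h := pz_eq_zero_symm P (i := i) (j := j) ((pz_eq_iff P).mpr (by rw [hij]; simp))
      simpa using (pz_eq_iff P).mp h
    have hai : a • P.root i = -P.root i := by
      rw [reflection_smul_weight, P.root_coroot'_eq_pairing, P.pairing_same]; module
    have hbi : b • P.root i = P.root i := by
      rw [reflection_smul_weight, P.root_coroot'_eq_pairing, hij, zero_smul, sub_zero]
    have haj : a • P.root j = P.root j := by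
      rw [reflection_smul_weight, P.root_coroot'_eq_pairing, hji, zero_smul, sub_zero]
    have hrr : r * r = 1 := by
      rw [hr]
      nth_rw 2 [hcomm]
      rw [mul_assoc, ← mul_assoc b b a, hbb, one_mul, haa]
    rcases Int.even_or_odd k with ⟨t, rfl⟩ | ⟨t, rfl⟩
    · rw [zpow_add, ← (Commute.refl r).mul_zpow, hrr, one_zpow] at hk
      rw [← hk, one_smul] at hai
      refine P.ne_zero i ?_
      haveI := isAddTorsionFree_weight P
      exact self_eq_neg.mp hai
    · rw [zpow_add_one, two_mul, zpow_add, ← (Commute.refl r).mul_zpow, hrr, one_zpow, one_mul] at hk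
      have hb : b = 1 := mul_left_cancel (a := a) (by rw [mul_one]; exact hk)
      have := reflection_smul_weight P j (P.root j)
      rw [← show b = RootPairing.Equiv.reflection P j from rfl, hb, one_smul, P.root_coroot'_eq_pairing,
        P.pairing_same, eq_comm, sub_eq_self] at this
      haveI htf := isTorsionFree_weight P
      exact P.ne_zero j ((smul_eq_zero.mp this).resolve_left two_ne_zero)
  -- the group is the disjoint union of the two cosets of the rotations
  have hconj : ∀ z ∈ Subgroup.zpowers r, a * z * a ∈ Subgroup.zpowers r := by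
    intro z hz
    obtain ⟨k, rfl⟩ := Subgroup.mem_zpowers_iff.mp hz
    have e : a * r * a⁻¹ = r⁻¹ := by
      rw [hr, inv_eq_of_mul_eq_one_right haa, mul_inv_rev, inv_eq_of_mul_eq_one_right haa,
        inv_eq_of_mul_eq_one_right hbb, ← mul_assoc, haa, one_mul]
    have : a * r ^ k * a = (r⁻¹) ^ k := by
      rw [← e, conj_zpow, inv_eq_of_mul_eq_one_right haa]
    rw [this]
    exact Subgroup.zpow_mem _ (inv_mem (Subgroup.mem_zpowers r)) k
  have hdec : ∀ g ∈ H, g ∈ Subgroup.zpowers r ∨ a * g ∈ Subgroup.zpowers r := by
    intro g hg
    induction hg using Subgroup.closure_induction'' with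
    | one => exact Or.inl (one_mem _)
    | mem x hx =>
      rcases hx with rfl | rfl
      · exact Or.inr (by rw [haa]; exact one_mem _)
      · exact Or.inr (Subgroup.mem_zpowers r)
    | inv_mem x hx =>
      rcases hx with rfl | rfl
      · exact Or.inr (by rw [mul_inv_cancel]; exact one_mem _)
      · exact Or.inr (by rw [inv_eq_of_mul_eq_one_right hbb]; exact Subgroup.mem_zpowers r)
    | mul u v _ _ hu hv =>
      rcases hu with hu | hu <;> rcases hv with hv | hv
      · exact Or.inl (mul_mem hu hv)
      · exact Or.inr (by
          have : a * (u * v) = a * u * a * (a * v) := by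
            simp only [mul_assoc]; rw [← mul_assoc a a v, haa, one_mul]
          rw [this]; exact mul_mem (hconj u hu) hv)
      · exact Or.inr (by rw [← mul_assoc]; exact mul_mem hu hv)
      · exact Or.inl (by
          have : u * v = a * (a * u) * a * (a * v) := by
            simp only [← mul_assoc, haa, one_mul]; rw [mul_assoc u a a, haa, mul_one]
          rw [this]; exact mul_mem (hconj _ hu) hv)
  let φ : Bool × Subgroup.zpowers r → H := fun p =>
    ⟨(if p.1 then a else 1) * p.2, mul_mem (by split_ifs <;> [exact haH; exact one_mem _])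
      (Subgroup.zpowers_le.mpr hrH p.2.2)⟩
  have hφ : Function.Bijective φ := by
    constructor
    · rintro ⟨e, x⟩ ⟨e', y⟩ h
      have h' : (if e then a else 1) * (x : P.Aut) = (if e' then a else 1) * y := congrArg Subtype.val h
      cases e <;> cases e' <;> simp only [Bool.false_eq_true, if_false, if_true, one_mul] at h'
      · rw [Subtype.ext h']
      · exact absurd (by rw [eq_mul_inv_of_mul_eq h'.symm]; exact mul_mem x.2 (inv_mem y.2)) hnot
      · exact absurd (by rw [eq_mul_inv_of_mul_eq h']; exact mul_mem y.2 (inv_mem x.2)) hnot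
      · rw [Subtype.ext (mul_left_cancel h')]
    · rintro ⟨g, hg⟩
      rcases hdec g hg with h | h
      · exact ⟨(false, ⟨g, h⟩), Subtype.ext (by simp [φ])⟩
      · exact ⟨(true, ⟨a * g, h⟩), Subtype.ext (show (if true = true then a else 1) * (a * g) = g by
          rw [if_pos rfl, ← mul_assoc, haa, one_mul])⟩
  rw [← Nat.card_congr (Equiv.ofBijective φ hφ), Nat.card_prod, Nat.card_zpowers, hord]
  simp

/-- For non-proportional roots α, β let n be the least integer n > 0 with (s_α s_β)^n(α) = α and (s_α
s_β)^n(β) = β. Then the subgroup W_{α,β} generated by s_α and s_β is presented by s_α² = s_β² = (s_α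
s_β)^n = 1; equivalently it has exactly 2n elements. -/
theorem result {ι M N : Type*} [AddCommGroup M] [AddCommGroup N]
    (P : RootPairing ι ℤ M N) [Finite ι] (i j : ι) (hli : LinearIndependent ℤ ![P.root i, P.root j])
    (n : ℕ) (hn : IsLeast {m : ℕ | 0 < m ∧ ((Equiv.reflection P i * Equiv.reflection P j) ^ m) • i = i ∧
      ((Equiv.reflection P i * Equiv.reflection P j) ^ m) • j = j} n) :
    Nat.card (Subgroup.closure ({Equiv.reflection P i, Equiv.reflection P j} : Set P.Aut)) = 2 * n := by
  exact main P i j hli n hn

end Groth.Agent.S5496
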