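import Groth.Statements.S5498
import Groth.Agent.Lib.RootDatum.Length

set_option autoImplicit false
open RootD Groth.Agent.Lib.RootDatum Groth.Agent.Lib.RootDatum.Basic Groth.Agent.Lib.RootDatum.PosSys

namespace Groth.Agent.S5498

/-- If R is irreducible then so is the dual datum R^v, and long(α)·long(α^v) (equivalently ℓ(α) ℓ(α^v))
is constant on the roots. -/
theorem result {ι M N : Type*} [AddCommGroup M] [AddCommGroup N]
    (P : RootPairing ι ℤ M N) [Finite ι] [Fintype ι] [Nonempty ι]
    (hirr : ∀ R' : Set ι, RootD.IsClosedSub P R' → RootD.IsSymmSub P R' → RootD.IsClosedSub P R'ᶜ →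
      RootD.IsSymmSub P R'ᶜ → R' = ∅ ∨ R' = Set.univ) :
    (∀ R' : Set ι, RootD.IsClosedSub P.flip R' → RootD.IsSymmSub P.flip R' → RootD.IsClosedSub P.flip R'ᶜ →
      RootD.IsSymmSub P.flip R'ᶜ → R' = ∅ ∨ R' = Set.univ) ∧
    ∀ i j : ι, P.RootForm (P.root i) (P.root i) * P.CorootForm (P.coroot i) (P.coroot i) =
      P.RootForm (P.root j) (P.root j) * P.CorootForm (P.coroot j) (P.coroot j) := by
  have hcon := Sub.connected_of_irreducible P hirr
  refine ⟨fun R' h1 h2 h3 h4 => ?_, fun i j => ?_⟩
  · obtain ⟨e1, e2, e3, e4⟩ := Length.isPartition_of_flip P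
      (show Sub.IsPartition P.flip R' from ⟨h1, h2, h3, h4⟩)
    exact hirr R' e1 e2 e3 e4
  · have key : bz P i i * bz P.flip i i = bz P j j * bz P.flip j j := by
      induction hcon i j with
      | refl => rfl
      | tail _ hab ih => exact ih.trans (Length.bz_mul_const P fun e => hab ((isOrthogonal_iff P).mpr e))
    rw [← cast_bz, ← cast_bz, ← Length.cast_bz_coroot, ← Length.cast_bz_coroot]
    exact_mod_cast key

end Groth.Agent.S5498
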