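import Groth.Statements.S5499
import Groth.Agent.Lib.RootDatum.Length
import Groth.Agent.S5465

set_option autoImplicit false
open RootD Groth.Agent.Lib.RootDatum Groth.Agent.Lib.RootDatum.Basic Groth.Agent.Lib.RootDatum.PosSys

namespace Groth.Agent.S5499

/-- For an irreducible datum, where long(α) = ℓ(α)/ℓ(α₀) with ℓ(α₀) minimal: there is a unique
homomorphism u : Γ_0(R) → M^v with u(α) = long(α) α^v for every root α. -/
theorem result {ι M N : Type*} [AddCommGroup M] [AddCommGroup N]
    (P : RootPairing ι ℤ M N) [Finite ι] [Fintype ι]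
    (hirr : ∀ R' : Set ι, RootD.IsClosedSub P R' → RootD.IsSymmSub P R' → RootD.IsClosedSub P R'ᶜ →
      RootD.IsSymmSub P R'ᶜ → R' = ∅ ∨ R' = Set.univ)
    (i₀ : ι) (hmin : ∀ i : ι, P.RootForm (P.root i₀) (P.root i₀) ≤ P.RootForm (P.root i) (P.root i)) :
    ∃! u : Submodule.span ℤ (Set.range P.root) →+ N, ∀ i : ι,
      u ⟨P.root i, Submodule.subset_span (Set.mem_range_self i)⟩ =
        (P.RootForm (P.root i) (P.root i) / P.RootForm (P.root i₀) (P.root i₀)) • P.coroot i := by
  have hcon := Sub.connected_of_irreducible P hirr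
  have hbz : ∀ a : ι, P.RootForm (P.root a) (P.root a) = bz P a a := fun a => by rw [← cast_bz]; rfl
  simp only [hbz] at hmin ⊢
  have hdvd : ∀ i, bz P i₀ i₀ ∣ bz P i i := by
    intro i
    obtain ⟨g, -, hga⟩ := Length.exists_conj_nonOrth P (hcon i₀ i)
    have hia : pz P i (g • i₀) ≠ 0 := fun e => hga (pz_eq_zero_symm P e)
    have e := Length.bz_smul P g i₀ i₀
    rw [← e]
    rcases Length.ratio P hia (by rw [e]; exact hmin i) with h | h | h | ⟨h, -⟩ <;> rw [h] <;>
      simp
  have h0 := bz_self_pos P i₀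
  refine Groth.Agent.S5465.result P (fun i => (bz P i i / bz P i₀ i₀) • P.coroot i)
    (fun i => ?_) (fun i j k h => ?_)
  · rw [coroot_negIdx, Length.bz_negIdx, smul_neg]
  · haveI := isAddTorsionFree_coweight P
    refine sub_eq_zero.mp ((smul_eq_zero.mp (?_ : bz P i₀ i₀ •
      ((bz P k k / bz P i₀ i₀) • P.coroot k -
        ((bz P i i / bz P i₀ i₀) • P.coroot i + (bz P j j / bz P i₀ i₀) • P.coroot j)) = 0)
      ).resolve_left h0.ne')
    rw [smul_sub, smul_add, ← mul_smul, ← mul_smul, ← mul_smul, Int.mul_ediv_cancel' (hdvd k),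
      Int.mul_ediv_cancel' (hdvd i), Int.mul_ediv_cancel' (hdvd j), Length.bz_zsmul_coroot,
      Length.bz_zsmul_coroot, Length.bz_zsmul_coroot, h, map_add, smul_add, sub_self]

end Groth.Agent.S5499
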