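import Groth.Statements.S5500
import Groth.Agent.H84.PMor
import Groth.Agent.Lib.RootDatum.Sub

set_option autoImplicit false
open RootD

namespace Groth.Agent.S5500

open Groth.Agent.Lib.RootDatum Groth.Agent.Lib.RootDatum.Basic in
lemma main {ι M N ι' M' N' : Type*} [AddCommGroup M] [AddCommGroup N] [AddCommGroup M'] [AddCommGroup N']
    (P : RootPairing ι ℤ M N) (P' : RootPairing ι' ℤ M' N') [Finite ι] [Finite ι'] [Fintype ι] [Fintype ι']
    (D : Groth.Agent.H84.PMor.Data P P')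
    (hirr : ∀ R₁ : Set ι, RootD.IsClosedSub P R₁ → RootD.IsSymmSub P R₁ → RootD.IsClosedSub P R₁ᶜ →
      RootD.IsSymmSub P R₁ᶜ → R₁ = ∅ ∨ R₁ = Set.univ) (i j : ι) :
    ((D.q i : ℤ) ^ 2 * P.RootForm (P.root i) (P.root i)) * P'.RootForm (P'.root (D.u j)) (P'.root (D.u j)) =
      ((D.q j : ℤ) ^ 2 * P.RootForm (P.root j) (P.root j)) * P'.RootForm (P'.root (D.u i)) (P'.root (D.u i)) := by
  let A : ι → ℤ := fun k => (D.q k : ℤ) ^ 2 * P.RootForm (P.root k) (P.root k)
  let B : ι → ℤ := fun k => P'.RootForm (P'.root (D.u k)) (P'.root (D.u k))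
  have hA : ∀ k, A k ≠ 0 := fun k => mul_ne_zero (pow_ne_zero _ (by exact_mod_cast (D.qpos k).ne'))
    (RootPairing.IsAnisotropic.rootForm_root_ne_zero k)
  have hstep : ∀ a b : ι, ¬ P.IsOrthogonal a b → A a * B b = A b * B a := by
    intro a b hab
    have hne : pz P a b ≠ 0 := fun h => hab ((isOrthogonal_iff P).mpr h)
    have hne' : (P.pairing a b : ℤ) ≠ 0 := by rw [← cast_pz P a b]; exact_mod_cast hne
    have c1 : P.pairing a b * P.RootForm (P.root b) (P.root b) =
        P.pairing b a * P.RootForm (P.root a) (P.root a) := by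
      have := pz_mul_bz_comm P a b
      rw [← cast_bz P b b, ← cast_bz P a a, ← cast_pz P a b, ← cast_pz P b a]
      exact_mod_cast this
    have c2 : P'.pairing (D.u a) (D.u b) * P'.RootForm (P'.root (D.u b)) (P'.root (D.u b)) =
        P'.pairing (D.u b) (D.u a) * P'.RootForm (P'.root (D.u a)) (P'.root (D.u a)) := by
      have := pz_mul_bz_comm P' (D.u a) (D.u b)
      rw [← cast_bz P' (D.u b) (D.u b), ← cast_bz P' (D.u a) (D.u a), ← cast_pz P' (D.u a) (D.u b),
        ← cast_pz P' (D.u b) (D.u a)]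
      exact_mod_cast this
    have r1 := Groth.Agent.H84.PMor.pz_rel D a b
    have r2 := Groth.Agent.H84.PMor.pz_rel D b a
    have hba : (P.pairing b a : ℤ) ≠ 0 := by
      rw [← cast_pz P b a]; exact_mod_cast fun h => hne (pz_eq_zero_symm P h)
    have hq : (D.q a : ℤ) ≠ 0 := by exact_mod_cast (D.qpos a).ne'
    have hq' : (D.q b : ℤ) ≠ 0 := by exact_mod_cast (D.qpos b).ne'
    refine mul_left_cancel₀ (mul_ne_zero hne' (mul_ne_zero hq hq')) ?_
    simp only [A, B]
    linear_combination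
      ((D.q a : ℤ) ^ 2 * (D.q b : ℤ) * P.RootForm (P.root a) (P.root a) *
        P'.RootForm (P'.root (D.u b)) (P'.root (D.u b))) * r1 +
      ((D.q a : ℤ) ^ 2 * (D.q b : ℤ) ^ 2 * P.RootForm (P.root a) (P.root a)) * c2 -
      ((D.q a : ℤ) * (D.q b : ℤ) ^ 2 * P.RootForm (P.root a) (P.root a) *
        P'.RootForm (P'.root (D.u a)) (P'.root (D.u a))) * r2 -
      ((D.q a : ℤ) * (D.q b : ℤ) ^ 3 * P'.RootForm (P'.root (D.u a)) (P'.root (D.u a))) * c1
  induction Sub.connected_of_irreducible P hirr i j with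
  | refl => rfl
  | @tail b c _ hbc ih =>
    refine mul_left_cancel₀ (hA b) ?_
    change A b * (A i * B c) = A b * (A c * B i)
    have ih' : A i * B b = A b * B i := ih
    linear_combination A i * hstep b c hbc + A c * ih'

/-- For a p-morphism between irreducible reduced root data there is a rational constant k with k ·
long(u(α)) = q(α)² · long(α) for every root α; stated as the proportionality q(α)² ℓ(α) ℓ'(u β) =
q(β)² ℓ(β) ℓ'(u α) of the canonical quadratic forms. -/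
theorem result {ι M N ι' M' N' : Type*} [AddCommGroup M] [AddCommGroup N] [AddCommGroup M'] [AddCommGroup N']
    (P : RootPairing ι ℤ M N) (P' : RootPairing ι' ℤ M' N') [Finite ι] [Finite ι'] [Fintype ι] [Fintype ι'] [P.IsReduced] [P'.IsReduced]
    (hirr : ∀ R₁ : Set ι, RootD.IsClosedSub P R₁ → RootD.IsSymmSub P R₁ → RootD.IsClosedSub P R₁ᶜ →
      RootD.IsSymmSub P R₁ᶜ → R₁ = ∅ ∨ R₁ = Set.univ)
    (hirr' : ∀ R₁ : Set ι', RootD.IsClosedSub P' R₁ → RootD.IsSymmSub P' R₁ → RootD.IsClosedSub P' R₁ᶜ →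
      RootD.IsSymmSub P' R₁ᶜ → R₁ = ∅ ∨ R₁ = Set.univ)
    (p : ℕ) (hp : 0 < p) (f : M' →ₗ[ℤ] M) (g : N →ₗ[ℤ] N')
    (hfg : ∀ (m' : M') (n : N), P.toLinearMap (f m') n = P'.toLinearMap m' (g n))
    (u : ι ≃ ι') (q : ι → ℕ) (hq : ∀ i, ∃ e : ℕ, q i = p ^ e)
    (hroot : ∀ i : ι, f (P'.root (u i)) = (q i : ℤ) • P.root i)
    (hcoroot : ∀ i : ι, g (P.coroot i) = (q i : ℤ) • P'.coroot (u i)) (i j : ι) :
    ((q i : ℤ) ^ 2 * P.RootForm (P.root i) (P.root i)) * P'.RootForm (P'.root (u j)) (P'.root (u j)) =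
      ((q j : ℤ) ^ 2 * P.RootForm (P.root j) (P.root j)) * P'.RootForm (P'.root (u i)) (P'.root (u i)) := by
  classical
  let D : Groth.Agent.H84.PMor.Data P P' := ⟨f, g, hfg, u, q,
    fun i => by obtain ⟨e, he⟩ := hq i; rw [he]; exact pow_pos hp e, hroot, hcoroot⟩
  exact main P P' D hirr i j

end Groth.Agent.S5500
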