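import Groth.Statements.S5501
import Groth.Agent.Lib.RootDatum.Basic
import Mathlib.LinearAlgebra.RootSystem.Hom
import Mathlib.LinearAlgebra.RootSystem.Basic
import Mathlib.GroupTheory.FiniteAbelian.Basic
import Mathlib.LinearAlgebra.Dimension.Torsion.Finite

set_option autoImplicit false
universe u v w
open RootD

namespace Groth.Agent.S5501

/-- Adjoint case; the simply connected case is dual: a semisimple root datum R is adjoint if and only if
every isogeny R' → R is an isomorphism. -/
theorem result {ι : Type u} {M : Type v} {N : Type w} [AddCommGroup M] [AddCommGroup N]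
    (P : RootPairing ι ℤ M N) [Finite ι] [Module.Finite ℤ M] [Module.Finite ℤ N]
    (hss : Module.finrank ℤ (Submodule.span ℤ (Set.range P.root)) = Module.finrank ℤ M) :
    Submodule.span ℤ (Set.range P.root) = ⊤ ↔
      ∀ (ι' : Type u) (M' N' : Type v) [AddCommGroup M'] [AddCommGroup N'] [Finite ι']
        [Module.Finite ℤ M'] [Module.Finite ℤ N'] (P' : RootPairing ι' ℤ M' N') (f : RootPairing.Hom P' P),
        Function.Injective f.weightMap → Finite (M ⧸ LinearMap.range f.weightMap) →
          Function.Bijective f.weightMap := by
  classical
  haveI := Groth.Agent.Lib.RootDatum.Basic.isAddTorsionFree_weight P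
  set L : Submodule ℤ M := Submodule.span ℤ (Set.range P.root) with hL
  constructor
  · intro htop ι' M' N' _ _ _ _ _ P' f hinj _
    refine ⟨hinj, fun x => ?_⟩
    have hle : L ≤ LinearMap.range f.weightMap := by
      rw [hL, Submodule.span_le]
      rintro _ ⟨k, rfl⟩
      refine ⟨P'.root (f.indexEquiv.symm k), ?_⟩
      rw [RootPairing.Hom.root_weightMap_apply, f.indexEquiv.apply_symm_apply]
    exact hle (htop.symm ▸ Submodule.mem_top : x ∈ L)
  · intro h
    haveI : Module.Finite ℤ L := Module.Finite.span_of_finite ℤ (Set.finite_range _)
    haveI : Module.Free ℤ L := inferInstance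
    let r : ι ↪ L := ⟨fun i => ⟨P.root i, Submodule.subset_span (Set.mem_range_self i)⟩,
      fun i j e => P.root.injective (congrArg Subtype.val e)⟩
    let res : N →ₗ[ℤ] Module.Dual ℤ L := L.subtype.dualMap.comp P.toLinearMap.flip
    let c : ι ↪ Module.Dual ℤ L := ⟨fun i => res (P.coroot i), fun i j e =>
      P.coroot.injective (P.injOn_dualMap_subtype_span_root_coroot (Set.mem_range_self i)
        (Set.mem_range_self j) e)⟩
    let P' : RootPairing ι ℤ L (Module.Dual ℤ L) :=
      { toLinearMap := Module.Dual.eval ℤ L
        root := r
        coroot := c
        root_coroot_two := fun i => P.root_coroot_two i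
        reflectionPerm := P.reflectionPerm
        reflectionPerm_root := fun i j => Subtype.ext (P.reflectionPerm_root i j)
        reflectionPerm_coroot := fun i j => LinearMap.ext fun x => by
          have e := congrArg (P.toLinearMap x.1) (P.reflectionPerm_coroot i j)
          rw [map_sub, map_smul] at e
          exact e }
    let f : RootPairing.Hom P' P :=
      { weightMap := L.subtype
        coweightMap := res
        indexEquiv := Equiv.refl ι
        weight_coweight_transpose := rfl
        root_weightMap := rfl
        coroot_coweightMap := rfl }
    have hfin : Finite (M ⧸ LinearMap.range f.weightMap) := by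
      change Finite (M ⧸ LinearMap.range L.subtype)
      rw [Submodule.range_subtype]
      refine Module.finite_of_fg_torsion _ (Module.finrank_eq_zero_iff_isTorsion.mp ?_)
      have := Submodule.finrank_quotient_add_finrank L
      omega
    have hb := h ι L (Module.Dual ℤ L) P' f Subtype.val_injective hfin
    exact Submodule.eq_top_iff'.mpr fun x => by
      obtain ⟨y, rfl⟩ := hb.2 x
      exact y.2

end Groth.Agent.S5501
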