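import Groth.Statements.S5502
import Groth.Agent.H84.DualSimple

set_option autoImplicit false
open RootD

namespace Groth.Agent.S5502

open Groth.Agent.Lib.RootDatum.Basic Groth.Agent.Lib.RootDatum.PosSys Groth.Agent.H84.DualSimple in
lemma main {ι M N : Type*} [AddCommGroup M] [AddCommGroup N]
    (P : RootPairing ι ℤ M N) [Finite ι] [Fintype ι] (Δ : Set ι) (hΔ : RootD.IsSimpleSys P Δ)
    (k : ι) (c : ι →₀ ℤ) (hc : ↑c.support ⊆ Δ) (hck : Finsupp.linearCombination ℤ P.root c = P.root k)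
    (i : ι) (hi : i ∈ Δ) :
    P.RootForm (P.root k) (P.root k) ∣ 2 * c i * P.RootForm (P.root i) (P.root i) ∧
      (RootD.IsIndiv P.flip i → 2 * P.RootForm (P.root k) (P.root k) ∣ 2 * c i * P.RootForm (P.root i) (P.root i)) := by
  obtain ⟨-, hm, hm1⟩ := dual_spec P i
  have h := dvd_coeff hΔ k hi
  rw [coeff_eq hΔ hc hck] at h
  rw [← cast_bz P k k, ← cast_bz P i i]
  simp only [Int.cast_eq]
  refine ⟨?_, fun hind => ?_⟩
  · rcases hm with e | e <;> rw [e] at h
    · rw [mul_one] at h; rw [mul_assoc]; exact h.mul_left 2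
    · rw [show 2 * c i * bz P i i = c i * bz P i i * 2 by ring]; exact h
  · rw [hm1 hind, mul_one] at h
    rw [mul_assoc]; exact mul_dvd_mul_left 2 h

/-- If β = Σ_{α ∈ Δ} a_α α along a system of simple roots Δ, then ℓ(β) divides 2 a_α ℓ(α), and 2ℓ(β)
divides it when α^v is indivisible (ℓ the canonical quadratic form). -/
theorem result {ι M N : Type*} [AddCommGroup M] [AddCommGroup N]
    (P : RootPairing ι ℤ M N) [Finite ι] [Fintype ι] (Δ : Set ι) (hΔ : RootD.IsSimpleSys P Δ)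
    (k : ι) (c : ι →₀ ℤ) (hc : ↑c.support ⊆ Δ) (hck : Finsupp.linearCombination ℤ P.root c = P.root k)
    (i : ι) (hi : i ∈ Δ) :
    P.RootForm (P.root k) (P.root k) ∣ 2 * c i * P.RootForm (P.root i) (P.root i) ∧
      (RootD.IsIndiv P.flip i → 2 * P.RootForm (P.root k) (P.root k) ∣ 2 * c i * P.RootForm (P.root i) (P.root i)) := by
  exact main P Δ hΔ k c hc hck i hi

end Groth.Agent.S5502
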