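import Groth.Statements.S5514
import Groth.Agent.Lib.SmWeil.MonoApps
import Groth.Agent.Lib.RG.GeomComp
import Groth.Agent.S0447

set_option autoImplicit false
open CategoryTheory MonoidalCategory CartesianMonoidalCategory MonObj GrpObj AlgebraicGeometry
universe u
open RedSub

namespace Groth.Agent.S5514

open CategoryTheory.Limits

/-- A reductive S-group G is essentially free over S: every point of S has an affine open neighbourhood
U and a flat surjective morphism from an affine scheme S' to U such that G_{S'} is covered by affine
opens whose rings of functions are projective modules over the ring of S'. -/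
theorem result {S : Scheme.{u}} (G : Over S) [GrpObj G] (hG : Red.IsReductive G) :
    SGA3x.IsEssentiallyFree G.hom := by
  obtain ⟨haff, hsm, hred⟩ := hG
  have := haff
  have := hsm
  have hconn : ∀ s : S, ConnectedSpace ↥(pullback G.hom (S.fromSpecResidueField s)) := fun s => by
    let α := Spec.map (CommRingCat.ofHom (algebraMap (S.residueField s) (AlgebraicClosure (S.residueField s))))
    have : ConnectedSpace ↥(Red.geomFibre s G).left := (hred s).2.2.1
    have hα : Surjective α := ⟨fun x => ⟨IsLocalRing.closedPoint _, Subsingleton.elim (α := PrimeSpectrum (S.residueField s)) _ _⟩⟩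
    let m : (Red.geomFibre s G).left ⟶ pullback G.hom (S.fromSpecResidueField s) :=
      (pullbackLeftPullbackSndIso G.hom (S.fromSpecResidueField s) α).inv ≫ pullback.fst _ _
    have : Surjective (pullback.fst (pullback.snd G.hom (S.fromSpecResidueField s)) α) := ⟨fun x => by
      obtain ⟨y, hy⟩ := hα.surj (pullback.snd G.hom (S.fromSpecResidueField s) x)
      obtain ⟨z, hz, -⟩ := Scheme.Pullback.exists_preimage_pullback x y hy.symm
      exact ⟨z, hz⟩⟩
    have : Surjective m := inferInstance
    exact Function.Surjective.connectedSpace m.surjective m.continuous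
  have : GeometricallyConnected G.hom := Groth.Agent.Lib.SmWeil.geometricallyConnected_grp G hconn
  have : GeometricallyIntegral G.hom := ⟨fun K _ y Z fst snd hZ => by
    have : Smooth snd := MorphismProperty.of_isPullback (P := @Smooth) hZ hsm
    have : ConnectedSpace Z := GeometricallyConnected.geometrically_connectedSpace (f := G.hom) y fst snd hZ
    exact Groth.Agent.Lib.RG.GeomComp.isIntegral_of_smooth_connected snd⟩
  intro s
  obtain ⟨_, ⟨U₀, hU₀, rfl⟩, hsU, -⟩ := S.isBasis_affineOpens.exists_subset_of_mem_open (Set.mem_univ s) isOpen_univ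
  let U : S.Opens := U₀
  have hU : IsAffineOpen U := hU₀
  have : IsAffine (U : Scheme.{u}) := hU
  refine ⟨U, hsU, hU, U, inferInstance, 𝟙 _, inferInstance, inferInstance, fun x => ?_⟩
  let P := pullback G.hom (𝟙 (U : Scheme.{u}) ≫ U.ι)
  have : IsAffine P := isAffine_of_isAffineHom (pullback.snd G.hom (𝟙 (U : Scheme.{u}) ≫ U.ι))
  refine ⟨⊤, trivial, isAffineOpen_top P, ?_⟩
  let q := (⊤ : P.Opens).ι ≫ pullback.snd G.hom (𝟙 (U : Scheme.{u}) ≫ U.ι)
  have : IsAffine ((⊤ : P.Opens) : Scheme.{u}) := isAffineOpen_top P
  have : MorphismProperty.RespectsIso (@GeometricallyIntegral : MorphismProperty Scheme.{u}) :=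
    MorphismProperty.IsStableUnderBaseChange.respectsIso
  have : IsIso (⊤ : P.Opens).ι := inferInstanceAs (IsIso P.topIso.hom)
  have : GeometricallyIntegral q :=
    (MorphismProperty.cancel_left_of_respectsIso @GeometricallyIntegral _ _).2
      (inferInstance : GeometricallyIntegral (pullback.snd G.hom (𝟙 (U : Scheme.{u}) ≫ U.ι)))
  exact Groth.Agent.S0447.result q

end Groth.Agent.S5514
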