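import Groth.Statements.S5519
import Groth.Agent.H82.R2.TranslateCover

set_option autoImplicit false
open CategoryTheory MonoidalCategory CartesianMonoidalCategory MonObj GrpObj AlgebraicGeometry
universe u
open RedSub
open Groth.Agent.Lib.RedPts Groth.Agent.H82.R2
open Groth.Agent.H82.RankOne (P P_eq P_add P_zero P_neg P_comp)
open Groth.Agent.H82.Bruhat (Adapted root_mem_unip)
open Groth.Agent.H82.Contract (isAffineHom)

namespace Groth.Agent.S5519

/-- Let G be a split reductive S-group of semisimple rank 1 (every root is a or -a, with a positive for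
the system of simple roots b), Ω ⟶ G its big cell map, and x an S-point of G_a whose coordinate
function is a unit (so u_a(x) is a section of U_a generating it). Then G = Ω ∪ u_a(x) Ω: every point
of the underlying space of G is in the image of the big cell map or of its left translate by u_a(x). -/
theorem result {S : Scheme.{u}} {G : Over S} [GrpObj G] (D : Red.SplitRed G)
    (b : D.P.Base) {n m : ℕ} (eneg : Fin n → D.idx) (epos : Fin m → D.idx)
    (hneg : RedSub.Enumerates (RedSub.negRoots D.P b) eneg) (hpos : RedSub.Enumerates (RedSub.posRoots D.P b) epos)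
    (a : D.idx) (ha : a ∈ RedSub.posRoots D.P b) (hR : ∀ c : D.idx, c = a ∨ c = D.P.reflectionPerm a a)
    (x : 𝟙_ (Over S) ⟶ Red.Ga S) (hx : IsUnit (Red.gaFn x)) (p : ↥G.left) :
    p ∈ Set.range (RedSub.cellMap D eneg epos).left.base ∨
      p ∈ Set.range ((toUnit _ ≫ x ≫ D.u a) * RedSub.cellMap D eneg epos).left.base := by
  haveI : D.P.IsCrystallographic := crys D
  haveI := reduced_of_base b
  obtain ⟨l, hA⟩ := Groth.Agent.H82.Bruhat.exists_adapted b
  haveI : IsMonHom (D.u a) := (D.rootHom a).1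
  have hla : 0 < l (D.P.root a) := (hA.pos a).1 ha
  have hsupp : ∀ c ∈ b.support, c = a := fun c hc => (hR c).resolve_right fun h => by
    have := Groth.Agent.H82.Bruhat.simple_pos hA hc
    rw [h, root_neg, map_neg] at this
    omega
  obtain ⟨Y, g, w, hY, hgp, hw, h⟩ := exists_translate hA (fun _ => x) (fun _ _ => hx) p
  obtain ⟨o⟩ := Groth.Agent.H82.Bruhat.nonempty_acPt hY
  have hs : a ∈ b.support := by
    rcases b.support.eq_empty_or_nonempty with h0 | ⟨c, hc⟩
    · exfalso
      have hmem := ha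
      simp only [RedSub.posRoots, h0, Set.mem_setOf_eq] at hmem
      simp only [Finset.coe_empty, Set.image_empty, AddSubmonoid.closure_empty, AddSubmonoid.mem_bot] at hmem
      exact D.P.ne_zero a hmem
    · exact hsupp c hc ▸ hc
  set ξ := (toUnit Y).left.appTop (Red.gaFn x) with hξ
  obtain ⟨c, hc⟩ : ∃ c, toUnit Y ≫ w = P (D.u a) c := by
    clear h
    induction hw using Submonoid.closure_induction with
    | mem g hg =>
      obtain ⟨d, hd, rfl⟩ := hg
      exact ⟨ξ, by rw [P_eq, P_comp, hsupp d hd]⟩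
    | one => exact ⟨0, by rw [MonObj.comp_one, P_zero]⟩
    | mul g g' _ _ ih ih' =>
      obtain ⟨c, hc⟩ := ih
      obtain ⟨c', hc'⟩ := ih'
      exact ⟨c + c', by rw [MonObj.comp_mul, hc, hc', P_add]⟩
  rw [hc] at h
  -- `u_a(c) Ω ⊆ Ω ∪ u_a(x) Ω`
  suffices hW : Big D l g ∨ Big D l ((toUnit Y ≫ x ≫ D.u a)⁻¹ * g) by
    rcases hW with hW | hW
    · exact Or.inl (hgp o ▸ mem_range_cell hA hneg hpos hW o)
    · exact Or.inr (hgp o ▸ mem_range_translate hA hneg hpos (x ≫ D.u a) hW o)
  obtain ⟨u, t, v, hu, hv, hg⟩ := h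
  obtain ⟨k, e, he⟩ := Groth.Agent.H82.Borel.exists_enum (D := D) {c | 0 < (-l) (D.P.root c)}
  have hmem : u ∈ Subgroup.closure {h | ∃ (d : D.idx) (z : Γ(Y.left, ⊤)),
      d = D.P.reflectionPerm a a ∧ h = P (D.u d) z} := by
    obtain ⟨z, rfl⟩ := Groth.Agent.H82.Bruhat.exists_prod_unip (fun d => by simpa using hA.ne d) e he hu
    refine Groth.Agent.H82.Bruhat.prodPts_mem_subgroup fun j => Subgroup.subset_closure ⟨e j, z j, ?_, rfl⟩
    refine (hR (e j)).resolve_left fun hj => ?_
    have := Set.ext_iff.1 he.2 _ |>.1 (Set.mem_range_self j)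
    simp only [hj, Set.mem_setOf_eq, AddMonoidHom.neg_apply] at this
    omega
  obtain ⟨r, rfl⟩ := Groth.Agent.H82.Bruhat.exists_single (c₀ := D.P.reflectionPerm a a)
    (p := fun d => d = D.P.reflectionPerm a a) (fun _ hd => hd) hmem
  -- `g = u_a(c) u_{-a}(r) t v`
  have key : ∀ c' : Γ(Y.left, ⊤), (∃ q : Y ⟶ G, P (D.u a) c' * P (D.u (D.P.reflectionPerm a a)) r = q ∧ Big D l q) →
      Big D l (P (D.u a) (c' - c) * g) := fun c' ⟨q, hq, hbig⟩ => by
    rw [sub_eq_add_neg, P_add, P_neg, _root_.mul_assoc, hg, _root_.mul_assoc _ (t ≫ D.i) v, ← _root_.mul_assoc,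
      hq, ← _root_.mul_assoc]
    exact (hbig.mul_torus t).mul_unip hv
  obtain ⟨m, hm, hd⟩ := exists_dualC b a
  have hsys := sys_of_dualC hd
  haveI := isMonHom_scl (S := S) m
  haveI := Groth.Agent.H82.R2.Cent.isMonHom_chr (D := D) (D.P.root a)
  haveI : IsMonHom (D.u (D.P.reflectionPerm a a)) := (D.rootHom _).1
  set m' : Γ(Y.left, ⊤) := res Y (↑hm.unit⁻¹ : Γ(S, ⊤))
  have hm' : res Y m * m' = 1 := by rw [← res_mul', hm.mul_val_inv, res_one]
  have hbig : ∀ c' : Γ(Y.left, ⊤), IsUnit (1 + c' * (m' * r)) →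
      ∃ q : Y ⟶ G, P (D.u a) c' * P (D.u (D.P.reflectionPerm a a)) r = q ∧ Big D l q := fun c' hc' => by
    refine ⟨_, rfl, ?_⟩
    obtain ⟨A, t', C, hAC⟩ := inC_rule hsys c' (m' * r) hc'
    rw [P_scl, ← _root_.mul_assoc (res Y m), hm', _root_.one_mul] at hAC
    rw [hAC, P_scl]
    exact ⟨_, t', _, root_mem_unip (by rw [root_neg, map_neg, AddMonoidHom.neg_apply]; omega) _,
      root_mem_unip hla _, rfl⟩
  letI := hY.isField.toField
  by_cases h1 : IsUnit (1 + c * (m' * r))
  · left
    simpa [P_zero] using key c (hbig c h1)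
  · right
    rw [P_eq (D.u a) x, P_comp, ← hξ, ← P_neg, show -ξ = (c - ξ) - c by ring]
    refine key _ (hbig _ ?_)
    have hc0 : 1 + c * (m' * r) = 0 := not_not.1 fun h => h1 (isUnit_iff_ne_zero.2 h)
    have hr : m' * r ≠ 0 := fun h => by rw [h] at hc0; simp at hc0
    rw [show 1 + (c - ξ) * (m' * r) = -(ξ * (m' * r)) by linear_combination hc0]
    exact ((hx.map _).mul (isUnit_iff_ne_zero.2 hr)).neg

end Groth.Agent.S5519
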