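import Groth.Statements.S5520
import Groth.Agent.H82.R2.TranslateCover

set_option autoImplicit false
open CategoryTheory MonoidalCategory CartesianMonoidalCategory MonObj GrpObj AlgebraicGeometry
universe u
open RedSub
open Groth.Agent.Lib.RedPts Groth.Agent.H82.R2
open Groth.Agent.H82.RankOne (P P_eq P_add P_zero P_neg P_comp)
open Groth.Agent.H82.Bruhat (Adapted root_mem_unip)
open Groth.Agent.H82.Contract (isAffineHom)

namespace Groth.Agent.S5520

/-- Let G be a split pinned reductive S-group (pinning D), Ω ⟶ G the big cell map of its system of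
positive roots, and for each simple root a let x_a be an S-point of G_a with unit coordinate. Let
U_1 be the submonoid of G(S) generated by the sections u_a(x_a), a simple. Then the open sets u Ω, u
∈ U_1, cover G. -/
theorem result {S : Scheme.{u}} {G : Over S} [GrpObj G] (D : Red.Pinning G)
    {n m : ℕ} (eneg : Fin n → D.idx) (epos : Fin m → D.idx)
    (hneg : RedSub.Enumerates (RedSub.negRoots D.P D.base) eneg) (hpos : RedSub.Enumerates (RedSub.posRoots D.P D.base) epos)
    (x : D.idx → (𝟙_ (Over S) ⟶ Red.Ga S)) (hx : ∀ a ∈ D.base.support, IsUnit (Red.gaFn (x a))) (p : ↥G.left) :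
    ∃ w ∈ Submonoid.closure {g : 𝟙_ (Over S) ⟶ G | ∃ a ∈ D.base.support, g = x a ≫ D.u a},
      p ∈ Set.range ((toUnit _ ≫ w) * RedSub.cellMap D.toSplitRed eneg epos).left.base := by
  obtain ⟨l, hA⟩ := Groth.Agent.H82.Bruhat.exists_adapted (D := D.toSplitRed) D.base
  obtain ⟨Y, g, w, hY, hgp, hw, h⟩ := exists_translate hA x hx p
  obtain ⟨o⟩ := Groth.Agent.H82.Bruhat.nonempty_acPt hY
  exact ⟨w, hw, hgp o ▸ mem_range_translate hA hneg hpos w h o⟩

end Groth.Agent.S5520
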