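import Groth.Statements.S5521
import Groth.Agent.H82.Weyl.CommFormula
-- import your own Groth.Agent.* helpers here

set_option autoImplicit false
open CategoryTheory MonoidalCategory CartesianMonoidalCategory MonObj GrpObj AlgebraicGeometry
universe u
open RedSub

namespace Groth.Agent.S5521

/-- Let G be a split reductive S-group (splitting D, root homomorphisms u_c : G_a ⟶ G), b a system of
simple roots and α, β two roots positive for b. Let e be an injective enumeration of the roots of
the form i α + j β with i, j ≥ 1, with exponents (i_k, j_k). Then there is a unique family (C_k) of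
global functions on S such that, for all points x, y of G_a (with values in any X over S), u_α(x)
u_β(y) u_α(x)⁻¹ = u_β(y) · ∏_k u_{e k}(C_k x^{i_k} y^{j_k}), the product taken in the order of e;
here a point z of G_a with coordinate C_k x^{i_k} y^{j_k} is any point whose coordinate function is
that product. -/
theorem result {S : Scheme.{u}} {G : Over S} [GrpObj G] (D : Red.SplitRed G) (b : D.P.Base)
    (α β : D.idx) (hα : α ∈ RedSub.posRoots D.P b) (hβ : β ∈ RedSub.posRoots D.P b)
    {n : ℕ} (e : Fin n → D.idx) (i j : Fin n → ℕ) (he : Function.Injective e)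
    (hij : ∀ k, 1 ≤ i k ∧ 1 ≤ j k ∧ D.P.root (e k) = (i k : ℤ) • D.P.root α + (j k : ℤ) • D.P.root β)
    (hall : ∀ (c : D.idx) (p q : ℕ), 1 ≤ p → 1 ≤ q → D.P.root c = (p : ℤ) • D.P.root α + (q : ℤ) • D.P.root β →
      c ∈ Set.range e) :
    ∃! C : Fin n → Γ(S, ⊤), ∀ (X : Over S) (x y : X ⟶ Red.Ga S) (z : Fin n → (X ⟶ Red.Ga S)),
      (∀ k, Red.gaFn (z k) = X.hom.appTop (C k) * Red.gaFn x ^ (i k) * Red.gaFn y ^ (j k)) →
        (x ≫ D.u α) * (y ≫ D.u β) * (x ≫ D.u α)⁻¹ =
          (y ≫ D.u β) * (List.ofFn (fun k => z k ≫ D.u (e k))).prod := by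
  exact Groth.Agent.H82.Weyl.commutator_formula b α β hα hβ e i j he hij hall

end Groth.Agent.S5521
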