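import Groth.Statements.S5549
import Groth.Agent.Lib.CentW.Critical

set_option autoImplicit false
open CategoryTheory MonoidalCategory CartesianMonoidalCategory MonObj GrpObj AlgebraicGeometry
universe u
open RedSub

namespace Groth.Agent.S5549

/-- For a reductive S-group G. Let T be a maximal torus of G, Q a subtorus of T, z : Z ⟶ G the
centraliser of Q in G and H a subgroup of type (R) of G containing T. Then H ∩ Z (a fibre product P
with homomorphisms P ⟶ H, P ⟶ Z) is a subgroup of type (R) of Z. -/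
theorem result {S : Scheme.{u}} {G T Q Z H : Over S} [GrpObj G] [GrpObj T] [GrpObj Q]
    [GrpObj Z] [GrpObj H] (hG : Red.IsReductive G) (i : T ⟶ G) (hT : Red.IsMaximalTorus i) (q : Q ⟶ T) [IsMonHom q]
    [Mono q] (hQ : Red.IsTorus Q) (z : Z ⟶ G) (hZ : Red.IsCentralizerOf (q ≫ i) z) (h : H ⟶ G)
    (hH : RedSub.IsTypeR h) (t : T ⟶ H) (ht : t ≫ h = i)
    (P : Over S) [GrpObj P] (a : P ⟶ H) (b : P ⟶ Z) [IsMonHom a] [IsMonHom b] (hP : IsPullback a b h z) :
    RedSub.IsTypeR b := by
  exact Groth.Agent.Lib.CentW.isTypeR_inter_centralizer hG i hT q hQ z hZ h hH t ht P a b hP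

end Groth.Agent.S5549
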