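import Groth.Statements.S5552
import Groth.Agent.H82.Bruhat.Immersion

set_option autoImplicit false
open CategoryTheory MonoidalCategory CartesianMonoidalCategory MonObj GrpObj AlgebraicGeometry
universe u
open RedSub

namespace Groth.Agent.S5552

/-- Let G be a split reductive S-group (splitting D, system of simple roots b, enumerations of the
negative and positive roots, S-points n_a realising the reflections), l a word in the roots with
Weyl element w and n_l = n_{a_1} ⋯ n_{a_k}, and e an enumeration of R_- ∩ w(R_-). Then the Bruhat
cell map G_a^{R_- ∩ w(R_-)} x_S T x_S G_a^{R_+} ⟶ G, (y, t, x) ↦ ∏ u(y) · n_l · t · ∏ u(x), is an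
immersion, and its image is contained and closed in the open translate n_l Ω of the big cell (it is
the subscheme B' N_w B of the source). -/
theorem result {S : Scheme.{u}} {G : Over S} [GrpObj G] (D : Red.SplitRed G)
    (b : D.P.Base) {n m : ℕ} (eneg : Fin n → D.idx) (epos : Fin m → D.idx)
    (hneg : RedSub.Enumerates (RedSub.negRoots D.P b) eneg) (hpos : RedSub.Enumerates (RedSub.posRoots D.P b) epos)
    (nr : D.idx → (𝟙_ (Over S) ⟶ G)) (hnr : RedSub.RealisesReflections D nr) (l : List D.idx) {k : ℕ}
    (e : Fin k → D.idx) (he : RedSub.Enumerates (RedSub.negMeetNeg D.P b (RedSub.wordPerm D.P l)) e) :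
    IsImmersion (RedSub.bruhatMap D nr l e epos).left ∧
      ∃ C : Set ↥G.left, IsClosed C ∧
        Set.range (RedSub.bruhatMap D nr l e epos).left.base =
          Set.range ((toUnit _ ≫ (l.map nr).prod) * RedSub.cellMap D eneg epos).left.base ∩ C :=
  Groth.Agent.H82.Bruhat.isImmersion_bruhatMap eneg epos hneg hpos hnr l e he

end Groth.Agent.S5552
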