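import Groth.Statements.S5554
import Groth.Agent.S4116
import Groth.Agent.Lib.CentW.TypeR
import Groth.Agent.Lib.CentW.InTori
import Groth.Agent.Lib.SmWeil.MaxTorusBC

set_option autoImplicit false
open CategoryTheory MonoidalCategory CartesianMonoidalCategory MonObj GrpObj AlgebraicGeometry
universe u
open RedSub

namespace Groth.Agent.S5554

open CategoryTheory.Limits
open Groth.Agent.Lib Groth.Agent.Lib.RedPts

set_option linter.style.haveILetI false

/-- A maximal torus of a group lying in a subgroup is maximal there. -/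
theorem isMaximalTorus_of_comp {S : Scheme.{u}} {G H T : Over S} [GrpObj G] [GrpObj H] [GrpObj T] (h : H ⟶ G)
    [IsMonHom h] [Mono h] (t : T ⟶ H) [IsMonHom t] (hT : Red.IsMaximalTorus (t ≫ h)) : Red.IsMaximalTorus t := by
  haveI := hT.2.1
  refine ⟨inferInstance, mono_of_mono t h, hT.2.2.1, fun s T'' _ j _ _ f hT'' hf => ?_⟩
  haveI : Mono (j ≫ (Over.pullback (Red.geomPt s)).map h) := mono_comp _ _
  exact hT.2.2.2 s T'' (j ≫ (Over.pullback (Red.geomPt s)).map h) f hT'' (by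
    rw [reassoc_of% hf, ← Functor.map_comp])

/-- The non-trivial point (the last arrow of 1 → W_H(T) → W_N(T) → N/H → 1 is an epimorphism of etale
sheaves), for a reductive S-group G. Let H ⟶ G be a subgroup of type (R), N ⟶ G its normaliser with
H ⟶ N, and T a maximal torus of G contained in H. Then for every X over S and every X-point n of N,
every point of X has an etale neighbourhood f : Y ⟶ X and a Y-point y of H such that (n ∘ f) · y⁻¹
normalises T. -/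
theorem result {S : Scheme.{u}} {G H N T : Over S} [GrpObj G] [GrpObj H] [GrpObj N]
    [GrpObj T] (hG : Red.IsReductive G) (h : H ⟶ G) (hH : RedSub.IsTypeR h) (nG : N ⟶ G) (hN : Red.IsNormalizerOf h nG)
    (k : H ⟶ N) (hk : k ≫ nG = h) [IsMonHom k] (t : T ⟶ H) [IsMonHom t] (hT : Red.IsMaximalTorus (t ≫ h))
    (X : Over S) (n : X ⟶ N) (p : ↥X.left) :
    ∃ (Y : Scheme.{u}) (f : Y ⟶ X.left) (_ : Etale f), p ∈ Set.range f.base ∧
      ∃ y : Over.mk (f ≫ X.hom) ⟶ H,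
        ∀ (X' : Over S) (z : X' ⟶ Over.mk (f ≫ X.hom)) (s : X' ⟶ T),
          (∃ s' : X' ⟶ T, (z ≫ ((Over.homMk f ≫ n) * (y ≫ k)⁻¹) ≫ nG) * (s ≫ t ≫ h) *
              (z ≫ ((Over.homMk f ≫ n) * (y ≫ k)⁻¹) ≫ nG)⁻¹ = s' ≫ t ≫ h) ∧
          (∃ s' : X' ⟶ T, (z ≫ ((Over.homMk f ≫ n) * (y ≫ k)⁻¹) ≫ nG)⁻¹ * (s ≫ t ≫ h) *
              (z ≫ ((Over.homMk f ≫ n) * (y ≫ k)⁻¹) ≫ nG) = s' ≫ t ≫ h) := by
  haveI := hG.1
  haveI := hG.2.1
  obtain ⟨⟨hhm, hhi⟩, hHs, hHq, -, -⟩ := hH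
  haveI := hhm
  haveI := hhi
  haveI := hHs
  haveI := hHq
  haveI : Mono h := GrpQ.mono_of_left h
  haveI : IsSeparated H.hom := by rw [← Over.w h]; infer_instance
  let a := X.hom
  haveI : Smooth (Red.bc a H).hom := inferInstanceAs (Smooth (pullback.snd H.hom a))
  haveI : QuasiCompact (Red.bc a H).hom := inferInstanceAs (QuasiCompact (pullback.snd H.hom a))
  haveI : IsSeparated (Red.bc a H).hom := inferInstanceAs (IsSeparated (pullback.snd H.hom a))
  let h' := (Over.pullback a).map h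
  let t' := (Over.pullback a).map t
  haveI : Mono h' := inferInstance
  let X₁ : Over.mk a ⟶ X := Over.homMk (𝟙 _)
  let n₁ : 𝟙_ (Over X.left) ⟶ Red.bc a G := SmWeil.ptUp a (X₁ ≫ n ≫ nG)
  have hnorm : ∀ (Y : Over X.left) (w : Y ⟶ Red.bc a H), ∃ w' : Y ⟶ Red.bc a H,
      w' ≫ h' = (toUnit Y ≫ n₁)⁻¹ * (w ≫ h') * (toUnit Y ≫ n₁) := fun Y w => by
    obtain ⟨-, h₂, e⟩ := (hN.2.2 X (n ≫ nG)).1 ⟨n, rfl⟩ _
      ((Over.map a).map (toUnit Y) ≫ (SmWeil.unitIso a).hom ≫ X₁) (BC.down a w)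
    refine ⟨BC.up a h₂, BC.down_injective ?_⟩
    rw [BC.down_mul, BC.down_mul, BC.down_inv, BC.down_map, BC.down_map, BC.down_up, SmWeil.down_toUnit_ptUp, ← e]
    simp only [Category.assoc]
  let c := SmWeil.CartanTorus.conjIso n₁⁻¹
  haveI : IsMonHom c.hom := SmWeil.CartanTorus.isMonHom_conjIso n₁⁻¹
  obtain ⟨t₂, ht₂⟩ := hnorm _ t'
  have hc : t₂ ≫ h' = (Over.pullback a).map (t ≫ h) ≫ c.hom := by
    rw [ht₂, SmWeil.CartanTorus.comp_conjIso, GrpObj.comp_inv, _root_.inv_inv, Functor.map_comp]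
  have hT' : Red.IsMaximalTorus ((Over.pullback a).map (t ≫ h)) := SmWeil.MaxTorusBC.isMaximalTorus_bc _ hT a
  have hT'' := CentW.isMaximalTorus_iso hT' c
  rw [← hc] at hT''
  rw [Functor.map_comp] at hT'
  haveI : IsMonHom t₂ := by
    haveI := hT''.1
    exact H1.Classical.CentralizerBorel.isMonHom_of_mono_comp t₂ h'
  have h1 := isMaximalTorus_of_comp h' t' hT'
  have h2 := isMaximalTorus_of_comp h' t₂ hT''
  obtain ⟨Y, f, hf, hfs, g, hg⟩ := Groth.Agent.S4116.result X.left (Red.bc a H) _ _ t' t₂ h1 h2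
  haveI := hfs
  have htr := SmWeil.transports_of_conjBy f g hg
  let y₀ : Over.mk f ⟶ Red.bc a H := (SmWeil.unitIso f).inv ≫ BC.down f g
  let θ : Over.mk (f ≫ a) ⟶ (Over.map a).obj (Over.mk f) := Over.homMk (𝟙 _)
  refine ⟨Y, f, hf, f.surjective p, (θ ≫ BC.down a y₀)⁻¹, fun X' z s => ?_⟩
  let W : Over X.left := Over.mk (z.left ≫ f)
  let ζ : W ⟶ Over.mk f := Over.homMk z.left rfl
  let ε : (Over.map a).obj W ≅ X' := Over.isoMk (Iso.refl _) (by
    show 𝟙 _ ≫ X'.hom = (z.left ≫ f) ≫ a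
    rw [Category.id_comp, Category.assoc, ← Over.w z]
    rfl)
  have hz : ε.hom ≫ z ≫ θ = (Over.map a).map ζ := Over.OverMorphism.ext (by simp [ε, θ, ζ])
  have hzn : ε.hom ≫ z ≫ (Over.homMk f : Over.mk (f ≫ X.hom) ⟶ X) ≫ n ≫ nG =
      BC.down a (toUnit W ≫ n₁) := by
    rw [SmWeil.down_toUnit_ptUp]
    simp only [← Category.assoc]
    congr 2
  have hy : ε.hom ≫ z ≫ θ ≫ BC.down a y₀ ≫ h = BC.down a ((ζ ≫ y₀) ≫ h') := by
    rw [reassoc_of% hz, BC.down_map, ← Category.assoc, ← BC.down_comp]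
  have hw : ε.hom ≫ z ≫ ((Over.homMk f ≫ n) * ((θ ≫ BC.down a y₀)⁻¹ ≫ k)⁻¹) ≫ nG =
      BC.down a (toUnit W ≫ n₁) * BC.down a ((ζ ≫ y₀) ≫ h') := by
    haveI := hN.1
    rw [← hzn, ← hy]
    simp only [GrpObj.inv_comp, GrpObj.comp_inv, MonObj.comp_mul, MonObj.mul_comp, _root_.inv_inv, Category.assoc, hk]
  have hconj : ∀ b : W ⟶ Red.bc a T, (b ≫ t₂) ≫ h' =
      (toUnit W ≫ n₁)⁻¹ * ((b ≫ t') ≫ h') * (toUnit W ≫ n₁) := fun b => by
    rw [Category.assoc, ht₂, MonObj.comp_mul, MonObj.comp_mul, GrpObj.comp_inv, ← Category.assoc b,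
      toUnit_unique (b ≫ toUnit _) (toUnit W), Category.assoc]
  have htd : ∀ v : W ⟶ Red.bc a T, BC.down a ((v ≫ t') ≫ h') = BC.down a v ≫ t ≫ h := fun v => by
    rw [BC.down_map, BC.down_map, Category.assoc]
  constructor
  · obtain ⟨b, hb⟩ := (htr W ζ).1 (BC.up a (ε.hom ≫ s))
    refine ⟨ε.inv ≫ BC.down a b, ?_⟩
    have e1 := congrArg (fun v => BC.down a (v ≫ h')) hb
    simp only [MonObj.mul_comp, GrpObj.inv_comp, hconj] at e1
    rw [BC.down_mul, BC.down_mul, BC.down_mul, BC.down_mul, BC.down_inv, BC.down_inv, htd, htd, BC.down_up] at e1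
    rw [← cancel_epi ε.hom]
    simp only [MonObj.comp_mul, GrpObj.comp_inv, Category.assoc, Iso.hom_inv_id_assoc]
    rw [hw]
    simp only [Category.assoc, y₀] at e1 ⊢
    rw [_root_.mul_inv_rev]
    refine Eq.trans ?_ (congrArg (fun v => BC.down a (toUnit W ≫ n₁) * v * (BC.down a (toUnit W ≫ n₁))⁻¹) e1 |>.trans ?_)
    · group
    · group
  · obtain ⟨b, hb⟩ := (htr W ζ).2 (BC.up a (ε.hom ≫ s))
    refine ⟨ε.inv ≫ BC.down a b, ?_⟩
    have e1 := congrArg (fun v => BC.down a (v ≫ h')) hb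
    simp only [MonObj.mul_comp, GrpObj.inv_comp, hconj] at e1
    rw [BC.down_mul, BC.down_mul, BC.down_mul, BC.down_mul, BC.down_inv, BC.down_inv, htd, htd, BC.down_up] at e1
    rw [← cancel_epi ε.hom]
    simp only [MonObj.comp_mul, GrpObj.comp_inv, Category.assoc, Iso.hom_inv_id_assoc]
    rw [hw]
    simp only [Category.assoc, y₀] at e1 ⊢
    rw [← e1, _root_.mul_inv_rev]
    group

end Groth.Agent.S5554
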