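import Groth.Statements.S5564
import Groth.Agent.H82.R2.CorootChar.Derived
import Groth.Agent.H82.Weyl.BaseReduced
import Groth.Agent.H82.Roots.Base
import Groth.Agent.H82.Reduced.Main

set_option autoImplicit false
set_option maxHeartbeats 400000
open CategoryTheory MonoidalCategory CartesianMonoidalCategory MonObj GrpObj AlgebraicGeometry
universe u
open RedSub
open Groth.Agent.Lib.RedPts Groth.Agent.H82 Groth.Agent.H82.R2 Groth.Agent.H82.R2.CorootChar Groth.Agent.H82.Contract Groth.Agent.H82.Weyl

namespace Groth.Agent.S5564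

/-- Let G be a split reductive S-group (splitting D, torus T ≅ D_S(M)), D' = dér(G) ⟶ G its derived
group and N = {m ∈ M | (α*, m) = 0 for every coroot α*}. Then (dér(G), T', M/N, R) is a splitting:
D' admits a splitting whose character group is identified with M/N carrying root to root (through a
bijection of index sets), whose torus maps to T over the inclusion D' ⟶ G compatibly with D_S(M/N) ⟶
D_S(M), and whose root homomorphisms composed with D' ⟶ G are the u_a. -/
theorem result {S : Scheme.{u}} {G D' : Over S} [GrpObj G] [GrpObj D'] (D : Red.SplitRed G)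
    (d : D' ⟶ G) [IsMonHom d]
    (hker : ∃ (C : Over S) (_ : GrpObj C) (f₀ : G ⟶ C), IsMonHom f₀ ∧ (∀ (X : Over S) (a b : X ⟶ C), a * b = b * a) ∧
      AlgGrp.IsKernel d f₀)
    (hkill : RedSub.KilledByCommutative d)
    (N : AddSubgroup D.M) (hN : ∀ m : D.M, m ∈ N ↔ ∀ a : D.idx, D.P.coroot a m = 0) :
    ∃ (Dd : Red.SplitRed D') (τ : Dd.T ⟶ D.T) (eidx : Dd.idx ≃ D.idx) (em : Dd.M ≃+ D.M ⧸ N),
      τ ≫ D.i = Dd.i ≫ d ∧
      τ ≫ D.split.hom.hom.hom =
        Dd.split.hom.hom.hom ≫ Red.DSmap S (em.symm.toAddMonoidHom.comp (QuotientAddGroup.mk' N)) ∧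
      (∀ a' : Dd.idx, em (Dd.P.root a') = QuotientAddGroup.mk' N (D.P.root (eidx a'))) ∧
      (∀ a' : Dd.idx, Dd.u a' ≫ d = D.u (eidx a')) := by
  classical
  haveI := free_quot hN
  haveI := finite_quot hN
  rcases isEmpty_or_nonempty S with hS | hS
  · haveI : ∀ X : Over S, IsEmpty X.left := fun X => Function.isEmpty X.hom.base
    have hsub : ∀ (X Y : Over S) (f g : X ⟶ Y), f = g := fun X Y f g =>
      Over.OverMorphism.ext (isInitialOfIsEmpty.hom_ext _ _)
    let w : ∀ X Y : Over S, X ⟶ Y := fun X Y =>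
      Over.homMk (isInitialOfIsEmpty.to _) (isInitialOfIsEmpty.hom_ext _ _)
    refine ⟨{ T := Red.DS S (D.M ⧸ N)
              i := w _ _
              M := D.M ⧸ N
              idx := D.idx
              P := qPairing hN
              pairing_eq := rfl
              u := fun a => w _ _
              reductive := ⟨inferInstance, inferInstance, fun s => (hS.false s).elim⟩
              maximalTorus := ⟨⟨hsub _ _ _ _, hsub _ _ _ _⟩, ⟨fun a b _ => hsub _ _ _ _⟩,
                Groth.Agent.Lib.Tori.Basic.isTorus_DS S (D.M ⧸ N), fun s => (hS.false s).elim⟩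
              split := Iso.refl _
              rootHom := fun a => ⟨⟨hsub _ _ _ _, hsub _ _ _ _⟩, inferInstance,
                fun X t x => ⟨x, hsub _ _ _ _, by
                  haveI : Subsingleton Γ(X.left, ⊤) := by
                    rw [show (⊤ : X.left.Opens) = ⊥ from Subsingleton.elim _ _]
                    exact CommRingCat.subsingleton_of_isTerminal X.left.sheaf.isTerminalOfEmpty
                  exact Subsingleton.elim _ _⟩⟩
              refl := fun a => ⟨w _ _, fun X t => hsub _ _ _ _⟩
              dim_fibre := fun s => (hS.false s).elim },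
      w _ _, Equiv.refl _, AddEquiv.refl _, hsub _ _ _ _, hsub _ _ _ _, fun a => rfl, fun a => hsub _ _ _ _⟩
  haveI := Reduced.isReduced D
  obtain ⟨b⟩ : Nonempty D.P.Base := Roots.nonempty_base
  obtain ⟨n, eneg, hneg⟩ := Borel.exists_enum (D := D) (RedSub.negRoots D.P b)
  obtain ⟨m, epos, hpos⟩ := Borel.exists_enum (D := D) (RedSub.posRoots D.P b)
  have hk := isKernel_of_killed hN hneg hpos d hker hkill
  haveI := mono_ker hN hneg hpos hk
  haveI := isClosedImmersion_d hN hneg hpos hk
  haveI := isMonHom_fromQuot (D := D) hN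
  haveI : IsMonHom D.i := D.maximalTorus.1
  set f := extend (quotSetup hN b eneg epos hneg hpos)
  obtain ⟨i', hi'⟩ := exists_lift_ker hN hneg hpos hk (p := fromQuot D N ≫ D.i) (by
    rw [Category.assoc, i_extend]
    exact fromQuot_toN)
  haveI : IsMonHom i' := Groth.Agent.H87.HomDS.isMonHom_of_points i' fun X x y => (cancel_mono d).1 (by
    rw [MonObj.mul_comp (x ≫ i') (y ≫ i') d]
    simp only [Category.assoc, hi']
    rw [← MonObj.mul_comp x y (fromQuot D N ≫ D.i)])
  have hu : ∀ a, ∃ v : Red.Ga S ⟶ D', v ≫ d = D.u a := fun a =>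
    exists_lift_ker hN hneg hpos hk (root_extend (quotSetup hN b eneg epos hneg hpos) a)
  choose u hu using hu
  have key : ∀ {X : Over S} (t : X ⟶ Red.DS S (D.M ⧸ N)) (r : D.M),
      Gm.dsFn ((t ≫ fromQuot D N) ≫ D.split.hom.hom.hom) r = Gm.dsFn t (QuotientAddGroup.mk' N r) := fun t r => by
    rw [fromQuot, Category.assoc, Category.assoc, split_inv_hom, Category.comp_id, Gm.dsFn_DSmap]
  refine ⟨{ T := Red.DS S (D.M ⧸ N)
            i := i'
            M := D.M ⧸ N
            idx := D.idx
            P := qPairing hN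
            pairing_eq := rfl
            u := u
            reductive := isReductive_derived hN hneg hpos hk
            maximalTorus := isMaximalTorus_derived hN hneg hpos hk i' hi'
            split := Iso.refl _
            rootHom := fun a => ?_
            refl := fun a => ?_
            dim_fibre := dim_derived hN hneg hpos hk },
    fromQuot D N, Equiv.refl _, AddEquiv.refl _, hi'.symm, ?_, fun a => rfl, hu⟩
  · haveI : IsMonHom (D.u a) := (D.rootHom a).1
    haveI : IsMonHom (u a) := Groth.Agent.H87.HomDS.isMonHom_of_points (u a) fun X x y => (cancel_mono d).1 (by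
      rw [MonObj.mul_comp (x ≫ u a) (y ≫ u a) d]
      simp only [Category.assoc, hu]
      rw [← MonObj.mul_comp x y (D.u a)])
    refine ⟨inferInstance, ?_, fun X t x => ?_⟩
    · haveI : IsClosedImmersion ((u a).left ≫ d.left) := by
        rw [← Over.comp_left, hu]; exact (D.rootHom a).2.1
      exact IsClosedImmersion.of_comp (u a).left d.left
    · obtain ⟨y, hy, hy'⟩ := (D.rootHom a).2.2 X (t ≫ fromQuot D N) x
      refine ⟨y, (cancel_mono d).1 ?_, hy'.trans ?_⟩
      · rw [Category.assoc, hu, hy, MonObj.mul_comp _ _ d, MonObj.mul_comp _ _ d, GrpObj.inv_comp _ d]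
        simp only [Category.assoc, hi', hu]
      · refine congrArg (· * Red.gaFn x) ?_
        rw [← Category.assoc, Gm.gmFn_chi, key]
        change _ = Red.gmFn (t ≫ 𝟙 _ ≫ Red.chi S _)
        rw [Category.id_comp, Gm.gmFn_chi]
        rfl
  · obtain ⟨n', hn'⟩ := exists_refl_derived hN hneg hpos hk a
    refine ⟨n', fun X t => (cancel_mono d).1 ?_⟩
    rw [MonObj.mul_comp _ _ d, MonObj.mul_comp _ _ d, GrpObj.inv_comp _ d]
    simp only [Category.assoc, hi']
    have h1 := hn' X (t ≫ fromQuot D N)
    simp only [Category.assoc] at h1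
    rw [h1]
    have e1 : (𝟙 (Grp.mk (Red.DS S (D.M ⧸ N))) : Grp.mk (Red.DS S (D.M ⧸ N)) ⟶ Grp.mk (Red.DS S (D.M ⧸ N))).hom.hom = 𝟙 (Red.DS S (D.M ⧸ N)) := rfl
    simp only [Iso.refl_hom, Iso.refl_inv, e1, Category.id_comp]
    simp only [← Category.assoc]
    refine congrArg (· ≫ D.i) (ext_dsFn fun r => ?_)
    simp only [Category.assoc]
    rw [split_inv_hom, Category.comp_id, ← Category.assoc, ← Category.assoc, Gm.dsFn_DSmap, key,
      ← Category.assoc t (Red.DSmap S _), ← Category.assoc (t ≫ Red.DSmap S _), key, Gm.dsFn_DSmap]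
    refine congrArg (Gm.dsFn t) ?_
    change QuotientAddGroup.mk' N (D.P.reflection a r) = _
    change _ = (qPairing hN).reflection a (QuotientAddGroup.mk' N r)
    rw [D.P.reflection_apply, (qPairing hN).reflection_apply, map_sub, map_zsmul,
      show D.P.coroot' a r = D.P.coroot a r by rw [RootPairing.coroot', LinearMap.flip_apply, D.pairing_eq]; rfl]
    rfl
  · refine Gm.dsFn_ext fun r => ?_
    change Gm.dsFn (fromQuot D N ≫ D.split.hom.hom.hom) r = Gm.dsFn (𝟙 _ ≫ Red.DSmap S _) r
    refine (congrArg (fun z => Gm.dsFn (z ≫ D.split.hom.hom.hom) r) (Category.id_comp (fromQuot D N)).symm).trans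
      ((key _ r).trans ?_)
    exact (Gm.dsFn_DSmap (𝟙 (Red.DS S (D.M ⧸ N))) (QuotientAddGroup.mk' N) r).symm

end Groth.Agent.S5564
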