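import Groth.Statements.S5566
import Groth.Agent.H82.R2.TranslateCover

set_option autoImplicit false
open CategoryTheory MonoidalCategory CartesianMonoidalCategory MonObj GrpObj AlgebraicGeometry
universe u
open RedSub
open Groth.Agent.Lib.RedPts Groth.Agent.H82.R2
open Groth.Agent.H82.RankOne (P P_eq P_add P_zero P_neg P_comp)
open Groth.Agent.H82.Bruhat (Adapted root_mem_unip)
open Groth.Agent.H82.Contract (isAffineHom)

namespace Groth.Agent.S5566

/-- Let G be a split reductive S-group (splitting D, system of simple roots b, big cell Ω ⟶ G), a a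
simple root, u_a(x) a section of U_a with x of unit coordinate, and v = u_{-a}(y) any section of
U_{-a}. Then Ω · v ⊆ Ω ∪ u_a(x) · Ω. -/
theorem result {S : Scheme.{u}} {G : Over S} [GrpObj G] (D : Red.SplitRed G)
    (b : D.P.Base) {n m : ℕ} (eneg : Fin n → D.idx) (epos : Fin m → D.idx)
    (hneg : RedSub.Enumerates (RedSub.negRoots D.P b) eneg) (hpos : RedSub.Enumerates (RedSub.posRoots D.P b) epos)
    (a : D.idx) (ha : a ∈ b.support) (x : 𝟙_ (Over S) ⟶ Red.Ga S) (hx : IsUnit (Red.gaFn x))
    (y : 𝟙_ (Over S) ⟶ Red.Ga S) :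
    Set.range (RedSub.cellMap D eneg epos * (toUnit _ ≫ y ≫ D.u (D.P.reflectionPerm a a))).left.base ⊆
      Set.range (RedSub.cellMap D eneg epos).left.base ∪
        Set.range ((toUnit _ ≫ x ≫ D.u a) * RedSub.cellMap D eneg epos).left.base := by
  haveI : D.P.IsCrystallographic := crys D
  haveI := reduced_of_base b
  obtain ⟨l, hA⟩ := Groth.Agent.H82.Bruhat.exists_adapted b
  rintro _ ⟨q, rfl⟩
  obtain ⟨Y, r, hY, hr⟩ := Groth.Agent.H82.Bruhat.exists_acPt _ q
  obtain ⟨o⟩ := Groth.Agent.H82.Bruhat.nonempty_acPt hY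
  haveI : IsMonHom (D.u a) := (D.rootHom a).1
  set f := RedSub.cellMap D eneg epos * (toUnit _ ≫ y ≫ D.u (D.P.reflectionPerm a a)) with hf
  have e : (r ≫ f).left o = f.left q := by
    rw [Over.comp_left, Scheme.Hom.comp_apply, hr o]
  have hg : r ≫ f = (r ≫ RedSub.cellMap D eneg epos) *
      P (D.u (D.P.reflectionPerm a a)) ((toUnit Y).left.appTop (Red.gaFn y)) := by
    rw [hf, MonObj.comp_mul, ← Category.assoc r, toUnit_unique (r ≫ toUnit _) (toUnit Y), P_eq _ y, P_comp]
  rcases big_step hA ha hY.isField (x := (toUnit Y).left.appTop (Red.gaFn x)) (hx.map _)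
    (big_comp_cellMap hA hneg hpos r) ((toUnit Y).left.appTop (Red.gaFn y)) with h | h
  · left
    rw [← hg] at h
    exact e ▸ mem_range_cell hA hneg hpos h o
  · right
    rw [← hg, P_neg, ← P_comp, ← P_eq] at h
    exact e ▸ mem_range_translate hA hneg hpos (x ≫ D.u a) h o

end Groth.Agent.S5566
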