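import Groth.Statements.S5570
import Groth.Agent.Lib.CentW.Critical

set_option autoImplicit false
open CategoryTheory MonoidalCategory CartesianMonoidalCategory MonObj GrpObj AlgebraicGeometry
universe u
open RedSub

namespace Groth.Agent.S5570

/-- Let G be a reductive S-group, q : Q ⟶ G a subtorus, z : Z ⟶ G its centraliser, ZZ ⟶ Z the centre of
Z and R = rad(Z) ⟶ ZZ its maximal torus. Then Q ⊆ rad(Z), and Z is the centraliser in G of rad(Z).
(So Centr_G(Q) is critical.) -/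
theorem result {S : Scheme.{u}} {G Q Z ZZ R : Over S} [GrpObj G] [GrpObj Q] [GrpObj Z]
    [GrpObj ZZ] [GrpObj R] (hG : Red.IsReductive G) (q : Q ⟶ G) [IsMonHom q] [Mono q] (hQ : Red.IsTorus Q) (z : Z ⟶ G)
    (hZ : Red.IsCentralizerOf q z) (jz : ZZ ⟶ Z) (hZZ : Red.IsCentre jz) (r : R ⟶ ZZ) (hR : Red.IsMaximalTorus r) :
    (∃ q' : Q ⟶ R, q' ≫ r ≫ jz ≫ z = q) ∧ Red.IsCentralizerOf (r ≫ jz ≫ z) z := by
  exact Groth.Agent.Lib.CentW.centralizer_critical hG q hQ z hZ jz hZZ r hR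

end Groth.Agent.S5570
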