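import Groth.Statements.S5572
import Groth.Agent.H82.R2.CorootChar.Kernel
import Groth.Agent.H82.Weyl.BaseReduced
import Groth.Agent.H82.Roots.Base
import Groth.Agent.H82.Reduced.Main

set_option autoImplicit false
open CategoryTheory MonoidalCategory CartesianMonoidalCategory MonObj GrpObj AlgebraicGeometry
universe u
open RedSub
open Groth.Agent.H82.R2 Groth.Agent.H82.R2.CorootChar

namespace Groth.Agent.S5572

/-- Let G be a split reductive S-group (splitting D, T ≅ D_S(M)) and N = {m | (α*, m) = 0 for all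
coroots}, so that T/T' = D_S(N). Then there is a homomorphism f : G ⟶ D_S(N) inducing on T the
canonical projection; any kernel of f is smooth over S with connected fibres and is killed by every
homomorphism from G to a commutative S-group scheme. -/
theorem result {S : Scheme.{u}} {G : Over S} [GrpObj G] (D : Red.SplitRed G)
    (N : AddSubgroup D.M) (hN : ∀ m : D.M, m ∈ N ↔ ∀ a : D.idx, D.P.coroot a m = 0) :
    ∃ f : G ⟶ Red.DS S ↥N, IsMonHom f ∧ D.i ≫ f = D.split.hom.hom.hom ≫ Red.DSmap S N.subtype ∧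
      ∀ (K : Over S) [GrpObj K] (k : K ⟶ G) [IsMonHom k], AlgGrp.IsKernel k f →
        Smooth K.hom ∧ RedSub.HasConnectedFibres K ∧ RedSub.KilledByCommutative k := by
  classical
  rcases isEmpty_or_nonempty S with hS | hS
  · haveI : ∀ X : Over S, IsEmpty X.left := fun X => Function.isEmpty X.hom.base
    have hsub : ∀ (X Y : Over S) (f g : X ⟶ Y), f = g := fun X Y f g => Over.OverMorphism.ext (isInitialOfIsEmpty.hom_ext _ _)
    let f : G ⟶ Red.DS S ↥N := Over.homMk (isInitialOfIsEmpty.to _) (isInitialOfIsEmpty.hom_ext _ _)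
    exact ⟨f, ⟨hsub _ _ _ _, hsub _ _ _ _⟩, hsub _ _ _ _, fun K _ k _ hk =>
      ⟨inferInstance, fun s => (hS.false s).elim, fun A _ g _ _ => hsub _ _ _ _⟩⟩
  haveI := Groth.Agent.H82.Reduced.isReduced D
  obtain ⟨b⟩ : Nonempty D.P.Base := Groth.Agent.H82.Roots.nonempty_base
  obtain ⟨n, eneg, hneg⟩ := Groth.Agent.H82.Borel.exists_enum (D := D) (RedSub.negRoots D.P b)
  obtain ⟨m, epos, hpos⟩ := Groth.Agent.H82.Borel.exists_enum (D := D) (RedSub.posRoots D.P b)
  exact ⟨extend (quotSetup hN b eneg epos hneg hpos), isMonHom_extend _, i_extend _, fun K _ k _ hk =>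
    ⟨smooth_ker hN hneg hpos hk, connected_ker hN hneg hpos hk, killed_ker hN hneg hpos hk⟩⟩

end Groth.Agent.S5572
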