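import Groth.Statements.S5577
import Groth.Agent.H82.R2.CorootChar.Quot

set_option autoImplicit false
open CategoryTheory MonoidalCategory CartesianMonoidalCategory MonObj GrpObj AlgebraicGeometry
universe u
open RedSub
open Groth.Agent.Lib.RedPts Groth.Agent.H82.R2 Groth.Agent.H82.R2.CorootChar
open Groth.Agent.H82.Contract (exists_factor isAffineHom)

namespace Groth.Agent.S5577

/-- Let G be a split reductive S-group (splitting D, T ≅ D_S(M), system of simple roots b, big cell map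
c : Ω ⟶ G), N = {m | (α*, m) = 0 for all coroots} and f : Ω ⟶ D_S(N) = T/T' the T-component followed
by D_S(M) ⟶ D_S(N). Then f is generically multiplicative: there is an open V ⊆ Ω x_S Ω containing
the unit point such that for all points x, y of Ω with (x, y) in V there is a point z of Ω with c(z)
= c(x) c(y) and f(z) = f(x) f(y). -/
theorem result {S : Scheme.{u}} {G : Over S} [GrpObj G]
    (D : Red.SplitRed G) (b : D.P.Base) {n m : ℕ} (eneg : Fin n → D.idx) (epos : Fin m → D.idx)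
    (hneg : RedSub.Enumerates (RedSub.negRoots D.P b) eneg) (hpos : RedSub.Enumerates (RedSub.posRoots D.P b) epos)
    (N : AddSubgroup D.M) (hN : ∀ x : D.M, x ∈ N ↔ ∀ c : D.idx, D.P.coroot c x = 0) :
    ∃ V : Set ↥((RedSub.pow (Red.Ga S) n ⊗ (D.T ⊗ RedSub.pow (Red.Ga S) m)) ⊗ (RedSub.pow (Red.Ga S) n ⊗ (D.T ⊗ RedSub.pow (Red.Ga S) m))).left, IsOpen V ∧
      (∀ u₀ : 𝟙_ (Over S) ⟶ RedSub.pow (Red.Ga S) n ⊗ (D.T ⊗ RedSub.pow (Red.Ga S) m), u₀ ≫ RedSub.cellMap D eneg epos = 1 →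
        Set.range (lift u₀ u₀).left.base ⊆ V) ∧
      ∀ (X : Over S) (x y : X ⟶ RedSub.pow (Red.Ga S) n ⊗ (D.T ⊗ RedSub.pow (Red.Ga S) m)), Set.range (lift x y).left.base ⊆ V →
        ∃ z : X ⟶ RedSub.pow (Red.Ga S) n ⊗ (D.T ⊗ RedSub.pow (Red.Ga S) m),
          z ≫ RedSub.cellMap D eneg epos = (x ≫ RedSub.cellMap D eneg epos) * (y ≫ RedSub.cellMap D eneg epos) ∧
          z ≫ snd _ _ ≫ fst _ _ ≫ D.split.hom.hom.hom ≫ Red.DSmap S N.subtype =
            (x ≫ snd _ _ ≫ fst _ _ ≫ D.split.hom.hom.hom ≫ Red.DSmap S N.subtype) *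
              (y ≫ snd _ _ ≫ fst _ _ ≫ D.split.hom.hom.hom ≫ Red.DSmap S N.subtype) := by
  haveI := isMonHom_extend (quotSetup hN b eneg epos hneg hpos)
  let Q := quotSetup hN b eneg epos hneg hpos
  haveI : IsOpenImmersion (RedSub.cellMap D eneg epos).left := inferInstanceAs (IsOpenImmersion Q.cell.left)
  let c := RedSub.cellMap D eneg epos
  let Ω : Over S := RedSub.pow (Red.Ga S) n ⊗ (D.T ⊗ RedSub.pow (Red.Ga S) m)
  let P : Ω ⊗ Ω ⟶ G := (fst _ _ ≫ c) * (snd _ _ ≫ c)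
  refine ⟨(P.left ⁻¹ᵁ (RedSub.cellMap D eneg epos).left.opensRange).carrier,
    (P.left ⁻¹ᵁ (RedSub.cellMap D eneg epos).left.opensRange).2, fun u₀ hu₀ => ?_, fun X x y hr => ?_⟩
  · rintro _ ⟨p, rfl⟩
    change P.left ((lift u₀ u₀).left p) ∈ Set.range (RedSub.cellMap D eneg epos).left
    rw [← Scheme.Hom.comp_apply, ← Over.comp_left,
      show lift u₀ u₀ ≫ P = u₀ ≫ c from by
        simp only [P, c, MonObj.comp_mul, lift_fst_assoc, lift_snd_assoc]
        rw [hu₀, _root_.one_mul]]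
    exact ⟨u₀.left p, (Scheme.Hom.comp_apply _ _ _).symm⟩
  · have e : lift x y ≫ P = (x ≫ c) * (y ≫ c) := by
      simp only [P, MonObj.comp_mul, lift_fst_assoc, lift_snd_assoc]
    obtain ⟨z, hz⟩ := exists_factor (RedSub.cellMap D eneg epos) (lift x y ≫ P) (by
      rintro _ ⟨p, rfl⟩
      rw [Over.comp_left, Scheme.Hom.comp_apply]
      exact hr ⟨p, rfl⟩)
    refine ⟨z, hz.trans e, ?_⟩
    have hv : ∀ w : X ⟶ Ω, (w ≫ c) ≫ extend Q =
        w ≫ snd _ _ ≫ fst _ _ ≫ D.split.hom.hom.hom ≫ Red.DSmap S N.subtype := fun w => by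
      refine (extend_cell Q (val_cell Q w)).trans ?_
      simp [cellVal, Q, quotSetup, toN]
    have h := congrArg (fun p => p ≫ extend Q) (hz.trans e)
    simp only [MonObj.mul_comp _ _ (extend Q)] at h
    exact (hv z).symm.trans (h.trans (congrArg₂ (· * ·) (hv x) (hv y)))

end Groth.Agent.S5577
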