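import Groth.Statements.S5580
import Mathlib
import Groth.Agent.Lib.ToposFin.Alg

set_option autoImplicit false
open CategoryTheory CategoryTheory.Limits Opposite
universe u
open ToposFin

open Groth
namespace Groth.Agent.S5580

/-- Quasi-compact and coherent cases: for the topos of sheaves of sets on a small site: let (X_i) be a
finite family of objects with coproduct X (given as a colimit cofan) and f : X -> Y a morphism with
components f_i : X_i -> Y. Then f is quasi-compact (resp. coherent) if and only if every f_i is. -/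
theorem result {C : Type u} [SmallCategory C] {J : GrothendieckTopology C}
    {Y : ToposFin.Sh J} {n : ℕ} (X : Fin n → ToposFin.Sh J) (c : Cofan X) (hc : IsColimit c)
    (f : c.pt ⟶ Y) :
    (ToposFin.IsQCHom f ↔ ∀ i, ToposFin.IsQCHom (c.inj i ≫ f)) ∧
    (ToposFin.IsCohHom f ↔ ∀ i, ToposFin.IsCohHom (c.inj i ≫ f)) := by
    simp only [ToposFin.IsCohHom, TFin.qcp_iff, TFin.qsp_iff]
    let X' := fun k : ULift.{u} (Fin n) => X k.down
    let c' : Cofan X' := Cofan.mk c.pt fun k => c.inj k.down
    let hc' : IsColimit c' := mkCofanColimit c' (fun t => Cofan.IsColimit.desc hc fun i => t.inj ⟨i⟩)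
      (fun t k => Cofan.IsColimit.fac hc _ k.down)
      (fun t m hm => Cofan.IsColimit.hom_ext hc _ _ fun i =>
        (hm ⟨i⟩).trans (Cofan.IsColimit.fac hc (fun i => t.inj ⟨i⟩) i).symm)
    have hq : ∀ k : ULift.{u} (Fin n), TFin.QCP J (c'.inj k) := TFin.qcp_inj hc'
    have hs : ∀ k : ULift.{u} (Fin n), TFin.QSP J (c'.inj k) := fun k =>
      have := TFin.inj_mono hc' k
      TFin.qsp_of_mono (c'.inj k)
    refine ⟨⟨fun h i => (TFin.QCP J).comp_mem _ _ (hq ⟨i⟩) h,
        fun h => TFin.qcp_of_finite_cover f _ (TFin.ef_inj hc') fun k => h k.down⟩,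
      ⟨fun h i => ⟨(TFin.QCP J).comp_mem _ _ (hq ⟨i⟩) h.1, (TFin.QSP J).comp_mem _ _ (hs ⟨i⟩) h.2⟩,
        fun h => ⟨TFin.qcp_of_finite_cover f _ (TFin.ef_inj hc') fun k => (h k.down).1,
          TFin.qsp_of_source_cover f _ (TFin.ef_inj hc') hq fun k => (h k.down).2⟩⟩⟩

end Groth.Agent.S5580
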