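import Groth.Statements.S5581
import Mathlib
import Groth.Agent.Lib.ToposFin.Alg

set_option autoImplicit false
open CategoryTheory CategoryTheory.Limits Opposite
universe u
open ToposFin

open Groth
namespace Groth.Agent.S5581

/-- Quasi-separated case: for the topos of sheaves of sets on a small site: let (X_i) be a small family
of objects (not necessarily finite) with coproduct X (given as a colimit cofan) and f : X -> Y a
morphism with components f_i : X_i -> Y. Then f is quasi-separated if and only if every f_i is. -/
theorem result {C : Type u} [SmallCategory C] {J : GrothendieckTopology C}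
    {Y : ToposFin.Sh J} {ι : Type u} (X : ι → ToposFin.Sh J) (c : Cofan X) (hc : IsColimit c)
    (f : c.pt ⟶ Y) :
    ToposFin.IsQSHom f ↔ ∀ i, ToposFin.IsQSHom (c.inj i ≫ f) := by
    simp only [TFin.qsp_iff]
    exact ⟨fun h i => have := TFin.inj_mono hc i; (TFin.QSP J).comp_mem _ _ (TFin.qsp_of_mono (c.inj i)) h,
      fun h => TFin.qsp_of_source_cover f _ (TFin.ef_inj hc) (TFin.qcp_inj hc) h⟩

end Groth.Agent.S5581
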