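import Groth.Statements.S5585
import Mathlib
import Groth.Agent.Lib.ToposFin.Alg

set_option autoImplicit false
open CategoryTheory CategoryTheory.Limits Opposite
universe u
open ToposFin

open Groth
namespace Groth.Agent.S5585

/-- For an algebraic topos of sheaves of sets on a small site and a morphism f : X -> Y: if Y is
quasi-separated (resp. coherent), then X is quasi-separated (resp. coherent) if and only if f is a
quasi-separated (resp. coherent) morphism. -/
theorem result {C : Type u} [SmallCategory C] {J : GrothendieckTopology C}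
    (hE : ToposFin.IsAlgebraic J) {X Y : ToposFin.Sh J} (f : X ⟶ Y) :
    (ToposFin.IsQS Y → (ToposFin.IsQS X ↔ ToposFin.IsQSHom f)) ∧
    (ToposFin.IsCoherent Y → (ToposFin.IsCoherent X ↔ ToposFin.IsCohHom f)) := by
    simp only [ToposFin.IsCohHom, TFin.qcp_iff, TFin.qsp_iff]
    have hX : IsQS X → TFin.QSP J f := fun h => TFin.alg_qsp hE h f
    refine ⟨fun hY => ⟨hX, fun h => TFin.qs_of_qsp f h hY⟩, fun hY => ⟨fun h => ⟨(TFin.qs_iff _).1 hY.2 f h.1, hX h.2⟩,
      fun h => ⟨h.1 (𝟙 Y) (𝟙 X) f (IsPullback.of_horiz_isIso ⟨by simp⟩) hY.1, TFin.qs_of_qsp f h.2 hY.2⟩⟩⟩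

end Groth.Agent.S5585
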