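import Groth.Statements.S5586
import Mathlib
import Groth.Agent.Lib.ToposFin.Alg

set_option autoImplicit false
open CategoryTheory CategoryTheory.Limits Opposite
universe u
open ToposFin

open Groth
namespace Groth.Agent.S5586

/-- Quasi-separated and coherent cases: for an algebraic topos of sheaves of sets on a small site: let f
: X -> Y be a morphism and (Y_i -> Y) a jointly epimorphic family. If the Y_i are quasi-separated
(resp. coherent), then f is quasi-separated (resp. coherent) if and only if every X x_Y Y_i is a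
quasi-separated (resp. coherent) object. -/
theorem result {C : Type u} [SmallCategory C]
    {J : GrothendieckTopology C} (hE : ToposFin.IsAlgebraic J) {X Y : ToposFin.Sh J} (f : X ⟶ Y)
    {ι : Type u} (Yi : ι → ToposFin.Sh J) (g : ∀ i, Yi i ⟶ Y)
    (hg : ∀ (Z : ToposFin.Sh J) (a b : Y ⟶ Z), (∀ i, g i ≫ a = g i ≫ b) → a = b) :
    ((∀ i, ToposFin.IsQS (Yi i)) → (ToposFin.IsQSHom f ↔ ∀ i, ToposFin.IsQS (pullback f (g i)))) ∧
    ((∀ i, ToposFin.IsCoherent (Yi i)) →
      (ToposFin.IsCohHom f ↔ ∀ i, ToposFin.IsCoherent (pullback f (g i)))) := by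
    obtain ⟨S, hqc, hgen, hpb, heq⟩ := hE
    have hE' : ToposFin.IsAlgebraic J := ⟨S, hqc, hgen, hpb, heq⟩
    have hG := TFin.gen_of_generating hgen hqc
    simp only [ToposFin.IsCohHom, TFin.qcp_iff, TFin.qsp_iff]
    refine ⟨fun hY => ⟨fun h i => TFin.qs_of_qsp (pullback.snd f (g i)) ((TFin.QSP J).pullback_snd _ _ h) (hY i),
        fun h => TFin.qsp_local hG f g hg fun i => TFin.alg_qsp hE' (h i) _⟩,
      fun hY => ⟨fun h i => ⟨h.1 (g i) _ _ (IsPullback.of_hasPullback f (g i)) (hY i).1,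
        TFin.qs_of_qsp (pullback.snd f (g i)) ((TFin.QSP J).pullback_snd _ _ h.2) (hY i).2⟩,
        fun h => ⟨TFin.qcp_local hG f g hg fun i => (TFin.qs_iff _).1 (hY i).2 _ (h i).1,
          TFin.qsp_local hG f g hg fun i => TFin.alg_qsp hE' (h i).2 _⟩⟩⟩

end Groth.Agent.S5586
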