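import Groth.Statements.S5587
import Mathlib
import Groth.Agent.Lib.ToposFin.Alg

set_option autoImplicit false
open CategoryTheory CategoryTheory.Limits Opposite
universe u
open ToposFin

open Groth
namespace Groth.Agent.S5587

/-- For a locally coherent topos of sheaves of sets on a small site (given by a generating set of
quasi-compact objects stable under fibre products): a morphism f : X -> Y is quasi-separated if and
only if for every quasi-separated object Y' over Y the fibre product X x_Y Y' is quasi-separated. -/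
theorem result {C : Type u} [SmallCategory C]
    {J : GrothendieckTopology C} (S : Set (ToposFin.Sh J)) (hqc : ∀ K ∈ S, ToposFin.IsQC K)
    (hgen : ToposFin.IsGenerating S) (hpb : ToposFin.ClosedUnderPullbacks S) {X Y : ToposFin.Sh J} (f : X ⟶ Y) :
    ToposFin.IsQSHom f ↔
      ∀ (Y' : ToposFin.Sh J) (g : Y' ⟶ Y), ToposFin.IsQS Y' → ToposFin.IsQS (pullback f g) := by
    rw [TFin.qsp_iff]
    refine ⟨fun h Y' g hY => TFin.qs_of_qsp _ ((TFin.QSP J).pullback_snd f g h) hY, fun h => ?_⟩
    have hG := TFin.gen_of_generating hgen hqc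
    have hcoh := TFin.qs_of_closed hgen hqc hpb
    obtain ⟨ι, K, π, hK, hπ⟩ := hgen Y
    refine TFin.qsp_local hG f π hπ fun i => ?_
    obtain ⟨κ, L, ρ, hL, hρ⟩ := hgen (pullback f (π i))
    refine TFin.qsp_of_cover hG _ ρ hρ (fun j => hqc _ (hL j)) (fun a b => ?_) (h _ _ (hcoh _ (hK i)))
    obtain ⟨P, p, q, hP, hPb⟩ := hpb (ρ a ≫ pullback.snd f (π i)) (ρ b ≫ pullback.snd f (π i)) (hL a) (hL b) (hK i)
    exact TFin.qs_of_iso hPb.isoPullback (hcoh _ hP)

end Groth.Agent.S5587
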