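import Groth.Statements.S5588
import Mathlib
import Groth.Agent.Lib.ToposFin.Filtered

set_option autoImplicit false
open CategoryTheory CategoryTheory.Limits Opposite
universe u
open ToposFin

open Groth
namespace Groth.Agent.S5588

/-- (ii) implies (i), for the topos of sheaves of sets on a small site: let S be an isomorphism-closed
generating set of quasi-compact objects, stable under finite colimits and under fibre products. Then
S is the set of all coherent objects (so the topos is locally coherent), and every object X for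
which Hom(X, -) commutes with small filtered colimits is coherent. -/
theorem result {C : Type u} [SmallCategory C]
    {J : GrothendieckTopology C} (S : Set (ToposFin.Sh J)) (hqc : ∀ K ∈ S, ToposFin.IsQC K)
    (hiso : ∀ ⦃K L : ToposFin.Sh J⦄, K ∈ S → Nonempty (K ≅ L) → L ∈ S)
    (hgen : ToposFin.IsGenerating S) (hpb : ToposFin.ClosedUnderPullbacks S)
    (hcolim : ∀ (K : Type) [SmallCategory K] [FinCategory K] (D : K ⥤ ToposFin.Sh J),
      (∀ k, D.obj k ∈ S) → colimit D ∈ S) :
    (∀ X : ToposFin.Sh J, X ∈ S ↔ ToposFin.IsCoherent X) ∧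
    (∀ X : ToposFin.Sh J, ToposFin.IsFP X → ToposFin.IsCoherent X) := by
    classical
    have hqs := TFin.qs_of_closed hgen hqc hpb
    have hE : ToposFin.HasCoherentGenerators J := fun X => by
      obtain ⟨ι, F, π, hF, hπ⟩ := hgen X
      exact ⟨ι, F, π, fun i => ⟨hqc _ (hF i), hqs _ (hF i)⟩, (TFin.ef_iff_epi π).1 hπ⟩
    have hcoeq : ∀ {K L : ToposFin.Sh J} (a b : L ⟶ K), K ∈ S → L ∈ S → coequalizer a b ∈ S := fun {K L} a b hK hL => by
      refine hcolim WalkingParallelPair (parallelPair a b) ?_
      rintro (_ | _)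
      · exact hL
      · exact hK
    have hcop : ∀ {n : ℕ} (G : Fin n → ToposFin.Sh J), (∀ k, G k ∈ S) → (∐ G) ∈ S := fun G hG =>
      hcolim _ (Discrete.functor G) fun k => hG k.as
    have hmem : ∀ X, ToposFin.IsCoherent X → X ∈ S := by
      intro X hX
      have cover : ∀ Y : ToposFin.Sh J, ToposFin.IsQC Y → ∃ (K : ToposFin.Sh J) (p : K ⟶ Y), K ∈ S ∧ Epi p := by
        intro Y hY
        obtain ⟨ι, F, π, hF, hπ⟩ := hgen Y
        obtain ⟨κ, hfin, e, he⟩ := TFin.IsQC.exists_finite hY hπ
        obtain ⟨n, ⟨φ⟩⟩ := Finite.exists_equiv_fin κ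
        refine ⟨∐ fun k => F (e (φ.symm k)), Sigma.desc fun k => π (e (φ.symm k)), hcop _ (fun k => hF _),
          ⟨fun {Z} a b h => he Z a b fun k => ?_⟩⟩
        obtain ⟨k, rfl⟩ := φ.symm.surjective k
        simpa using Sigma.ι (fun k => F (e (φ.symm k))) k ≫= h
      obtain ⟨K, p, hK, hp⟩ := cover X hX.1
      obtain ⟨L, q, hL, hq⟩ := cover (pullback p p) (hX.2 K K p p (hqc _ hK) (hqc _ hK))
      have hef : TFin.EF (fun _ : PUnit.{u + 1} => p) := TFin.EF.of_isSplitEpi PUnit.unit
      let a := q ≫ pullback.fst p p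
      let b := q ≫ pullback.snd p p
      have w : a ≫ p = b ≫ p := by simp only [a, b, Category.assoc, pullback.condition]
      have hc : pullback.fst p p ≫ coequalizer.π a b = pullback.snd p p ≫ coequalizer.π a b := by
        rw [← cancel_epi q]
        simpa [a, b] using coequalizer.condition a b
      obtain ⟨T, hT⟩ := hef.exists_desc (fun _ => coequalizer.π a b) fun _ _ => hc
      refine hiso (hcoeq a b hK hL) ⟨⟨coequalizer.desc p w, T, coequalizer.hom_ext ?_, hef _ _ _ fun _ => ?_⟩⟩
      · rw [← Category.assoc, coequalizer.π_desc, hT PUnit.unit, Category.comp_id]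
      · rw [← Category.assoc, hT PUnit.unit, coequalizer.π_desc, Category.comp_id]
    refine ⟨fun X => ⟨fun h => ⟨hqc _ h, hqs _ h⟩, hmem X⟩, fun X hX => ?_⟩
    obtain ⟨X₀, X₁, a, b, i, p, h₀, h₁, hip⟩ := (TFin.fp_iff hE X).1 hX
    have h := hcoeq a b (hmem _ h₀) (hmem _ h₁)
    exact TFin.coherent_of_retract i p hip ⟨hqc _ h, hqs _ h⟩

end Groth.Agent.S5588
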