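import Groth.Statements.S5593
import Groth.Agent.Lib.EtSite.StrictLocLift

set_option autoImplicit false
open CategoryTheory CategoryTheory.Limits AlgebraicGeometry Opposite
universe u
open EtDesc

namespace Groth.Agent.S5593

open Groth.Agent.Lib.EtSite.StrictLocLift

/-- Let X be a scheme, x, x' points of X with strict localisations Spec R -> X and Spec R' -> X (R, R'
strict henselisations of the local rings at x and x'). There is an X-morphism Spec R' -> Spec R,
i.e. the geometric point over x is a specialization of the one over x', if and only if x lies in the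
closure of x'. -/
theorem result (X : Scheme.{u}) (x x' : X)
    (R : Type u) [CommRing R] [IsLocalRing R] [Algebra (X.presheaf.stalk x) R]
    [IsLocalHom (algebraMap (X.presheaf.stalk x) R)] [Hensel.IsStrictHenselization (X.presheaf.stalk x) R]
    (R' : Type u) [CommRing R'] [IsLocalRing R'] [Algebra (X.presheaf.stalk x') R']
    [IsLocalHom (algebraMap (X.presheaf.stalk x') R')] [Hensel.IsStrictHenselization (X.presheaf.stalk x') R'] :
    (∃ g : Spec (CommRingCat.of R') ⟶ Spec (CommRingCat.of R), g ≫ Hens2.specOf X x R = Hens2.specOf X x' R') ↔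
      x' ⤳ x := by
  have : HenselianLocalRing R' := Hensel.IsStrictHenselization.henselian (X.presheaf.stalk x')
  constructor
  · rintro ⟨g, hg⟩
    refine specializes_of_comp_eq x x' (g ≫ Spec.map (CommRingCat.ofHom (algebraMap (X.presheaf.stalk x) R)))
      (IsLocalRing.closedPoint R') ?_
    rw [Category.assoc]
    let t : Spec (CommRingCat.of R') := IsLocalRing.closedPoint R'
    exact (congrArg (fun m => m.base t) hg).trans (specOf_closedPoint x' R' t rfl)
  · intro hx
    let A := X.presheaf.stalk x
    let A' := X.presheaf.stalk x'
    let sp : A →+* A' := (X.presheaf.stalkSpecializes hx).hom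
    let _ : Algebra A (IsLocalRing.ResidueField A') := ((IsLocalRing.residue A').comp sp).toAlgebra
    let k := IsLocalRing.ResidueField A'
    let Ω := IsLocalRing.ResidueField R'
    have := (Hensel.IsStrictHenselization.isSepClosure (R := A') (S := R')).sep_closed
    obtain ⟨ψ, hψ⟩ := exists_point (A := A) (R := R) k Ω
    obtain ⟨φ, ⟨hφ, -⟩, -⟩ := existsUnique_hom ((algebraMap A' R').comp sp) ψ (by
      rw [hψ]; rfl)
    exact ⟨Spec.map (CommRingCat.ofHom φ),
      (comp_specOf_eq_iff hx R R' (algebraMap A' R') φ).2 hφ⟩

end Groth.Agent.S5593
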