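import Groth.Statements.S5594
import Groth.Agent.Lib.EtSite.StrictLocLift

set_option autoImplicit false
open CategoryTheory CategoryTheory.Limits AlgebraicGeometry Opposite
universe u
open EtDesc

namespace Groth.Agent.S5594

open Groth.Agent.Lib.EtSite.StrictLocLift

/-- Let X be a scheme, x, x' points of X with strict localisations Spec R -> X and Spec R' -> X, and ξ'
: Spec κ(R') -> Spec R' the closed point, a geometric point of X over x'. Then restricting along ξ'
is a bijection from the X-morphisms Spec R' -> Spec R (specialization arrows) onto the X-morphisms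
from the geometric point Spec κ(R') to Spec R: injectivity and surjectivity are stated separately. -/
theorem result (X : Scheme.{u}) (x x' : X)
    (R : Type u) [CommRing R] [IsLocalRing R] [Algebra (X.presheaf.stalk x) R]
    [IsLocalHom (algebraMap (X.presheaf.stalk x) R)] [Hensel.IsStrictHenselization (X.presheaf.stalk x) R]
    (R' : Type u) [CommRing R'] [IsLocalRing R'] [Algebra (X.presheaf.stalk x') R']
    [IsLocalHom (algebraMap (X.presheaf.stalk x') R')] [Hensel.IsStrictHenselization (X.presheaf.stalk x') R'] :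
    (∀ g₁ g₂ : Spec (CommRingCat.of R') ⟶ Spec (CommRingCat.of R),
      g₁ ≫ Hens2.specOf X x R = Hens2.specOf X x' R' → g₂ ≫ Hens2.specOf X x R = Hens2.specOf X x' R' →
      Spec.map (CommRingCat.ofHom (IsLocalRing.residue R')) ≫ g₁ =
        Spec.map (CommRingCat.ofHom (IsLocalRing.residue R')) ≫ g₂ → g₁ = g₂) ∧
    (∀ h : Spec (CommRingCat.of (IsLocalRing.ResidueField R')) ⟶ Spec (CommRingCat.of R),
      h ≫ Hens2.specOf X x R = Hens2.geomPt X x' R' →
      ∃ g : Spec (CommRingCat.of R') ⟶ Spec (CommRingCat.of R),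
        g ≫ Hens2.specOf X x R = Hens2.specOf X x' R' ∧
        Spec.map (CommRingCat.ofHom (IsLocalRing.residue R')) ≫ g = h) := by
  have : HenselianLocalRing R' := Hensel.IsStrictHenselization.henselian (X.presheaf.stalk x')
  refine ⟨fun g₁ g₂ h₁ h₂ h => ?_, fun h hh => ?_⟩
  · have hx : x' ⤳ x := specializes_of_comp_eq x x'
      (Spec.map (CommRingCat.ofHom (IsLocalRing.residue R')) ≫ g₁ ≫
        Spec.map (CommRingCat.ofHom (algebraMap (X.presheaf.stalk x) R))) default
      (by
        refine Eq.trans ?_ (geomPt_apply x' R' default)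
        refine congrArg (fun m : Spec (CommRingCat.of (IsLocalRing.ResidueField R')) ⟶ X => m.base default) ?_
        exact (Category.assoc _ _ _).trans ((congrArg (Spec.map (CommRingCat.ofHom (IsLocalRing.residue R')) ≫ ·)
          (Category.assoc _ _ _)).trans (congrArg (Spec.map (CommRingCat.ofHom (IsLocalRing.residue R')) ≫ ·) h₁)))
    obtain ⟨φ₁, rfl⟩ := Spec.map_surjective g₁
    obtain ⟨φ₂, rfl⟩ := Spec.map_surjective g₂
    have e₁ := (comp_specOf_eq_iff hx R R' (algebraMap (X.presheaf.stalk x') R') φ₁.hom).1 h₁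
    have e₂ := (comp_specOf_eq_iff hx R R' (algebraMap (X.presheaf.stalk x') R') φ₂.hom).1 h₂
    rw [← Spec.map_comp, ← Spec.map_comp] at h
    have e := congrArg CommRingCat.Hom.hom (Spec.map_injective h)
    have hψ : ((IsLocalRing.residue R').comp φ₁.hom).comp (algebraMap (X.presheaf.stalk x) R) =
        (IsLocalRing.residue R').comp
          ((algebraMap (X.presheaf.stalk x') R').comp (X.presheaf.stalkSpecializes hx).hom) := by
      rw [RingHom.comp_assoc, e₁]
    exact congrArg Spec.map (CommRingCat.hom_ext
      ((existsUnique_hom _ _ hψ).unique ⟨e₁, rfl⟩ ⟨e₂, e.symm⟩))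
  · have hx : x' ⤳ x := specializes_of_comp_eq x x'
      (h ≫ Spec.map (CommRingCat.ofHom (algebraMap (X.presheaf.stalk x) R))) default
      ((congrArg (fun m => m.base default) ((Category.assoc _ _ _).trans hh)).trans (geomPt_apply x' R' default))
    obtain ⟨ψ, rfl⟩ := Spec.map_surjective h
    have e := (comp_specOf_eq_iff hx R (IsLocalRing.ResidueField R')
      ((IsLocalRing.residue R').comp (algebraMap (X.presheaf.stalk x') R')) ψ.hom).1
      (hh.trans (by
        rw [Hens2.geomPt, Hens2.specOf, ← Category.assoc, ← Spec.map_comp]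
        rfl))
    obtain ⟨φ, ⟨hφ, hφ'⟩, -⟩ := existsUnique_hom
      ((algebraMap (X.presheaf.stalk x') R').comp (X.presheaf.stalkSpecializes hx).hom) ψ.hom
      (e.trans (RingHom.comp_assoc _ _ _))
    refine ⟨Spec.map (CommRingCat.ofHom φ), (comp_specOf_eq_iff hx R R' _ φ).2 hφ, ?_⟩
    rw [← Spec.map_comp]
    exact congrArg Spec.map (CommRingCat.hom_ext hφ')

end Groth.Agent.S5594
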