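import Groth.Statements.S5595
import Groth.Agent.Lib.EtSite.SubSheaf

set_option autoImplicit false
open CategoryTheory CategoryTheory.Limits AlgebraicGeometry Opposite
universe u
open EtDesc

namespace Groth.Agent.S5595

/-- Let f : X' -> X be universally submersive and F an etale sheaf of sets on X, with f^* F its inverse
image on X' and pr_1, pr_2 the projections of X' x_X X'. Then the map from subsheaves of F to
subsheaves of f^* F is injective, and its image consists exactly of the subsheaves G' of f^* F with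
pr_1^* G' = pr_2^* G' inside pr_1^* f^* F = pr_2^* f^* F: (a) subsheaves G_1, G_2 of F with the same
inverse image are the same subobject; (b) such a G' is the inverse image of a subsheaf of F. -/
theorem result {X' X : Scheme.{u}} (f : X' ⟶ X)
    (hf : EtDesc.IsUnivSubmersive f) (F : EtDesc.Sh X) :
    (∀ (G₁ G₂ : EtDesc.Sh X) (a₁ : G₁ ⟶ F) (a₂ : G₂ ⟶ F) [Mono a₁] [Mono a₂],
      (∃ φ : (EtDesc.pullSh f).obj G₁ ≅ (EtDesc.pullSh f).obj G₂,
          φ.hom ≫ (EtDesc.pullSh f).map a₂ = (EtDesc.pullSh f).map a₁) →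
      ∃ ψ : G₁ ≅ G₂, ψ.hom ≫ a₂ = a₁) ∧
    (∀ (G' : EtDesc.Sh X') (a' : G' ⟶ (EtDesc.pullSh f).obj F) [Mono a'],
      (∃ φ : (EtDesc.pullSh (pullback.fst f f)).obj G' ≅ (EtDesc.pullSh (pullback.snd f f)).obj G',
          φ.hom ≫ (EtDesc.pullSh (pullback.snd f f)).map a' =
            (EtDesc.pullSh (pullback.fst f f)).map a' ≫ (EtDesc.canIso f F).hom) →
      ∃ (G : EtDesc.Sh X) (a : G ⟶ F) (_ : Mono a) (ψ : (EtDesc.pullSh f).obj G ≅ G'),
        ψ.hom ≫ a' = (EtDesc.pullSh f).map a) := by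
  refine ⟨?_, fun G' a' _ ⟨φ, hφ⟩ =>
    Groth.Agent.Lib.EtSite.SubSheaf.exists_descended f hf F G' a' φ hφ⟩
  rintro G₁ G₂ a₁ a₂ _ _ ⟨φ, hφ⟩
  have h12 := Groth.Agent.Lib.EtSite.SubSheaf.mem_range_of_pull f hf a₁ a₂ φ.hom hφ
  have h21 := Groth.Agent.Lib.EtSite.SubSheaf.mem_range_of_pull f hf a₂ a₁ φ.inv
    (by rw [← hφ, Iso.inv_hom_id_assoc])
  choose b hb using h12
  let ψ₀ : G₁ ⟶ G₂ :=
    { hom :=
        { app := fun V => TypeCat.ofHom (b V.unop)
          naturality := fun V W g => by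
            ext s
            apply Groth.Agent.Lib.EtSite.SubSheaf.injective_app a₂ W.unop
            change a₂.hom.app _ (b W.unop (G₁.obj.map g s)) =
              a₂.hom.app _ (G₂.obj.map g (b V.unop s))
            refine (hb _ _).trans ((NatTrans.naturality_apply a₁.hom g s).trans ?_)
            refine Eq.trans ?_ (NatTrans.naturality_apply a₂.hom g _).symm
            exact congrArg (F.obj.map g) (hb V.unop s).symm } }
  have hψ : ψ₀ ≫ a₂ = a₁ := by
    ext V s
    exact hb V.unop s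
  have : IsIso ψ₀ := by
    refine Groth.Agent.Lib.EtSite.Stalk.isIso_of_app_bijective ψ₀ fun V => ⟨fun s s' e => ?_, fun r => ?_⟩
    · apply Groth.Agent.Lib.EtSite.SubSheaf.injective_app a₁ V
      exact (hb V s).symm.trans ((congrArg (a₂.hom.app (op V)) e).trans (hb V s'))
    · obtain ⟨s, hs⟩ := h21 V r
      exact ⟨s, Groth.Agent.Lib.EtSite.SubSheaf.injective_app a₂ V ((hb V s).trans hs)⟩
  exact ⟨asIso ψ₀, hψ⟩

end Groth.Agent.S5595
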