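import Groth.Statements.S5608
import Groth.Agent.Lib.PCoh.Coherent


set_option autoImplicit false
universe w v u
open CategoryTheory CategoryTheory.Limits
open PCoh

namespace Groth.Agent.S5608

/-- Punctual site: let C be an abelian category and C₀ a strictly full additive subcategory,
quasi-liftable in C, whose objects are C₀-coherent (of C₀-finite type, and every morphism from an
object of C₀ into them has kernel of C₀-finite type). For F ∈ D(C) with bounded above cohomology and
n an integer: F is n-pseudo-coherent (isomorphic to a strictly n-pseudo-coherent complex) if and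
only if H^n(F) is of C₀-finite type and H^i(F) is C₀-coherent for every i > n. -/
theorem result {C : Type u} [Category.{v} C] [Abelian C] [HasDerivedCategory.{w} C]
    (P : ObjectProperty C) [P.IsClosedUnderIsomorphisms] [P.ContainsZero] (hsum : ∀ X Y : C, P X → P Y → P (X ⨯ Y))
    (hql : PCoh.IsQuasiLiftable P)
    (hcoh : ∀ (X E : C) (u : E ⟶ X), P X → P E → PCoh.IsOfFiniteType P (kernel u))
    (n : ℤ) (F : DerivedCategory C) (b : ℤ) (hb : ∀ i : ℤ, b < i → IsZero ((DerivedCategory.homologyFunctor C i).obj F)) :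
    (∃ E : CochainComplex C ℤ, PCoh.IsStrictPC P n E ∧ Nonempty (DerivedCategory.Q.obj E ≅ F)) ↔
      (PCoh.IsOfFiniteType P ((DerivedCategory.homologyFunctor C n).obj F) ∧
        ∀ i : ℤ, n < i → (PCoh.IsOfFiniteType P ((DerivedCategory.homologyFunctor C i).obj F) ∧
          ∀ (E : C) (u : E ⟶ (DerivedCategory.homologyFunctor C i).obj F), P E → PCoh.IsOfFiniteType P (kernel u))) := by
  have hqs := Groth.Agent.Lib.PCoh.Coherent.quasiStable_of_coherent (P := P) hcoh
  constructor
  · rintro ⟨E, ⟨hbd, hP⟩, ⟨e⟩⟩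
    have hi : ∀ i, E.homology i ≅ (DerivedCategory.homologyFunctor C i).obj F := fun i =>
      (Groth.Agent.Lib.PCoh.Derived.hIso E i).symm ≪≫ (DerivedCategory.homologyFunctor C i).mapIso e
    refine ⟨Groth.Agent.Lib.PCoh.Basic.ft_of_iso (Groth.Agent.Lib.PCoh.Coherent.coherent_homology hsum hql hcoh E hP n le_rfl).1 (hi n),
      fun i hni => ⟨Groth.Agent.Lib.PCoh.Basic.ft_of_iso (Groth.Agent.Lib.PCoh.Coherent.coherent_homology hsum hql hcoh E hP i hni.le).1 (hi i),
        fun L u hL => ?_⟩⟩
    exact Groth.Agent.Lib.PCoh.Basic.ft_of_iso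
      ((Groth.Agent.Lib.PCoh.Coherent.coherent_homology hsum hql hcoh E hP i hni.le).2 hni L (u ≫ (hi i).inv) hL)
      (kernelCompMono u (hi i).inv)
  · rintro ⟨hn, hh⟩
    refine Groth.Agent.Lib.PCoh.Derived2.pcd_of_homology hsum hqs hql F b hb (fun i hi => ?_)
    rcases hi.lt_or_eq with hi | rfl
    · obtain ⟨h1, h2⟩ := hh i hi
      exact Groth.Agent.Lib.PCoh.Coherent.isPC_of_coherent hsum hqs hql hcoh _ h1 h2 (n - i)
    · simpa [Groth.Agent.Lib.PCoh.Derived.PCD] using Groth.Agent.Lib.PCoh.Derived3.pcd_single_of_ft hsum hqs hql hn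

end Groth.Agent.S5608
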