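import Groth.Statements.S5612
import Groth.Agent.Lib.DR.TorDim

set_option autoImplicit false
universe u
open CategoryTheory CategoryTheory.Limits
attribute [local instance] HasDerivedCategory.standard
open DRing

open Groth.Agent.Lib.DR.Basic Groth.Agent.Lib.DR.FiniteComplex Groth.Agent.Lib.DR.PseudoCoherent Groth.Agent.Lib.DR.TopCohomology
open CategoryTheory CategoryTheory.Limits
open Groth.Agent.Lib.DR Groth.Agent.Lib.DR.Representative Groth.Agent.Lib.DR.BaseChange Groth.Agent.Lib.DR.TorAmp Groth.Agent.Lib.DR.Perfect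

namespace Groth.Agent.S5612

/-- Let A be a commutative ring all of whose modules have finite tor dimension (for instance A of finite
global dimension) and K ∈ D(A). (i) K has finite tor dimension if and only if K has bounded
cohomology. (ii) K is perfect if and only if K has bounded cohomology and is pseudo-coherent. -/
theorem result {A : Type u} [CommRing A]
    (hA : ∀ (M : Type u) [AddCommGroup M] [Module A M], DRing.HasFiniteTorDim A M) (K : Dual.D A) :
    (DRing.HasFiniteTorDimCx A K ↔ ∃ a b : ℤ, ∀ i : ℤ, i < a ∨ b < i → Subsingleton (Dual.HD A K i)) ∧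
      (DRing.IsPerfect A K ↔
        (∃ a b : ℤ, ∀ i : ℤ, i < a ∨ b < i → Subsingleton (Dual.HD A K i)) ∧ DRing.IsPseudoCoherent' A K) := by
  have key : ∀ K : Dual.D A, (∃ a b : ℤ, ∀ i : ℤ, i < a ∨ b < i → Subsingleton (Dual.HD A K i)) →
      DRing.HasFiniteTorDimCx A K := by
    rintro K ⟨a, b, h⟩
    refine homology_induction (fun X => ∃ a b : ℤ, Bdd (flat A) a b X)
      (fun e ⟨a, b, h⟩ => ⟨a, b, h.of_iso e⟩) (fun h => ⟨0, 0, bdd_zero good_flat h _ _⟩)
      (fun T hT ⟨a, b, h⟩ ⟨c, d, h'⟩ => ⟨min a c, max b d,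
        bdd_flat_ext T hT (h.mono (by lia) (by lia)) (h'.mono (by lia) (by lia))⟩)
      K a b ((isGE_iff_subsingleton K a).2 fun i hi => h i (Or.inl hi))
      ((isLE_iff_subsingleton K b).2 fun i hi => h i (Or.inr hi)) fun i _ _ => ?_
    obtain ⟨n, hn⟩ := hA (Dual.HD A K i)
    exact ⟨i - n, i, (((TorDim.hasTorDimLE_iff _ n).1 hn).shift good_flat (-i) (i - n) i (by lia) (by lia)).of_iso
      (singleShift _ (-i) i 0 (by lia))⟩
  have key2 : DRing.HasFiniteTorDimCx A K →
      ∃ a b : ℤ, ∀ i : ℤ, i < a ∨ b < i → Subsingleton (Dual.HD A K i) := by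
    rintro ⟨a, b, h⟩
    rw [hasTorAmplitudeIn_iff] at h
    exact ⟨a, b, fun i hi => hi.elim ((isGE_iff_subsingleton K a).1 (Bdd.isGE h) i)
      ((isLE_iff_subsingleton K b).1 (Bdd.isLE h) i)⟩
  refine ⟨⟨key2, key K⟩, ?_⟩
  rw [pf_iff]
  constructor
  · intro h
    refine ⟨?_, (isPseudoCoherent'_iff_forall K).2 h.pcn⟩
    obtain ⟨a, b, h⟩ := h
    exact key2 ⟨a, b, h.of_le flat_of_fproj⟩
  · rintro ⟨hb, hK⟩
    obtain ⟨a, c, h⟩ := key K hb
    exact pf_of_pcn_of_flat ((isPseudoCoherent'_iff_forall K).1 hK (a - 1)) h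

end Groth.Agent.S5612
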