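import Groth.Statements.S5613


set_option autoImplicit false
universe v u
open CategoryTheory CategoryTheory.Limits CategoryTheory.Pretriangulated
open KZero

namespace Groth.Agent.S5613

/-- Let C be a pretriangulated category, L an object of C and n an integer such that the coproduct ∐_{i
≥ 0} L⟦2ni⟧ exists in C. Then cl(L) = 0 in K₀(C). -/
theorem result {C : Type u} [Category.{v} C] [Preadditive C] [HasZeroObject C]
    [HasShift C ℤ] [∀ n : ℤ, (shiftFunctor C n).Additive] [Pretriangulated C]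
    (L : C) (n : ℤ) [HasCoproduct (fun i : ℕ => (shiftFunctor C (2 * n * (i : ℤ))).obj L)] :
    KZero.clTri L = 0 := by
  classical
  have rel : ∀ tr : Triangle C, tr ∈ distinguishedTriangles →
      KZero.clTri tr.obj₂ = KZero.clTri tr.obj₁ + KZero.clTri tr.obj₃ := by
    intro tr htr
    rw [← sub_eq_zero, ← sub_sub]
    exact (QuotientAddGroup.eq_zero_iff
      (FreeAbelianGroup.of (⟨tr.obj₂, trivial⟩ : Subtype (⊤ : ObjectProperty C)) -
        FreeAbelianGroup.of (⟨tr.obj₁, trivial⟩ : Subtype (⊤ : ObjectProperty C)) -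
        FreeAbelianGroup.of (⟨tr.obj₃, trivial⟩ : Subtype (⊤ : ObjectProperty C)))).mpr
      (AddSubgroup.subset_closure ⟨tr, trivial, trivial, trivial, htr, rfl⟩)
  have hzero : ∀ Z : C, IsZero Z → KZero.clTri Z = 0 := fun Z hZ => by
    simpa using rel (Triangle.mk (𝟙 Z) (0 : Z ⟶ Z) 0)
      (isomorphic_distinguished _ (contractible_distinguished Z) _
        (Triangle.isoMk _ _ (Iso.refl _) (Iso.refl _) (hZ.iso (isZero_zero C))
          (hZ.eq_of_src _ _) (hZ.eq_of_src _ _) (hZ.eq_of_src _ _)))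
  have hiso : ∀ {X Y : C}, (X ≅ Y) → KZero.clTri X = KZero.clTri Y := fun {X Y} e => by
    obtain ⟨Z, g, h, hT⟩ := distinguished_cocone_triangle e.hom
    have := rel _ hT
    have hZ : IsZero Z := (Triangle.isZero₃_iff_isIso₁ _ hT).mpr (show IsIso e.hom from inferInstance)
    exact (this.trans (by rw [show KZero.clTri (Triangle.mk e.hom g h).obj₃ = 0 from hzero Z hZ, add_zero]; rfl)).symm
  have hshift : ∀ X : C, KZero.clTri (X⟦(1 : ℤ)⟧) = - KZero.clTri X := fun X => by
    have h1 := rel _ (contractible_distinguished X)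
    have h2 := rel _ (rot_of_distTriang _ (contractible_distinguished X))
    dsimp [contractibleTriangle, Triangle.rotate, Triangle.mk] at h1 h2
    rw [hzero _ (isZero_zero C)] at h2
    exact eq_neg_of_add_eq_zero_right h2.symm
  have hsh : ∀ (X : C) (m : ℤ), KZero.clTri (X⟦m⟧) = (-1 : ℤ) ^ m.natAbs • KZero.clTri X := by
    intro X m
    induction m using Int.induction_on with
    | zero => simpa using hiso ((shiftFunctorZero C ℤ).app X)
    | succ i ih =>
      rw [hiso ((shiftFunctorAdd' C (i : ℤ) 1 _ rfl).app X)]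
      dsimp
      rw [hshift, ih, show ((i : ℤ) + 1).natAbs = i + 1 by omega, Int.natAbs_natCast, pow_succ,
        mul_neg_one, neg_smul]
    | pred i ih =>
      have := hiso ((shiftFunctorAdd' C (-(i : ℤ) - 1) 1 (-(i : ℤ)) (by omega)).app X)
      dsimp at this
      rw [this, hshift, neg_eq_iff_eq_neg] at ih
      rw [ih, show (-(i : ℤ) - 1).natAbs = i + 1 by omega, show (-(i : ℤ)).natAbs = i by omega,
        pow_succ, mul_neg_one, neg_smul]
  have heven : ∀ X : C, KZero.clTri (X⟦2 * n⟧) = KZero.clTri X := fun X => by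
    rw [hsh, Int.natAbs_mul, show (2 : ℤ).natAbs = 2 from rfl, pow_mul]
    simp
  let f : ℕ → C := fun i => (shiftFunctor C (2 * n * (i : ℤ))).obj L
  let M := ∐ f
  let e0 : L ≅ f 0 := ((shiftFunctorZero' C (2 * n * ((0 : ℕ) : ℤ)) (by simp)).app L).symm
  let es : ∀ i, (f i)⟦2 * n⟧ ≅ f (i + 1) := fun i =>
    ((shiftFunctorAdd' C (2 * n * (i : ℤ)) (2 * n) (2 * n * ((i + 1 : ℕ) : ℤ))
      (by push_cast; rw [mul_add, mul_one])).app L).symm
  have hc : IsColimit (Cofan.mk (M⟦2 * n⟧) fun i => (Sigma.ι f i)⟦2 * n⟧') :=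
    isColimitCofanMkObjOfIsColimit (shiftFunctor C (2 * n)) f _ (coproductIsCoproduct f)
  have ext : ∀ {Y : C} (u v : M⟦2 * n⟧ ⟶ Y),
      (∀ i, (Sigma.ι f i)⟦2 * n⟧' ≫ u = (Sigma.ι f i)⟦2 * n⟧' ≫ v) → u = v :=
    fun u v h => hc.hom_ext fun j => h j.as
  let fwd : L ⊞ M⟦2 * n⟧ ⟶ M := biprod.desc (e0.hom ≫ Sigma.ι f 0)
    (Cofan.IsColimit.desc hc fun i => (es i).hom ≫ Sigma.ι f (i + 1))
  let bwd : M ⟶ L ⊞ M⟦2 * n⟧ := Sigma.desc fun i => match i with
    | 0 => e0.inv ≫ biprod.inl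
    | i + 1 => (es i).inv ≫ (Sigma.ι f i)⟦2 * n⟧' ≫ biprod.inr
  have hd : ∀ i, (Sigma.ι f i)⟦2 * n⟧' ≫
      Cofan.IsColimit.desc hc (fun i => (es i).hom ≫ Sigma.ι f (i + 1)) =
        (es i).hom ≫ Sigma.ι f (i + 1) := fun i => Cofan.IsColimit.fac hc _ i
  have e : M ≅ L ⊞ M⟦2 * n⟧ :=
    { hom := bwd
      inv := fwd
      hom_inv_id := Sigma.hom_ext _ _ fun i => by
        cases i with
        | zero => simp [bwd, fwd]; exact (Category.comp_id _).symm
        | succ i =>
          simp only [bwd, fwd, Sigma.ι_desc_assoc, Category.assoc, biprod.inr_desc, hd]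
          simp; exact (Category.comp_id _).symm
      inv_hom_id := biprod.hom_ext' _ _ (by simp [bwd, fwd]) (ext _ _ fun i => by
        simp only [fwd, biprod.inr_desc_assoc, Category.comp_id, reassoc_of% (hd i)]
        simp [bwd]; rfl) }
  have hb := rel _ (binaryBiproductTriangle_distinguished L (M⟦2 * n⟧))
  have hb' : KZero.clTri M = KZero.clTri L + KZero.clTri (M⟦2 * n⟧) := (hiso e).trans hb
  rw [heven] at hb'
  exact left_eq_add.mp (hb'.trans (add_comm _ _))

end Groth.Agent.S5613
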