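import Groth.Statements.S5614


set_option autoImplicit false
universe v u
open CategoryTheory CategoryTheory.Limits CategoryTheory.Pretriangulated
open KZero

namespace Groth.Agent.S5614

/-- Let C be a pretriangulated category and S a dense set of objects, meaning that every set of objects
which contains S and which contains the third vertex of a distinguished triangle as soon as it
contains the other two is all of C. Then K₀(C) is generated by the classes of the objects of S. -/
theorem result {C : Type u} [Category.{v} C] [Preadditive C] [HasZeroObject C]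
    [HasShift C ℤ] [∀ n : ℤ, (shiftFunctor C n).Additive] [Pretriangulated C]
    (S : Set C)
    (hdense : ∀ T : Set C, S ⊆ T →
      (∀ tr : Triangle C, tr ∈ distinguishedTriangles →
        (tr.obj₁ ∈ T → tr.obj₂ ∈ T → tr.obj₃ ∈ T) ∧ (tr.obj₁ ∈ T → tr.obj₃ ∈ T → tr.obj₂ ∈ T) ∧
          (tr.obj₂ ∈ T → tr.obj₃ ∈ T → tr.obj₁ ∈ T)) → T = Set.univ) :
    AddSubgroup.closure (KZero.clTri '' S) = (⊤ : AddSubgroup (KZero.K0tri C)) := by
  classical
  let H := AddSubgroup.closure (KZero.clTri '' S)
  have rel : ∀ tr : Triangle C, tr ∈ distinguishedTriangles →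
      KZero.clTri tr.obj₂ = KZero.clTri tr.obj₁ + KZero.clTri tr.obj₃ := by
    intro tr htr
    rw [← sub_eq_zero, ← sub_sub]
    exact (QuotientAddGroup.eq_zero_iff
      (FreeAbelianGroup.of (⟨tr.obj₂, trivial⟩ : Subtype (⊤ : ObjectProperty C)) -
        FreeAbelianGroup.of (⟨tr.obj₁, trivial⟩ : Subtype (⊤ : ObjectProperty C)) -
        FreeAbelianGroup.of (⟨tr.obj₃, trivial⟩ : Subtype (⊤ : ObjectProperty C)))).mpr
      (AddSubgroup.subset_closure ⟨tr, trivial, trivial, trivial, htr, rfl⟩)
  have hT := hdense {X | KZero.clTri X ∈ H}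
    (fun X hX => AddSubgroup.subset_closure ⟨X, hX, rfl⟩) (fun tr htr => by
      simp only [Set.mem_setOf_eq, rel tr htr]
      refine ⟨fun h1 h2 => ?_, fun h1 h3 => add_mem h1 h3, fun h2 h3 => ?_⟩
      · simpa using sub_mem h2 h1
      · simpa using sub_mem h2 h3)
  refine (AddSubgroup.eq_top_iff' _).mpr fun x => ?_
  obtain ⟨y, rfl⟩ := QuotientAddGroup.mk_surjective x
  induction y using FreeAbelianGroup.induction_on with
  | zero => exact zero_mem H
  | of X => exact (Set.eq_univ_iff_forall.mp hT X.1 :)
  | neg X h => exact neg_mem h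
  | add a b ha hb => exact add_mem ha hb

end Groth.Agent.S5614
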