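import Groth.Statements.S5615


set_option autoImplicit false
universe v u
open CategoryTheory CategoryTheory.Limits
open KZero

namespace Groth.Agent.S5615

/-- Let A be an abelian category and S a dense set of objects, meaning that every set of objects which
contains S and which contains the third term of a short exact sequence as soon as it contains the
other two is all of A. Then K₀(A) is generated by the classes of the objects of S. -/
theorem result {A : Type u} [Category.{v} A] [Abelian A] (S : Set A)
    (hdense : ∀ T : Set A, S ⊆ T →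
      (∀ X : ShortComplex A, X.ShortExact →
        (X.X₁ ∈ T → X.X₂ ∈ T → X.X₃ ∈ T) ∧ (X.X₁ ∈ T → X.X₃ ∈ T → X.X₂ ∈ T) ∧
          (X.X₂ ∈ T → X.X₃ ∈ T → X.X₁ ∈ T)) → T = Set.univ) :
    AddSubgroup.closure (KZero.cl '' S) = (⊤ : AddSubgroup (KZero.K0 A)) := by
  classical
  let H := AddSubgroup.closure (KZero.cl '' S)
  have rel : ∀ X : ShortComplex A, X.ShortExact →
      KZero.cl X.X₂ = KZero.cl X.X₁ + KZero.cl X.X₃ := by
    intro X hX
    rw [← sub_eq_zero, ← sub_sub]
    exact (QuotientAddGroup.eq_zero_iff
      (FreeAbelianGroup.of X.X₂ - FreeAbelianGroup.of X.X₁ - FreeAbelianGroup.of X.X₃)).mpr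
      (AddSubgroup.subset_closure ⟨X, hX, rfl⟩)
  have hT := hdense {X | KZero.cl X ∈ H}
    (fun X hX => AddSubgroup.subset_closure ⟨X, hX, rfl⟩) (fun X hX => by
      simp only [Set.mem_setOf_eq, rel X hX]
      refine ⟨fun h1 h2 => ?_, fun h1 h3 => add_mem h1 h3, fun h2 h3 => ?_⟩
      · simpa using sub_mem h2 h1
      · simpa using sub_mem h2 h3)
  refine (AddSubgroup.eq_top_iff' _).mpr fun x => ?_
  obtain ⟨y, rfl⟩ := QuotientAddGroup.mk_surjective x
  induction y using FreeAbelianGroup.induction_on with
  | zero => exact zero_mem H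
  | of X => exact (Set.eq_univ_iff_forall.mp hT X :)
  | neg X h => exact neg_mem h
  | add a b ha hb => exact add_mem ha hb

end Groth.Agent.S5615
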