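import Groth.Statements.S5630
import Groth.Agent.Lib.SchColim29.RpushPerfFlat
import Groth.Agent.Lib.DerivedOX.FlatResolve

set_option autoImplicit false
set_option linter.style.haveILetI false
universe u
open CategoryTheory CategoryTheory.Limits AlgebraicGeometry HomologicalComplex
attribute [local instance] HasDerivedCategory.standard
open KSix

namespace Groth.Agent.S5630

open Groth.Agent.Lib Groth.Agent.Lib.DerivedOX Groth.Agent.Lib.WayOut Groth.Agent.Lib.BettiExact

/-- Upper bound for the tensor product with a module. -/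
theorem isZero_ltensorMod_of_isLE {Y : Scheme.{u}} (K : DCoh.D Y) (b : ℤ) [K.IsLE b] (G : Y.Modules)
    [DCoh.HasLTensorMod G] (i : ℤ) (hi : b < i) : IsZero (DCoh.HD ((DCoh.LTensorMod G).obj K) i) := by
  let K' := DerivedCategory.Q.objPreimage K
  let eK : DCoh.toD Y K' ≅ K := DerivedCategory.Q.objObjPreimageIso K
  obtain ⟨F, s, hF, hflat, hs⟩ := FlatResolve.exists_flat_resolution K' b fun j hj =>
    (exactAt_iff_isZero_homology _ _).2 ((DerivedCategory.isZero_of_isLE K b j hj).of_iso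
      ((Amplitude.hdQ K' j).symm ≪≫ (DerivedCategory.homologyFunctor _ j).mapIso eK))
  haveI := hs
  refine (Amplitude.isZero_hd_ltensor_iff G (Amplitude.isKFlat_of_bounded F b hF hflat)
    (asIso (DerivedCategory.Q.map s) ≪≫ eK) i).2 ?_
  exact ExactAt.of_isZero ((DCoh.tensorRightMod G).map_isZero (hF i hi))

/-- `Rf_*` of a bounded complex. -/
theorem isLE_Rpush {X Y : Scheme.{u}} (f : X ⟶ Y) [DCoh.HasRpush f] (N : ℕ)
    (hN : ∀ (F : X.Modules), QCohCat.isQCoh X F →
      ∀ i : ℤ, (N : ℤ) < i → IsZero (DCoh.HD ((DCoh.Rpush f).obj (DCoh.inD X F)) i))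
    (E : DCoh.D X) (hqc : DCoh.IsQCohD E) (a b : ℤ) [E.IsGE a] [E.IsLE b] :
    ((DCoh.Rpush f).obj E).IsLE (b + N) := by
  have hT : Bounded.Van (RpushQCoh.P f) (Scheme.qc X) ((N : ℤ) + 1) := fun M hM n hn => by
    obtain ⟨θ⟩ := RpushQCoh.nonempty_HD_Rpush f (DCoh.inD X M) n
    exact (hN M hM n (by omega)).of_iso θ.symm
  refine (DerivedCategory.isLE_iff _ _).2 fun n hn => ?_
  obtain ⟨θ⟩ := RpushQCoh.nonempty_HD_Rpush f E n
  exact (Bounded.isZero_RH_of_bounded hT E hqc a b n (by omega)).of_iso θ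

/-- The lower bound is local on the base. -/
theorem isZero_ltensorMod_Rpush {X Y : Scheme.{u}} (f : X ⟶ Y) [QuasiCompact f] [QuasiSeparated f]
    [DCoh.HasRpush f] (F : CochainComplex X.Modules ℤ) (hqc : DCoh.IsQCohD (DCoh.toD X F)) {a b : ℤ}
    (hF : DerSch.HasTorAmplitude f a b F) (G : Y.Modules) [DCoh.HasLTensorMod G] (i : ℤ) (hi : i < a) :
    IsZero (DCoh.HD ((DCoh.LTensorMod G).obj ((DCoh.Rpush f).obj (DCoh.toD X F))) i) := by
  refine Modules.Stalk.isZero_iff_stalk_subsingleton.2 fun y => ?_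
  obtain ⟨V, hV, hyV, -⟩ := exists_isAffineOpen_mem_and_subset (X := Y) (x := y) (U := ⊤) trivial
  haveI : IsAffine (V : Scheme.{u}) := hV
  let R := (DCoh.Rpush f).obj (DCoh.toD X F)
  let W := (DCoh.LTensorMod G).obj R
  suffices h : IsZero (DCoh.HD ((Perfect.Basic.RD V.ι).obj W) i) by
    have h1 := Modules.Stalk.isZero_iff_stalk_subsingleton.1
      (h.of_iso (Perfect.Coherent.homologyIso V.ι W i).symm) ⟨y, hyV⟩
    exact (Modules.StalkRestrict.restrictStalkAddEquiv V.ι (DCoh.HD W i)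
      ⟨y, hyV⟩).symm.injective.subsingleton
  -- the restricted direct image
  let g := f ∣_ V
  haveI := Exists.hasRpush g
  let F' := (DCoh.restrictCx (f ⁻¹ᵁ V)).obj F
  have hqc' : DCoh.IsQCohD (DCoh.toD _ F') := fun n => (Scheme.qc _).prop_of_iso
    ((DerivedCategory.homologyFunctor _ n).mapIso (Perfect.Basic.RDQ (f ⁻¹ᵁ V).ι F))
    (RpushQCoh.isQCohD_restrict hqc (f ⁻¹ᵁ V) n)
  obtain ⟨M, hM⟩ := SchColim29.RpushTor.exists_bound g
  have htor := SchColim29.RpushTor.torAmp_Rpush g M (fun E _ b h _ hb => hM E b h hb) F' hqc'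
    (TorRestrict.torAmp_restrictBase f F hF V)
  let eR : (Perfect.Basic.RD V.ι).obj R ≅ (DCoh.Rpush g).obj (DCoh.toD _ F') :=
    (RestrictRpush.restrictD_Rpush_iso f V).app _ ≪≫
      (DCoh.Rpush g).mapIso (Perfect.Basic.RDQ (f ⁻¹ᵁ V).ι F)
  -- tensor product with `G[0]`
  let S₀ : CochainComplex Y.Modules ℤ := (single Y.Modules (ComplexShape.up ℤ) 0).obj G
  haveI := LeftExists.hasLTensorCx S₀
  obtain ⟨B, hB, ⟨eB⟩⟩ := QCohLocal.exists_kflat R
  obtain ⟨s⟩ := SchColim29.RpushTor.nonempty_ltensorMod_iso G hB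
  obtain ⟨S', ⟨eS⟩, hS⟩ := ProjectionLocal.exists_restrict_LTensor V.ι S₀
  haveI := LeftExists.hasLTensorCx S'
  obtain ⟨r⟩ := hS inferInstance R
  let G' := G.restrict V.ι
  let S₁ : CochainComplex (V : Scheme.{u}).Modules ℤ :=
    (single (V : Scheme.{u}).Modules (ComplexShape.up ℤ) 0).obj G'
  haveI := LeftExists.hasLTensorCx S₁
  haveI := LeftExists.hasLTensorMod G'
  obtain ⟨B', hB', ⟨eB'⟩⟩ := QCohLocal.exists_kflat ((Perfect.Basic.RD V.ι).obj R)
  obtain ⟨t'⟩ := QCohLocal.nonempty_LTensorCx_iso S' hB'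
  obtain ⟨t₁⟩ := QCohLocal.nonempty_LTensorCx_iso S₁ hB'
  let eS' : DerivedCategory.Q.obj S' ≅ DerivedCategory.Q.obj S₁ :=
    eS ≪≫ (DCoh.restrictD V.ι).mapIso
        ((DerivedCategory.singleFunctorIsoCompQ _ 0).app G).symm ≪≫
      Perfect.Regular.RDinD V.ι G ≪≫ (DerivedCategory.singleFunctorIsoCompQ _ 0).app G'
  obtain ⟨c⟩ := QCohLocal.nonempty_tensor_iso hB' eS'
  obtain ⟨s'⟩ := SchColim29.RpushTor.nonempty_ltensorMod_iso G' hB'
  let e : (Perfect.Basic.RD V.ι).obj W ≅ (DCoh.LTensorMod G').obj ((DCoh.Rpush g).obj (DCoh.toD _ F')) :=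
    (Perfect.Basic.RD V.ι).mapIso ((DCoh.LTensorMod G).mapIso eB.symm ≪≫ s ≪≫
        (DCoh.LTensorCx S₀).mapIso eB) ≪≫ r ≪≫
      (DCoh.LTensorCx S').mapIso eB'.symm ≪≫ t' ≪≫ c ≪≫ t₁.symm ≪≫ s'.symm ≪≫
      (DCoh.LTensorMod G').mapIso (eB' ≪≫ eR)
  exact (htor G' i (Or.inl hi)).of_iso ((DerivedCategory.homologyFunctor _ i).mapIso e)

/-- Over the base S = Y and for f flat: let f : X ⟶ Y be flat, quasi-compact and quasi-separated with Y
quasi-compact, and let N be an integer such that R^i f_* F = 0 for all i > N and all quasi-coherent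
O_X-modules F. If E ∈ D^b(O_X) has quasi-coherent cohomology and flat amplitude in [a, b] relative
to Y (represented by a complex of Y-flat modules placed in [a, b]), then Rf_* E has tor amplitude in
[a, b + N] on Y. (The source allows any S-morphism f and tor amplitude relative to S; the relative
notion used here is the flat-representative one, adequate for flat f.) -/
theorem result {X Y : Scheme.{u}} (f : X ⟶ Y) [Flat f] [QuasiCompact f] [QuasiSeparated f]
    [CompactSpace Y] [DCoh.HasRpush f] (N : ℕ)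
    (hN : ∀ (F : X.Modules), QCohCat.isQCoh X F →
      ∀ i : ℤ, (N : ℤ) < i → IsZero (DCoh.HD ((DCoh.Rpush f).obj (DCoh.inD X F)) i))
    (E : DCoh.D X) (hqc : DCoh.IsQCohD E) (c d : ℤ) [E.IsGE c] [E.IsLE d]
    (a b : ℤ) (hE : DCoh.HasRelFlatAmplitudeIn f a b E) :
    DCoh.HasTorAmplitudeIn a (b + N) ((DCoh.Rpush f).obj E) := by
  obtain ⟨E₀, hv, hflat, ⟨e⟩⟩ := hE
  have htor : DerSch.HasTorAmplitude f a b E₀ := fun x =>
    ⟨(DerSch.stalkCxOver f x).obj E₀, fun i hi => (DerSch.stalkOver f x).map_isZero (hv i hi),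
      fun i => hflat i x, ⟨Iso.refl _⟩⟩
  have hqc₀ : DCoh.IsQCohD (DCoh.toD X E₀) := fun n => (Scheme.qc X).prop_of_iso
    ((DerivedCategory.homologyFunctor X.Modules n).mapIso e).symm (hqc n)
  have hEa : E.IsGE a := (DerivedCategory.isGE_iff _ _).2 fun i hi =>
    (ExactAt.isZero_homology (ExactAt.of_isZero (hv i (Or.inl hi)))).of_iso
      ((DerivedCategory.homologyFunctor X.Modules i).mapIso e.symm ≪≫ Amplitude.hdQ E₀ i)
  have hEb : E.IsLE b := (DerivedCategory.isLE_iff _ _).2 fun i hi =>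
    (ExactAt.isZero_homology (ExactAt.of_isZero (hv i (Or.inr hi)))).of_iso
      ((DerivedCategory.homologyFunctor X.Modules i).mapIso e.symm ≪≫ Amplitude.hdQ E₀ i)
  haveI := hEa
  haveI := hEb
  haveI := isLE_Rpush f N hN E hqc a b
  intro G _ i hi
  rcases hi with hi | hi
  · exact (isZero_ltensorMod_Rpush f E₀ hqc₀ htor G i hi).of_iso
      ((DerivedCategory.homologyFunctor Y.Modules i).mapIso
        ((DCoh.LTensorMod G).mapIso ((DCoh.Rpush f).mapIso e.symm)))
  · exact isZero_ltensorMod_of_isLE _ (b + N) G i hi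

end Groth.Agent.S5630
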