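import Groth.Statements.S5632
import Groth.Agent.Lib.Nakai.UnifAbs
import Groth.Agent.Lib.Nakai.Top
import Groth.Agent.Lib.HProj.QuasiProj

set_option autoImplicit false
universe u
open CategoryTheory CategoryTheory.Limits AlgebraicGeometry
open Pic13

namespace Groth.Agent.S5632

open Groth.Agent.Lib Groth.Agent.Lib.IntTheory
open Groth.Agent.Lib.Snapper.Vanish (sym sym_cons sym_of_iso)

theorem notMem_support_coker {X : Scheme.{u}} {L : X.Modules} (s : Coh.structureModule X ⟶ L) {x : X}
    (hx : x ∈ CohB1.genLocus L s) : x ∉ CohB1.support (cokernel s) := by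
  intro h
  obtain ⟨U, hU, hxU⟩ : ∃ U : X.Opens, IsIso ((Scheme.Modules.restrictFunctor U.ι).map s) ∧ x ∈ U :=
    TopologicalSpace.Opens.mem_sSup.1 hx
  have hz : IsZero ((Scheme.Modules.restrictFunctor U.ι).obj (cokernel s)) := by
    refine IsZero.of_iso ?_ (PreservesCokernel.iso (Scheme.Modules.restrictFunctor U.ι) s)
    exact isZero_cokernel_of_epi _
  have he := Modules.Support.support_eq_empty_iff.2 hz
  rw [show (Scheme.Modules.restrictFunctor U.ι).obj (cokernel s) = (cokernel s).restrict U.ι from rfl,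
    Modules.Support.support_restrict] at he
  exact Set.eq_empty_iff_forall_notMem.1 he ⟨_, hxU⟩ h

/-- Let k be an algebraically closed field, X ⊆ P^n_k an integral closed subscheme of dimension r = s +
1 ≥ 1, with O_X(1) and O_X(-1) the restrictions of O(1) and O(-1). Let L be an invertible O_X-module
with inverse L' (L ⊗ L' ≅ O_X) whose degree (c₁(L)·c₁(O_X(1))^{r-1}) is ≤ 0 and with H^0(X, L) ≠ 0.
Then L ≅ O_X (so that its degree is 0 and h^0(L) = 1). Intersection numbers are those of FGA.intNum,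
which takes the inverse modules L', O_X(-1) as arguments. -/
theorem result (k : Type u) [Field k] [IsAlgClosed k] (n : ℕ) (X : Scheme.{u}) [X.Over (Spec (CommRingCat.of k))]
    (i : X ⟶ CohB1.ProjSpace n k) [IsClosedImmersion i] (hi : i ≫ CohB1.ProjSpace.toSpec n k = X ↘ Spec (CommRingCat.of k))
    [IsIntegral X] (s : ℕ) (hdim : topologicalKrullDim X = (s + 1 : ℕ))
    (L L' : X.Modules) (hL : PicF.IsInvertible L) (hLL' : Nonempty (CohB1.tensorMod L L' ≅ Coh.structureModule X))
    (hdeg : FGA.intNum k X (s + 1)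
      (Matrix.vecCons L' (fun _ : Fin s => (Scheme.Modules.pullback i).obj (Twist.twistProjSpace n k (-1))))
      (Coh.structureModule X) ≤ 0)
    (hsec : Nontrivial (Coh.HH X L 0)) :
    Nonempty (L ≅ Coh.structureModule X) := by
  haveI : IsProper (X ↘ Spec (CommRingCat.of k)) := by
    haveI := (ProjSpace.Basic.isProper_toSpec n k)
    rw [← hi]; infer_instance
  haveI := Curves.GlobalSections.isNoetherian_of_proper k X
  have hfin := Snapper.Finite.cohFinite k X
  obtain ⟨eLL⟩ := hLL'
  haveI := hfin L (Ample.GG.isCoh_of_isInvertible hL) 0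
  obtain ⟨σ, hσ⟩ := PosLin.Kodaira.exists_section (k := k) (M := L) (Module.finrank_pos_iff.2 hsec)
  have hO := PicLoc.isInvertible_structureModule X
  haveI : Mono σ := Curves.Positivity.mono_of_ne_zero hO hL hσ
  by_cases hQ : CohB1.support (cokernel σ) = ∅
  · haveI : Epi σ := Preadditive.epi_of_isZero_cokernel σ (Modules.Support.support_eq_empty_iff.1 hQ)
    haveI : IsIso σ := isIso_of_mono_of_epi σ
    exact ⟨(asIso σ).symm⟩
  exfalso
  have hne : CohB1.genLocus L σ ≠ ⊤ := fun htop => hQ (Set.eq_empty_iff_forall_notMem.2 fun x =>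
    notMem_support_coker σ (by rw [htop]; trivial))
  obtain ⟨-, hdimQ⟩ := Positive.dim_support_coker (X ↘ Spec (CommRingCat.of k)) hdim hL σ
    (PosLin.TopVanish.genericPoint_mem_genLocus hL hσ) hne
  have hcohQ : Coh.IsCoh (cokernel σ) := CohBasics.Closure.isCoh_cokernel σ
    (Snapper.Twist.isCoh_structureModule X).1 (Ample.GG.isCoh_of_isInvertible hL)
  have hI := Nakai.UnifVan.isInvertible_twX (k := k) i
  let H' := Nakai.UnifVan.twX i (-1)
  let l : List X.Modules := List.ofFn fun _ : Fin s => H'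
  have hl : ∀ M ∈ l, PicF.IsInvertible M := fun M hM => by
    obtain ⟨_, rfl⟩ := List.mem_ofFn.1 hM; exact hI _
  have hlen : l.length = s := List.length_ofFn
  have hL' : PicF.IsInvertible L' := TensorMod.Invertible.isInvertible_of_iso
    (PosLin.Volume.inverseIso hL (TensorMod.Basic.comm L' L ≪≫ eLL)).symm
    (TensorMod.Invertible.isInvertible_dual hL)
  have hLl : ∀ M ∈ L' :: l, PicF.IsInvertible M := List.forall_mem_cons.2 ⟨hL', hl⟩
  have hd : topologicalKrullDim X ≤ ((s + 1 : ℕ) : WithBot ℕ∞) := hdim.le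
  have hA := Additive.isAdd_sym hfin hd hl
  have hA' := Additive.isAdd_sym hfin hd hLl
  have hses := Devissage.Basic.exists_ses_mono σ
  have e1 := hA.add hses (Snapper.Twist.isCoh_structureModule X) (Ample.GG.isCoh_of_isInvertible hL) hcohQ
  have e2 := hA'.add hses (Snapper.Twist.isCoh_structureModule X) (Ample.GG.isCoh_of_isInvertible hL) hcohQ
  have h0 : sym k X (s + 1) (L' :: l) (cokernel σ) = 0 :=
    Additive.vanishBelow_sym hfin hd hLl (n := s + 1) (by rw [List.length_cons, hlen]) _ hcohQ
      (by rw [hdimQ]; exact_mod_cast Nat.lt_succ_self s)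
  have hpos : 0 < sym k X (s + 1) l (cokernel σ) := by
    refine Additive.pos (X ↘ Spec (CommRingCat.of k)) hA
      (Additive.vanishBelow_sym hfin hd hl hlen) hcohQ hdimQ fun y hy => ?_
    refine Positive.sym_closure_pos hd l hl (fun M hM => ?_) y (by rw [hlen]; exact hy.2)
    obtain ⟨_, rfl⟩ := List.mem_ofFn.1 hM
    exact ⟨Nakai.UnifVan.twX i 1, Ample.Pullback.isAmple_pullback _
        (Ample.Pullback.isQuasiAffine_of_isAffineHom _) (HProj.QuasiProj.isAmple_twist_projSpace n k),
      ⟨Nakai.UnifVan.twXAdd i 1 (-1) 0 (by norm_num) ≪≫ Nakai.UnifVan.twXZero i⟩⟩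
  have hint : sym k X (s + 1) (L' :: l) (Coh.structureModule X) ≤ 0 := by
    rw [Snapper.IntNum.intNum_eq_sym] at hdeg
    have : List.ofFn (Matrix.vecCons L' (fun _ : Fin s =>
        (Scheme.Modules.pullback i).obj (Twist.twistProjSpace n k (-1)))) = L' :: l := by
      rw [List.ofFn_succ]; rfl
    rwa [this] at hdeg
  have e3 : sym k X (s + 1) (L' :: l) L = sym k X (s + 1) l L - sym k X (s + 1) l (Coh.structureModule X) := by
    rw [sym_cons, sym_of_iso l (TensorMod.Basic.comm L' L ≪≫ eLL)]
  dsimp only at e1 e2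
  omega

end Groth.Agent.S5632
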