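import Groth.Statements.S5639
import Groth.Agent.H95.H0Drop.Basic

set_option autoImplicit false
universe u
open CategoryTheory CategoryTheory.Limits AlgebraicGeometry
open Pic13

namespace Groth.Agent.S5639

section
open CategoryTheory CategoryTheory.Limits AlgebraicGeometry
open Groth.Agent.Lib Groth.Agent.Lib.TensorMod.Basic ProjCoh.Coherent UnifReg.Step

variable {k : Type u} [Field k] [IsAlgClosed k] {N : ℕ}

theorem finrank_le (F : (CohB1.ProjSpace N k).Modules) (hF : Coh.IsCoh F)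
    (hass : ∀ x, Curv2.IsAssPoint F x → ¬ IsClosed ({x} : Set (CohB1.ProjSpace N k))) : ∀ j : ℕ,
    Module.finrank k (Coh.HH (CohB1.ProjSpace N k) (tM F (-(j : ℤ))) 0) ≤
      Module.finrank k (Coh.HH (CohB1.ProjSpace N k) F 0) - j
  | 0 => by
    let e : tM F (-((0 : ℕ) : ℤ)) ≅ F := tensorIso (Iso.refl F) twZero ≪≫ rightUnit F
    rw [(Curves.LES.isoK k e 0).finrank_eq]
    omega
  | j + 1 => by
    have ih := finrank_le F hF hass j
    let e : tM (tM F (-(j : ℤ))) (-1) ≅ tM F (-((j + 1 : ℕ) : ℤ)) :=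
      twIso2 F (-(j : ℤ)) (-1) (-((j + 1 : ℕ) : ℤ)) (by push_cast; ring)
    rw [← (Curves.LES.isoK k e 0).finrank_eq]
    rcases Nat.eq_zero_or_pos (Module.finrank k (Coh.HH (CohB1.ProjSpace N k) (tM F (-(j : ℤ))) 0)) with h0 | h0
    · by_contra hlt
      have hpos : 0 < Module.finrank k (Coh.HH (CohB1.ProjSpace N k) (tM (tM F (-(j : ℤ))) (-1)) 0) := by omega
      obtain ⟨f, g, hfg⟩ := H95.H0Drop.exists_pencil
        (haveI := isNoetherian_proj N k
         UnifReg.Hyperplane.finite_assPoints (isCoh_tensorMod (isCoh_tensorMod hF (isCoh_tw (-(j : ℤ)))) (isCoh_tw (-1))))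
        fun x hx => hass x (H95.H0Drop.isAssPoint_tM _ (H95.H0Drop.isAssPoint_tM _ hx))
      have hm : Mono (nu (H95.H0Drop.sec f) (tM F (-(j : ℤ)))) :=
        UnifReg.Main.mono_nu _ (isCoh_tensorMod hF (isCoh_tw (-(j : ℤ)))) fun x hx =>
          (H95.H0Drop.mem_genLocus_sec f x).2 fun hmem =>
            one_ne_zero (hfg x hx 1 0 (by rw [one_smul, zero_smul, add_zero]; exact hmem)).1
      let e1 : tM (tM (tM F (-(j : ℤ))) (-1)) 1 ≅ tM F (-(j : ℤ)) :=
        twIso2 _ (-1) 1 0 (by norm_num) ≪≫ tensorIso (Iso.refl _) twZero ≪≫ rightUnit _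
      haveI := H95.H0Drop.finite_h0 (isCoh_tensorMod hF (isCoh_tw (R := k) (n := N) (-(j : ℤ))))
      haveI : Subsingleton (Coh.HH (CohB1.ProjSpace N k) (tM F (-(j : ℤ))) 0) :=
        Module.finrank_zero_iff.1 h0
      haveI : Subsingleton (Coh.structureModule (CohB1.ProjSpace N k) ⟶ tM (tM (tM F (-(j : ℤ))) (-1)) 1) :=
        (ProjCoh.Horrocks.subsingleton_hom_iff _).2 (Curves.LES.isoK k e1 0).toEquiv.subsingleton
      haveI : Subsingleton (Coh.structureModule (CohB1.ProjSpace N k) ⟶ tM (tM F (-(j : ℤ))) (-1)) :=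
        ⟨fun a b => (cancel_mono (nu (H95.H0Drop.sec f) (tM F (-(j : ℤ))))).1
          (Subsingleton.elim (α := Coh.structureModule (CohB1.ProjSpace N k) ⟶ tM (tM (tM F (-(j : ℤ))) (-1)) 1) _ _)⟩
      haveI := (ProjCoh.Horrocks.subsingleton_hom_iff _).1 ‹_›
      rw [Module.finrank_zero_of_subsingleton] at hpos
      exact lt_irrefl 0 hpos
    · have h := H95.H0Drop.finrank_lt (tM F (-(j : ℤ))) (isCoh_tensorMod hF (isCoh_tw _))
        (fun x hx => hass x (H95.H0Drop.isAssPoint_tM _ hx)) h0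
      omega

theorem aux (F : (CohB1.ProjSpace N k).Modules) (hF : Coh.IsCoh F)
    (hass : ∀ x, Curv2.IsAssPoint F x → ¬ IsClosed ({x} : Set (CohB1.ProjSpace N k)))
    (n : ℕ) (hn : Module.finrank k (Coh.HH (CohB1.ProjSpace N k) F 0) ≤ n) :
    Subsingleton (Coh.HH (CohB1.ProjSpace N k) (tM F (-(n : ℤ))) 0) := by
  haveI := H95.H0Drop.finite_h0 (isCoh_tensorMod hF (isCoh_tw (R := k) (n := N) (-(n : ℤ))))
  refine Module.finrank_zero_iff.1 (?_ : Module.finrank k _ = 0)
  have := finrank_le F hF hass n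
  omega

end

/-- Let k be an algebraically closed field, P = P^N_k and F a coherent O_P-module none of whose
associated points is a closed point of P. Then H^0(P, F(-n)) = 0 for every integer n ≥ h^0(F), where
F(d) = F ⊗ O(d) and h^0(F) is the dimension of H^0(P, F) over k. -/
theorem result (k : Type u) [Field k] [IsAlgClosed k] (N : ℕ) (F : (CohB1.ProjSpace N k).Modules) (hF : Coh.IsCoh F)
    (hass : ∀ x : ↥(CohB1.ProjSpace N k), Curv2.IsAssPoint F x → ¬ IsClosed ({x} : Set ↥(CohB1.ProjSpace N k)))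
    (n : ℕ) (hn : Module.finrank k (Coh.HH (CohB1.ProjSpace N k) F 0) ≤ n) :
    Subsingleton (Coh.HH (CohB1.ProjSpace N k) (CohB1.tensorMod F (Twist.twistProjSpace N k (-(n : ℤ)))) 0) := by
  exact aux F hF hass n hn

end Groth.Agent.S5639
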