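import Groth.Statements.S5643
import Groth.Agent.Lib.Devissage.Dim

set_option autoImplicit false
universe u
open CategoryTheory CategoryTheory.Limits AlgebraicGeometry
open Classical
open SGA6

namespace Groth.Agent.S5643

/-- Let X be a Noetherian scheme and K the Grothendieck group of coherent O_X-modules. For every n, the
subgroup of K generated by the classes of coherent modules whose support has dimension ≤ n coincides
with the subgroup generated by the classes [O_Z] of the structure sheaves (as O_X-modules) of the
integral closed subschemes Z ⊆ X of dimension ≤ n, Z running over the reduced closures of points of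
X. -/
theorem result (X : Scheme.{u}) [IsNoetherian X] (n : ℕ) :
    AddSubgroup.closure {c : KZero.K0sub (fun M : X.Modules => Coh.IsCoh M) |
        ∃ G : X.Modules, Coh.IsCoh G ∧ topologicalKrullDim ↥(CohB1.support G) ≤ n ∧ c = KZero.clSub (fun M : X.Modules => Coh.IsCoh M) G} =
      AddSubgroup.closure {c : KZero.K0sub (fun M : X.Modules => Coh.IsCoh M) |
        ∃ x : ↥X, topologicalKrullDim ↥(closure ({x} : Set ↥X)) ≤ n ∧ c = KZero.clSub (fun M : X.Modules => Coh.IsCoh M) (Cyc.closureStructureSheaf x)} := by
  apply le_antisymm <;> rw [AddSubgroup.closure_le]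
  · rintro c ⟨G, hG, hdim, rfl⟩
    haveI := hG.2
    have hcl : IsClosed (CohB1.support G) := Lib.Modules.Support.isClosed_support G
    refine Lib.Devissage.Basic.generation _ _ ⟨CohB1.support G, hcl⟩ (fun K hK => hK.1)
      (fun y hy => ⟨_, Lib.Devissage.Closure.cohIn_closureStructureSheaf y,
        Lib.Devissage.Closure.length_closureStructureSheaf y, ?_⟩) G ⟨hG, subset_rfl⟩
    exact AddSubgroup.subset_closure
      ⟨y, (Lib.Devissage.Dim.dim_closure_le hcl hy).trans hdim, rfl⟩
  · rintro c ⟨x, hdim, rfl⟩
    exact AddSubgroup.subset_closure ⟨_, Lib.Devissage.Closure.isCoh_closureStructureSheaf x,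
      (Lib.Devissage.Dim.dim_mono (Lib.Devissage.Closure.support_closureStructureSheaf x)).trans hdim,
      rfl⟩

end Groth.Agent.S5643
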