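import Groth.Statements.S5644
import Groth.Agent.Lib.Nakai.UnifAbs

set_option autoImplicit false
universe u
open CategoryTheory CategoryTheory.Limits AlgebraicGeometry
open Pic13

namespace Groth.Agent.S5644

open Groth.Agent.Lib Groth.Agent.Lib.IntTheory
open Groth.Agent.Lib.Snapper.Vanish (sym sym_cons sym_of_iso)

theorem binom_unique {N : ℕ} (c d : ℕ → ℤ)
    (h : ∀ m : ℕ, ∑ i ∈ Finset.range N, c i * (m.choose i : ℤ) = ∑ i ∈ Finset.range N, d i * (m.choose i : ℤ)) :
    ∀ i, i < N → c i = d i := by
  intro i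
  induction i using Nat.strong_induction_on with
  | _ i ih =>
    intro hi
    have h' : ∀ e : ℕ → ℤ, ∑ l ∈ Finset.range N, e l * (i.choose l : ℤ) =
        (∑ l ∈ Finset.range i, e l * (i.choose l : ℤ)) + e i := fun e => by
      rw [← Finset.sum_subset (Finset.range_subset_range.2 (show i + 1 ≤ N from hi)) fun l _ hl => by
        simp only [Finset.mem_range, not_lt] at hl
        simp [Nat.choose_eq_zero_of_lt (show i < l by omega)], Finset.sum_range_succ]
      simp
    have hm := h i
    rw [h', h', Finset.sum_congr rfl fun l hl => by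
      rw [ih l (Finset.mem_range.1 hl) (lt_trans (Finset.mem_range.1 hl) hi)]] at hm
    linarith

theorem choose_add (m j : ℕ) {r : ℕ} (hj : j ≤ r) :
    ((m + j).choose j : ℤ) = ∑ i ∈ Finset.range (r + 1), (j.choose i : ℤ) * (m.choose i : ℤ) := by
  rw [← Finset.sum_subset (Finset.range_subset_range.2 (show j + 1 ≤ r + 1 by omega)) fun l _ hl => by
    simp only [Finset.mem_range, not_lt] at hl
    simp [Nat.choose_eq_zero_of_lt (show j < l by omega)]]
  rw [Nat.add_choose_eq, Finset.Nat.sum_antidiagonal_eq_sum_range_succ_mk, Nat.cast_sum]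
  refine Finset.sum_congr rfl fun i hi => ?_
  rw [Finset.mem_range] at hi
  show ((m.choose i * j.choose (j - i) : ℕ) : ℤ) = _
  rw [Nat.choose_symm (show i ≤ j by omega)]
  push_cast
  ring

section Lemmas
variable {k : Type u} [Field k] {X : Scheme.{u}} [X.Over (Spec (CommRingCat.of k))]
  [IsProper (X ↘ Spec (CommRingCat.of k))] [AlgebraicGeometry.IsNoetherian X] {r : ℕ}
  (hd : topologicalKrullDim X ≤ r)

include hd

theorem supp_le (F : X.Modules) : topologicalKrullDim (CohB1.support F) ≤ r :=
  Topology.IsInducing.subtypeVal.topologicalKrullDim_le.trans hd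

/-- The binomial coefficients of the Hilbert polynomial. -/
theorem coeff_eq {H G : X.Modules} (hH : PicF.IsInvertible H) (hG : Coh.IsCoh G)
    (a : Fin (r + 1) → ℤ)
    (ha : ∀ m : ℕ, FGA.eulerCharLE k X (CohB1.tensorMod (CohB1.tensorPow H m) G) r =
      ∑ j : Fin (r + 1), a j * ((m + j).choose j : ℤ)) :
    ∀ i, i < r + 1 → (-1 : ℤ) ^ i * sym k X r (List.replicate i H) G =
      ∑ j : Fin (r + 1), a j * ((j : ℕ).choose i : ℤ) := by
  have hrep : ∀ i, ∀ M ∈ List.replicate i H, PicF.IsInvertible M := fun i M hM =>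
    (List.eq_of_mem_replicate hM) ▸ hH
  refine binom_unique _ _ fun m => ?_
  have h1 := Snapper.Poly.sym_pow_expansion (k := k) (d := r) H m [] G
  simp only [List.append_nil] at h1
  have h2 : ∀ i, r < i → sym k X r (List.replicate i H) G = 0 := fun i hi =>
    Snapper.Vanish.sym_eq_zero (Snapper.Finite.cohFinite k X) hd _ (hrep i) _ hG
      (lt_of_le_of_lt (supp_le hd G) (by rw [List.length_replicate]; exact_mod_cast hi))
  have h3 : ∑ i ∈ Finset.range (m + 1), (-1 : ℤ) ^ i * (m.choose i : ℤ) * sym k X r (List.replicate i H) G =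
      ∑ i ∈ Finset.range (r + 1), (-1 : ℤ) ^ i * sym k X r (List.replicate i H) G * (m.choose i : ℤ) := by
    rw [Finset.sum_congr rfl fun i _ => show (-1 : ℤ) ^ i * (m.choose i : ℤ) * sym k X r (List.replicate i H) G =
      (-1 : ℤ) ^ i * sym k X r (List.replicate i H) G * (m.choose i : ℤ) by ring]
    rcases le_total (m + 1) (r + 1) with h | h
    · refine Finset.sum_subset (Finset.range_subset_range.2 h) fun i _ hi => ?_
      simp only [Finset.mem_range, not_lt] at hi
      simp [Nat.choose_eq_zero_of_lt (show m < i by omega)]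
    · refine (Finset.sum_subset (Finset.range_subset_range.2 h) fun i _ hi => ?_).symm
      simp only [Finset.mem_range, not_lt] at hi
      simp [h2 i (by omega)]
  rw [← h3, ← h1]
  show FGA.eulerCharLE k X _ r = _
  rw [ha m, Finset.sum_congr rfl fun j _ => by rw [choose_add m j (r := r) (by omega), Finset.mul_sum]]
  rw [Finset.sum_comm]
  refine Finset.sum_congr rfl fun i _ => ?_
  rw [Finset.sum_mul]
  exact Finset.sum_congr rfl fun j _ => by ring

/-- Replacing inverse modules changes the sign. -/
theorem sym_inv_replicate {H H' : X.Modules} (hH : PicF.IsInvertible H) (hH' : PicF.IsInvertible H')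
    (e : CohB1.tensorMod H H' ≅ Coh.structureModule X) {F : X.Modules} (hF : Coh.IsCoh F) :
    ∀ (t : ℕ) (l : List X.Modules), (∀ M ∈ l, PicF.IsInvertible M) → r ≤ t + l.length →
      sym k X r (List.replicate t H' ++ l) F = (-1 : ℤ) ^ t * sym k X r (List.replicate t H ++ l) F
  | 0, l, _, _ => by simp
  | t + 1, l, hl, hle => by
    have hl' : ∀ M ∈ List.replicate t H' ++ l, PicF.IsInvertible M := fun M hM => by
      rcases List.mem_append.1 hM with h | h
      · exact List.eq_of_mem_replicate h ▸ hH'
      · exact hl M h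
    have h := sym_inv_replicate hH hH' e hF t (H :: l) (List.forall_mem_cons.2 ⟨hH, hl⟩)
      (by simp only [List.length_cons]; omega)
    rw [List.replicate_succ, List.cons_append,
      Snapper.IntNum.sym_inverse (Snapper.Finite.cohFinite k X) hd hH hH' e _ hl' hF
        (lt_of_le_of_lt (supp_le hd F) (by
          simp only [List.length_append, List.length_replicate]
          exact_mod_cast (by omega : r < t + l.length + 2))),
      Snapper.IntNum.sym_perm ((List.perm_middle (a := H)).symm), h,
      Snapper.IntNum.sym_perm (List.perm_middle (a := H)), ← List.cons_append, ← List.replicate_succ]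
    ring

end Lemmas

/-- Let k be an algebraically closed field, X ⊆ P^n_k an integral closed subscheme of dimension r = s +
1, O_X(1) and O_X(-1) the restrictions of O(1) and O(-1), and L an invertible O_X-module with
inverse L'. Write the Hilbert polynomials in the binomial basis, χ(L(m)) = Σ_{j ≤ r} a_j C(m+j, j)
and χ(O_X(m)) = Σ_{j ≤ r} e_j C(m+j, j) for m ≥ 0 (Euler characteristics in degrees ≤ r). Then (i)
a_r = e_r = (c₁(O_X(1))^r), the degree of X, and (ii) a_{r-1} - e_{r-1} = (c₁(L)·c₁(O_X(1))^{r-1}),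
the degree of L. Intersection numbers are those of FGA.intNum, which takes the inverse modules L',
O_X(-1) as arguments. -/
theorem result (k : Type u) [Field k] [IsAlgClosed k] (n : ℕ) (X : Scheme.{u}) [X.Over (Spec (CommRingCat.of k))]
    (i : X ⟶ CohB1.ProjSpace n k) [IsClosedImmersion i] (hi : i ≫ CohB1.ProjSpace.toSpec n k = X ↘ Spec (CommRingCat.of k))
    [IsIntegral X] (s : ℕ) (hdim : topologicalKrullDim X = (s + 1 : ℕ))
    (L L' : X.Modules) (hL : PicF.IsInvertible L) (hLL' : Nonempty (CohB1.tensorMod L L' ≅ Coh.structureModule X))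
    (a e : Fin (s + 2) → ℤ)
    (ha : ∀ m : ℕ, FGA.eulerCharLE k X (Pic13.twistOn k i L m) (s + 1) = ∑ j : Fin (s + 2), a j * ((m + j).choose j : ℤ))
    (he : ∀ m : ℕ, FGA.eulerCharLE k X (Pic13.twistOn k i (Coh.structureModule X) m) (s + 1) =
      ∑ j : Fin (s + 2), e j * ((m + j).choose j : ℤ)) :
    a (Fin.last (s + 1)) = e (Fin.last (s + 1)) ∧
      a (Fin.last (s + 1)) = FGA.intNum k X (s + 1)
        (fun _ : Fin (s + 1) => (Scheme.Modules.pullback i).obj (Twist.twistProjSpace n k (-1))) (Coh.structureModule X) ∧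
      a (Fin.castSucc (Fin.last s)) - e (Fin.castSucc (Fin.last s)) = FGA.intNum k X (s + 1)
        (Matrix.vecCons L' (fun _ : Fin s => (Scheme.Modules.pullback i).obj (Twist.twistProjSpace n k (-1))))
        (Coh.structureModule X) := by
  haveI : IsProper (X ↘ Spec (CommRingCat.of k)) := by
    haveI := (ProjSpace.Basic.isProper_toSpec n k)
    rw [← hi]; infer_instance
  haveI := Curves.GlobalSections.isNoetherian_of_proper k X
  have hfin := Snapper.Finite.cohFinite k X
  obtain ⟨eLL⟩ := hLL'
  have hd : topologicalKrullDim X ≤ ((s + 1 : ℕ) : WithBot ℕ∞) := hdim.le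
  have hI := Nakai.UnifVan.isInvertible_twX (k := k) i
  let H := Nakai.UnifVan.twX i 1
  let H' := Nakai.UnifVan.twX i (-1)
  have eH : CohB1.tensorMod H H' ≅ Coh.structureModule X :=
    Nakai.UnifVan.twXAdd i 1 (-1) 0 (by norm_num) ≪≫ Nakai.UnifVan.twXZero i
  have hL' : PicF.IsInvertible L' := TensorMod.Invertible.isInvertible_of_iso
    (PosLin.Volume.inverseIso hL (TensorMod.Basic.comm L' L ≪≫ eLL)).symm
    (TensorMod.Invertible.isInvertible_dual hL)
  have hO := Snapper.Twist.isCoh_structureModule X
  have hLc := Ample.GG.isCoh_of_isInvertible hL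
  have hconv : ∀ (G : X.Modules) (m : ℕ),
      FGA.eulerCharLE k X (CohB1.tensorMod (CohB1.tensorPow H m) G) (s + 1) =
        FGA.eulerCharLE k X (Pic13.twistOn k i G m) (s + 1) := fun G m => by
    obtain ⟨e'⟩ := DepthTwist.Embed.nonempty_pow_iso i ⟨Iso.refl H⟩ m
    exact Snapper.Chi.eulerCharLE_of_iso
      (TensorMod.Basic.tensorIso e' (Iso.refl _) ≪≫ TensorMod.Basic.comm _ _) _
  have hA := coeff_eq hd (hI 1) hLc a fun m => (hconv L m).trans (ha m)
  have hE := coeff_eq hd (hI 1) hO e fun m => (hconv _ m).trans (he m)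
  have top : ∀ c : Fin (s + 2) → ℤ, ∑ j : Fin (s + 2), c j * ((j : ℕ).choose (s + 1) : ℤ) =
      c (Fin.last (s + 1)) := fun c => by
    rw [Fin.sum_univ_castSucc, Finset.sum_eq_zero fun x _ => by
      rw [Fin.val_castSucc, Nat.choose_eq_zero_of_lt x.isLt]; simp]
    simp
  have next' : ∀ c : Fin (s + 2) → ℤ, ∑ j : Fin (s + 2), c j * ((j : ℕ).choose s : ℤ) =
      c (Fin.castSucc (Fin.last s)) + (s + 1) * c (Fin.last (s + 1)) := fun c => by
    rw [Fin.sum_univ_castSucc, Fin.sum_univ_castSucc, Finset.sum_eq_zero fun x _ => by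
      rw [Fin.val_castSucc, Fin.val_castSucc, Nat.choose_eq_zero_of_lt x.isLt]; simp]
    simp [Nat.choose_succ_self_right]
    ring
  have hrep : ∀ (t : ℕ) (M : X.Modules), PicF.IsInvertible M → ∀ P ∈ List.replicate t M, PicF.IsInvertible P :=
    fun t M hM P hP => List.eq_of_mem_replicate hP ▸ hM
  have htop : sym k X (s + 1) (List.replicate (s + 1) H) L =
      sym k X (s + 1) (List.replicate (s + 1) H) (Coh.structureModule X) := by
    rw [← sym_of_iso _ (TensorMod.Basic.rightUnit L)]
    exact Additive.twist_eq (Additive.isAdd_sym hfin hd (hrep _ _ (hI 1)))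
      (Additive.vanishBelow_sym hfin hd (hrep _ _ (hI 1)) List.length_replicate) hL hO
      (supp_le hd _)
  have hAt := hA (s + 1) (by omega)
  have hEt := hE (s + 1) (by omega)
  have hAs := hA s (by omega)
  have hEs := hE s (by omega)
  rw [top] at hAt hEt
  rw [next'] at hAs hEs
  have hll : ∀ t, (List.ofFn fun _ : Fin t => H') = List.replicate t H' := fun t => List.ofFn_const t H'
  refine ⟨by rw [← hAt, ← hEt, htop], ?_, ?_⟩
  · rw [Snapper.IntNum.intNum_eq_sym, show (List.ofFn fun _ : Fin (s + 1) =>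
      (Scheme.Modules.pullback i).obj (Twist.twistProjSpace n k (-1))) = List.replicate (s + 1) H' from hll _,
      ← List.append_nil (List.replicate (s + 1) H'),
      sym_inv_replicate hd (hI 1) (hI (-1)) eH hO (s + 1) [] (by simp) (by simp), List.append_nil,
      ← hAt, htop]
  · rw [Snapper.IntNum.intNum_eq_sym, show List.ofFn (Matrix.vecCons L' (fun _ : Fin s =>
      (Scheme.Modules.pullback i).obj (Twist.twistProjSpace n k (-1)))) = L' :: List.replicate s H' from by
        rw [List.ofFn_succ, ← hll]; rfl,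
      Snapper.IntNum.sym_perm (List.perm_append_singleton L' (List.replicate s H')).symm,
      sym_inv_replicate hd (hI 1) (hI (-1)) eH hO s [L'] (List.forall_mem_cons.2 ⟨hL', by simp⟩) (by simp),
      Snapper.IntNum.sym_perm (List.perm_append_singleton L' (List.replicate s H))]
    have hl' : ∀ M ∈ L' :: List.replicate s H, PicF.IsInvertible M :=
      List.forall_mem_cons.2 ⟨hL', hrep _ _ (hI 1)⟩
    have h1 := Additive.twist_eq (Additive.isAdd_sym hfin hd hl')
      (Additive.vanishBelow_sym hfin hd hl' (n := s + 1) (by simp)) hL hO (supp_le hd _)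
    rw [sym_of_iso _ (TensorMod.Basic.rightUnit L)] at h1
    rw [← h1, sym_cons, sym_of_iso _ (TensorMod.Basic.comm L' L ≪≫ eLL), mul_sub, hAs, hEs]
    linear_combination (-(s : ℤ) - 1) * (hAt.symm.trans (by rw [htop]; exact hEt) : a (Fin.last (s + 1)) = e (Fin.last (s + 1)))

end Groth.Agent.S5644
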