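import Groth.Statements.S5650
import Groth.Agent.H47.IsoLocus
import Groth.Agent.Lib.Flat55.FlatFunSheaf

set_option autoImplicit false
universe u
open CategoryTheory CategoryTheory.Limits AlgebraicGeometry
open FlatMor

namespace Groth.Agent.S5650

/-- Let X ⟶ S be proper and of finite presentation, u : F ⟶ G a morphism of finitely presented
O_X-modules with G flat over S. Then the subfunctor of S 'making u an isomorphism' is represented by
an open subscheme of S of finite presentation over S: there is a quasi-compact open U ⊆ S such that,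
for every scheme T and t : T ⟶ S, the pullback of u to X ×_S T is an isomorphism if and only if the
image of t lies in U. -/
theorem result {X S : Scheme.{u}} (f : X ⟶ S) [IsProper f] [LocallyOfFinitePresentation f]
    (F G : X.Modules) (hF : CohB1.IsFP F) (hG : CohB1.IsFP G) (hGfl : FlatMod.IsFlatOver f G) (u : F ⟶ G) :
    ∃ U : S.Opens, QuasiCompact U.ι ∧
      ∀ (T : Scheme.{u}) (t : T ⟶ S),
        IsIso ((Scheme.Modules.pullback (pullback.fst f t)).map u) ↔ Set.range t.base ⊆ (U : Set S) := by
  haveI : SheafOfModules.IsFinitePresentation (R := X.ringCatSheaf) F := hF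
  haveI : SheafOfModules.IsFinitePresentation (R := X.ringCatSheaf) G := hG
  haveI : F.IsQuasicoherent := Groth.Agent.H26.FreeCrit.isQuasicoherent_of_isFP hF
  haveI : G.IsQuasicoherent := Groth.Agent.H26.FreeCrit.isQuasicoherent_of_isFP hG
  let N := Groth.Agent.H47.IsoLocus.nonIso u
  have hN := Groth.Agent.H47.IsoLocus.isLocallyConstructible_nonIso f u hF hG hGfl
  have hclosed : IsClosed (f '' N) :=
    f.isClosedMap _ (Groth.Agent.H47.IsoLocus.isClosed_nonIso f u hF hG hGfl)
  have hlc : Topology.IsLocallyConstructible ((f '' N)ᶜ) := fun p => by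
    obtain ⟨W, hpW, hW, hWs⟩ := f.isLocallyConstructible_image hN p
    exact ⟨W, hpW, hW, hWs.compl⟩
  let U : S.Opens := ⟨(f '' N)ᶜ, hclosed.isOpen_compl⟩
  refine ⟨U, ?_, fun T t => ⟨fun h => ?_, fun h => ?_⟩⟩
  · rw [quasiCompact_iff_forall_isAffineOpen]
    intro V hV
    haveI : IsAffine V := hV
    haveI : CompactSpace (V : Scheme.{u}) := inferInstance
    haveI : SpectralSpace (V : Scheme.{u}) := {}
    have h1 : Topology.IsConstructible (V.ι ⁻¹' ((f '' N)ᶜ)) :=
      (hlc.preimage_of_isOpenEmbedding V.ι.isOpenEmbedding).isConstructible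
    have h2 := (Groth.Agent.Lib.Spectral.Basic.isCompact_of_isConstructible h1).image V.ι.continuous
    rw [Set.image_preimage_eq_inter_range, Scheme.Opens.range_ι, Set.inter_comm] at h2
    rw [U.ι.isOpenEmbedding.isInducing.isCompact_iff]
    convert h2 using 1
    show U.ι '' (U.ι ⁻¹' (V : Set S)) = (V : Set S) ∩ (f '' N)ᶜ
    rw [Set.image_preimage_eq_inter_range, Scheme.Opens.range_ι]
    rfl
  · -- an isomorphism on `T` forces the image into `U`
    rintro _ ⟨τ, rfl⟩ ⟨x, hx, hfx⟩
    apply hx
    let s := t τ
    obtain ⟨z, hz⟩ : x ∈ Set.range (f.fiberι s) := by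
      rw [Scheme.Hom.range_fiberι]
      exact hfx
    rw [← hz]
    refine Groth.Agent.H47.IsoLocus.bijective_of_fibre f u hF hG hGfl s z ?_
    show Function.Bijective _
    suffices hiso : IsIso ((Scheme.Modules.pullback (f.fiberι s)).map u) from
      (Groth.Agent.Lib.Modules.StalkModule.isIso_iff_stalkMapₗ_bijective _).1 hiso z
    let w := T.fromSpecResidueField τ ≫ t
    let φ := Spec.map (t.residueFieldMap τ)
    have hw : φ ≫ S.fromSpecResidueField s = w :=
      t.SpecMap_residueFieldMap_fromSpecResidueField τ
    let a : Limits.pullback f w ⟶ Limits.pullback f (S.fromSpecResidueField s) := Limits.pullback.lift (Limits.pullback.fst f w)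
      (Limits.pullback.snd f w ≫ φ) (by rw [Limits.pullback.condition, Category.assoc, hw])
    have ha : IsPullback a (Limits.pullback.snd f w)
        (Limits.pullback.snd f (S.fromSpecResidueField s)) φ := by
      refine IsPullback.of_right ?_ (Limits.pullback.lift_snd _ _ _) (IsPullback.of_hasPullback _ _)
      rw [Limits.pullback.lift_fst, hw]
      exact IsPullback.of_hasPullback f w
    haveI : Flat φ := by
      letI := (t.residueFieldMap τ).hom.toAlgebra
      exact HasRingHomProperty.Spec_iff.mpr
        (inferInstance : Module.Flat (S.residueField s) (T.residueField τ))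
    haveI : Surjective φ := ⟨fun p => ⟨Classical.arbitrary _, Subsingleton.elim _ _⟩⟩
    have hflata : Flat a := MorphismProperty.of_isPullback ha.flip inferInstance
    have hsurja : Surjective a := MorphismProperty.of_isPullback ha.flip inferInstance
    let b : Limits.pullback f w ⟶ Limits.pullback f t := Limits.pullback.lift (Limits.pullback.fst f w)
      (Limits.pullback.snd f w ≫ T.fromSpecResidueField τ)
      (by rw [Limits.pullback.condition, Category.assoc])
    haveI := h
    refine Groth.Agent.Lib.Flat55.FlatFunSheaf.isIso_of_pullback (fun _ : PUnit.{u+1} => a)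
      (fun _ => hflata) (fun p => ⟨⟨⟩, hsurja.surj p⟩) _ fun _ => ?_
    refine (Groth.Agent.Lib.Flat55.FlatFunSheaf.prop_map_map_iff'
      (Scheme.Modules.pullbackComp a (f.fiberι s) ≪≫
        Scheme.Modules.pullbackCongr (Limits.pullback.lift_fst _ _ _))
      (Q := MorphismProperty.isomorphisms _) u).2 ?_
    exact (Groth.Agent.Lib.Flat55.FlatFunSheaf.prop_map_map_iff'
      (Scheme.Modules.pullbackComp b (Limits.pullback.fst f t) ≪≫
        Scheme.Modules.pullbackCongr (Limits.pullback.lift_fst _ _ _))
      (Q := MorphismProperty.isomorphisms _) u).1 (MorphismProperty.isomorphisms.infer_property _)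
  · rw [Groth.Agent.Lib.Modules.StalkModule.isIso_iff_stalkMapₗ_bijective]
    intro z
    let g := Limits.pullback.fst f t
    have hb : Function.Bijective (Groth.Agent.Lib.Modules.StalkModule.stalkMapₗ u (g z)) := by
      by_contra hc
      refine h ⟨Limits.pullback.snd f t z, rfl⟩ ⟨g z, hc, ?_⟩
      rw [← Scheme.Hom.comp_apply, Limits.pullback.condition, Scheme.Hom.comp_apply]
    obtain ⟨eF, eG, hF', hG', hu⟩ :=
      Groth.Agent.Lib.Flat55.FlatFunSheaf.exists_stalk_pullback_map g u z
    letI := (g.stalkMap z).hom.toAlgebra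
    have hl : Function.Bijective ((Groth.Agent.Lib.Modules.StalkModule.stalkMapₗ u (g z)).lTensor
        ((Limits.pullback f t).presheaf.stalk z)) :=
      ((LinearEquiv.ofBijective _ hb).lTensor _).bijective
    refine (Function.Bijective.of_comp_iff _ hF').1 ?_
    exact (funext hu : _ ∘ eF = _) ▸ hG'.comp hl

end Groth.Agent.S5650
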