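import Groth.Statements.S5656
import Mathlib

set_option autoImplicit false
universe u
open W4sga6xxiii

namespace Groth.Agent.S5656

lemma poly_eq {P Q : Polynomial ℚ} (h : ∀ n : ℤ, P.eval (n : ℚ) = Q.eval (n : ℚ)) : P = Q :=
  Polynomial.eq_of_infinite_eval_eq _ _ (Set.Infinite.mono (by rintro _ ⟨n, rfl⟩; exact h n)
    (Set.infinite_range_of_injective (f := fun n : ℤ => (n : ℚ)) Int.cast_injective))

lemma exists_poly {G : Type*} [AddCommGroup G] {f : G → ℚ} (hf : W4sga6xxiii.IsPolyMap f) (z : G) :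
    ∃ Q : Polynomial ℚ, ∀ n : ℤ, f (n • z) = Q.eval (n : ℚ) := by
  obtain ⟨m, y, -, hy⟩ := hf 1 ![z]
  refine ⟨∑ k : Fin 1 → Fin (m + 1), Polynomial.C (y k / (Nat.factorial (k 0 : ℕ) : ℚ)) * descPochhammer ℚ (k 0 : ℕ), fun n => ?_⟩
  have h := hy ![n]
  simp only [Fin.sum_univ_one, Matrix.cons_val_fin_one, Fin.prod_univ_one] at h
  rw [h, Polynomial.eval_finset_sum]
  refine Finset.sum_congr rfl fun k _ => ?_
  have e1 : (descPochhammer ℤ (k 0 : ℕ)).eval n = ((Nat.factorial (k 0 : ℕ) : ℕ) : ℤ) * Ring.choose n (k 0 : ℕ) := by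
    rw [Polynomial.eval_eq_smeval, Ring.descPochhammer_eq_factorial_smul_choose, nsmul_eq_mul]
  rw [Polynomial.eval_mul, Polynomial.eval_C, ← descPochhammer_map (Int.castRingHom ℚ), Polynomial.eval_intCast_map, Int.cast_id, e1, eq_intCast,
    zsmul_eq_mul]
  push_cast
  have : ((Nat.factorial (k 0 : ℕ) : ℕ) : ℚ) ≠ 0 := by exact_mod_cast (Nat.factorial_pos _).ne'
  field_simp


/-- Let G be an abelian group and G' ⊆ G a subgroup which is divisible by some prime number p (every
element of G' is p times an element of G') and such that G/G' is a torsion group. Then every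
polynomial map f : G → ℚ (admitting binomial expansions f(Σ n_i x_i) = Σ_k Π_i C(n_i, k_i) y_k along
every finite sequence x) which takes only integer values is constant. -/
theorem result {G : Type u} [AddCommGroup G] (G' : AddSubgroup G)
    (p : ℕ) (hp : p.Prime) (hdiv : ∀ x ∈ G', ∃ y ∈ G', p • y = x) (htor : ∀ x : G, ∃ n : ℤ, n ≠ 0 ∧ n • x ∈ G')
    (f : G → ℚ) (hf : W4sga6xxiii.IsPolyMap f) (hint : ∀ x, ∃ z : ℤ, f x = z) (x : G) : f x = f 0 := by
  have hQ : ∀ z : G, ∃ Q : Polynomial ℚ, ∀ n : ℤ, f (n • z) = Q.eval (n : ℚ) := fun z => exists_poly hf z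
  have hsub : ∀ z ∈ G', f z = f 0 := by
    intro z hz
    choose! D hD1 hD2 using hdiv
    let s : ℕ → G := fun k => D^[k] z
    have hs : ∀ k, s k ∈ G' ∧ (p ^ k) • s k = z := by
      intro k
      induction k with
      | zero => exact ⟨hz, by simp [s]⟩
      | succ k ih =>
        simp only [s, Function.iterate_succ_apply']
        exact ⟨hD1 _ ih.1, by rw [pow_succ, mul_smul, hD2 _ ih.1]; exact ih.2⟩
    obtain ⟨Q, hQz⟩ := hQ z
    have hp1 : (1 : ℚ) < p := by exact_mod_cast hp.one_lt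
    have hval : ∀ k : ℕ, ∃ a : ℤ, Q.eval (((p : ℚ)⁻¹) ^ k) = a := by
      intro k
      obtain ⟨R, hR⟩ := hQ (s k)
      have e : Q = R.comp (Polynomial.C ((p : ℚ) ^ k) * Polynomial.X) := by
        refine poly_eq fun n => ?_
        rw [Polynomial.eval_comp, Polynomial.eval_mul, Polynomial.eval_C, Polynomial.eval_X, ← hQz]
        have := hR (((p ^ k : ℕ) : ℤ) * n)
        push_cast at this
        rw [← this, mul_comm ((p : ℤ) ^ k) n, mul_smul, show ((p : ℤ) ^ k) • s k = z by
          rw [← Nat.cast_pow, natCast_zsmul]; exact (hs k).2]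
      obtain ⟨a, ha⟩ := hint ((1 : ℤ) • s k)
      refine ⟨a, ?_⟩
      rw [e, Polynomial.eval_comp, Polynomial.eval_mul, Polynomial.eval_C, Polynomial.eval_X, ← mul_pow,
        mul_inv_cancel₀ (by positivity), one_pow, ← ha, hR 1, Int.cast_one]
    obtain ⟨b, hb⟩ := hint 0
    have h0 : Q.eval 0 = f 0 := by simpa using (hQz 0).symm
    have hlim : Filter.Tendsto (fun k : ℕ => Q.eval (((p : ℚ)⁻¹) ^ k)) Filter.atTop (nhds (f 0)) := by
      rw [← h0]
      exact (Q.continuous.tendsto 0).comp (tendsto_pow_atTop_nhds_zero_of_lt_one (by positivity) (inv_lt_one_of_one_lt₀ hp1))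
    have hev : ∀ᶠ k in Filter.atTop, Q.eval (((p : ℚ)⁻¹) ^ k) = f 0 := by
      filter_upwards [hlim.eventually (Metric.ball_mem_nhds (f 0) one_pos)] with k hk
      obtain ⟨a, ha⟩ := hval k
      rw [ha, hb] at hk ⊢
      rw [Rat.dist_eq] at hk
      have hk' : |((a - b : ℤ) : ℚ)| < 1 := by
        have hkr : |((a : ℝ) - b)| < 1 := by exact_mod_cast hk
        rw [Int.cast_sub]; exact_mod_cast hkr
      rw [← Int.cast_abs, ← Int.cast_one (R := ℚ), Int.cast_lt, Int.abs_lt_one_iff, sub_eq_zero] at hk'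
      rw [hk']
    obtain ⟨K, hK⟩ := Filter.eventually_atTop.mp hev
    have hcst : Q = Polynomial.C (f 0) := by
      refine Polynomial.eq_of_infinite_eval_eq _ _ (Set.Infinite.mono ?_ (Set.infinite_range_of_injective
        (f := fun k : ℕ => ((p : ℚ)⁻¹) ^ (k + K)) ?_))
      · rintro _ ⟨k, rfl⟩
        simpa using hK (k + K) (by omega)
      · exact (pow_right_strictAnti₀ (by positivity) (inv_lt_one_of_one_lt₀ hp1)).injective.comp (add_left_injective K)
    simpa [hcst] using hQz 1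
  obtain ⟨Q, hQx⟩ := hQ x
  obtain ⟨n, hn, hnx⟩ := htor x
  have hcst : Q.comp (Polynomial.C (n : ℚ) * Polynomial.X) = Polynomial.C (f 0) := by
    refine poly_eq fun j => ?_
    rw [Polynomial.eval_comp, Polynomial.eval_mul, Polynomial.eval_C, Polynomial.eval_X, Polynomial.eval_C,
      ← Int.cast_mul, ← hQx, mul_comm, mul_smul]
    exact hsub _ (G'.zsmul_mem hnx j)
  have h2 := congrArg (Polynomial.eval ((n : ℚ)⁻¹)) hcst
  rw [Polynomial.eval_comp, Polynomial.eval_mul, Polynomial.eval_C, Polynomial.eval_X, Polynomial.eval_C,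
    mul_inv_cancel₀ (by exact_mod_cast hn), ← Int.cast_one, ← hQx, one_smul] at h2
  exact h2

end Groth.Agent.S5656
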