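import Groth.Statements.S5657
import Mathlib

set_option autoImplicit false
universe u
open TensorProduct
open W4sga6xxiii

namespace Groth.Agent.S5657

lemma zpow_expand {A : Type*} [CommRing A] (u : Aˣ) (m : ℕ) (hy : ((u : A) - 1) ^ (m + 1) = 0) (n : ℤ) :
    ((u ^ n : Aˣ) : A) = ∑ k ∈ Finset.range (m + 1), ((Ring.choose n k : ℤ) : A) * ((u : A) - 1) ^ k := by
  set y := (u : A) - 1 with hdef
  have hu : (u : A) = 1 + y := by rw [hdef]; ring
  have hstep : ∀ n : ℤ, ∑ k ∈ Finset.range (m + 1), ((Ring.choose (n + 1) k : ℤ) : A) * y ^ k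
      = (u : A) * ∑ k ∈ Finset.range (m + 1), ((Ring.choose n k : ℤ) : A) * y ^ k := by
    intro n
    rw [hu, add_mul, one_mul, Finset.mul_sum, Finset.sum_range_succ' (fun k => ((Ring.choose (n + 1) k : ℤ) : A) * y ^ k),
      Finset.sum_range_succ' (fun k => ((Ring.choose n k : ℤ) : A) * y ^ k),
      Finset.sum_range_succ (fun k => y * (((Ring.choose n k : ℤ) : A) * y ^ k))]
    simp only [Ring.choose_succ_succ, Ring.choose_zero_right, Int.cast_add, add_mul, Finset.sum_add_distrib]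
    have : y * (((Ring.choose n m : ℤ) : A) * y ^ m) = 0 := by rw [mul_left_comm, ← pow_succ', hy, mul_zero]
    rw [this]
    have : ∀ k, y * (((Ring.choose n k : ℤ) : A) * y ^ k) = ((Ring.choose n k : ℤ) : A) * y ^ (k + 1) := fun k => by ring
    simp only [this]
    ring
  have h0 : ∑ k ∈ Finset.range (m + 1), ((Ring.choose (0 : ℤ) k : ℤ) : A) * y ^ k = 1 := by
    rw [Finset.sum_eq_single 0]
    · simp
    · intro k _ hk
      rw [Ring.choose_zero_pos ℤ (Nat.pos_of_ne_zero hk), Int.cast_zero, zero_mul]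
    · simp
  induction n with
  | zero => rw [zpow_zero, h0, Units.val_one]
  | succ n ih => rw [hstep, ← ih, ← Units.val_mul, add_comm (n : ℤ) 1, zpow_add, zpow_one]
  | pred n ih =>
    have := hstep (-(n : ℤ) - 1)
    rw [sub_add_cancel, ← ih] at this
    apply u.isUnit.mul_left_cancel
    rw [← this, ← Units.val_mul, ← zpow_one_add]
    congr 2
    ring

/-- Let A be a commutative ring, I an ideal of A with I^{m+1} = 0, and P ⊆ Aˣ the subgroup of units of
the form 1 + y with y ∈ I. Then the map P → A ⊗_ℤ ℚ, x ↦ x ⊗ 1, is a polynomial map of degree ≤ m on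
the abelian group P (written additively): along every finite sequence x_1, …, x_r in P one has
x_1^{n_1}⋯x_r^{n_r} ⊗ 1 = Σ_k Π_i C(n_i, k_i) y_k with y_k = 0 whenever k_1 + ⋯ + k_r > m. -/
theorem result (A : Type u) [CommRing A] (I : Ideal A) (m : ℕ) (hI : I ^ (m + 1) = ⊥)
    (P : Subgroup Aˣ) (hP : ∀ u : Aˣ, u ∈ P ↔ (u : A) - 1 ∈ I) :
    W4sga6xxiii.IsPolyMapLE (fun u : Additive P => (((Additive.toMul u : P) : Aˣ) : A) ⊗ₜ[ℤ] (1 : ℚ)) m := by
  intro r x
  let u : Fin r → Aˣ := fun i => ((Additive.toMul (x i) : P) : Aˣ)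
  have hu : ∀ i, (u i : A) - 1 ∈ I := fun i => (hP _).mp (Additive.toMul (x i) : P).2
  refine ⟨fun k => (∏ i, ((u i : A) - 1) ^ (k i : ℕ)) ⊗ₜ[ℤ] (1 : ℚ), fun k hk => ?_, fun n => ?_⟩
  · have h1 : (∏ i, ((u i : A) - 1) ^ (k i : ℕ)) ∈ I ^ (∑ i, (k i : ℕ)) := by
      rw [← Finset.prod_pow_eq_pow_sum]
      exact Ideal.prod_mem_prod fun i _ => Ideal.pow_mem_pow (hu i) _
    have h2 := Ideal.pow_le_pow_right (I := I) (Nat.succ_le_of_lt hk) h1
    rw [hI, Ideal.mem_bot] at h2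
    simp only [h2, TensorProduct.zero_tmul]
  · have e1 : (((Additive.toMul (∑ i, n i • x i) : P) : Aˣ) : A) = ∏ i, (((u i) ^ n i : Aˣ) : A) := by
      simp [u, toMul_sum, toMul_zsmul, Units.coe_prod]
    have e2 : ∀ i, (((u i) ^ n i : Aˣ) : A) = ∑ k : Fin (m + 1), ((Ring.choose (n i) (k : ℕ) : ℤ) : A) * ((u i : A) - 1) ^ (k : ℕ) := by
      intro i
      rw [zpow_expand (u i) m ?_ (n i), Finset.sum_range]
      have h1 := Ideal.pow_mem_pow (hu i) (m + 1)
      rwa [hI, Ideal.mem_bot] at h1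
    show (((Additive.toMul (∑ i, n i • x i) : P) : Aˣ) : A) ⊗ₜ[ℤ] (1 : ℚ) = _
    rw [e1, Finset.prod_congr rfl fun i _ => e2 i, Fintype.prod_sum, TensorProduct.sum_tmul]
    refine Finset.sum_congr rfl fun k _ => ?_
    rw [Finset.prod_mul_distrib, ← Int.cast_prod, ← zsmul_eq_mul, TensorProduct.smul_tmul']

end Groth.Agent.S5657
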