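import Groth.Statements.S5659
import Groth.Agent.H20.GeomIrred
import Mathlib.Algebra.Polynomial.Laurent
import Mathlib.Algebra.Group.Pi.Units
import Mathlib.GroupTheory.NoncommPiCoprod
import Mathlib.LinearAlgebra.Matrix.GeneralLinearGroup.Defs
import Mathlib.LinearAlgebra.Matrix.Transvection
import Mathlib.LinearAlgebra.Matrix.Permutation
import Mathlib.LinearAlgebra.Matrix.ToLinearEquiv
import Mathlib.RingTheory.LocalProperties.Submodule
import Mathlib.Tactic

set_option autoImplicit false
universe u
open CAlg

namespace Groth.Agent.S5659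

open scoped LaurentPolynomial
open Matrix

section

variable {n : ℕ} {B : Type u} [CommRing B]

noncomputable def diagU : (Fin n → Bˣ) →* GL (Fin n) B :=
  (Units.map (Matrix.diagonalRingHom (Fin n) B).toMonoidHom).comp
    (MulEquiv.piUnits (M := fun _ : Fin n => B)).symm.toMonoidHom

theorem diagU_val (d : Fin n → Bˣ) : (diagU d : Matrix (Fin n) (Fin n) B) = Matrix.diagonal fun i => (d i : B) := rfl

def transU (i j : Fin n) (h : i ≠ j) (a : B) : GL (Fin n) B :=
  ⟨Matrix.transvection i j a, Matrix.transvection i j (-a),
    by rw [Matrix.transvection_mul_transvection_same i j h, add_neg_cancel, Matrix.transvection_zero],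
    by rw [Matrix.transvection_mul_transvection_same i j h, neg_add_cancel, Matrix.transvection_zero]⟩

theorem transU_val (i j : Fin n) (h : i ≠ j) (a : B) :
    (transU i j h a : Matrix (Fin n) (Fin n) B) = Matrix.transvection i j a := rfl

theorem det_diagU (d : Fin n → Bˣ) : Matrix.GeneralLinearGroup.det (diagU d) = ∏ i, d i := by
  ext
  show Matrix.det (Matrix.diagonal fun i => (d i : B)) = _
  rw [Matrix.det_diagonal]
  simp

theorem det_transU (i j : Fin n) (h : i ≠ j) (a : B) :
    Matrix.GeneralLinearGroup.det (transU i j h a) = 1 := by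
  ext
  exact Matrix.det_transvection_of_ne i j h a

theorem torus_conj (i j : Fin n) (h : i ≠ j) (a : B) (t : Bˣ) :
    diagU (Pi.mulSingle i t) * transU i j h a = transU i j h ((t : B) * a) * diagU (Pi.mulSingle i t) := by
  refine Units.ext ?_
  rw [Units.val_mul, Units.val_mul, diagU_val, transU_val, transU_val]
  ext x y
  rw [Matrix.diagonal_mul, Matrix.mul_diagonal, Matrix.transvection, Matrix.transvection]
  simp only [Matrix.add_apply, Matrix.single_apply, Matrix.one_apply]
  by_cases hxy : x = y
  · subst hxy
    have : ¬ (i = x ∧ j = x) := fun hh => h (hh.1.trans hh.2.symm)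
    simp [this]
  · by_cases hij : i = x ∧ j = y
    · obtain ⟨rfl, rfl⟩ := hij
      simp [hxy, Pi.mulSingle_eq_of_ne (Ne.symm h)]
    · simp [hxy, hij]

/-- The permutation matrix of a transposition. -/
noncomputable def swapU (i j : Fin n) : GL (Fin n) B :=
  ⟨(Equiv.swap i j).permMatrix B, (Equiv.swap i j).permMatrix B,
    by rw [← Matrix.permMatrix_mul, Equiv.swap_mul_self, Matrix.permMatrix_one],
    by rw [← Matrix.permMatrix_mul, Equiv.swap_mul_self, Matrix.permMatrix_one]⟩

theorem swap_conj (i j : Fin n) (t : Bˣ) :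
    swapU i j * diagU (Pi.mulSingle i t) = diagU (Pi.mulSingle j t) * swapU (B := B) i j := by
  refine Units.ext ?_
  rw [Units.val_mul, Units.val_mul, diagU_val, diagU_val]
  ext x y
  rw [Matrix.diagonal_mul, Matrix.mul_diagonal]
  show (Equiv.swap i j).permMatrix B x y * _ = _ * (Equiv.swap i j).permMatrix B x y
  by_cases hy : Equiv.swap i j x = y
  · subst hy
    have : (Pi.mulSingle (M := fun _ : Fin n => Bˣ) i t (Equiv.swap i j x)) =
        Pi.mulSingle (M := fun _ : Fin n => Bˣ) j t x := by
      rcases eq_or_ne x j with rfl | hx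
      · simp
      · rw [Pi.mulSingle_eq_of_ne hx, Pi.mulSingle_eq_of_ne]
        intro h
        exact hx (by rw [← Equiv.swap_apply_self i j x, h, Equiv.swap_apply_left])
    rw [this, mul_comm]
  · have : (Equiv.swap i j).permMatrix B x y = 0 := by
      simp [Equiv.Perm.permMatrix, PEquiv.toMatrix_apply, hy]
    rw [this, zero_mul, mul_zero]

/-- Gaussian elimination over a local ring. -/
theorem hom_ext_local [IsLocalRing B] {N : Type u} [Group N] (f g : GL (Fin n) B →* N)
    (hd : ∀ d, f (diagU d) = g (diagU d)) (ht : ∀ i j h a, f (transU i j h a) = g (transU i j h a)) :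
    f = g := by
  classical
  let H := f.eqLocus g
  suffices main : ∀ (m k : ℕ) (_ : k + m = n) (s : GL (Fin n) B),
      (∀ a b : Fin n, (b : ℕ) < k → a ≠ b → (s : Matrix (Fin n) (Fin n) B) a b = 0) → s ∈ H from
    MonoidHom.ext fun s => main n 0 (zero_add n) s fun a b hb => absurd hb (Nat.not_lt_zero _)
  have hmul : ∀ (i j : Fin n) (h : i ≠ j) (c : B) (s : GL (Fin n) B), transU i j h c * s ∈ H → s ∈ H := by
    intro i j h c s hs
    exact (H.mul_mem_cancel_left (show transU i j h c ∈ H from ht i j h c)).mp hs
  intro m
  induction m with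
  | zero =>
    intro k hk s hs
    have hdiag : ∀ a b : Fin n, a ≠ b → (s : Matrix (Fin n) (Fin n) B) a b = 0 :=
      fun a b => hs a b (by omega)
    have hs' : (s : Matrix (Fin n) (Fin n) B) = Matrix.diagonal fun i => (s : Matrix (Fin n) (Fin n) B) i i := by
      ext a b
      rcases eq_or_ne a b with rfl | h
      · simp
      · simp [h, hdiag a b h]
    have hu : IsUnit (∏ i, (s : Matrix (Fin n) (Fin n) B) i i) := by
      rw [← Matrix.det_diagonal, ← hs']
      exact (Matrix.isUnit_iff_isUnit_det _).mp s.isUnit
    have hui := IsUnit.prod_iff.mp hu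
    have : s = diagU fun i => (hui i (Finset.mem_univ i)).unit := Units.ext (hs'.trans rfl)
    exact this ▸ hd _
  | succ m ih =>
    intro k hk s hs
    let kk : Fin n := ⟨k, by omega⟩
    have hex : ∃ a : Fin n, k ≤ (a : ℕ) ∧ IsUnit ((s : Matrix (Fin n) (Fin n) B) a kk) := by
      by_contra! hno
      let F := IsLocalRing.ResidueField B
      let M : Matrix (Fin n) (Fin n) F := (s : Matrix (Fin n) (Fin n) B).map (IsLocalRing.residue B)
      have hM : M.det ≠ 0 := by
        rw [show M = (IsLocalRing.residue B).mapMatrix (s : Matrix (Fin n) (Fin n) B) from rfl, ← RingHom.map_det]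
        exact (((Matrix.isUnit_iff_isUnit_det _).mp s.isUnit).map _).ne_zero
      have hlow : ∀ a b : Fin n, (b : ℕ) < k → a ≠ b → M a b = 0 := fun a b hb hab => by
        simp [M, hs a b hb hab]
      have hcol : ∀ a : Fin n, k ≤ (a : ℕ) → M a kk = 0 := fun a ha => by
        simp only [M, Matrix.map_apply]
        exact (IsLocalRing.residue_eq_zero_iff _).mpr (hno a ha)
      have hbb : ∀ b : Fin n, (b : ℕ) < k → M b b ≠ 0 := fun b hb h0 => hM
        (Matrix.det_eq_zero_of_column_eq_zero b fun a => by
          rcases eq_or_ne a b with rfl | hab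
          · exact h0
          · exact hlow a b hb hab)
      let v : Fin n → F := fun b => if (b : ℕ) < k then -(M b kk / M b b) else if b = kk then 1 else 0
      refine hM (Matrix.exists_mulVec_eq_zero_iff.mp ⟨v, fun h => ?_, ?_⟩)
      · have := congrFun h kk
        simp [v, kk] at this
      · funext a
        rw [Matrix.mulVec, dotProduct, Pi.zero_apply]
        by_cases ha : (a : ℕ) < k
        · have hne : a ≠ kk := fun h => by simp [h, kk] at ha
          rw [Finset.sum_eq_add (a := a) (b := kk) hne]
          · have hk' : ¬ ((kk : ℕ) < k) := lt_irrefl k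
            simp only [v, ha, hk', if_true, if_false]
            rw [mul_neg, mul_div_cancel₀ _ (hbb a ha)]
            simp
          · intro b _ hb
            by_cases hbk : (b : ℕ) < k
            · rw [hlow a b hbk (Ne.symm hb.1), zero_mul]
            · simp [v, hbk, hb.2]
          · simp
          · simp
        · refine Finset.sum_eq_zero fun b _ => ?_
          by_cases hbk : (b : ℕ) < k
          · rw [hlow a b hbk (fun h => ha (h ▸ hbk)), zero_mul]
          · rcases eq_or_ne b kk with rfl | hb
            · rw [hcol a (not_lt.mp ha), zero_mul]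
            · simp [v, hbk, hb]
    -- make the pivot a unit
    suffices hpiv : ∀ s : GL (Fin n) B,
        (∀ a b : Fin n, (b : ℕ) < k → a ≠ b → (s : Matrix (Fin n) (Fin n) B) a b = 0) →
        IsUnit ((s : Matrix (Fin n) (Fin n) B) kk kk) → s ∈ H by
      obtain ⟨a, hak, hau⟩ := hex
      by_cases hu : IsUnit ((s : Matrix (Fin n) (Fin n) B) kk kk)
      · exact hpiv s hs hu
      · have hne : kk ≠ a := fun h => hu (h ▸ hau)
        refine hmul kk a hne 1 s (hpiv _ (fun x b hb hxb => ?_) ?_)
        · rw [Units.val_mul, transU_val]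
          rcases eq_or_ne x kk with rfl | hx
          · rw [Matrix.transvection_mul_apply_same, one_mul, hs _ b hb hxb,
              hs a b hb (fun h => by omega), add_zero]
          · rw [Matrix.transvection_mul_apply_of_ne _ _ _ _ hx, hs x b hb hxb]
        · rw [Units.val_mul, transU_val, Matrix.transvection_mul_apply_same, one_mul]
          have hu' : (s : Matrix (Fin n) (Fin n) B) kk kk ∈ IsLocalRing.maximalIdeal B := hu
          exact IsLocalRing.notMem_maximalIdeal.mp fun h =>
            (IsLocalRing.notMem_maximalIdeal.mpr hau) ((Ideal.add_mem_iff_right _ hu').mp h)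
    -- clear the column
    intro s hs hu
    suffices hclear : ∀ (T : Finset (Fin n)) (s : GL (Fin n) B),
        (∀ a b : Fin n, (b : ℕ) < k → a ≠ b → (s : Matrix (Fin n) (Fin n) B) a b = 0) →
        IsUnit ((s : Matrix (Fin n) (Fin n) B) kk kk) →
        (∀ a : Fin n, a ∉ T → a ≠ kk → (s : Matrix (Fin n) (Fin n) B) a kk = 0) → s ∈ H from
      hclear Finset.univ s hs hu fun a ha => absurd (Finset.mem_univ a) ha
    intro T
    induction T using Finset.induction_on with
    | empty =>
      intro s hs _ hT
      refine ih (k + 1) (by omega) s fun a b hb hab => ?_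
      rcases Nat.lt_succ_iff_lt_or_eq.mp hb with hb | hb
      · exact hs a b hb hab
      · obtain rfl : b = kk := Fin.ext hb
        exact hT a (Finset.notMem_empty a) hab
    | insert x T hxT ihT =>
      intro s hs hu hT
      by_cases hx : x = kk
      · exact ihT s hs hu fun a ha hak => hT a (by simp [ha, hx, hak]) hak
      · obtain ⟨v, hv⟩ := hu.exists_left_inv
        refine hmul x kk hx (-((s : Matrix (Fin n) (Fin n) B) x kk * v)) s (ihT _ (fun a b hb hab => ?_) ?_ fun a ha hak => ?_)
        · rw [Units.val_mul, transU_val]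
          rcases eq_or_ne a x with rfl | hax
          · rw [Matrix.transvection_mul_apply_same, hs a b hb hab,
              hs kk b hb (fun h => by simp [← h, kk] at hb), mul_zero, add_zero]
          · rw [Matrix.transvection_mul_apply_of_ne _ _ _ _ hax, hs a b hb hab]
        · rw [Units.val_mul, transU_val, Matrix.transvection_mul_apply_of_ne _ _ _ _ (Ne.symm hx)]
          exact hu
        · rw [Units.val_mul, transU_val]
          rcases eq_or_ne a x with rfl | hax
          · rw [Matrix.transvection_mul_apply_same, neg_mul, mul_assoc, hv, mul_one, add_neg_cancel]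
          · rw [Matrix.transvection_mul_apply_of_ne _ _ _ _ hax]
            exact hT a (by simp [ha, hax]) hak

end

variable {R : Type u} [CommRing R]

theorem map_diagU {n : ℕ} {B C : Type u} [CommRing B] [CommRing C] (φ : B →+* C) (d : Fin n → Bˣ) :
    GeneralLinearGroup.map φ (diagU d) = diagU fun i => Units.map (φ : B →* C) (d i) := by
  refine Units.ext ?_
  show (Matrix.diagonal fun i => (d i : B)).map φ = _
  rw [Matrix.diagonal_map (map_zero φ)]
  rfl

theorem map_transU {n : ℕ} {B C : Type u} [CommRing B] [CommRing C] (φ : B →+* C) (i j : Fin n)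
    (h : i ≠ j) (a : B) : GeneralLinearGroup.map φ (transU i j h a) = transU i j h (φ a) := by
  refine Units.ext ?_
  show (Matrix.transvection i j a).map φ = Matrix.transvection i j (φ a)
  ext x y
  simp [Matrix.transvection, Matrix.single_apply, Matrix.one_apply, apply_ite φ]

noncomputable def evalT (B : Type u) [CommRing B] [Algebra R B] (t : Bˣ) : R[T;T⁻¹] →ₐ[R] B :=
  { LaurentPolynomial.eval₂ (algebraMap R B) t with
    commutes' := fun r => LaurentPolynomial.eval₂_C _ _ r }

theorem evalT_T (B : Type u) [CommRing B] [Algebra R B] (t : Bˣ) (m : ℤ) :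
    evalT (R := R) B t (LaurentPolynomial.T m) = ((t ^ m : Bˣ) : B) :=
  LaurentPolynomial.eval₂_T _ _ m

theorem coeff_C_mul {S : Type u} [CommRing S] (x : S) (g : S[T;T⁻¹]) (k : ℤ) :
    (LaurentPolynomial.C x * g).coeff k = x * g.coeff k :=
  AddMonoidAlgebra.coeff_single_zero_mul _ _ _

theorem coeff_C_mul_T {S : Type u} [CommRing S] (x : S) (m k : ℤ) :
    (LaurentPolynomial.C x * LaurentPolynomial.T m).coeff k = if m = k then x else 0 := by
  rw [coeff_C_mul, LaurentPolynomial.T_apply, mul_ite, mul_one, mul_zero]

theorem gm_end [ConnectedSpace (PrimeSpectrum R)]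
    (χ : ∀ (B : Type u) [CommRing B] [Algebra R B], Bˣ →* Bˣ)
    (hχ : ∀ (B C : Type u) [CommRing B] [Algebra R B] [CommRing C] [Algebra R C] (φ : B →ₐ[R] C) (t : Bˣ),
      χ C (Units.map (φ.toRingHom : B →* C) t) = Units.map (φ.toRingHom : B →* C) (χ B t)) :
    ∃ m : ℤ, ∀ (B : Type u) [CommRing B] [Algebra R B] (t : Bˣ), χ B t = t ^ m := by
  classical
  have : Nontrivial R := by
    obtain ⟨p⟩ := (inferInstance : Nonempty (PrimeSpectrum R))
    exact p.nontrivial
  let L := R[T;T⁻¹]
  let T1 : Lˣ := (LaurentPolynomial.isUnit_T (R := R) 1).unit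
  have hspec : ∀ (B : Type u) [CommRing B] [Algebra R B] (t : Bˣ),
      χ B t = Units.map ((evalT (R := R) B t).toRingHom : L →* B) (χ L T1) := by
    intro B _ _ t
    rw [← hχ L B (evalT B t) T1]
    congr 1
    ext
    show (t : B) = evalT B t (LaurentPolynomial.T 1)
    rw [evalT_T, zpow_one]
  set f : L := ((χ L T1 : Lˣ) : L) with hf
  let L2 := L[T;T⁻¹]
  let S : L2ˣ := Units.map (LaurentPolynomial.C : L →+* L2).toMonoidHom T1
  let U : L2ˣ := (LaurentPolynomial.isUnit_T (R := L) 1).unit
  have hS : ∀ g : L, evalT (R := R) L2 S g = LaurentPolynomial.C g := by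
    intro g
    induction g using AddMonoidAlgebra.induction_linear with
    | zero => simp
    | add a b ha hb => rw [map_add, map_add, ha, hb]
    | single m a =>
      rw [LaurentPolynomial.single_eq_C_mul_T, map_mul, map_mul, evalT_T, ← map_zpow]
      congr 1
      · exact (evalT (R := R) L2 S).commutes a
      · show LaurentPolynomial.C (((T1 ^ m : Lˣ)) : L) = _
        have h0 : evalT (R := R) L T1 (LaurentPolynomial.T m) = ((T1 ^ m : Lˣ) : L) := evalT_T L T1 m
        have h1 : evalT (R := R) L T1 = AlgHom.id R L := by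
          refine AlgHom.coe_ringHom_injective (IsLocalization.ringHom_ext (Submonoid.powers (Polynomial.X : Polynomial R)) ?_)
          refine Polynomial.ringHom_ext (fun r => ?_) ?_
          · show evalT (R := R) L T1 (Polynomial.toLaurent (Polynomial.C r)) = Polynomial.toLaurent (Polynomial.C r)
            rw [Polynomial.toLaurent_C]
            exact (evalT (R := R) L T1).commutes r
          · show evalT (R := R) L T1 (Polynomial.toLaurent Polynomial.X) = Polynomial.toLaurent Polynomial.X
            rw [Polynomial.toLaurent_X, evalT_T, zpow_one]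
            rfl
        rw [← h0, h1]
        rfl
  have hU : ∀ (g : L) (k : ℤ), (evalT (R := R) L2 U g).coeff k = LaurentPolynomial.C (g.coeff k) := by
    intro g k
    induction g using AddMonoidAlgebra.induction_linear with
    | zero => simp
    | add a b ha hb => rw [map_add, AddMonoidAlgebra.coeff_add, Finsupp.add_apply, ha, hb, AddMonoidAlgebra.coeff_add, Finsupp.add_apply, map_add]
    | single m a =>
      rw [LaurentPolynomial.single_eq_C_mul_T, map_mul, evalT_T, coeff_C_mul_T]
      have e1 : ((U ^ m : L2ˣ) : L2) = LaurentPolynomial.T m := by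
        rw [← LaurentPolynomial.eval₂_T (LaurentPolynomial.C : L →+* L2) U m]
        have : LaurentPolynomial.eval₂ (LaurentPolynomial.C : L →+* L2) U = RingHom.id L2 := by
          refine IsLocalization.ringHom_ext (Submonoid.powers (Polynomial.X : Polynomial L)) ?_
          refine Polynomial.ringHom_ext (fun r => ?_) ?_
          · show LaurentPolynomial.eval₂ (LaurentPolynomial.C : L →+* L2) U (Polynomial.toLaurent (Polynomial.C r)) = Polynomial.toLaurent (Polynomial.C r)
            rw [LaurentPolynomial.eval₂_toLaurent, Polynomial.eval₂_C, Polynomial.toLaurent_C]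
          · show LaurentPolynomial.eval₂ (LaurentPolynomial.C : L →+* L2) U (Polynomial.toLaurent Polynomial.X) = Polynomial.toLaurent Polynomial.X
            rw [LaurentPolynomial.eval₂_toLaurent, Polynomial.eval₂_X, Polynomial.toLaurent_X]
            rfl
        rw [this]; rfl
      have e2 : evalT (R := R) L2 U (LaurentPolynomial.C a) = LaurentPolynomial.C (LaurentPolynomial.C a) :=
        (evalT (R := R) L2 U).commutes a
      rw [e1, e2, coeff_C_mul_T]
      split <;> simp
  have hSU : ∀ (g : L) (k : ℤ), (evalT (R := R) L2 (S * U) g).coeff k =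
      LaurentPolynomial.C (g.coeff k) * LaurentPolynomial.T k := by
    intro g k
    induction g using AddMonoidAlgebra.induction_linear with
    | zero => simp
    | add a b ha hb => rw [map_add, AddMonoidAlgebra.coeff_add, Finsupp.add_apply, ha, hb, AddMonoidAlgebra.coeff_add, Finsupp.add_apply, map_add, add_mul]
    | single m a =>
      rw [LaurentPolynomial.single_eq_C_mul_T, map_mul, evalT_T, coeff_C_mul_T,
        show (S * U) ^ m = S ^ m * U ^ m from mul_zpow S U m, Units.val_mul]
      have h1 := hS (LaurentPolynomial.T m)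
      rw [evalT_T] at h1
      have h2 := fun j => hU (LaurentPolynomial.T m) j
      simp only [evalT_T, LaurentPolynomial.T_apply] at h2
      have e2 : evalT (R := R) L2 (S * U) (LaurentPolynomial.C a) = LaurentPolynomial.C (LaurentPolynomial.C a) :=
        (evalT (R := R) L2 (S * U)).commutes a
      rw [h1, e2, ← mul_assoc, ← map_mul, coeff_C_mul, h2]
      split
      · next h => subst h; rw [map_one, mul_one]
      · simp
  have key : ∀ k, LaurentPolynomial.C (f.coeff k) * LaurentPolynomial.T k = f * LaurentPolynomial.C (f.coeff k) := by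
    intro k
    have h := congrArg Units.val (map_mul (χ L2) S U)
    rw [hspec L2 (S * U), hspec L2 S, hspec L2 U] at h
    have h' : evalT (R := R) L2 (S * U) f = evalT (R := R) L2 S f * evalT (R := R) L2 U f := h
    have h'' := congrArg (fun z => AddMonoidAlgebra.coeff z k) h'
    rwa [hSU, hS, coeff_C_mul, hU] at h''
  have hco : ∀ k j, (if k = j then f.coeff k else 0) = f.coeff j * f.coeff k := by
    intro k j
    have h : (LaurentPolynomial.C (f.coeff k) * LaurentPolynomial.T k).coeff j =
        (f * LaurentPolynomial.C (f.coeff k)).coeff j := by rw [key k]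
    rw [coeff_C_mul_T] at h
    rwa [mul_comm f, coeff_C_mul, mul_comm] at h
  obtain ⟨k, hk⟩ : ∃ k, f.coeff k ≠ 0 := by
    by_contra! h
    exact (χ L T1).ne_zero (LaurentPolynomial.ext fun a => (h a).trans (by simp))
  have hk1 : f.coeff k = 1 := by
    have : IsIdempotentElem (f.coeff k) := by
      show f.coeff k * f.coeff k = _
      simpa using (hco k k).symm
    exact (Groth.Agent.H20.GeomIrred.idempotent_eq_zero_or_one this).resolve_left hk
  refine ⟨k, fun B _ _ t => ?_⟩
  have hfk : f = LaurentPolynomial.T k := by
    refine LaurentPolynomial.ext fun j => ?_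
    have h := hco k j
    rw [hk1, mul_one] at h
    rw [LaurentPolynomial.T_apply, h]
  rw [hspec B t]
  ext
  show evalT B t f = _
  rw [hfk, evalT_T]

set_option maxHeartbeats 1000000 in
theorem gl_char [ConnectedSpace (PrimeSpectrum R)] (n : ℕ) (hn : 0 < n)
    (β : ∀ (B : Type u) [CommRing B] [Algebra R B], GL (Fin n) B →* Bˣ)
    (hβ : ∀ (B C : Type u) [CommRing B] [Algebra R B] [CommRing C] [Algebra R C] (φ : B →ₐ[R] C)
      (s : GL (Fin n) B),
      β C (GeneralLinearGroup.map φ.toRingHom s) = Units.map (φ.toRingHom : B →* C) (β B s)) :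
    ∃ m : ℤ, ∀ (B : Type u) [CommRing B] [Algebra R B] (s : GL (Fin n) B),
      β B s = GeneralLinearGroup.det s ^ m := by
  classical
  let i0 : Fin n := ⟨0, hn⟩
  obtain ⟨m, hm⟩ := gm_end (R := R)
    (fun B _ _ => (β B).comp (diagU.comp (MonoidHom.mulSingle (fun _ : Fin n => Bˣ) i0)))
    (fun B C _ _ _ _ φ t => by
      simp only [MonoidHom.comp_apply, MonoidHom.mulSingle_apply]
      rw [← hβ, map_diagU]
      congr 2
      funext i
      rcases eq_or_ne i i0 with rfl | h
      · simp
      · simp [Pi.mulSingle_eq_of_ne h])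
  refine ⟨m, fun B _ _ s => ?_⟩
  -- diagonal matrices
  have hdiag : ∀ (C : Type u) [CommRing C] [Algebra R C] (d : Fin n → Cˣ),
      β C (diagU d) = GeneralLinearGroup.det (diagU d) ^ m := by
    intro C _ _ d
    rw [det_diagU, ← MonoidHom.comp_apply]
    rw [show d = ∏ i, Pi.mulSingle i (d i) from (Finset.univ_prod_mulSingle d).symm, map_prod, ← Finset.prod_zpow]
    refine Finset.prod_congr (by rfl) fun i _ => ?_
    rw [show (∏ x, Pi.mulSingle (M := fun _ : Fin n => Cˣ) x (d x)) i = d i by
      rw [Finset.univ_prod_mulSingle]]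
    have hsw := congrArg (β C) (swap_conj (B := C) i0 i (d i))
    rw [map_mul, map_mul] at hsw
    rw [MonoidHom.comp_apply, ← mul_right_cancel ((mul_comm _ _).trans hsw)]
    exact hm C (d i)
  -- transvections
  have htrans : ∀ (C : Type u) [CommRing C] [Algebra R C] (i j : Fin n) (h : i ≠ j) (a : C),
      β C (transU i j h a) = 1 := by
    intro C _ _ i j h a
    let P := Polynomial R
    set p : P := ((β P (transU i j h (Polynomial.X : P)) : Pˣ) : P) with hp
    have hspec : ∀ (D : Type u) [CommRing D] [Algebra R D] (x : D),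
        (β D (transU i j h x) : D) = Polynomial.aeval x p := by
      intro D _ _ x
      have h1 := congrArg Units.val (hβ P D (Polynomial.aeval x) (transU i j h Polynomial.X))
      have e : GeneralLinearGroup.map (Polynomial.aeval (R := R) x).toRingHom (transU i j h Polynomial.X) = transU i j h x := by
        rw [map_transU]; congr 1; exact Polynomial.aeval_X x
      rw [e] at h1
      exact h1
    let T1 : (P[T;T⁻¹])ˣ := (LaurentPolynomial.isUnit_T (R := P) 1).unit
    have h1 : β (P[T;T⁻¹]) (transU i j h (LaurentPolynomial.C Polynomial.X)) =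
        β (P[T;T⁻¹]) (transU i j h ((T1 : (P[T;T⁻¹])) * LaurentPolynomial.C Polynomial.X)) := by
      have hh := congrArg (β (P[T;T⁻¹])) (torus_conj i j h (LaurentPolynomial.C Polynomial.X : (P[T;T⁻¹])) T1)
      rw [map_mul, map_mul] at hh
      exact mul_right_cancel ((mul_comm _ _).trans hh)
    have h2 := congrArg Units.val h1
    rw [hspec, hspec] at h2
    have hco : ∀ (q : P) (k : ℤ), (Polynomial.aeval ((T1 : (P[T;T⁻¹])) * LaurentPolynomial.C Polynomial.X) q).coeff k =
        if 0 ≤ k then Polynomial.monomial k.natAbs (q.coeff k.natAbs) else 0 := by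
      intro q k
      induction q using Polynomial.induction_on' with
      | add a b ha hb => rw [map_add, AddMonoidAlgebra.coeff_add, Finsupp.add_apply, ha, hb]; split <;> simp
      | monomial d x =>
        have e : Polynomial.aeval ((T1 : (P[T;T⁻¹])) * LaurentPolynomial.C Polynomial.X) (Polynomial.monomial d x) =
            LaurentPolynomial.C (Polynomial.monomial d x) * LaurentPolynomial.T (d : ℤ) := by
          rw [Polynomial.aeval_monomial, mul_pow, ← map_pow (LaurentPolynomial.C (R := P))]
          show algebraMap R (P[T;T⁻¹]) x * ((LaurentPolynomial.T 1 : (P[T;T⁻¹])) ^ d * _) = _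
          rw [LaurentPolynomial.T_pow, mul_one, LaurentPolynomial.algebraMap_apply, mul_comm (LaurentPolynomial.T (d : ℤ)),
            ← mul_assoc, ← map_mul, ← Polynomial.C_mul_X_pow_eq_monomial]
          rfl
        rw [e, coeff_C_mul_T]
        rcases eq_or_ne (d : ℤ) k with rfl | hdk
        · simp
        · rw [if_neg hdk]
          split
          · next hk => rw [Polynomial.coeff_monomial, if_neg (fun h => hdk (by omega)), map_zero]
          · rfl
    have hC : Polynomial.aeval (LaurentPolynomial.C Polynomial.X : (P[T;T⁻¹])) p = LaurentPolynomial.C p := by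
      rw [show (LaurentPolynomial.C Polynomial.X : (P[T;T⁻¹])) = IsScalarTower.toAlgHom R P (P[T;T⁻¹]) Polynomial.X from rfl,
        Polynomial.aeval_algHom_apply, Polynomial.aeval_X_left_apply]
      rfl
    have hp0 : p = Polynomial.C (p.coeff 0) := by
      refine Polynomial.ext fun d => ?_
      rcases eq_or_ne d 0 with rfl | hd
      · simp
      · rw [Polynomial.coeff_C, if_neg hd]
        have h3 := congrArg (fun z : (P[T;T⁻¹]) => AddMonoidAlgebra.coeff z (d : ℤ)) h2
        simp only [hC, hco, LaurentPolynomial.C_apply, Int.natCast_nonneg, if_true, Int.natAbs_natCast,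
          Int.natCast_eq_zero, hd, if_false] at h3
        exact (Polynomial.monomial_eq_zero_iff _ _).mp h3.symm
    have hzero : p.coeff 0 = 1 := by
      have h3 := hspec R 0
      rw [Polynomial.coe_aeval_eq_eval, ← Polynomial.coeff_zero_eq_eval_zero] at h3
      rw [← h3]
      have : transU i j h (0 : R) = 1 := Units.ext (Matrix.transvection_zero i j)
      rw [this, map_one, Units.val_one]
    ext
    rw [hspec, hp0, hzero, map_one, map_one, Units.val_one]
  -- reduce to local rings
  ext
  refine Module.eq_of_localization_maximal (R := B) (fun (P : Ideal B) [P.IsMaximal] => Localization.AtPrime P) (fun (P : Ideal B) [P.IsMaximal] => Algebra.linearMap B (Localization.AtPrime P)) _ _ fun P _ => ?_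
  let C := Localization.AtPrime P
  let φ : B →ₐ[R] C := IsScalarTower.toAlgHom R B C
  have hloc : (β C : GL (Fin n) C →* Cˣ) = ((zpowGroupHom m).comp GeneralLinearGroup.det) := by
    refine hom_ext_local _ _ (fun d => hdiag C d) fun i j h a => ?_
    rw [MonoidHom.comp_apply, det_transU, map_one]
    exact htrans C i j h a
  have h1 := congrArg Units.val (hβ B C φ s)
  rw [hloc, MonoidHom.comp_apply, Matrix.GeneralLinearGroup.map_det, zpowGroupHom_apply, ← map_zpow] at h1
  exact h1.symm

/-- Every homomorphism of group sheaves Gl(n_1) × ⋯ × Gl(n_r) → G_m is (s_1, …, s_r) ↦ det(s_1)^{m_1} ⋯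
det(s_r)^{m_r} with locally constant integers m_i uniquely determined by it. Concretely, over a
commutative ring R whose prime spectrum is connected and for ranks n_i ≥ 1: every family of group
homomorphisms α_B : GL_{n_1}(B) × ⋯ × GL_{n_r}(B) → Bˣ, one for each commutative R-algebra B and
natural in B, is given by α_B(s) = Π_i det(s_i)^{m_i} for a unique m ∈ ℤ^r. (The published statement
allows ranks n_i ≥ 0; uniqueness of m_i needs n_i ≥ 1, since Gl(0) is trivial.) -/
theorem result (R : Type u) [CommRing R] [ConnectedSpace (PrimeSpectrum R)]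
    (r : ℕ) (n : Fin r → ℕ) (hn : ∀ i, 0 < n i)
    (α : ∀ (B : Type u) [CommRing B] [Algebra R B], (∀ i, Matrix.GeneralLinearGroup (Fin (n i)) B) →* Bˣ)
    (hα : ∀ (B C : Type u) [CommRing B] [Algebra R B] [CommRing C] [Algebra R C] (φ : B →ₐ[R] C)
      (s : ∀ i, Matrix.GeneralLinearGroup (Fin (n i)) B),
      α C (fun i => Matrix.GeneralLinearGroup.map φ.toRingHom (s i)) = Units.map (φ.toRingHom : B →* C) (α B s)) :
    ∃! m : Fin r → ℤ, ∀ (B : Type u) [CommRing B] [Algebra R B] (s : ∀ i, Matrix.GeneralLinearGroup (Fin (n i)) B),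
      α B s = ∏ i, Matrix.GeneralLinearGroup.det (s i) ^ (m i) := by
  classical
  have : Nontrivial R := by
    obtain ⟨p⟩ := (inferInstance : Nonempty (PrimeSpectrum R))
    exact p.nontrivial
  have hsingle : ∀ (B C : Type u) [CommRing B] [CommRing C] (φ : B →+* C) (i : Fin r)
      (s : GL (Fin (n i)) B),
      (fun j => GeneralLinearGroup.map φ (Pi.mulSingle (M := fun j => GL (Fin (n j)) B) i s j)) =
        Pi.mulSingle i (GeneralLinearGroup.map φ s) := by
    intro B C _ _ φ i s
    exact funext fun j => Pi.apply_mulSingle (fun j => ⇑(GeneralLinearGroup.map (n := Fin (n j)) φ)) (fun j => map_one _) i s j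
  choose m hm using fun i => gl_char (R := R) (n i) (hn i)
    (fun B _ _ => (α B).comp (MonoidHom.mulSingle (fun j => GL (Fin (n j)) B) i))
    (fun B C _ _ _ _ φ s => by
      simp only [MonoidHom.comp_apply, MonoidHom.mulSingle_apply]
      rw [← hα B C φ, hsingle])
  have key : ∀ (B : Type u) [CommRing B] [Algebra R B] (s : ∀ i, GL (Fin (n i)) B),
      α B s = ∏ i, GeneralLinearGroup.det (s i) ^ (m i) := by
    intro B _ _ s
    let g : (∀ i, GL (Fin (n i)) B) →* Bˣ :=
      ∏ i, ((zpowGroupHom (m i)).comp GeneralLinearGroup.det).comp (Pi.evalMonoidHom (fun j => GL (Fin (n j)) B) i)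
    have hg : α B = g := by
      refine MonoidHom.pi_ext fun i x => ?_
      refine (hm i B x).trans ?_
      simp only [g, MonoidHom.finsetProd_apply, MonoidHom.comp_apply, Pi.evalMonoidHom_apply, zpowGroupHom_apply]
      rw [Finset.prod_eq_single i]
      · rw [Pi.mulSingle_eq_same]
      · intro j _ hj; rw [Pi.mulSingle_eq_of_ne hj, map_one, one_zpow]
      · simp
    rw [hg]
    simp [g]
  refine ⟨m, key, fun m' hm' => funext fun i => ?_⟩
  let L := R[T;T⁻¹]
  let T1 : Lˣ := (LaurentPolynomial.isUnit_T (R := R) 1).unit
  let d : GL (Fin (n i)) L := diagU (Pi.mulSingle ⟨0, hn i⟩ T1)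
  have hd : GeneralLinearGroup.det d = T1 := by
    rw [det_diagU, Finset.prod_pi_mulSingle']
    simp
  have h := (hm i L d).symm.trans (hm' L (Pi.mulSingle i d))
  rw [Finset.prod_eq_single i (fun j _ hj => by rw [Pi.mulSingle_eq_of_ne hj, map_one, one_zpow]) (by simp),
    Pi.mulSingle_eq_same, hd] at h
  have hz : ∀ z : ℤ, ((T1 ^ z : Lˣ) : L) = LaurentPolynomial.T z := fun z => by
    induction z using Int.induction_on with
    | zero => simp
    | succ z hz => rw [zpow_add_one, Units.val_mul, hz, IsUnit.unit_spec, ← LaurentPolynomial.T_add]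
    | pred z hz =>
      refine (T1.mul_left_inj).mp ?_
      rw [← Units.val_mul, ← zpow_add_one, sub_add_cancel, hz, IsUnit.unit_spec, ← LaurentPolynomial.T_add, sub_add_cancel]
  have h' := congrArg Units.val h
  rw [hz, hz] at h'
  have h'' := congrArg (fun z : L => AddMonoidAlgebra.coeff z (m i)) h'
  simp only [LaurentPolynomial.T_apply, if_true] at h''
  by_contra hne
  rw [if_neg hne] at h''
  exact one_ne_zero h''

end Groth.Agent.S5659
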