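import Groth.Statements.S5658
import Groth.Agent.S5659
import Mathlib.GroupTheory.Abelianization.Defs
import Mathlib.RingTheory.Etale.StandardEtale
import Mathlib.FieldTheory.IsAlgClosed.AlgebraicClosure
import Mathlib.RingTheory.Localization.Integer
import Mathlib.Tactic

set_option autoImplicit false
universe u
open CAlg

namespace Groth.Agent.S5658

open Matrix
open scoped commutatorElement
open Groth.Agent.S5659 (diagU transU)

theorem mapc {R S T : Type u} [CommRing R] [CommRing S] [CommRing T] {n : ℕ} (f : R →+* S) (g : S →+* T)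
    (x : GL (Fin n) R) : GeneralLinearGroup.map g (GeneralLinearGroup.map f x) = GeneralLinearGroup.map (g.comp f) x :=
  Units.ext rfl

theorem map_mem_commutator {G H : Type*} [Group G] [Group H] (f : G →* H) {x : G} (hx : x ∈ commutator G) :
    f x ∈ commutator H := by
  rw [commutator_def] at hx ⊢
  have h := Subgroup.mem_map_of_mem f hx
  rw [Subgroup.map_commutator] at h
  exact Subgroup.commutator_mono le_top le_top h

section

variable {B : Type u} [CommRing B] (q : Ideal B) [q.IsPrime]

noncomputable def piTo (c : B) (hc : c ∉ q) : Localization.Away c →+* Localization.AtPrime q :=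
  IsLocalization.Away.lift c (g := algebraMap B (Localization.AtPrime q))
    (IsLocalization.map_units (Localization.AtPrime q) (⟨c, hc⟩ : q.primeCompl))

theorem piTo_algebraMap (c : B) (hc : c ∉ q) (b : B) :
    piTo q c hc (algebraMap B _ b) = algebraMap B (Localization.AtPrime q) b :=
  IsLocalization.Away.lift_eq _ _ _

noncomputable def step (c c' : B) (h : c ∣ c') : Localization.Away c →+* Localization.Away c' :=
  IsLocalization.Away.lift c (g := algebraMap B (Localization.Away c'))
    (isUnit_of_dvd_unit (map_dvd (algebraMap B (Localization.Away c')) h)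
      (IsLocalization.Away.algebraMap_isUnit c'))

theorem piTo_comp_step (c c' : B) (hc : c ∉ q) (hc' : c' ∉ q) (h : c ∣ c') :
    (piTo q c' hc').comp (step c c' h) = piTo q c hc := by
  refine IsLocalization.ringHom_ext (Submonoid.powers c) (RingHom.ext fun b => ?_)
  simp [step, piTo, IsLocalization.Away.lift_eq]

/-- The elements over the local ring coming from commutators near the prime. -/
def nearCommutator (n : ℕ) : Subgroup (GL (Fin n) (Localization.AtPrime q)) where
  carrier := {g | ∃ (c : B) (hc : c ∉ q), ∃ γ ∈ commutator (GL (Fin n) (Localization.Away c)),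
    GeneralLinearGroup.map (piTo q c hc) γ = g}
  one_mem' := ⟨1, fun h => Ideal.IsPrime.ne_top ‹_› ((Ideal.eq_top_iff_one q).mpr h), 1, one_mem _, map_one _⟩
  inv_mem' := by
    rintro g ⟨c, hc, γ, hγ, rfl⟩
    exact ⟨c, hc, γ⁻¹, inv_mem hγ, map_inv _ _⟩
  mul_mem' := by
    rintro g g' ⟨c, hc, γ, hγ, rfl⟩ ⟨c', hc', γ', hγ', rfl⟩
    have h : c * c' ∉ q := fun h => (Ideal.IsPrime.mem_or_mem ‹_› h).elim hc hc'
    refine ⟨c * c', h, GeneralLinearGroup.map (step c _ (dvd_mul_right _ _)) γ *
      GeneralLinearGroup.map (step c' _ (dvd_mul_left _ _)) γ',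
      mul_mem ?_ ?_, ?_⟩
    · exact map_mem_commutator _ hγ
    · exact map_mem_commutator _ hγ'
    · rw [map_mul, mapc, mapc,
        piTo_comp_step q c _ hc h, piTo_comp_step q c' _ hc' h]

theorem exists_lift (n : ℕ) (g : GL (Fin n) (Localization.AtPrime q)) :
    ∃ (c : B) (hc : c ∉ q) (γ : GL (Fin n) (Localization.Away c)),
      GeneralLinearGroup.map (piTo q c hc) γ = g := by
  classical
  let C := Localization.AtPrime q
  obtain ⟨d, hd⟩ := IsLocalization.exist_integer_multiples_of_finite q.primeCompl
    (fun p : (Fin n × Fin n) ⊕ (Fin n × Fin n) => p.elim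
      (fun x => (g : Matrix (Fin n) (Fin n) C) x.1 x.2)
      (fun x => ((g⁻¹ : GL (Fin n) C) : Matrix (Fin n) (Fin n) C) x.1 x.2))
  choose num hnum using hd
  let M : Matrix (Fin n) (Fin n) B := fun i j => num (.inl (i, j))
  let N : Matrix (Fin n) (Fin n) B := fun i j => num (.inr (i, j))
  have hM : M.map (algebraMap B C) = (d : B) • (g : Matrix (Fin n) (Fin n) C) := by
    ext i j; exact hnum (.inl (i, j))
  have hN : N.map (algebraMap B C) = (d : B) • ((g⁻¹ : GL (Fin n) C) : Matrix (Fin n) (Fin n) C) := by
    ext i j; exact hnum (.inr (i, j))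
  have hz : ∀ (P : Matrix (Fin n) (Fin n) B), P.map (algebraMap B C) = 0 →
      ∃ e : B, e ∉ q ∧ ∀ i j, e * P i j = 0 := by
    intro P hP
    have : ∀ x : Fin n × Fin n, ∃ e : q.primeCompl, (e : B) * P x.1 x.2 = 0 := fun x =>
      (IsLocalization.map_eq_zero_iff q.primeCompl C _).mp (congrFun (congrFun hP x.1) x.2)
    choose e he using this
    refine ⟨∏ x, (e x : B), prod_mem (S := q.primeCompl) fun x _ => (e x).2, fun i j => ?_⟩
    rw [← Finset.prod_erase_mul _ _ (Finset.mem_univ (i, j)), mul_assoc, he (i, j), mul_zero]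
  have e1 : (M * N - (d * d : B) • 1).map (algebraMap B C) = 0 := by
    have : (algebraMap B C).mapMatrix (M * N - (d * d : B) • 1) = 0 := by
      rw [map_sub, map_mul]
      simp only [RingHom.mapMatrix_apply]
      rw [hM, hN, smul_mul_smul_comm, Units.mul_inv, Matrix.map_smul' _ _ _ (map_mul _), Matrix.map_one _ (map_zero _) (map_one _),
        algebraMap_smul, sub_self]
    exact this
  have e2 : (N * M - (d * d : B) • 1).map (algebraMap B C) = 0 := by
    have : (algebraMap B C).mapMatrix (N * M - (d * d : B) • 1) = 0 := by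
      rw [map_sub, map_mul]
      simp only [RingHom.mapMatrix_apply]
      rw [hM, hN, smul_mul_smul_comm, Units.inv_mul, Matrix.map_smul' _ _ _ (map_mul _), Matrix.map_one _ (map_zero _) (map_one _),
        algebraMap_smul, sub_self]
    exact this
  obtain ⟨a, ha, ha'⟩ := hz _ e1
  obtain ⟨b, hb, hb'⟩ := hz _ e2
  let c : B := d * a * b
  have hc : c ∉ q := fun h => (Ideal.IsPrime.mem_or_mem ‹_› h).elim
    (fun h => (Ideal.IsPrime.mem_or_mem ‹_› h).elim d.2 ha) hb
  let L := Localization.Away c
  have hcu : IsUnit (algebraMap B L c) := IsLocalization.Away.algebraMap_isUnit c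
  simp only [c, map_mul, IsUnit.mul_iff] at hcu
  obtain ⟨⟨hdu, hau⟩, hbu⟩ := hcu
  let v : L := (hdu.unit⁻¹ : Lˣ)
  have hv : algebraMap B L d * v = 1 := hdu.mul_val_inv
  have hmul : ∀ (P Q : Matrix (Fin n) (Fin n) B) (e : B), IsUnit (algebraMap B L e) →
      (∀ i j, e * (P * Q - (d * d : B) • 1) i j = 0) →
      (v • P.map (algebraMap B L)) * (v • Q.map (algebraMap B L)) = 1 := by
    intro P Q e he hPQ
    have h1 : (P * Q).map (algebraMap B L) = (algebraMap B L (d * d)) • (1 : Matrix (Fin n) (Fin n) L) := by
      ext i j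
      have := congrArg (algebraMap B L) (hPQ i j)
      rw [map_mul, map_zero, he.mul_right_eq_zero, Matrix.sub_apply, map_sub, sub_eq_zero] at this
      rw [Matrix.map_apply, this]
      rcases eq_or_ne i j with rfl | hij <;> simp [*]
    rw [smul_mul_smul_comm, ← Matrix.map_mul, h1, smul_smul, map_mul]
    rw [show v * v * (algebraMap B L d * algebraMap B L d) = (algebraMap B L d * v) * (algebraMap B L d * v) by ring, hv, mul_one, one_smul]
  refine ⟨c, hc, ⟨v • M.map (algebraMap B L), v • N.map (algebraMap B L), hmul M N a hau ha', hmul N M b hbu hb'⟩, ?_⟩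
  refine Units.ext ?_
  ext i j
  show piTo q c hc (v * algebraMap B L (M i j)) = _
  rw [map_mul, piTo_algebraMap]
  have h1 : algebraMap B C (d : B) * piTo q c hc v = 1 := by
    rw [← piTo_algebraMap q c hc, ← map_mul, hv, map_one]
  have h2 : algebraMap B C (M i j) = algebraMap B C d * (g : Matrix (Fin n) (Fin n) C) i j := by
    have := congrFun (congrFun hM i) j
    rw [Matrix.map_apply, Matrix.smul_apply, Algebra.smul_def] at this
    exact this
  rw [h2, ← mul_assoc, mul_comm (piTo q c hc v), h1, one_mul]

theorem commutator_le_near (n : ℕ) :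
    commutator (GL (Fin n) (Localization.AtPrime q)) ≤ nearCommutator q n := by
  rw [commutator_def, Subgroup.commutator_le]
  intro g _ g' _
  obtain ⟨c, hc, γ, rfl⟩ := exists_lift q n g
  obtain ⟨c', hc', γ', rfl⟩ := exists_lift q n g'
  have h : c * c' ∉ q := fun h => (Ideal.IsPrime.mem_or_mem ‹_› h).elim hc hc'
  refine ⟨c * c', h, ⁅GeneralLinearGroup.map (step c _ (dvd_mul_right _ _)) γ,
      GeneralLinearGroup.map (step c' _ (dvd_mul_left _ _)) γ'⁆,
      Subgroup.commutator_mem_commutator (Subgroup.mem_top _) (Subgroup.mem_top _), ?_⟩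
  rw [map_commutatorElement, mapc, mapc,
    piTo_comp_step q c _ hc h, piTo_comp_step q c' _ hc' h]

theorem descend (n : ℕ) (s : GL (Fin n) B)
    (h : GeneralLinearGroup.map (algebraMap B (Localization.AtPrime q)) s ∈ nearCommutator q n) :
    ∃ c : B, c ∉ q ∧
      GeneralLinearGroup.map (algebraMap B (Localization.Away c)) s ∈ commutator (GL (Fin n) (Localization.Away c)) := by
  classical
  obtain ⟨c, hc, γ, hγ, hγs⟩ := h
  have hx : ∀ x : Fin n × Fin n, ∃ e : B, e ∉ q ∧ ∀ (c' : B) (h : c ∣ c'), e ∣ c' →
      step c c' h ((γ : Matrix (Fin n) (Fin n) (Localization.Away c)) x.1 x.2) =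
        algebraMap B (Localization.Away c') ((s : Matrix (Fin n) (Fin n) B) x.1 x.2) := by
    intro x
    obtain ⟨b, ⟨_, k, rfl⟩, hb⟩ := IsLocalization.exists_mk'_eq (Submonoid.powers c)
      ((γ : Matrix (Fin n) (Fin n) (Localization.Away c)) x.1 x.2 - algebraMap B _ ((s : Matrix (Fin n) (Fin n) B) x.1 x.2))
    have h0 : algebraMap B (Localization.AtPrime q) b = 0 := by
      rw [← piTo_algebraMap q c hc, ← IsLocalization.mk'_spec (Localization.Away c) b (⟨c ^ k, k, rfl⟩ : Submonoid.powers c), map_mul, hb, map_sub, piTo_algebraMap]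
      have := congrArg (fun g : GL (Fin n) (Localization.AtPrime q) => (g : Matrix (Fin n) (Fin n) (Localization.AtPrime q)) x.1 x.2) hγs
      rw [show piTo q c hc ((γ : Matrix (Fin n) (Fin n) (Localization.Away c)) x.1 x.2) = _ from this]
      rw [show ((GeneralLinearGroup.map (algebraMap B (Localization.AtPrime q)) s : GL (Fin n) _) : Matrix (Fin n) (Fin n) _) x.1 x.2 =
        algebraMap B (Localization.AtPrime q) ((s : Matrix (Fin n) (Fin n) B) x.1 x.2) from rfl, sub_self, zero_mul]
    obtain ⟨⟨e, he⟩, he0⟩ := (IsLocalization.map_eq_zero_iff q.primeCompl _ _).mp h0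
    refine ⟨e, he, fun c' h hec => ?_⟩
    have hb' : algebraMap B (Localization.Away c') b = 0 := by
      have := congrArg (algebraMap B (Localization.Away c')) he0
      rwa [map_mul, map_zero, (isUnit_of_dvd_unit (map_dvd (algebraMap B (Localization.Away c')) hec)
        (IsLocalization.Away.algebraMap_isUnit c')).mul_right_eq_zero] at this
    have h2 := congrArg (step c c' h) (IsLocalization.mk'_spec (Localization.Away c) b (⟨c ^ k, k, rfl⟩ : Submonoid.powers c))
    rw [map_mul, hb, map_sub] at h2
    have hs : ∀ y, step c c' h (algebraMap B _ y) = algebraMap B (Localization.Away c') y := fun y =>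
      IsLocalization.Away.lift_eq _ _ _
    rw [hs, hs, hs, hb', ((isUnit_of_dvd_unit (map_dvd (algebraMap B (Localization.Away c')) (dvd_refl _))
      ?_).mul_left_eq_zero)] at h2
    · exact sub_eq_zero.mp h2
    · rw [map_pow]
      exact (isUnit_of_dvd_unit (map_dvd (algebraMap B (Localization.Away c')) h)
        (IsLocalization.Away.algebraMap_isUnit c')).pow k
  choose e he heq using hx
  let c' := c * ∏ x, e x
  refine ⟨c', fun h => (Ideal.IsPrime.mem_or_mem ‹_› h).elim hc
    ((prod_mem (S := q.primeCompl) fun x _ => he x) : (∏ x, e x) ∈ q.primeCompl), ?_⟩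
  have hstep : GeneralLinearGroup.map (step c c' (dvd_mul_right _ _)) γ =
      GeneralLinearGroup.map (algebraMap B (Localization.Away c')) s := by
    refine Units.ext ?_
    ext i j
    exact heq (i, j) c' (dvd_mul_right _ _) (dvd_mul_of_dvd_right (Finset.dvd_prod_of_mem e (Finset.mem_univ (i, j))) _)
  rw [← hstep]
  exact map_mem_commutator _ hγ

end

theorem local_mem {C : Type u} [CommRing C] [IsLocalRing C] {n : ℕ} (t : Cˣ) (ht : IsUnit ((t : C) - 1))
    (g : GL (Fin n) C) (hg : GeneralLinearGroup.det g = 1) : g ∈ commutator (GL (Fin n) C) := by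
  classical
  rcases Nat.eq_zero_or_pos n with rfl | hn
  · rw [show g = 1 from Units.ext (Subsingleton.elim _ _)]
    exact one_mem _
  let i0 : Fin n := ⟨0, hn⟩
  let of := Abelianization.of (G := GL (Fin n) C)
  let φ : Cˣ →* Abelianization (GL (Fin n) C) :=
    of.comp (diagU.comp (MonoidHom.mulSingle (fun _ : Fin n => Cˣ) i0))
  have hker : ∀ x, of x = 1 ↔ x ∈ commutator (GL (Fin n) C) := fun x => by
    rw [← MonoidHom.mem_ker, Abelianization.ker_of]
  have H : of = φ.comp GeneralLinearGroup.det := by
    refine Groth.Agent.S5659.hom_ext_local _ _ (fun d => ?_) fun i j h a => ?_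
    · have : of.comp diagU = (φ.comp GeneralLinearGroup.det).comp diagU := by
        refine MonoidHom.pi_ext fun i x => ?_
        simp only [MonoidHom.comp_apply, φ, Groth.Agent.S5659.det_diagU, Finset.prod_pi_mulSingle',
          Finset.mem_univ, if_true, MonoidHom.mulSingle_apply]
        have hsw := congrArg of (Groth.Agent.S5659.swap_conj (B := C) i0 i x)
        rw [map_mul, map_mul] at hsw
        exact (mul_right_cancel ((mul_comm _ _).trans hsw)).symm
      exact DFunLike.congr_fun this d
    · rw [MonoidHom.comp_apply, Groth.Agent.S5659.det_transU, map_one]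
      obtain ⟨v, hv⟩ := ht.exists_left_inv
      have hc := congrArg of (Groth.Agent.S5659.torus_conj i j h (v * a) t)
      rw [map_mul, map_mul] at hc
      have h2 : of (transU i j h (v * a)) = of (transU i j h ((t : C) * (v * a))) :=
        mul_right_cancel ((mul_comm _ _).trans hc)
      have hsplit : transU i j h ((t : C) * (v * a)) = transU i j h a * transU i j h (v * a) := by
        refine Units.ext ?_
        show Matrix.transvection i j _ = Matrix.transvection i j a * Matrix.transvection i j (v * a)
        rw [Matrix.transvection_mul_transvection_same i j h]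
        congr 1
        linear_combination a * hv
      rw [hsplit, map_mul] at h2
      exact mul_eq_right.mp h2.symm
  rw [← hker, H, MonoidHom.comp_apply, hg, map_one]

theorem exists_nice (A : Type u) [CommRing A] (p : PrimeSpectrum A) :
    ∃ (A' : Type u) (_ : CommRing A') (_ : Algebra A A') (_ : Algebra.Etale A A') (q : PrimeSpectrum A'),
      q.asIdeal.comap (algebraMap A A') = p.asIdeal ∧
      ∃ t : A', t ∉ q.asIdeal ∧ t - 1 ∉ q.asIdeal := by
  by_cases h3 : (3 : A) ∈ p.asIdeal
  · refine ⟨A, inferInstance, Algebra.id A, inferInstance, p, by simp, 2, fun h2 => ?_, ?_⟩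
    · exact p.2.ne_top ((Ideal.eq_top_iff_one _).mpr (by have := sub_mem h3 h2; norm_num at this; exact this))
    · norm_num
      exact fun h => p.2.ne_top ((Ideal.eq_top_iff_one _).mpr h)
  · let f : Polynomial A := Polynomial.X ^ 2 + Polynomial.X + 1
    have hf : f.Monic := by
      simp only [f]
      monicity!
    let P : StandardEtalePair A :=
      { f := f, monic_f := hf, g := Polynomial.C 3,
        cond := ⟨-(2 * Polynomial.X + 1), 4, 1, by
          simp only [f, Polynomial.derivative_add, Polynomial.derivative_X_pow, Polynomial.derivative_X,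
            Polynomial.derivative_one, map_ofNat, Nat.cast_ofNat]
          ring⟩ }
    let k := p.asIdeal.ResidueField
    let K := AlgebraicClosure k
    obtain ⟨x, hx⟩ := IsAlgClosed.exists_root (Polynomial.map (algebraMap A K) f) (by
      rw [hf.degree_map]
      haveI := p.nontrivial
      have hd : f.degree = 2 := by
        simp only [f]
        compute_degree!
      rw [hd]
      norm_num)
    have hx0 : Polynomial.aeval x f = 0 := by
      rwa [Polynomial.IsRoot, Polynomial.eval_map, ← Polynomial.aeval_def] at hx
    have h3K : algebraMap A K 3 ≠ 0 := by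
      rw [IsScalarTower.algebraMap_apply A k K]
      exact fun h => h3 (Ideal.algebraMap_residueField_eq_zero.mp ((map_eq_zero _).mp h))
    have hmap : P.HasMap x := ⟨hx0, by
      show IsUnit (Polynomial.aeval x (Polynomial.C 3))
      rw [Polynomial.aeval_C]
      exact h3K.isUnit⟩
    let φ := P.lift x hmap
    refine ⟨P.Ring, inferInstance, inferInstance, inferInstance, ⟨RingHom.ker φ, RingHom.ker_isPrime _⟩, ?_, P.X, ?_, ?_⟩
    · ext a
      simp only [Ideal.mem_comap, RingHom.mem_ker, AlgHom.commutes]
      rw [IsScalarTower.algebraMap_apply A k K, map_eq_zero, Ideal.algebraMap_residueField_eq_zero]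
    · rw [RingHom.mem_ker, StandardEtalePair.lift_X]
      intro h0
      simp [f, h0] at hx0
    · rw [RingHom.mem_ker, map_sub, StandardEtalePair.lift_X, map_one, sub_eq_zero]
      intro h1
      simp only [f, h1, map_add, map_pow, Polynomial.aeval_X, map_one, one_pow] at hx0
      exact h3K (by rw [map_ofNat]; linear_combination hx0)

/-- On the big étale site of a scheme the sheaf of commutator subgroups of Gl(n) is Sl(n) = Ker(det).
Concretely: let A be a commutative ring, n ≥ 0, s ∈ SL_n(A) and p a prime ideal of A. Then there are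
an étale A-algebra A' with a prime ideal lying over p such that the image of s in GL_n(A') lies in
the commutator subgroup of GL_n(A'). (The inclusion of commutators in SL_n being clear, this is the
content of the statement.) -/
theorem result (A : Type u) [CommRing A] (n : ℕ)
    (s : Matrix.SpecialLinearGroup (Fin n) A) (p : PrimeSpectrum A) :
    ∃ (A' : Type u) (_ : CommRing A') (_ : Algebra A A'), Algebra.Etale A A' ∧
      (∃ q : PrimeSpectrum A', q.asIdeal.comap (algebraMap A A') = p.asIdeal) ∧
      (Matrix.GeneralLinearGroup.map (algebraMap A A')) (Matrix.SpecialLinearGroup.toGL s) ∈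
        commutator (Matrix.GeneralLinearGroup (Fin n) A') := by
  classical
  obtain ⟨A1, _, _, _, q, hq, t, ht, ht1⟩ := exists_nice A p
  let C := Localization.AtPrime q.asIdeal
  let tu : Cˣ := (IsLocalization.map_units C (⟨t, ht⟩ : q.asIdeal.primeCompl)).unit
  have htu : IsUnit ((tu : C) - 1) := by
    rw [IsUnit.unit_spec, ← map_one (algebraMap A1 C), ← map_sub]
    exact IsLocalization.map_units C (⟨t - 1, ht1⟩ : q.asIdeal.primeCompl)
  let s1 := Matrix.GeneralLinearGroup.map (algebraMap A A1) (Matrix.SpecialLinearGroup.toGL s)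
  have hdet : GeneralLinearGroup.det (GeneralLinearGroup.map (algebraMap A1 C) s1) = 1 := by
    have h0 : GeneralLinearGroup.det (Matrix.SpecialLinearGroup.toGL s) = 1 := Units.ext s.2
    simp only [s1, Matrix.GeneralLinearGroup.map_det, h0, map_one]
  obtain ⟨c, hc, hcmem⟩ := descend q.asIdeal n s1 (commutator_le_near q.asIdeal n (local_mem tu htu _ hdet))
  haveI : Algebra.Etale A1 (Localization.Away c) := Algebra.Etale.of_isLocalizationAway c
  refine ⟨Localization.Away c, inferInstance, inferInstance, Algebra.Etale.comp A A1 _, ?_, ?_⟩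
  · refine ⟨⟨q.asIdeal.map (algebraMap A1 _), ?_⟩, ?_⟩
    · exact IsLocalization.isPrime_of_isPrime_disjoint (Submonoid.powers c) _ q.asIdeal q.2
        ((Ideal.disjoint_powers_iff_notMem c q.2.isRadical).mpr hc)
    · rw [IsScalarTower.algebraMap_eq A A1 (Localization.Away c), ← Ideal.comap_comap]
      have e := IsLocalization.comap_map_of_isPrime_disjoint (Submonoid.powers c) (Localization.Away c) q.2
        ((Ideal.disjoint_powers_iff_notMem c q.2.isRadical).mpr hc)
      exact (congrArg (Ideal.comap (algebraMap A A1)) e).trans hq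
  · rw [IsScalarTower.algebraMap_eq A A1 (Localization.Away c), ← mapc]
    exact hcmem

end Groth.Agent.S5658
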