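import Groth.Statements.S5667
import Groth.Agent.Lib.ProjCoh.DualityCM
import Groth.Agent.Lib.Curves.GlobalSections
import Groth.Agent.Lib.RG.GeomComp
import Groth.Agent.H3.Scalars
import Groth.Agent.Lib.FundLocal.Rank
import Groth.Agent.Lib.GrassGen.ExtPowFree
import Groth.Agent.S11924

set_option linter.style.haveILetI false

set_option autoImplicit false
universe u
open CategoryTheory CategoryTheory.Limits AlgebraicGeometry
open ProjDual

namespace Groth.Agent.S5667

/-- Let `k` be an algebraically closed field and `X` a connected nonsingular projective variety of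
dimension `n` over `k` — here: a connected `k`-scheme, smooth of relative dimension `n` over `k`,
with a closed immersion into some projective space `P^r_k` over `k` — and let `L` be an `n`-th
exterior power of the sheaf of differentials of `X` over `k` (the sheaf of `n`-forms). Then `H^n(X,
L)` is a `k`-vector space of dimension `1`. (The source says more: the fundamental class of a point
is a basis; only the dimension is stated here.) -/
theorem result (k : Type u) [Field k] [IsAlgClosed k] (n r : ℕ) (X : Scheme.{u}) [X.Over (Spec (CommRingCat.of k))] [SmoothOfRelativeDimension n (X ↘ Spec (CommRingCat.of k))] [ConnectedSpace X] (ι : X ⟶ CohB1.ProjSpace r k) [IsClosedImmersion ι] (hι : ι ≫ CohB1.ProjSpace.toSpec r k = X ↘ Spec (CommRingCat.of k)) (L : X.Modules) (hL : ExtPow.IsExtPow n (Omega.sheaf (X ↘ Spec (CommRingCat.of k))) L) : Module.finrank k (Coh.HH X L n) = 1 := by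
  let c := X ↘ Spec (CommRingCat.of k)
  haveI : Smooth c := SmoothOfRelativeDimension.smooth n c
  haveI : IsProper c := by
    show IsProper (X ↘ Spec (CommRingCat.of k))
    rw [← hι]
    haveI := Groth.Agent.Lib.ProjSpace.Basic.isProper_toSpec r k
    infer_instance
  haveI := Groth.Agent.Lib.RG.GeomComp.isIntegral_of_smooth_connected c
  obtain ⟨t, ht⟩ := Groth.Agent.S11924.result k r n X ι hι L hL
  obtain ⟨A⟩ := Groth.Agent.Lib.Cyc.CH.nonempty_detAtlas_of_isExtPow
    (Groth.Agent.Lib.FundLocal.Rank.isFinLocFreeOfRank_omega c n) hL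
  have hinv : PicF.IsInvertible L := A.isInvertible
  have hCoh : Coh.IsCoh L := Groth.Agent.Lib.CurveBundle.Coherent.isCoh
    (Groth.Agent.Lib.TensorMod.LocFree.of_rank (Groth.Agent.Lib.TensorMod.LocFree.of_isInvertible hinv))
  have hbij : Function.Bijective (Coh.toGlobal c) := by
    letI : Algebra k Γ(X, ⊤) := RingHom.toAlgebra (S := Γ(X, ⊤)) (Coh.toGlobal c)
    haveI : IsDomain Γ(X, ⊤) := inferInstance
    haveI : Module.Finite k Γ(X, ⊤) := Groth.Agent.Lib.Curves.GlobalSections.finite_toGlobal k X
    exact IsAlgClosed.algebraMap_bijective_of_isIntegral (k := k) (K := Γ(X, ⊤))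
  rw [← Subspace.dual_finrank_eq, ← (LinearEquiv.ofBijective (Groth.Agent.Lib.ProjCoh.DualityCM.θ₀ L t L)
    (Groth.Agent.Lib.ProjCoh.DualityCM.θ₀_bijective (t := t) ht L hCoh)).finrank_eq]
  obtain ⟨x⟩ := (inferInstance : Nonempty X)
  have h1 : 𝟙 L ≠ 0 := fun h => by
    have : (1 : Γ(X, ⊤)) = 0 := Groth.Agent.H3.Scalars.scalarEnd_injective hinv (by
      rw [Groth.Agent.H3.Scalars.scalarEnd_one, h]
      ext U m
      show (0 : Γ(L, U)) = TwSh.resTop X U 0 • m
      rw [map_zero, zero_smul])
    exact one_ne_zero this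
  refine finrank_eq_one (𝟙 L) h1 fun φ => ?_
  obtain ⟨s, hs⟩ := Groth.Agent.H3.Scalars.exists_scalarEnd_eq hinv φ
  obtain ⟨a, rfl⟩ := hbij.2 s
  refine ⟨a, hs ▸ ?_⟩
  ext U m
  rfl

end Groth.Agent.S5667
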