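import Groth.Statements.S5671
import Groth.Agent.Lib.DMod.Gorenstein
import Groth.Agent.Lib.DMod.Bottom
import Groth.Agent.Lib.DMod.LocalCase
import Groth.Agent.Lib.Goren.Basic

set_option autoImplicit false
universe u
open CategoryTheory
open Dual

namespace Groth.Agent.S5671

/-- First assertion, in the local-algebra form to which its proof reduces it: let `A` be a regular local
ring of dimension `n`, `p ≥ 0`, and `M` a finite `A`-module whose support has dimension at most `n -
p`. Then `Ext^i_A(M, A) = 0` for every `i < p`. (The geometric statement: on a nonsingular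
`n`-dimensional variety the sheaves `Ext^i(F, L)` vanish for `i < p` when `F` is coherent with
support of dimension `≤ n - p` and `L` is locally free.) -/
theorem result (A : Type u) [CommRing A] [IsRegularLocalRing A] (M : Type u) [AddCommGroup M] [Module A M] [Module.Finite A M] (p : ℕ) (hdim : Module.supportDim A M + p ≤ ringKrullDim A) (i : ℕ) (hi : i < p) : Subsingleton (Abelian.Ext (ModuleCat.of A M) (ModuleCat.of A A) i) := by

  cases subsingleton_or_nontrivial M with
  | inl hM => exact subsingleton_of_forall_eq 0 fun x => (Groth.Agent.Lib.DMod.Basic.extEquiv M A i).injective ((CategoryTheory.Functor.map_isZero _ (ModuleCat.isZero_of_subsingleton (ModuleCat.of A M))).eq_of_src _ _)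
  | inr hM =>
    have := Groth.Agent.Lib.Goren.Basic.isGorensteinLocalRing_of_isRegular A
    obtain ⟨d, hd⟩ : ∃ d : ℕ, ringKrullDim A = d := by
      exact ⟨_, (IsRegularLocalRing.spanFinrank_maximalIdeal (R := A)).symm⟩
    obtain ⟨hω, hn⟩ := Groth.Agent.Lib.DMod.Gorenstein.isDualizing_gorenstein_local d hd
    have hsd : ∃ s : ℕ, Module.supportDim A M = s ∧ s + p ≤ d := by
      rw [hd] at hdim
      cases hs : Module.supportDim A M with
      | bot => exact absurd hs (Module.supportDim_ne_bot_of_nontrivial A M)
      | coe s =>
        rw [hs] at hdim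
        induction s with
        | top =>
          exfalso
          have h' : (((⊤ : ℕ∞) + p : ℕ∞) : WithBot ℕ∞) ≤ ((d : ℕ∞) : WithBot ℕ∞) := hdim
          rw [WithBot.coe_le_coe, top_add, top_le_iff] at h'
          exact ENat.coe_ne_top d h'
        | coe s => exact ⟨s, rfl, by exact_mod_cast hdim⟩
    obtain ⟨s, hs, hsp⟩ := hsd
    obtain ⟨q, hq, hqd, hmin⟩ := Groth.Agent.Lib.DMod.LocalCase.exists_min_deg_local hω hn M s hs
    have := Groth.Agent.Lib.DMod.Bottom.subsingleton_of_deg_lt hω M ((i : ℤ) - d) (fun r hr => by
      have := hmin r hr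
      omega)
    exact (Groth.Agent.Lib.DMod.Gorenstein.shiftExtEquiv (A := A) M (d : ℤ) ((i : ℤ) - d) i (by omega)).toEquiv.subsingleton

end Groth.Agent.S5671
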