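import Groth.Statements.S5672
import Groth.Agent.Lib.DMod.ExtHomPresent
import Groth.Agent.S5671

set_option autoImplicit false
universe u
open CategoryTheory
open Dual

namespace Groth.Agent.S5672

/-- Let `A` be a regular local ring of dimension `n`, `J` an ideal with `dim(A/J) ≤ n - p`, and `M` a
finite `A`-module with `JM = 0`. For `ξ ∈ Ext^p_A(M, A)` and an `A`-linear `u : A/J → M` write `u^*ξ
∈ Ext^p_A(A/J, A)` for the pullback. Then `ξ ↦ (u ↦ u^*ξ)` is injective, and every `A`-linear map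
`Hom_A(A/J, M) → Ext^p_A(A/J, A)` is of the form `u ↦ u^*ξ` for some `ξ`. Since `Hom_A(A/J, M) = M`
here, this says that the canonical map `Ext^p_A(M, A) → Hom_A(M, Ext^p_A(A/J, A))` is bijective. -/
theorem result (A : Type u) [CommRing A] [IsRegularLocalRing A] (p : ℕ) (J : Ideal A) (hJ : ringKrullDim (A ⧸ J) + p ≤ ringKrullDim A) (M : Type u) [AddCommGroup M] [Module A M] [Module.Finite A M] (hJM : J • (⊤ : Submodule A M) = ⊥) : Function.Injective (fun ξ : Abelian.Ext (ModuleCat.of A M) (ModuleCat.of A A) p => fun u : (A ⧸ J) →ₗ[A] M => (Abelian.Ext.mk₀ (ModuleCat.ofHom u)).comp ξ (zero_add p)) ∧ ∀ g : ((A ⧸ J) →ₗ[A] M) →ₗ[A] Abelian.Ext (ModuleCat.of A (A ⧸ J)) (ModuleCat.of A A) p, ∃ ξ : Abelian.Ext (ModuleCat.of A M) (ModuleCat.of A A) p, ∀ u : (A ⧸ J) →ₗ[A] M, g u = (Abelian.Ext.mk₀ (ModuleCat.ofHom u)).comp ξ (zero_add p) := by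
  refine Groth.Agent.Lib.DMod.ExtHomPresent.bijective (J := J) (p := p) ?_ M hJM
  intro N _ _ _ hN i hi
  refine Groth.Agent.S5671.result A N p (le_trans (add_le_add ?_ le_rfl) hJ) i hi
  rw [Module.supportDim_eq_ringKrullDim_quotient_annihilator]
  refine ringKrullDim_le_of_surjective (Ideal.Quotient.factor (fun a ha => ?_))
    (Ideal.Quotient.factor_surjective _)
  refine Module.mem_annihilator.mpr fun x => ?_
  have : a • x ∈ J • (⊤ : Submodule A N) := Submodule.smul_mem_smul ha trivial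
  rwa [hN, Submodule.mem_bot] at this

end Groth.Agent.S5672
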