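import Groth.Statements.S5674
import Groth.Agent.H41.ExtLocalGlobal
import Groth.Agent.Lib.ExtShDepth.Main
import Groth.Agent.Lib.ExtShStalk.Vanish
import Groth.Agent.Lib.ProjSpace.SmoothDimEq
import Groth.Agent.Lib.WeilExt.Basic
import Groth.Agent.Lib.RefHull.LocFree
import Groth.Agent.Lib.Regular.Quotient

set_option autoImplicit false
universe u
open CategoryTheory CategoryTheory.Limits AlgebraicGeometry
open ProjDual

namespace Groth.Agent.S5674

open Groth.Agent.Lib Groth.Agent.Lib.Cyc.DimFun Groth.Agent.Lib.Cyc.FieldDim in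
/-- On a scheme smooth of relative dimension `n` over a field, `n ≤ dim O_y + dim cl y`. -/
theorem le_ringKrullDim_stalk {k : Type u} [Field k] {n : ℕ} {X : Scheme.{u}}
    (c : X ⟶ Spec (CommRingCat.of k)) [SmoothOfRelativeDimension n c] [CompactSpace X] (y : X) :
    ((n - (fdelta c y).toNat : ℕ) : WithBot ℕ∞) ≤ ringKrullDim (X.presheaf.stalk y) := by
  haveI : Smooth c := SmoothOfRelativeDimension.smooth (n := n) c
  obtain ⟨ξ, hξ, hmax⟩ := exists_isMaxPt_specializes y
  obtain ⟨x, hxy, hx⟩ := IsClosed.exists_closed_singleton (isClosed_closure (s := ({y} : Set X)))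
    ⟨y, subset_closure rfl⟩
  have hyx : y ⤳ x := specializes_iff_mem_closure.2 hxy
  have hξx : ξ ⤳ x := hξ.trans hyx
  haveI : IsRegularLocalRing (X.presheaf.stalk x) := WeilExt.Basic.isRegularLocalRing_stalk c x
  haveI := Regular.Quotient.isDomain (X.presheaf.stalk x)
  have hbot : (genPrime x ξ hξx).asIdeal = ⊥ := by
    let b : PrimeSpectrum (X.presheaf.stalk x) := ⟨⊥, Ideal.isPrime_bot⟩
    have h1 := fromSpecStalk_specializes_self x b
    have hle : genPrime x _ h1 ≤ genPrime x ξ hξx := by
      rw [← eq_genPrime x b]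
      show b.asIdeal ≤ _
      exact bot_le
    have h2 : X.fromSpecStalk x b ⤳ ξ := (genPrime_le_iff x _ _ h1 hξx).1 hle
    obtain rfl := hmax _ h2
    exact (congrArg PrimeSpectrum.asIdeal (eq_genPrime x b)).symm
  have hn := ringKrullDim_locQuot (isDimFun_fdelta c) x ξ hξx
  change ringKrullDim (X.presheaf.stalk x ⧸ (genPrime x ξ hξx).asIdeal) = _ at hn
  rw [ringKrullDim_eq_of_ringEquiv ((Ideal.quotEquivOfEq hbot).trans (RingEquiv.quotientBot _)),
    ProjSpace.SmoothDimEq.ringKrullDim_stalk_closed k c n hx] at hn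
  have hx0 := topologicalKrullDim_closure c x
  have hn' : (fdelta c ξ - fdelta c x).toNat = n := by exact_mod_cast hn.symm
  refine le_trans ?_ (ringKrullDim_quotient_le (genPrime y ξ hξ).asIdeal)
  refine le_of_le_of_eq ?_ (ringKrullDim_locQuot (isDimFun_fdelta c) y ξ hξ).symm
  have h2 := fdelta_nonneg c x
  have h3 : (fdelta c x).toNat = 0 := by
    have : topologicalKrullDim (closure ({x} : Set X)) ≤ 0 := by
      rw [hx.closure_eq]
      haveI : Subsingleton ({x} : Set X) := ⟨fun a b => Subtype.ext (a.2.trans b.2.symm)⟩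
      haveI : Nonempty ({x} : Set X) := ⟨⟨x, rfl⟩⟩
      exact topologicalKrullDim_zero_of_discreteTopology ({x} : Set X)
    rw [hx0] at this
    exact Nat.le_zero.1 (by exact_mod_cast this)
  have h4 := fdelta_nonneg c y
  exact_mod_cast (show n - (fdelta c y).toNat ≤ (fdelta c ξ - fdelta c y).toNat by omega)

/-- Let `k` be an algebraically closed field, `X` a nonsingular algebraic set of dimension `n` over `k`
— here: a quasi-compact `k`-scheme smooth of relative dimension `n` over `k` — `F` a coherent
`O_X`-module whose support has dimension at most `n - p`, and `L` a finite locally free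
`O_X`-module. Then the (global) groups `Ext^i_{O_X}(F, L)` vanish for `i < p`. (All components of
`X` have dimension `n`; for a nonsingular algebraic set with a component of smaller dimension the
conclusion fails. The Ext instance on the category of `O_X`-modules is taken as a hypothesis; it
holds since that category is Grothendieck abelian.) -/
theorem result (k : Type u) [Field k] [IsAlgClosed k] (n : ℕ) (X : Scheme.{u}) [X.Over (Spec (CommRingCat.of k))] [SmoothOfRelativeDimension n (X ↘ Spec (CommRingCat.of k))] [CompactSpace X] [HasExt.{u} X.Modules] (F : X.Modules) (hF : Coh.IsCoh F) (L : X.Modules) (hL : FlatMod.IsFinLocFree L) (p : ℕ) (hsupp : topologicalKrullDim ↥(CohB1.support F) + p ≤ n) (i : ℕ) (hi : i < p) : Subsingleton (Abelian.Ext F L i) := by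
  haveI : Smooth (X ↘ Spec (CommRingCat.of k)) :=
    SmoothOfRelativeDimension.smooth (n := n) (X ↘ Spec (CommRingCat.of k))
  haveI : IsLocallyNoetherian X := LocallyOfFiniteType.isLocallyNoetherian (X ↘ Spec (CommRingCat.of k))
  haveI : HasInjectiveResolutions X.Modules := inferInstance
  haveI : HasInjectiveResolutions (ModSite.Mod X.sheaf) := ‹HasInjectiveResolutions X.Modules›
  haveI : ∀ M : X.Modules, ModSite.HasSheafHom (O := X.sheaf) M := fun M =>
    Groth.Agent.Lib.ModTensor.ModSite.hasSheafHom M
  haveI := hF.2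
  let U : X.Opens := ⟨(CohB1.support F)ᶜ, (Groth.Agent.Lib.Modules.Support.isClosed_support F).isOpen_compl⟩
  refine Groth.Agent.H41.ExtLocalGlobal.subsingleton_ext_of_isZero_extSh F L p (fun q hq => ?_) hi
  refine ((Groth.Agent.Lib.ExtShDepth.depth_iff_isZero_extSh (F := L) (U := U) (n := p)
    (Groth.Agent.Lib.Perfect.Coherent.isCoh_of_isFinLocFree hL)).1 (fun y hy => ?_)) F hF
      (fun y hy h => h hy) q hq
  have hyF : y ∈ CohB1.support F := not_not.1 hy
  haveI : IsRegularLocalRing (X.presheaf.stalk y) :=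
    Groth.Agent.Lib.WeilExt.Basic.isRegularLocalRing_stalk (X ↘ Spec (CommRingCat.of k)) y
  have hcl : topologicalKrullDim (closure ({y} : Set X)) ≤ topologicalKrullDim (CohB1.support F) :=
    Topology.IsInducing.topologicalKrullDim_le (Topology.IsEmbedding.isInducing <| Topology.IsEmbedding.inclusion
      ((Groth.Agent.Lib.Modules.Support.isClosed_support F).closure_subset_iff.2
        (Set.singleton_subset_iff.2 hyF)))
  rw [Groth.Agent.Lib.Cyc.FieldDim.topologicalKrullDim_closure (X ↘ Spec (CommRingCat.of k)) y] at hcl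
  have hle : (Groth.Agent.Lib.Cyc.FieldDim.fdelta (X ↘ Spec (CommRingCat.of k)) y).toNat + p ≤ n := by
    exact_mod_cast (add_le_add hcl le_rfl).trans hsupp
  have hd := le_ringKrullDim_stalk (n := n) (X ↘ Spec (CommRingCat.of k)) y
  rw [Groth.Agent.Lib.ExtShStalk.Vanish.ringKrullDim_eq_depth] at hd
  have hd' : ((p : ℕ) : ℕ∞) ≤ LocCoh.depth (X.presheaf.stalk y) (X.presheaf.stalk y) :=
    le_trans (by exact_mod_cast (show p ≤ n - _ by omega))
      (WithBot.coe_le_coe.1 (le_of_eq_of_le (WithBot.coe_natCast _) hd))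
  haveI : Module.Finite (X.presheaf.stalk y) (L.presheaf.stalk y) :=
    Groth.Agent.Lib.RefHull.LocFree.finite_stalk (Groth.Agent.Lib.Perfect.Coherent.isCoh_of_isFinLocFree hL) _
  haveI := Groth.Agent.Lib.RefHull.LocFree.free_stalk hL y
  exact le_of_le_of_eq (Groth.Agent.Lib.ExtShStalk.Vanish.depth_le_depth_pi _ hd')
    (Groth.Agent.Lib.Depth.Basic.depth_congr
      (Module.finBasis (X.presheaf.stalk y) (L.presheaf.stalk y)).equivFun).symm

end Groth.Agent.S5674
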