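import Groth.Statements.S5679
import Groth.Agent.S5323
import Groth.Agent.Lib.ActSep.NeutralCons
import Groth.Agent.Lib.ActSep.NeutralBC
import Groth.Agent.Lib.ProCons45.Basic
import Groth.Agent.Lib.SchTopo.Closure
import Groth.Agent.Lib.FreeRes.SubGrp
import Groth.Agent.Lib.ModelFibre.MaxPoint

set_option autoImplicit false
universe u
open CategoryTheory CategoryTheory.Limits MonoidalCategory CartesianMonoidalCategory MonObj GrpObj AlgebraicGeometry
open FGA
open CategoryTheory.MonoidalCategory CartesianMonoidalCategory MonObj GrpObj Topology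

namespace Groth.Agent.S5679

/-- Let S be a nonempty locally Noetherian scheme and G a group scheme locally of finite type over S.
Then there are a nonempty open subset U of S, a group scheme H of finite type over U with connected
fibres, and a homomorphism from H to the base change of G to U which is an open immersion and whose
image in G is the set of points lying over U in the union of the connected components of the
identity of the fibres of G. -/
theorem result (S : Scheme.{u}) [IsLocallyNoetherian S] [Nonempty ↥S]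
    (G : Over S) [GrpObj G] [LocallyOfFiniteType G.hom] :
    ∃ U : S.Opens, (U : Set ↥S).Nonempty ∧
      ∃ (H : Over (U : Scheme.{u})) (_ : GrpObj H) (i : H ⟶ Red.bc U.ι G), IsMonHom i ∧ IsOpenImmersion i.left ∧
        QuasiCompact H.hom ∧ LocallyOfFiniteType H.hom ∧
        (∀ u : ↥(U : Scheme.{u}), _root_.IsConnected (H.hom.base ⁻¹' {u})) ∧
        Set.range (i.left ≫ pullback.fst G.hom U.ι).base = SGA3x.neutralSet G ∩ G.hom.base ⁻¹' (U : Set ↥S) := by
  have : LocallyOfFinitePresentation G.hom := inferInstance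
  have : IsLocallyNoetherian G.left := LocallyOfFiniteType.isLocallyNoetherian G.hom
  obtain ⟨s₀⟩ := ‹Nonempty ↥S›
  obtain ⟨ξ, hξ, -⟩ := Lib.SchTopo.Closure.exists_maximal_specializes S s₀
  have hmax : ∀ z : S, z ⤳ ξ → z = ξ := fun z hz =>
    Lib.ModelFibre.MaxPoint.generalization_of_mem_irreducibleComponents hξ z hz
  obtain ⟨A, hA, hξA, -⟩ := exists_isAffineOpen_mem_and_subset (U := (⊤ : S.Opens)) (x := ξ) trivial
  have : CompactSpace (A : Scheme.{u}) := isCompact_iff_compactSpace.1 hA.isCompact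
  let GA := Red.bc A.ι G
  have : LocallyOfFiniteType GA.hom := MorphismProperty.pullback_snd (P := @LocallyOfFiniteType) _ _ ‹_›
  obtain ⟨Q₀, hQ₀, hQ₀N⟩ := Groth.Agent.S5323.result (A : Scheme.{u}) GA (fun s =>
    inferInstanceAs (LocallyOfFiniteType (pullback.snd GA.hom ((A : Scheme.{u}).fromSpecResidueField s))))
  let j : GA.left ⟶ G.left := pullback.fst G.hom A.ι
  let Q : G.left.Opens := j ''ᵁ Q₀
  have hQc : IsCompact (Q : Set G.left) := hQ₀.image j.continuous
  have hQA : ∀ q, q ∈ Q → G.hom q ∈ A := by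
    rintro _ ⟨z, -, rfl⟩
    show G.hom (j z) ∈ A
    rw [← Scheme.Hom.comp_apply, pullback.condition, Scheme.Hom.comp_apply]
    exact (GA.hom z).2
  have hQN : ∀ g, G.hom g ∈ A → g ∈ SGA3x.neutralSet G → g ∈ Q := by
    intro g hgA hgN
    obtain ⟨z, hz, -⟩ := Scheme.Pullback.exists_preimage_pullback (f := G.hom) (g := A.ι) g ⟨G.hom g, hgA⟩ rfl
    exact ⟨z, hQ₀N (by rw [Lib.ActSep.neutralSet_bc]; show j z ∈ SGA3x.neutralSet G; rwa [show j z = g from hz]), hz⟩
  -- points where the neutral set is not a neighbourhood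
  let N := SGA3x.neutralSet G
  let g : (Q : Scheme.{u}) ⟶ S := Q.ι ≫ G.hom
  have : CompactSpace (Q : Scheme.{u}) := isCompact_iff_compactSpace.1 hQc
  have : QuasiCompact g := quasiCompact_of_compactSpace g
  have hN : ProCons.IsIndConstructible N := Lib.ActSep.isIndConstructible_neutralSet G
  have hNl : IsLocallyConstructible N := Lib.ActSep.isLocallyConstructible_neutralSet G
  let B : Set (Q : Scheme.{u}) := Q.ι ⁻¹' N ∩ Q.ι ⁻¹' closure Nᶜ
  have hB : Lib.LimTop.PC.IsPC B :=
    ((Lib.ProCons45.Basic.isLocallyConstructible_iff_isPC.1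
      (hNl.preimage_of_isOpenEmbedding Q.ι.isOpenEmbedding)).1).inter
      (Lib.LimTop.PC.IsPC.of_isClosed (isClosed_closure.preimage Q.ι.continuous))
  have hT := Lib.ProCons45.Basic.isPC_image g hB
  have hξT : ξ ∉ closure (g '' B) := by
    intro h
    obtain ⟨z, ⟨b, ⟨hbN, hbC⟩, rfl⟩, hz⟩ := Lib.Subtrusive.ProConstructible.exists_generization_of_isProConstructible
      (Lib.ProCons45.Basic.isProConstructible_iff_isPC.2 hT) h
    obtain ⟨c, hc, hcb⟩ := Lib.Subtrusive.ProConstructible.exists_generization_of_isProConstructible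
      (Lib.ProCons45.Basic.isProConstructible_compl_iff.2 hN) hbC
    have hb : G.hom (Q.ι b) = ξ := (Scheme.Hom.comp_apply _ _ _).symm.trans (hmax _ hz)
    have hc' : G.hom c = ξ := hmax _ (hb ▸ hcb.map G.hom.continuous)
    exact hc ((Lib.ActSep.mem_neutralSet_iff_of_specializes G hcb (hc'.trans hb.symm)).2 hbN)
  let U : S.Opens := ⟨(A : Set S) ∩ (closure (g '' B))ᶜ, A.2.inter isClosed_closure.isOpen_compl⟩
  refine ⟨U, ⟨ξ, hξA, hξT⟩, ?_⟩
  let GU := Red.bc U.ι G
  let jU : GU.left ⟶ G.left := pullback.fst G.hom U.ι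
  have hopen : IsOpen (SGA3x.neutralSet GU) := by
    rw [Lib.ActSep.neutralSet_bc]
    have : (jU ⁻¹' N : Set GU.left) = jU ⁻¹' ((Q : Set G.left) ∩ (closure Nᶜ)ᶜ) := by
      ext z
      have hzU : G.hom (jU z) ∈ U := by
        rw [← Scheme.Hom.comp_apply, pullback.condition, Scheme.Hom.comp_apply]
        exact (GU.hom z).2
      constructor
      · intro hz
        refine ⟨hQN _ hzU.1 hz, fun hcl => hzU.2 (subset_closure ⟨⟨jU z, hQN _ hzU.1 hz⟩, ⟨hz, hcl⟩, ?_⟩)⟩
        exact (Scheme.Hom.comp_apply _ _ _)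
      · rintro ⟨-, hz⟩
        exact by_contra fun hzN => hz (subset_closure hzN)
    rw [this]
    exact (Q.2.inter isClosed_closure.isOpen_compl).preimage jU.continuous
  let NU : GU.left.Opens := ⟨_, hopen⟩
  let H : Over (U : Scheme.{u}) := Over.mk (NU.ι ≫ GU.hom)
  let i : H ⟶ GU := Over.homMk NU.ι rfl
  haveI : Mono i := (Over.forget _).mono_of_mono_map (inferInstanceAs (Mono NU.ι))
  have hlift : ∀ {T : Over (U : Scheme.{u})} (f : T ⟶ GU), (∀ x, f.left x ∈ SGA3x.neutralSet GU) →
      ∃ z : T ⟶ H, z ≫ i = f := by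
    intro T f hf
    have hr : Set.range f.left ⊆ Set.range NU.ι := by
      rintro _ ⟨x, rfl⟩; exact ⟨⟨f.left x, hf x⟩, rfl⟩
    have hfac : IsOpenImmersion.lift NU.ι f.left hr ≫ NU.ι = f.left := IsOpenImmersion.lift_fac _ _ _
    exact ⟨Over.homMk (IsOpenImmersion.lift NU.ι f.left hr)
      (by show _ ≫ NU.ι ≫ GU.hom = T.hom; rw [← Category.assoc, hfac, Over.w]), Over.OverMorphism.ext hfac⟩
  have hmem : ∀ {T : Over (U : Scheme.{u})} (a : T ⟶ H) (x : T.left), (a ≫ i).left x ∈ SGA3x.neutralSet GU :=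
    fun a x => (a.left x).2
  obtain ⟨hgrp, hhom⟩ := Groth.Agent.Lib.FreeRes.exists_grpObj_of_mono i
    (fun T => hlift 1 fun x => by rw [Lib.ActSep.left_one_apply]; exact Lib.ActSep.η_mem_neutralSet GU _)
    (fun {T} a b => hlift _ fun x => by
      have : (a ≫ i) * (b ≫ i) = lift (a ≫ i) (b ≫ i)⁻¹ ≫ Lib.ActSep.divMap GU := by
        simp [Lib.ActSep.divMap, MonObj.comp_mul, GrpObj.comp_inv]
        exact congrArg _ (_root_.inv_inv _).symm
      rw [this, Over.comp_left, Scheme.Hom.comp_apply]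
      refine Lib.ActSep.divMap_mem GU ?_ ?_
      · rw [← Scheme.Hom.comp_apply, ← Over.comp_left, lift_fst]; exact hmem a x
      · rw [← Scheme.Hom.comp_apply, ← Over.comp_left, lift_snd, Hom.inv_def, Over.comp_left, Scheme.Hom.comp_apply]
        exact Lib.ActSep.inv_mem_neutralSet GU (hmem b x))
    (fun {T} a => hlift _ fun x => by
      rw [Hom.inv_def, Over.comp_left, Scheme.Hom.comp_apply]
      exact Lib.ActSep.inv_mem_neutralSet GU (hmem a x))
  have hrange : Set.range (i.left ≫ jU) = SGA3x.neutralSet G ∩ G.hom ⁻¹' (U : Set S) := by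
    ext x
    constructor
    · rintro ⟨z, rfl⟩
      refine ⟨?_, ?_⟩
      · have := z.2
        change z.1 ∈ SGA3x.neutralSet GU at this
        rwa [Lib.ActSep.neutralSet_bc] at this
      · show G.hom _ ∈ U
        rw [Scheme.Hom.comp_apply, ← Scheme.Hom.comp_apply, pullback.condition, Scheme.Hom.comp_apply]
        exact (GU.hom _).2
    · rintro ⟨hxN, hxU⟩
      obtain ⟨z, hz, -⟩ := Scheme.Pullback.exists_preimage_pullback (f := G.hom) (g := U.ι) x ⟨G.hom x, hxU⟩ rfl
      exact ⟨⟨z, by show z ∈ SGA3x.neutralSet GU; rw [Lib.ActSep.neutralSet_bc]; show jU z ∈ N; rwa [show jU z = x from hz]⟩, hz⟩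
  have : LocallyOfFiniteType GU.hom := MorphismProperty.pullback_snd (P := @LocallyOfFiniteType) _ _ ‹_›
  refine ⟨H, hgrp, i, hhom, inferInstanceAs (IsOpenImmersion NU.ι), ?_,
    inferInstanceAs (LocallyOfFiniteType (NU.ι ≫ GU.hom)), fun u => ?_, hrange⟩
  · have : AlgebraicGeometry.IsNoetherian (Q : Scheme.{u}) := {}
    have : TopologicalSpace.NoetherianSpace (Q : Scheme.{u}) := inferInstance
    have hsub : Set.range (i.left ≫ jU) ⊆ (Q : Set G.left) := by
      rw [hrange]
      exact fun x hx => hQN x hx.2.1 hx.1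
    let k : H.left ⟶ Q := IsOpenImmersion.lift Q.ι (i.left ≫ jU) (by rwa [Scheme.Opens.range_ι])
    have : IsOpenImmersion (k ≫ Q.ι) := by
      rw [IsOpenImmersion.lift_fac]
      exact inferInstanceAs (IsOpenImmersion (NU.ι ≫ jU))
    have : IsOpenImmersion k := IsOpenImmersion.of_comp k Q.ι
    have : TopologicalSpace.NoetherianSpace H.left := k.isOpenEmbedding.isInducing.noetherianSpace
    exact quasiCompact_of_compactSpace H.hom
  · have hη := Lib.ActSep.η_mem_neutralSet GU u
    refine ⟨⟨⟨η[GU].left u, hη⟩, Lib.ActSep.hom_η GU u⟩, ?_⟩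
    refine Topology.IsInducing.subtypeVal.isPreconnected_image.1 ?_
    refine (congrArg _root_.IsPreconnected ?_).mpr (Lib.ActSep.isPreconnected_inter_neutralSet GU ⊤ u)
    ext x
    constructor
    · rintro ⟨z, hz, rfl⟩
      exact ⟨trivial, z.2, hz⟩
    · rintro ⟨-, hxN, hx⟩
      exact ⟨⟨x, hxN⟩, hx, rfl⟩

end Groth.Agent.S5679
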