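import Groth.Statements.S5680
import Groth.Agent.Lib.Exchange.PicExact.Seq
import Groth.Agent.Lib.TensorMod.Invertible
import Groth.Agent.Lib.TensorMod.Pullback
import Groth.Agent.H95.Torsor.Iso

set_option autoImplicit false
universe u
open CategoryTheory CategoryTheory.Limits AlgebraicGeometry
open FGA
open Opposite

namespace Groth.Agent.S5680

open CategoryTheory.Abelian in
/-- multiplication by a unit integer is bijective on cohomology -/
theorem nsmul_bijective {X : Scheme.{u}} (M : X.Modules) (n : ℕ)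
    (hn : ∀ U : X.Opens, IsUnit ((n : ℕ) : Γ(X, U))) (q : ℕ) :
    Function.Bijective (fun x : Coh.HH X M q => n • x) := by
  let μ : Coh.toAb M ⟶ Coh.toAb M := n • 𝟙 _
  haveI : IsIso μ := by
    have hμ : ∀ U : X.Opens, μ.hom.app (op U) = n • 𝟙 _ := fun U => rfl
    haveI : ∀ U, IsIso (μ.hom.app U) := by
      rintro ⟨U⟩
      rw [hμ U]
      obtain ⟨w, hw⟩ := hn U
      refine (ConcreteCategory.isIso_iff_bijective _).2 ?_
      have : (fun s : Γ(M, U) => n • s) = fun s => (w : Γ(X, U)) • s := funext fun s => by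
        rw [hw, Nat.cast_smul_eq_nsmul]
      show Function.Bijective (fun s : Γ(M, U) => n • s)
      rw [this]
      exact MulAction.bijective w
    haveI : IsIso μ.hom := NatIso.isIso_of_isIso_app _
    exact (isIso_iff_of_reflects_iso μ (sheafToPresheaf _ _)).1 ‹_›
  have h : (fun x : Coh.HH X M q => n • x) = fun x => x.comp (Ext.mk₀ μ) (add_zero q) := funext fun x => by
    show n • x = x.comp (Ext.mk₀ (n • 𝟙 (Coh.toAb M))) _
    rw [show Ext.mk₀ (n • 𝟙 (Coh.toAb M)) = n • Ext.mk₀ (𝟙 (Coh.toAb M)) from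
      map_nsmul Ext.addEquiv₀.symm n _,
      show x.comp (n • Ext.mk₀ (𝟙 (Coh.toAb M))) (add_zero q) = n • x.comp (Ext.mk₀ (𝟙 (Coh.toAb M))) (add_zero q)
        from map_nsmul (Ext.bilinearComp _ _ _ q 0 q (add_zero q) x) n _,
      Ext.comp_mk₀_id]
  rw [h]
  refine Function.bijective_iff_has_inverse.2 ⟨fun x => x.comp (Ext.mk₀ (inv μ)) (add_zero q), fun x => ?_, fun x => ?_⟩
  · simp
  · simp

/-- Let A be an artinian local ring with maximal ideal m and ν ≥ 1 an integer with m^(ν+1) = 0; let X be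
a scheme proper and flat over Spec A, n a natural number whose image in the residue field of A is
nonzero, L an invertible module on X and L' an invertible module on the closed subscheme X ×_A
Spec(A/m^ν) whose n-th tensor power is isomorphic to the pullback of L. Then there is an invertible
module M on X whose n-th tensor power is isomorphic to L (existence of an isomorphism). -/
theorem result (A : Type u) [CommRing A] [IsArtinianRing A] [IsLocalRing A]
    (ν : ℕ) (hν : 1 ≤ ν) (hm : IsLocalRing.maximalIdeal A ^ (ν + 1) = ⊥)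
    (X : Scheme.{u}) (f : X ⟶ Spec (CommRingCat.of A)) [IsProper f] [Flat f]
    (n : ℕ) (hn : (n : IsLocalRing.ResidueField A) ≠ 0)
    (L : X.Modules) (hL : PicF.IsInvertible L)
    (L' : (pullback f (Spec.map (CommRingCat.ofHom (Ideal.Quotient.mk (IsLocalRing.maximalIdeal A ^ ν))))).Modules)
    (hL' : PicF.IsInvertible L')
    (hroot : Nonempty (CohB1.tensorPow L' n ≅
      (Scheme.Modules.pullback (pullback.fst f (Spec.map (CommRingCat.ofHom (Ideal.Quotient.mk (IsLocalRing.maximalIdeal A ^ ν)))))).obj L)) :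
    ∃ M : X.Modules, PicF.IsInvertible M ∧ Nonempty (CohB1.tensorPow M n ≅ L) := by
  classical
  open Groth.Agent.Lib.Exchange.PicExact in
  let φ := CommRingCat.ofHom (Ideal.Quotient.mk (IsLocalRing.maximalIdeal A ^ ν))
  let p := pullback.fst f (Spec.map φ)
  have hcuts := Groth.Agent.H95.Units.cuts_pullback_fst (f := f) φ Ideal.Quotient.mk_surjective
  rw [show RingHom.ker φ.hom = IsLocalRing.maximalIdeal A ^ ν from Ideal.mk_ker] at hcuts
  haveI : IsClosedImmersion p := hcuts.closed
  let J := p.ker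
  have hJ : J * J = ⊥ := by
    refine Scheme.IdealSheafData.ext (funext fun U => ?_)
    show J.ideal U * J.ideal U = ⊥
    rw [Scheme.Hom.ker_apply, hcuts.ker U, ← Ideal.map_mul, ← pow_add,
      le_bot_iff.1 ((Ideal.pow_le_pow_right (by omega : ν + 1 ≤ ν + ν)).trans hm.le), Ideal.map_bot]
  have hA : IsUnit (n : A) := by
    rw [← IsLocalRing.notMem_maximalIdeal, ← IsLocalRing.residue_eq_zero_iff, map_natCast]
    exact hn
  have hunit : ∀ U : X.Opens, IsUnit ((n : ℕ) : Γ(X, U)) := fun U => by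
    have := hA.map (Groth.Agent.H95.Units.α f U)
    rwa [map_natCast] at this
  letI := Groth.Agent.Lib.TensorMod.Invertible.law X
  letI := Groth.Agent.Lib.TensorMod.Invertible.law J.subscheme
  letI := Groth.Agent.Lib.TensorMod.Invertible.law (pullback f (Spec.map φ))
  have hi := Groth.Agent.Lib.TensorMod.Pullback.pullMul J.subschemeι
  have he := Groth.Agent.Lib.TensorMod.Pullback.pullMul (inv p.toImage)
  have hp := Groth.Agent.Lib.TensorMod.Pullback.pullMul p
  have hcomp : ∀ c : PicLoc.PicSet X,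
      PicGrp.pullHom (inv p.toImage) he (PicGrp.pullHom p hp c) = PicGrp.pullHom J.subschemeι hi c := by
    intro c
    apply Subtype.ext
    show PicF.pullCl (inv p.toImage) (PicF.pullCl p c.1) = PicF.pullCl J.subschemeι c.1
    rw [← PicLoc.pullCl_comp, show inv p.toImage ≫ p = J.subschemeι from (IsIso.inv_comp_eq _).2 p.toImage_imageι.symm]
  let l := PicGrp.cls L hL
  let b := PicGrp.pullHom (inv p.toImage) he (PicGrp.cls L' hL')
  have hb : b ^ n = PicGrp.pullHom J.subschemeι hi l := by
    rw [← hcomp l, ← map_pow]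
    refine congrArg _ (Subtype.ext ?_)
    rw [PicGrp.cls_pow_val]
    exact (PicGrp.cl_eq_cl_iff _ _).2 hroot
  have hinj := fun q => (nsmul_bijective (ClSub.idealMod J) n hunit q)
  have hδ : delta1 J hJ b = 1 := by
    have h1 : delta1 J hJ b ^ n = 1 := by
      rw [← map_pow, hb, ← MonoidHom.mem_ker, delta1_ker J hJ hi]
      exact ⟨l, rfl⟩
    have h2 : n • Multiplicative.toAdd (delta1 J hJ b) = n • 0 := by
      rw [nsmul_zero, ← toAdd_pow, h1, toAdd_one]
    exact Multiplicative.toAdd.injective ((hinj 2).1 h2)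
  rw [← MonoidHom.mem_ker, delta1_ker J hJ hi] at hδ
  obtain ⟨m₀, hm₀⟩ := hδ
  have hker : m₀ ^ n / l ∈ (PicGrp.pullHom J.subschemeι hi).ker := by
    rw [MonoidHom.mem_ker, map_div, map_pow, hm₀, hb, div_self']
  rw [pullHom_ker J hJ hi] at hker
  obtain ⟨h, hh⟩ := hker
  obtain ⟨h', hh'⟩ := (hinj 1).2 h.toAdd
  obtain ⟨M, hM, hMe⟩ := PicGrp.exists_eq_cls (m₀ / alphaHom J hJ (Multiplicative.ofAdd h'))
  refine ⟨M, hM, (PicGrp.cl_eq_cl_iff _ _).1 ?_⟩
  rw [← PicGrp.cls_pow_val hM, ← hMe, div_pow, ← map_pow, ← ofAdd_nsmul, show n • h' = h.toAdd from hh',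
    ofAdd_toAdd, hh, div_div_cancel]
  rfl

end Groth.Agent.S5680
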