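import Groth.Statements.S5684
import Groth.Agent.H52.PushInv
import Groth.Agent.S5683

set_option autoImplicit false
universe u
open Groth.Agent.Lib Groth.Agent.Lib.TensorMod Groth.Agent.Lib.TensorMod.Gen Groth.Agent.Lib.TensorMod.Pullback Groth.Agent.Lib.Ample.GenLocus Groth.Agent.H52
open CategoryTheory CategoryTheory.Limits AlgebraicGeometry
open FGA

namespace Groth.Agent.S5684

/-- Let f : X ⟶ S be quasi-compact and separated with the induced maps from sections of the structure
sheaf of S to sections of the structure sheaf of X bijective over every open of S, and let g : S' ⟶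
S be flat, surjective and quasi-compact. If L is an invertible module on X whose pullback to X ×_S
S' is isomorphic to the pullback along the second projection of some invertible module on S', then L
is isomorphic to the pullback along f of some invertible module on S. -/
theorem result {X S S' : Scheme.{u}} (f : X ⟶ S)
    [QuasiCompact f] [IsSeparated f] (hf : ∀ U : S.Opens, Function.Bijective (f.app U))
    (g : S' ⟶ S) [Flat g] [Surjective g] [QuasiCompact g]
    (L : X.Modules) (hL : PicF.IsInvertible L)
    (hdesc : ∃ N' : S'.Modules, PicF.IsInvertible N' ∧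
      Nonempty ((Scheme.Modules.pullback (pullback.fst f g)).obj L ≅ (Scheme.Modules.pullback (pullback.snd f g)).obj N')) :
    ∃ N : S.Modules, PicF.IsInvertible N ∧ Nonempty (L ≅ (Scheme.Modules.pullback f).obj N) := by
  have h := IsPullback.of_hasPullback f g
  obtain ⟨N', hN', ⟨φ⟩⟩ := hdesc
  have hg := PushInv.exists_gens h hL (fun V _ => hf V) fun y' => by
    obtain ⟨O, e, hy, he⟩ := isInvertible_iff.1 hN' y'
    exact ⟨O, _, hy, PushInv.isGen_of_iso φ.symm (isGen_unitSec _ he)⟩
  have := PushInv.isIso_counit f hf hg
  exact ⟨_, PushInv.isInvertible_push f hf hg,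
    ⟨(asIso ((Scheme.Modules.pullbackPushforwardAdjunction f).counit.app L)).symm⟩⟩

end Groth.Agent.S5684
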