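import Groth.Statements.S5691
import Mathlib.CategoryTheory.Functor.TypeValuedFlat
import Mathlib.CategoryTheory.Limits.Types.Equalizers
import Mathlib.CategoryTheory.Limits.Types.Filtered


set_option autoImplicit false
universe u
open CategoryTheory CategoryTheory.Limits
open FGA

namespace Groth.Agent.S5691

variable {C : Type u} [SmallCategory C] {F : C ⥤ Type u}

/-- An element which lies in no proper subobject. -/
def IsMin (p : F.Elements) : Prop :=
  ∀ {Y : C} (m : Y ⟶ p.1) [Mono m], p.2 ∈ Set.range (F.map m) → IsIso m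

theorem eq_of_map_eq [HasFiniteLimits C] [PreservesFiniteLimits F] {p : F.Elements} (hp : IsMin p)
    {Z : C} (f g : p.1 ⟶ Z) (h : F.map f p.2 = F.map g p.2) : f = g := by
  obtain ⟨x, hx, -⟩ := Types.unique_of_type_equalizer _ _
    (isLimitForkMapOfIsLimit F (equalizer.condition f g) (equalizerIsEqualizer f g)) p.2 h
  have := hp (equalizer.ι f g) ⟨x, hx⟩
  exact (cancel_epi (equalizer.ι f g)).mp (equalizer.condition f g)

theorem exists_min (hart : ∀ X : C, IsArtinianObject X) (p : F.Elements) :
    ∃ q : F.Elements, IsMin q ∧ Nonempty (q ⟶ p) := by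
  have := hart p.1
  obtain ⟨S, hS, hmin⟩ := (wellFounded_lt (α := Subobject p.1)).has_min
    {S | p.2 ∈ Set.range (F.map S.arrow)} ⟨Subobject.mk (𝟙 p.1),
      F.map (Subobject.underlyingIso (𝟙 p.1)).inv p.2, by
        rw [← Functor.map_comp_apply, Subobject.underlyingIso_arrow, Functor.map_id_apply]⟩
  obtain ⟨y, hy⟩ := hS
  refine ⟨⟨(S : C), y⟩, fun {Y} m _ hm => ?_, ⟨⟨S.arrow, hy⟩⟩⟩
  obtain ⟨w, hw⟩ := hm
  change F.map m w = y at hw
  change Y ⟶ (S : C) at m
  have hle : Subobject.mk (m ≫ S.arrow) ≤ S := Subobject.mk_le_of_comm m rfl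
  have hge : S ≤ Subobject.mk (m ≫ S.arrow) :=
    le_of_eq (hle.eq_or_lt.resolve_right (hmin _
      ⟨F.map (Subobject.underlyingIso (m ≫ S.arrow)).inv w, by
        rw [← Functor.map_comp_apply, Subobject.underlyingIso_arrow, Functor.map_comp_apply, hw, hy]⟩)).symm
  have hs : Subobject.ofLEMk S (m ≫ S.arrow) hge ≫ m = 𝟙 _ := by
    rw [← cancel_mono S.arrow, Category.assoc, Subobject.ofLEMk_comp, Category.id_comp]
  have : IsSplitEpi m := ⟨⟨⟨_, hs⟩⟩⟩
  exact isIso_of_mono_of_isSplitEpi m


/-- Let C be a small category with finite limits all of whose objects are artinian (the subobjects of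
each object satisfy the descending chain condition), and let F be a set-valued functor on C
preserving finite limits. Then F is strictly pro-representable: there are a small cofiltered
category J and a diagram D : J ⥤ C all of whose transition morphisms are epimorphisms such that F is
isomorphic to the colimit of the corepresentable functors Hom(D j, -). -/
theorem result {C : Type u} [SmallCategory C]
    [HasFiniteLimits C] (hart : ∀ X : C, IsArtinianObject X) (F : C ⥤ Type u) [PreservesFiniteLimits F] :
    ∃ (J : Type u) (_ : SmallCategory J) (_ : IsCofiltered J) (D : J ⥤ C),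
      (∀ ⦃j j' : J⦄ (a : j ⟶ j'), Epi (D.map a)) ∧ Nonempty (F ≅ colimit (D.op ⋙ coyoneda)) := by
  have := F.isCofiltered_elements
  let J := ObjectProperty.FullSubcategory (IsMin (F := F))
  have : ∀ a b : J, Subsingleton (a ⟶ b) := fun a b => ⟨fun f g =>
    ObjectProperty.hom_ext _ (CategoryOfElements.ext _ _ _
      (eq_of_map_eq a.2 _ _ (f.hom.2.trans g.hom.2.symm)))⟩
  have : IsCofiltered J :=
    { nonempty := ⟨⟨(exists_min hart IsCofiltered.nonempty.some).choose,
        (exists_min hart IsCofiltered.nonempty.some).choose_spec.1⟩⟩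
      cone_objs := fun a b => by
        obtain ⟨w, hw, ⟨f⟩⟩ := exists_min hart (IsCofiltered.min a.obj b.obj)
        exact ⟨⟨w, hw⟩, ObjectProperty.homMk (f ≫ IsCofiltered.minToLeft _ _),
          ObjectProperty.homMk (f ≫ IsCofiltered.minToRight _ _), trivial⟩
      cone_maps := fun a b f g => ⟨a, 𝟙 a, by rw [Subsingleton.elim f g]⟩ }
  let D : J ⥤ C := ObjectProperty.ι _ ⋙ CategoryOfElements.π F
  refine ⟨J, inferInstance, inferInstance, D, fun j j' a => ?_, ?_⟩
  · refine ⟨fun g₁ g₂ h => eq_of_map_eq j'.2 g₁ g₂ ?_⟩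
    have h2 : F.map (D.map a) j.obj.2 = j'.obj.2 := a.hom.2
    rw [← h2]
    exact ((Functor.map_comp_apply F (D.map a) g₁ j.obj.2).symm.trans
      (congrArg (fun t => F.map t j.obj.2) h)).trans (Functor.map_comp_apply F (D.map a) g₂ j.obj.2)
  · let c : Cocone (D.op ⋙ coyoneda) :=
      { pt := F
        ι :=
          { app := fun j => coyonedaEquiv.symm j.unop.obj.2
            naturality := fun j j' a => by
              ext Z f
              show F.map (D.map a.unop ≫ f) j'.unop.obj.2 = F.map f j.unop.obj.2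
              exact (Functor.map_comp_apply F (D.map a.unop) f j'.unop.obj.2).trans
                (congrArg (F.map f) a.unop.hom.2) } }
    have hc : IsColimit c := evaluationJointlyReflectsColimits _ fun Z =>
      Types.FilteredColimit.isColimitOf' _ _ (fun z => by
        obtain ⟨q, hq, ⟨f⟩⟩ := exists_min hart ⟨Z, z⟩
        exact ⟨.op ⟨q, hq⟩, f.1, f.2.symm⟩)
        (fun j x y h => ⟨j, 𝟙 j, congrArg _ (eq_of_map_eq j.unop.2 x y h)⟩)
    exact ⟨(colimit.isoColimitCocone ⟨c, hc⟩).symm⟩

end Groth.Agent.S5691
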