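import Groth.Statements.S5693
import Groth.Agent.Lib.ActSep.NeutralCons
import Groth.Agent.H47.ConsPreimage
import Groth.Agent.H46.FibreDimNhd
import Groth.Agent.Lib.ProCons45.Basic

set_option autoImplicit false
universe u
open CategoryTheory CategoryTheory.Limits MonoidalCategory CartesianMonoidalCategory MonObj GrpObj AlgebraicGeometry
open FGA

namespace Groth.Agent.S5693
open CategoryTheory AlgebraicGeometry Topology

/-- Let S be a locally Noetherian scheme, G a commutative group scheme locally of finite type over S and
n ≥ 1 an integer. The set of points x of G for which n is the least positive integer such that the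
n-th power morphism sends x into the union of the connected components of the identity of the fibres
is locally constructible in G (the order function on the torsion-component set is locally
constructible). -/
theorem result (S : Scheme.{u}) [IsLocallyNoetherian S] (G : Over S) [GrpObj G]
    [IsCommMonObj G] [LocallyOfFiniteType G.hom] (n : ℕ) (hn : 0 < n) :
    Topology.IsLocallyConstructible {x : ↥G.left | ((𝟙 G : G ⟶ G) ^ n).left.base x ∈ SGA3x.neutralSet G ∧
      ∀ d : ℕ, 0 < d → d < n → ((𝟙 G : G ⟶ G) ^ d).left.base x ∉ SGA3x.neutralSet G} := by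
  haveI : LocallyOfFinitePresentation G.hom :=
    Groth.Agent.H46.FibreDimNhd.locallyOfFinitePresentation G.hom
  haveI : IsLocallyNoetherian G.left := LocallyOfFiniteType.isLocallyNoetherian G.hom
  haveI : QuasiSeparated G.hom := inferInstance
  have h : ∀ d : ℕ, IsLocallyConstructible {x : ↥G.left | ((𝟙 G : G ⟶ G) ^ d).left.base x ∈ SGA3x.neutralSet G} :=
    fun d => Groth.Agent.H47.ConsPreimage.isLocallyConstructible_preimage ((𝟙 G : G ⟶ G) ^ d).left
      (Groth.Agent.Lib.ActSep.isLocallyConstructible_neutralSet G)
  convert (h n).inter (IsLocallyConstructible.iInter fun d : {d : Fin n // 0 < (d : ℕ)} =>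
    Groth.Agent.Lib.ProCons45.Basic.isLocallyConstructible_compl (h (d.1 : ℕ))) using 1
  ext x
  simp only [Set.mem_inter_iff, Set.mem_iInter, Set.mem_compl_iff, Set.mem_setOf_eq]
  exact ⟨fun ⟨h1, h2⟩ => ⟨h1, fun d => h2 _ d.2 d.1.2⟩,
    fun ⟨h1, h2⟩ => ⟨h1, fun d hd hdn => h2 ⟨⟨d, hdn⟩, hd⟩⟩⟩

end Groth.Agent.S5693
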