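import Groth.Statements.S5694
import Groth.Agent.Lib.TorsionSet.Basic

set_option autoImplicit false
universe u
open CategoryTheory CategoryTheory.Limits MonoidalCategory CartesianMonoidalCategory MonObj GrpObj AlgebraicGeometry
open FGA

namespace Groth.Agent.S5694

/-- Let S be a locally Noetherian scheme and G a commutative group scheme locally of finite type over S
such that the union of the connected components of the identity in the fibres of G is closed. Let
p(s) denote the characteristic exponent of the residue field of S at s. Then the set of points x of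
G such that some p(s)^h-th power morphism (h ≥ 0, s the image of x in S) sends x into that union, is
closed in G. -/
theorem result (S : Scheme.{u}) [IsLocallyNoetherian S] (G : Over S) [GrpObj G]
    [IsCommMonObj G] [LocallyOfFiniteType G.hom] (h0 : IsClosed (SGA3x.neutralSet G))
    (p : ↥S → ℕ) (hp : ∀ s : ↥S, ringExpChar (S.residueField s) = p s) :
    IsClosed {x : ↥G.left | ∃ h m : ℕ, m = p (G.hom.base x) ^ h ∧
      ((𝟙 G : G ⟶ G) ^ m).left.base x ∈ SGA3x.neutralSet G} := by
  have hle : ∀ x : G.left, p (G.hom x) = ringExpChar (S.residueField (G.hom x)) := fun x => (hp _).symm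
  refine Lib.TorsionSet.isClosed_of_local G _
    (fun n => Lib.TorsionSet.powSet G n ∩ G.hom ⁻¹' {s | ∃ h, n = ringExpChar (S.residueField s) ^ h})
    (fun n => (h0.preimage ((𝟙 G : G ⟶ G) ^ n).left.continuous).inter
      ((Lib.TorsionSet.isClosed_pow_expChar n).preimage G.hom.continuous)) ?_ ?_
  · rintro n - x ⟨hx, h, hh⟩
    exact ⟨h, n, by rw [hh, hle], hx⟩
  · rintro x ⟨h, n, hn, hx⟩
    rw [hle] at hn
    have hpr := Lib.TorsionSet.ringExpChar_prime_or_one (G.hom x)
    have hn0 : 0 < n := hn ▸ pow_pos (hpr.elim (fun h => h.pos) fun h => h ▸ Nat.one_pos) h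
    refine ⟨⟨n, hn0, hx⟩, fun m hm hxm => ⟨n.gcd m, Nat.gcd_pos_of_pos_left m hn0,
      Nat.le_of_dvd hm (Nat.gcd_dvd_right n m), Lib.TorsionSet.powSet_gcd G hx hxm, ?_⟩⟩
    have hdvd : n.gcd m ∣ ringExpChar (S.residueField (G.hom x)) ^ h := hn ▸ Nat.gcd_dvd_left n m
    rcases hpr with hpr | hpr
    · obtain ⟨i, -, hi⟩ := (Nat.dvd_prime_pow hpr).1 hdvd
      exact ⟨i, hi⟩
    · rw [hpr, one_pow] at hdvd
      exact ⟨0, by rw [pow_zero, Nat.dvd_one.1 hdvd]⟩

end Groth.Agent.S5694
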