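import Groth.Statements.S5695
import Groth.Agent.Lib.TorsionSet.Basic

set_option autoImplicit false
universe u
open CategoryTheory CategoryTheory.Limits MonoidalCategory CartesianMonoidalCategory MonObj GrpObj AlgebraicGeometry
open FGA

namespace Groth.Agent.S5695

/-- Let S be a locally Noetherian scheme all of whose residue fields have the same characteristic p (so
the characteristic exponent is max(p, 1)), and G a commutative group scheme locally of finite type
over S such that the union of the connected components of the identity in the fibres of G is closed.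
Then the set of points x of G such that for some integer n ≥ 1 prime to max(p, 1) the n-th power
morphism sends x into that union, is closed in G. -/
theorem result (S : Scheme.{u}) [IsLocallyNoetherian S]
    (p : ℕ) (hS : ∀ s : ↥S, ringChar (S.residueField s) = p)
    (G : Over S) [GrpObj G] [IsCommMonObj G] [LocallyOfFiniteType G.hom] (h0 : IsClosed (SGA3x.neutralSet G)) :
    IsClosed {x : ↥G.left | ∃ n : ℕ, 0 < n ∧ Nat.Coprime n (max p 1) ∧
      ((𝟙 G : G ⟶ G) ^ n).left.base x ∈ SGA3x.neutralSet G} := by
  refine Lib.TorsionSet.isClosed_of_local G _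
    (fun n => if Nat.Coprime n (max p 1) then Lib.TorsionSet.powSet G n else ∅) (fun n => ?_) ?_ ?_
  · split_ifs
    · exact h0.preimage ((𝟙 G : G ⟶ G) ^ n).left.continuous
    · exact isClosed_empty
  · intro n hn x hx
    split_ifs at hx with hc
    · exact ⟨n, hn, hc, hx⟩
    · exact absurd hx (Set.notMem_empty x)
  · rintro x ⟨n, hn, hcop, hx⟩
    refine ⟨⟨n, hn, hx⟩, fun m hm hxm => ⟨n.gcd m, Nat.gcd_pos_of_pos_left m hn, Nat.le_of_dvd hm (Nat.gcd_dvd_right n m), ?_⟩⟩
    rw [if_pos (hcop.coprime_dvd_left (Nat.gcd_dvd_left n m))]
    exact Lib.TorsionSet.powSet_gcd G hx hxm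

end Groth.Agent.S5695
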