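import Groth.Statements.S5696
import Groth.Agent.Lib.TorsionSet.Basic

set_option autoImplicit false
universe u
open CategoryTheory CategoryTheory.Limits MonoidalCategory CartesianMonoidalCategory MonObj GrpObj AlgebraicGeometry
open FGA

namespace Groth.Agent.S5696

/-- Let S be a locally Noetherian scheme all of whose residue fields have the same characteristic, with
characteristic exponent p, and G a commutative group scheme locally of finite type over S such that
for every integer n ≥ 1 prime to p the n-th power morphism of G is an open map. Then the set of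
points x of G some p^h-th power of which (h ≥ 0) lies in the union of the connected components of
the identity of the fibres is open in G. -/
theorem result (S : Scheme.{u}) [IsLocallyNoetherian S]
    (p : ℕ) (hS : ∀ s : ↥S, ringExpChar (S.residueField s) = p)
    (G : Over S) [GrpObj G] [IsCommMonObj G] [LocallyOfFiniteType G.hom]
    (hopen : ∀ n : ℕ, 0 < n → Nat.Coprime n p → IsOpenMap ((𝟙 G : G ⟶ G) ^ n).left.base) :
    IsOpen {x : ↥G.left | ∃ h : ℕ, ((𝟙 G : G ⟶ G) ^ (p ^ h)).left.base x ∈ SGA3x.neutralSet G} := by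
  have hE : ProCons.IsIndConstructible {x : ↥G.left | ∃ h : ℕ, x ∈ Lib.TorsionSet.powSet G (p ^ h)} := by
    rw [Set.ofPred_exists]
    exact Lib.TorsionSet.isIndConstructible_iUnion G _
  rw [← interior_eq_iff_isOpen]
  refine Set.Subset.antisymm interior_subset fun x ⟨h, hx⟩ => ?_
  refine (Lib.ProCons45.Basic.mem_interior_iff hE x).2 fun x' hspec => ?_
  have hp : p.Prime ∨ p = 1 := hS (G.hom x) ▸ Lib.TorsionSet.ringExpChar_prime_or_one (G.hom x)
  have hp0 : 0 < p := hp.elim (fun h => h.pos) fun h => h ▸ Nat.one_pos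
  obtain ⟨d, hd, hx'⟩ := Lib.TorsionSet.exists_pow_mem_of_specializes G hspec (pow_pos hp0 h) hx
  obtain ⟨a, m, hm, rfl⟩ : ∃ a m, Nat.Coprime m p ∧ d = p ^ a * m := by
    rcases hp with hp | rfl
    · obtain ⟨a, m, hm, rfl⟩ := Nat.exists_eq_pow_mul_and_not_dvd hd.ne' p hp.ne_one
      exact ⟨a, m, (hp.coprime_iff_not_dvd.2 hm).symm, rfl⟩
    · exact ⟨0, d, Nat.coprime_one_right d, by rw [pow_zero, Nat.one_mul]⟩
  have hm0 : 0 < m := Nat.pos_of_mul_pos_left hd
  refine ⟨a + h, ?_⟩
  rw [pow_add]
  refine Lib.TorsionSet.mem_neutralSet_of_isOpenMap G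
    (hspec.map ((𝟙 G : G ⟶ G) ^ (p ^ a * p ^ h)).left.continuous)
    (Lib.TorsionSet.powSet_dvd G (Dvd.intro_left _ rfl) hx) hm0 ?_
    (fun k => hopen _ (pow_pos hm0 k) (hm.pow_left k))
  rw [Lib.TorsionSet.mem_powSet_pow_iff]
  exact Lib.TorsionSet.powSet_dvd G ⟨p ^ h, by rw [Nat.mul_right_comm]⟩ hx'

end Groth.Agent.S5696
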