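import Groth.Statements.S5697
import Groth.Agent.Lib.ActSep.UnivOpen
import Groth.Agent.Lib.ActSep.NeutralBC

set_option autoImplicit false
universe u
open CategoryTheory CategoryTheory.Limits MonoidalCategory CartesianMonoidalCategory MonObj GrpObj AlgebraicGeometry
open FGA

namespace Groth.Agent.S5697

/-- Let S be a locally Noetherian scheme and G a commutative group scheme locally of finite type over S.
Assume that the union of the connected components of the identity of the fibres of G is closed in G,
and that G ⟶ S is universally open at the points of that union: for every base change S' ⟶ S, the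
structure map of G' = G ×_S S' is open at every point of the identity-component set of G' (the image
of every open neighbourhood is a neighbourhood). Then the prime-to-p torsion component set (points x
some n-th power of which, n ≥ 1 prime to the residue characteristic exponent, lies in the
identity-component set) is universally open over S at the points of the identity-component set, in
the same sense: for every base change S' ⟶ S, every point x' of the identity-component set of G' and
every open neighbourhood U of x', the image in S' of the intersection of U with the prime-to-p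
torsion component set of G' is a neighbourhood of the image of x'. (The published statement
concludes this at every point of the prime-to-p torsion component set; it fails for the closed
subgroup scheme of the constant group ℤ/2 over a discrete valuation ring of residue characteristic
different from 2 that keeps the non-identity element only over the closed point: there the
identity-component set is a copy of the base, all hypotheses hold, and the isolated non-identity
point over the closed point is 2-torsion with image the closed point alone. The published proof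
treats neighbourhoods of points of the identity-component set, so the conclusion is stated at those
points here.) -/
theorem result (S : Scheme.{u}) [IsLocallyNoetherian S]
    (G : Over S) [GrpObj G] [IsCommMonObj G] [LocallyOfFiniteType G.hom] (h0 : IsClosed (SGA3x.neutralSet G))
    (hopen : ∀ (S' : Scheme.{u}) (g : S' ⟶ S) (x' : ↥(Red.bc g G).left), x' ∈ SGA3x.neutralSet (Red.bc g G) →
      ∀ U : Set ↥(Red.bc g G).left, IsOpen U → x' ∈ U →
        (Red.bc g G).hom.base '' U ∈ nhds ((Red.bc g G).hom.base x'))
    (S' : Scheme.{u}) (g : S' ⟶ S) (x' : ↥(Red.bc g G).left)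
    (hx' : x' ∈ SGA3x.neutralSet (Red.bc g G))
    (U : Set ↥(Red.bc g G).left) (hU : IsOpen U) (hxU : x' ∈ U) :
    (Red.bc g G).hom.base '' (U ∩ {x : ↥(Red.bc g G).left | ∃ n : ℕ, 0 < n ∧ Nat.Coprime n (ringExpChar (S'.residueField ((Red.bc g G).hom.base x))) ∧
        ((𝟙 (Red.bc g G) : (Red.bc g G) ⟶ (Red.bc g G)) ^ n).left.base x ∈ SGA3x.neutralSet (Red.bc g G)}) ∈
      nhds ((Red.bc g G).hom.base x') := by
  have : LocallyOfFinitePresentation G.hom := inferInstance
  let s' := (Red.bc g G).hom x'
  let s := g s'
  obtain ⟨U₀, hU₀, hdim₀⟩ := Lib.ActSep.exists_dim_nhds G s ⊤ trivial fun y _ hyN _ Y' g' y' hy' V hV => by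
    obtain ⟨W, hWV, hW, hyW⟩ := mem_nhds_iff.1 hV
    exact Filter.mem_of_superset (hopen Y' g' y' (by rw [Lib.ActSep.neutralSet_bc]; rw [Set.mem_preimage]; exact (congrArg (· ∈ SGA3x.neutralSet G) hy').mpr hyN)
      W hW hyW) (Set.image_mono hWV)
  obtain ⟨D, hDU, hD, hsD⟩ := mem_nhds_iff.1 hU₀
  let O : S'.Opens := g ⁻¹ᵁ ⟨D, hD⟩
  let X : Over S := Over.mk (O.ι ≫ g)
  have hmemD : ∀ y : X.left, X.hom y ∈ D := fun y => by
    show (O.ι ≫ g) y ∈ D
    rw [Scheme.Hom.comp_apply]; exact y.2
  have hdim : IsLocallyConstant (fun y : X.left => topologicalKrullDim ↥(G.hom ⁻¹' {X.hom y})) :=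
    IsLocallyConstant.of_constant _ fun y y' =>
      (hdim₀ _ (hDU (hmemD y))).trans (hdim₀ _ (hDU (hmemD y'))).symm
  let j : (G ⊗ X).left ⟶ (Red.bc g G).left :=
    pullback.lift (fst G X).left ((snd G X).left ≫ O.ι)
      (by rw [Category.assoc]; exact (Over.w (fst G X)).trans (Over.w (snd G X)).symm)
  have hjfst : ∀ w, pullback.fst G.hom g (j w) = (fst G X).left w := fun w => by
    rw [← Scheme.Hom.comp_apply, pullback.lift_fst]
  have hjsnd : ∀ w, (Red.bc g G).hom (j w) = O.ι ((snd G X).left w) := fun w => by
    show pullback.snd G.hom g (j w) = _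
    rw [← Scheme.Hom.comp_apply, pullback.lift_snd, Scheme.Hom.comp_apply]
  have hO : IsOpen {y : X.left | Lib.ActSep.genPt G X y ∈ j ⁻¹ᵁ ⟨U, hU⟩} :=
    Lib.ActSep.isOpen_setOf_genPt_mem G X hdim (j ⁻¹ᵁ ⟨U, hU⟩)
  have hrange : x' ∈ Set.range j := by
    have hsq : IsPullback j (snd G X).left (Red.bc g G).hom O.ι := by
      refine IsPullback.of_right ?_ (pullback.lift_snd _ _ _) (IsPullback.of_hasPullback G.hom g)
      rw [pullback.lift_fst]
      exact IsPullback.of_hasPullback G.hom (O.ι ≫ g)
    obtain ⟨z, hz, -⟩ := Scheme.exists_preimage_of_isPullback hsq x' ⟨s', hsD⟩ rfl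
    exact ⟨z, hz⟩
  obtain ⟨z, rfl⟩ := hrange
  rw [Lib.ActSep.neutralSet_bc, Set.mem_preimage, hjfst] at hx'
  have hzO : Lib.ActSep.genPt G X ((snd G X).left z) ∈ j ⁻¹ᵁ ⟨U, hU⟩ :=
    (Lib.ActSep.genPt_specializes G X hx').mem_open (j ⁻¹ᵁ ⟨U, hU⟩).2 hxU
  refine Filter.mem_of_superset
    ((O.ι.isOpenEmbedding.isOpenMap _ hO).mem_nhds ⟨(snd G X).left z, hzO, (hjsnd z).symm⟩) ?_
  rintro _ ⟨y, hy, rfl⟩
  refine ⟨j (Lib.ActSep.genPt G X y), ⟨hy, 1, Nat.one_pos, Nat.coprime_one_left _, ?_⟩, ?_⟩
  · rw [pow_one]
    show j _ ∈ _
    rw [Lib.ActSep.neutralSet_bc, Set.mem_preimage, hjfst]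
    exact Lib.ActSep.fst_genPt_mem G X y
  · show (Red.bc g G).hom _ = _
    rw [hjsnd, Lib.ActSep.snd_genPt]

end Groth.Agent.S5697
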