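import Groth.Statements.S5700
import Groth.Agent.Lib.PicFpqc27.Glue
import Groth.Agent.Lib.PicFpqc27.FlatBC
import Groth.Agent.Lib.PicFppf.Classes

set_option autoImplicit false
universe u
open CategoryTheory CategoryTheory.Limits AlgebraicGeometry
open FGA

namespace Groth.Agent.S5700

open Groth.Agent.Lib.PicFppf.Classes (pc pc_comp pc_congr pc_id)
open Groth.Agent.Lib.PicFpqc27.Rigid

theorem alg {A B : Type*} [CommGroup A] [CommGroup B] (φ : A →* B) (a : B) (x y z : A) :
    a * φ x * (φ y)⁻¹ = a * (φ z)⁻¹ * φ (x * z * y⁻¹) := by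
  rw [map_mul, map_mul, map_inv]
  simp [mul_assoc, mul_comm, mul_left_comm]

/-- Let f : X ⟶ S be quasi-compact and separated, with the induced maps from sections of the structure
sheaf of S to sections of the structure sheaf of X bijective over every open of S, and admitting a
section σ; let g : S' ⟶ S be flat, surjective and quasi-compact, X' = X ×_S S', S'' = S' ×_S S' and
X'' = X ×_S S'' with its two projections to X'. If L' is an invertible module on X' whose pullbacks
along the two projections X'' ⟶ X' become isomorphic after tensoring the second with the pullback of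
some invertible module on S'', then there are an invertible module L on X and an invertible module
N' on S' with L' isomorphic to the tensor product of the pullback of L and the pullback of N'.
(Exactness of Pic(X)/Pic(S) → Pic(X')/Pic(S') ⇉ Pic(X'')/Pic(S'').) (The published statement asks
for sections of f only locally on S and is phrased with relative Picard classes, the global sections
of the Zariski sheaf on S associated with U ↦ Pic(X_U); this row assumes a global section, in which
case those classes are classes of invertible modules on X modulo those pulled back from S, and the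
local-section form follows from it by restricting to the opens of S over which a section exists.) -/
theorem result {X S S' : Scheme.{u}} (f : X ⟶ S)
    [QuasiCompact f] [IsSeparated f] (hf : ∀ U : S.Opens, Function.Bijective (f.app U))
    (σ : S ⟶ X) (hσ : σ ≫ f = 𝟙 S)
    (g : S' ⟶ S) [Flat g] [Surjective g] [QuasiCompact g]
    (L' : (pullback f g).Modules) (hL' : PicF.IsInvertible L')
    (hcomp : ∃ N'' : (pullback g g).Modules, PicF.IsInvertible N'' ∧
      Nonempty ((Scheme.Modules.pullback (pullback.map f (pullback.fst g g ≫ g) f g (𝟙 X) (pullback.fst g g) (𝟙 S)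
          ((Category.comp_id f).trans (Category.id_comp f).symm) (Category.comp_id _))).obj L' ≅
        CohB1.tensorMod ((Scheme.Modules.pullback (pullback.map f (pullback.fst g g ≫ g) f g (𝟙 X) (pullback.snd g g) (𝟙 S)
          ((Category.comp_id f).trans (Category.id_comp f).symm) ((Category.comp_id _).trans pullback.condition))).obj L')
          ((Scheme.Modules.pullback (pullback.snd f (pullback.fst g g ≫ g))).obj N''))) :
    ∃ (L : X.Modules) (N' : S'.Modules), PicF.IsInvertible L ∧ PicF.IsInvertible N' ∧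
      Nonempty (L' ≅ CohB1.tensorMod ((Scheme.Modules.pullback (pullback.fst f g)).obj L)
        ((Scheme.Modules.pullback (pullback.snd f g)).obj N')) := by
  letI : ∀ Y : Scheme.{u}, PicGrp.Law Y := fun Y => Groth.Agent.Lib.TensorMod.Invertible.law Y
  haveI : Flat g := inferInstance
  let K₀ : Slice f :=
    { V := S', P := pullback f g, pr := pullback.fst f g, sn := pullback.snd f g, v := g
      sq := IsPullback.of_hasPullback f g }
  have hO : ∀ J : Slice f, Flat J.v → Function.Bijective J.sn.appTop := fun J hJ =>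
    Groth.Agent.Lib.PicFpqc27.FlatBC.app_bijective J.sq hf ⊤
  let s' : S' ⟶ pullback f g := Slice.σ σ hσ K₀
  have hs' : s' ≫ pullback.snd f g = 𝟙 S' := Slice.σ_sn σ hσ K₀
  let c' := PicGrp.cls L' hL'
  let n := pc s' c'
  let c'' := c' * (pc (pullback.snd f g) n)⁻¹
  have hrig : pc s' c'' = 1 := by
    show pc s' (c' * (pc (pullback.snd f g) n)⁻¹) = 1
    rw [map_mul, map_inv, ← pc_comp, pc_congr hs', pc_id, mul_inv_cancel]
  let J2 := K2 (fun _ : PUnit.{u+1} => K₀) PUnit.unit PUnit.unit
  let m₁ : J2.P ⟶ K₀.P := Slice.map (p₁ PUnit.unit PUnit.unit) (p₁_v (K := fun _ : PUnit.{u+1} => K₀) PUnit.unit PUnit.unit)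
  let m₂ : J2.P ⟶ K₀.P := Slice.map (p₂ PUnit.unit PUnit.unit) (p₂_v (K := fun _ : PUnit.{u+1} => K₀) PUnit.unit PUnit.unit)
  have e₁ : pullback.map f (pullback.fst g g ≫ g) f g (𝟙 X) (pullback.fst g g) (𝟙 S)
      ((Category.comp_id f).trans (Category.id_comp f).symm) (Category.comp_id _) = m₁ := by
    apply pullback.hom_ext
    · exact (pullback.lift_fst _ _ _).trans ((Category.comp_id _).trans (Slice.map_pr (K := J2) (K' := K₀) (p₁ PUnit.unit PUnit.unit) (p₁_v (K := fun _ : PUnit.{u+1} => K₀) PUnit.unit PUnit.unit)).symm)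
    · exact (pullback.lift_snd _ _ _).trans (Slice.map_sn (K := J2) (K' := K₀) (p₁ PUnit.unit PUnit.unit) (p₁_v (K := fun _ : PUnit.{u+1} => K₀) PUnit.unit PUnit.unit)).symm
  have e₂ : pullback.map f (pullback.fst g g ≫ g) f g (𝟙 X) (pullback.snd g g) (𝟙 S)
      ((Category.comp_id f).trans (Category.id_comp f).symm) ((Category.comp_id _).trans pullback.condition) = m₂ := by
    apply pullback.hom_ext
    · exact (pullback.lift_fst _ _ _).trans ((Category.comp_id _).trans (Slice.map_pr (K := J2) (K' := K₀) (p₂ PUnit.unit PUnit.unit) (p₂_v (K := fun _ : PUnit.{u+1} => K₀) PUnit.unit PUnit.unit)).symm)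
    · exact (pullback.lift_snd _ _ _).trans (Slice.map_sn (K := J2) (K' := K₀) (p₂ PUnit.unit PUnit.unit) (p₂_v (K := fun _ : PUnit.{u+1} => K₀) PUnit.unit PUnit.unit)).symm
  obtain ⟨N'', hN'', ⟨e⟩⟩ := hcomp
  rw [e₁, e₂] at e
  have hc : pc m₁ c' = pc m₂ c' * pc J2.sn (PicGrp.cls N'' hN'') :=
    Subtype.ext (Eq.trans (b := PicGrp.mulCl (pc m₂ c').1 (pc J2.sn (PicGrp.cls N'' hN'')).1) (Quot.sound ⟨e⟩)
      (PicGrp.mul_val _ _).symm)
  have ha₁ : ∀ k : PicLoc.PicSet S', pc m₁ (pc (pullback.snd f g) k) = pc J2.sn (pc (pullback.fst g g) k) :=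
    fun k => by
      rw [← pc_comp]
      refine Eq.trans ?_ (pc_comp J2.sn (pullback.fst g g) k)
      exact pc_congr (Slice.map_sn (K := J2) (K' := K₀) (p₁ PUnit.unit PUnit.unit) (p₁_v (K := fun _ : PUnit.{u+1} => K₀) PUnit.unit PUnit.unit)) k
  have ha₂ : ∀ k : PicLoc.PicSet S', pc m₂ (pc (pullback.snd f g) k) = pc J2.sn (pc (pullback.snd g g) k) :=
    fun k => by
      rw [← pc_comp]
      refine Eq.trans ?_ (pc_comp J2.sn (pullback.snd g g) k)
      exact pc_congr (Slice.map_sn (K := J2) (K' := K₀) (p₂ PUnit.unit PUnit.unit) (p₂_v (K := fun _ : PUnit.{u+1} => K₀) PUnit.unit PUnit.unit)) k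
  obtain ⟨k, hk⟩ : ∃ k, pc m₁ c'' = pc m₂ c'' * pc J2.sn k := by
    refine ⟨PicGrp.cls N'' hN'' * pc (pullback.snd g g) n * (pc (pullback.fst g g) n)⁻¹, ?_⟩
    show pc m₁ (c' * _) = pc m₂ (c' * _) * _
    rw [map_mul (pc m₁), map_mul (pc m₂), map_inv, map_inv, ha₁, ha₂, hc]
    exact alg (pc J2.sn) _ _ _ _
  have key : ∀ x : PicLoc.PicSet K₀.P, pc s' x = 1 → pc m₁ x = pc m₂ x * pc J2.sn k → k = 1 := by
    intro x hx h
    have h1 : pc (Slice.σ σ hσ J2) (pc m₁ x) = 1 := by
      rw [← pc_comp]
      refine ((pc_congr (Slice.σ_map σ hσ _ _) x).trans (pc_comp _ _ x)).trans ?_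
      exact (congrArg _ hx).trans (map_one _)
    have h2 : pc (Slice.σ σ hσ J2) (pc m₂ x) = 1 := by
      rw [← pc_comp]
      refine ((pc_congr (Slice.σ_map σ hσ _ _) x).trans (pc_comp _ _ x)).trans ?_
      exact (congrArg _ hx).trans (map_one _)
    have h3 : pc (Slice.σ σ hσ J2) (pc J2.sn k) = k := by
      rw [← pc_comp]
      exact (pc_congr (Slice.σ_sn σ hσ J2) k).trans (pc_id k)
    have h4 := congrArg (pc (Slice.σ σ hσ J2)) h
    rw [map_mul, h1, h2, h3, one_mul] at h4
    exact h4.symm
  have hk1 : k = 1 := key c'' hrig hk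
  rw [hk1, map_one, mul_one] at hk
  obtain ⟨L'', hL'', hcL⟩ := PicGrp.exists_eq_cls c''
  obtain ⟨M, hM, ⟨i⟩⟩ := Groth.Agent.Lib.PicFpqc27.Glue.exists_glue σ hσ hO K₀ L'' hL''
    (by
      refine (PicGrp.cls_eq_one_iff (PicLoc.isInvertible_pullback _ hL'')).1 ?_
      rw [hcL] at hrig
      exact hrig)
    (by
      refine (PicGrp.cls_eq_cls_iff (PicLoc.isInvertible_pullback _ hL'')
        (PicLoc.isInvertible_pullback _ hL'')).1 ?_
      rw [hcL] at hk
      exact hk)
  obtain ⟨N', hN', hn⟩ := PicGrp.exists_eq_cls n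
  refine ⟨M, N', hM, hN', ?_⟩
  have hci : pc (pullback.fst f g) (PicGrp.cls M hM) = c'' :=
    (Subtype.ext (Quot.sound ⟨i⟩)).trans hcL.symm
  have hfin : c' = pc (pullback.fst f g) (PicGrp.cls M hM) * pc (pullback.snd f g) n := by
    rw [hci]
    exact (inv_mul_cancel_right c' _).symm
  rw [hn] at hfin
  refine (PicGrp.cl_eq_cl_iff _ _).1 ?_
  exact (congrArg Subtype.val hfin).trans (PicGrp.mul_val _ _)

end Groth.Agent.S5700
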