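import Groth.Statements.S5701
import Mathlib.RingTheory.SimpleModule.WedderburnArtin
import Mathlib.RingTheory.Unramified.Field
import Mathlib.RingTheory.Unramified.Finite
import Mathlib.FieldTheory.JacobsonNoether
import Mathlib.FieldTheory.IsAlgClosed.AlgebraicClosure
import Mathlib.RingTheory.Flat.Basic

set_option autoImplicit false
universe u v
open TensorProduct
open Dix

namespace Groth.Agent.S5701

section
open Polynomial TensorProduct

variable {k : Type u} [Field k]

set_option maxHeartbeats 1000000

theorem sep_of_aeval {B : Type*} [Ring B] [Algebra k B] {x : B} {q : k[X]} (hq : q.Separable)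
    (h : aeval x q = 0) : IsSeparable k x :=
  hq.of_dvd (minpoly.dvd k x h)

theorem sep_map {B B' : Type*} [Ring B] [Algebra k B] [Ring B'] [Algebra k B'] (f : B →ₐ[k] B')
    {x : B} (hx : IsSeparable k x) : IsSeparable k (f x) :=
  sep_of_aeval hx (by rw [aeval_algHom_apply, minpoly.aeval, map_zero])

theorem sep_of_map {B B' : Type*} [Ring B] [Algebra k B] [Ring B'] [Algebra k B'] (f : B →ₐ[k] B')
    (hf : Function.Injective f) {x : B} (hx : IsSeparable k (f x)) : IsSeparable k x := by
  unfold IsSeparable at hx ⊢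
  rwa [minpoly.algHom_eq f hf x] at hx

theorem fu_of_gen {R : Type*} [CommRing R] [Algebra k R] (s : Set R) (hs : Algebra.adjoin k s = ⊤)
    (hsep : ∀ x ∈ s, IsSeparable k x) : Algebra.FormallyUnramified k R := by
  rw [Algebra.FormallyUnramified.iff_comp_injective]
  intro B _ _ I hI f₁ f₂ e
  refine AlgHom.ext_of_adjoin_eq_top hs fun x hx => ?_
  have hd : f₁ x - f₂ x ∈ I := by
    simpa [Ideal.Quotient.mk_eq_mk_iff_sub_mem] using AlgHom.congr_fun e x
  have h := Polynomial.eval_add_of_sq_eq_zero ((minpoly k x).map (algebraMap k B)) (f₂ x)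
    (f₁ x - f₂ x) (show (f₁ x - f₂ x) ^ 2 ∈ (⊥ : Ideal B) from hI ▸ Ideal.pow_mem_pow hd 2)
  simp only [add_sub_cancel, eval_map_algebraMap, aeval_algHom_apply, minpoly.aeval, map_zero,
    derivative_map, zero_add] at h
  obtain ⟨a, b, hab⟩ := hsep x hx
  have hu : IsUnit (aeval x (derivative (minpoly k x))) := by
    refine IsUnit.of_mul_eq_one_right (aeval x b) ?_
    have h1 := congrArg (aeval x) hab
    simpa [minpoly.aeval] using h1
  rwa [eq_comm, (hu.map f₂).mul_right_eq_zero, sub_eq_zero] at h

theorem sep_of_reduced {R : Type*} [CommRing R] [Algebra k R] [Module.Finite k R]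
    [_root_.IsReduced (AlgebraicClosure k ⊗[k] R)] (b : R) : IsSeparable k b := by
  classical
  have hb : IsIntegral k b := Algebra.IsIntegral.isIntegral b
  let L := AlgebraicClosure k
  set P := minpoly k b with hP
  have hP0 : P ≠ 0 := minpoly.ne_zero hb
  let Q := P.map (algebraMap k L)
  have hQ0 : Q ≠ 0 := Polynomial.map_ne_zero hP0
  have hQx : Polynomial.aeval ((1 : L) ⊗ₜ[k] b) Q = 0 := by
    rw [Polynomial.aeval_map_algebraMap,
      show (1 : L) ⊗ₜ[k] b = (Algebra.TensorProduct.includeRight : R →ₐ[k] L ⊗[k] R) b from rfl,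
      Polynomial.aeval_algHom_apply, hP, minpoly.aeval, map_zero]
  have hind : LinearIndependent L fun i : Fin P.natDegree => ((1 : L) ⊗ₜ[k] b) ^ (i : ℕ) := by
    have h := Module.Flat.linearIndependent_one_tmul (S := L) (linearIndependent_pow (K := k) b)
    simpa [Algebra.TensorProduct.tmul_pow] using h
  have hnd : ∀ r : L, Q.rootMultiplicity r ≤ 1 := fun r => by
    by_contra hr
    obtain ⟨S, hS⟩ := (le_rootMultiplicity_iff hQ0).1 (show 2 ≤ Q.rootMultiplicity r by omega)
    have hy : IsNilpotent (Polynomial.aeval ((1 : L) ⊗ₜ[k] b) ((X - C r) * S)) := by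
      refine ⟨2, ?_⟩
      rw [← map_pow, show ((X - C r) * S) ^ 2 = Q * S by rw [hS]; ring, map_mul, hQx, zero_mul]
    have hy0 := hy.eq_zero
    have hR0 : S ≠ 0 := by rintro rfl; exact hQ0 (by rw [hS, mul_zero])
    have hS0 : (X - C r) * S ≠ 0 := mul_ne_zero (X_sub_C_ne_zero r) hR0
    have hdeg : ((X - C r) * S).natDegree < P.natDegree := by
      have h1 : Q.natDegree = 2 + S.natDegree := by
        rw [hS, natDegree_mul (pow_ne_zero _ (X_sub_C_ne_zero r)) hR0, natDegree_pow, natDegree_X_sub_C]
      rw [show P.natDegree = Q.natDegree from (natDegree_map _).symm, h1,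
        natDegree_mul (X_sub_C_ne_zero r) hR0, natDegree_X_sub_C]
      omega
    rw [Polynomial.aeval_eq_sum_range' hdeg] at hy0
    simp only [Finset.sum_range] at hy0
    refine hS0 (Polynomial.ext fun i => ?_)
    rcases lt_or_ge i P.natDegree with hi | hi
    · exact (Fintype.linearIndependent_iff.1 hind _ hy0) ⟨i, hi⟩
    · exact coeff_eq_zero_of_natDegree_lt (lt_of_lt_of_le hdeg hi)
  have hnodup : Q.roots.Nodup := Multiset.nodup_iff_count_le_one.2 fun r => by
    rw [Polynomial.count_roots]; exact hnd r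
  exact (Polynomial.separable_map (algebraMap k L)).1
    ((nodup_roots_iff_of_splits hQ0 (IsAlgClosed.splits Q)).1 hnodup)

theorem sep_of_fu {R : Type*} [CommRing R] [Algebra k R] [Module.Finite k R]
    [Algebra.FormallyUnramified k R] (b : R) : IsSeparable k b := by
  haveI : _root_.IsReduced (AlgebraicClosure k ⊗[k] R) :=
    Algebra.FormallyUnramified.isReduced_of_field (AlgebraicClosure k) _
  exact sep_of_reduced b

theorem sep_adjoin {B : Type*} [Ring B] [Algebra k B] [FiniteDimensional k B] {s : Set B}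
    (hcomm : ∀ a ∈ s, ∀ b ∈ s, a * b = b * a) (hsep : ∀ x ∈ s, IsSeparable k x) :
    (∀ a ∈ Algebra.adjoin k s, ∀ b ∈ Algebra.adjoin k s, a * b = b * a) ∧
      Algebra.IsSeparable k (Algebra.adjoin k s) := by
  letI : CommRing (Algebra.adjoin k s) :=
    { (inferInstance : Ring (Algebra.adjoin k s)), Algebra.adjoinCommRingOfComm k hcomm with }
  refine ⟨fun a ha b hb => congrArg Subtype.val (mul_comm (⟨a, ha⟩ : Algebra.adjoin k s) ⟨b, hb⟩), ?_⟩
  haveI : Algebra.FormallyUnramified k (Algebra.adjoin k s) :=
    fu_of_gen _ (Algebra.adjoin_adjoin_coe_preimage (R := k) (s := s))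
      fun x hx => sep_of_map (Algebra.adjoin k s).val Subtype.val_injective (hsep _ hx)
  exact ⟨fun x => sep_of_fu x⟩

theorem semisimple_of_retraction {C A : Type*} [Ring C] [Ring A] [IsSemisimpleRing A]
    (i : C →+* A) (E : A →+ C) (hl : ∀ c a, E (i c * a) = c * E a)
    (hr : ∀ a c, E (a * i c) = E a * c) (h1 : E 1 = 1) : IsSemisimpleRing C := by
  refine (isSemisimpleModule_iff C C).2 ⟨fun J => ?_⟩
  obtain ⟨e, he, hJe⟩ := IsSemisimpleRing.ideal_eq_span_idempotent (Ideal.span (i '' (J : Set C)))
  have hfJ : ∀ z ∈ Ideal.span (i '' (J : Set C)), ∀ a : A, E (a * z) ∈ J := by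
    intro z hz
    induction hz using Submodule.span_induction with
    | mem z hz =>
      obtain ⟨j, hj, rfl⟩ := hz
      exact fun a => by rw [hr]; exact J.smul_mem (E a) hj
    | zero => exact fun a => by rw [mul_zero, map_zero]; exact J.zero_mem
    | add y z _ _ hy hz => exact fun a => by rw [mul_add, map_add]; exact J.add_mem (hy a) (hz a)
    | smul b y _ hy => exact fun a => by rw [smul_eq_mul, ← mul_assoc]; exact hy (a * b)
  have hf : E e ∈ J := by simpa using hfJ e (hJe ▸ Ideal.mem_span_singleton_self e) 1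
  let p : C →ₗ[C] J := (LinearMap.toSpanSingleton C C (E e)).codRestrict J fun c => J.smul_mem c hf
  refine ⟨LinearMap.ker p, LinearMap.isCompl_of_proj (f := p) fun j => Subtype.ext ?_⟩
  obtain ⟨a, ha⟩ := Ideal.mem_span_singleton'.1
    (hJe ▸ (Ideal.subset_span ⟨j.1, j.2, rfl⟩ : i j.1 ∈ Ideal.span (i '' (J : Set C))))
  have h2 : i j.1 * e = i j.1 := by rw [← ha, mul_assoc, he.eq]
  calc (j : C) * E e = E (i j.1 * e) := (hl _ _).symm
    _ = E (i j.1 * 1) := by rw [h2, mul_one]
    _ = j := by rw [hl, h1, mul_one]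

theorem eq_zero_of_central_nilpotent {R : Type*} [Ring R] [IsSemisimpleRing R] (y : R)
    (hc : ∀ r, r * y = y * r) (hn : IsNilpotent y) : y = 0 := by
  obtain ⟨e, he, hye⟩ := IsSemisimpleRing.ideal_eq_span_idempotent (Ideal.span {y})
  obtain ⟨a, ha⟩ := Ideal.mem_span_singleton'.1
    (hye ▸ Ideal.mem_span_singleton_self e : e ∈ Ideal.span {y})
  have h0 : e = 0 := he.eq_zero_of_isNilpotent (ha ▸ Commute.isNilpotent_mul_left (hc a) hn)
  obtain ⟨b, hb⟩ := Ideal.mem_span_singleton'.1
    (hye ▸ Ideal.mem_span_singleton_self y : y ∈ Ideal.span {e})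
  rw [← hb, h0, mul_zero]

variable {A : Type v} [Ring A] [Algebra k A]

theorem semisimple_down (h : IsSemisimpleRing (AlgebraicClosure k ⊗[k] A)) : IsSemisimpleRing A := by
  obtain ⟨φ, hφ⟩ := LinearMap.exists_leftInverse_of_injective (Algebra.linearMap k (AlgebraicClosure k))
    (LinearMap.ker_eq_bot.2 (algebraMap k (AlgebraicClosure k)).injective)
  have hφ1 : φ 1 = 1 := by simpa using LinearMap.congr_fun hφ 1
  let E : AlgebraicClosure k ⊗[k] A →ₗ[k] A := (TensorProduct.lid k A).toLinearMap ∘ₗ φ.rTensor A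
  refine semisimple_of_retraction
    (Algebra.TensorProduct.includeRight : A →ₐ[k] AlgebraicClosure k ⊗[k] A).toRingHom
    E.toAddMonoidHom (fun c a => ?_) (fun a c => ?_) ?_
  · induction a with
    | zero => simp
    | tmul x y => simp [E]
    | add a b ha hb => simp_all [mul_add]
  · induction a with
    | zero => simp
    | tmul x y => simp [E]
    | add a b ha hb => simp_all [add_mul]
  · simp [E, Algebra.TensorProduct.one_def, hφ1]

theorem semisimple_up {C : Type*} [Ring C] [Algebra k C] (i : C →ₐ[k] A) (E : A →ₗ[k] C)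
    (hl : ∀ c a, E (i c * a) = c * E a) (hr : ∀ a c, E (a * i c) = E a * c) (h1 : E 1 = 1)
    (h : IsSemisimpleRing (AlgebraicClosure k ⊗[k] A)) :
    IsSemisimpleRing (AlgebraicClosure k ⊗[k] C) := by
  refine semisimple_of_retraction
    (Algebra.TensorProduct.map (AlgHom.id k (AlgebraicClosure k)) i).toRingHom
    (E.lTensor (AlgebraicClosure k)).toAddMonoidHom (fun c a => ?_) (fun a c => ?_) ?_
  · induction c with
    | zero => simp
    | add c d hc hd => simp_all [add_mul]
    | tmul x y =>
      induction a with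
      | zero => simp
      | add a b ha hb => simp_all [mul_add]
      | tmul s t => simp [hl]
  · induction c with
    | zero => simp
    | add c d hc hd => simp_all [mul_add]
    | tmul x y =>
      induction a with
      | zero => simp
      | add a b ha hb => simp_all [add_mul]
      | tmul s t => simp [hr]
  · simp [Algebra.TensorProduct.one_def, h1]

theorem center_separable {C : Type*} [Ring C] [Algebra k C] [FiniteDimensional k C]
    (h : IsSemisimpleRing (AlgebraicClosure k ⊗[k] C)) (z₀ : C) (hz₀ : z₀ ∈ Subalgebra.center k C) :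
    IsSeparable k z₀ := by
  let L := AlgebraicClosure k
  let f : L ⊗[k] Subalgebra.center k C →ₐ[k] L ⊗[k] C :=
    Algebra.TensorProduct.map (AlgHom.id k L) (Subalgebra.center k C).val
  have hf : Function.Injective f :=
    Module.Flat.lTensor_preserves_injective_linearMap (M := L)
      (Subalgebra.center k C).val.toLinearMap Subtype.val_injective
  have hc : ∀ t r, r * f t = f t * r := fun t r => by
    induction t with
    | zero => simp
    | add a b ha hb => simp [mul_add, add_mul, ha, hb]
    | tmul s w =>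
      induction r with
      | zero => simp
      | add a b ha hb => simp [mul_add, add_mul, ha, hb]
      | tmul s' c =>
        simp [f, mul_comm s s', Subalgebra.mem_center_iff.1 w.2 c]
  haveI : _root_.IsReduced (L ⊗[k] Subalgebra.center k C) := ⟨fun t ht =>
    hf (by rw [map_zero]; exact eq_zero_of_central_nilpotent (f t) (hc t) (ht.map f))⟩
  exact sep_map (Subalgebra.center k C).val (x := ⟨z₀, hz₀⟩) (sep_of_reduced _)

theorem sep_tower {Z B : Type*} [Field Z] [Algebra k Z] [Ring B] [Nontrivial B] [Algebra Z B]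
    [Algebra k B] [IsScalarTower k Z B] [FiniteDimensional k B] (hZ : ∀ z : Z, IsSeparable k z)
    {x : B} (hxs : IsSeparable Z x) : IsSeparable k x := by
  haveI : Module.Finite k Z :=
    Module.Finite.of_injective (IsScalarTower.toAlgHom k Z B).toLinearMap (algebraMap Z B).injective
  haveI : Module.Finite Z B := Module.Finite.of_restrictScalars_finite k Z B
  set q := minpoly Z x with hq
  have hqm : q.Monic := minpoly.monic (IsIntegral.of_finite Z x)
  haveI : Module.Finite Z (AdjoinRoot q) := hqm.finite_adjoinRoot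
  haveI : Module.Finite k (AdjoinRoot q) := Module.Finite.trans Z (AdjoinRoot q)
  haveI : Algebra.FormallyUnramified Z (AdjoinRoot q) := fu_of_gen _ AdjoinRoot.adjoinRoot_eq_top
    fun y hy => sep_of_aeval (q := q) hxs (by
      rw [Set.mem_singleton_iff.1 hy, AdjoinRoot.aeval_eq, AdjoinRoot.mk_self])
  haveI : Algebra.FormallyUnramified k Z :=
    fu_of_gen Set.univ (Algebra.adjoin_univ k Z) fun z _ => hZ z
  haveI : Algebra.FormallyUnramified k (AdjoinRoot q) := Algebra.FormallyUnramified.comp k Z _
  let φ : AdjoinRoot q →ₐ[Z] B := Ideal.Quotient.liftₐ (Ideal.span {q}) (Polynomial.aeval x) fun g hg => by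
    obtain ⟨c, rfl⟩ := Ideal.mem_span_singleton'.1 hg
    rw [map_mul, hq, minpoly.aeval, mul_zero]
  have hφ : φ (AdjoinRoot.root q) = x := Polynomial.aeval_X x
  exact hφ ▸ sep_map (φ.restrictScalars k) (sep_of_fu (AdjoinRoot.root q))

theorem jn {D : Type*} [DivisionRing D] [Algebra k D] [FiniteDimensional k D]
    (hsep : ∀ z ∈ Subring.center D, IsSeparable k z) (hne : ∃ a b : D, a * b ≠ b * a) :
    ∃ x : D, x ∉ Subring.center D ∧ IsSeparable k x := by
  classical
  letI : Algebra k (Subring.center D) :=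
    ((algebraMap k D).codRestrict (Subring.center D) fun r =>
      Subring.mem_center_iff.2 fun d => (Algebra.commutes r d).symm).toAlgebra
  haveI : IsScalarTower k (Subring.center D) D := .of_algebraMap_eq fun _ => rfl
  haveI : Algebra.IsAlgebraic k D := Algebra.IsAlgebraic.of_finite k D
  haveI : Algebra.IsAlgebraic (Subring.center D) D := .tower_top (K := k) _
  have htop : Subring.center D ≠ ⊤ := fun h => by
    obtain ⟨a, b, hab⟩ := hne
    exact hab ((Subring.mem_center_iff.1 (h ▸ Subring.mem_top b : b ∈ Subring.center D) a))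
  obtain ⟨x, hx, hxs⟩ := JacobsonNoether.exists_separable_and_not_isCentral D htop
  refine ⟨x, hx, sep_tower (Z := Subring.center D) ?_ hxs⟩
  exact fun z => sep_of_map (IsScalarTower.toAlgHom k (Subring.center D) D) Subtype.val_injective
    (hsep z.1 z.2)

theorem sep_single {ι : Type*} [DecidableEq ι] {B : ι → Type*} [∀ i, Ring (B i)]
    [∀ i, Algebra k (B i)] (i : ι) {x : B i} (hx : IsSeparable k x) :
    IsSeparable k (Pi.single i x : Π j, B j) := by
  have key : ∀ q : k[X], aeval x q = 0 → q.coeff 0 = 0 → aeval (Pi.single i x : Π j, B j) q = 0 := by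
    intro q h1 h2
    funext j
    rw [show (aeval (Pi.single i x : Π j, B j) q) j = aeval ((Pi.single i x : Π j, B j) j) q from
      (aeval_algHom_apply (Pi.evalAlgHom k B j) _ q).symm]
    rcases eq_or_ne j i with rfl | hj
    · rw [Pi.single_eq_same]; exact h1
    · rw [Pi.single_eq_of_ne hj, Pi.zero_apply, ← Polynomial.coeff_zero_eq_aeval_zero', h2, map_zero]
  by_cases h0 : (minpoly k x).coeff 0 = 0
  · exact sep_of_aeval hx (key _ (minpoly.aeval k x) h0)
  · refine sep_of_aeval (q := X * minpoly k x) (separable_X.mul hx ?_)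
      (key _ (by rw [map_mul, minpoly.aeval, mul_zero]) (by simp))
    exact irreducible_X.coprime_iff_not_dvd.2 fun h => h0 (X_dvd_iff.1 h)

theorem comm_of_separable_central {C : Type v} [Ring C] [Algebra k C] [FiniteDimensional k C]
    [IsSemisimpleRing C] (hZ : ∀ z : C, (∀ r, r * z = z * r) → IsSeparable k z)
    (hS : ∀ z : C, IsSeparable k z → ∀ r, r * z = z * r) (a b : C) : a * b = b * a := by
  classical
  obtain ⟨n, D, d, _, _, _, hd, ⟨e⟩⟩ := IsSemisimpleRing.exists_algEquiv_pi_matrix_divisionRing_finite k C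
  have hS' : ∀ z : Π i, Matrix (Fin (d i)) (Fin (d i)) (D i), IsSeparable k z → ∀ r, r * z = z * r :=
    fun z hz r => by
      have h := congrArg e (hS (e.symm z) (sep_map e.symm.toAlgHom hz) (e.symm r))
      simpa using h
  have hsub : ∀ i, Subsingleton (Fin (d i)) := fun i => ⟨fun p q => by
    by_contra hpq
    let P : Π j, Matrix (Fin (d j)) (Fin (d j)) (D j) := Pi.single i (Matrix.single p p 1)
    let Q : Π j, Matrix (Fin (d j)) (Fin (d j)) (D j) := Pi.single i (Matrix.single p q 1)
    have hP : IsSeparable k P := by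
      refine sep_of_aeval (q := X * (X - 1)) (separable_X.mul
        (by simpa using separable_X_sub_C (x := (1 : k))) ?_) ?_
      · exact ⟨1, -1, by ring⟩
      · have hPP : P * P = P := by simp [P, ← Pi.single_mul, Matrix.single_mul_single_same]
        simp [mul_sub, hPP]
    have h := congrFun (hS' P hP Q) i
    simp [P, Q, Matrix.single_mul_single_same, Matrix.single_mul_single_of_ne, Ne.symm hpq] at h
    exact one_ne_zero (α := D i) (by simpa using (congrFun (congrFun h p) q).symm)⟩
  have hD : ∀ i (a b : D i), a * b = b * a := by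
    intro i
    by_contra hne
    push_neg at hne
    haveI := hd i
    haveI := hsub i
    let σ : D i →ₐ[k] Matrix (Fin (d i)) (Fin (d i)) (D i) := Matrix.scalarAlgHom (Fin (d i)) k
    have hσ : Function.Injective σ := fun u v huv => by
      have := congrFun (congrFun huv 0) 0
      simpa [σ] using this
    have hcen : ∀ z ∈ Subring.center (D i), IsSeparable k z := fun z hz => by
      let y : Π j, Matrix (Fin (d j)) (Fin (d j)) (D j) := Pi.single i (σ z)
      have hy : ∀ r, r * y = y * r := fun r => by
        funext j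
        rcases eq_or_ne j i with rfl | hj
        · simp only [y, Pi.mul_apply, Pi.single_eq_same]
          ext p q
          simp [σ, Subring.mem_center_iff.1 hz (r j p q)]
        · simp [y, Pi.single_eq_of_ne hj]
      have h1 : IsSeparable k (e.symm y) := hZ _ fun r => by
        apply e.injective
        simpa using hy (e r)
      have h2 := sep_map (Pi.evalAlgHom k (fun j => Matrix (Fin (d j)) (Fin (d j)) (D j)) i)
        (sep_map e.toAlgHom h1)
      exact sep_of_map σ hσ (by simpa [y] using h2)
    obtain ⟨x, hx, hxs⟩ := jn hcen hne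
    refine hx (Subring.mem_center_iff.2 fun g => hσ ?_)
    have h := congrFun (hS' _ (sep_single (B := fun j => Matrix (Fin (d j)) (Fin (d j)) (D j)) i
      (sep_map σ hxs)) (Pi.single i (σ g))) i
    simpa using h
  apply e.injective
  rw [map_mul, map_mul]
  funext i
  haveI := hsub i
  ext p q
  simp only [Pi.mul_apply, Matrix.mul_apply]
  rw [Fintype.sum_subsingleton _ p, Fintype.sum_subsingleton _ p, Subsingleton.elim q p]
  exact hD i _ _

theorem exists_retraction {R : Type*} [CommRing R] [Algebra k R] [Module.Finite k R]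
    [Algebra.FormallyUnramified k R] (j : R →ₐ[k] A) :
    ∃ Φ : A →ₗ[k] A, (∀ a, ∀ r : R, j r * Φ a = Φ a * j r) ∧
      (∀ c : A, (∀ r : R, j r * c = c * j r) → ∀ a, Φ (c * a) = c * Φ a ∧ Φ (a * c) = Φ a * c) ∧
      Φ 1 = 1 := by
  let F : R ⊗[k] R →ₗ[k] A →ₗ[k] A := TensorProduct.lift
    (LinearMap.mk₂ k (fun l m : R => (LinearMap.mulLeft k (j l)).comp (LinearMap.mulRight k (j m)))
      (fun _ _ _ => LinearMap.ext fun _ => by simp [add_mul])
      (fun _ _ _ => LinearMap.ext fun _ => by simp)
      (fun _ _ _ => LinearMap.ext fun _ => by simp [mul_add])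
      (fun _ _ _ => LinearMap.ext fun _ => by simp))
  have hF : ∀ (l m : R) (a : A), F (l ⊗ₜ m) a = j l * (a * j m) := fun l m a => rfl
  have hl : ∀ (l : R) t a, j l * F t a = F ((l ⊗ₜ 1) * t) a := fun l t a => by
    induction t with
    | zero => simp
    | tmul x y => rw [Algebra.TensorProduct.tmul_mul_tmul, hF, hF, one_mul, map_mul, mul_assoc]
    | add p q hp hq => simp [mul_add, hp, hq]
  have hr : ∀ (l : R) t a, F t a * j l = F ((1 ⊗ₜ l) * t) a := fun l t a => by
    induction t with
    | zero => simp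
    | tmul x y =>
      rw [Algebra.TensorProduct.tmul_mul_tmul, one_mul, mul_comm l y, hF, hF, map_mul]
      simp only [mul_assoc]
    | add p q hp hq => simp [mul_add, add_mul, hp, hq]
  refine ⟨F (Algebra.FormallyUnramified.elem k R), fun a r => ?_, fun c hc a => ⟨?_, ?_⟩, ?_⟩
  · rw [hl, hr, Algebra.FormallyUnramified.one_tmul_mul_elem]
  · generalize Algebra.FormallyUnramified.elem k R = t
    induction t with
    | zero => simp
    | tmul x y => rw [hF, hF, ← mul_assoc, ← mul_assoc, ← mul_assoc, hc x]; simp only [mul_assoc]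
    | add p q hp hq => simp [mul_add, hp, hq]
  · generalize Algebra.FormallyUnramified.elem k R = t
    induction t with
    | zero => simp
    | tmul x y => rw [hF, hF, mul_assoc a, ← hc y]; simp only [mul_assoc]
    | add p q hp hq => simp [add_mul, hp, hq]
  · have : ∀ t, F t 1 = j (Algebra.TensorProduct.lmul' k t) := fun t => by
      induction t with
      | zero => simp
      | tmul x y => simp [hF]
      | add p q hp hq => simp [hp, hq]
    rw [this, Algebra.FormallyUnramified.lmul_elem, map_one]

theorem sep_of_mem (L : Subalgebra k A) [hL : Algebra.IsSeparable k L] (x : A) (hx : x ∈ L) :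
    IsSeparable k x :=
  sep_map (B := L) (B' := A) L.val (x := (⟨x, hx⟩ : L))
    (@Algebra.IsSeparable.isSeparable k L _ _ _ hL ⟨x, hx⟩)

theorem mem_of_sep [FiniteDimensional k A] (L : Subalgebra k A)
    (hcomm : ∀ x ∈ L, ∀ y ∈ L, x * y = y * x) (hsep : Algebra.IsSeparable k L)
    (hmax : ∀ L' : Subalgebra k A, (∀ x ∈ L', ∀ y ∈ L', x * y = y * x) → Algebra.IsSeparable k L' →
      L ≤ L' → L' = L) (z : A) (hzc : ∀ b ∈ L, b * z = z * b) (hzs : IsSeparable k z) : z ∈ L := by
  have hs := sep_adjoin (k := k) (s := insert z (L : Set A)) (fun a ha b hb => by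
    rcases ha with rfl | ha <;> rcases hb with rfl | hb
    · rfl
    · exact (hzc b hb).symm
    · exact hzc a ha
    · exact hcomm a ha b hb) (fun a ha => by
    rcases ha with rfl | ha
    · exact hzs
    · exact sep_of_mem L a ha)
  have h := hmax _ hs.1 hs.2 fun a ha => Algebra.subset_adjoin (Or.inr ha)
  exact h ▸ Algebra.subset_adjoin (Or.inl rfl)

theorem retraction_of [FiniteDimensional k A] (L : Subalgebra k A)
    (hcomm : ∀ x ∈ L, ∀ y ∈ L, x * y = y * x) (hsep : Algebra.IsSeparable k L) :
    ∃ Φ : A →ₗ[k] A, (∀ a, ∀ r ∈ L, r * Φ a = Φ a * r) ∧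
      (∀ c : A, (∀ r ∈ L, r * c = c * r) → ∀ a, Φ (c * a) = c * Φ a ∧ Φ (a * c) = Φ a * c) ∧
      Φ 1 = 1 := by
  letI : CommRing (Algebra.adjoin k (L : Set A)) :=
    { (inferInstance : Ring (Algebra.adjoin k (L : Set A))),
      Algebra.adjoinCommRingOfComm k (s := (L : Set A)) hcomm with }
  haveI : Algebra.FormallyUnramified k (Algebra.adjoin k (L : Set A)) :=
    fu_of_gen _ (Algebra.adjoin_adjoin_coe_preimage (R := k) (s := (L : Set A)))
      fun x hx => sep_of_map (Algebra.adjoin k (L : Set A)).val Subtype.val_injective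
        (sep_of_mem L _ hx)
  obtain ⟨Φ, a, b, c⟩ := exists_retraction (Algebra.adjoin k (L : Set A)).val
  refine ⟨Φ, fun y r hr => a y ⟨r, Algebra.subset_adjoin hr⟩,
    fun z hz y => b z (fun r => hz (r : A) ?_) y, c⟩
  exact SetLike.le_def.1 (Algebra.adjoin_le (le_refl (L : Set A))) r.2

theorem all_sep {C : Type v} [Ring C] [Algebra k C] [FiniteDimensional k C] [IsSemisimpleRing C]
    (hbar : IsSemisimpleRing (AlgebraicClosure k ⊗[k] C))
    (hS : ∀ z : C, IsSeparable k z → ∀ r, r * z = z * r) (x : C) : IsSeparable k x := by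
  have hZ : ∀ z : C, (∀ r, r * z = z * r) → IsSeparable k z := fun z hz =>
    center_separable hbar z (Subalgebra.mem_center_iff.2 hz)
  exact hZ x fun r => comm_of_separable_central hZ hS r x

theorem centralizer_semisimple [FiniteDimensional k A] (hss : IsSemisimpleRing (AlgebraicClosure k ⊗[k] A))
    (L : Subalgebra k A) (hcomm : ∀ x ∈ L, ∀ y ∈ L, x * y = y * x) (hsep : Algebra.IsSeparable k L) :
    IsSemisimpleRing (Subalgebra.centralizer k (L : Set A)) ∧
      IsSemisimpleRing (AlgebraicClosure k ⊗[k] Subalgebra.centralizer k (L : Set A)) := by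
  obtain ⟨Φ, hΦ, hΦc, h1⟩ := retraction_of L hcomm hsep
  let E : A →ₗ[k] Subalgebra.centralizer k (L : Set A) :=
    Φ.codRestrict (Subalgebra.toSubmodule (Subalgebra.centralizer k (L : Set A))) fun a g hg => hΦ a g hg
  have hl : ∀ (c : Subalgebra.centralizer k (L : Set A)) a, E (c.1 * a) = c * E a :=
    fun c a => Subtype.ext (hΦc c.1 c.2 a).1
  have hr : ∀ a (c : Subalgebra.centralizer k (L : Set A)), E (a * c.1) = E a * c :=
    fun a c => Subtype.ext (hΦc c.1 c.2 a).2
  have hE : E 1 = 1 := Subtype.ext h1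
  haveI hA : IsSemisimpleRing A := semisimple_down hss
  exact ⟨semisimple_of_retraction (Subalgebra.centralizer k (L : Set A)).val.toRingHom E.toAddMonoidHom hl hr hE,
    semisimple_up (Subalgebra.centralizer k (L : Set A)).val E hl hr hE hss⟩

theorem main_backward [FiniteDimensional k A] (hss : IsSemisimpleRing (AlgebraicClosure k ⊗[k] A))
    (L : Subalgebra k A) (hcomm : ∀ x ∈ L, ∀ y ∈ L, x * y = y * x) (hsep : Algebra.IsSeparable k L)
    (hmax : ∀ L' : Subalgebra k A, (∀ x ∈ L', ∀ y ∈ L', x * y = y * x) → Algebra.IsSeparable k L' →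
      L ≤ L' → L' = L) : Subalgebra.centralizer k (L : Set A) = L := by
  obtain ⟨h1, h2⟩ := centralizer_semisimple hss L hcomm hsep
  refine le_antisymm ?_ fun x hx y hy => hcomm y hy x hx
  generalize hCdef : Subalgebra.centralizer k (L : Set A) = C at h1 h2 ⊢
  have hmemC : ∀ z ∈ C, ∀ b ∈ L, b * z = z * b := fun z hz => by
    subst hCdef
    exact (Subalgebra.mem_centralizer_iff k).1 hz
  have hmem : ∀ z : C, IsSeparable k z → (z : A) ∈ L := fun z hz =>
    mem_of_sep L hcomm hsep hmax z.1 (hmemC z.1 z.2) (sep_map (B := C) (B' := A) C.val hz)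
  have hall : ∀ z : C, IsSeparable k z := fun z =>
    all_sep (C := C) h2 (fun w hw r => Subtype.ext (hmemC r.1 r.2 w.1 (hmem w hw)).symm) z
  exact fun c hc => hmem ⟨c, hc⟩ (hall ⟨c, hc⟩)

end

/-- Let k be a field and A a finite-dimensional k-algebra which is absolutely semisimple (its base
change to an algebraic closure of k is a semisimple ring). For a subalgebra L of A, call L étale
when it is commutative and all its elements are separable over k. Then L is étale and equal to its
own centralizer in A if and only if L is a maximal étale subalgebra of A. -/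
theorem result (k : Type u) [Field k] (A : Type v) [Ring A] [Algebra k A] [FiniteDimensional k A] (hss : IsSemisimpleRing (AlgebraicClosure k ⊗[k] A)) (L : Subalgebra k A) : ((∀ x ∈ L, ∀ y ∈ L, x * y = y * x) ∧ Algebra.IsSeparable k L ∧ Subalgebra.centralizer k (L : Set A) = L) ↔ ((∀ x ∈ L, ∀ y ∈ L, x * y = y * x) ∧ Algebra.IsSeparable k L ∧ ∀ L' : Subalgebra k A, (∀ x ∈ L', ∀ y ∈ L', x * y = y * x) → Algebra.IsSeparable k L' → L ≤ L' → L' = L) := by
  constructor
  · rintro ⟨h1, h2, h3⟩
    refine ⟨h1, h2, fun L' h1' _ hle => le_antisymm (fun x hx => ?_) hle⟩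
    rw [← h3]
    exact fun g hg => h1' g (hle hg) x hx
  · rintro ⟨h1, h2, h3⟩
    exact ⟨h1, h2, main_backward hss L h1 h2 h3⟩

end Groth.Agent.S5701
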