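import Groth.Statements.S5717
import Groth.Agent.Lib.Azumaya.Criterion
import Mathlib.Algebra.Azumaya.Matrix
import Mathlib.RingTheory.Flat.EquationalCriterion
import Mathlib.RingTheory.Flat.FaithfullyFlat.Algebra

set_option autoImplicit false
universe u v
open TensorProduct
open Dix

namespace Groth.Agent.S5717

/-- Implication (iii bis) ⇒ (ii), over an affine base with one faithfully flat cover. Let R be a
commutative ring and A an R-algebra whose underlying R-module is finitely presented. If there are a
faithfully flat commutative R-algebra R' and an integer r ≥ 1 such that R' ⊗_R A is isomorphic as an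
R'-algebra to the matrix algebra M_r(R'), then A is an Azumaya algebra over R (finite locally free
with A ⊗ A° → End_R(A) bijective). (The published condition asks the cover only to be surjective;
with that reading the implication fails — R = k[ε], A = R/(ε), R' = k — so this row asks R' to be
faithfully flat.) -/
theorem result (R : Type u) [CommRing R] (A : Type u) [Ring A] [Algebra R A] [Module.FinitePresentation R A] (R' : Type u) [CommRing R'] [Algebra R R'] [Module.FaithfullyFlat R R'] (r : ℕ) (hr : 1 ≤ r) (e : (R' ⊗[R] A) ≃ₐ[R'] Matrix (Fin r) (Fin r) R') : IsAzumaya R A := by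
  have hf : Module.Flat R' (R' ⊗[R] A) := by
    have : Module.Projective R' (R' ⊗[R] A) := Module.Projective.of_equiv e.symm.toLinearEquiv
    infer_instance
  have : Module.Flat R A := Module.Flat.of_flat_tensorProduct R A R'
  have : Module.Projective R A := Module.Flat.projective_of_finitePresentation
  have : Nonempty (Fin r) := ⟨⟨0, hr⟩⟩
  have : FaithfulSMul R A := by
    refine (faithfulSMul_iff_algebraMap_injective R A).mpr fun x y hxy => ?_
    refine FaithfulSMul.algebraMap_injective R R' ((Matrix.scalar_inj (n := Fin r)).mp ?_)
    have h1 : ∀ z : R, algebraMap R' (R' ⊗[R] A) (algebraMap R R' z) = (1 : R') ⊗ₜ[R] algebraMap R A z := fun z => by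
      rw [Algebra.TensorProduct.algebraMap_apply, Algebra.algebraMap_eq_smul_one (A := A), TensorProduct.tmul_smul,
        TensorProduct.smul_tmul']
      simp [Algebra.smul_def]
    have := congr_arg e ((h1 x).trans ((congr_arg _ hxy).trans (h1 y).symm))
    rwa [AlgEquiv.commutes, AlgEquiv.commutes, Matrix.algebraMap_eq_diagonal, Matrix.algebraMap_eq_diagonal] at this
  refine ⟨?_⟩
  refine (Module.FaithfullyFlat.lTensor_bijective_iff_bijective R R' (AlgHom.mulLeftRight R A).toLinearMap).mp ?_
  rw [← Groth.Agent.Lib.Azumaya.BaseChange.mulLeftRight_baseChange_bijective_iff]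
  have : IsAzumaya R' (Matrix (Fin r) (Fin r) R') := IsAzumaya.matrix R' _
  exact (IsAzumaya.of_AlgEquiv R' _ _ e.symm).bij

end Groth.Agent.S5717
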