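import Groth.Statements.S5726
import Groth.Agent.Lib.SymAlg.PE.Quot
import Groth.Agent.Lib.SymAlg.PE.FiniteType

set_option autoImplicit false
universe u
open CategoryTheory CategoryTheory.Limits AlgebraicGeometry TopologicalSpace Opposite
open scoped HomogeneousIdeal
open EGA2

namespace Groth.Agent.S5726

/-- Let Y be a scheme which is either quasi-compact and separated or Noetherian, q : X → Y a morphism of
finite type and L an invertible O_X-module which is very ample relative to q. Then there are a
quasi-coherent graded O_Y-algebra 𝒮 generated by its degree-one part, that part being of finite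
type, a relative homogeneous spectrum p : P → Y of 𝒮 (given with its charts over affine opens)
together with its twisting sheaf O_P(1) (given with its chart identifications), and an open
immersion i : X → P with dense image such that i ≫ p = q and L is isomorphic to i^*O_P(1). (The
published statement keeps the notation of the proposition it follows, in which q is of finite type;
without that hypothesis the conclusion fails, for instance for the affine space of countably
infinite dimension over a field with the structure sheaf, which is an open subscheme of a projective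
bundle over the field but is not of finite type.) -/
theorem result {X Y : Scheme.{u}}
    (hY : (CompactSpace Y ∧ Y.IsSeparated) ∨ AlgebraicGeometry.IsNoetherian Y) (q : X ⟶ Y) [QuasiCompact q] [LocallyOfFiniteType q]
    (L : X.Modules) (hL : PicF.IsInvertible L) (h : RelProj.IsRelVeryAmple q L) :
    ∃ (𝒮 : RelProj.QCGrAlg Y) (P : Scheme.{u}) (p : P ⟶ Y)
      (chart : ∀ (U : Y.Opens) (hU : IsAffineOpen U), ((p ⁻¹ᵁ U : P.Opens) : Scheme.{u}) ≅ Proj (𝒮.deg U hU))
      (O1 : P.Modules)
      (lam : ∀ (U : Y.Opens) (hU : IsAffineOpen U),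
        O1 ⟶ (Scheme.Modules.pushforward (RelProj.emb p chart U hU)).obj (GrTwist.twist (𝒮.deg U hU) 1))
      (i : X ⟶ P),
      𝒮.IsGenDegOne ∧ 𝒮.IsFTDeg 1 ∧ RelProj.IsRelProj 𝒮 p chart ∧ RelProj.IsRelTwist 𝒮 p chart 1 O1 lam ∧
        IsOpenImmersion i ∧ Dense (Set.range i.base) ∧ i ≫ p = q ∧
        Nonempty (L ≅ (Scheme.Modules.pullback i).obj O1) := by
    haveI : CompactSpace Y := hY.elim (fun h => h.1) (fun h => inferInstance)
    haveI : QuasiSeparatedSpace Y := hY.elim (fun h => (haveI := h.2; inferInstance)) (fun h => inferInstance)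
    open Groth.Agent.Lib Groth.Agent.Lib.SymAlg.PE in
    obtain ⟨E, 𝒯, j, P, p, chart, O1, lam, i, hE, hft, hj, hP, hO, hi, hip, ⟨τ⟩⟩ := exists_immersion_projBundle_ft hL h
    open Groth.Agent.Lib Groth.Agent.Lib.SymAlg.PE in
    have hgen : 𝒯.IsGenDegOne := SymAlg.Gen.isGenDegOne hj hE
    open Groth.Agent.Lib Groth.Agent.Lib.SymAlg.PE in
    have hft1 : 𝒯.IsFTDeg 1 := isFTDeg_one_of_isGrSymAlg hE hft hj
    haveI : QuasiCompact p := (Groth.Agent.Lib.RelProjBasics.Basic.finiteType_of_isGenDegOne hP hgen hft1).2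
    haveI := Groth.Agent.Lib.RelProjBasics.Basic.isSeparated hP
    haveI : QuasiCompact i := by
      haveI : QuasiCompact (i ≫ p) := hip ▸ ‹QuasiCompact q›
      exact QuasiCompact.of_comp i p
    obtain ⟨ℬ, φ, hφ, PB, pB, chartB, hm, e, hs, hPB, hh, he⟩ :=
      Groth.Agent.H81.ProjClosed.exists_quotient 𝒯 p chart hP i.imageι
    obtain ⟨OB, lamB, hOB⟩ := Groth.Agent.H81.RelProj.RelTwist.exists_isRelTwist hPB 1
    have hgB := Groth.Agent.Lib.SymAlg.PE.isGenDegOne_quot φ hφ hs hgen
    obtain ⟨hover, ⟨κ⟩⟩ := Groth.Agent.Lib.SymAlg.PE.nonempty_pullback_O1_iso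
      (B := ⟨𝒯, hgen, P, p, chart, hP, O1, lam, hO⟩) (BB := ⟨ℬ, hgB, PB, pB, chartB, hPB, OB, lamB, hOB⟩)
      hE hj φ hφ hs hm hh
    have hfac : (i.toImage ≫ e.inv) ≫ hm = i := by
      rw [Category.assoc, ← he, e.inv_hom_id_assoc, Scheme.Hom.toImage_imageι]
    refine ⟨ℬ, PB, pB, chartB, OB, lamB, i.toImage ≫ e.inv, hgB,
      Groth.Agent.Lib.SymAlg.PE.isFTDeg_quot φ hφ hs hft1, hPB, hOB, inferInstance, ?_, ?_, ?_⟩
    · haveI : IsDominant (i.toImage ≫ e.inv) := inferInstance
      exact (i.toImage ≫ e.inv).denseRange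
    · change (i.toImage ≫ e.inv) ≫ pB = q
      exact ((congrArg (fun t => (i.toImage ≫ e.inv) ≫ t) (hover : hm ≫ p = pB).symm).trans (Category.assoc _ _ _).symm).trans ((congrArg (· ≫ p) hfac).trans hip)
    · exact ⟨τ ≪≫ (Scheme.Modules.pullbackCongr hfac).symm.app O1 ≪≫
        (Scheme.Modules.pullbackComp (i.toImage ≫ e.inv) hm).symm.app O1 ≪≫
        (Scheme.Modules.pullback (i.toImage ≫ e.inv)).mapIso κ⟩

end Groth.Agent.S5726
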