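import Groth.Statements.S5730
import Groth.Agent.Lib.SymAlg.PE.TensorInv
import Groth.Agent.Lib.SymAlg.PE.TwistPow
import Groth.Agent.H81.RelProj.RelTwist

set_option autoImplicit false
universe u
open CategoryTheory CategoryTheory.Limits AlgebraicGeometry TopologicalSpace Opposite
open scoped HomogeneousIdeal
open EGA2

namespace Groth.Agent.S5730

/-- Let E be a quasi-coherent O_Y-module and L an invertible O_Y-module, 𝒮 (with j : E → 𝒮) the graded
symmetric algebra of E and 𝒯 (with k : E ⊗ L → 𝒯) that of E ⊗ L, and let p : P → Y, q : Q → Y be the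
projective bundles P(E) = Proj(𝒮) and P(E ⊗ L) = Proj(𝒯) with their charts over affine opens. Then
there is an isomorphism i : P ≅ Q over Y such that, for every n ≥ 0 and all twisting sheaves O_P(n)
and O_Q(n) (modules given with their chart identifications), i^*O_Q(n) is isomorphic to O_P(n) ⊗
p^*(L^{⊗n}). (Existence of the isomorphisms only: the published statement names a canonical i and
canonical identifications, and states the twist relation for every integer n; this row asserts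
existence and the relation for n ≥ 0.) -/
theorem result {Y P Q : Scheme.{u}} (E : Y.Modules) (hE : Coh.IsQCoh E)
    (L : Y.Modules) (hL : PicF.IsInvertible L)
    (𝒮 : RelProj.QCGrAlg Y) (j : E ⟶ 𝒮.toModule) (hj : RelProj.IsGrSymAlg E 𝒮 j)
    (𝒯 : RelProj.QCGrAlg Y) (k : CohB1.tensorMod E L ⟶ 𝒯.toModule) (hk : RelProj.IsGrSymAlg (CohB1.tensorMod E L) 𝒯 k)
    (p : P ⟶ Y)
    (chart : ∀ (U : Y.Opens) (hU : IsAffineOpen U), ((p ⁻¹ᵁ U : P.Opens) : Scheme.{u}) ≅ Proj (𝒮.deg U hU))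
    (hP : RelProj.IsRelProj 𝒮 p chart) (q : Q ⟶ Y)
    (chartQ : ∀ (U : Y.Opens) (hU : IsAffineOpen U), ((q ⁻¹ᵁ U : Q.Opens) : Scheme.{u}) ≅ Proj (𝒯.deg U hU))
    (hQ : RelProj.IsRelProj 𝒯 q chartQ) :
    ∃ i : P ≅ Q, i.hom ≫ q = p ∧
      ∀ (n : ℕ) (OP : P.Modules)
        (lamP : ∀ (U : Y.Opens) (hU : IsAffineOpen U),
          OP ⟶ (Scheme.Modules.pushforward (RelProj.emb p chart U hU)).obj (GrTwist.twist (𝒮.deg U hU) (n : ℤ)))
        (OQ : Q.Modules)
        (lamQ : ∀ (U : Y.Opens) (hU : IsAffineOpen U),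
          OQ ⟶ (Scheme.Modules.pushforward (RelProj.emb q chartQ U hU)).obj (GrTwist.twist (𝒯.deg U hU) (n : ℤ))),
        RelProj.IsRelTwist 𝒮 p chart (n : ℤ) OP lamP → RelProj.IsRelTwist 𝒯 q chartQ (n : ℤ) OQ lamQ →
          Nonempty ((Scheme.Modules.pullback i.hom).obj OQ ≅
            CohB1.tensorMod OP ((Scheme.Modules.pullback p).obj (CohB1.tensorPow L n))) := by
    have : E.IsQuasicoherent := hE
    have hLq : Coh.IsQCoh L := Groth.Agent.Lib.TensorMod.QCohInv.isQCoh_of_isInvertible hL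
    have : L.IsQuasicoherent := hLq
    have hEL : Coh.IsQCoh (CohB1.tensorMod E L) := Groth.Agent.Lib.TensorMod.TensorQCoh.isQCoh_tensorMod E L
    obtain ⟨O1, lam1, hO1⟩ := Groth.Agent.H81.RelProj.RelTwist.exists_isRelTwist hP 1
    obtain ⟨Q1, mu1, hQ1⟩ := Groth.Agent.H81.RelProj.RelTwist.exists_isRelTwist hQ 1
    have hgP : 𝒮.IsGenDegOne := Groth.Agent.Lib.SymAlg.Gen.isGenDegOne hj hE
    have hgQ : 𝒯.IsGenDegOne := Groth.Agent.Lib.SymAlg.Gen.isGenDegOne hk hEL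
    obtain ⟨i, hi, ⟨e1⟩⟩ := Groth.Agent.Lib.SymAlg.PE.exists_iso_tensor
      (B := ⟨𝒮, hgP, P, p, chart, hP, O1, lam1, hO1⟩) (BQ := ⟨𝒯, hgQ, Q, q, chartQ, hQ, Q1, mu1, hQ1⟩)
      hE hL hLq hj hk
    exact ⟨i, hi, fun n => Groth.Agent.Lib.SymAlg.PE.pullback_twist_pow hP hgP hQ hgQ i.hom L hO1 hQ1 e1 n _ rfl⟩

end Groth.Agent.S5730
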