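import Groth.Statements.S5731
import Groth.Agent.Lib.H70.BundleBC

set_option autoImplicit false
universe u
open CategoryTheory CategoryTheory.Limits AlgebraicGeometry TopologicalSpace Opposite
open scoped HomogeneousIdeal
open EGA2

namespace Groth.Agent.S5731

/-- Let ψ : Y' → Y be a morphism, E a quasi-coherent O_Y-module with graded symmetric algebra 𝒮 and
projective bundle p : P(E) = Proj(𝒮) → Y (with its charts over affine opens), and let 𝒮' be the
graded symmetric algebra of the inverse image ψ^*E, with projective bundle p' : P(ψ^*E) → Y' (with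
its charts). Then there is a morphism g : P(ψ^*E) → P(E) such that the square formed by g, p', p and
ψ is cartesian, so that P(ψ^*E) is the fibre product P(E) ×_Y Y'. (Existence of the comparison only:
the published statement identifies the two through the canonical isomorphism between the symmetric
algebra of ψ^*E and the inverse image of that of E.) -/
theorem result {Y Y' P P' : Scheme.{u}} (ψ : Y' ⟶ Y) (E : Y.Modules)
    (hE : Coh.IsQCoh E) (𝒮 : RelProj.QCGrAlg Y) (j : E ⟶ 𝒮.toModule) (hj : RelProj.IsGrSymAlg E 𝒮 j)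
    (p : P ⟶ Y)
    (chart : ∀ (U : Y.Opens) (hU : IsAffineOpen U), ((p ⁻¹ᵁ U : P.Opens) : Scheme.{u}) ≅ Proj (𝒮.deg U hU))
    (hP : RelProj.IsRelProj 𝒮 p chart)
    (𝒮' : RelProj.QCGrAlg Y') (j' : (Scheme.Modules.pullback ψ).obj E ⟶ 𝒮'.toModule)
    (hj' : RelProj.IsGrSymAlg ((Scheme.Modules.pullback ψ).obj E) 𝒮' j') (p' : P' ⟶ Y')
    (chart' : ∀ (U' : Y'.Opens) (hU' : IsAffineOpen U'), ((p' ⁻¹ᵁ U' : P'.Opens) : Scheme.{u}) ≅ Proj (𝒮'.deg U' hU'))
    (hP' : RelProj.IsRelProj 𝒮' p' chart') :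
    ∃ g : P' ⟶ P, IsPullback g p' p ψ := by
  haveI : E.IsQuasicoherent := hE
  open Groth.Agent.Lib.H70 in
  obtain ⟨u, hu₁, hu₂⟩ := SymBC.exists_u hj ψ (𝒯 := 𝒮') (jT := j')
  let φ : ∀ (U : Y.Opens) (hU : IsAffineOpen U) (U' : Y'.Opens) (hU' : IsAffineOpen U') (_ : U' ≤ ψ ⁻¹ᵁ U),
      𝒮.deg U hU →+*ᵍ 𝒮'.deg U' hU' := fun U hU U' hU' hle =>
    { toRingHom := (Groth.Agent.Lib.H70.SymBC.comp ψ u U U' hle).hom
      map_mem := fun {d x} hx => Groth.Agent.Lib.H70.SymBC.comp_mem hj ψ hj' hu₁ hu₂ U hU U' hU' hle d x hx }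
  have hirr : ∀ (U : Y.Opens) (hU : IsAffineOpen U) (U' : Y'.Opens) (hU' : IsAffineOpen U') (hle : U' ≤ ψ ⁻¹ᵁ U),
      (𝒮'.deg U' hU')₊ ≤ ((𝒮.deg U hU)₊).map (φ U hU U' hU' hle) := fun U hU U' hU' hle =>
    Groth.Agent.Lib.H70.SymBC.irrelevant_le hj ψ hj' hu₂ U hU U' hU' hle
  have hpo := Groth.Agent.Lib.H70.SymBC.isPushout hj ψ hj' hu₁ hu₂
  obtain ⟨g, hg⟩ := Groth.Agent.Lib.H70.BundleBC.exists_glue (φ := φ) (fun _ _ _ _ _ => rfl) hirr hP hP'
  exact ⟨g, Groth.Agent.H81.RelProj.BaseChange.isPullback ψ (φ := φ) (fun _ _ _ _ _ => rfl) hpo hirr hP hP' hg⟩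

end Groth.Agent.S5731
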