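import Groth.Statements.S5734
import Groth.Agent.H81.RelProj.BiprodBundle
import Groth.Agent.Lib.QCoh.Closure

set_option autoImplicit false
universe u
open CategoryTheory CategoryTheory.Limits AlgebraicGeometry TopologicalSpace Opposite
open scoped HomogeneousIdeal
open EGA2

namespace Groth.Agent.S5734

/-- Let E and F be quasi-coherent O_Y-modules with graded symmetric algebras 𝒮E, 𝒮F and let 𝒮 be the
graded symmetric algebra of E ⊕ F; let πE : 𝒮 → 𝒮E and πF : 𝒮 → 𝒮F be the graded algebra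
homomorphisms induced by the two projections of E ⊕ F (compatible with the structure maps from E ⊕
F, E and F), the irrelevant ideal of the target being generated by the image of that of the source
over every affine open (so that the induced morphisms of homogeneous spectra are everywhere
defined). Let P(E ⊕ F), P(E), P(F) be the projective bundles with their charts and hE : P(E) → P(E ⊕
F), hF : P(F) → P(E ⊕ F) the morphisms chartwise induced by πE and πF. Then the morphism P(E) ⨿ P(F)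
→ P(E ⊕ F) which restricts to hE and hF is a closed immersion: the disjoint union of P(E) and P(F)
is a closed subscheme of P(E ⊕ F). -/
theorem result {Y PE PF P : Scheme.{u}} (E F : Y.Modules)
    (hE : Coh.IsQCoh E) (hF : Coh.IsQCoh F) (𝒮E 𝒮F 𝒮 : RelProj.QCGrAlg Y)
    (jE : E ⟶ 𝒮E.toModule) (hjE : RelProj.IsGrSymAlg E 𝒮E jE)
    (jF : F ⟶ 𝒮F.toModule) (hjF : RelProj.IsGrSymAlg F 𝒮F jF)
    (j : E ⊞ F ⟶ 𝒮.toModule) (hj : RelProj.IsGrSymAlg (E ⊞ F) 𝒮 j)
    (πE : 𝒮.toQCAlg ⟶ 𝒮E.toQCAlg) (hπE : RelProj.IsGradedHom πE)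
    (hjπE : j ≫ RelSpec.QCAlg.Hom.toModuleMap πE = biprod.fst ≫ jE)
    (πF : 𝒮.toQCAlg ⟶ 𝒮F.toQCAlg) (hπF : RelProj.IsGradedHom πF)
    (hjπF : j ≫ RelSpec.QCAlg.Hom.toModuleMap πF = biprod.snd ≫ jF)
    (hirrE : ∀ (U : Y.Opens) (hU : IsAffineOpen U),
      (𝒮E.deg U hU)₊ ≤ ((𝒮.deg U hU)₊).map (RelProj.gradedHomAt πE hπE U hU))
    (hirrF : ∀ (U : Y.Opens) (hU : IsAffineOpen U),
      (𝒮F.deg U hU)₊ ≤ ((𝒮.deg U hU)₊).map (RelProj.gradedHomAt πF hπF U hU))
    (p : P ⟶ Y) (pE : PE ⟶ Y) (pF : PF ⟶ Y)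
    (chart : ∀ (U : Y.Opens) (hU : IsAffineOpen U), ((p ⁻¹ᵁ U : P.Opens) : Scheme.{u}) ≅ Proj (𝒮.deg U hU))
    (chartE : ∀ (U : Y.Opens) (hU : IsAffineOpen U), ((pE ⁻¹ᵁ U : PE.Opens) : Scheme.{u}) ≅ Proj (𝒮E.deg U hU))
    (chartF : ∀ (U : Y.Opens) (hU : IsAffineOpen U), ((pF ⁻¹ᵁ U : PF.Opens) : Scheme.{u}) ≅ Proj (𝒮F.deg U hU))
    (hP : RelProj.IsRelProj 𝒮 p chart) (hPE : RelProj.IsRelProj 𝒮E pE chartE) (hPF : RelProj.IsRelProj 𝒮F pF chartF)
    (hE' : PE ⟶ P) (hhE : RelProj.IsRelProjMap πE hπE hirrE chart chartE hE')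
    (hF' : PF ⟶ P) (hhF : RelProj.IsRelProjMap πF hπF hirrF chart chartF hF') :
    IsClosedImmersion (coprod.desc hE' hF') := by
  haveI : IsClosedImmersion hE' := Groth.Agent.H81.RelProj.Map.isClosedImmersion πE hπE hirrE hP hPE
    (Groth.Agent.H81.RelProj.BiprodBundle.surjective_app hE hjE πE biprod.inl
      (by rw [hjπE, biprod.inl_fst_assoc])) hE' hhE
  haveI : IsClosedImmersion hF' := Groth.Agent.H81.RelProj.Map.isClosedImmersion πF hπF hirrF hP hPF
    (Groth.Agent.H81.RelProj.BiprodBundle.surjective_app (E := F) (F := E) (𝒮 := 𝒮) (j := (biprod.braiding F E).hom ≫ j)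
      hF hjF πF biprod.inl (by simp [hjπF])) hF' hhF
  refine Groth.Agent.H81.RelProj.BiprodBundle.isClosedImmersion_desc hE' hF' fun x y hxy => ?_
  have hoE := (Groth.Agent.H81.RelProj.Map.existsUnique πE hπE hirrE hP hPE).2 hE' hhE
  have hoF := (Groth.Agent.H81.RelProj.Map.existsUnique πF hπF hirrF hP hPF).2 hF' hhF
  obtain ⟨U, hU, hxU, -⟩ := exists_isAffineOpen_mem_and_subset (X := Y) (U := ⊤) (x := pE x) trivial
  have hp : pE x = pF y := by
    rw [← hoE, ← hoF, Scheme.Hom.comp_apply, Scheme.Hom.comp_apply, hxy]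
  obtain ⟨w, rfl⟩ : x ∈ (RelProj.emb pE chartE U hU).opensRange := by
    rw [Groth.Agent.H81.RelProj.RelTilde.opensRange_emb]; exact hxU
  obtain ⟨v, rfl⟩ : y ∈ (RelProj.emb pF chartF U hU).opensRange := by
    rw [Groth.Agent.H81.RelProj.RelTilde.opensRange_emb]
    show pF y ∈ U
    rw [← hp]; exact hxU
  rw [← Scheme.Hom.comp_apply, ← Scheme.Hom.comp_apply,
    ← Groth.Agent.H81.RelProj.RelComap.emb_map hE' hhE ⟨U, hU⟩,
    ← Groth.Agent.H81.RelProj.RelComap.emb_map hF' hhF ⟨U, hU⟩] at hxy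
  have he := (RelProj.emb p chart U hU).isOpenEmbedding.injective hxy
  refine Groth.Agent.H81.RelProj.BiprodBundle.notMem_pair (haveI : E.IsQuasicoherent := hE; haveI : F.IsQuasicoherent := hF; Groth.Agent.Lib.QCoh.Closure.isQCoh_biprod) hj πE hπE πF hπF hjπE hjπF hU
    (Proj.map (RelProj.gradedHomAt πE hπE U hU) (hirrE U hU) w) ?_ ?_
  · exact fun a ha => Groth.Agent.H81.RelProj.BiprodBundle.ker_le_map (RelProj.gradedHomAt πE hπE U hU)
      (hirrE U hU) w _ rfl a ha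
  · exact fun a ha => Groth.Agent.H81.RelProj.BiprodBundle.ker_le_map (RelProj.gradedHomAt πF hπF U hU)
      (hirrF U hU) v _ he.symm a ha

end Groth.Agent.S5734
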