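import Groth.Statements.S5740
import Groth.Agent.H30.IdealLemmas
import Groth.Agent.H2.Rigid.FibreIso
import Mathlib.AlgebraicGeometry.ZariskisMainTheorem
import Mathlib.RingTheory.Nakayama

set_option autoImplicit false
universe u
open FCompl

namespace Groth.Agent.S5740

open AlgebraicGeometry CategoryTheory CategoryTheory.Limits

theorem away_surjective {A B A' B' : Type u} [CommRing A] [CommRing B] [CommRing A'] [CommRing B']
    [Algebra A A'] [Algebra B B'] (φ : A →+* B) (s : A)
    [IsLocalization.Away s A'] [IsLocalization.Away (φ s) B']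
    (h : ∀ b : B, ∃ a, φ s * b = φ a)
    (ψ : A' →+* B') (hψ : ∀ a, ψ (algebraMap A A' a) = algebraMap B B' (φ a)) :
    Function.Surjective ψ := by
  intro c
  obtain ⟨⟨b, ⟨_, n, rfl⟩⟩, hbc⟩ := IsLocalization.surj (Submonoid.powers (φ s)) c
  obtain ⟨a, ha⟩ := h b
  obtain ⟨v, hv⟩ := ((IsLocalization.Away.algebraMap_isUnit (S := A') s).pow (n + 1))
  refine ⟨algebraMap A A' a * ↑v⁻¹, ?_⟩
  have h1 : ψ ↑v⁻¹ * algebraMap B B' (φ s) ^ (n + 1) = 1 := by
    rw [← hψ, ← map_pow, ← hv, ← map_mul, Units.inv_mul, map_one]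
  rw [map_mul, hψ, ← ha, map_mul, ← hbc, map_pow,
    show algebraMap B B' (φ s) * (c * algebraMap B B' (φ s) ^ n) * ψ ↑v⁻¹ =
      c * (ψ ↑v⁻¹ * algebraMap B B' (φ s) ^ (n + 1)) by ring, h1, mul_one]

theorem exists_killing {A B : Type u} [CommRing A] [CommRing B] (φ : A →+* B)
    (hfin : φ.Finite) (I P : Ideal A) [P.IsPrime] (hIP : I ≤ P)
    (hsurj : ∀ b, ∃ a, φ a - b ∈ I.map φ) :
    ∃ s ∉ P, ∀ b, ∃ a, φ s * b = φ a := by
  letI := φ.toAlgebra
  haveI : Module.Finite A B := hfin
  let N : Submodule A B := LinearMap.range (Algebra.linearMap A B)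
  obtain ⟨r, hr, hr0⟩ := Submodule.exists_sub_one_mem_and_smul_eq_zero_of_fg_of_le_smul I
    (⊤ : Submodule A (B ⧸ N)) Module.Finite.fg_top (fun q _ => by
      obtain ⟨b, rfl⟩ := Submodule.Quotient.mk_surjective _ q
      obtain ⟨a, ha⟩ := hsurj b
      have h1 : (φ a - b) ∈ I • (⊤ : Submodule A B) := by
        rw [Ideal.smul_top_eq_map]; exact ha
      have h2 := Submodule.mem_map_of_mem (f := N.mkQ) h1
      rw [Submodule.map_smul'', Submodule.map_top, Submodule.range_mkQ, map_sub] at h2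
      have h3 : N.mkQ (φ a) = 0 := (Submodule.Quotient.mk_eq_zero _).2 ⟨a, rfl⟩
      rw [h3, zero_sub, neg_mem_iff] at h2
      exact h2)
  refine ⟨r, fun h => ‹P.IsPrime›.ne_top ((Ideal.eq_top_iff_one _).2 (by simpa using P.sub_mem h (hIP hr))), fun b => ?_⟩
  have := hr0 (N.mkQ b) trivial
  rw [← map_smul] at this
  obtain ⟨a, ha⟩ := (Submodule.Quotient.mk_eq_zero N).1 this
  exact ⟨a, (ha.trans (Algebra.smul_def r b)).symm⟩

theorem isClosedImmersion_near_point {X Y : Scheme.{u}} [IsLocallyNoetherian Y] (f : X ⟶ Y) [IsProper f]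
    (K : Y.IdealSheafData) (hc : FSch.PowCompat f (K.comap f) K)
    (hlev : ∀ n : ℕ, IsClosedImmersion ((FSch.completionMap f (K.comap f) K hc : FSch.Hom _ _).app n))
    (y : Y) (hy : y ∈ K.support) : ∃ V : Y.Opens, y ∈ V ∧ IsClosedImmersion (f ∣_ V) := by
  have hpb := fun n => Groth.Agent.H30.IdealLemmas.isPullback_completionMap_app f K hc n
  have hsing : (f ⁻¹' {y}).Subsingleton := by
    intro a ha b hb
    obtain ⟨z, hz⟩ : y ∈ Set.range (FSch.completionToX Y K 0) := by
      show y ∈ Set.range (K ^ (0 + 1)).subschemeι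
      rw [Scheme.IdealSheafData.range_subschemeι, Scheme.IdealSheafData.support_pow_succ]
      exact hy
    haveI := hlev 0
    have hsq := hpb 0
    have : ∀ c, f c = y → ∃ w, FSch.completionToX X (K.comap f) 0 w = c ∧
        (FSch.completionMap f (K.comap f) K hc : FSch.Hom _ _).app 0 w = z := fun c hc' => by
      obtain ⟨w, h1, h2⟩ := Scheme.Pullback.exists_preimage_pullback (f := f)
        (g := FSch.completionToX Y K 0) c z (by rw [hc', hz])
      exact ⟨hsq.isoPullback.inv w, by rw [← Scheme.Hom.comp_apply, hsq.isoPullback_inv_fst, h1],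
        by rw [← Scheme.Hom.comp_apply, hsq.isoPullback_inv_snd, h2]⟩
    obtain ⟨wa, hwa, hwa'⟩ := this a ha
    obtain ⟨wb, hwb, hwb'⟩ := this b hb
    rw [← hwa, ← hwb, ((FSch.completionMap f (K.comap f) K hc : FSch.Hom _ _).app 0).isClosedEmbedding.injective
      (hwa'.trans hwb'.symm)]
  obtain ⟨W, hyW, hWfin⟩ := exists_isFinite_morphismRestrict_of_finite_preimage_singleton f y hsing.finite
  obtain ⟨_, ⟨V, hV, rfl⟩, hyV, hVW⟩ := Y.isBasis_affineOpens.exists_subset_of_mem_open hyW W.2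
  have hVW' : V ≤ W := hVW
  haveI := hWfin
  have hU : IsAffineOpen (f ⁻¹ᵁ V) := by
    have h1 : IsAffineOpen (W.ι ⁻¹ᵁ V) := IsAffineOpen.preimage_of_isOpenImmersion hV W.ι (by simpa using hVW')
    have h2 := (h1.preimage (f ∣_ W)).image_of_isOpenImmersion (f ⁻¹ᵁ W).ι
    convert h2 using 1
    rw [← Scheme.Hom.comp_preimage, morphismRestrict_ι, Scheme.Hom.comp_preimage,
      Scheme.Hom.image_preimage_eq_opensRange_inf, Scheme.Opens.opensRange_ι]
    exact (inf_eq_right.2 (fun z hz => hVW' hz)).symm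
  have hfin : (f.app V).hom.Finite := by
    have hsq := Groth.Agent.H2.Rigid.isPullback_fromSpec f hV hU
    have hr : Set.range hV.fromSpec ⊆ Set.range W.ι := by
      rw [hV.range_fromSpec, Scheme.Opens.range_ι]; exact hVW'
    let j := IsOpenImmersion.lift W.ι hV.fromSpec hr
    have hj : j ≫ W.ι = hV.fromSpec := IsOpenImmersion.lift_fac _ _ _
    rw [← hj] at hsq
    let k := (isPullback_morphismRestrict f W).flip.lift hU.fromSpec (Spec.map (f.app V) ≫ j)
      (by rw [Category.assoc]; exact hsq.w)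
    have hk : IsPullback k (Spec.map (f.app V)) (f ∣_ W) j :=
      IsPullback.of_right (by rw [IsPullback.lift_fst]; exact hsq) (IsPullback.lift_snd _ _ _ _)
        (isPullback_morphismRestrict f W).flip
    exact (IsFinite.SpecMap_iff _).1 (MorphismProperty.of_isPullback hk hWfin)
  haveI : IsNoetherianRing Γ(Y, V) := IsLocallyNoetherian.component_noetherian ⟨V, hV⟩
  let I := K.ideal ⟨V, hV⟩
  have hmapI : ∀ n : ℕ, ((K.comap f) ^ n).ideal ⟨f ⁻¹ᵁ V, hU⟩ = (I ^ n).map (f.app V).hom := fun n => by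
    rw [Scheme.IdealSheafData.ideal_pow, Pi.pow_apply, Groth.Agent.Lib.Ideal.Comap.ideal_comap f K ⟨V, hV⟩ ⟨f ⁻¹ᵁ V, hU⟩ le_rfl,
      Ideal.map_pow, Scheme.Hom.app_eq_appLE]
  have hlevel : ∀ n : ℕ, ∀ b : Γ(X, f ⁻¹ᵁ V), ∃ a, f.app V a - b ∈ (I ^ (n + 1)).map (f.app V).hom := fun n => by
    haveI := hlev n
    let ψ : (K.comap f ^ (n + 1)).subscheme ⟶ (K ^ (n + 1)).subscheme := (FSch.completionMap f (K.comap f) K hc : FSch.Hom _ _).app n
    haveI : IsClosedImmersion ψ := hlev n
    let ιX := (K.comap f ^ (n + 1)).subschemeι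
    let ιY := (K ^ (n + 1)).subschemeι
    have w : ιX ≫ f = ψ ≫ ιY := (hpb n).w
    have hpre : ψ ⁻¹ᵁ (ιY ⁻¹ᵁ V) = ιX ⁻¹ᵁ (f ⁻¹ᵁ V) := by
      rw [← Scheme.Hom.comp_preimage, ← w, Scheme.Hom.comp_preimage]
    let c := ψ.app (ιY ⁻¹ᵁ V) ≫ (K.comap f ^ (n + 1)).subscheme.presheaf.map (eqToHom hpre.symm).op
    have hVY : IsAffineOpen (ιY ⁻¹ᵁ V) := hV.preimage ιY
    have hcs : Function.Surjective c :=
      (ConcreteCategory.bijective_of_isIso ((K.comap f ^ (n + 1)).subscheme.presheaf.map (eqToHom hpre.symm).op)).surjective.comp (ψ.app_surjective _ hVY)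
    have hnat : ∀ a, ιX.app (f ⁻¹ᵁ V) (f.app V a) = c (ιY.app V a) := fun a => by
      have := Scheme.Hom.congr_app w V
      simp only [Scheme.Hom.comp_app] at this
      have := ConcreteCategory.congr_hom this a
      exact this
    have hkerX : RingHom.ker (ιX.app (f ⁻¹ᵁ V)).hom = (I ^ (n + 1)).map (f.app V).hom := by
      rw [← hmapI]; exact Scheme.IdealSheafData.ker_subschemeι_app _ ⟨f ⁻¹ᵁ V, hU⟩
    have hkerY : RingHom.ker (ιY.app V).hom = I ^ (n + 1) := by
      refine (Scheme.IdealSheafData.ker_subschemeι_app _ ⟨V, hV⟩).trans ?_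
      rw [Scheme.IdealSheafData.ideal_pow]; rfl
    intro b
    obtain ⟨z, hz⟩ := hcs (ιX.app (f ⁻¹ᵁ V) b)
    obtain ⟨a, ha⟩ := Scheme.IdealSheafData.subschemeι_app_surjective (K ^ (n + 1)) ⟨V, hV⟩ z
    refine ⟨a, ?_⟩
    rw [← hkerX, RingHom.mem_ker, map_sub, sub_eq_zero]
    exact (hnat a).trans ((congrArg c ha).trans hz)
  have hmem : ∀ a : Γ(Y, V), y ∈ Y.basicOpen a ↔ a ∉ (hV.primeIdealOf ⟨y, hyV⟩).asIdeal := fun a => by
    conv_lhs => rw [show y = hV.fromSpec (hV.primeIdealOf ⟨y, hyV⟩) from (hV.fromSpec_primeIdealOf ⟨y, hyV⟩).symm]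
    show hV.primeIdealOf ⟨y, hyV⟩ ∈ hV.fromSpec ⁻¹ᵁ Y.basicOpen a ↔ _
    rw [hV.fromSpec_preimage_basicOpen]
    rfl
  have hP : I ≤ (hV.primeIdealOf ⟨y, hyV⟩).asIdeal := fun a ha => by
    by_contra h
    have hy0 := K.supportSet_subset_zeroLocus ⟨V, hV⟩ hy
    rw [Scheme.mem_zeroLocus_iff] at hy0
    exact hy0 a ha ((hmem a).2 h)
  obtain ⟨s, hs, hcok⟩ := exists_killing (f.app V).hom hfin I _ hP (fun b => by simpa using hlevel 0 b)
  refine ⟨Y.basicOpen s, (hmem s).2 hs, ?_⟩
  have hD := hV.basicOpen s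
  haveI : IsAffine (Y.basicOpen s).toScheme := hD
  haveI : IsAffine (f ⁻¹ᵁ Y.basicOpen s).toScheme := by rw [Scheme.preimage_basicOpen]; exact hU.basicOpen _
  refine IsClosedImmersion.of_surjective_of_isAffine _ ?_
  rw [morphismRestrict_appTop]
  have := hV.isLocalization_basicOpen s
  have := hU.isLocalization_basicOpen (f.app V s)
  let c := X.presheaf.map (eqToHom (Scheme.preimage_basicOpen f s).symm).op
  have hc' : Function.Bijective c := ConcreteCategory.bijective_of_isIso _
  have hkey : Function.Surjective (fun z => c (f.app (Y.basicOpen s) z)) := by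
    refine away_surjective (f.app V).hom s hcok ((f.app (Y.basicOpen s)) ≫ c).hom fun a => ?_
    have hn := congr($(Scheme.Hom.naturality f (homOfLE (Y.basicOpen_le s)).op) a)
    show c (f.app (Y.basicOpen s) (Y.presheaf.map (homOfLE (Y.basicOpen_le s)).op a)) = _
    simp only [CommRingCat.comp_apply] at hn
    rw [hn]
    exact (ConcreteCategory.congr_hom (X.presheaf.map_comp _ _) _).symm
  have h0 : Function.Surjective (f.app (Y.basicOpen s)) := fun x => by
    obtain ⟨z, hz⟩ := hkey (c x)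
    exact ⟨z, hc'.1 hz⟩
  have h1 : Function.Surjective (f.app ((Y.basicOpen s).ι ''ᵁ ⊤)) := by
    rw [(Y.basicOpen s).ι_image_top]; exact h0
  exact (ConcreteCategory.bijective_of_isIso (X.presheaf.map
    (eqToHom (image_morphismRestrict_preimage f (Y.basicOpen s) ⊤)).op)).surjective.comp h1

theorem isClosed_restrict_of_le {X Y : Scheme.{u}} (f : X ⟶ Y) {V W : Y.Opens} (h : V ≤ W)
    (hW : IsClosedImmersion (f ∣_ W)) : IsClosedImmersion (f ∣_ V) := by
  haveI := hW
  have := ((show MorphismProperty Scheme.{u} from @IsClosedImmersion).arrow_mk_iso_iff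
    (morphismRestrictRestrict f W (W.ι ⁻¹ᵁ V))).1 (inferInstanceAs (IsClosedImmersion ((f ∣_ W) ∣_ (W.ι ⁻¹ᵁ V))))
  rwa [show W.ι ''ᵁ (W.ι ⁻¹ᵁ V) = V by
    rw [Scheme.Hom.image_preimage_eq_opensRange_inf, Scheme.Opens.opensRange_ι]
    exact inf_eq_right.2 h] at this

theorem isClosed_of_near {X Y : Scheme.{u}} (f : X ⟶ Y) (K : Y.IdealSheafData) (hc : FSch.PowCompat f (K.comap f) K)
    (V : Y.Opens) (hKV : (K.support : Set Y) ⊆ V) [IsClosedImmersion (f ∣_ V)] (n : ℕ) :
    IsClosedImmersion ((FSch.completionMap f (K.comap f) K hc : FSch.Hom _ _).app n) := by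
  have hpb := Groth.Agent.H30.IdealLemmas.isPullback_completionMap_app f K hc n
  have hr : Set.range (FSch.completionToX Y K n) ⊆ Set.range V.ι := by
    show Set.range (K ^ (n + 1)).subschemeι ⊆ _
    rw [Scheme.IdealSheafData.range_subschemeι, Scheme.IdealSheafData.support_pow_succ, Scheme.Opens.range_ι]
    exact hKV
  let j := IsOpenImmersion.lift V.ι (FSch.completionToX Y K n) hr
  have hj : j ≫ V.ι = FSch.completionToX Y K n := IsOpenImmersion.lift_fac _ _ _
  rw [← hj] at hpb
  let ψ := (FSch.completionMap f (K.comap f) K hc : FSch.Hom _ _).app n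
  let k := (isPullback_morphismRestrict f V).flip.lift (FSch.completionToX X (K.comap f) n) (ψ ≫ j)
    (by rw [Category.assoc]; exact hpb.w)
  have hk : IsPullback k ψ (f ∣_ V) j :=
    IsPullback.of_right (by rw [IsPullback.lift_fst]; exact hpb) (IsPullback.lift_snd _ _ _ _)
      (isPullback_morphismRestrict f V).flip
  exact MorphismProperty.of_isPullback (P := (show MorphismProperty Scheme.{u} from @IsClosedImmersion)) hk
    (show IsClosedImmersion (f ∣_ V) from inferInstance)

open AlgebraicGeometry CategoryTheory in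
/-- Closed-immersion case (completions presented by the closed subschemes of the powers of an ideal
sheaf on the base and of its inverse image ideals, so that a closed immersion of completions is read
as a completed morphism all of whose levels are closed immersions; the compatibility hypothesis hc
always holds and is carried as data). Let Z be a locally Noetherian scheme, g : X → Z and h : Y → Z
proper morphisms, f : X → Y a morphism with f ≫ h = g, and 𝓙 an ideal sheaf on Z. Then every level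
of the completed morphism X̂ → Ŷ is a closed immersion if and only if there is an open subset U of Z
containing the support of 𝓙 such that the restriction g⁻¹(U) → h⁻¹(U) of f is a closed immersion. -/
theorem result {X Y Z : Scheme.{u}} [IsLocallyNoetherian Z]
    (g : X ⟶ Z) (h : Y ⟶ Z) [IsProper g] [IsProper h] (f : X ⟶ Y) (w : f ≫ h = g)
    (𝓙 : Z.IdealSheafData) (hc : FSch.PowCompat f (𝓙.comap g) (𝓙.comap h)) :
    (∀ n : ℕ, IsClosedImmersion
        ((FSch.completionMap f (𝓙.comap g) (𝓙.comap h) hc : FSch.Hom _ _).app n)) ↔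
      ∃ U : Z.Opens, (𝓙.support : Set Z) ⊆ U ∧ IsClosedImmersion (f ∣_ h ⁻¹ᵁ U) := by
  subst w
  haveI : IsProper f := IsProper.of_comp f h
  haveI : IsLocallyNoetherian Y := LocallyOfFiniteType.isLocallyNoetherian h
  let K := 𝓙.comap h
  have hK : 𝓙.comap (f ≫ h) = K.comap f := by rw [Scheme.IdealSheafData.comap_comp]
  have key : ∀ (Kf : X.IdealSheafData) (e : Kf = K.comap f) (hc' : FSch.PowCompat f Kf K) (n : ℕ),
      IsClosedImmersion ((FSch.completionMap f Kf K hc' : FSch.Hom _ _).app n) ↔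
        IsClosedImmersion ((FSch.completionMap f (K.comap f) K (e ▸ hc') : FSch.Hom _ _).app n) := by
    rintro Kf rfl hc' n; rfl
  constructor
  · intro hall
    have hall' := fun n => (key _ hK hc n).1 (hall n)
    choose V hV hVi using fun y : K.support => isClosedImmersion_near_point f K _ hall' y.1 y.2
    let W : Y.Opens := ⨆ y, V y
    have hW : IsClosedImmersion (f ∣_ W) := by
      refine (IsZariskiLocalAtTarget.iff_of_iSup_eq_top (P := (show MorphismProperty Scheme.{u} from @IsClosedImmersion))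
        (fun y => W.ι ⁻¹ᵁ V y) ?_).2 fun y => ?_
      · rw [← Scheme.Hom.preimage_iSup]
        exact W.ι_preimage_self
      · refine ((show MorphismProperty Scheme.{u} from @IsClosedImmersion).arrow_mk_iso_iff
          (morphismRestrictRestrict f W (W.ι ⁻¹ᵁ V y))).2 ?_
        rw [show W.ι ''ᵁ (W.ι ⁻¹ᵁ V y) = V y by
          rw [Scheme.Hom.image_preimage_eq_opensRange_inf, Scheme.Opens.opensRange_ι]
          exact inf_eq_right.2 (le_iSup V y)]
        exact hVi y
    refine ⟨⟨(h '' (W : Set Y)ᶜ)ᶜ, (h.isClosedMap _ W.2.isClosed_compl).isOpen_compl⟩, ?_, ?_⟩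
    · rintro z hz ⟨y, hy, rfl⟩
      have hyK : y ∈ K.support := by
        show y ∈ (𝓙.comap h).support
        rw [Scheme.IdealSheafData.support_comap]
        exact hz
      exact hy (TopologicalSpace.Opens.mem_iSup.2 ⟨⟨y, hyK⟩, hV _⟩)
    · exact isClosed_restrict_of_le f
        (fun y hy => by_contra fun hy' => hy ⟨y, hy', rfl⟩) hW
  · rintro ⟨U, hU, hiso⟩ n
    refine (key _ hK hc n).2 (isClosed_of_near f K _ (h ⁻¹ᵁ U) ?_ n)
    show ((𝓙.comap h).support : Set Y) ⊆ _
    rw [Scheme.IdealSheafData.support_comap]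
    exact fun y hy => hU hy


end Groth.Agent.S5740
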