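import Groth.Statements.S5742
import Groth.Agent.H30.Agree
import Groth.Agent.H95.Units.Cuts

set_option autoImplicit false
set_option backward.isDefEq.respectTransparency false
universe u


namespace Groth.Agent.S5742

open AlgebraicGeometry CategoryTheory CategoryTheory.Limits in
/-- Let A be a Noetherian ring separated and complete for the I-adic topology, X proper over Spec A and
Y locally of finite type over Spec A; write X_n = X ×_A Spec(A/I^(n+1)). Two A-morphisms φ, ψ : X →
Y whose restrictions to X_n coincide for every n are equal. (The published statement takes Y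
separated and of finite type over A, which the surjectivity half needs; injectivity uses neither
separatedness nor quasi-compactness of Y. Together with the existence of an A-morphism inducing any
compatible system of morphisms X_n → Y_n, this is the bijectivity of f ↦ f̂ from A-morphisms X → Y
to morphisms of the completions.) -/
theorem result (A : Type u) [CommRing A] [IsNoetherianRing A]
    (I : Ideal A) [IsAdicComplete I A] {X Y : Scheme.{u}} (f : X ⟶ Spec (CommRingCat.of A))
    (h : Y ⟶ Spec (CommRingCat.of A)) [IsProper f] [LocallyOfFiniteType h] (φ ψ : X ⟶ Y)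
    (hφ : φ ≫ h = f) (hψ : ψ ≫ h = f)
    (e : ∀ n : ℕ, CohB1.thickι f I n ≫ φ = CohB1.thickι f I n ≫ ψ) : φ = ψ := by
  haveI : IsLocallyNoetherian X := LocallyOfFiniteType.isLocallyNoetherian f
  have hcl : ∀ n, IsClosedImmersion (CohB1.thickι f I n) := fun n =>
    (Groth.Agent.H95.Units.cuts_quotient (I ^ (n + 1)) f).closed
  have hk : ∀ n, (CohB1.thickι f I n).ker = (CohB1.thickι f I 0).ker ^ (n + 1) := fun n => by
    haveI := hcl n
    haveI := hcl 0
    refine Scheme.IdealSheafData.ext (funext fun U => ?_)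
    have k : ∀ m : ℕ, RingHom.ker ((CohB1.thickι f I m).app U.1).hom =
        Ideal.map (Groth.Agent.H95.Units.α f U.1) (I ^ (m + 1)) := fun m =>
      (Groth.Agent.H95.Units.cuts_quotient (I ^ (m + 1)) f).ker U
    rw [Scheme.IdealSheafData.ideal_pow, Pi.pow_apply, Scheme.Hom.ker_apply, Scheme.Hom.ker_apply,
      k n, k 0, zero_add, pow_one, Ideal.map_pow]
  let J := (CohB1.thickι f I 0).ker
  have hJ : ∀ n : ℕ, (J ^ (n + 1)).subschemeι ≫ φ = (J ^ (n + 1)).subschemeι ≫ ψ := fun n => by
    haveI := hcl n
    have hle : (CohB1.thickι f I n).ker ≤ (J ^ (n + 1)).subschemeι.ker := by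
      rw [Scheme.IdealSheafData.ker_subschemeι, hk]
    rw [← IsClosedImmersion.lift_fac (CohB1.thickι f I n) _ hle, Category.assoc, e n, Category.assoc]
  obtain ⟨U, hU, hUeq⟩ := Groth.Agent.H30.Agree.eq_on_nhd φ ψ J hJ
  have htop : U = ⊤ := by
    refine eq_top_iff.2 fun x _ => ?_
    by_contra hx
    obtain ⟨m, hm, hxm⟩ := Ideal.exists_le_maximal _ (f x).isPrime.ne_top
    have hc : IsClosed (f '' (U : Set X)ᶜ) := f.isClosedMap _ U.isOpen.isClosed_compl
    obtain ⟨y, hy, hym⟩ : (⟨m, hm.isPrime⟩ : PrimeSpectrum A) ∈ f '' (U : Set X)ᶜ :=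
      ((PrimeSpectrum.le_iff_specializes (f x) ⟨m, hm.isPrime⟩).1 hxm).mem_closed hc ⟨x, hx, rfl⟩
    refine hy (hU ?_)
    haveI := hcl 0
    rw [Scheme.Hom.support_ker]
    refine subset_closure ?_
    have hIm : I ^ (0 + 1) ≤ m := by
      rw [zero_add, pow_one]
      exact (IsAdicComplete.le_jacobson_bot (I := I)).trans (sInf_le ⟨bot_le, hm⟩)
    obtain ⟨z, hz, -⟩ := Scheme.Pullback.exists_preimage_pullback (f := f) (g := CohB1.specQuot I 0) y
      (⟨m.map (Ideal.Quotient.mk (I ^ (0 + 1))), by
        haveI := hm.isPrime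
        exact Ideal.map_isPrime_of_surjective Ideal.Quotient.mk_surjective (by rw [Ideal.mk_ker]; exact hIm)⟩ :
          PrimeSpectrum (A ⧸ I ^ (0 + 1))) (by
        rw [hym]
        refine PrimeSpectrum.ext ?_
        show m = (m.map (Ideal.Quotient.mk (I ^ (0 + 1)))).comap (Ideal.Quotient.mk (I ^ (0 + 1)))
        rw [Ideal.comap_map_of_surjective _ Ideal.Quotient.mk_surjective, ← RingHom.ker_eq_comap_bot,
          Ideal.mk_ker, sup_eq_left.2 hIm])
    exact ⟨z, hz⟩
  subst htop
  haveI : IsIso (⊤ : X.Opens).ι := inferInstanceAs (IsIso X.topIso.hom)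
  exact (cancel_epi ((⊤ : X.Opens).ι)).1 hUeq

end Groth.Agent.S5742

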