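import Groth.Statements.S5744
import Groth.Agent.Lib.QCoh.Closure
import Groth.Agent.Lib.QCoh.Pushforward
import Groth.Agent.Lib.Cech.Module
-- import your own Groth.Agent.* helpers here

set_option autoImplicit false
universe u
open Coherent

namespace Groth.Agent.S5744

open AlgebraicGeometry CategoryTheory in
/-- For the Čech complex of sheaves indexed by all ordered tuples with products as terms; over a finite
index type these terms are finite direct sums. Let X be a separated scheme, (U_i)_{i ∈ ι} a finite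
family of affine opens covering X, and F a quasi-coherent O_X-module. Then for every p the degree-p
term of the Čech complex of sheaves 𝔠(𝒰, F), the product over ordered (p+1)-tuples of the direct
images (j_{i_0…i_p})_*(F|_{U_{i_0…i_p}}), is a quasi-coherent O_X-module. -/
theorem result {X : Scheme.{u}} [X.IsSeparated] {ι : Type u}
    [Finite ι] (𝒰 : ι → X.Opens) (h𝒰 : ∀ i, IsAffineOpen (𝒰 i)) (hcov : ⨆ i, 𝒰 i = ⊤)
    (F : X.Modules) [Coh.IsQCoh F] (p : ℕ) :
    Coh.IsQCoh (((CechOX.cechSh 𝒰).obj F).X p) := by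
  classical
  have : Fintype ι := Fintype.ofFinite ι
  have hc : ∀ i : Fin (p + 1) → ι, IsCompact ((∏ᶜ (𝒰 ∘ i) : X.Opens) : Set X) := fun i => by
    rw [Groth.Agent.Lib.Cech.Complex.pi_eq_inter (X := X.toPresheafedSpace.carrier) 𝒰 i]
    exact Groth.Agent.Lib.Cech.Module.isCompact_inter (X := X) 𝒰 (fun k => (h𝒰 k).isCompact) i
  let W : (Fin (p + 1) → ι) → X.Modules := fun i => (CechOX.pushRestr (∏ᶜ (𝒰 ∘ i))).obj F
  have hW : ∀ i, Coh.IsQCoh (W i) := fun i => by
    have : CompactSpace ((∏ᶜ (𝒰 ∘ i) : X.Opens) : Scheme.{u}) := isCompact_iff_compactSpace.mp (hc i)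
    have : QuasiSeparated ((∏ᶜ (𝒰 ∘ i) : X.Opens).ι) := inferInstance
    have : QuasiCompact ((∏ᶜ (𝒰 ∘ i) : X.Opens).ι) := inferInstance
    have : ((Scheme.Modules.restrictFunctor (∏ᶜ (𝒰 ∘ i) : X.Opens).ι).obj F).IsQuasicoherent :=
      inferInstance
    exact Groth.Agent.Lib.QCoh.Pushforward.isQCoh_pushforward
      ((∏ᶜ (𝒰 ∘ i) : X.Opens).ι)
      (M := (Scheme.Modules.restrictFunctor (∏ᶜ (𝒰 ∘ i) : X.Opens).ι).obj F)
  have : Limits.HasFiniteBiproducts X.Modules := Abelian.hasFiniteBiproducts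
  change Coh.IsQCoh (∏ᶜ W)
  refine (SheafOfModules.isQuasicoherent X.ringCatSheaf).prop_of_iso (Limits.biproduct.isoProduct W) ?_
  exact Groth.Agent.Lib.QCoh.Closure.isQCoh_of_isColimit (Limits.biproduct.isColimit W)
    (fun i => hW i.as)

end Groth.Agent.S5744
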