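import Groth.Statements.S5746
import Groth.Agent.H81.RelProj.AlphaUniform
import Groth.Agent.Lib.AlphaBij.GrModAlpha

set_option linter.style.haveILetI false

set_option autoImplicit false
universe u
open CategoryTheory CategoryTheory.Limits AlgebraicGeometry Opposite TopologicalSpace
open scoped HomogeneousIdeal
noncomputable section
open Coherent

namespace Groth.Agent.S5746

open Groth.Agent.H81.RelProj Groth.Agent.H81.RelProj.GrTilde.Frac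
open scoped HomogeneousIdeal

section

variable {Y : Scheme.{u}} {𝒮 : RelProj.QCGrAlg Y} (ℳ : RelProj.GrModule 𝒮) (n : ℕ)

/-- `α_n` is bijective on the affine open `U`. -/
abbrev Good (U : Y.affineOpens) : Prop :=
  Function.Bijective (GrMod.alpha (𝒮.deg U.1 U.2) (ℳ.deg U.1 U.2) n)

/-- Restriction of global sections of `ℳ(n)~` to a basic open of the base. -/
def down {D U : Y.affineOpens} (h : RelTilde.Rel D U) :
    GrMod.sect (𝒮.deg U.1 U.2) (ℳ.deg U.1 U.2) (n : ℤ) (op ⊤) →+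
      GrMod.sect (𝒮.deg D.1 D.2) (ℳ.deg D.1 D.2) (n : ℤ) (op ⊤) :=
  GrMod.comapApp (𝒮.res U.2 D.2 h.le) (RelTilde.irr 𝒮 h) (ℳ.res U.2 D.2 h.le) (ℳ.res_mem U.2 D.2 h.le)
    (n : ℤ) ⊤ ⊤ (fun _ _ => trivial)

private theorem down_alpha {D U : Y.affineOpens} (h : RelTilde.Rel D U) (m : ℳ.deg U.1 U.2 n) :
    down ℳ n h (GrMod.alpha (𝒮.deg U.1 U.2) (ℳ.deg U.1 U.2) n m) =
      GrMod.alpha (𝒮.deg D.1 D.2) (ℳ.deg D.1 D.2) n
        ⟨ℳ.res U.2 D.2 h.le m.1, ℳ.res_mem U.2 D.2 h.le n _ m.2⟩ :=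
  sect_ext (U := ⊤) fun y => by
    change GrMod.locModMap (𝒮.res U.2 D.2 h.le) (RelTilde.irr 𝒮 h) (ℳ.res U.2 D.2 h.le) y.1
      (LocalizedModule.mk m.1 1) = LocalizedModule.mk (ℳ.res U.2 D.2 h.le m.1) 1
    rw [GrMod.locModMap_mk]
    exact congrArg _ (Subtype.ext (map_one (𝒮.res U.2 D.2 h.le).toRingHom))

private theorem alpha_res_eq {D U : Y.affineOpens} (h : RelTilde.Rel D U) (m m' : ℳ.deg U.1 U.2 n)
    (e : GrMod.alpha (𝒮.deg U.1 U.2) (ℳ.deg U.1 U.2) n m = GrMod.alpha (𝒮.deg U.1 U.2) (ℳ.deg U.1 U.2) n m') :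
    GrMod.alpha (𝒮.deg D.1 D.2) (ℳ.deg D.1 D.2) n ⟨ℳ.res U.2 D.2 h.le m.1, ℳ.res_mem U.2 D.2 h.le n _ m.2⟩ =
      GrMod.alpha (𝒮.deg D.1 D.2) (ℳ.deg D.1 D.2) n ⟨ℳ.res U.2 D.2 h.le m'.1, ℳ.res_mem U.2 D.2 h.le n _ m'.2⟩ :=
  (down_alpha ℳ n h m).symm.trans ((congrArg (fun q => down ℳ n h q) e).trans (down_alpha ℳ n h m'))

private theorem down_down {C D U : Y.affineOpens} (h₁ : RelTilde.Rel C D) (h₂ : RelTilde.Rel D U)
    (t : GrMod.sect (𝒮.deg U.1 U.2) (ℳ.deg U.1 U.2) (n : ℤ) (op ⊤)) :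
    down ℳ n h₁ (down ℳ n h₂ t) = down ℳ n (h₁.trans h₂) t :=
  RelTilde.comapApp_comp (RelTilde.res_trans' h₁ h₂) (RelTilde.res_trans ℳ h₁ h₂) _ _ _ _ _ _ _ t

/-- The sheaf of abelian groups underlying `ℳ`. -/
def msheaf : TopCat.Sheaf Ab.{u} Y.carrier :=
  ⟨((AMod.toOS 𝒮.toQCAlg).obj ℳ.mod).presheaf, ((AMod.toOS 𝒮.toQCAlg).obj ℳ.mod).isSheaf⟩

private theorem msheaf_res {U D : Y.affineOpens} (i : D.1 ≤ U.1) (g : ℳ.mod.val.obj (op U.1)) :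
    ((msheaf ℳ).1.map (homOfLE i).op (g : (msheaf ℳ).1.obj (op U.1)) : ℳ.mod.val.obj (op D.1)) =
      ℳ.res U.2 D.2 i g := rfl

private theorem ext_of_cover (V : Y.affineOpens) {ι : Type u} (D : ι → Y.affineOpens) (hD : ∀ i, (D i).1 ≤ V.1)
    (hle : V.1 ≤ ⨆ i, (D i).1) {a b : ℳ.mod.val.obj (op V.1)}
    (h : ∀ i, ℳ.res V.2 (D i).2 (hD i) a = ℳ.res V.2 (D i).2 (hD i) b) : a = b :=
  (msheaf ℳ).eq_of_locally_eq' (fun i => (D i).1) V.1 (fun i => homOfLE (hD i)) hle a b fun i =>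
    (msheaf_res ℳ (hD i) a).trans ((h i).trans (msheaf_res ℳ (hD i) b).symm)

private theorem exists_glue (V : Y.affineOpens) {ι : Type u} (D : ι → Y.affineOpens) (hD : ∀ i, (D i).1 ≤ V.1)
    (hle : V.1 ≤ ⨆ i, (D i).1) (m : ∀ i, ℳ.mod.val.obj (op (D i).1))
    (C : ι → ι → Y.affineOpens) (hC : ∀ i j, (C i j).1 = (D i).1 ⊓ (D j).1)
    (h₁ : ∀ i j, (C i j).1 ≤ (D i).1) (h₂ : ∀ i j, (C i j).1 ≤ (D j).1)
    (h : ∀ i j, ℳ.res (D i).2 (C i j).2 (h₁ i j) (m i) = ℳ.res (D j).2 (C i j).2 (h₂ i j) (m j)) :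
    ∃ g : ℳ.mod.val.obj (op V.1), ∀ i, ℳ.res V.2 (D i).2 (hD i) g = m i := by
  obtain ⟨g, hg, -⟩ := (msheaf ℳ).existsUnique_gluing' (fun i => (D i).1) V.1
    (fun i => homOfLE (hD i)) hle m (fun i j => by
      have key : ∀ (W : Y.Opens) (_ : W = (C i j).1) (a : W ⟶ (D i).1) (b : W ⟶ (D j).1),
          (msheaf ℳ).1.map a.op (m i) = (msheaf ℳ).1.map b.op (m j) := by
        rintro W rfl a b
        exact (msheaf_res ℳ (h₁ i j) (m i)).trans ((h i j).trans (msheaf_res ℳ (h₂ i j) (m j)).symm)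
      exact key _ (hC i j).symm _ _)
  exact ⟨g, fun i => (msheaf_res ℳ (hD i) g).symm.trans (hg i)⟩

private theorem good_of_rel (hloc : RelTilde.Loc ℳ) {D U : Y.affineOpens} (h : RelTilde.Rel D U)
    [IsNoetherianRing (𝒮.presheaf.obj (op U.1))] (hU : Good ℳ n U) : Good ℳ n D := by
  haveI := RelTilde.isOpenImmersion_map (𝒮 := 𝒮) h
  have hemb : Topology.IsOpenEmbedding (ProjectiveSpectrum.comap (𝒮.res U.2 D.2 h.le) (RelTilde.irr 𝒮 h)) :=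
    (Proj.map (𝒮.res U.2 D.2 h.le) (RelTilde.irr 𝒮 h)).isOpenEmbedding
  obtain ⟨D, hD⟩ := D; obtain ⟨U, hU'⟩ := U
  obtain ⟨r, rfl : Y.basicOpen r = D⟩ := h
  obtain ⟨s, hs⟩ := AlphaUniform.exists_isGens (𝒜 := 𝒮.deg U hU')
  exact AlphaUniform.alpha_bijective _ (ℳ.res_mem hU' hD (Y.basicOpen_le r)) (Chart.isLocHom 𝒮 hU' r)
    (hloc U hU' r) hemb hs hU

private theorem alpha_res_of {C D V : Y.affineOpens} (h₁ : RelTilde.Rel C D) (h₂ : RelTilde.Rel D V)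
    {t : GrMod.sect (𝒮.deg V.1 V.2) (ℳ.deg V.1 V.2) (n : ℤ) (op ⊤)} (m : ℳ.deg D.1 D.2 n)
    (e : GrMod.alpha (𝒮.deg D.1 D.2) (ℳ.deg D.1 D.2) n m = down ℳ n h₂ t) :
    GrMod.alpha (𝒮.deg C.1 C.2) (ℳ.deg C.1 C.2) n ⟨ℳ.res D.2 C.2 h₁.le m.1, ℳ.res_mem D.2 C.2 h₁.le n _ m.2⟩ =
      down ℳ n (h₁.trans h₂) t :=
  (down_alpha ℳ n h₁ m).symm.trans ((congrArg (fun q => down ℳ n h₁ q) e).trans (down_down ℳ n h₁ h₂ t))

private theorem val_eq_of_down (hloc : RelTilde.Loc ℳ) {D V : Y.affineOpens} (h : RelTilde.Rel D V)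
    {σ t : GrMod.sect (𝒮.deg V.1 V.2) (ℳ.deg V.1 V.2) (n : ℤ) (op ⊤)}
    (e : down ℳ n h σ = down ℳ n h t) (w : (⊤ : Opens (ProjectiveSpectrum.top (𝒮.deg V.1 V.2))))
    (hw : V.2.fromSpec (Groth.Agent.Lib.RelProjBasics.Basic.chartStr 𝒮 V.1 V.2 w.1) ∈ D.1) :
    val σ w = val t w := by
  obtain ⟨D, hD⟩ := D
  obtain ⟨r, rfl : Y.basicOpen r = D⟩ := h
  obtain ⟨z, hz⟩ : w.1 ∈ (Chart.ρ 𝒮 V.2 r).opensRange := by
    rw [← Chart.preimage_eq_opensRange 𝒮 V.2 r]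
    show Groth.Agent.Lib.RelProjBasics.Basic.chartStr 𝒮 V.1 V.2 w.1 ∈ PrimeSpectrum.basicOpen r
    rw [← V.2.fromSpec_preimage_basicOpen]
    exact hw
  obtain ⟨w, hw'⟩ := w
  change Chart.ρ 𝒮 V.2 r z = w at hz
  subst hz
  have h3 := congrArg (fun q : GrMod.sect (𝒮.deg (Y.basicOpen r) (V.2.basicOpen r))
    (ℳ.deg (Y.basicOpen r) (V.2.basicOpen r)) (n : ℤ) (op ⊤) => val q ⟨z, trivial⟩) e
  exact TildeLocal.locModMap_injective _ (Chart.isLocHom 𝒮 V.2 r) (hloc V.1 V.2 r) z h3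

private theorem good_of_cover (hloc : RelTilde.Loc ℳ) (V : Y.affineOpens)
    (H : ∀ y ∈ V.1, ∃ (D : Y.affineOpens) (_ : RelTilde.Rel D V), y ∈ D.1 ∧
      ∀ C : Y.affineOpens, RelTilde.Rel C D → Good ℳ n C) : Good ℳ n V := by
  classical
  choose D hD hyD hgood using H
  have hle : V.1 ≤ iSup (fun y : V.1 => (D y.1 y.2).1) := fun y hy => Opens.mem_iSup.2 ⟨⟨y, hy⟩, hyD y hy⟩
  have hself : ∀ {W : Y.affineOpens}, RelTilde.Rel W W := fun {W} => ⟨1, Scheme.basicOpen_of_isUnit Y isUnit_one⟩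
  constructor
  · intro m m' h
    refine Subtype.ext (ext_of_cover ℳ V (fun y : V.1 => D y.1 y.2) (fun y => (hD y.1 y.2).le) hle fun y => ?_)
    have h2 := alpha_res_eq ℳ n (hD y.1 y.2) m m' h
    exact congrArg Subtype.val ((hgood y.1 y.2 _ hself).1 (a₁ := ⟨_, ℳ.res_mem V.2 (D y.1 y.2).2 (hD y.1 y.2).le n _ m.2⟩)
      (a₂ := ⟨_, ℳ.res_mem V.2 (D y.1 y.2).2 (hD y.1 y.2).le n _ m'.2⟩) h2)
  intro t
  choose m hm using fun y : V.1 => (hgood y.1 y.2 _ hself).2 (down ℳ n (hD y.1 y.2) t)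
  have hovl : ∀ y z : V.1, ∃ C : Y.affineOpens, C.1 = (D y.1 y.2).1 ⊓ (D z.1 z.2).1 ∧
      RelTilde.Rel C (D y.1 y.2) ∧ RelTilde.Rel C (D z.1 z.2) := by
    intro y z
    obtain ⟨⟨r, hr⟩, s, hs⟩ := hD y.1 y.2, hD z.1 z.2
    refine ⟨⟨Y.basicOpen (r * s), V.2.basicOpen _⟩, (Y.basicOpen_mul r s).trans (congrArg₂ (· ⊓ ·) hr hs), ?_, ?_⟩
    · exact ⟨Y.presheaf.map (homOfLE (hD y.1 y.2).le).op s, (Y.basicOpen_res _ _).trans
        ((congrArg ((D y.1 y.2).1 ⊓ ·) hs).trans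
          ((Y.basicOpen_mul r s).trans (congrArg₂ (· ⊓ ·) hr hs)).symm)⟩
    · exact ⟨Y.presheaf.map (homOfLE (hD z.1 z.2).le).op r, (Y.basicOpen_res _ _).trans
        (((congrArg ((D z.1 z.2).1 ⊓ ·) hr).trans (inf_comm _ _)).trans
          ((Y.basicOpen_mul r s).trans (congrArg₂ (· ⊓ ·) hr hs)).symm)⟩
  choose C hC hCy hCz using hovl
  obtain ⟨g, hg⟩ := exists_glue ℳ V (fun y : V.1 => D y.1 y.2) (fun y => (hD y.1 y.2).le) hle
    (fun y => (m y).1) C hC (fun y z => (hCy y z).le) (fun y z => (hCz y z).le) fun y z => by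
      exact congrArg Subtype.val ((hgood y.1 y.2 _ (hCy y z)).1
        (a₁ := ⟨_, ℳ.res_mem (D y.1 y.2).2 (C y z).2 (hCy y z).le n _ (m y).2⟩)
        (a₂ := ⟨_, ℳ.res_mem (D z.1 z.2).2 (C y z).2 (hCz y z).le n _ (m z).2⟩)
        ((alpha_res_of ℳ n (hCy y z) (hD y.1 y.2) (m y) (hm y)).trans
          (alpha_res_of ℳ n (hCz y z) (hD z.1 z.2) (m z) (hm z)).symm))
  let g' : ℳ.mod.val.obj (op V.1) := g
  refine ⟨⟨_, SetLike.coe_mem (DirectSum.decompose (ℳ.deg V.1 V.2) g' n)⟩, sect_ext (U := ⊤) fun w => ?_⟩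
  have hpt : V.2.fromSpec (Groth.Agent.Lib.RelProjBasics.Basic.chartStr 𝒮 V.1 V.2 w.1) ∈ V.1 := by
    rw [← SetLike.mem_coe, ← V.2.range_fromSpec]; exact ⟨_, rfl⟩
  let y : V.1 := ⟨_, hpt⟩
  have hdown : down ℳ n (hD y.1 y.2) (GrMod.alpha (𝒮.deg V.1 V.2) (ℳ.deg V.1 V.2) n
      ⟨_, SetLike.coe_mem (DirectSum.decompose (ℳ.deg V.1 V.2) g' n)⟩) = down ℳ n (hD y.1 y.2) t := by
    refine (down_alpha ℳ n (hD y.1 y.2) _).trans (Eq.trans ?_ (hm y))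
    refine congrArg _ (Subtype.ext ?_)
    show ℳ.res V.2 (D y.1 y.2).2 (hD y.1 y.2).le _ = (m y).1
    rw [TildeLocal.decompose_map (ℳ.res V.2 (D y.1 y.2).2 (hD y.1 y.2).le) (ℳ.res_mem _ _ _),
      show ℳ.res V.2 (D y.1 y.2).2 (hD y.1 y.2).le g' = (m y).1 from hg y,
      DirectSum.decompose_of_mem_same _ (m y).2]
  exact val_eq_of_down ℳ n hloc (hD y.1 y.2) hdown w (hyD y.1 y.2)

end

/-- Let Y be a Noetherian scheme, 𝒮 a quasi-coherent positively graded O_Y-algebra of finite type and ℳ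
a quasi-coherent graded 𝒮-module (non-negatively graded here) satisfying (TF). Then there is one
integer N such that for every n ≥ N and every affine open U of Y the canonical map α_n : ℳ(U)_n →
Γ(Proj 𝒮(U), (ℳ(U)(n))~), m ↦ m/1, is bijective. (The statement is read on the sections over the
affine opens of Y: over an affine open U the module (ℳ(n))~ on Proj(𝒮) restricts to the module
attached to the shifted graded 𝒮(U)-module ℳ(U)(n), so this is the bijectivity of the sheaf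
homomorphism α_n from ℳ_n to the direct image of (ℳ(n))~, with a bound uniform over Y.) -/
theorem result {Y : Scheme.{u}}
    [AlgebraicGeometry.IsNoetherian Y] (𝒮 : RelProj.QCGrAlg Y)
    (hft : ∀ (U : Y.Opens) (hU : IsAffineOpen U), (𝒮.str.app (op U)).hom.FiniteType)
    (ℳ : RelProj.GrModule 𝒮) (hℳ : Coh.IsQCoh ((AMod.toOS 𝒮.toQCAlg).obj ℳ.mod)) (hTF : ℳ.IsTF) :
    ∃ N : ℕ, ∀ n : ℕ, N ≤ n → ∀ (U : Y.Opens) (hU : IsAffineOpen U),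
      Function.Bijective (GrMod.alpha (𝒮.deg U hU) (ℳ.deg U hU) n) := by
  classical
  have hloc := RelTilde.loc_of_isQCoh ℳ hℳ
  have hnoeth : ∀ U : Y.affineOpens, IsNoetherianRing (𝒮.presheaf.obj (op U.1)) := fun U => by
    letI := (𝒮.str.app (op U.1)).hom.toAlgebra
    haveI : IsNoetherianRing Γ(Y, U.1) := IsLocallyNoetherian.component_noetherian U
    haveI : Algebra.FiniteType Γ(Y, U.1) (𝒮.presheaf.obj (op U.1)) := hft U.1 U.2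
    exact Algebra.FiniteType.isNoetherianRing Γ(Y, U.1) _
  obtain ⟨n₁, hn₁⟩ := hTF
  have hN : ∀ U : Y.affineOpens, ∃ N : ℕ, ∀ n, N ≤ n → Good ℳ n U := fun U => by
    haveI := hnoeth U
    exact Groth.Agent.Lib.AlphaBij.GrModAlpha.grMod (𝒮.deg U.1 U.2) (ℳ.deg U.1 U.2) ⟨n₁, hn₁ U.1 U.2⟩
  choose N hN using hN
  choose W hW hyW hle using fun y : Y =>
    exists_isAffineOpen_mem_and_subset (X := Y) (U := ⊤) (x := y) trivial
  obtain ⟨T, hT⟩ := isCompact_univ.elim_finite_subcover (fun y : Y => (W y : Set Y)) (fun y => (W y).2)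
    fun y _ => Set.mem_iUnion.2 ⟨y, hyW y⟩
  refine ⟨T.sup fun y => N ⟨W y, hW y⟩, fun n hn U hU => good_of_cover ℳ n hloc ⟨U, hU⟩ fun y hy => ?_⟩
  obtain ⟨x, hxT, hx⟩ : ∃ x ∈ T, y ∈ W x := by simpa using hT (Set.mem_univ y)
  obtain ⟨r, s, e, hyr⟩ := exists_basicOpen_le_affine_inter hU (hW x) y ⟨hy, hx⟩
  refine ⟨⟨Y.basicOpen r, hU.basicOpen r⟩, ⟨r, rfl⟩, hyr, fun C hC => ?_⟩
  haveI := hnoeth ⟨W x, hW x⟩
  exact good_of_rel ℳ n hloc (hC.trans (show RelTilde.Rel ⟨Y.basicOpen r, hU.basicOpen r⟩ ⟨W x, hW x⟩ from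
    ⟨s, e.symm⟩)) (hN ⟨W x, hW x⟩ n ((Finset.le_sup (f := fun y => N ⟨W y, hW y⟩) hxT).trans hn))

end Groth.Agent.S5746
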