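import Groth.Statements.S5750
import Groth.Agent.Lib.CohDelta.ProjChi.Main
-- import your own Groth.Agent.* helpers here

set_option autoImplicit false
universe u
open Coherent

namespace Groth.Agent.S5750

open AlgebraicGeometry CategoryTheory in
/-- Let A be an Artinian local ring, i : X → P^r_A a closed immersion compatible with the structure
morphisms to Spec A, F a coherent O_X-module and F(n) = F ⊗ i^* O(n). If a polynomial P over ℚ
satisfies P(n) = χ_A(F(n)) = Σ_{j ≤ r} (-1)^j length_A H^j(X, F(n)) for every integer n (the Hilbert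
polynomial of F), then the leading coefficient of P is non-negative. -/
theorem result (A : Type u) [CommRing A]
    [IsArtinianRing A] [IsLocalRing A] (r : ℕ) (X : Scheme.{u}) [X.Over (Spec (CommRingCat.of A))]
    (i : X ⟶ CohB1.ProjSpace r A) [IsClosedImmersion i]
    (hi : i ≫ CohB1.ProjSpace.toSpec r A = X ↘ Spec (CommRingCat.of A)) (F : X.Modules) (hF : Coh.IsCoh F)
    (P : Polynomial ℚ)
    (hP : ∀ n : ℤ, ((Finset.range (r + 1)).sum fun j => (-1 : ℚ) ^ j *
        ((Module.length A (Coh.HH X (CohB1.tensorMod F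
          ((Scheme.Modules.pullback i).obj (Twist.twistProjSpace r A n))) j)).toNat : ℚ)) = P.eval (n : ℚ)) :
    0 ≤ P.leadingCoeff := by
  let G := (Scheme.Modules.pushforward i).obj F
  obtain ⟨d₀, hd⟩ := Groth.Agent.Lib.ProjCoh.Coherent.exists_forall_subsingleton G
    (Groth.Agent.Lib.Cyc.Dev.SchemeEquiv.isCoh_push i hF)
  have hnn : ∀ m : ℕ, 0 ≤ P.eval ((m + d₀ : ℕ) : ℚ) := by
    intro m
    have h := hP ((m + d₀ : ℕ) : ℤ)
    rw [Int.cast_natCast] at h
    rw [← h, Finset.sum_eq_single 0]
    · simp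
    · intro j _ hj
      obtain ⟨q, rfl⟩ : ∃ q, j = q + 1 := ⟨j - 1, by omega⟩
      obtain ⟨e⟩ := Groth.Agent.Lib.CohDelta.ProjChi.nonempty_equiv i hi F hF ((m + d₀ : ℕ) : ℤ) (q + 1)
      haveI := hd ((m + d₀ : ℕ) : ℤ) (by omega) q
      haveI : Subsingleton (Coh.HH X (CohB1.tensorMod F
          ((Scheme.Modules.pullback i).obj (Twist.twistProjSpace r A ((m + d₀ : ℕ) : ℤ)))) (q + 1)) :=
        e.injective.subsingleton
      rw [Module.length_eq_zero]
      simp
    · intro h'
      simp at h'
  by_contra hneg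
  rw [not_le] at hneg
  rcases Nat.eq_zero_or_pos P.natDegree with hdeg | hdeg
  · rw [Polynomial.eq_C_of_natDegree_eq_zero hdeg] at hneg hnn
    simp only [Polynomial.leadingCoeff_C] at hneg
    have := hnn 0
    rw [Polynomial.eval_C] at this
    linarith
  · have ht : Filter.Tendsto (fun m : ℕ => P.eval ((m + d₀ : ℕ) : ℚ)) Filter.atTop Filter.atBot :=
      (P.tendsto_atBot_of_leadingCoeff_nonpos (Polynomial.natDegree_pos_iff_degree_pos.1 hdeg)
        hneg.le).comp (tendsto_natCast_atTop_atTop.comp (Filter.tendsto_add_atTop_nat d₀))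
    obtain ⟨m, hm⟩ := (ht.eventually (Filter.eventually_lt_atBot 0)).exists
    exact absurd (hnn m) (not_le.2 hm)

end Groth.Agent.S5750
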