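import Groth.Statements.S5751
import Groth.Agent.Lib.AlphaBij.Generate

set_option autoImplicit false
universe u
open CategoryTheory CategoryTheory.Limits AlgebraicGeometry Opposite TopologicalSpace
open scoped HomogeneousIdeal
noncomputable section
open Coherent

namespace Groth.Agent.S5751

set_option maxHeartbeats 2000000 in
/-- Over an affine base, for a graded ring generated in degree one, let S be a Noetherian commutative
ring positively graded by additive subgroups with irrelevant ideal generated by S_1, X = Proj S, and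
M a graded S-module (non-negatively graded here, the direct sum of its pieces) satisfying (TF): for
some k the submodule generated by the homogeneous elements of degree ≥ k is finitely generated.
Consider the graded module of sections n ↦ N_n = Γ(X, M(n)~), on which a homogeneous a ∈ S_e acts by
N_n → N_{n+e}, s ↦ (a/1)·s. Then there is k such that for every e ≥ 0 the group N_{k+e} is generated
by the images a · N_k, a ∈ S_e. (For a ring generated in degree one, condition (TF) for the graded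
module ⊕_n N_n is this eventual generation together with the finiteness of each N_n over S_0.) -/
theorem result {A σ : Type u} [CommRing A]
    [IsNoetherianRing A] [SetLike σ A] [AddSubgroupClass σ A] (𝒜 : ℕ → σ) [GradedRing 𝒜]
    (hgen : (HomogeneousIdeal.irrelevant 𝒜).toIdeal = Ideal.span (𝒜 1 : Set A))
    {M τ : Type u} [AddCommGroup M] [Module A M] [SetLike τ M] [AddSubgroupClass τ M] (ℳ : ℕ → τ)
    [SetLike.GradedSMul 𝒜 ℳ] [DirectSum.Decomposition ℳ]
    (hTF : ∃ k : ℕ, (Submodule.span A (⋃ i ∈ Set.Ici k, (ℳ i : Set M))).FG) :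
    ∃ k : ℕ, ∀ e : ℕ,
      (⨆ a : 𝒜 e, (GrMod.smulSect 𝒜 ℳ a (k : ℤ)
        (op (⊤ : Opens (ProjectiveSpectrum.top 𝒜)))).range) = ⊤ := by
  obtain ⟨K, hK⟩ := Lib.AlphaBij.Generate.exists_bound 𝒜 ℳ hgen hTF
  obtain ⟨N, hN⟩ := Lib.AlphaBij.Sections.exists_bound 𝒜 ℳ hTF
  obtain ⟨k, hkK, hkN⟩ : ∃ k, K ≤ k ∧ N ≤ k := ⟨max K N, le_max_left _ _, le_max_right _ _⟩
  refine ⟨k, fun e => ?_⟩
  rw [eq_top_iff]
  intro σ' _
  obtain ⟨m, hm, hφ⟩ := (hN (k + e) (by omega)).2 (fun x => (σ'.1 ⟨x, trivial⟩).1) fun x => by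
    obtain ⟨V, hxV, iV, i, j, a, s, nin, hij, hw⟩ := σ'.2 ⟨x, trivial⟩
    refine ⟨V, hxV, i, j, a, s, a.2, s.2, fun y hy => nin ⟨y, hy⟩, ?_, fun y hy => hw ⟨y, hy⟩⟩
    exact hij.imp_left fun h => by push_cast; omega
  suffices key : ∀ w ∈ Lib.AlphaBij.Generate.smulSpan 𝒜 ℳ e k,
      ∃ t ∈ (⨆ a : 𝒜 e, (GrMod.smulSect 𝒜 ℳ a (k : ℤ)
        (op (⊤ : Opens (ProjectiveSpectrum.top 𝒜)))).range),
        ∀ x : (⊤ : Opens (ProjectiveSpectrum.top 𝒜)), (t.1 x).1 = LocalizedModule.mk w 1 by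
    obtain ⟨t, ht, htx⟩ := key m (hK k hkK e m hm)
    have hts : t = σ' := Subtype.ext (funext fun x => Subtype.ext ((htx x).trans (hφ x.1).symm))
    rwa [← hts]
  intro w hw
  induction hw using AddSubgroup.closure_induction with
  | mem w hw =>
    obtain ⟨a, ha, y, hy, rfl⟩ := hw
    refine ⟨_, AddSubgroup.mem_iSup_of_mem (⟨a, ha⟩ : 𝒜 e) ⟨GrMod.globalOf 𝒜 ℳ ⟨y, hy⟩, rfl⟩,
      fun x => ?_⟩
    rw [GrMod.smulSect_apply_coe, GrMod.globalOf_apply_coe, LocalizedModule.mk_smul_mk, one_mul]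
  | zero => exact ⟨0, zero_mem _, fun x => (LocalizedModule.zero_mk 1).symm⟩
  | add u v _ _ hu hv =>
    obtain ⟨t, ht, htx⟩ := hu
    obtain ⟨t', ht', htx'⟩ := hv
    refine ⟨t + t', add_mem ht ht', fun x => ?_⟩
    change (t.1 x).1 + (t'.1 x).1 = _
    rw [htx, htx']
    exact ((LocalizedModule.mkLinearMap _ M).map_add u v).symm
  | neg u _ hu =>
    obtain ⟨t, ht, htx⟩ := hu
    refine ⟨-t, neg_mem ht, fun x => ?_⟩
    change -(t.1 x).1 = _
    rw [htx]
    exact ((LocalizedModule.mkLinearMap _ M).map_neg u).symm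

end Groth.Agent.S5751
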