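import Groth.Statements.S5753
import Groth.Agent.Lib.Depth.Assoc

set_option autoImplicit false
universe u
open EGA41

namespace Groth.Agent.S5753

/-- Let A be a Noetherian local ring with maximal ideal m and residue field k, and N a finitely
generated A-module. Then no element of m is N-regular (multiplication by it injective) if and only
if Hom_A(k, N) is nonzero. Applied to N = M/(x_1 M + ... + x_n M) for an M-regular sequence (x_i) in
m, this says that the sequence cannot be extended by an element of m if and only if Hom_A(k, M/(x_1
M + ... + x_n M)) ≠ 0. (The published statement allows an arbitrary module; for the direct sum N of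
the quotients of a two-dimensional regular local ring by all its height-one primes no element of m
is N-regular while Hom_A(k, N) = 0, and the published proof uses finiteness of the set of associated
primes, so N is taken finitely generated here.) -/
theorem result (A : Type u) [CommRing A]
    [IsLocalRing A] [IsNoetherianRing A] (N : Type u) [AddCommGroup N] [Module A N] [Module.Finite A N] :
    (∀ x ∈ IsLocalRing.maximalIdeal A, ¬ IsSMulRegular N x) ↔
      Nontrivial (IsLocalRing.ResidueField A →ₗ[A] N) := by
  constructor
  · intro h
    have hm : IsLocalRing.maximalIdeal A ∈ associatedPrimes A N := by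
      have hN : Nontrivial N := by
        by_contra hn
        rw [not_nontrivial_iff_subsingleton] at hn
        exact h 0 (zero_mem _) fun x y _ => Subsingleton.elim x y
      have hsub : ((IsLocalRing.maximalIdeal A : Ideal A) : Set A) ⊆ ⋃ p ∈ associatedPrimes A N, (p : Set A) := by
        rw [biUnion_associatedPrimes_eq_compl_regular]
        exact fun x hx => h x hx
      obtain ⟨p, hp, hle⟩ := (Ideal.subset_union_prime_finite (associatedPrimes.finite A N) ⊥ ⊥
        fun p hp _ _ => hp.isPrime).1 hsub
      exact (IsLocalRing.maximalIdeal.isMaximal A).eq_of_le hp.isPrime.ne_top hle ▸ hp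
    obtain ⟨-, m, hm'⟩ := isAssociatedPrime_iff.mp hm
    let φ : IsLocalRing.ResidueField A →ₗ[A] N :=
      Submodule.liftQ (IsLocalRing.maximalIdeal A) (LinearMap.toSpanSingleton A N m) (fun a ha => by
        rw [hm', Submodule.mem_colon_singleton] at ha
        simpa using ha)
    refine ⟨⟨φ, 0, fun h0 => ?_⟩⟩
    have h1 : (1 : A) • m = 0 := (show φ (Submodule.Quotient.mk 1) = 0 by rw [h0]; rfl)
    have : (1 : A) ∈ IsLocalRing.maximalIdeal A := by
      rw [hm', Submodule.mem_colon_singleton]
      exact h1
    exact (IsLocalRing.maximalIdeal.isMaximal A).ne_top ((Ideal.eq_top_iff_one _).2 this)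
  · intro hnt x hx hreg
    obtain ⟨φ, hφ⟩ := exists_ne (0 : IsLocalRing.ResidueField A →ₗ[A] N)
    refine hφ (LinearMap.ext fun z => hreg.right_eq_zero_of_smul ?_)
    rw [← map_smul, Algebra.smul_def, IsLocalRing.ResidueField.algebraMap_eq,
      (IsLocalRing.residue_eq_zero_iff x).2 hx, zero_mul, map_zero]


end Groth.Agent.S5753
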