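import Groth.Statements.S5755
import Groth.Agent.Lib.Depth.Assoc

set_option autoImplicit false
universe u
open EGA41

namespace Groth.Agent.S5755

/-- A reduced Noetherian local ring A has depth 0 if and only if A is a field. -/
theorem result (A : Type u) [CommRing A] [IsLocalRing A]
    [IsNoetherianRing A] [IsReduced A] : LocCoh.depth A A = 0 ↔ IsField A := by
  rw [Groth.Agent.Lib.Depth.Assoc.depth_eq_zero_iff]
  constructor
  · intro h
    obtain ⟨-, z, hz⟩ := (isAssociatedPrime_iff_exists_injective_linearMap _ _).mp h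
    have hz1 : z (Submodule.Quotient.mk 1) ≠ 0 := fun h0 => one_ne_zero (α := A ⧸ IsLocalRing.maximalIdeal A) (hz (h0.trans (map_zero z).symm))
    have hann : ∀ a ∈ IsLocalRing.maximalIdeal A, a * z (Submodule.Quotient.mk 1) = 0 := fun a ha => by
      rw [← smul_eq_mul, ← map_smul, ← Submodule.Quotient.mk_smul, (Submodule.Quotient.mk_eq_zero _).mpr (by simpa using ha), map_zero]
    rw [IsLocalRing.isField_iff_maximalIdeal_eq]
    by_cases hu : z (Submodule.Quotient.mk 1) ∈ IsLocalRing.maximalIdeal A
    · exact absurd (IsNilpotent.eq_zero ⟨2, (pow_two _).trans (hann _ hu)⟩) hz1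
    · have hu' : IsUnit (z (Submodule.Quotient.mk 1)) := IsLocalRing.notMem_maximalIdeal.mp hu
      rw [eq_bot_iff]
      intro a ha
      exact hu'.mul_left_eq_zero.mp (hann a ha)
  · intro hF
    rw [IsLocalRing.isField_iff_maximalIdeal_eq.mp hF]
    refine (isAssociatedPrime_iff_exists_injective_linearMap _ _).mpr ⟨?_, ?_, ?_⟩
    · have := IsLocalRing.isField_iff_maximalIdeal_eq.mp hF
      exact this ▸ (IsLocalRing.maximalIdeal.isMaximal A).isPrime
    · exact (Submodule.quotEquivOfEqBot _ rfl).toLinearMap
    · exact (Submodule.quotEquivOfEqBot _ rfl).injective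

end Groth.Agent.S5755
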