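import Groth.Statements.S5756
import Groth.Agent.Lib.Depth.Local
import Groth.Agent.Lib.Depth.Ext
import Mathlib.RingTheory.Ideal.GoingUp

set_option autoImplicit false
universe u
open EGA41

namespace Groth.Agent.S5756

/-- Suppose A and B are Noetherian local rings and ρ : A → B is a local homomorphism. Given a B-module M
that, viewed as an A-module through ρ, is finitely generated, the depth of M over A coincides with
the depth of M over B. -/
theorem result (A B : Type u) [CommRing A] [CommRing B] [IsLocalRing A]
    [IsLocalRing B] [IsNoetherianRing A] [IsNoetherianRing B] [Algebra A B] [IsLocalHom (algebraMap A B)]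
    (M : Type u) [AddCommGroup M] [Module B M] [Module A M] [IsScalarTower A B M] [Module.Finite A M] :
    LocCoh.depth A M = LocCoh.depth B M := by
  let B' := B ⧸ Module.annihilator B M
  have key : ∀ b : B, Ideal.Quotient.mk (Module.annihilator B M) b = 0 → ∀ m : M, b • m = 0 := fun b hb m =>
    Module.mem_annihilator.1 (Ideal.Quotient.eq_zero_iff_mem.1 hb) m
  have hfin : Module.Finite A B' := by
    let f : B' →ₗ[A] Module.End A M :=
      { toFun := Quotient.lift (fun b : B => (DistribSMul.toLinearMap A M b)) (by
          intro a b hab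
          refine LinearMap.ext fun m => ?_
          have h := key (a - b) (by rw [map_sub, sub_eq_zero]; exact Quotient.sound hab) m
          rw [sub_smul, sub_eq_zero] at h
          exact h)
        map_add' := by rintro ⟨a⟩ ⟨b⟩; exact LinearMap.ext fun m => add_smul a b m
        map_smul' := by rintro c ⟨b⟩; exact LinearMap.ext fun m => smul_assoc c b m }
    exact Module.Finite.of_injective f (by
      rintro ⟨a⟩ ⟨b⟩ h
      refine Ideal.Quotient.eq.2 (Module.mem_annihilator.2 fun m => ?_)
      rw [sub_smul, sub_eq_zero]
      exact LinearMap.congr_fun h m)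
  letI : Module B' M := Module.IsTorsionBySet.module (fun m ⟨b, hb⟩ => Module.mem_annihilator.1 hb m)
  haveI : IsScalarTower B B' M := Module.IsTorsionBySet.isScalarTower _
  haveI : IsScalarTower A B' M := IsScalarTower.of_algebraMap_smul fun a m => by
    change (Ideal.Quotient.mk _ (algebraMap A B a)) • m = a • m
    change algebraMap A B a • m = a • m
    exact algebraMap_smul B a m
  haveI : Module.Finite B' M := Module.Finite.of_restrictScalars_finite A B' M
  rcases subsingleton_or_nontrivial M with hM | hM
  · rw [LocCoh.depth, LocCoh.depth, Groth.Agent.Lib.Depth.Basic.idealDepth_subsingleton,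
      Groth.Agent.Lib.Depth.Basic.idealDepth_subsingleton]
  haveI : Nontrivial B' := by
    by_contra hn
    rw [not_nontrivial_iff_subsingleton] at hn
    obtain ⟨m, hm⟩ := exists_ne (0 : M)
    exact hm (by rw [← one_smul B m]; exact key 1 (Subsingleton.elim _ _) m)
  haveI : IsLocalRing B' := IsLocalRing.of_surjective' _ Ideal.Quotient.mk_surjective
  haveI : IsLocalHom (Ideal.Quotient.mk (Module.annihilator B M)) :=
    IsLocalHom.of_surjective _ Ideal.Quotient.mk_surjective
  haveI : IsLocalHom (algebraMap A B') :=
    inferInstanceAs (IsLocalHom ((Ideal.Quotient.mk (Module.annihilator B M)).comp (algebraMap A B)))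
  haveI := hfin
  rw [Groth.Agent.Lib.Depth.Basic.depth_eq_of_surjective (R := B) (S := B') Ideal.Quotient.mk_surjective,
    LocCoh.depth, LocCoh.depth,
    Groth.Agent.Lib.Depth.Local.idealDepth_eq_map_of_finite B' (IsLocalRing.maximalIdeal A) M]
  refine Groth.Agent.Lib.Depth.Ext.idealDepth_radical_eq _ _ ?_
  have hle : (IsLocalRing.maximalIdeal A).map (algebraMap A B') ≤ IsLocalRing.maximalIdeal B' :=
    ((IsLocalRing.local_hom_TFAE (algebraMap A B')).out 0 2).mp ‹IsLocalHom (algebraMap A B')›
  rw [(IsLocalRing.maximalIdeal.isMaximal B').isPrime.radical, Ideal.radical_eq_sInf]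
  refine le_antisymm (sInf_le ⟨hle, (IsLocalRing.maximalIdeal.isMaximal B').isPrime⟩) (le_sInf fun P hP => ?_)
  haveI := hP.2
  haveI : Algebra.IsIntegral A B' := inferInstance
  have hPm : (P.comap (algebraMap A B')).IsMaximal := by
    have h1 : IsLocalRing.maximalIdeal A ≤ P.comap (algebraMap A B') := Ideal.map_le_iff_le_comap.1 hP.1
    rw [← (IsLocalRing.maximalIdeal.isMaximal A).eq_of_le (Ideal.comap_ne_top _ hP.2.ne_top) h1]
    exact IsLocalRing.maximalIdeal.isMaximal A
  have := Ideal.isMaximal_of_isIntegral_of_isMaximal_comap P hPm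
  exact (IsLocalRing.eq_maximalIdeal this).ge


end Groth.Agent.S5756
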