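import Groth.Statements.S5758
import Groth.Agent.S0322
import Groth.Agent.Lib.Depth.CM
import Groth.Agent.Lib.Depth.Span

set_option autoImplicit false
universe u
open EGA41

namespace Groth.Agent.S5758

/-- Let A be a Noetherian local ring, M a nonzero finitely generated Cohen-Macaulay A-module and x_1,
..., x_r elements of the maximal ideal. The sequence (x_i) is M-regular if and only if dim(M/(x_1 M
+ ... + x_r M)) = dim(M) - r, i.e. if and only if the x_i are part of a system of parameters for M;
and when this holds the quotient M/(x_1 M + ... + x_r M) is again a Cohen-Macaulay module. -/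
theorem result (A : Type u) [CommRing A]
    [IsLocalRing A] [IsNoetherianRing A] (M : Type u) [AddCommGroup M] [Module A M] [Module.Finite A M]
    (hM : LocCoh.IsCohenMacaulayModule A M) (xs : List A) (hxs : ∀ x ∈ xs, x ∈ IsLocalRing.maximalIdeal A) :
    (RingTheory.Sequence.IsWeaklyRegular M xs ↔
        Module.supportDim A (M ⧸ (Ideal.ofList xs • (⊤ : Submodule A M))) + xs.length =
          Module.supportDim A M) ∧
      (RingTheory.Sequence.IsWeaklyRegular M xs →
        LocCoh.IsCohenMacaulayModule A (M ⧸ (Ideal.ofList xs • (⊤ : Submodule A M)))) := by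
  haveI : Nontrivial M := Groth.Agent.Lib.Depth.CM.nontrivial_of_isCohenMacaulayModule hM
  have hle : Ideal.ofList xs ≤ IsLocalRing.maximalIdeal A := Groth.Agent.Lib.Depth.Basic.ofList_le hxs
  have hne : Ideal.ofList xs ≠ ⊤ := fun h =>
    (IsLocalRing.maximalIdeal.isMaximal A).ne_top (top_le_iff.mp (h.ge.trans hle))
  have h1 := Groth.Agent.S0322.result A (Ideal.ofList xs) hne M hM
  have hd : ∀ {N : Type u} [AddCommGroup N] [Module A N] [Module.Finite A N], Nontrivial N →
      ∃ n : ℕ, Module.supportDim A N = n := fun {N} _ _ _ _ => Groth.Agent.Lib.Depth.CM.supportDim_eq_nat (R := A) N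
  have hq : Nontrivial (M ⧸ Ideal.ofList xs • (⊤ : Submodule A M)) :=
    Submodule.Quotient.nontrivial_iff.mpr (Groth.Agent.Lib.Depth.Basic.smul_top_ne_top hne)
  obtain ⟨m, hm⟩ := hd hq
  have hiff : RingTheory.Sequence.IsWeaklyRegular M xs ↔
      Module.supportDim A (M ⧸ Ideal.ofList xs • (⊤ : Submodule A M)) + xs.length = Module.supportDim A M := by
    rw [← Groth.Agent.Lib.Depth.Span.idealDepth_ofList_eq_length_iff xs M hxs, h1, hm]
    constructor
    · intro h; rw [h]; rfl
    · intro h
      obtain ⟨e, he⟩ := Groth.Agent.Lib.Depth.Local.exists_nat_eq_idealDepth (Ideal.ofList xs) M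
        (Groth.Agent.Lib.Depth.Basic.smul_top_ne_top hne)
      rw [he] at h ⊢
      norm_cast at h ⊢
      omega
  refine ⟨hiff, fun hreg => ?_⟩
  have h2 := hiff.1 hreg
  have h3 := Groth.Agent.Lib.Depth.Local.idealDepth_quot_ofList (I := IsLocalRing.maximalIdeal A) (M := M) hxs hreg
  rw [LocCoh.IsCohenMacaulayModule, LocCoh.depth]
  rw [hM, LocCoh.depth, ← h3, WithBot.coe_add] at h2
  exact ENat.WithBot.add_natCast_cancel.mp h2


end Groth.Agent.S5758
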