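import Groth.Statements.S5759
import Groth.Agent.Lib.Depth.CM
import Groth.Agent.Lib.Depth.Assoc

set_option autoImplicit false
universe u
open EGA41

namespace Groth.Agent.S5759

open RingTheory.Sequence in
theorem aux (A : Type u) [CommRing A] [IsLocalRing A] [IsNoetherianRing A] : ∀ (d : ℕ) (M : Type u)
    [AddCommGroup M] [Module A M] [Module.Finite A M] [Nontrivial M], Module.supportDim A M = d →
    (∀ xs : List A, (∀ x ∈ xs, x ∈ IsLocalRing.maximalIdeal A) →
      Module.supportDim A (M ⧸ (Ideal.ofList xs • (⊤ : Submodule A M))) + xs.length = Module.supportDim A M →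
        ∀ p ∈ associatedPrimes A (M ⧸ (Ideal.ofList xs • (⊤ : Submodule A M))),
          ringKrullDim (A ⧸ p) = Module.supportDim A (M ⧸ (Ideal.ofList xs • (⊤ : Submodule A M)))) →
    LocCoh.IsCohenMacaulayModule A M := by
  intro d
  induction d with
  | zero =>
    intro M _ _ _ _ hd _
    refine Groth.Agent.Lib.Depth.CM.isCohenMacaulayModule_iff_le.mpr ?_
    rw [hd]
    exact WithBot.coe_le_coe.mpr zero_le
  | succ d ih =>
    intro M _ _ _ _ hd h
    let e0 : (M ⧸ Ideal.ofList ([] : List A) • (⊤ : Submodule A M)) ≃ₗ[A] M :=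
      Submodule.quotEquivOfEqBot _ (by simp)
    obtain ⟨x, hx, hreg⟩ := (Groth.Agent.Lib.Depth.Assoc.exists_isSMulRegular_iff
      (IsLocalRing.maximalIdeal A) M).mpr fun q hq hle => by
      have h0 := h [] (by simp) (by rw [Module.supportDim_eq_of_equiv e0]; simp) q
        (by rw [LinearEquiv.AssociatedPrimes.eq e0]; exact hq)
      rw [Module.supportDim_eq_of_equiv e0, hd] at h0
      have hqm : q = IsLocalRing.maximalIdeal A :=
        le_antisymm (IsLocalRing.le_maximalIdeal hq.isPrime.ne_top) hle
      have hf : IsField (A ⧸ q) :=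
        (Ideal.Quotient.maximal_ideal_iff_isField_quotient q).mp (hqm ▸ IsLocalRing.maximalIdeal.isMaximal A)
      rw [ringKrullDim_eq_zero_of_isField hf] at h0
      norm_cast at h0
    have hd' := Module.supportDim_quotSMulTop_succ_eq_supportDim hreg hx
    rw [hd, Nat.cast_succ] at hd'
    have hq : Nontrivial (QuotSMulTop x M) := nontrivial_quotSMulTop_of_mem_maximalIdeal _ hx
    refine (Groth.Agent.Lib.Depth.CM.isCohenMacaulayModule_quotSMulTop_iff hx hreg).mp
      (ih (QuotSMulTop x M) (ENat.WithBot.add_one_cancel.mp hd') fun ys hys hdim q hq => ?_)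
    let e := Submodule.quotOfListConsSMulTopEquivQuotSMulTopInner M x ys
    rw [← LinearEquiv.AssociatedPrimes.eq e] at hq
    rw [← Module.supportDim_eq_of_equiv e] at hdim ⊢
    refine h (x :: ys) (List.forall_mem_cons.mpr ⟨hx, hys⟩) ?_ q hq
    rw [List.length_cons, Nat.cast_succ, ← add_assoc, hdim,
      Module.supportDim_quotSMulTop_succ_eq_supportDim hreg hx]

/-- Let A be a Noetherian local ring and M a nonzero finitely generated A-module. Suppose that for every
sequence x_1, ..., x_r of elements of the maximal ideal which is part of a system of parameters for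
M (i.e. dim(M/(x_1 M + ... + x_r M)) = dim(M) - r), every associated prime p of N = M/(x_1 M + ... +
x_r M) satisfies dim(A/p) = dim(N). Then M is a Cohen-Macaulay module. (The published convention
also counts the zero module as Cohen-Macaulay; this row assumes M nonzero.) -/
theorem result (A : Type u) [CommRing A]
    [IsLocalRing A] [IsNoetherianRing A] (M : Type u) [AddCommGroup M] [Module A M] [Module.Finite A M]
    [Nontrivial M]
    (h : ∀ xs : List A, (∀ x ∈ xs, x ∈ IsLocalRing.maximalIdeal A) →
      Module.supportDim A (M ⧸ (Ideal.ofList xs • (⊤ : Submodule A M))) + xs.length = Module.supportDim A M →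
        ∀ p ∈ associatedPrimes A (M ⧸ (Ideal.ofList xs • (⊤ : Submodule A M))),
          ringKrullDim (A ⧸ p) = Module.supportDim A (M ⧸ (Ideal.ofList xs • (⊤ : Submodule A M)))) :
    LocCoh.IsCohenMacaulayModule A M := by
  obtain ⟨d, hd⟩ := Groth.Agent.Lib.Depth.CM.supportDim_eq_nat (R := A) M
  exact aux A d M hd h


end Groth.Agent.S5759
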