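import Groth.Statements.S5762
import Groth.Agent.S0322
import Groth.Agent.Lib.Depth.CM
import Groth.Agent.Lib.Depth.Local

set_option autoImplicit false
universe u
open EGA41

namespace Groth.Agent.S5762

/-- Let A be a Noetherian local ring, M a nonzero finitely generated Cohen-Macaulay A-module and p a
prime ideal in the support of M. Then dim(M) = dim_A(M/pM) + dim_{A_p}(M_p). -/
theorem result (A : Type u) [CommRing A]
    [IsLocalRing A] [IsNoetherianRing A] (M : Type u) [AddCommGroup M] [Module A M] [Module.Finite A M]
    (hM : LocCoh.IsCohenMacaulayModule A M) (p : PrimeSpectrum A) (hp : p ∈ Module.support A M) :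
    Module.supportDim A M =
      Module.supportDim A (M ⧸ (p.asIdeal • (⊤ : Submodule A M))) +
        Module.supportDim (Localization.AtPrime p.asIdeal) (LocalizedModule p.asIdeal.primeCompl M) := by
  haveI : Nontrivial M := Groth.Agent.Lib.Depth.CM.nontrivial_of_isCohenMacaulayModule hM
  have h1 := Groth.Agent.S0322.result A p.asIdeal p.2.ne_top M hM
  have h2 := Groth.Agent.Lib.Depth.CM.supportDim_localization_le_idealDepth hM p.asIdeal hp
  have := Module.Finite.of_isLocalizedModule p.asIdeal.primeCompl (Rₚ := Localization.AtPrime p.asIdeal)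
    (LocalizedModule.mkLinearMap p.asIdeal.primeCompl M)
  haveI : Nontrivial (LocalizedModule p.asIdeal.primeCompl M) := (Module.mem_support_iff).mp hp
  have h3 := (WithBot.coe_le_coe.mpr (Groth.Agent.Lib.Depth.CM.idealDepth_le_depth_localization (M := M) p.asIdeal)).trans
    (Groth.Agent.Lib.Depth.Assoc.depth_le_supportDim (R := Localization.AtPrime p.asIdeal)
      (LocalizedModule p.asIdeal.primeCompl M))
  rw [h1, le_antisymm h2 h3]


end Groth.Agent.S5762
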