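import Groth.Statements.S5765
import Groth.Agent.Lib.Depth.CM
import Mathlib.Order.KrullDimension

set_option autoImplicit false
universe u
open EGA41

namespace Groth.Agent.S5765

/-- Let A be a ring, M a finitely generated A-module and p a prime ideal of A. Then dim_{A_p}(M_p) +
dim_A(M/pM) ≤ dim_A(M). -/
theorem result (A : Type u) [CommRing A] (M : Type u)
    [AddCommGroup M] [Module A M] [Module.Finite A M] (p : Ideal A) [p.IsPrime] :
    Module.supportDim (Localization.AtPrime p) (LocalizedModule p.primeCompl M) +
        Module.supportDim A (M ⧸ (p • (⊤ : Submodule A M))) ≤ Module.supportDim A M := by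
  classical
  let pt : PrimeSpectrum A := ⟨p, inferInstance⟩
  set s := Module.support A M
  by_cases hp : pt ∈ s
  swap
  · have : Subsingleton (LocalizedModule p.primeCompl M) := Module.notMem_support_iff.mp hp
    rw [Module.supportDim_eq_bot_of_subsingleton]
    simp
  let x : s := ⟨pt, hp⟩
  have h1 : Module.supportDim (Localization.AtPrime p) (LocalizedModule p.primeCompl M) ≤ (Order.height x : WithBot ℕ∞) := by
    rw [Order.height_eq_krullDim_Iic]
    refine Order.krullDim_le_of_strictMono (fun q => ⟨⟨PrimeSpectrum.comap (algebraMap A (Localization.AtPrime p)) q.1, ?_⟩, ?_⟩) ?_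
    · obtain ⟨z, hz⟩ := Module.mem_support_iff_exists_annihilator.mp q.2
      obtain ⟨⟨m, t⟩, rfl⟩ := IsLocalizedModule.mk'_surjective p.primeCompl (LocalizedModule.mkLinearMap p.primeCompl M) z
      refine Module.mem_support_iff_exists_annihilator.mpr ⟨m, fun a ha => ?_⟩
      refine hz ((Submodule.mem_annihilator_span_singleton _ _).mpr ?_)
      rw [Submodule.mem_annihilator_span_singleton] at ha
      rw [Function.uncurry_apply_pair, algebraMap_smul, ← IsLocalizedModule.mk'_smul, ha, IsLocalizedModule.mk'_zero]
    · exact ((IsLocalization.AtPrime.orderIsoOfPrime (Localization.AtPrime p) p) ⟨q.1.asIdeal, q.1.2⟩).2.2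
    · intro q q' hlt
      refine lt_of_le_of_ne (Ideal.comap_mono hlt.le) fun he => hlt.ne (Subtype.ext ?_)
      exact PrimeSpectrum.localization_comap_injective (Localization.AtPrime p) p.primeCompl
        (congrArg (fun z : Set.Iic x => z.1.1) he)
  have h2 : Module.supportDim A (M ⧸ (p • (⊤ : Submodule A M))) ≤ (Order.coheight x : WithBot ℕ∞) := by
    rw [Order.coheight_eq_krullDim_Ici]
    have hmem : ∀ q : Module.support A (M ⧸ (p • (⊤ : Submodule A M))), q.1 ∈ s ∧ pt ≤ q.1 := fun q => by
      have := (Set.ext_iff.1 (Module.support_quotient (M := M) p) q.1).1 q.2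
      exact ⟨this.1, (PrimeSpectrum.mem_zeroLocus _ _).mp this.2⟩
    exact Order.krullDim_le_of_strictMono (fun q => (⟨⟨q.1, (hmem q).1⟩, (hmem q).2⟩ : Set.Ici x)) fun q q' h => h
  refine (add_le_add h1 h2).trans ?_
  haveI : Nonempty s := ⟨x⟩
  rw [Module.supportDim, Order.krullDim_eq_iSup_height_add_coheight_of_nonempty, ← WithBot.coe_add]
  exact WithBot.coe_le_coe.mpr (le_iSup (fun a : s => Order.height a + Order.coheight a) x)


end Groth.Agent.S5765
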