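import Groth.Statements.S5766
import Groth.Agent.Lib.Dim.Integral
import Mathlib.RingTheory.KrullDimension.Module

set_option autoImplicit false
universe u
open EGA41

namespace Groth.Agent.S5766

/-- Let A be a Noetherian ring, ρ : A → B a ring homomorphism and M a B-module which is finitely
generated as an A-module via ρ. Then the dimension of M as an A-module equals its dimension as a
B-module. -/
theorem result (A B : Type u) [CommRing A] [CommRing B] [IsNoetherianRing A]
    [Algebra A B] (M : Type u) [AddCommGroup M] [Module B M] [Module A M] [IsScalarTower A B M]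
    [Module.Finite A M] : Module.supportDim A M = Module.supportDim B M := by
  have : Module.Finite B M := Module.Finite.of_restrictScalars_finite A B M
  rw [Module.supportDim_eq_ringKrullDim_quotient_annihilator, Module.supportDim_eq_ringKrullDim_quotient_annihilator]
  let f : A ⧸ Module.annihilator A M →+* B ⧸ Module.annihilator B M :=
    Ideal.quotientMap _ (algebraMap A B) fun a ha => Module.mem_annihilator.2 fun m => by
      rw [algebraMap_smul]; exact Module.mem_annihilator.1 ha m
  have hinj : Function.Injective f := Ideal.quotientMap_injective' fun a ha => Module.mem_annihilator.2 fun m => by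
    rw [← algebraMap_smul B a m]; exact Module.mem_annihilator.1 ha m
  letI := f.toAlgebra
  haveI : FaithfulSMul (A ⧸ Module.annihilator A M) (B ⧸ Module.annihilator B M) :=
    (faithfulSMul_iff_algebraMap_injective _ _).mpr hinj
  haveI : IsScalarTower A (A ⧸ Module.annihilator A M) (B ⧸ Module.annihilator B M) :=
    IsScalarTower.of_algebraMap_eq fun a => rfl
  let g : (B ⧸ Module.annihilator B M) →ₗ[A] Module.End A M :=
    { toFun := Quotient.lift (fun b : B => (DistribSMul.toLinearMap A M b)) (by
        intro a b hab
        refine LinearMap.ext fun m => ?_
        have h := Module.mem_annihilator.1 (Ideal.Quotient.eq.1 (Quotient.sound hab)) m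
        rw [sub_smul, sub_eq_zero] at h
        exact h)
      map_add' := by rintro ⟨a⟩ ⟨b⟩; exact LinearMap.ext fun m => add_smul a b m
      map_smul' := by rintro c ⟨b⟩; exact LinearMap.ext fun m => smul_assoc c b m }
  haveI : Module.Finite A (B ⧸ Module.annihilator B M) := Module.Finite.of_injective g (by
    rintro ⟨a⟩ ⟨b⟩ h
    refine Ideal.Quotient.eq.2 (Module.mem_annihilator.2 fun m => ?_)
    rw [sub_smul, sub_eq_zero]
    exact LinearMap.congr_fun h m)
  haveI : Module.Finite (A ⧸ Module.annihilator A M) (B ⧸ Module.annihilator B M) :=
    Module.Finite.of_restrictScalars_finite A _ _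
  exact (Groth.Agent.Lib.Dim.Integral.ringKrullDim_eq_of_isIntegral).symm


end Groth.Agent.S5766
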