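import Groth.Statements.S5767
import Mathlib.RingTheory.KrullDimension.Regular
import Mathlib.RingTheory.Ideal.KrullsHeightTheorem
import Mathlib.RingTheory.Spectrum.Maximal.Defs


set_option autoImplicit false
universe u
open EGA41

namespace Groth.Agent.S5767

/-- Let A be a semi-local Noetherian ring, M a finitely generated A-module and x an element of the
Jacobson radical of A. One always has dim(M/xM) ≥ dim(M) - 1; equality dim(M/xM) = dim(M) - 1 holds
if and only if x belongs to none of the prime ideals p of Supp(M) with dim(A/p) = dim(M). Stated as: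
dim(M/xM) + 1 = dim(M) iff x avoids those primes. -/
theorem result (A : Type u) [CommRing A] [IsNoetherianRing A]
    [Finite (MaximalSpectrum A)] (M : Type u) [AddCommGroup M] [Module A M] [Module.Finite A M] (x : A)
    (hx : x ∈ Ring.jacobson A) :
    Module.supportDim A (QuotSMulTop x M) + 1 = Module.supportDim A M ↔
      ∀ p : PrimeSpectrum A, p ∈ Module.support A M →
        ringKrullDim (A ⧸ p.asIdeal) = Module.supportDim A M → x ∉ p.asIdeal := by
  classical
  have hj : x ∈ (Module.annihilator A M).jacobson := (Module.annihilator A M).ringJacobson_le_jacobson hx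
  have hge := Module.supportDim_le_supportDim_quotSMulTop_succ_of_mem_jacobson (M := M) hj
  have hsupp : ∀ q : PrimeSpectrum A, q ∈ Module.support A (QuotSMulTop x M) ↔
      q ∈ Module.support A M ∧ x ∈ q.asIdeal := fun q => by
    simp [Module.support_quotSMulTop]
  constructor
  · intro he p hp htop hxp
    obtain ⟨N, hN⟩ : ∃ N : ℕ, ringKrullDim A ≤ (N : WithBot ℕ∞) := by
      haveI := Fintype.ofFinite (MaximalSpectrum A)
      refine ⟨∑ m : MaximalSpectrum A, m.asIdeal.height.toNat, iSup_le fun l => ?_⟩
      obtain ⟨m, hm, hle⟩ := Ideal.exists_le_maximal _ l.last.2.1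
      have h1 : (l.length : ℕ∞) ≤ Order.height (⟨m, hm.isPrime⟩ : PrimeSpectrum A) :=
        Order.length_le_height (show l.last ≤ ⟨m, hm.isPrime⟩ from hle)
      have h1' : (l.length : ℕ∞) ≤ m.height :=
        h1.trans_eq (PrimeSpectrum.height_eq_orderHeight (⟨m, hm.isPrime⟩ : PrimeSpectrum A)).symm
      have h2 : l.length ≤ m.height.toNat := by
        have := ENat.toNat_le_toNat h1' (Ideal.height_ne_top hm.ne_top)
        simpa using this
      have key : ∀ (f : MaximalSpectrum A → ℕ) (i : MaximalSpectrum A), f i ≤ ∑ j, f j := fun f i =>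
        Finset.single_le_sum (fun _ _ => Nat.zero_le _) (Finset.mem_univ i)
      have hs := key (fun m => m.asIdeal.height.toNat) ⟨m, hm⟩
      have h5 : l.length ≤ ∑ m : MaximalSpectrum A, m.asIdeal.height.toNat := le_trans h2 hs
      exact Nat.cast_le.mpr h5
    have h3 : ringKrullDim (A ⧸ p.asIdeal) ≤ Module.supportDim A (QuotSMulTop x M) := by
      rw [ringKrullDim_quotient]
      refine Order.krullDim_le_of_strictMono (fun q => ⟨q.1, (hsupp q.1).mpr ⟨Module.mem_support_mono q.2 hp, q.2 hxp⟩⟩)
        (fun a b h => h)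
    rw [htop, ← he] at h3
    have hne : Module.supportDim A M ≠ ⊥ := by
      haveI : Nontrivial M := Module.nonempty_support_iff.mp ⟨p, hp⟩
      exact (Module.supportDim_ne_bot_iff_nontrivial A M).mpr inferInstance
    have h4 : Module.supportDim A (QuotSMulTop x M) ≤ (N : WithBot ℕ∞) :=
      le_trans (Order.krullDim_le_of_strictMono Subtype.val fun a b h => h) hN
    obtain ⟨k, hk⟩ := WithBot.ne_bot_iff_exists.mp (show Module.supportDim A (QuotSMulTop x M) ≠ ⊥ from
      fun hb => hne (by rw [← he, hb]; rfl))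
    rw [← hk] at h3 h4
    have h4' : k ≤ (N : ℕ∞) := WithBot.coe_le_coe.mp h4
    obtain ⟨j, rfl⟩ := ENat.ne_top_iff_exists.mp (ne_top_of_le_ne_top (ENat.coe_ne_top N) h4')
    have : j + 1 ≤ j := by exact_mod_cast h3
    omega
  · intro h
    refine le_antisymm ?_ hge
    by_contra hlt
    rw [not_le] at hlt
    by_cases hb : Module.supportDim A (QuotSMulTop x M) = ⊥
    · simp [hb] at hlt
    obtain ⟨k, hk⟩ := WithBot.ne_bot_iff_exists.mp hb
    obtain ⟨d, hd⟩ := WithBot.ne_bot_iff_exists.mp (show Module.supportDim A M ≠ ⊥ from fun hbot =>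
      hb (le_bot_iff.mp (hbot ▸ Order.krullDim_le_of_strictMono
        (fun q : Module.support A (QuotSMulTop x M) => (⟨q.1, ((hsupp q.1).mp q.2).1⟩ : Module.support A M))
        (fun a b h => h))))
    rw [← hd, ← hk] at hlt
    have hlt' : d < k + 1 := by exact_mod_cast hlt
    obtain ⟨n, rfl⟩ := ENat.ne_top_iff_exists.mp (ne_top_of_lt hlt')
    have hnk : (n : ℕ∞) ≤ k := Order.le_of_lt_add_one hlt'
    have hn : ((n : ℕ∞) : WithBot ℕ∞) ≤ Module.supportDim A (QuotSMulTop x M) := by
      rw [← hk]; exact WithBot.coe_le_coe.mpr hnk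
    obtain ⟨l, hl⟩ := (Order.le_krullDim_iff).mp hn
    obtain ⟨hlM, hlx⟩ := (hsupp l.head.1).mp l.head.2
    refine h l.head.1 hlM ?_ hlx
    rw [ringKrullDim_quotient]
    refine le_antisymm (Order.krullDim_le_of_strictMono
      (fun q => (⟨q.1, Module.mem_support_mono q.2 hlM⟩ : Module.support A M)) (fun a b h => h)) ?_
    rw [← hd]
    let l' : LTSeries (PrimeSpectrum.zeroLocus (R := A) (l.head.1.asIdeal : Set A)) :=
      { length := l.length
        toFun := fun i => ⟨(l i).1, fun a ha => (show l.head.1 ≤ (l i).1 from l.monotone (Fin.zero_le i)) ha⟩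
        step := fun i => l.strictMono Fin.castSucc_lt_succ }
    calc ((n : ℕ∞) : WithBot ℕ∞) = (l'.length : WithBot ℕ∞) := by rw [← hl]; rfl
      _ ≤ _ := Order.LTSeries.length_le_krullDim l'


end Groth.Agent.S5767
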