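import Groth.Statements.S5768
import Groth.Agent.S3406
import Mathlib.RingTheory.Regular.RegularSequence
import Mathlib.Data.List.OfFn


set_option autoImplicit false
universe u
open EGA41

namespace Groth.Agent.S5768

/-- Let A be a semi-local Noetherian ring with Jacobson radical r, M a nonzero finitely generated
A-module and x_1, ..., x_k elements of r. One always has dim(M/(x_1 M + ... + x_k M)) ≥ dim(M) - k,
and equality holds if and only if there exist further elements of r which together with the x_i form
a system of parameters for M (dim(M) elements of r modulo which M has finite length). -/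
theorem result (A : Type u) [CommRing A]
    [IsNoetherianRing A] [Finite (MaximalSpectrum A)] (M : Type u) [AddCommGroup M] [Module A M]
    [Module.Finite A M] [Nontrivial M] (xs : List A) (hxs : ∀ x ∈ xs, x ∈ Ring.jacobson A) :
    Module.supportDim A (M ⧸ (Ideal.ofList xs • (⊤ : Submodule A M))) + xs.length = Module.supportDim A M ↔
      ∃ ys : List A, (∀ y ∈ ys, y ∈ Ring.jacobson A) ∧
        ((xs ++ ys).length : WithBot ℕ∞) = Module.supportDim A M ∧
        IsFiniteLength A (M ⧸ (Ideal.ofList (xs ++ ys) • (⊤ : Submodule A M))) := by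
  classical
  set Q := M ⧸ (Ideal.ofList xs • (⊤ : Submodule A M))
  have hlow : ∀ (l : List A) (N : Type u) [AddCommGroup N] [Module A N] [Module.Finite A N], (∀ x ∈ l, x ∈ Ring.jacobson A) →
      Module.supportDim A N ≤ Module.supportDim A (N ⧸ (Ideal.ofList l • (⊤ : Submodule A N))) + l.length := by
    intro l
    induction l with
    | nil =>
      intro N _ _ _ _
      rw [Ideal.ofList_nil, Submodule.bot_smul, Module.supportDim_eq_of_equiv (Submodule.quotEquivOfEqBot ⊥ rfl)]
      simp
    | cons x l ih =>
      intro N _ _ _ hl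
      refine (Module.supportDim_le_supportDim_quotSMulTop_succ_of_mem_jacobson (M := N)
        ((Module.annihilator A N).ringJacobson_le_jacobson (hl x (List.mem_cons_self ..)))).trans ?_
      rw [Module.supportDim_eq_of_equiv (Submodule.quotOfListConsSMulTopEquivQuotSMulTopInner N x l), List.length_cons,
        Nat.cast_add_one, ← add_assoc]
      exact add_le_add (ih _ fun y hy => hl y (List.mem_cons_of_mem _ hy)) le_rfl
  have he : ∀ ys : List A, Nonempty ((Q ⧸ (Ideal.ofList ys • (⊤ : Submodule A Q))) ≃ₗ[A]
      M ⧸ (Ideal.ofList (xs ++ ys) • (⊤ : Submodule A M))) := fun ys => by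
    have h1 : (Ideal.ofList ys • (⊤ : Submodule A Q)) = (Ideal.ofList ys • (⊤ : Submodule A M)).map (Submodule.mkQ _) := by
      rw [Submodule.map_smul'', Submodule.map_top, Submodule.range_mkQ]
    exact ⟨(Submodule.quotEquivOfEq _ _ h1).trans ((Submodule.quotientQuotientEquivQuotientSup _ _).trans
      (Submodule.quotEquivOfEq _ _ (by rw [← Submodule.sup_smul, ← Ideal.ofList_append])))⟩
  have hnt : Nontrivial Q := Submodule.Quotient.nontrivial_iff.mpr fun h => by
    have := Submodule.eq_bot_of_le_smul_of_le_jacobson_bot (Ideal.ofList xs) (⊤ : Submodule A M) Module.Finite.fg_top h.ge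
      (by rw [Ideal.ofList, Ideal.span_le]; intro y hy; rw [Ideal.jacobson_bot]; exact hxs y hy)
    exact top_ne_bot this
  obtain ⟨P, -, hP⟩ := Groth.Agent.S3405.result A M
  constructor
  · intro h
    obtain ⟨e, he'⟩ := WithBot.ne_bot_iff_exists.mp ((Module.supportDim_ne_bot_iff_nontrivial A Q).mpr hnt)
    rw [← he', ← hP] at h
    have h2 : e + xs.length = (P.natDegree : ℕ∞) := by exact_mod_cast h
    obtain ⟨e, rfl⟩ := ENat.ne_top_iff_exists.mp (ne_top_of_le_ne_top (ENat.coe_ne_top P.natDegree) (le_self_add.trans h2.le))
    obtain ⟨x, hx, hfl⟩ := Groth.Agent.S3406.exists_system e Q he'.ge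
    refine ⟨List.ofFn x, fun y hy => ?_, ?_, ?_⟩
    · obtain ⟨i, rfl⟩ := List.mem_ofFn.mp hy
      exact hx i
    · have h3 : e + xs.length = P.natDegree := by exact_mod_cast h2
      rw [← hP, List.length_append, List.length_ofFn, ← h3, add_comm]
    · obtain ⟨f⟩ := he (List.ofFn x)
      refine f.isFiniteLength ?_
      rw [show Ideal.ofList (List.ofFn x) = Ideal.span (Set.range x) by
        rw [Ideal.ofList]; congr 1; ext y; simp [List.mem_ofFn]]
      exact hfl
  · rintro ⟨ys, hys, hlen, hfl⟩
    refine le_antisymm ?_ (hlow xs M hxs)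
    obtain ⟨f⟩ := he ys
    have h := Groth.Agent.S3406.supportDim_le_card ys.length ys.get Q (fun i => hys _ (List.get_mem ys i)) (by
      rw [show Ideal.span (Set.range ys.get) = Ideal.ofList ys by rw [Ideal.ofList]; congr 1; ext y; simp [List.mem_iff_get]]
      exact f.symm.isFiniteLength hfl)
    refine (add_le_add h le_rfl).trans ?_
    rw [← hlen, List.length_append, Nat.cast_add, add_comm]


end Groth.Agent.S5768
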