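import Groth.Statements.S5770
import Groth.Agent.S5769
import Mathlib.LinearAlgebra.TensorProduct.Pi
import Mathlib.LinearAlgebra.TensorProduct.RightExactness
import Mathlib.RingTheory.KrullDimension.Module
import Mathlib.RingTheory.TensorProduct.Finite


set_option autoImplicit false
universe u
open EGA41

namespace Groth.Agent.S5770

open TensorProduct in
/-- Let φ : A → B be a local homomorphism of Noetherian local rings, m the maximal ideal of A, k = A/m,
M a finitely generated A-module and N a finitely generated B-module. Then dim_B(M ⊗_A N) ≤ dim_A(M)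
+ dim(N ⊗_A k), the last dimension being that of N/mN (over B ⊗_A k or, equivalently by finiteness,
over B). -/
theorem result (A B : Type u) [CommRing A] [CommRing B] [IsLocalRing A]
    [IsLocalRing B] [IsNoetherianRing A] [IsNoetherianRing B] [Algebra A B] [IsLocalHom (algebraMap A B)]
    (M : Type u) [AddCommGroup M] [Module A M] [Module.Finite A M] (N : Type u) [AddCommGroup N] [Module B N]
    [Module A N] [IsScalarTower A B N] [Module.Finite B N] :
    Module.supportDim B (N ⊗[A] M) ≤ Module.supportDim A M +
      Module.supportDim B (N ⧸ ((IsLocalRing.maximalIdeal A).map (algebraMap A B) • (⊤ : Submodule B N))) := by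
  classical
  obtain ⟨k, π, hπ⟩ := Module.Finite.exists_fin' A M
  haveI : Module.Finite B (N ⊗[A] M) := Module.Finite.of_surjective
    ((TensorProduct.AlgebraTensorModule.map (LinearMap.id : N →ₗ[B] N) π) ∘ₗ
      (TensorProduct.piScalarRight A B N (Fin k)).symm.toLinearMap)
    ((LinearMap.lTensor_surjective N hπ).comp (TensorProduct.piScalarRight A B N (Fin k)).symm.surjective)
  set X := N ⊗[A] M
  set J : Ideal B := Module.annihilator B N ⊔ (Module.annihilator A M).map (algebraMap A B) with hJ
  have hJle : J ≤ Module.annihilator B X := by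
    refine sup_le (fun b hb => Module.mem_annihilator.mpr fun z => ?_) (Ideal.map_le_iff_le_comap.mpr fun a ha => ?_)
    · induction z using TensorProduct.induction_on with
      | zero => exact smul_zero b
      | tmul n m => rw [TensorProduct.smul_tmul', Module.mem_annihilator.mp hb, TensorProduct.zero_tmul]
      | add u v hu hv => rw [smul_add, hu, hv, add_zero]
    · rw [Ideal.mem_comap, Module.mem_annihilator]
      intro z
      rw [algebraMap_smul]
      induction z using TensorProduct.induction_on with
      | zero => exact smul_zero a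
      | tmul n m => rw [← TensorProduct.tmul_smul, Module.mem_annihilator.mp ha, TensorProduct.tmul_zero]
      | add u v hu hv => rw [smul_add, hu, hv, add_zero]
  have h1 : Module.supportDim B X ≤ ringKrullDim (B ⧸ J) := by
    rw [Module.supportDim_eq_ringKrullDim_quotient_annihilator]
    exact ringKrullDim_le_of_surjective _ (Ideal.Quotient.factor_surjective hJle)
  refine h1.trans ?_
  rcases eq_or_ne J ⊤ with htop | htop
  · haveI : Subsingleton (B ⧸ J) := Ideal.Quotient.subsingleton_iff.mpr htop
    simp [ringKrullDim_eq_bot_of_subsingleton]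
  haveI : Nontrivial (B ⧸ J) := Ideal.Quotient.nontrivial_iff.mpr htop
  haveI : IsLocalRing (B ⧸ J) := IsLocalRing.of_surjective' _ Ideal.Quotient.mk_surjective
  let f : A ⧸ Module.annihilator A M →+* B ⧸ J := Ideal.quotientMap J (algebraMap A B)
    (Ideal.map_le_iff_le_comap.mp le_sup_right)
  haveI : Nontrivial (A ⧸ Module.annihilator A M) := f.domain_nontrivial
  haveI : IsLocalRing (A ⧸ Module.annihilator A M) := IsLocalRing.of_surjective' _ Ideal.Quotient.mk_surjective
  letI := f.toAlgebra
  haveI hlB : IsLocalHom (Ideal.Quotient.mk J) := IsLocalHom.of_surjective _ Ideal.Quotient.mk_surjective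
  haveI : IsLocalHom (algebraMap (A ⧸ Module.annihilator A M) (B ⧸ J)) := ⟨fun z hz => by
    obtain ⟨a, rfl⟩ := Ideal.Quotient.mk_surjective z
    exact ((isUnit_of_map_unit (algebraMap A B) a (isUnit_of_map_unit (Ideal.Quotient.mk J) _ hz)).map _)⟩
  haveI hlA : IsLocalHom (Ideal.Quotient.mk (Module.annihilator A M)) := IsLocalHom.of_surjective _ Ideal.Quotient.mk_surjective
  have h2 := Groth.Agent.S5769.result (A ⧸ Module.annihilator A M) (B ⧸ J)
  rw [← Module.supportDim_eq_ringKrullDim_quotient_annihilator A M] at h2
  refine h2.trans (add_le_add_right (le_of_le_of_eq ?_ (Module.supportDim_eq_ringKrullDim_quotient_annihilator B _).symm) _)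
  set Q := N ⧸ ((IsLocalRing.maximalIdeal A).map (algebraMap A B) • (⊤ : Submodule B N))
  -- the fibre: every prime of B containing J and m B is in the support of N / mN
  set m' := (IsLocalRing.maximalIdeal (A ⧸ Module.annihilator A M)).map (algebraMap _ (B ⧸ J))
  have hle : Module.annihilator B Q ≤ (RingHom.ker ((Ideal.Quotient.mk m').comp (Ideal.Quotient.mk J))).radical := by
    rw [Ideal.radical_eq_sInf]
    refine le_sInf fun P ⟨hP, hPp⟩ => ?_
    have hPJ : J ≤ P := fun b hb => hP (by
      show Ideal.Quotient.mk m' (Ideal.Quotient.mk J b) = 0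
      rw [Ideal.Quotient.eq_zero_iff_mem.mpr hb, map_zero])
    have hPm : (IsLocalRing.maximalIdeal A).map (algebraMap A B) ≤ P := Ideal.map_le_iff_le_comap.mpr fun a ha => hP (by
      show Ideal.Quotient.mk m' (Ideal.Quotient.mk J (algebraMap A B a)) = 0
      rw [Ideal.Quotient.eq_zero_iff_mem]
      exact Ideal.mem_map_of_mem (algebraMap (A ⧸ Module.annihilator A M) (B ⧸ J)) (I := IsLocalRing.maximalIdeal _)
        (show Ideal.Quotient.mk (Module.annihilator A M) a ∈ IsLocalRing.maximalIdeal _ from fun hu => ha (isUnit_of_map_unit _ a hu)))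
    have : (⟨P, hPp⟩ : PrimeSpectrum B) ∈ Module.support B Q := by
      rw [Module.support_quotient, Set.mem_inter_iff]
      exact ⟨Module.mem_support_iff_of_finite.mpr (le_sup_left.trans hPJ), hPm⟩
    exact Module.mem_support_iff_of_finite.mp this
  set K := RingHom.ker ((Ideal.Quotient.mk m').comp (Ideal.Quotient.mk J))
  have e : B ⧸ K ≃+* (B ⧸ J) ⧸ m' := RingHom.quotientKerEquivOfSurjective
    (Ideal.Quotient.mk_surjective.comp Ideal.Quotient.mk_surjective)
  rw [← ringKrullDim_eq_of_ringEquiv e, ringKrullDim_quotient K, ← PrimeSpectrum.zeroLocus_radical,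
    ← ringKrullDim_quotient]
  exact ringKrullDim_le_of_surjective _ (Ideal.Quotient.factor_surjective hle)


end Groth.Agent.S5770
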