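import Groth.Statements.S5771
import Groth.Agent.S5769
import Mathlib.RingTheory.KrullDimension.NonZeroDivisors

set_option autoImplicit false
universe u
open EGA41

namespace Groth.Agent.S5771

/-- Let φ : A → B be a local homomorphism of Noetherian local rings, m the maximal ideal of A, and
suppose mB is an ideal of definition of B (equivalently dim(B/mB) = 0). Then dim(B) ≤ dim(A); if
moreover A is an integral domain and dim(A) = dim(B), then φ is injective. -/
theorem result (A B : Type u) [CommRing A] [CommRing B]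
    [IsLocalRing A] [IsLocalRing B] [IsNoetherianRing A] [IsNoetherianRing B] [Algebra A B]
    [IsLocalHom (algebraMap A B)]
    (hdef : ringKrullDim (B ⧸ (IsLocalRing.maximalIdeal A).map (algebraMap A B)) = 0) :
    ringKrullDim B ≤ ringKrullDim A ∧
      (IsDomain A → ringKrullDim A = ringKrullDim B → Function.Injective (algebraMap A B)) := by
  refine ⟨(Groth.Agent.S5769.result A B).trans (le_of_eq (by rw [hdef, add_zero])), fun hdom heq => ?_⟩
  rw [RingHom.injective_iff_ker_eq_bot]
  by_contra hne
  obtain ⟨x, hx, hx0⟩ := Submodule.exists_mem_ne_zero_of_ne_bot hne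
  let J := RingHom.ker (algebraMap A B)
  haveI : Nontrivial (A ⧸ J) := Ideal.Quotient.nontrivial_iff.mpr (RingHom.ker_ne_top _)
  haveI : IsLocalRing (A ⧸ J) := IsLocalRing.of_surjective' _ Ideal.Quotient.mk_surjective
  letI : Algebra (A ⧸ J) B := (Ideal.Quotient.lift J (algebraMap A B) fun a ha => ha).toAlgebra
  haveI : IsLocalHom (algebraMap (A ⧸ J) B) := ⟨fun z hz => by
    obtain ⟨a, rfl⟩ := Ideal.Quotient.mk_surjective z
    exact (isUnit_of_map_unit (algebraMap A B) a hz).map _⟩
  have hfib : (IsLocalRing.maximalIdeal (A ⧸ J)).map (algebraMap (A ⧸ J) B) =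
      (IsLocalRing.maximalIdeal A).map (algebraMap A B) := by
    haveI : IsLocalHom (Ideal.Quotient.mk J) := IsLocalHom.of_surjective _ Ideal.Quotient.mk_surjective
    have hm : (IsLocalRing.maximalIdeal A).map (Ideal.Quotient.mk J) = IsLocalRing.maximalIdeal (A ⧸ J) := by
      refine le_antisymm (((IsLocalRing.local_hom_TFAE (Ideal.Quotient.mk J)).out 0 2).mp ‹IsLocalHom (Ideal.Quotient.mk J)›) fun z hz => ?_
      obtain ⟨a, rfl⟩ := Ideal.Quotient.mk_surjective z
      exact Ideal.mem_map_of_mem _ fun hu => hz (hu.map _)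
    rw [← hm, Ideal.map_map]
    rfl
  have h := Groth.Agent.S5769.result (A ⧸ J) B
  rw [hfib, hdef, add_zero, ← heq] at h
  have h2 : ringKrullDim (A ⧸ J) + 1 ≤ ringKrullDim A := by
    refine le_trans (add_le_add (ringKrullDim_le_of_surjective (Ideal.Quotient.factor
      ((Ideal.span_singleton_le_iff_mem J).mpr hx)) (Ideal.Quotient.factor_surjective _)) le_rfl) ?_
    exact ringKrullDim_quotient_succ_le_of_nonZeroDivisor (mem_nonZeroDivisors_of_ne_zero hx0)
  have h3 : ringKrullDim A + 1 ≤ ringKrullDim A := (add_le_add h le_rfl).trans h2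
  obtain ⟨d, hd⟩ := WithBot.ne_bot_iff_exists.mp (ringKrullDim_ne_bot (R := A))
  obtain ⟨m, rfl⟩ := ENat.ne_top_iff_exists.mp (fun hdt : d = ⊤ => by
    have := ringKrullDim_lt_top (R := A)
    rw [← hd, hdt] at this
    exact lt_irrefl _ this)
  rw [← hd] at h3
  norm_cast at h3
  omega


end Groth.Agent.S5771
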