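import Groth.Statements.S5772
import Mathlib.RingTheory.Regular.RegularSequence
import Mathlib.RingTheory.Filtration

set_option autoImplicit false
universe u
open scoped Pointwise
open EGA41

namespace Groth.Agent.S5772

/-- Let A be a Noetherian ring, M a finitely generated A-module and f an element of A. Then f is
M-regular (multiplication by f on M is injective) if and only if f is M-quasi-regular, i.e. the
canonical surjection (M/fM)[T] → gr(M) for the (f)-adic filtration is bijective, which amounts to:
for every k ≥ 0 and x ∈ M, f^k x ∈ f^(k+1) M implies x ∈ fM. -/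
theorem result (A : Type u) [CommRing A] [IsNoetherianRing A] (M : Type u)
    [AddCommGroup M] [Module A M] [Module.Finite A M] (f : A) :
    IsSMulRegular M f ↔
      ∀ (k : ℕ) (x : M), f ^ k • x ∈ f ^ (k + 1) • (⊤ : Submodule A M) → x ∈ f • (⊤ : Submodule A M) := by
  refine ⟨fun hreg k x hx => ?_, fun h => ?_⟩
  · obtain ⟨y, -, hy⟩ := (Submodule.mem_smul_pointwise_iff_exists _ _ _).1 hx
    refine (Submodule.mem_smul_pointwise_iff_exists _ _ _).2 ⟨y, trivial, (IsSMulRegular.pow k hreg) ?_⟩
    simpa [smul_smul, ← pow_succ] using hy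
  · refine IsSMulRegular.of_right_eq_zero_of_smul (fun x hx => ?_)
    have : ∀ j : ℕ, x ∈ f ^ j • (⊤ : Submodule A M) := by
      intro j
      induction j with
      | zero => simp
      | succ j ih =>
        obtain ⟨y, -, rfl⟩ := (Submodule.mem_smul_pointwise_iff_exists _ _ _).1 ih
        obtain ⟨z, -, hz⟩ := (Submodule.mem_smul_pointwise_iff_exists _ _ _).1 (h (j + 1) y (by
          rw [show f ^ (j + 1) • y = 0 by rw [pow_succ', mul_smul, hx]]; exact zero_mem _))
        rw [← hz, smul_smul, ← pow_succ]
        exact Submodule.smul_mem_pointwise_smul _ _ _ trivial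
    obtain ⟨r, hr⟩ := ((Ideal.span {f}).mem_iInf_smul_pow_eq_bot_iff x).1 ((Submodule.mem_iInf _).2 fun j => by
      rw [Ideal.span_singleton_pow, Submodule.ideal_span_singleton_smul]; exact this j)
    obtain ⟨c, hc⟩ := Ideal.mem_span_singleton'.1 r.2
    rw [← hr, ← hc, mul_smul, hx, smul_zero]


end Groth.Agent.S5772
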