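import Groth.Statements.S5773
import Mathlib.RingTheory.Flat.Basic
import Mathlib.RingTheory.Flat.Tensor
import Mathlib.LinearAlgebra.TensorProduct.RightExactness
import Mathlib.LinearAlgebra.TensorProduct.Pi
import Mathlib.RingTheory.Regular.RegularSequence
import Mathlib.RingTheory.Nakayama


set_option autoImplicit false
universe u
open EGA41 TensorProduct Pointwise

namespace Groth.Agent.S5773

theorem flat_step (A B : Type u) [CommRing A] [CommRing B] [IsLocalRing B] [IsNoetherianRing B] [Algebra A B]
    (N N'' : Type u) [AddCommGroup N] [Module B N] [Module A N] [IsScalarTower A B N] [Module.Finite B N]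
    [AddCommGroup N''] [Module B N''] [Module A N''] [IsScalarTower A B N''] [Module.Flat A N'']
    (f : B) (hf : f ∈ IsLocalRing.maximalIdeal B) (hreg : IsSMulRegular N f)
    (g : N →ₗ[B] N'') (hg : Function.Surjective g) (hex : Function.Exact (LinearMap.lsmul B N f) g) :
    Module.Flat A N := by
  rw [Module.Flat.iff_lTensor_injective]
  intro J hJ
  haveI : Module.Finite A J := Module.Finite.iff_fg.mpr hJ
  obtain ⟨k, π, hπ⟩ := Module.Finite.exists_fin' A J
  haveI : Module.Finite B (N ⊗[A] J) := Module.Finite.of_surjective
    ((TensorProduct.AlgebraTensorModule.map (LinearMap.id : N →ₗ[B] N) π) ∘ₗ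
      (TensorProduct.piScalarRight A B N (Fin k)).symm.toLinearMap)
    ((LinearMap.lTensor_surjective N hπ).comp (TensorProduct.piScalarRight A B N (Fin k)).symm.surjective)
  let μ : N ⊗[A] J →ₗ[B] N ⊗[A] A := TensorProduct.AlgebraTensorModule.map LinearMap.id J.subtype
  suffices hK : LinearMap.ker μ = ⊥ from (LinearMap.ker_eq_bot.mp hK : Function.Injective μ)
  refine Submodule.eq_bot_of_le_smul_of_le_jacobson_bot (Ideal.span {f}) _ (IsNoetherian.noetherian _) ?_
    (((Ideal.span_singleton_le_iff_mem _).mpr hf).trans (IsLocalRing.maximalIdeal_le_jacobson _))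
  intro z hz
  have hz' : LinearMap.lTensor N J.subtype z = 0 := hz
  have hflat2 : Function.Injective (LinearMap.lTensor N'' J.subtype) :=
    Module.Flat.iff_lTensor_injective.mp inferInstance hJ
  have h0 : LinearMap.rTensor J (g.restrictScalars A) z = 0 := by
    apply hflat2
    rw [map_zero, ← LinearMap.comp_apply, LinearMap.lTensor_comp_rTensor, ← LinearMap.rTensor_comp_lTensor,
      LinearMap.comp_apply, hz', map_zero]
  obtain ⟨z', hz''⟩ := (rTensor_exact J (f := (LinearMap.lsmul B N f).restrictScalars A) (g := g.restrictScalars A) hex hg z).mp h0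
  have hsm : ∀ {X : Type u} [AddCommGroup X] [Module A X] (t : N ⊗[A] X),
      LinearMap.rTensor X ((LinearMap.lsmul B N f).restrictScalars A) t = f • t := fun t => by
    induction t using TensorProduct.induction_on with
    | zero => simp
    | tmul a b => rw [LinearMap.rTensor_tmul, TensorProduct.smul_tmul']; rfl
    | add a b ha hb => rw [map_add, smul_add, ha, hb]
  rw [hsm] at hz''
  have hregA : IsSMulRegular (N ⊗[A] A) f := fun a b hab => by
    let e := TensorProduct.AlgebraTensorModule.rid A B N
    exact e.injective (hreg (show f • e a = f • e b by rw [← map_smul, ← map_smul]; exact congrArg e hab))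
  have hmem : z' ∈ LinearMap.ker μ := LinearMap.mem_ker.mpr (hregA.right_eq_zero_of_smul (by
    rw [← map_smul, hz'']; exact hz))
  rw [← hz'']
  exact Submodule.smul_mem_smul (Ideal.mem_span_singleton_self f) hmem

/-- Let A → B be a local homomorphism of Noetherian local rings, M a finitely generated B-module and
f_1, ..., f_n elements of the maximal ideal of B forming an M-regular sequence. If the quotient
M/(f_1 M + ... + f_n M) is flat over A, then all the quotients M/(f_1 M + ... + f_i M) for 0 ≤ i ≤ n
(in particular M) are flat over A. -/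
theorem result (A B : Type u) [CommRing A] [CommRing B]
    [IsLocalRing A] [IsLocalRing B] [IsNoetherianRing A] [IsNoetherianRing B] [Algebra A B]
    [IsLocalHom (algebraMap A B)] (M : Type u) [AddCommGroup M] [Module B M] [Module A M]
    [IsScalarTower A B M] [Module.Finite B M] (fs : List B) (hfs : ∀ f ∈ fs, f ∈ IsLocalRing.maximalIdeal B)
    (hreg : RingTheory.Sequence.IsWeaklyRegular M fs)
    (hflat : Module.Flat A (M ⧸ (Ideal.ofList fs • (⊤ : Submodule B M)))) (i : ℕ) (hi : i ≤ fs.length) :
    Module.Flat A (M ⧸ (Ideal.ofList (fs.take i) • (⊤ : Submodule B M))) := by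
  classical
  obtain ⟨d, hd⟩ : ∃ d, i + d = fs.length := ⟨fs.length - i, by omega⟩
  induction d generalizing i with
  | zero =>
    rw [add_zero] at hd
    rw [hd, List.take_length]
    exact hflat
  | succ d ih =>
    have hlt : i < fs.length := by omega
    haveI := ih (i + 1) hlt (by omega)
    set P := Ideal.ofList (fs.take i) • (⊤ : Submodule B M)
    set P' := Ideal.ofList (fs.take (i + 1)) • (⊤ : Submodule B M)
    have hP' : P' = P ⊔ Ideal.span {fs[i]} • (⊤ : Submodule B M) := by
      simp only [P, P', ← List.take_concat_get' fs i hlt, Ideal.ofList_append, Ideal.ofList_singleton,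
        Submodule.sup_smul]
    have hle : P ≤ P' := hP' ▸ le_sup_left
    refine flat_step A B (M ⧸ P) (M ⧸ P') fs[i] (hfs _ (List.getElem_mem hlt)) (hreg.regular_mod_prev i hlt)
      (Submodule.factor hle) (Submodule.factor_surjective hle) ?_
    intro z
    induction z using Submodule.Quotient.induction_on with
    | _ z =>
      show (Submodule.Quotient.mk z : M ⧸ P') = 0 ↔ _
      rw [Submodule.Quotient.mk_eq_zero, hP', Submodule.ideal_span_singleton_smul]
      constructor
      · intro hz
        obtain ⟨a, ha, b, hb, rfl⟩ := Submodule.mem_sup.mp hz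
        obtain ⟨c, -, rfl⟩ := (Submodule.mem_smul_pointwise_iff_exists _ _ _).mp hb
        refine ⟨Submodule.Quotient.mk c, ?_⟩
        show fs[i] • (Submodule.Quotient.mk c : M ⧸ P) = _
        rw [← Submodule.Quotient.mk_smul, Submodule.Quotient.eq]
        simpa using neg_mem ha
      · rintro ⟨c, hc⟩
        induction c using Submodule.Quotient.induction_on with
        | _ c =>
          change (Submodule.Quotient.mk (fs[i] • c) : M ⧸ P) = Submodule.Quotient.mk z at hc
          rw [Submodule.Quotient.eq] at hc
          rw [show z = -(fs[i] • c - z) + fs[i] • c by abel]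
          exact Submodule.add_mem_sup (neg_mem hc) (Submodule.smul_mem_pointwise_smul _ _ _ trivial)


end Groth.Agent.S5773
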