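import Groth.Statements.S5776


set_option autoImplicit false
universe u
open EGA41

open Pointwise

namespace Groth.Agent.S5776


lemma ses {A : Type u} [CommRing A] : ∀ (rs : List A) {M N P : Type u} [AddCommGroup M] [Module A M]
    [AddCommGroup N] [Module A N] [AddCommGroup P] [Module A P] (f : M →ₗ[A] N) (g : N →ₗ[A] P),
    Function.Injective f → Function.Exact f g → Function.Surjective g →
    RingTheory.Sequence.IsWeaklyRegular M rs → RingTheory.Sequence.IsWeaklyRegular P rs →
    RingTheory.Sequence.IsWeaklyRegular N rs := by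
  intro rs
  induction rs with
  | nil => intros; exact RingTheory.Sequence.IsWeaklyRegular.nil A _
  | cons r rs ih =>
    intro M N P _ _ _ _ _ _ f g hf hfg hg h1 h3
    rw [RingTheory.Sequence.isWeaklyRegular_cons_iff] at h1 h3 ⊢
    refine ⟨isSMulRegular_iff_right_eq_zero_of_smul.mpr fun n hn => ?_, ?_⟩
    · have hgn : g n = 0 := isSMulRegular_iff_right_eq_zero_of_smul.mp h3.1 _ (by rw [← map_smul, hn, map_zero])
      obtain ⟨m, rfl⟩ := (hfg n).mp hgn
      rw [← map_smul, ← map_zero f] at hn
      rw [isSMulRegular_iff_right_eq_zero_of_smul.mp h1.1 m (hf hn), map_zero]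
    · refine ih (QuotSMulTop.map r f) (QuotSMulTop.map r g) ?_ ?_ ?_ h1.2 h3.2
      · rw [injective_iff_map_eq_zero]
        intro q hq
        obtain ⟨m, rfl⟩ := Submodule.mkQ_surjective _ q
        rw [Submodule.mkQ_apply, QuotSMulTop.map_apply_mk, Submodule.Quotient.mk_eq_zero,
          Submodule.mem_smul_pointwise_iff_exists] at hq
        obtain ⟨n, -, hn⟩ := hq
        have hgn : g n = 0 := isSMulRegular_iff_right_eq_zero_of_smul.mp h3.1 _ (by rw [← map_smul, hn, hfg.apply_apply_eq_zero])
        obtain ⟨m', rfl⟩ := (hfg n).mp hgn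
        rw [← map_smul] at hn
        rw [← hf hn, Submodule.mkQ_apply, Submodule.Quotient.mk_eq_zero]
        exact Submodule.smul_mem_pointwise_smul _ _ _ trivial
      · exact QuotSMulTop.map_exact r hfg hg
      · exact QuotSMulTop.map_surjective r hg

lemma pow_quot {A : Type u} [CommRing A] {M : Type u} [AddCommGroup M] [Module A M] (x : A)
    (hx : IsSMulRegular M x) (rs : List A) (h : RingTheory.Sequence.IsWeaklyRegular (QuotSMulTop x M) rs) :
    ∀ v : ℕ, RingTheory.Sequence.IsWeaklyRegular (QuotSMulTop (x ^ v) M) rs := by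
  intro v
  induction v with
  | zero =>
    have : Subsingleton (QuotSMulTop (x ^ 0) M) := by
      rw [Submodule.Quotient.subsingleton_iff, pow_zero, one_smul]
    refine ⟨fun i hi => ?_⟩
    intro a b _
    exact Subsingleton.elim _ _
  | succ v ihv =>
    let f : QuotSMulTop x M →ₗ[A] QuotSMulTop (x ^ (v + 1)) M :=
      Submodule.mapQ _ _ ((x ^ v) • LinearMap.id) (by
        intro m hm
        rw [Submodule.mem_comap]
        rw [Submodule.mem_smul_pointwise_iff_exists] at hm
        obtain ⟨n, -, rfl⟩ := hm
        rw [Submodule.mem_smul_pointwise_iff_exists]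
        exact ⟨n, trivial, by simp [pow_succ, mul_smul, smul_comm x]⟩)
    let g : QuotSMulTop (x ^ (v + 1)) M →ₗ[A] QuotSMulTop (x ^ v) M :=
      Submodule.mapQ _ _ LinearMap.id (by
        intro m hm
        rw [Submodule.mem_comap]
        rw [Submodule.mem_smul_pointwise_iff_exists] at hm
        obtain ⟨n, -, rfl⟩ := hm
        rw [Submodule.mem_smul_pointwise_iff_exists]
        exact ⟨x • n, trivial, by simp [pow_succ, mul_smul]⟩)
    refine ses rs f g ?_ ?_ ?_ h ihv
    · rw [injective_iff_map_eq_zero]
      intro q hq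
      obtain ⟨m, rfl⟩ := Submodule.mkQ_surjective _ q
      simp only [f, Submodule.mkQ_apply, Submodule.mapQ_apply, Submodule.Quotient.mk_eq_zero,
        Submodule.mem_smul_pointwise_iff_exists] at hq ⊢
      obtain ⟨n, -, hn⟩ := hq
      refine ⟨n, trivial, (hx.pow v) ?_⟩
      simpa [pow_succ, mul_smul] using hn
    · intro q
      obtain ⟨m, rfl⟩ := Submodule.mkQ_surjective _ q
      simp only [g, Submodule.mkQ_apply, Submodule.mapQ_apply, LinearMap.id_coe, id_eq,
        Submodule.Quotient.mk_eq_zero, Submodule.mem_smul_pointwise_iff_exists]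
      constructor
      · rintro ⟨n, -, rfl⟩
        exact ⟨Submodule.Quotient.mk n, rfl⟩
      · rintro ⟨q', hq'⟩
        obtain ⟨n, rfl⟩ := Submodule.mkQ_surjective _ q'
        simp only [f, Submodule.mkQ_apply, Submodule.mapQ_apply] at hq'
        rw [Submodule.Quotient.eq, Submodule.mem_smul_pointwise_iff_exists] at hq'
        obtain ⟨k, -, hk⟩ := hq'
        refine ⟨n - x • k, trivial, ?_⟩
        simp only [pow_succ, mul_smul, LinearMap.smul_apply, LinearMap.id_coe, id_eq] at hk
        rw [smul_sub, hk]; abel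
    · intro q
      obtain ⟨m, rfl⟩ := Submodule.mkQ_surjective _ q
      exact ⟨Submodule.Quotient.mk m, rfl⟩


/-- Let A be a ring, M an A-module and (f_i)_{1 ≤ i ≤ n} an M-regular sequence of elements of A. Then
for any exponents v_i ≥ 1 the sequence (f_i ^ v_i) is again M-regular. -/
theorem result (A : Type u) [CommRing A] (M : Type u) [AddCommGroup M]
    [Module A M] (n : ℕ) (f : Fin n → A) (v : Fin n → ℕ) (hv : ∀ i, 1 ≤ v i)
    (hf : RingTheory.Sequence.IsWeaklyRegular M (List.ofFn f)) :
    RingTheory.Sequence.IsWeaklyRegular M (List.ofFn fun i => f i ^ v i) := by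
  have key : ∀ (l : List (A × ℕ)) (M : Type u) [AddCommGroup M] [Module A M],
      RingTheory.Sequence.IsWeaklyRegular M (l.map Prod.fst) →
      RingTheory.Sequence.IsWeaklyRegular M (l.map fun p => p.1 ^ p.2) := by
    intro l
    induction l with
    | nil => intro M _ _ _; exact RingTheory.Sequence.IsWeaklyRegular.nil A M
    | cons p l ih =>
      intro M _ _ h
      rw [List.map_cons, RingTheory.Sequence.isWeaklyRegular_cons_iff] at h ⊢
      exact ⟨h.1.pow _, ih _ (pow_quot _ h.1 _ h.2 _)⟩
  have := key (List.ofFn fun i => (f i, v i)) M (by simpa [List.map_ofFn, Function.comp_def] using hf)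
  simpa [List.map_ofFn, Function.comp_def] using this

end Groth.Agent.S5776
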