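import Groth.Statements.S5779
import Groth.Agent.Lib.Regular.Indep
import Groth.Agent.Lib.Regular.Quotient
import Mathlib.LinearAlgebra.Dimension.OrzechProperty

set_option autoImplicit false
universe u
open EGA41

namespace Groth.Agent.S5779

/-- Let A be a Noetherian local ring with maximal ideal m and residue field k, (x_i)_{1 ≤ i ≤ r}
elements of m and J = x_1 A + ... + x_r A. Then A is regular with the classes of the x_i in m/m²
linearly independent over k (equivalently: the x_i are part of a regular system of parameters) if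
and only if the x_i are part of a system of parameters of A (dim(A/J) = dim(A) - r) and A/J is
regular. When these conditions hold, J is a prime ideal. -/
theorem result (A : Type u) [CommRing A] [IsLocalRing A]
    [IsNoetherianRing A] (r : ℕ) (x : Fin r → IsLocalRing.maximalIdeal A) :
    ((IsRegularLocalRing A ∧
        LinearIndependent (IsLocalRing.ResidueField A)
          (fun i => (IsLocalRing.maximalIdeal A).toCotangent (x i))) ↔
      (ringKrullDim (A ⧸ Ideal.span (Set.range fun i => (x i : A))) + r = ringKrullDim A ∧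
        IsRegularLocalRing (A ⧸ Ideal.span (Set.range fun i => (x i : A))))) ∧
    (IsRegularLocalRing (A ⧸ Ideal.span (Set.range fun i => (x i : A))) →
      ringKrullDim (A ⧸ Ideal.span (Set.range fun i => (x i : A))) + r = ringKrullDim A →
        (Ideal.span (Set.range fun i => (x i : A))).IsPrime) := by
  classical
  set I := Ideal.span (Set.range fun i => (x i : A))
  have hIm : I ≤ IsLocalRing.maximalIdeal A := Ideal.span_le.2 (by rintro _ ⟨i, rfl⟩; exact (x i).2)
  refine ⟨⟨fun ⟨hreg, hli⟩ => ?_, fun ⟨hdim, hreg⟩ => ?_⟩, fun hreg _ => ?_⟩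
  · obtain ⟨h1, h2⟩ := Groth.Agent.Lib.Regular.Indep.quotient_of_indep x hli
    exact ⟨h2, h1⟩
  swap
  · haveI := Groth.Agent.Lib.Regular.Quotient.isDomain (A ⧸ I)
    exact (Ideal.Quotient.isDomain_iff_prime I).mp inferInstance
  -- lift a minimal system of generators
  let e := (IsLocalRing.maximalIdeal (A ⧸ I)).spanFinrank
  obtain ⟨g, hg⟩ : ∃ g : Fin e → A, IsLocalRing.maximalIdeal A ≤ I ⊔ Ideal.span (Set.range g) ∧
      ∀ i, g i ∈ IsLocalRing.maximalIdeal A := by
    have hfg : (IsLocalRing.maximalIdeal (A ⧸ I)).FG := IsNoetherian.noetherian _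
    obtain ⟨b, hb⟩ : ∃ b : Set (A ⧸ I), b.Finite ∧ b.ncard = e ∧
        Submodule.span (A ⧸ I) b = IsLocalRing.maximalIdeal (A ⧸ I) :=
      ⟨_, Submodule.FG.finite_generators hfg, Submodule.FG.generators_ncard hfg, Submodule.span_generators _⟩
    haveI := hb.1.fintype
    let eq : Fin e ≃ b := (Fintype.equivFinOfCardEq (by rw [← Nat.card_eq_fintype_card, Nat.card_coe_set_eq]; exact hb.2.1)).symm
    choose g hg using fun i : Fin e => Ideal.Quotient.mk_surjective (eq i).1
    have hmem : ∀ z ∈ b, z ∈ IsLocalRing.maximalIdeal (A ⧸ I) := fun z hz => hb.2.2 ▸ Submodule.subset_span hz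
    refine ⟨g, fun a ha => ?_, fun i => ?_⟩
    · have h1 : Ideal.Quotient.mk I a ∈ Ideal.span b := by
        change Ideal.Quotient.mk I a ∈ Submodule.span (A ⧸ I) b
        rw [hb.2.2]
        intro hu
        haveI : IsLocalHom (Ideal.Quotient.mk I) := IsLocalHom.of_surjective _ Ideal.Quotient.mk_surjective
        exact ha (isUnit_of_map_unit _ a hu)
      have h2 : b = Ideal.Quotient.mk I '' Set.range g := by
        ext z
        constructor
        · intro hz; exact ⟨_, ⟨eq.symm ⟨z, hz⟩, rfl⟩, by rw [hg]; simp⟩
        · rintro ⟨_, ⟨i, rfl⟩, rfl⟩; rw [hg]; exact (eq i).2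
      rw [h2, ← Ideal.map_span, Ideal.mem_map_iff_of_surjective _ Ideal.Quotient.mk_surjective] at h1
      obtain ⟨c, hc, hca⟩ := h1
      rw [show a = (a - c) + c by ring]
      exact add_mem (Ideal.mem_sup_left (Ideal.Quotient.eq.mp hca.symm)) (Ideal.mem_sup_right hc)
    · intro hu
      exact (hmem _ (eq i).2) ((hg i) ▸ hu.map _)
  obtain ⟨hgen, hgm⟩ := hg
  let y : Fin r ⊕ Fin e → IsLocalRing.maximalIdeal A := Sum.elim x fun i => ⟨g i, hgm i⟩
  have hy : Ideal.span (Set.range fun i => (y i : A)) = IsLocalRing.maximalIdeal A := by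
    refine le_antisymm (Ideal.span_le.2 (by rintro _ ⟨i, rfl⟩; exact (y i).2)) (hgen.trans (sup_le ?_ ?_))
    · exact Ideal.span_mono (by rintro _ ⟨i, rfl⟩; exact ⟨Sum.inl i, rfl⟩)
    · exact Ideal.span_mono (by rintro _ ⟨i, rfl⟩; exact ⟨Sum.inr i, rfl⟩)
  have hle : (IsLocalRing.maximalIdeal A).spanFinrank ≤ r + e := by
    rw [← hy]
    refine (Submodule.spanFinrank_span_le_ncard_of_finite (Set.finite_range _)).trans ?_
    rw [← Set.image_univ]
    exact (Set.ncard_image_le Set.finite_univ).trans (by simp [Set.ncard_univ])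
  have hdimq : ringKrullDim (A ⧸ I) = e := hreg.spanFinrank_maximalIdeal.symm
  have hA : IsRegularLocalRing A := IsRegularLocalRing.of_spanFinrank_maximalIdeal_le A (by
    rw [← hdim, hdimq, add_comm]
    exact_mod_cast hle)
  refine ⟨hA, ?_⟩
  have hfr : Module.finrank (IsLocalRing.ResidueField A) (IsLocalRing.CotangentSpace A) = r + e := by
    have h := (IsRegularLocalRing.iff_finrank_cotangentSpace A).mp hA
    rw [← hdim, hdimq] at h
    have : Module.finrank (IsLocalRing.ResidueField A) (IsLocalRing.CotangentSpace A) = e + r := by exact_mod_cast h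
    omega
  have hspan : Submodule.span (IsLocalRing.ResidueField A)
      (Set.range fun i => (IsLocalRing.maximalIdeal A).toCotangent (y i)) = ⊤ := by
    have hS : Submodule.span A (Set.range y) = ⊤ :=
      Submodule.map_injective_of_injective (f := (IsLocalRing.maximalIdeal A).subtype) Subtype.val_injective (by
        rw [Submodule.map_span, Submodule.map_subtype_top, ← Set.range_comp]
        exact hy)
    have h := IsLocalRing.CotangentSpace.span_image_eq_top_iff.mpr hS
    rwa [← Set.range_comp] at h
  have hli := linearIndependent_of_top_le_span_of_card_eq_finrank hspan.ge (by simp [hfr])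
  exact hli.comp Sum.inl Sum.inl_injective


end Groth.Agent.S5779
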