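import Groth.Statements.S5780
import Mathlib.RingTheory.Nakayama
import Mathlib.RingTheory.Jacobson.Ideal
import Mathlib.RingTheory.Ideal.AssociatedPrime.Finiteness


set_option autoImplicit false
universe u
open EGA41

namespace Groth.Agent.S5780

/-- Let A be a Noetherian local ring with maximal ideal m. If every element of m which is not in m² is a
zero divisor in A, then there is a nonzero c in A with c m = 0, i.e. m is an associated prime of A. -/
theorem result (A : Type u) [CommRing A]
    [IsLocalRing A] [IsNoetherianRing A]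
    (h : ∀ a ∈ IsLocalRing.maximalIdeal A, a ∉ IsLocalRing.maximalIdeal A ^ 2 → ¬ IsSMulRegular A a) :
    IsLocalRing.maximalIdeal A ∈ associatedPrimes A A := by
  classical
  set m := IsLocalRing.maximalIdeal A
  have hfin := associatedPrimes.finite A A
  have hsub : (m : Set A) ⊆ ⋃ i ∈ (↑(insert (m ^ 2) hfin.toFinset) : Set (Ideal A)), (id i : Ideal A) := by
    intro a ha
    by_cases h2 : a ∈ m ^ 2
    · exact Set.mem_biUnion (by simp) h2
    have hz : a ∈ ⋃ p ∈ associatedPrimes A A, (p : Set A) := by
      rw [biUnion_associatedPrimes_eq_zero_divisors]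
      by_contra hc
      apply h a ha h2
      intro u v huv
      by_contra hne
      exact hc ⟨u - v, sub_ne_zero.mpr hne, by
        simp only [smul_eq_mul, mul_sub] at huv ⊢; rw [sub_eq_zero]; exact huv⟩
    obtain ⟨p, hp, hap⟩ := Set.mem_iUnion₂.mp hz
    exact Set.mem_biUnion (by simp [hp]) hap
  obtain ⟨i, hi, hle⟩ := (Ideal.subset_union_prime (m ^ 2) (m ^ 2) (fun i hi h1 _ => by
    simp only [Finset.mem_insert, Set.Finite.mem_toFinset] at hi
    exact (hi.resolve_left h1).isPrime)).mp hsub
  simp only [Finset.mem_insert, Set.Finite.mem_toFinset] at hi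
  rcases hi with rfl | hi
  · have hbot : m = ⊥ := by
      refine Submodule.eq_bot_of_le_smul_of_le_jacobson_bot m m (IsNoetherian.noetherian m) ?_
        (IsLocalRing.maximalIdeal_le_jacobson _)
      simpa [pow_two] using hle
    refine ⟨inferInstanceAs m.IsPrime, 1, ?_⟩
    have h1 : (⊥ : Submodule A A).colon {(1 : A)} = (⊥ : Ideal A) := by
      ext a
      simp [Submodule.mem_colon_singleton]
    have hp : (⊥ : Ideal A).IsPrime := hbot ▸ inferInstanceAs m.IsPrime
    rw [h1, hbot, hp.radical]
  · have := (IsLocalRing.maximalIdeal.isMaximal A).eq_of_le hi.isPrime.ne_top hle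
    exact (show m = i from this) ▸ hi


end Groth.Agent.S5780
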