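import Groth.Statements.S5781
import Mathlib.RingTheory.Ideal.Cotangent
import Mathlib.LinearAlgebra.Dual.Lemmas
import Mathlib.LinearAlgebra.Basis.VectorSpace
import Mathlib.RingTheory.Regular.IsSMulRegular


set_option autoImplicit false
universe u
open EGA41 Pointwise

namespace Groth.Agent.S5781

/-- Suppose A is a Noetherian local ring whose maximal ideal is m, and take a ∈ m with a ∉ m². Then the
quotient m/am contains a direct summand isomorphic to m/Aa: concretely, one can find A-linear maps f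
: m/Aa → m/am and g : m/am → m/Aa such that g ∘ f is the identity. -/
theorem result (A : Type u) [CommRing A] [IsLocalRing A]
    [IsNoetherianRing A] (a : A) (ha : a ∈ IsLocalRing.maximalIdeal A) (ha2 : a ∉ IsLocalRing.maximalIdeal A ^ 2) :
    ∃ (f : (↥(IsLocalRing.maximalIdeal A) ⧸ Submodule.span A {(⟨a, ha⟩ : ↥(IsLocalRing.maximalIdeal A))}) →ₗ[A]
          QuotSMulTop a ↥(IsLocalRing.maximalIdeal A))
      (g : QuotSMulTop a ↥(IsLocalRing.maximalIdeal A) →ₗ[A]
          (↥(IsLocalRing.maximalIdeal A) ⧸ Submodule.span A {(⟨a, ha⟩ : ↥(IsLocalRing.maximalIdeal A))})),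
      g.comp f = LinearMap.id := by
  classical
  let m := IsLocalRing.maximalIdeal A
  let a' : m := ⟨a, ha⟩
  have hne : m.toCotangent a' ≠ 0 := by
    rw [ne_eq, Ideal.toCotangent_eq_zero]
    exact ha2
  obtain ⟨l, hl⟩ := not_forall.mp (mt (Module.forall_dual_apply_eq_zero_iff (IsLocalRing.ResidueField A) _).mp hne)
  let lam : m →ₗ[A] IsLocalRing.ResidueField A :=
    ((((l (m.toCotangent a'))⁻¹ • l) : IsLocalRing.CotangentSpace A →ₗ[IsLocalRing.ResidueField A] IsLocalRing.ResidueField A).restrictScalars A) ∘ₗ m.toCotangent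
  have hlam : lam a' = 1 := by
    show (l (m.toCotangent a'))⁻¹ * l (m.toCotangent a') = 1
    exact inv_mul_cancel₀ hl
  let ψ : (A ⧸ m) →ₗ[A] QuotSMulTop a m :=
    Submodule.liftQ m (LinearMap.toSpanSingleton A _ (Submodule.Quotient.mk a')) fun c hc => by
      rw [LinearMap.mem_ker, LinearMap.toSpanSingleton_apply, ← Submodule.Quotient.mk_smul, Submodule.Quotient.mk_eq_zero]
      exact (Submodule.mem_smul_pointwise_iff_exists _ _ _).mpr ⟨⟨c, hc⟩, trivial, Subtype.ext (mul_comm a c)⟩
  have hψ : ψ 1 = Submodule.Quotient.mk a' := by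
    show (1 : A) • (Submodule.Quotient.mk a' : QuotSMulTop a m) = _
    rw [one_smul]
  let F : m →ₗ[A] QuotSMulTop a m := (a • (⊤ : Submodule A m)).mkQ - ψ ∘ₗ lam
  have hF : F a' = 0 := by
    show Submodule.Quotient.mk a' - ψ (lam a') = 0
    rw [hlam]
    exact sub_eq_zero.mpr hψ.symm
  have hle : a • (⊤ : Submodule A m) ≤ Submodule.span A {a'} := by
    rintro y hy
    obtain ⟨z, -, rfl⟩ := (Submodule.mem_smul_pointwise_iff_exists _ _ _).mp hy
    exact Submodule.mem_span_singleton.mpr ⟨(z : A), Subtype.ext (mul_comm (z : A) a)⟩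
  refine ⟨Submodule.liftQ _ F ((Submodule.span_singleton_le_iff_mem _ _).mpr hF),
    Submodule.factor hle, ?_⟩
  refine Submodule.linearMap_qext _ (LinearMap.ext fun y => ?_)
  obtain ⟨c, hc⟩ := Ideal.Quotient.mk_surjective (lam y)
  show Submodule.factor hle (Submodule.Quotient.mk y - ψ (lam y)) = Submodule.Quotient.mk y
  rw [← hc, map_sub]
  show Submodule.factor hle (Submodule.Quotient.mk y) - Submodule.factor hle (c • (Submodule.Quotient.mk a' : QuotSMulTop a m)) = Submodule.Quotient.mk y
  rw [← Submodule.Quotient.mk_smul]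
  show Submodule.Quotient.mk y - Submodule.Quotient.mk (c • a') = Submodule.Quotient.mk y
  rw [sub_eq_self]
  exact (Submodule.Quotient.mk_eq_zero _).mpr (Submodule.smul_mem _ c (Submodule.mem_span_singleton_self _))


end Groth.Agent.S5781
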