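import Groth.Statements.S5782
import Groth.Agent.H20.PDDepth

set_option autoImplicit false
universe u
open CategoryTheory
open EGA41

namespace Groth.Agent.S5782

/-- Let A be a Noetherian local ring with maximal ideal m, E a finitely generated A-module of finite
projective dimension, and a ∈ m an element which is A-regular and E-regular. Then E/aE, as a module
over A/aA, has finite projective dimension at most the projective dimension of E over A. -/
theorem result (A : Type u) [CommRing A] [IsLocalRing A]
    [IsNoetherianRing A] (E : Type u) [AddCommGroup E] [Module A E] [Module.Finite A E]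
    (hfin : projectiveDimension (ModuleCat.of A E) ≠ ⊤) (a : A) (ha : a ∈ IsLocalRing.maximalIdeal A)
    (hA : IsSMulRegular A a) (hE : IsSMulRegular E a) :
    projectiveDimension (ModuleCat.of (A ⧸ Ideal.span {a}) (E ⧸ (Ideal.span {a} • (⊤ : Submodule A E)))) ≤
      projectiveDimension (ModuleCat.of A E) := by
  obtain ⟨n, hn⟩ | h : (∃ n : ℕ, CategoryTheory.projectiveDimension (ModuleCat.of A E) = n) ∨
      CategoryTheory.projectiveDimension (ModuleCat.of A E) = ⊥ := by
    revert hfin
    cases CategoryTheory.projectiveDimension (ModuleCat.of A E) with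
    | bot => exact fun _ => Or.inr rfl
    | coe x =>
      cases x with
      | top => exact fun h => absurd rfl h
      | coe n => exact fun _ => Or.inl ⟨n, rfl⟩
  · rw [hn]
    refine (Groth.Agent.H20.PDDepth.pdle_iff_projectiveDimension_le _ n).mp ?_
    have hn' := (Groth.Agent.H20.PDDepth.pdle_iff_projectiveDimension_le E n).mpr hn.le
    let e : QuotSMulTop a E ≃ₗ[A ⧸ Ideal.span {a}] (E ⧸ (Ideal.span {a} • (⊤ : Submodule A E))) :=
      LinearEquiv.extendScalarsOfSurjective Ideal.Quotient.mk_surjective
        (Submodule.quotEquivOfEq _ _ (Submodule.ideal_span_singleton_smul a ⊤).symm)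
    exact Groth.Agent.Lib.Regular.PD.pdle_of_equiv e (Groth.Agent.Lib.Regular.PD.pdle_red hA n hE hn')
  · rw [h]
    refine le_of_eq ((CategoryTheory.projectiveDimension_eq_bot_iff _).mpr ?_)
    rw [ModuleCat.isZero_iff_subsingleton]
    have : Subsingleton E := ModuleCat.isZero_iff_subsingleton.mp
      ((CategoryTheory.projectiveDimension_eq_bot_iff _).mp h)
    exact Function.Surjective.subsingleton (Submodule.Quotient.mk_surjective _)

end Groth.Agent.S5782
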