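import Groth.Statements.S5783
import Groth.Agent.H18.AB
import Groth.Agent.Lib.WildAdm.Length
import Groth.Agent.Lib.Dim.Integral
import Groth.Agent.Lib.Depth.Local


set_option autoImplicit false
universe u
open EGA41

namespace Groth.Agent.S5783

/-- Let A be a regular local ring, B a local ring and ρ : A → B a local homomorphism making B a finitely
generated A-module. Then B is a free A-module if and only if B is a Cohen-Macaulay ring and ρ is
injective (the latter being equivalent to dim(B) = dim(A)). -/
theorem result (A B : Type u) [CommRing A] [CommRing B]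
    [IsRegularLocalRing A] [IsLocalRing B] [Algebra A B] [IsLocalHom (algebraMap A B)] [Module.Finite A B] :
    Module.Free A B ↔ LocCoh.IsCohenMacaulayLocalRing B ∧ Function.Injective (algebraMap A B) := by
  classical
  haveI : IsNoetherianRing B := IsNoetherianRing.of_finite A B
  haveI : Module.Finite B B := inferInstance
  have hA := Groth.Agent.Lib.WildAdm.Length.isCohenMacaulay (A := A)
  set d := (IsLocalRing.maximalIdeal A).spanFinrank
  have hd : ringKrullDim A = d := IsRegularLocalRing.spanFinrank_maximalIdeal.symm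
  have hdA : LocCoh.depth A A = d := by
    have := Groth.Agent.Lib.Depth.CM.ringKrullDim_eq_depth (R := A)
    rw [hd] at this
    exact (WithBot.coe_inj.mp this).symm
  have hnt : IsLocalRing.maximalIdeal A • (⊤ : Submodule A B) ≠ ⊤ :=
    Groth.Agent.Lib.Depth.Basic.smul_top_ne_top (IsLocalRing.maximalIdeal.isMaximal A).ne_top
  obtain ⟨j, hj⟩ : ∃ j : ℕ, LocCoh.depth A B = j :=
    Groth.Agent.Lib.Depth.Local.exists_nat_eq_idealDepth _ B hnt
  obtain ⟨hjd, hiff⟩ := Groth.Agent.H18.AB.pdle_iff d A hdA B ⟨_, Groth.Agent.Lib.Regular.Serre.pdle_all B⟩ j hj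
  have hfree : Module.Free A B ↔ d ≤ j := by
    rw [← add_zero j, ← hiff 0, Groth.Agent.Lib.Regular.PD.pdle_zero_iff]
    exact ⟨fun _ => Module.Projective.of_free, fun _ => Module.free_of_flat_of_isLocalRing⟩
  have hle : (IsLocalRing.maximalIdeal A).map (algebraMap A B) ≤ IsLocalRing.maximalIdeal B :=
    ((IsLocalRing.local_hom_TFAE (algebraMap A B)).out 0 2).mp ‹IsLocalHom (algebraMap A B)›
  have hprimes : ∀ P : PrimeSpectrum B, (IsLocalRing.maximalIdeal A).map (algebraMap A B) ≤ P.asIdeal →
      IsLocalRing.maximalIdeal B ≤ P.asIdeal := fun P hP => by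
    have hc : (P.asIdeal.comap (algebraMap A B)).IsMaximal := by
      have := (IsLocalRing.maximalIdeal.isMaximal A).eq_of_le (Ideal.comap_ne_top _ P.2.ne_top) (Ideal.map_le_iff_le_comap.mp hP)
      exact this ▸ IsLocalRing.maximalIdeal.isMaximal A
    have := Ideal.isMaximal_of_isIntegral_of_isMaximal_comap (R := A) P.asIdeal hc
    exact (IsLocalRing.eq_maximalIdeal this).ge
  have hdepth : LocCoh.depth B B = j := by
    rw [← hj]
    show LocCoh.idealDepth _ B = LocCoh.idealDepth _ B
    rw [Groth.Agent.Lib.Depth.Local.idealDepth_eq_map_of_finite (B := B) (IsLocalRing.maximalIdeal A) B,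
      Groth.Agent.Lib.Depth.Local.idealDepth_eq_iInf, Groth.Agent.Lib.Depth.Local.idealDepth_eq_iInf]
    refine iInf_congr fun P => ?_
    exact iInf_congr_Prop ⟨fun h => hle.trans h, hprimes P⟩ fun _ => rfl
  constructor
  · intro hF
    haveI : FaithfulSMul A B := inferInstance
    refine ⟨?_, FaithfulSMul.algebraMap_injective A B⟩
    rw [Groth.Agent.Lib.Depth.CM.isCohenMacaulayLocalRing_iff, hdepth,
      Groth.Agent.Lib.Dim.Integral.ringKrullDim_eq_of_isIntegral (R := A) (A := B), hd]
    exact WithBot.coe_le_coe.mpr (Nat.cast_le.mpr (hfree.mp hF))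
  · rintro ⟨hB, hinj⟩
    haveI : FaithfulSMul A B := (faithfulSMul_iff_algebraMap_injective A B).mpr hinj
    rw [hfree]
    have := Groth.Agent.Lib.Depth.CM.ringKrullDim_eq_depth (R := B)
    rw [hdepth, Groth.Agent.Lib.Dim.Integral.ringKrullDim_eq_of_isIntegral (R := A) (A := B), hd] at this
    exact (Nat.cast_inj.mp (WithBot.coe_inj.mp this)).le


end Groth.Agent.S5783
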