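import Groth.Statements.S5786
import Groth.Agent.S5788
import Groth.Agent.Lib.Regular.Descent


set_option autoImplicit false
universe u
open CategoryTheory
open EGA41 TensorProduct

namespace Groth.Agent.S5786

/-- Let φ : A → B be a local homomorphism of Noetherian local rings making B a flat A-module. Then the
global (cohomological) dimension of A is at most that of B: if every B-module has projective
dimension at most n, then so does every A-module. -/
theorem result (A B : Type u) [CommRing A] [CommRing B] [IsLocalRing A]
    [IsLocalRing B] [IsNoetherianRing A] [IsNoetherianRing B] [Algebra A B] [IsLocalHom (algebraMap A B)]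
    [Module.Flat A B] (n : ℕ)
    (hB : ∀ (N : Type u) [AddCommGroup N] [Module B N], HasProjectiveDimensionLT (ModuleCat.of B N) (n + 1))
    (M : Type u) [AddCommGroup M] [Module A M] : HasProjectiveDimensionLT (ModuleCat.of A M) (n + 1) := by
  classical
  haveI : Module.FaithfullyFlat A B := Module.FaithfullyFlat.of_flat_of_isLocalHom
  rw [hasProjectiveDimensionLT_iff]
  intro i hi Y e
  haveI : HasInjectiveDimensionLT Y (n + 1) := (Groth.Agent.S5788.result A Y n).mpr fun I => by
    have h : Groth.Agent.Lib.Regular.PD.PDle A (A ⧸ I) n :=
      Groth.Agent.Lib.Regular.Descent.pdle_descend B n (hB (B ⊗[A] (A ⧸ I)))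
    haveI : HasProjectiveDimensionLT (ModuleCat.of A (A ⧸ I)) (n + 1) := h
    exact HasProjectiveDimensionLT.subsingleton (ModuleCat.of A (A ⧸ I)) (n + 1) (n + 1) le_rfl Y
  exact (HasInjectiveDimensionLT.subsingleton Y (n + 1) i hi (ModuleCat.of A M)).elim e 0


end Groth.Agent.S5786
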