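import Groth.Statements.S5787
import Groth.Agent.Lib.Depth.Vanish


set_option autoImplicit false
universe u
open CategoryTheory
open EGA41

namespace Groth.Agent.S5787

theorem aux (A : Type u) [CommRing A] [IsLocalRing A] [IsNoetherianRing A] :
    ∀ (xs : List A) (M : Type u) [AddCommGroup M] [Module A M],
      (∀ x ∈ xs, x ∈ IsLocalRing.maximalIdeal A) → RingTheory.Sequence.IsWeaklyRegular M xs →
      Nonempty ((IsLocalRing.ResidueField A →ₗ[A] (M ⧸ (Ideal.ofList xs • (⊤ : Submodule A M)))) ≃+
        Abelian.Ext (ModuleCat.of A (IsLocalRing.ResidueField A)) (ModuleCat.of A M) xs.length) := by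
  intro xs
  induction xs with
  | nil =>
    intro M _ _ _ _
    have e : (M ⧸ (Ideal.ofList ([] : List A) • (⊤ : Submodule A M))) ≃ₗ[A] M :=
      Submodule.quotEquivOfEqBot _ (by simp [Ideal.ofList])
    exact ⟨(LinearEquiv.congrRight e).toAddEquiv.trans ((ModuleCat.homAddEquiv (M := ModuleCat.of A (IsLocalRing.ResidueField A)) (N := ModuleCat.of A M)).symm.trans Abelian.Ext.addEquiv₀.symm)⟩
  | cons x rs ih =>
    intro M _ _ hxs hreg
    obtain ⟨hx, hrs⟩ := (RingTheory.Sequence.isWeaklyRegular_cons_iff M x rs).mp hreg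
    obtain ⟨e⟩ := ih (QuotSMulTop x M) (fun y hy => hxs y (List.mem_cons_of_mem _ hy)) hrs
    set k := ModuleCat.of A (IsLocalRing.ResidueField A)
    have hxk : x ∈ Module.annihilator A k := Module.mem_annihilator.mpr fun z => by
      obtain ⟨c, rfl⟩ := Ideal.Quotient.mk_surjective z
      exact Ideal.Quotient.eq_zero_iff_mem.mpr (Ideal.mul_mem_right c _ (hxs x (List.mem_cons_self ..)))
    have hS := (show IsSMulRegular (ModuleCat.of A M) x from hx).smulShortComplex_shortExact
    let δ : Abelian.Ext k ((ModuleCat.of A M).smulShortComplex x).X₃ rs.length →+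
        Abelian.Ext k (ModuleCat.of A M) (x :: rs).length :=
      { toFun := fun α => Abelian.Ext.comp α hS.extClass rfl
        map_zero' := Abelian.Ext.zero_comp _ _ _ _ _
        map_add' := fun a b => Abelian.Ext.add_comp _ _ _ _ }
    have hvan : Subsingleton (Abelian.Ext k (ModuleCat.of A M) rs.length) :=
      Groth.Agent.Lib.Depth.Vanish.subsingleton_ext_of_isWeaklyRegular (I := IsLocalRing.maximalIdeal A) (k := 1)
        (by rw [pow_one]; intro y hy; exact Module.mem_annihilator.mpr fun z => by
              obtain ⟨c, rfl⟩ := Ideal.Quotient.mk_surjective z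
              exact Ideal.Quotient.eq_zero_iff_mem.mpr (Ideal.mul_mem_right c _ hy))
        (rs := x :: rs) hreg hxs (by simp)
    have hbij : Function.Bijective δ := by
      refine ⟨(injective_iff_map_eq_zero δ).mpr fun α hα => ?_, fun β => ?_⟩
      · obtain ⟨α₂, rfl⟩ := Abelian.Ext.covariant_sequence_exact₃ k hS α rfl hα
        rw [(show Subsingleton (Abelian.Ext k (((ModuleCat.of A M)).smulShortComplex x).X₂ rs.length) from hvan).elim α₂ 0, Abelian.Ext.zero_comp]
      · exact Abelian.Ext.covariant_sequence_exact₁ k hS β (by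
          rw [ModuleCat.smulShortComplex_f_eq_smul_id]
          exact (Abelian.Ext.smul_eq_comp_mk₀ β x).symm.trans
            (Groth.Agent.Lib.Depth.Ext.smul_eq_zero_of_annihilator_src hxk β)) rfl
    exact ⟨((LinearEquiv.congrRight (Submodule.quotOfListConsSMulTopEquivQuotSMulTopInner M x rs)).toAddEquiv.trans e).trans
      (AddEquiv.ofBijective δ hbij)⟩

/-- Let A be a Noetherian local ring with maximal ideal m and residue field k, M an A-module and
(x_i)_{1 ≤ i ≤ n} an M-regular sequence of elements of m. Then Hom_A(k, M/(x_1 M + ... + x_n M)) and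
Ext^n_A(k, M) are isomorphic (existence of an isomorphism; stated for the underlying abelian
groups). -/
theorem result (A : Type u) [CommRing A] [IsLocalRing A]
    [IsNoetherianRing A] (M : Type u) [AddCommGroup M] [Module A M] (xs : List A)
    (hxs : ∀ x ∈ xs, x ∈ IsLocalRing.maximalIdeal A) (hreg : RingTheory.Sequence.IsWeaklyRegular M xs) :
    Nonempty ((IsLocalRing.ResidueField A →ₗ[A] (M ⧸ (Ideal.ofList xs • (⊤ : Submodule A M)))) ≃+
      Abelian.Ext (ModuleCat.of A (IsLocalRing.ResidueField A)) (ModuleCat.of A M) xs.length) := by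
  exact aux A xs M hxs hreg


end Groth.Agent.S5787
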