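import Groth.Statements.S5790
import Mathlib.RingTheory.LocalProperties.InjectiveDimension


set_option autoImplicit false
universe u
open CategoryTheory
open EGA41

namespace Groth.Agent.S5790

/-- Suppose A is a Noetherian ring and consider any A-module M. Taking the supremum, over all prime
ideals p, of the injective dimension of M_p as an A_p-module yields the injective dimension of M;
put differently, for each n, the injective dimension of M is at most n exactly when, for every prime
p, the injective dimension of M_p over A_p is at most n. -/
theorem result (A : Type u) [CommRing A] [IsNoetherianRing A]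
    (M : Type u) [AddCommGroup M] [Module A M] (n : ℕ) :
    HasInjectiveDimensionLT (ModuleCat.of A M) (n + 1) ↔
      ∀ p : PrimeSpectrum A, HasInjectiveDimensionLT
        (ModuleCat.of (Localization.AtPrime p.asIdeal) (LocalizedModule p.asIdeal.primeCompl M)) (n + 1) := by
  classical
  show HasInjectiveDimensionLE (ModuleCat.of A M) n ↔ _
  rw [ModuleCat.hasInjectiveDimensionLE_iff_forall_primeSpectrum]
  refine forall_congr' fun p => ?_
  have := (ModuleCat.of A M).localizedModule_isLocalizedModule p.asIdeal.primeCompl
  let e : ((ModuleCat.of A M).localizedModule p.asIdeal.primeCompl) ≃ₗ[Localization.AtPrime p.asIdeal]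
      LocalizedModule p.asIdeal.primeCompl M :=
    LinearEquiv.extendScalarsOfIsLocalization p.asIdeal.primeCompl (Localization.AtPrime p.asIdeal)
      (IsLocalizedModule.linearEquiv p.asIdeal.primeCompl
        ((ModuleCat.of A M).localizedModuleMkLinearMap p.asIdeal.primeCompl)
        (LocalizedModule.mkLinearMap p.asIdeal.primeCompl M))
  exact ⟨fun _ => hasInjectiveDimensionLT_of_iso e.toModuleIso (n + 1),
    fun _ => hasInjectiveDimensionLT_of_iso e.toModuleIso.symm (n + 1)⟩


end Groth.Agent.S5790
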