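import Groth.Statements.S5795
import Groth.Agent.Lib.TopDim.Basic

set_option autoImplicit false
universe u
open TopDim

namespace Groth.Agent.S5795

/-- Let X be a Noetherian Kolmogoroff space and x a point of X. Then x is isolated in X if and only if
dim_x(X) = 0. -/
theorem result (X : Type u) [TopologicalSpace X]
    [TopologicalSpace.NoetherianSpace X] [T0Space X] (x : X) :
    IsOpen ({x} : Set X) ↔ FlatMor.localDim X x = 0 := by
  open Groth.Agent.Lib.TopDim.Basic in
  constructor
  · intro h
    refine le_antisymm ((localDim_le (U := ⟨{x}, h⟩) x rfl).trans ?_) (localDim_nonneg x)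
    have : DiscreteTopology ({x} : Set X) := inferInstance
    exact topologicalKrullDim_zero_of_discreteTopology _
  · intro h
    obtain ⟨U, hxU, hU⟩ := exists_open_eq_localDim x
    have : TopologicalSpace.NoetherianSpace (U : Set X) :=
      Topology.IsInducing.subtypeVal.noetherianSpace
    obtain ⟨-, hdisc⟩ := finite_discrete_of_dim_le_zero (X := (U : Set X)) (hU.trans h).le
    have hopen := U.2.isOpenEmbedding_subtypeVal.isOpenMap _
      (isOpen_discrete ({⟨x, hxU⟩} : Set (U : Set X)))
    rwa [Set.image_singleton] at hopen

end Groth.Agent.S5795
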