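import Groth.Statements.S5796
import Groth.Agent.Lib.TopDim.Basic

set_option autoImplicit false
universe u
open TopDim

namespace Groth.Agent.S5796

/-- For any topological space X, the function x ↦ dim_x(X) is upper semicontinuous on X. -/
theorem result (X : Type u) [TopologicalSpace X] :
    UpperSemicontinuous fun x : X => FlatMor.localDim X x := by
  open Groth.Agent.Lib.TopDim.Basic in
  refine upperSemicontinuous_iff_isOpen_preimage.mpr fun t ↦ isOpen_iff_forall_mem_open.mpr fun x hx ↦ ?_
  obtain ⟨U, hxU, hU⟩ := exists_open_eq_localDim x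
  exact ⟨U, fun y hy ↦ lt_of_le_of_lt ((localDim_le y hy).trans hU.le) hx, U.2, hxU⟩

end Groth.Agent.S5796
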