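import Groth.Statements.S5798
import Groth.Agent.Lib.TopDim.Basic

set_option autoImplicit false
universe u
open TopDim

namespace Groth.Agent.S5798

/-- If (U_i) is an open covering of a topological space X, then dim(X) = sup_i dim(U_i). -/
theorem result (X : Type u) [TopologicalSpace X] (ι : Type u)
    (U : ι → TopologicalSpace.Opens X) (hcov : ⨆ i, U i = ⊤) :
    topologicalKrullDim X = ⨆ i, topologicalKrullDim (U i) := by
  open Groth.Agent.Lib.TopDim.Basic in
  refine le_antisymm (iSup_le fun s ↦ ?_)
    (iSup_le fun i ↦ topologicalKrullDim_subspace_le X (U i : Set X))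
  obtain ⟨x, hx⟩ := exists_open_of_head s
  obtain ⟨i, hi⟩ := TopologicalSpace.Opens.mem_iSup.mp (hcov ▸ TopologicalSpace.Opens.mem_top x)
  exact (length_le_of_head_inter (U i).2 s ⟨x, hx, hi⟩).trans
    (le_iSup (fun i ↦ topologicalKrullDim (U i : Set X)) i)

end Groth.Agent.S5798
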