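import Groth.Statements.S5800
import Groth.Agent.Lib.TopDim.Basic

set_option autoImplicit false
universe u
open TopDim

namespace Groth.Agent.S5800

/-- Let X be a topological space, x a point of X and (Y_i) a finite family of closed subsets each
containing x whose union is X. Then dim_x(X) = sup_i dim_x(Y_i). (The published statement lets the
Y_i be closed subsets of a neighbourhood U of x covering U; this row is the case U = X.) -/
theorem result (X : Type u) [TopologicalSpace X] (x : X)
    (ι : Type u) [Finite ι] (Y : ι → Set X) (hY : ∀ i, IsClosed (Y i)) (hx : ∀ i, x ∈ Y i)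
    (hcov : ⋃ i, Y i = Set.univ) :
    FlatMor.localDim X x = ⨆ i, FlatMor.localDim (Y i) ⟨x, hx i⟩ := by
  open Groth.Agent.Lib.TopDim.Basic Set in
  refine le_antisymm ?_ (iSup_le fun i ↦ le_iInf fun U ↦ ?_)
  · have hV : ∀ i, ∃ V : TopologicalSpace.Opens X, x ∈ V ∧
        topologicalKrullDim ((V : Set X) ∩ Y i : Set X) ≤ FlatMor.localDim (Y i) ⟨x, hx i⟩ := by
      intro i
      obtain ⟨⟨W, hW⟩, hxW, hdim⟩ := exists_open_eq_localDim (⟨x, hx i⟩ : Y i)
      obtain ⟨V, hV, rfl⟩ := isOpen_induced_iff.mp hW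
      refine ⟨⟨V, hV⟩, hxW, le_trans ?_ hdim.le⟩
      let g : ((V : Set X) ∩ Y i : Set X) → ((Subtype.val : Y i → X) ⁻¹' V : Set (Y i)) :=
        fun z ↦ ⟨⟨z, z.2.2⟩, z.2.1⟩
      have hg : Topology.IsInducing g := Topology.IsInducing.of_comp
        (by fun_prop) (continuous_subtype_val.comp continuous_subtype_val)
        (Topology.IsInducing.subtypeVal : Topology.IsInducing fun z : ↥((V : Set X) ∩ Y i) ↦ (z : X))
      exact hg.topologicalKrullDim_le
    choose V hxV hV' using hV
    have hxW : x ∈ (⋂ i, (V i : Set X)) := mem_iInter.mpr hxV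
    let W : TopologicalSpace.Opens X :=
      ⟨⋂ i, (V i : Set X), isOpen_iInter_of_finite fun i ↦ (V i).2⟩
    refine (localDim_le (U := W) x hxW).trans ?_
    have hWY : ∀ i, IsClosed ((Subtype.val : ↥(W : Set X) → X) ⁻¹' Y i) := fun i ↦
      (hY i).preimage continuous_subtype_val
    rw [topologicalKrullDim_eq_iSup_of_locallyFinite _ hWY (locallyFinite_of_finite _)
      (by rw [← preimage_iUnion, hcov, preimage_univ])]
    refine iSup_mono fun i ↦ le_trans ?_ (hV' i)
    let g : ((Subtype.val : ↥(W : Set X) → X) ⁻¹' Y i : Set (W : Set X)) → ((V i : Set X) ∩ Y i : Set X) :=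
      fun z ↦ ⟨z.1.1, mem_iInter.mp z.1.2 i, z.2⟩
    have h1 : Topology.IsInducing (Subtype.val : ↥(W : Set X) → X) := Topology.IsInducing.subtypeVal
    have h2 : Topology.IsInducing (Subtype.val : ↥((Subtype.val : ↥(W : Set X) → X) ⁻¹' Y i) → ↥(W : Set X)) := Topology.IsInducing.subtypeVal
    have hcomp : Topology.IsInducing (fun z ↦ (g z : X)) := h1.comp h2
    have hg : Topology.IsInducing g := Topology.IsInducing.of_comp (by fun_prop) continuous_subtype_val hcomp
    exact hg.topologicalKrullDim_le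
  · refine (localDim_le (U := ⟨(Subtype.val : Y i → X) ⁻¹' (U.1 : Set X),
      U.1.2.preimage continuous_subtype_val⟩) (⟨x, hx i⟩ : Y i) U.2).trans ?_
    let g : ((Subtype.val : Y i → X) ⁻¹' (U.1 : Set X) : Set (Y i)) → (U.1 : Set X) :=
      fun z ↦ ⟨z.1.1, z.2⟩
    have h1 : Topology.IsInducing (Subtype.val : ↥(Y i) → X) := Topology.IsInducing.subtypeVal
    have h2 : Topology.IsInducing (Subtype.val : ↥((Subtype.val : Y i → X) ⁻¹' (U.1 : Set X)) → ↥(Y i)) := Topology.IsInducing.subtypeVal
    have hcomp : Topology.IsInducing (fun z ↦ (g z : X)) := h1.comp h2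
    have hg : Topology.IsInducing g := Topology.IsInducing.of_comp (by fun_prop) continuous_subtype_val hcomp
    exact hg.topologicalKrullDim_le

end Groth.Agent.S5800
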