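import Groth.Statements.S5801
import Mathlib.RingTheory.Regular.RegularSequence

set_option autoImplicit false
universe u
open scoped Pointwise
open EGA41

namespace Groth.Agent.S5801

/-- Let A be a ring, M an A-module and f ∈ A, and consider the canonical surjection (M/fM)[T] → gr(M)
for the (f)-adic filtration, whose injectivity says: for all k ≥ 0 and x ∈ M, f^k x ∈ f^(k+1) M
implies x ∈ fM. If f is M-regular this map is bijective; conversely, if it is bijective and M is
separated for the (f)-adic topology (the intersection of the f^k M is zero), then f is M-regular. -/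
theorem result (A : Type u) [CommRing A] (M : Type u)
    [AddCommGroup M] [Module A M] (f : A) :
    (IsSMulRegular M f →
        ∀ (k : ℕ) (x : M), f ^ k • x ∈ f ^ (k + 1) • (⊤ : Submodule A M) → x ∈ f • (⊤ : Submodule A M)) ∧
      ((⨅ k : ℕ, f ^ k • (⊤ : Submodule A M)) = ⊥ →
        (∀ (k : ℕ) (x : M), f ^ k • x ∈ f ^ (k + 1) • (⊤ : Submodule A M) → x ∈ f • (⊤ : Submodule A M)) →
          IsSMulRegular M f) := by
  refine ⟨fun hreg k x hx => ?_, fun hsep h => ?_⟩
  · obtain ⟨y, -, hy⟩ := (Submodule.mem_smul_pointwise_iff_exists _ _ _).1 hx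
    refine (Submodule.mem_smul_pointwise_iff_exists _ _ _).2 ⟨y, trivial, (IsSMulRegular.pow k hreg) ?_⟩
    simpa [smul_smul, ← pow_succ] using hy
  · refine IsSMulRegular.of_right_eq_zero_of_smul (fun x hx => ?_)
    have : ∀ j : ℕ, x ∈ f ^ j • (⊤ : Submodule A M) := by
      intro j
      induction j with
      | zero => simp
      | succ j ih =>
        obtain ⟨y, -, rfl⟩ := (Submodule.mem_smul_pointwise_iff_exists _ _ _).1 ih
        obtain ⟨z, -, hz⟩ := (Submodule.mem_smul_pointwise_iff_exists _ _ _).1 (h (j + 1) y (by
          rw [show f ^ (j + 1) • y = 0 by rw [pow_succ', mul_smul, hx]]; exact zero_mem _))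
        rw [← hz, smul_smul, ← pow_succ]
        exact Submodule.smul_mem_pointwise_smul _ _ _ trivial
    exact (Submodule.mem_bot A).1 (hsep.le ((Submodule.mem_iInf _).2 this))


end Groth.Agent.S5801
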