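import Groth.Statements.S5805
import Groth.Agent.H20.PDDepth
import Groth.Agent.H22.GlobalDim

set_option autoImplicit false
universe u
open CategoryTheory
open EGA41

namespace Groth.Agent.S5805

/-- Let A be a Noetherian local ring with residue field k and n ≥ 0. Then the global dimension of A is
at most n as soon as the projective dimension of the A-module k is at most n: every A-module then
has projective dimension at most n. (The published statement phrases the criterion through the
vanishing of Tor^A_{n+1}(k, k), to which dim.proj_A(k) ≤ n is equivalent for finitely generated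
modules over a Noetherian local ring; this row states the projective-dimension form that the
published proof establishes.) -/
theorem result (A : Type u) [CommRing A] [IsLocalRing A]
    [IsNoetherianRing A] (n : ℕ)
    (hk : HasProjectiveDimensionLT (ModuleCat.of A (IsLocalRing.ResidueField A)) (n + 1)) (M : Type u)
    [AddCommGroup M] [Module A M] : HasProjectiveDimensionLT (ModuleCat.of A M) (n + 1) := by
  have e : (A ⧸ IsLocalRing.maximalIdeal A) ≃ₗ[A] IsLocalRing.ResidueField A := LinearEquiv.refl A _
  have hk' := Groth.Agent.Lib.Regular.PD.pdle_of_equiv (n := n) e.symm hk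
  have : IsRegularLocalRing A := Groth.Agent.Lib.Regular.Serre.of_pdle_residue n hk'
  refine Groth.Agent.H22.GlobalDim.hasProjectiveDimensionLT_of_cyclic n (fun J => ?_) _
  refine Groth.Agent.Lib.Regular.PD.pdle_mono (Groth.Agent.Lib.Regular.Serre.pdle_all (R := A) (A ⧸ J)) ?_
  by_contra hlt
  have : Nontrivial (A ⧸ IsLocalRing.maximalIdeal A) :=
    Ideal.Quotient.nontrivial_iff.mpr (IsLocalRing.maximalIdeal.isMaximal A).ne_top
  refine Groth.Agent.H20.PDDepth.not_pdle_of_depth_eq_zero (A ⧸ IsLocalRing.maximalIdeal A) ?_
    (not_le.mp hlt) hk'
  exact (Groth.Agent.Lib.Depth.Assoc.depth_eq_zero_iff (A ⧸ IsLocalRing.maximalIdeal A)).mpr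
    ((isAssociatedPrime_iff_exists_injective_linearMap _ _).mpr
      ⟨(IsLocalRing.maximalIdeal.isMaximal A).isPrime, LinearMap.id, Function.injective_id⟩)

end Groth.Agent.S5805
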