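import Groth.Statements.S5806
import Mathlib.RingTheory.Flat.Basic
import Mathlib.LinearAlgebra.TensorProduct.RightExactness
import Mathlib.RingTheory.Flat.Stability
import Mathlib.RingTheory.Regular.RegularSequence


set_option autoImplicit false
universe u
open EGA41 TensorProduct Pointwise

namespace Groth.Agent.S5806

theorem chase {A : Type u} [CommRing A] {Q K F N' N N'' : Type u} [AddCommGroup Q] [Module A Q]
    [AddCommGroup K] [Module A K] [AddCommGroup F] [Module A F] [Module.Flat A F]
    [AddCommGroup N'] [Module A N'] [AddCommGroup N] [Module A N] [AddCommGroup N''] [Module A N'']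
    (ι : K →ₗ[A] F) (π : F →ₗ[A] Q) (hιi : Function.Injective ι) (hι : Function.Exact ι π) (hπ : Function.Surjective π)
    (h : N' →ₗ[A] N) (g : N →ₗ[A] N'') (hh : Function.Injective h) (hex : Function.Exact h g)
    (hg : Function.Surjective g) [Module.Flat A N''] : Function.Injective (LinearMap.lTensor Q h) := by
  have hc : ∀ {X Y U V : Type u} [AddCommGroup X] [Module A X] [AddCommGroup Y] [Module A Y]
      [AddCommGroup U] [Module A U] [AddCommGroup V] [Module A V] (a : X →ₗ[A] Y) (b : U →ₗ[A] V) (t : X ⊗[A] U),
      LinearMap.lTensor Y b (LinearMap.rTensor U a t) = LinearMap.rTensor V a (LinearMap.lTensor X b t) := by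
    intros
    rw [← LinearMap.comp_apply, ← LinearMap.comp_apply, LinearMap.lTensor_comp_rTensor, LinearMap.rTensor_comp_lTensor]
  rw [injective_iff_map_eq_zero]
  intro x hx
  obtain ⟨y, rfl⟩ := LinearMap.rTensor_surjective N' hπ x
  rw [hc] at hx
  obtain ⟨w, hw⟩ := (rTensor_exact N hι hπ _).mp hx
  have h0 : LinearMap.lTensor K g w = 0 := by
    apply Module.Flat.rTensor_preserves_injective_linearMap (M := N'') ι hιi
    rw [← hc ι g w, hw, map_zero, ← LinearMap.comp_apply, ← LinearMap.lTensor_comp, hex.linearMap_comp_eq_zero,
      LinearMap.lTensor_zero, LinearMap.zero_apply]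
  obtain ⟨w', rfl⟩ := (lTensor_exact K hex hg _).mp h0
  rw [← hc] at hw
  rw [← Module.Flat.lTensor_preserves_injective_linearMap h hh hw]
  exact (rTensor_exact N' hι hπ _).mpr ⟨w', rfl⟩

theorem lTensor_injective_of_flat_cokernel {A : Type u} [CommRing A] (Q : Type u) [AddCommGroup Q] [Module A Q]
    {N' N N'' : Type u} [AddCommGroup N'] [Module A N'] [AddCommGroup N] [Module A N] [AddCommGroup N''] [Module A N'']
    (h : N' →ₗ[A] N) (g : N →ₗ[A] N'') (hh : Function.Injective h) (hex : Function.Exact h g)
    (hg : Function.Surjective g) [Module.Flat A N''] : Function.Injective (LinearMap.lTensor Q h) :=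
  chase (A := A) (Q := Q) (K := ↥(LinearMap.ker (Finsupp.linearCombination A (id : Q → Q)))) (F := Q →₀ A) (LinearMap.ker (Finsupp.linearCombination A (id : Q → Q))).subtype (Finsupp.linearCombination A (id : Q → Q))
    (Submodule.injective_subtype _)
    (LinearMap.exact_subtype_ker_map (Finsupp.linearCombination A (id : Q → Q))) (fun q => ⟨Finsupp.single q 1, by simp⟩) h g hh hex hg

/-- Let A be a ring, B a commutative A-algebra, (f_i)_{1 ≤ i ≤ n} elements of B and M a B-module.
Suppose (f_i) is M-regular and each of the A-modules M/(f_1 M + ... + f_i M), 0 ≤ i ≤ n, is flat.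
Then for every ring homomorphism A → A', writing M' = M ⊗_A A' and f'_i = f_i ⊗ 1, the sequence
(f'_i) is M'-regular and the A'-modules M'/(f'_1 M' + ... + f'_{i-1} M') are flat: concretely,
identifying M'/(f'_1 M' + ... + f'_{i-1} M') with A' ⊗_A (M/(f_1 M + ... + f_{i-1} M)),
multiplication by f_i on the latter is injective and the latter is A'-flat, for 1 ≤ i ≤ n. (The
published hypothesis lists only the flatness of M/(f_1 M + ... + f_{i-1} M) for 1 ≤ i ≤ n, omitting
M/(f_1 M + ... + f_n M); with that omission the case n = 1, A = B = k[t], M = k[t], f_1 = t, A' =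
k[t]/(t) fails, since t acts as zero on k ⊗_A M = k, and the published proof uses the flatness of
M/(f_1 M + ... + f_i M) for every i ≤ n; so flatness of all these quotients is assumed here.) -/
theorem result (A B : Type u) [CommRing A]
    [CommRing B] [Algebra A B] (M : Type u) [AddCommGroup M] [Module B M] [Module A M] [IsScalarTower A B M]
    (fs : List B) (hreg : RingTheory.Sequence.IsWeaklyRegular M fs)
    (hflat : ∀ i : ℕ, i ≤ fs.length → Module.Flat A (M ⧸ (Ideal.ofList (fs.take i) • (⊤ : Submodule B M))))
    (A' : Type u) [CommRing A'] [Algebra A A'] (i : Fin fs.length) :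
    Function.Injective (LinearMap.lTensor A'
        (((LinearMap.lsmul B (M ⧸ (Ideal.ofList (fs.take i) • (⊤ : Submodule B M)))) (fs.get i)).restrictScalars A)) ∧
      Module.Flat A' (A' ⊗[A] (M ⧸ (Ideal.ofList (fs.take i) • (⊤ : Submodule B M)))) := by
  classical
  refine ⟨?_, ?_⟩
  swap
  · haveI := hflat i (Nat.le_of_lt i.2)
    infer_instance
  haveI := hflat (i + 1) i.2
  set P := Ideal.ofList (fs.take i) • (⊤ : Submodule B M)
  set P' := Ideal.ofList (fs.take (i + 1)) • (⊤ : Submodule B M)
  have hP' : P' = P ⊔ Ideal.span {fs.get i} • (⊤ : Submodule B M) := by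
    simp only [P, P', ← List.take_concat_get' fs i i.2, Ideal.ofList_append, Ideal.ofList_singleton,
      Submodule.sup_smul]
    rfl
  have hle : P ≤ P' := hP' ▸ le_sup_left
  let g := (Submodule.factor hle).restrictScalars A
  let h := ((LinearMap.lsmul B (M ⧸ P)) (fs.get i)).restrictScalars A
  have hg : Function.Surjective g := Submodule.factor_surjective hle
  have hex : Function.Exact h g := by
    intro z
    induction z using Submodule.Quotient.induction_on with
    | _ z =>
      show (Submodule.Quotient.mk z : M ⧸ P') = 0 ↔ _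
      rw [Submodule.Quotient.mk_eq_zero, hP', Submodule.ideal_span_singleton_smul]
      constructor
      · intro hz
        obtain ⟨a, ha, b, hb, rfl⟩ := Submodule.mem_sup.mp hz
        obtain ⟨c, -, rfl⟩ := (Submodule.mem_smul_pointwise_iff_exists _ _ _).mp hb
        refine ⟨Submodule.Quotient.mk c, ?_⟩
        show fs.get i • (Submodule.Quotient.mk c : M ⧸ P) = _
        rw [← Submodule.Quotient.mk_smul, Submodule.Quotient.eq]
        simpa using neg_mem ha
      · rintro ⟨c, hc⟩
        induction c using Submodule.Quotient.induction_on with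
        | _ c =>
          change (Submodule.Quotient.mk (fs.get i • c) : M ⧸ P) = Submodule.Quotient.mk z at hc
          rw [Submodule.Quotient.eq] at hc
          rw [show z = -(fs.get i • c - z) + fs.get i • c by abel]
          exact Submodule.add_mem_sup (neg_mem hc) (Submodule.smul_mem_pointwise_smul _ _ _ trivial)
  exact lTensor_injective_of_flat_cokernel A' h g (hreg.regular_mod_prev i i.2) hex hg


end Groth.Agent.S5806
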