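import Groth.Statements.S5807
import Mathlib.RingTheory.RegularLocalRing.Polynomial
import Mathlib.RingTheory.Localization.LocalizationLocalization
import Mathlib.RingTheory.FiniteType


set_option autoImplicit false
universe u
open EGA41

namespace Groth.Agent.S5807

/-- Let A be a Noetherian ring which is a quotient of a regular ring B, and C an A-algebra of finite
type. Then every ring of fractions of C is a quotient of a regular ring. -/
theorem result (B A C : Type u) [CommRing B]
    [IsRegularRing B] [CommRing A] (π : B →+* A) (hπ : Function.Surjective π) [CommRing C] [Algebra A C]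
    [Algebra.FiniteType A C] (S : Submonoid C) :
    ∃ (R : Type u) (_ : CommRing R) (_ : IsRegularRing R) (f : R →+* Localization S),
      Function.Surjective f := by
  classical
  obtain ⟨n, f, hf⟩ := Algebra.FiniteType.iff_quotient_mvPolynomial''.mp (inferInstance : Algebra.FiniteType A C)
  let g : MvPolynomial (Fin n) B →+* C := f.toRingHom.comp (MvPolynomial.map π)
  have hg : Function.Surjective g := hf.comp (MvPolynomial.map_surjective π hπ)
  let T := S.comap g
  let R := Localization T
  have hR : IsRegularRing R := by
    haveI : IsNoetherianRing R := IsLocalization.isNoetherianRing T R inferInstance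
    rw [isRegularRing_iff]
    intro p _
    exact IsRegularLocalRing.of_ringEquiv
      (IsLocalization.localizationLocalizationAtPrimeIsoLocalization T p).toRingEquiv
  refine ⟨R, inferInstance, hR, IsLocalization.map (Localization S) g (M := T) (fun x hx => hx), fun z => ?_⟩
  obtain ⟨c, s, rfl⟩ := IsLocalization.exists_mk'_eq S z
  obtain ⟨x, rfl⟩ := hg c
  obtain ⟨t, ht⟩ := hg (s : C)
  let t' : T := ⟨t, show g t ∈ S from ht.symm ▸ s.2⟩
  refine ⟨IsLocalization.mk' R x t', ?_⟩
  rw [IsLocalization.map_mk']
  exact congrArg _ (Subtype.ext ht)


end Groth.Agent.S5807
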