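import Groth.Statements.S5808
-- import your own Groth.Agent.* helpers here

set_option autoImplicit false
universe u
open EGA41

namespace Groth.Agent.S5808


/-- Elements with prescribed supports cutting down all non-maximal primes. -/
theorem exists_seq {A : Type u} [CommRing A] [IsNoetherianRing A] (J : ℕ → Ideal A) : ∀ (n : ℕ),
    (∀ i < n, ∀ P : Ideal A, P.IsPrime → ¬ P.IsMaximal → P.height ≤ i → ¬ J i ≤ P) →
    ∃ x : Fin n → A, (∀ i : Fin n, x i ∈ J i.1) ∧
      ∀ k ≤ n, ∀ P : Ideal A, P.IsPrime → ¬ P.IsMaximal → (∀ i : Fin n, i.1 < k → x i ∈ P) →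
        (k : ℕ∞) ≤ P.height
  | 0, _ => ⟨Fin.elim0, fun i => i.elim0, fun k hk _ _ _ _ => by simp [Nat.le_zero.1 hk]⟩
  | n + 1, hJ => by
    classical
    obtain ⟨x, hx, hxP⟩ := exists_seq J n fun i hi => hJ i (hi.trans n.lt_succ_self)
    let T := ((Ideal.span (Set.range x)).finite_minimalPrimes_of_isNoetherianRing.subset
      (Set.sep_subset _ fun P => ¬ P.IsMaximal ∧ P.height ≤ (n : ℕ∞))).toFinset
    obtain ⟨y, hy, hyT⟩ : ∃ y ∈ J n, ∀ P ∈ T, y ∉ P := by
      by_contra hne
      push Not at hne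
      obtain ⟨P, hP, hle⟩ := (Ideal.subset_union_prime (s := T) (f := fun P => P) ⊥ ⊥
        (fun P hP _ _ => ((Set.Finite.mem_toFinset _).1 hP).1.1.1)).1
        (show ((J n : Set A) ⊆ ⋃ P ∈ (T : Set (Ideal A)), (P : Set A)) from fun y hy => by
          obtain ⟨P, hP, hyP⟩ := hne y hy
          exact Set.mem_biUnion hP hyP)
      obtain ⟨hPm, hPmax, hPh⟩ := (Set.Finite.mem_toFinset _).1 hP
      exact hJ n n.lt_succ_self P hPm.1.1 hPmax hPh hle
    refine ⟨Fin.snoc x y, fun i => ?_, fun k hk P hP hPmax hmem => ?_⟩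
    · refine Fin.lastCases ?_ (fun i => ?_) i
      · simpa using hy
      · simpa using hx i
    · obtain rfl | hk' := hk.eq_or_lt
      swap
      · exact hxP k (by omega) P hP hPmax fun i hi => by simpa using hmem i.castSucc hi
      have hyP : y ∈ P := by simpa using hmem (Fin.last n) (by simp)
      obtain ⟨P₀, hP₀, hP₀P⟩ := Ideal.exists_minimalPrimes_le
        (show Ideal.span (Set.range x) ≤ P from Ideal.span_le.2 (Set.range_subset_iff.2 fun i => by
          simpa using hmem i.castSucc (by simp only [Fin.val_castSucc]; omega)))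
      haveI := hP₀.1.1
      have hmax : ¬ P₀.IsMaximal := fun h => hPmax ((h.eq_of_le hP.ne_top hP₀P) ▸ h)
      have h0 := hxP n le_rfl P₀ hP₀.1.1 hmax fun i _ => hP₀.1.2 (Ideal.subset_span ⟨i, rfl⟩)
      rw [Nat.cast_succ]
      by_cases hn : P₀.height ≤ (n : ℕ∞)
      · have hy₀ : y ∉ P₀ := hyT P₀ ((Set.Finite.mem_toFinset _).2 ⟨hP₀, hmax, hn⟩)
        have hlt : P₀ < P := lt_of_le_of_ne hP₀P fun e => hy₀ (e ▸ hyP)
        exact le_trans (by gcongr) (Ideal.height_add_one_le_of_lt_of_isPrime hlt)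
      · exact (Order.add_one_le_of_lt (not_le.1 hn)).trans (Ideal.height_mono hP₀P)

/-- Let A be a semi-local Noetherian ring with spectrum X and Jacobson radical r, and a an ideal of A
distinct from A with codim(V(a), X) = h > 0 (h is the height of a). Then there exist h elements x_1,
..., x_h of a which are part of a system of parameters of A (so lie in r and can be completed by
elements of r to dim(A) elements generating an ideal modulo which A has finite length) and such that
codim(V(a), V(x_1 A + ... + x_h A)) = 0, i.e. the image of a in A/(x_1 A + ... + x_h A) has height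
0. -/
theorem result (A : Type u) [CommRing A] [IsNoetherianRing A]
    [Finite (MaximalSpectrum A)] (a : Ideal A) (ha : a ≠ ⊤) (h : ℕ) (hh : a.height = h) (hpos : 0 < h) :
    ∃ x : Fin h → A, (∀ i, x i ∈ a) ∧ (∀ i, x i ∈ Ring.jacobson A) ∧
      (∃ ys : List A, (∀ y ∈ ys, y ∈ Ring.jacobson A) ∧
        (((h + ys.length : ℕ) : ℕ∞) : WithBot ℕ∞) = ringKrullDim A ∧
        IsFiniteLength A (A ⧸ (Ideal.span (Set.range x) ⊔ Ideal.ofList ys))) ∧
      (a.map (Ideal.Quotient.mk (Ideal.span (Set.range x)))).height = 0 := by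
  classical
  haveI : Nontrivial A := nontrivial_of_ne (0 : A) 1 fun e =>
    ha (Ideal.eq_top_iff_one _ |>.2 (e ▸ a.zero_mem))
  obtain ⟨d, hd⟩ : ∃ d : ℕ, ringKrullDim A = ((d : ℕ∞) : WithBot ℕ∞) := by
    haveI : Nonempty (MaximalSpectrum A) := inferInstance
    obtain ⟨m, hm⟩ := Finite.exists_max fun m : MaximalSpectrum A => m.asIdeal.height
    obtain ⟨d, hd⟩ := ENat.ne_top_iff_exists.1 (Ideal.height_ne_top m.isMaximal.ne_top)
    refine ⟨d, le_antisymm ((ringKrullDim_le_iff_isMaximal_height_le _).2 fun M hM => ?_) ?_⟩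
    · exact WithBot.coe_le_coe.2 (hd ▸ hm ⟨M, hM⟩)
    · haveI := m.isMaximal.isPrime
      exact hd ▸ Ideal.height_le_ringKrullDim_of_isPrime
  have hjac : ∀ P : Ideal A, P.IsPrime → ¬ P.IsMaximal → ¬ Ring.jacobson A ≤ P := by
    intro P hP hPmax hle
    cases nonempty_fintype (MaximalSpectrum A)
    have hinf : Finset.univ.inf (fun m : MaximalSpectrum A => m.asIdeal) ≤ P := by
      refine le_trans ?_ hle
      rw [← Ideal.jacobson_bot, Ideal.jacobson]
      exact le_sInf fun M ⟨_, hM⟩ =>
        Finset.inf_le (f := fun m : MaximalSpectrum A => m.asIdeal) (Finset.mem_univ ⟨M, hM⟩)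
    obtain ⟨m, -, hm⟩ := (Ideal.IsPrime.inf_le' hP).1 hinf
    exact hPmax ((m.isMaximal.eq_of_le hP.ne_top hm) ▸ m.isMaximal)
  obtain ⟨p, _, hap, hp⟩ := Ideal.exists_isPrime_height_eq hh
  have hhd : h ≤ d := by
    have := hd ▸ Ideal.height_le_ringKrullDim_of_isPrime (I := p)
    rw [hp] at this
    exact_mod_cast this
  obtain ⟨e, rfl⟩ := Nat.exists_eq_add_of_le hhd
  obtain ⟨z, hz, hzP⟩ := exists_seq (fun i => if i < h then a ⊓ Ring.jacobson A else Ring.jacobson A)
    (h + e) (fun i _ P hP hPmax hPh hle => by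
      by_cases hi : i < h
      · rw [if_pos hi] at hle
        rcases (Ideal.IsPrime.inf_le hP).1 hle with h1 | h1
        · exact absurd (((hh ▸ Ideal.height_mono h1).trans hPh))
            (by exact_mod_cast not_le.2 hi)
        · exact hjac P hP hPmax h1
      · rw [if_neg hi] at hle
        exact hjac P hP hPmax hle)
  have hz' : ∀ i, z i ∈ Ring.jacobson A := fun i => by
    have := hz i
    split at this
    · exact (Ideal.mem_inf.1 this).2
    · exact this
  let x : Fin h → A := fun i => z (Fin.castAdd e i)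
  have hxa : ∀ i, x i ∈ a := fun i => by
    have := hz (Fin.castAdd e i)
    rw [if_pos (by simp)] at this
    exact (Ideal.mem_inf.1 this).1
  refine ⟨x, hxa, fun i => hz' _, ⟨List.ofFn fun i : Fin e => z (Fin.natAdd h i), ?_, ?_, ?_⟩, ?_⟩
  · intro y hy
    obtain ⟨i, rfl⟩ := List.mem_ofFn.1 hy
    exact hz' _
  · rw [List.length_ofFn, hd]
  · set I := Ideal.span (Set.range x) ⊔ Ideal.ofList (List.ofFn fun i : Fin e => z (Fin.natAdd h i))
    haveI : Ring.KrullDimLE 0 (A ⧸ I) := Ring.KrullDimLE.mk₀ fun Q hQ => by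
      haveI := hQ
      by_contra hQm
      set P := Q.comap (Ideal.Quotient.mk I) with hPdef
      have hPmax : ¬ P.IsMaximal := fun hP => hQm (by
        have := Ideal.map_eq_top_or_isMaximal_of_surjective _
          (Ideal.Quotient.mk_surjective (I := I)) hP
        rw [Ideal.map_comap_of_surjective _ Ideal.Quotient.mk_surjective] at this
        exact this.resolve_left hQ.ne_top)
      have hle : Ideal.span (Set.range z) ≤ P := by
        refine le_trans (Ideal.span_le.2 ?_)
          (Ideal.mk_ker.ge.trans (Ideal.ker_le_comap (f := Ideal.Quotient.mk I)))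
        rintro _ ⟨i, rfl⟩
        refine Fin.addCases (fun i => ?_) (fun i => ?_) i
        · exact Ideal.mem_sup_left (Ideal.subset_span ⟨i, rfl⟩)
        · exact Ideal.mem_sup_right (Ideal.subset_span (List.mem_ofFn.2 ⟨i, rfl⟩))
      have h1 := hzP (h + e) le_rfl P inferInstance hPmax fun i _ => hle (Ideal.subset_span ⟨i, rfl⟩)
      obtain ⟨m, hm, hPm⟩ := P.exists_le_maximal Ideal.IsPrime.ne_top'
      haveI := hm.isPrime
      have h2 := Ideal.height_strict_mono_of_isPrime
        (lt_of_le_of_ne hPm fun e => hPmax (e ▸ hm))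
      have h3 := hd ▸ Ideal.height_le_ringKrullDim_of_isPrime (I := m)
      exact absurd (h1.trans_lt h2) (not_lt.2 (WithBot.coe_le_coe.1 h3))
    haveI : IsArtinianRing (A ⧸ I) := isArtinianRing_iff_krullDimLE_zero.2 inferInstance
    rw [isFiniteLength_iff_isNoetherian_isArtinian]
    exact ⟨inferInstance, isArtinian_of_surjective_algebraMap (R := A ⧸ I) (S := A) Ideal.Quotient.mk_surjective⟩
  · set S := Ideal.span (Set.range x)
    have hSp : S ≤ p := Ideal.span_le.2 (Set.range_subset_iff.2 fun i => hap (hxa i))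
    have hx_min : ∀ P₀ ∈ S.minimalPrimes, P₀ ≤ p → P₀ ≠ p → False := by
      intro P₀ hP₀ hle hne
      haveI := hP₀.1.1
      have hlt : P₀ < p := lt_of_le_of_ne hle hne
      have hmax : ¬ P₀.IsMaximal := fun h => hne (h.eq_of_le Ideal.IsPrime.ne_top' hle)
      have h1 := hzP h (Nat.le_add_right h e) P₀ inferInstance hmax fun i hi => by
        obtain ⟨j, rfl⟩ : ∃ j : Fin h, i = Fin.castAdd e j := ⟨⟨i.1, hi⟩, rfl⟩
        exact hP₀.1.2 (Ideal.subset_span ⟨j, rfl⟩)
      have h2 := (Ideal.height_strict_mono_of_isPrime hlt).trans_le hp.le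
      exact absurd (h1.trans_lt h2) (lt_irrefl _)
    have hker : RingHom.ker (Ideal.Quotient.mk S) ≤ p := by rw [Ideal.mk_ker]; exact hSp
    haveI := Ideal.map_isPrime_of_surjective (Ideal.Quotient.mk_surjective (I := S)) hker
    refine le_antisymm ?_ bot_le
    refine (Ideal.height_mono (Ideal.map_mono hap)).trans_eq ?_
    rw [Ideal.height_eq_zero_iff, minimalPrimes_eq_minimals]
    refine ⟨inferInstance, fun Q hQ hQp => ?_⟩
    haveI : Q.IsPrime := hQ
    have hQp' : Q.comap (Ideal.Quotient.mk S) ≤ p := by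
      refine (Ideal.comap_mono hQp).trans ?_
      rw [Ideal.comap_map_of_surjective' _ Ideal.Quotient.mk_surjective, Ideal.mk_ker,
        sup_eq_left.2 hSp]
    obtain ⟨P₀, hP₀, hP₀Q⟩ := Ideal.exists_minimalPrimes_le
      (show S ≤ Q.comap (Ideal.Quotient.mk S) from
        Ideal.mk_ker.ge.trans (Ideal.ker_le_comap (f := Ideal.Quotient.mk S)))
    haveI := hP₀.1.1
    have hP₀p : P₀ = p := by
      by_contra hne
      exact hx_min P₀ hP₀ (hP₀Q.trans hQp') hne
    subst hP₀p
    exact (Ideal.map_mono hP₀Q).trans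
      (Ideal.map_comap_of_surjective _ Ideal.Quotient.mk_surjective Q).le

end Groth.Agent.S5808
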