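import Groth.Statements.S5809
import Groth.Agent.Lib.Cyc.TorPD
import Groth.Agent.Lib.Tor.TorOneKer
import Mathlib.RingTheory.LocalRing.Module
import Mathlib.CategoryTheory.Abelian.Projective.Dimension
import Mathlib.RingTheory.LocalRing.ResidueField.Basic

set_option autoImplicit false
universe u
open CategoryTheory
open EGA41

namespace Groth.Agent.S5809

/-- Let A be a Noetherian local ring with residue field k, M a finitely generated A-module and n ≥ 0.
For M to have projective dimension at most n it is necessary that Tor^A_i(M, k) = 0 for all i > n,
and it suffices that Tor^A_(n+1)(M, k) = 0. (Tor is written here as the left derived functors of k ⊗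
- evaluated at M, i.e. computed from a projective resolution of M.) -/
theorem result (A : Type u) [CommRing A] [IsLocalRing A]
    [IsNoetherianRing A] (M : Type u) [AddCommGroup M] [Module A M] [Module.Finite A M] (n : ℕ) :
    (HasProjectiveDimensionLT (ModuleCat.of A M) (n + 1) →
        ∀ i : ℕ, n < i → Limits.IsZero (((Tor (ModuleCat.{u} A) i).obj
          (ModuleCat.of A (IsLocalRing.ResidueField A))).obj (ModuleCat.of A M))) ∧
      (Limits.IsZero (((Tor (ModuleCat.{u} A) (n + 1)).obj
          (ModuleCat.of A (IsLocalRing.ResidueField A))).obj (ModuleCat.of A M)) →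
        HasProjectiveDimensionLT (ModuleCat.of A M) (n + 1)) := by
  let k := ModuleCat.of A (IsLocalRing.ResidueField A)
  refine ⟨fun h i hi => Groth.Agent.Lib.Cyc.TorPD.isZero_tor k n _ h i hi, ?_⟩
  have main : ∀ (n : ℕ) (N : Type u) [AddCommGroup N] [Module A N] [Module.Finite A N],
      Limits.IsZero ((Groth.Agent.H25.TorLES.T k (n + 1)).obj (ModuleCat.of A N)) →
      HasProjectiveDimensionLT (ModuleCat.of A N) (n + 1) := by
    intro n
    induction n with
    | zero =>
      intro N _ _ _ h
      obtain ⟨e⟩ := Groth.Agent.Lib.Tor.TorOneKer.torOne_iso_ker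
        (ModuleCat.ofHom (Submodule.subtype (IsLocalRing.maximalIdeal A)))
        (ModuleCat.ofHom (Y := IsLocalRing.ResidueField A) (IsLocalRing.maximalIdeal A).mkQ)
        Subtype.val_injective (Submodule.mkQ_surjective _) (LinearMap.exact_subtype_mkQ _)
        (ModuleCat.of A N)
      have hinj : Function.Injective ((Submodule.subtype (IsLocalRing.maximalIdeal A)).rTensor N) := by
        rw [← LinearMap.ker_eq_bot, ← Submodule.subsingleton_iff_eq_bot]
        exact ModuleCat.subsingleton_of_isZero (h.of_iso e.symm)
      have := Module.finitePresentation_of_finite A N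
      have := Module.free_of_maximalIdeal_rTensor_injective hinj
      have : Projective (ModuleCat.of A N) :=
        (IsProjective.iff_projective (R := A) (ModuleCat.of A N)).1 (inferInstanceAs (Module.Projective A N))
      exact projective_iff_hasProjectiveDimensionLT_one.mp this
    | succ n ih =>
      intro N _ _ _ h
      obtain ⟨r, f, hf⟩ := Module.Finite.exists_fin' A N
      have hS : f.shortComplexKer.ShortExact := LinearMap.shortExact_shortComplexKer hf
      have hP : Projective f.shortComplexKer.X₂ :=
        (IsProjective.iff_projective (R := A) f.shortComplexKer.X₂).1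
          (inferInstanceAs (Module.Projective A (Fin r → A)))
      have : Module.Flat A f.shortComplexKer.X₂ := inferInstanceAs (Module.Flat A (Fin r → A))
      have h1 := Groth.Agent.H25.TorLES.isZero_left (M := k) hS (n + 1) h
        (Groth.Agent.Lib.Tor.Balance.isZero_tor_succ_of_flat_right k _ n)
      exact (hS.hasProjectiveDimensionLT_X₃_iff n hP).2 (ih (LinearMap.ker f) h1)
  exact main n M

end Groth.Agent.S5809
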