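import Groth.Statements.S5811
import Groth.Agent.Lib.Excellent.CompletionNoetherian
import Mathlib.RingTheory.AdicCompletion.LocalRing
import Mathlib.RingTheory.AdicCompletion.AsTensorProduct
import Mathlib.RingTheory.Ideal.GoingDown
import Mathlib.RingTheory.Flat.FaithfullyFlat.Algebra
import Mathlib.RingTheory.KrullDimension.Module
import Mathlib.RingTheory.Ideal.KrullsHeightTheorem


set_option autoImplicit false
universe u
open EGA41 TensorProduct

namespace Groth.Agent.S5811

/-- Let A be a semi-local Noetherian ring (finitely many maximal ideals) with Jacobson radical r, M a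
finitely generated A-module, and write Â and M̂ for the r-adic completions of A and M. Then
dim_Â(M̂) = dim_A(M), the dimension of a module being the Krull dimension of its support. (For M = 0
both sides are ⊥.) -/
theorem result (A : Type u) [CommRing A] [IsNoetherianRing A]
    [Finite (MaximalSpectrum A)] (M : Type u) [AddCommGroup M] [Module A M] [Module.Finite A M] :
    Module.supportDim (AdicCompletion (Ring.jacobson A) A) (AdicCompletion (Ring.jacobson A) M) =
      Module.supportDim A M := by
  classical
  set J := Ring.jacobson A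
  set Â := AdicCompletion J A
  have hfg : J.FG := IsNoetherian.noetherian J
  have hJm : ∀ m : Ideal A, m.IsMaximal → J ≤ m := fun m hm => Ring.jacobson_le_of_isMaximal m
  haveI : Module.Flat A Â := inferInstance
  have hmap : ∀ m : Ideal A, m.IsMaximal → (m.map (algebraMap A Â)).IsMaximal := fun m hm =>
    AdicCompletion.isMaximal_map_of_le J m (hJm m hm) hfg
  haveI : Module.FaithfullyFlat A Â := ⟨fun m hm h => (hmap m hm).ne_top (by
    rw [Ideal.smul_top_eq_map] at h
    exact (Submodule.restrictScalars_eq_top_iff A _ _).mp h)⟩
  -- every maximal ideal of the completion is extended from a maximal ideal of `A`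
  have hmax : ∀ M : Ideal Â, M.IsMaximal → (M.comap (algebraMap A Â)).IsMaximal := fun M hM => by
    have := AdicCompletion.isAdicComplete_self J hfg
    have hJM : J.map (algebraMap A Â) ≤ M := (IsAdicComplete.le_jacobson_bot _).trans (sInf_le ⟨bot_le, hM⟩)
    have hs : Function.Surjective (AdicCompletion.evalOneₐ J).toRingHom := AdicCompletion.evalOneₐ_surjective J
    have hker : RingHom.ker (AdicCompletion.evalOneₐ J).toRingHom ≤ M :=
      le_of_eq_of_le (AdicCompletion.ker_evalOneₐ_eq_map J hfg) hJM
    have h2 : (M.map (AdicCompletion.evalOneₐ J).toRingHom).IsMaximal :=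
      Ideal.IsMaximal.map_of_surjective_of_ker_le hs hker
    have h3 := Ideal.comap_isMaximal_of_surjective (Ideal.Quotient.mk J) Ideal.Quotient.mk_surjective (K := M.map (AdicCompletion.evalOneₐ J).toRingHom)
    have he : M.comap (algebraMap A Â) = (M.map (AdicCompletion.evalOneₐ J).toRingHom).comap (Ideal.Quotient.mk J) := by
      conv_lhs => rw [← sup_eq_left.mpr hker, ← Ideal.comap_map_of_surjective' _ hs, Ideal.comap_comap]
      congr 1
    exact he ▸ h3
  set I := Module.annihilator A M
  -- annihilators commute with flat base change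
  have hann : Module.annihilator Â (Â ⊗[A] M) = I.map (algebraMap A Â) := by
    refine le_antisymm (fun b hb => ?_) (Ideal.map_le_iff_le_comap.mpr fun a ha => ?_)
    · obtain ⟨k, m, hm⟩ := Module.Finite.exists_fin (R := A) (M := M)
      let φ : A →ₗ[A] (Fin k → M) := LinearMap.pi fun j => LinearMap.toSpanSingleton A M (m j)
      have hφ : Function.Exact (I.subtype) φ := by
        intro a
        simp only [φ, Set.mem_range, Submodule.coe_subtype, Subtype.exists, exists_prop, exists_eq_right]
        constructor
        · intro h
          rw [Module.mem_annihilator]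
          intro x
          have hx : x ∈ Submodule.span A (Set.range m) := hm.symm ▸ Submodule.mem_top
          induction hx using Submodule.span_induction with
          | mem x hx => obtain ⟨j, rfl⟩ := hx; simpa using congrFun h j
          | zero => simp
          | add x y _ _ hx hy => rw [smul_add, hx, hy, add_zero]
          | smul c x _ hx => rw [smul_comm, hx, smul_zero]
        · intro h; ext j; simp [Module.mem_annihilator.mp h (m j)]
      have hex := Module.Flat.lTensor_exact Â hφ
      have h0 : LinearMap.lTensor Â φ (b ⊗ₜ (1 : A)) = 0 := by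
        have h1 : φ 1 = ∑ j, LinearMap.single A (fun _ => M) j (m j) := by
          ext j
          simp [φ, Finset.sum_apply, Pi.single_apply]
        rw [LinearMap.lTensor_tmul, h1, TensorProduct.tmul_sum]
        refine Finset.sum_eq_zero fun j _ => ?_
        rw [← LinearMap.lTensor_tmul]
        have : b ⊗ₜ[A] m j = 0 := by
          have := Module.mem_annihilator.mp hb ((1 : Â) ⊗ₜ[A] m j)
          rwa [TensorProduct.smul_tmul', smul_eq_mul, mul_one] at this
        rw [this, map_zero]
      obtain ⟨z, hz⟩ := (hex _).mp h0
      have hb' : (TensorProduct.rid A Â) (LinearMap.lTensor Â I.subtype z) = b := by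
        rw [hz, TensorProduct.rid_tmul, one_smul]
      rw [← hb']
      clear hz hb'
      induction z using TensorProduct.induction_on with
      | zero => simp
      | tmul c i => simpa [Algebra.smul_def] using Ideal.mul_mem_right c _ (Ideal.mem_map_of_mem (algebraMap A Â) i.2)
      | add u v hu hv => simpa using add_mem hu hv
    · rw [Ideal.mem_comap, Module.mem_annihilator]
      intro z
      rw [algebraMap_smul]
      induction z using TensorProduct.induction_on with
      | zero => exact smul_zero a
      | tmul n x => rw [← TensorProduct.tmul_smul, Module.mem_annihilator.mp ha, TensorProduct.tmul_zero]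
      | add u v hu hv => rw [smul_add, hu, hv, add_zero]
  let eM := AdicCompletion.ofTensorProductEquivOfFiniteNoetherian J M
  haveI : Module.Finite Â (AdicCompletion J M) := Module.Finite.equiv eM
  rw [Module.supportDim_eq_ringKrullDim_quotient_annihilator, Module.supportDim_eq_ringKrullDim_quotient_annihilator,
    ← LinearEquiv.annihilator_eq eM, hann]
  refine le_antisymm ?_ ?_
  · let f : A ⧸ I →+* Â ⧸ I.map (algebraMap A Â) := Ideal.quotientMap _ (algebraMap A Â) Ideal.le_comap_map
    letI := f.toAlgebra
    refine iSup_le fun l => ?_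
    obtain ⟨P, hP, hle⟩ := Ideal.exists_le_maximal _ l.last.2.1
    haveI := hP.isPrime
    set m := (P.comap (Ideal.Quotient.mk _)).comap (algebraMap A Â) with hm
    have hPc : (P.comap (Ideal.Quotient.mk (I.map (algebraMap A Â)))).IsMaximal :=
      Ideal.comap_isMaximal_of_surjective _ Ideal.Quotient.mk_surjective
    have hmM : m.IsMaximal := hmax _ hPc
    have hPeq : m.map (algebraMap A Â) = P.comap (Ideal.Quotient.mk _) :=
      (hmap m hmM).eq_of_le hPc.ne_top Ideal.map_comap_le
    set p := P.comap (algebraMap (A ⧸ I) (Â ⧸ I.map (algebraMap A Â))) with hp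
    haveI : P.LiesOver p := ⟨rfl⟩
    have hpP : p.map (algebraMap (A ⧸ I) (Â ⧸ I.map (algebraMap A Â))) = P := by
      refine le_antisymm Ideal.map_comap_le ?_
      rw [← Ideal.map_comap_of_surjective (Ideal.Quotient.mk _) Ideal.Quotient.mk_surjective P, ← hPeq, Ideal.map_map]
      refine Ideal.map_le_iff_le_comap.mpr fun a ha => ?_
      exact Ideal.mem_map_of_mem (algebraMap (A ⧸ I) (Â ⧸ I.map (algebraMap A Â))) (x := Ideal.Quotient.mk I a) (show _ ∈ p from ha)
    have h := Ideal.height_le_height_add_of_liesOver p P
    rw [hpP, Ideal.map_quotient_self] at h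
    haveI : IsDomain ((Â ⧸ I.map (algebraMap A Â)) ⧸ P) := Ideal.Quotient.isDomain P
    rw [Ideal.height_bot, add_zero] at h
    have h1 : (l.length : ℕ∞) ≤ P.height :=
      (Order.length_le_height (show l.last ≤ ⟨P, inferInstance⟩ from hle)).trans_eq
        (PrimeSpectrum.height_eq_orderHeight (⟨P, inferInstance⟩ : PrimeSpectrum _)).symm
    calc (l.length : WithBot ℕ∞) ≤ (p.height : WithBot ℕ∞) := WithBot.coe_le_coe.mpr (h1.trans h)
      _ ≤ _ := Ideal.height_le_ringKrullDim_of_ne_top (Ideal.comap_ne_top _ hP.ne_top)
  · rw [ringKrullDim_quotient I, ringKrullDim_quotient (I.map (algebraMap A Â))]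
    refine iSup_le fun l => ?_
    let l0 : LTSeries (PrimeSpectrum A) := l.map Subtype.val fun _ _ h => h
    obtain ⟨Q, hQ⟩ := PrimeSpectrum.comap_surjective_of_faithfullyFlat (A := A) (B := Â) l0.last
    have : Q.asIdeal.LiesOver l0.last.asIdeal := ⟨(congrArg PrimeSpectrum.asIdeal hQ).symm⟩
    obtain ⟨L, hL, -, hLc⟩ := Ideal.exists_ltSeries_of_hasGoingDown l0 Q.asIdeal
    have hmem : ∀ i, L i ∈ PrimeSpectrum.zeroLocus (R := Â) (I.map (algebraMap A Â) : Set Â) := fun i => by
      have hi : PrimeSpectrum.comap (algebraMap A Â) (L i) ∈ l0.toList := hLc ▸ List.mem_map_of_mem (RelSeries.mem_toList.mpr ⟨i, rfl⟩)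
      obtain ⟨j, hj⟩ := RelSeries.mem_toList.mp hi
      refine SetLike.coe_subset_coe.mpr (Ideal.map_le_iff_le_comap.mpr fun a ha => ?_)
      have h' : a ∈ (l j).1.asIdeal := (l j).2 ha
      have : (l j).1 = PrimeSpectrum.comap (algebraMap A Â) (L i) := hj
      rw [this] at h'
      exact h'
    let L' : LTSeries (PrimeSpectrum.zeroLocus (R := Â) (I.map (algebraMap A Â) : Set Â)) :=
      { length := L.length, toFun := fun i => ⟨L i, hmem i⟩, step := fun i => L.step i }
    exact le_iSup_of_le L' (by show (l.length : WithBot ℕ∞) ≤ (L.length : WithBot ℕ∞); rw [hL]; exact le_rfl)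


end Groth.Agent.S5811
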