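import Groth.Statements.S5813
import Groth.Agent.Lib.CotTwo.ExtOfHom


set_option autoImplicit false
universe u
open EGA41

namespace Groth.Agent.S5813

open Groth.Agent.Lib.CotTwo

/-- Injectivity, commutative form. Let J be an ideal of the commutative ring B, C = B ⧸ J, M a C-module.
Two B-extensions of C by M whose induced linear maps J/J² → M (obtained from the restriction to J of
the structure map B → E) coincide are equivalent. -/
theorem result {B : Type u} [CommRing B] (J : Ideal B)
    {M : Type u} [AddCommGroup M] [Module (B ⧸ J) M] [Module B M] [IsScalarTower B (B ⧸ J) M]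
    (X Y : Exal.Ext B (B ⧸ J) M) (h : X.conormalMap J = Y.conormalMap J) :
    Nonempty (X.Equiv Y) := by
  classical
  let θ : B → M := fun r => if h : r ∈ J then X.idealToKer J ⟨r, h⟩ else 0
  refine nonempty_equiv_of_eq_on_ker (p := Ideal.Quotient.mkₐ B J) Ideal.Quotient.mk_surjective X Y
    (Algebra.ofId B X.E) (fun r => X.proj.commutes r) (Algebra.ofId B Y.E) (fun r => Y.proj.commutes r) θ
    (fun r hr => ?_) (fun r hr => ?_)
  · have hrJ : r ∈ J := Ideal.Quotient.eq_zero_iff_mem.1 hr
    simp only [θ, dif_pos hrJ]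
    exact X.incl_kerLift _ (X.proj_algebraMap_eq_zero J ⟨r, hrJ⟩)
  · have hrJ : r ∈ J := Ideal.Quotient.eq_zero_iff_mem.1 hr
    simp only [θ, dif_pos hrJ]
    have hc : X.idealToKer J ⟨r, hrJ⟩ = Y.idealToKer J ⟨r, hrJ⟩ := LinearMap.congr_fun h (J.toCotangent ⟨r, hrJ⟩)
    rw [hc]
    exact Y.incl_kerLift _ (Y.proj_algebraMap_eq_zero J ⟨r, hrJ⟩)

end Groth.Agent.S5813
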