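import Groth.Statements.S5814
import Groth.Agent.Lib.CotTwo.ExtOfHom


set_option autoImplicit false
universe u
open EGA41

namespace Groth.Agent.S5814

open Groth.Agent.Lib.CotTwo

/-- Surjectivity, commutative form. Let J be an ideal of the commutative ring B, C = B ⧸ J, M a
C-module. Every linear map w : J/J² → M arises from a B-extension of C by M: there is an extension
whose induced map J/J² → M is w. Together with the injectivity statement this is the canonical
bijection between Hom_C(J/J², M) and the classes of B-extensions of C by M. -/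
theorem result {B : Type u} [CommRing B] (J : Ideal B)
    {M : Type u} [AddCommGroup M] [Module (B ⧸ J) M] [Module B M] [IsScalarTower B (B ⧸ J) M]
    (w : J.Cotangent →ₗ[B] M) :
    ∃ X : Exal.Ext B (B ⧸ J) M, X.conormalMap J = w := by
  classical
  let θ : B → M := fun r => if h : r ∈ J then w (J.toCotangent ⟨r, h⟩) else 0
  have hθ : ∀ r (h : r ∈ J), θ r = w (J.toCotangent ⟨r, h⟩) := fun r h => dif_pos h
  obtain ⟨X, u, hu, hX⟩ := exists_ext_of_ker_hom (p := Ideal.Quotient.mkₐ B J) (M := M)
    Ideal.Quotient.mk_surjective θ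
    (fun r s hr hs => by
      have hr' : r ∈ J := Ideal.Quotient.eq_zero_iff_mem.1 hr
      have hs' : s ∈ J := Ideal.Quotient.eq_zero_iff_mem.1 hs
      rw [hθ r hr', hθ s hs', hθ _ (add_mem hr' hs'), ← map_add, ← map_add]
      rfl)
    (fun r s hs => by
      have hs' : s ∈ J := Ideal.Quotient.eq_zero_iff_mem.1 hs
      rw [hθ s hs', hθ _ (Ideal.mul_mem_left J r hs'), Ideal.Quotient.mkₐ_eq_mk, ← Ideal.Quotient.algebraMap_eq,
        algebraMap_smul, ← map_smul, ← map_smul]
      rfl)
  refine ⟨X, Submodule.linearMap_qext _ (LinearMap.ext fun z => X.isExtension.incl_injective ?_)⟩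
  show X.incl (X.idealToKer J z) = X.incl (w (J.toCotangent z))
  refine (X.incl_kerLift _ (X.proj_algebraMap_eq_zero J z)).trans ?_
  rw [← hθ z.1 z.2]
  exact (u.commutes (z : B)).symm.trans (hX z.1 (Ideal.Quotient.eq_zero_iff_mem.2 z.2)).symm

end Groth.Agent.S5814
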