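import Groth.Statements.S5815
import Groth.Agent.Lib.CotTwo.ExalChar2
import Groth.Agent.Lib.CotTwo.Exalcom
import Groth.Agent.Lib.CotTwo.SmoothVanish


set_option autoImplicit false
universe u
open EGA41

namespace Groth.Agent.S5815

open Groth.Agent.Lib.CotTwo

/-- Discrete case. A commutative A-algebra B is formally smooth if and only if every A-extension of B by
a B-module L is trivial (has an A-algebra section). A and B are taken in one universe and L ranges
over that universe. (The published statement is for topological rings, with direct-limit classes of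
extensions; this row is its discrete case.) -/
theorem result (A B : Type u) [CommRing A] [CommRing B] [Algebra A B] :
    Algebra.FormallySmooth A B ↔
      ∀ (L : Type u) [AddCommGroup L] [Module B L] (X : Exal.Ext A B L), X.IsTrivial := by
  constructor
  · intro h L _ _ X
    obtain ⟨S⟩ := nonempty_sect_of_formallySmooth (A := A) (B := A) (C := B) X
    exact ⟨{ S.s with commutes' := S.s_algebraMap }, S.proj_s⟩
  · intro h
    classical
    let P := CotT.canon A B
    let θ : P.toExtension.Ring → P.toExtension.Cotangent := fun r =>
      if hr : r ∈ P.toExtension.ker then Algebra.Extension.Cotangent.mk ⟨r, hr⟩ else 0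
    have hθ : ∀ r (hr : r ∈ P.toExtension.ker), θ r = Algebra.Extension.Cotangent.mk ⟨r, hr⟩ := fun r hr => dif_pos hr
    obtain ⟨X, u, hu, hX⟩ := exists_ext_of_ker_hom (p := pP P) (M := P.toExtension.Cotangent) (algebraMap_surjective P) θ
      (fun r s hr hs => by
        have hr' : r ∈ P.toExtension.ker := hr
        have hs' : s ∈ P.toExtension.ker := hs
        rw [hθ r hr', hθ s hs', hθ _ (add_mem hr' hs'), ← map_add]
        rfl)
      (fun r s hs => by
        have hs' : s ∈ P.toExtension.ker := hs
        rw [hθ s hs', hθ _ (Ideal.mul_mem_left _ r hs')]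
        show _ = algebraMap P.toExtension.Ring B r • _
        rw [algebraMap_smul, ← map_smul]
        rfl)
    obtain ⟨s, hs⟩ := h _ X
    obtain ⟨φ, hφ⟩ := exists_L0_of_lifts P X (s.comp (pP P)) u (fun r => hs _) hu
    refine P.toExtension.formallySmooth_iff_split_injection.2 ⟨φ, LinearMap.ext fun c => ?_⟩
    obtain ⟨⟨r, hr⟩, rfl⟩ := Algebra.Extension.Cotangent.mk_surjective c
    rw [LinearMap.comp_apply, Algebra.Extension.cotangentComplex_mk, LinearMap.id_apply, ← hθ r hr]
    refine X.isExtension.incl_injective ?_
    rw [hX r hr, hφ r, AlgHom.comp_apply, show pP P r = 0 from hr, map_zero, zero_add]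

end Groth.Agent.S5815
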