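import Groth.Statements.S5816
import Groth.Agent.Lib.CotTwo.ExalChar


set_option autoImplicit false
universe u
open EGA41

namespace Groth.Agent.S5816

open Groth.Agent.Lib.CotTwo

/-- Discrete case. For ring maps Λ → A → B, B is formally smooth over A relative to Λ (square-zero test
ideals) if and only if every A-extension of B by a B-module L which is Λ-trivial is A-trivial. Λ, A,
B are taken in one universe and L ranges over it. (The published statement is for topological rings;
this row is its discrete case.) -/
theorem result (Λ A B : Type u) [CommRing Λ]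
    [CommRing A] [CommRing B] [Algebra Λ A] [Algebra Λ B] [Algebra A B] [IsScalarTower Λ A B] :
    EGA41.IsFormallySmoothRel Λ A B ↔
      ∀ (L : Type u) [AddCommGroup L] [Module B L] (X : Exal.Ext A B L),
        X.IsTrivialOver Λ → X.IsTrivial := by
  constructor
  · intro h L _ _ X ⟨s, hs⟩
    letI : Algebra Λ X.E := ((algebraMap A X.E).comp (algebraMap Λ A)).toAlgebra
    haveI : IsScalarTower Λ A X.E := IsScalarTower.of_algebraMap_eq fun _ => rfl
    let J : Ideal X.E := RingHom.ker X.proj
    have hJ : J ^ 2 = ⊥ := le_bot_iff.1 (by
      rw [pow_two, Ideal.mul_le]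
      intro x hx y hy
      obtain ⟨z, rfl⟩ := (X.isExtension.exact x).1 hx
      obtain ⟨z', rfl⟩ := (X.isExtension.exact y).1 hy
      exact incl_mul_incl X z z')
    let e := Ideal.quotientKerAlgEquivOfSurjective (f := X.proj) X.isExtension.proj_surjective
    have he : ∀ x, e (Ideal.Quotient.mk J x) = X.proj x := fun x => rfl
    obtain ⟨v, hv⟩ := h X.E J hJ e.symm.toAlgHom ⟨{ s.toRingHom with commutes' := fun c => s.commutes c },
      AlgHom.ext fun b => e.injective (((he _).trans (hs b)).trans (e.apply_symm_apply b).symm)⟩
    refine ⟨v, fun b => ?_⟩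
    rw [← he]
    exact (congrArg e (AlgHom.congr_fun hv b)).trans (e.apply_symm_apply b)
  · intro h C _ _ _ _ J hJ u₀ ⟨u, hu⟩
    have hu' : ∀ b, Ideal.Quotient.mk J (u b) = u₀ b := fun b => AlgHom.congr_fun hu b
    letI : Module B J := Module.compHom J u.toRingHom
    have hsmul : ∀ (b : B) (j : J), ((b • j : J) : C) = u b * j := fun b j => rfl
    have hJJ : ∀ x ∈ J, ∀ y ∈ J, x * y = 0 := fun x hx y hy =>
      (Submodule.mem_bot C).1 (hJ ▸ (by rw [pow_two]; exact Ideal.mul_mem_mul hx hy) : x * y ∈ (⊥ : Ideal C))
    let E : Subalgebra A (C × B) :=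
      AlgHom.equalizer ((Ideal.Quotient.mkₐ A J).comp (AlgHom.fst A C B)) (u₀.comp (AlgHom.snd A C B))
    have hE : ∀ x : C × B, x ∈ E ↔ Ideal.Quotient.mk J x.1 = u₀ x.2 := fun x => Iff.rfl
    let X : Exal.Ext A B J :=
      { E := E
        proj := (AlgHom.snd A C B).comp E.val
        incl :=
          { toFun := fun j => ⟨((j : C), 0), (hE _).2 (by
              rw [map_zero, Ideal.Quotient.eq_zero_iff_mem]; exact j.2)⟩
            map_zero' := rfl
            map_add' := fun a b => Subtype.ext (Prod.ext rfl (add_zero 0).symm) }
        isExtension :=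
          { proj_surjective := fun b => ⟨⟨(u b, b), (hE _).2 (hu' b)⟩, rfl⟩
            incl_injective := fun a b hab => Subtype.ext (congrArg (fun x : E => x.1.1) hab)
            exact := fun x => by
              constructor
              · intro hx
                have hx2 : x.1.2 = 0 := hx
                have hx1 := (hE _).1 x.2
                rw [hx2, map_zero, Ideal.Quotient.eq_zero_iff_mem] at hx1
                exact ⟨⟨x.1.1, hx1⟩, Subtype.ext (Prod.ext rfl hx2.symm)⟩
              · rintro ⟨j, rfl⟩
                rfl
            mul_incl := fun x j => by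
              refine Subtype.ext (Prod.ext ?_ (mul_zero _))
              show x.1.1 * (j : C) = ((x.1.2 • j : J) : C)
              rw [hsmul, ← sub_eq_zero, ← sub_mul]
              exact hJJ _ (Ideal.Quotient.eq.1 (((hE _).1 x.2).trans (hu' x.1.2).symm)) _ j.2 } }
    obtain ⟨v, hv⟩ := h J X ⟨{ toFun := fun b => (⟨(u b, b), (hE _).2 (hu' b)⟩ : E)
                               map_one' := Subtype.ext (Prod.ext (map_one u) rfl)
                               map_mul' := fun a b => Subtype.ext (Prod.ext (map_mul u a b) rfl)
                               map_zero' := Subtype.ext (Prod.ext (map_zero u) rfl)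
                               map_add' := fun a b => Subtype.ext (Prod.ext (map_add u a b) rfl)
                               commutes' := fun c => Subtype.ext (Prod.ext
                                 ((u.commutes c).trans (IsScalarTower.algebraMap_apply Λ A C c))
                                 (IsScalarTower.algebraMap_apply Λ A B c)) }, fun b => rfl⟩
    refine ⟨((AlgHom.fst A C B).comp E.val).comp v, AlgHom.ext fun b => ?_⟩
    exact ((hE _).1 (v b).2).trans (congrArg u₀ (hv b))

end Groth.Agent.S5816
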