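import Groth.Statements.S5817
import Groth.Agent.Lib.CotTwo.ExalChar


set_option autoImplicit false
universe u v
open EGA41

namespace Groth.Agent.S5817

open Exal
attribute [local instance] Exal.opModule Exal.isCentralScalar_opModule

/-- Commutative rings, exactness at Der_A(B, L). For ring maps A → B → C and a C-module L, the
B-extension of C by L attached to an A-derivation D : B → L (middle ring C ⊕ L, made a B-algebra
through x ↦ (x, D x)) is trivial if and only if D is the composite of B → C with an A-derivation C →
L. -/
theorem result {A : Type u} {B C L : Type v} [CommRing A] [CommRing B] [CommRing C]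
    [Algebra A B] [Algebra B C] [Algebra A C] [IsScalarTower A B C]
    [AddCommGroup L] [Module C L] [Module B L] [IsScalarTower B C L] [Module A L] [IsScalarTower A B L]
    [IsScalarTower A C L]
    (D : Derivation A B L) :
    (Exal.Ext.ofDerivation (C := C) D).IsTrivial ↔
      ∃ D' : Derivation A C L, D'.compAlgebraMap B = D := by
  constructor
  · rintro ⟨s, hs⟩
    let d : C → L := fun c => TrivSqZeroExt.snd (s c : TrivSqZeroExt C L)
    have hf : ∀ c, TrivSqZeroExt.fst (s c : TrivSqZeroExt C L) = c := hs
    have hd : ∀ x y, d (x * y) = x • d y + y • d x := fun x y => by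
      have h := congrArg (fun z => TrivSqZeroExt.snd (z : TrivSqZeroExt C L)) (map_mul s x y)
      refine h.trans ((TrivSqZeroExt.snd_mul _ _).trans ?_)
      show TrivSqZeroExt.fst (s x : TrivSqZeroExt C L) • d y + TrivSqZeroExt.fst (s y : TrivSqZeroExt C L) • d x = _
      rw [hf, hf]
    have hb : ∀ b, d (algebraMap B C b) = D b := fun b =>
      (congrArg (fun z => TrivSqZeroExt.snd (z : TrivSqZeroExt C L)) (s.commutes b)).trans (zero_add (D b))
    have hA : ∀ a, d (algebraMap A C a) = 0 := fun a => by
      rw [IsScalarTower.algebraMap_apply A B C, hb, Derivation.map_algebraMap]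
    let f : C →ₗ[A] L :=
      { toFun := d
        map_add' := fun x y => congrArg (fun z => TrivSqZeroExt.snd (z : TrivSqZeroExt C L)) (map_add s x y)
        map_smul' := fun a x => by
          rw [Algebra.smul_def, hd, hA, smul_zero, add_zero, algebraMap_smul]
          rfl }
    exact ⟨Derivation.mk' f hd, Derivation.ext hb⟩
  · rintro ⟨D', rfl⟩
    refine ⟨{ toFun := fun c => ((TrivSqZeroExt.inl c + TrivSqZeroExt.inr (D' c) : TrivSqZeroExt C L))
              map_one' := ?_
              map_mul' := fun x y => ?_
              map_zero' := ?_
              map_add' := fun x y => ?_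
              commutes' := fun b => rfl }, fun c => ?_⟩
    · refine TrivSqZeroExt.ext ?_ ?_
      · show (1 : C) + 0 = 1
        rw [add_zero]
      · show (0 : L) + D' 1 = 0
        rw [Derivation.map_one_eq_zero, add_zero]
    · refine TrivSqZeroExt.ext ?_ ?_
      · show x * y + 0 = (x + 0) * (y + 0)
        rw [add_zero, add_zero, add_zero]
      · show (0 : L) + D' (x * y) = (x + 0) • ((0 : L) + D' y) + (y + 0) • ((0 : L) + D' x)
        rw [Derivation.leibniz, zero_add, zero_add, zero_add, add_zero, add_zero]
    · refine TrivSqZeroExt.ext ?_ ?_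
      · show (0 : C) + 0 = 0
        rw [add_zero]
      · show (0 : L) + D' 0 = 0
        rw [map_zero, add_zero]
    · refine TrivSqZeroExt.ext ?_ ?_
      · show (x + y) + 0 = (x + 0) + (y + 0)
        rw [add_zero, add_zero, add_zero]
      · show (0 : L) + D' (x + y) = ((0 : L) + D' x) + ((0 : L) + D' y)
        rw [map_add, zero_add, zero_add, zero_add]
    · show c + 0 = c
      rw [add_zero]

end Groth.Agent.S5817
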