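import Groth.Statements.S5818
import Groth.Agent.Lib.CotTwo.ExalChar


set_option autoImplicit false
universe u v
open EGA41

namespace Groth.Agent.S5818

open Groth.Agent.Lib.CotTwo

/-- Commutative rings, exactness at Exalcom_B(C, L) on underlying pointed sets. For ring maps A → B → C
and a C-module L, a B-extension of C by L is A-trivial if and only if it is equivalent to the
extension attached to some A-derivation B → L. -/
theorem result {A : Type u} {B C L : Type v} [CommRing A] [CommRing B] [CommRing C]
    [Algebra A B] [Algebra B C] [Algebra A C] [IsScalarTower A B C]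
    [AddCommGroup L] [Module C L] [Module B L] [IsScalarTower B C L] [Module A L] [IsScalarTower A B L]
    [IsScalarTower A C L]
    (X : Exal.Ext B C L) :
    X.IsTrivialOver A ↔
      ∃ D : Derivation A B L, Nonempty (X.Equiv (Exal.Ext.ofDerivation (C := C) D)) := by
  rw [isTrivialOver_iff]
  constructor
  · rintro ⟨S⟩
    let f : B →ₗ[A] L :=
      { toFun := fun b => S.kill (algebraMap B X.E b)
        map_add' := fun x y => by rw [map_add, S.kill_add]
        map_smul' := fun a x => by
          rw [Algebra.smul_def, map_mul, S.kill_mul, S.kill_algebraMap, smul_zero, add_zero, X.proj.commutes,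
            ← IsScalarTower.algebraMap_apply, algebraMap_smul]
          rfl }
    let D : Derivation A B L := Derivation.mk' f fun x y => by
      show S.kill (algebraMap B X.E (x * y)) = x • S.kill (algebraMap B X.E y) + y • S.kill (algebraMap B X.E x)
      rw [map_mul, S.kill_mul, X.proj.commutes, X.proj.commutes, algebraMap_smul, algebraMap_smul]
    refine ⟨D, S.nonempty_equiv (derSect D) fun b => ?_⟩
    rw [derSect_kill]
    rfl
  · rintro ⟨D, ⟨e⟩⟩
    exact ⟨Sect.ofEquiv (derSect D) e.symm⟩

end Groth.Agent.S5818
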