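import Groth.Statements.S5819
import Groth.Agent.Lib.CotTwo.ExalChar


set_option autoImplicit false
universe u v
open EGA41

namespace Groth.Agent.S5819



/-- Commutative rings, exactness at Exalcom_A(C, L) on underlying pointed sets. For ring maps A → B → C
and a C-module L, an A-extension Y of C by L pulls back to a trivial A-extension of B if and only if
Y is equivalent to some B-extension of C by L viewed as an A-extension. -/
theorem result {A : Type u} {B C L : Type v} [CommRing A]
    [CommRing B] [CommRing C] [Algebra A B] [Algebra B C] [Algebra A C] [IsScalarTower A B C]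
    [AddCommGroup L] [Module C L] [Module B L] [IsScalarTower B C L]
    (Y : Exal.Ext A C L) :
    (Y.pullback B).IsTrivial ↔
      ∃ X : Exal.Ext B C L, Nonempty ((X.restrictBase A).Equiv Y) := by
  constructor
  · rintro ⟨s, hs⟩
    let g : B →ₐ[A] Y.E := ((AlgHom.fst A Y.E B).comp (Y.fiberProd B).val).comp s
    have hg : ∀ b, Y.proj (g b) = algebraMap B C b := fun b =>
      ((s b).2.trans (congrArg (algebraMap B C) (hs b)))
    letI : Algebra B Y.E := g.toRingHom.toAlgebra
    let X : Exal.Ext B C L :=
      { E := Y.E
        proj := { toRingHom := Y.proj.toRingHom, commutes' := hg }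
        incl := Y.incl
        isExtension := ⟨Y.isExtension.proj_surjective, Y.isExtension.incl_injective, Y.isExtension.exact, Y.isExtension.mul_incl⟩ }
    exact ⟨X, ⟨⟨AlgEquiv.ofRingEquiv (f := RingEquiv.refl Y.E) g.commutes, fun _ => rfl, fun _ => rfl⟩⟩⟩
  · rintro ⟨X, ⟨e⟩⟩
    let g : B →ₐ[A] Y.E := e.toAlgEquiv.toAlgHom.comp
      { toRingHom := (algebraMap B X.E : B →+* X.RestrictCarrier A), commutes' := fun a => rfl }
    have hg : ∀ b, Y.proj (g b) = algebraMap B C b := fun b =>
      (e.proj_apply _).trans (X.proj.commutes b)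
    exact ⟨(g.prod (AlgHom.id A B)).codRestrict (Y.fiberProd B) hg, fun b => rfl⟩

end Groth.Agent.S5819
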