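import Groth.Statements.S5821
import Groth.Agent.Lib.CotTwo.ExalChar


set_option autoImplicit false
universe u v
open EGA41

namespace Groth.Agent.S5821

open Groth.Agent.Lib.CotTwo TensorProduct

/-- For a ring map A → B, an ideal K of B, C = B ⧸ K and the B-extension E = B ⧸ K² of C by K/K², if E
is A-trivial then its characteristic homomorphism Υ_{C/B/A} → K/K² is bijective (stated for every
C-linear χ satisfying the defining square, of which there is exactly one). -/
theorem result {A : Type u} {B : Type v} [CommRing A] [CommRing B] [Algebra A B]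
    (K : Ideal B) (hK : (Exal.Ext.infinitesimal K).IsTrivialOver A)
    (χ : ↥(EGA41.imperfection A B (B ⧸ K)) →ₗ[B ⧸ K] K.Cotangent)
    (hχ : (Exal.Ext.infinitesimal K).IsCharHom A χ) :
    Function.Bijective χ := by
  obtain ⟨S⟩ := (isTrivialOver_iff _).1 hK
  have h := (S.isCharHom_iff χ).1 hχ
  have key : ∀ (x : B) (hx : x ∈ K), S.phi (1 ⊗ₜ KaehlerDifferential.D A B x) = K.toCotangent ⟨x, hx⟩ := fun x hx => by
    rw [S.phi_tmul, one_smul]
    refine (Exal.Ext.infinitesimal K).isExtension.incl_injective ?_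
    rw [S.incl_kill, (Exal.Ext.infinitesimal K).proj.commutes,
      show algebraMap B (B ⧸ K) x = 0 from Ideal.Quotient.eq_zero_iff_mem.2 hx, map_zero, sub_zero]
    exact (K.toCotangent_to_quotient_square ⟨x, hx⟩).symm
  have hsurj : Function.Surjective (algebraMap B (B ⧸ K)) := Ideal.Quotient.mk_surjective
  refine ⟨(injective_iff_map_eq_zero _).2 fun z hz => ?_, fun q => ?_⟩
  · obtain ⟨w, hw⟩ := (KaehlerDifferential.exact_kerCotangentToTensor_mapBaseChange A B (B ⧸ K) hsurj z.1).1 z.2
    obtain ⟨⟨x, hx⟩, rfl⟩ := Ideal.toCotangent_surjective _ w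
    rw [KaehlerDifferential.kerCotangentToTensor_toCotangent] at hw
    have hxK : x ∈ K := Ideal.Quotient.eq_zero_iff_mem.1 hx
    rw [h, ← hw, key x hxK, Ideal.toCotangent_eq_zero] at hz
    refine Subtype.ext (hw.symm.trans ?_)
    have hx0 : (Ideal.toCotangent (RingHom.ker (algebraMap B (B ⧸ K))) ⟨x, hx⟩) = 0 := by
      rw [Ideal.toCotangent_eq_zero]
      exact Ideal.pow_right_mono (le_of_eq Ideal.mk_ker.symm) 2 hz
    show _ = (0 : (B ⧸ K) ⊗[B] Ω[B⁄A])
    rw [← map_zero (KaehlerDifferential.kerCotangentToTensor A B (B ⧸ K)), ← hx0,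
      KaehlerDifferential.kerCotangentToTensor_toCotangent]
  · obtain ⟨⟨x, hx⟩, rfl⟩ := K.toCotangent_surjective q
    refine ⟨⟨(1 : B ⧸ K) ⊗ₜ KaehlerDifferential.D A B x, LinearMap.mem_ker.2 ?_⟩, (h _).trans (key x hx)⟩
    rw [KaehlerDifferential.mapBaseChange_tmul, KaehlerDifferential.map_D, one_smul,
      show algebraMap B (B ⧸ K) x = 0 from Ideal.Quotient.eq_zero_iff_mem.2 hx, map_zero]

end Groth.Agent.S5821
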