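import Groth.Statements.S5823
import Groth.Agent.Lib.CotTwo.ExalChar


set_option autoImplicit false
universe u v
open scoped TensorProduct
open EGA41

namespace Groth.Agent.S5823

open Groth.Agent.Lib.CotTwo

/-- Surjectivity. For ring maps A → B → C and a C-module L, assume (i) L is an injective C-module, or
(ii) Υ_{C/B/A} is a direct summand of C ⊗_B Ω_{B/A} and Ω_{C/A} → Ω_{C/B} has a right inverse. Then
every C-linear map Υ_{C/B/A} → L is the characteristic homomorphism of an A-trivial B-extension of C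
by L. -/
theorem result {A : Type u} {B C L : Type v} [CommRing A] [CommRing B] [CommRing C]
    [Algebra A B] [Algebra B C] [Algebra A C] [IsScalarTower A B C] [AddCommGroup L] [Module C L]
    (h : Module.Injective C L ∨
      ((∃ r : C ⊗[B] Ω[B⁄A] →ₗ[C] ↥(EGA41.imperfection A B C), ∀ z : ↥(EGA41.imperfection A B C), r z = z) ∧
        ∃ s : Ω[C⁄B] →ₗ[C] Ω[C⁄A], ∀ ω : Ω[C⁄B], KaehlerDifferential.map A B C C (s ω) = ω))
    (χ : ↥(EGA41.imperfection A B C) →ₗ[C] L) :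
    ∃ X : Exal.Ext B C L, X.IsTrivialOver A ∧ X.IsCharHom A χ := by
  obtain ⟨Φ, hΦ⟩ : ∃ Φ : C ⊗[B] Ω[B⁄A] →ₗ[C] L, ∀ z : ↥(EGA41.imperfection A B C), Φ (z : C ⊗[B] Ω[B⁄A]) = χ z := by
    rcases h with hinj | ⟨⟨r, hr⟩, -⟩
    · obtain ⟨Φ, hΦ⟩ := hinj.out (X := ↥(EGA41.imperfection A B C)) (Y := C ⊗[B] Ω[B⁄A]) (EGA41.imperfection A B C).subtype Subtype.val_injective χ
      exact ⟨Φ, hΦ⟩
    · exact ⟨χ ∘ₗ r, fun z => congrArg χ (hr z)⟩
  obtain ⟨X, S, hS⟩ := exists_sect_phi_eq Φ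
  exact ⟨X, (isTrivialOver_iff X).2 ⟨S⟩, (S.isCharHom_iff χ).2 fun z => by rw [hS, hΦ]⟩

end Groth.Agent.S5823
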