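-- Proof of statement S5825.
import Groth.Statements.S5825
import Groth.Agent.Lib.TopModFLI.Basic

set_option autoImplicit false
universe u v w
open EGA41

namespace Groth.Agent.S5825

/-- Let A be a topological ring, M, N topological A-modules with the topologies deduced from that of A,
and u : M → N a continuous linear map with dense image (a formal epimorphism). Then u is a formal
bimorphism (dense image and inducing) if and only if, for every open ideal J of A, the induced map
M/JM → N/JN is bijective (injectivity and surjectivity are written out elementwise). -/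
theorem result {A : Type u} {M : Type v} {N : Type w} [CommRing A]
    [TopologicalSpace A] [AddCommGroup M] [Module A M] [TopologicalSpace M] [AddCommGroup N] [Module A N]
    [TopologicalSpace N] (hM : TopMod.IsDeduced A M) (hN : TopMod.IsDeduced A N) (u : M →L[A] N)
    (hu : DenseRange u) :
    IsDenseInducing u ↔
      ∀ J : Ideal A, IsOpen (J : Set A) →
        (∀ x : M, u x ∈ (J • ⊤ : Submodule A N) → x ∈ (J • ⊤ : Submodule A M)) ∧
          ∀ y : N, ∃ x : M, y - u x ∈ (J • ⊤ : Submodule A N) := by
  haveI := hM.1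
  haveI := hN.1
  refine ⟨fun h J hJ ↦ ⟨fun x hx ↦ ?_, fun y ↦ ?_⟩, fun h ↦ ⟨?_, hu⟩⟩
  · have h0 : ((J • ⊤ : Submodule A M) : Set M) ∈ nhds (0 : M) := hM.2.mem_of_mem hJ
    rw [h.toIsInducing.nhds_eq_comap, map_zero, Filter.mem_comap] at h0
    obtain ⟨V, hV, hVJ⟩ := h0
    obtain ⟨J', hJ', hJV⟩ := hN.2.mem_iff.1 hV
    have key : ∀ y ∈ (J • ⊤ : Submodule A N), ∃ z ∈ (J • ⊤ : Submodule A M),
        y - u z ∈ (J' • ⊤ : Submodule A N) := by
      intro y hy
      refine Submodule.smul_induction_on hy (fun a ha n _ ↦ ?_) ?_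
      · obtain ⟨m, hm⟩ := hu.mem_nhds (show {z | n - z ∈ (J' • ⊤ : Submodule A N)} ∈ nhds n from
          (continuous_const.sub continuous_id).continuousAt.preimage_mem_nhds
            (by simp only [Pi.sub_apply, id, sub_self]; exact hN.2.mem_of_mem hJ'))
        refine ⟨a • m, Submodule.smul_mem_smul ha trivial, ?_⟩
        rw [map_smul, ← smul_sub]
        exact Submodule.smul_mem _ a hm
      · rintro y y' ⟨z, hz, hyz⟩ ⟨z', hz', hyz'⟩
        refine ⟨z + z', add_mem hz hz', ?_⟩
        rw [map_add, add_sub_add_comm]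
        exact add_mem hyz hyz'
    obtain ⟨z, hz, hxz⟩ := key _ hx
    have : x - z ∈ (J • ⊤ : Submodule A M) := hVJ (hJV (by rw [map_sub]; exact hxz))
    simpa using add_mem this hz
  · exact hu.mem_nhds (show {z | y - z ∈ (J • ⊤ : Submodule A N)} ∈ nhds y from
      (continuous_const.sub continuous_id).continuousAt.preimage_mem_nhds
        (by simp only [Pi.sub_apply, id, sub_self]; exact hN.2.mem_of_mem hJ))
  · have hcomap : Filter.comap u (nhds (0 : N)) = nhds (0 : M) := by
      refine (hN.2.comap u).eq_of_same_basis (hM.2.to_hasBasis (fun J hJ ↦ ⟨J, hJ, ?_⟩)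
        fun J hJ ↦ ⟨J, hJ, ?_⟩)
      · exact fun x hx ↦ (h J hJ).1 x hx
      · exact fun x hx ↦ Groth.Agent.Lib.TopModFLI.map_smul_top_mem u.toLinearMap J hx
    refine Topology.isInducing_iff_nhds.2 fun x ↦ ?_
    rw [← map_add_left_nhds_zero x, ← map_add_left_nhds_zero (u x), ← hcomap]
    ext s
    simp only [Filter.mem_map, Filter.mem_comap]
    constructor
    · rintro ⟨V, hV, hVs⟩
      refine ⟨(fun z ↦ -u x + z) ⁻¹' V, by simpa [Set.preimage_preimage] using hV, fun z hz ↦ ?_⟩
      have : (fun z ↦ x + z) (-x + z) ∈ s := hVs (by simpa using hz)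
      simpa using this
    · rintro ⟨V, hV, hVs⟩
      exact ⟨(fun z ↦ u x + z) ⁻¹' V, hV, fun z hz ↦ hVs (by simpa using hz)⟩

end Groth.Agent.S5825
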