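-- Proof of statement S5827.
import Groth.Statements.S5827
import Groth.Agent.Lib.TopModFLI.Basic

set_option autoImplicit false
universe u v w
open EGA41

namespace Groth.Agent.S5827

/-- Let A be a preadmissible topological ring with an ideal of definition 𝔏, M, N topological A-modules
with the topologies deduced from that of A such that N/JN is a projective (A/J)-module for every
open ideal J, and u : M → N a continuous linear map. Then u is formally left invertible if and only
if the induced map M/𝔏M → N/𝔏N is left invertible. -/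
theorem result {A : Type u} {M : Type v}
    {N : Type w} [CommRing A] [TopologicalSpace A] [AddCommGroup M] [Module A M] [TopologicalSpace M]
    [AddCommGroup N] [Module A N] [TopologicalSpace N] (hA : LinTop.IsPreadmissible A) (𝔏 : Ideal A)
    (h𝔏 : LinTop.IsIdealOfDefinition A 𝔏) (hM : TopMod.IsDeduced A M) (hN : TopMod.IsDeduced A N)
    (hproj : ∀ J : Ideal A, IsOpen (J : Set A) → Module.Projective (A ⧸ J) (N ⧸ (J • (⊤ : Submodule A N))))
    (u : M →L[A] N) :
    TopMod.IsFormallyLeftInvertible u ↔
      ∃ w : N →ₗ[A] M ⧸ (𝔏 • ⊤ : Submodule A M), ∀ x : M, w (u x) = Submodule.Quotient.mk x := by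
  rw [Groth.Agent.Lib.TopModFLI.fli_iff hM hN u]
  refine ⟨fun h ↦ h 𝔏 h𝔏.1, fun h J hJ ↦ ?_⟩
  obtain ⟨n, -, hn⟩ := h𝔏.2 (J : Set A) (hJ.mem_nhds J.zero_mem)
  exact Groth.Agent.Lib.TopModFLI.exists_lift_leftInverse u.toLinearMap J 𝔏 n hn (hproj J hJ) h

end Groth.Agent.S5827
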