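import Groth.Statements.S5828
import Groth.Agent.Lib.CotTwo.ExalChar


set_option autoImplicit false
universe u v
open EGA41

namespace Groth.Agent.S5828

open Groth.Agent.Lib.CotTwo

/-- Commutative case. For an A-extension X of C by a C-module L, with middle ring E, projection p and
inclusion i, the A-derivations D : C → L and the self-equivalences of X correspond under D ↦ (x ↦ x
+ i (D (p x))): every derivation defines a self-equivalence with this formula, and every
self-equivalence is of this form for exactly one derivation. (Bijection of sets; the published
statement also records compatibility with the group laws.) -/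
theorem result {A : Type u} {C L : Type v} [CommRing A] [CommRing C] [Algebra A C]
    [AddCommGroup L] [Module C L] [Module A L] [IsScalarTower A C L] (X : Exal.Ext A C L) :
    (∀ D : Derivation A C L, ∃ e : X.Equiv X, ∀ x : X.E, e.toAlgEquiv x = x + X.incl (D (X.proj x))) ∧
      ∀ e : X.Equiv X, ∃! D : Derivation A C L, ∀ x : X.E, e.toAlgEquiv x = x + X.incl (D (X.proj x)) := by
  refine ⟨fun D => ?_, fun e => ?_⟩
  · have h0 : ∀ x, X.proj (x + X.incl (D (X.proj x))) = X.proj x := fun x => by
      rw [map_add, proj_incl, add_zero]
    let f : X.E →ₐ[A] X.E :=
      { toFun := fun x => x + X.incl (D (X.proj x))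
        map_one' := by simp
        map_mul' := fun x y => by
          show x * y + X.incl (D (X.proj (x * y))) = _
          rw [map_mul, Derivation.leibniz, map_add X.incl, ← X.isExtension.mul_incl, ← X.isExtension.mul_incl,
            add_mul, mul_add, mul_add, incl_mul_incl, mul_comm (X.incl _) y, add_zero]
          abel
        map_zero' := by simp
        map_add' := fun x y => by
          show x + y + X.incl (D (X.proj (x + y))) = _
          rw [map_add X.proj, map_add D, map_add X.incl]
          abel
        commutes' := fun a => by simp [X.proj.commutes] }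
    have hbij : Function.Bijective f := by
      refine Function.bijective_iff_has_inverse.2 ⟨fun x => x - X.incl (D (X.proj x)), fun x => ?_, fun x => ?_⟩
      · show x + X.incl (D (X.proj x)) - X.incl (D (X.proj (x + X.incl (D (X.proj x))))) = x
        rw [h0, add_sub_cancel_right]
      · show x - X.incl (D (X.proj x)) + X.incl (D (X.proj (x - X.incl (D (X.proj x))))) = x
        rw [map_sub X.proj, proj_incl, sub_zero, sub_add_cancel]
    refine ⟨⟨AlgEquiv.ofBijective f hbij, h0, fun z => ?_⟩, fun x => rfl⟩
    show X.incl z + X.incl (D (X.proj (X.incl z))) = X.incl z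
    rw [proj_incl, map_zero, map_zero, add_zero]
  · have hex : ∀ x, ∃ z, X.incl z = e.toAlgEquiv x - x := fun x =>
      (X.isExtension.exact _).1 (by rw [map_sub, e.proj_apply, sub_self])
    choose m hm using hex
    have hm' : ∀ x, e.toAlgEquiv x = x + X.incl (m x) := fun x => by rw [hm, add_sub_cancel]
    have hmeq : ∀ x y, X.proj x = X.proj y → m x = m y := fun x y h => by
      obtain ⟨z, hz⟩ := (X.isExtension.exact (x - y)).1 (by rw [map_sub, h, sub_self])
      refine X.isExtension.incl_injective ?_
      rw [hm, hm, sub_eq_sub_iff_sub_eq_sub, ← map_sub, ← hz, e.apply_incl]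
    let q := Function.surjInv X.isExtension.proj_surjective
    have hq : ∀ c, X.proj (q c) = c := Function.surjInv_eq _
    have hadd : ∀ x y, m (q (x + y)) = m (q x) + m (q y) := fun x y => by
      rw [hmeq (q (x + y)) (q x + q y) (by rw [map_add, hq, hq, hq])]
      refine X.isExtension.incl_injective ?_
      rw [map_add X.incl, hm, hm, hm, map_add]
      abel
    have hmul : ∀ x y, m (q (x * y)) = x • m (q y) + y • m (q x) := fun x y => by
      rw [hmeq (q (x * y)) (q x * q y) (by rw [map_mul, hq, hq, hq])]
      refine X.isExtension.incl_injective ?_
      rw [hm, map_mul, hm', hm', map_add X.incl]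
      rw [show X.incl (x • m (q y)) = q x * X.incl (m (q y)) by rw [X.isExtension.mul_incl, hq],
        show X.incl (y • m (q x)) = q y * X.incl (m (q x)) by rw [X.isExtension.mul_incl, hq]]
      rw [add_mul, mul_add, mul_add, incl_mul_incl, mul_comm (X.incl _) (q y)]
      abel
    have hA : ∀ a, m (q (algebraMap A C a)) = 0 := fun a => by
      rw [hmeq (q (algebraMap A C a)) (algebraMap A X.E a) (by rw [hq, X.proj.commutes])]
      refine X.isExtension.incl_injective ?_
      rw [hm, AlgEquiv.commutes, sub_self, map_zero]
    let f : C →ₗ[A] L :=
      { toFun := fun c => m (q c)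
        map_add' := hadd
        map_smul' := fun a c => by
          rw [Algebra.smul_def, hmul, hA, smul_zero, add_zero, algebraMap_smul]
          rfl }
    refine ⟨Derivation.mk' f hmul, fun x => ?_, fun D' hD' => Derivation.ext fun c => X.isExtension.incl_injective ?_⟩
    · show e.toAlgEquiv x = x + X.incl (m (q (X.proj x)))
      rw [hmeq (q (X.proj x)) x (hq _), hm']
    · have h1 := hD' (q c)
      rw [hm', hq] at h1
      exact (add_left_cancel h1).symm

end Groth.Agent.S5828
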