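-- Proof of statement S5829.
import Groth.Statements.S5829
import Groth.Agent.Lib.TopModFLI.Basic

set_option autoImplicit false
universe u v w
open EGA41

namespace Groth.Agent.S5829

/-- Commutative case. Let B be a topological A-algebra in which the square of every open ideal is open,
and L a discrete B-module killed by an open ideal of B. Then every A-derivation B → L is continuous:
the submodule of continuous derivations is everything. (The topology of A is irrelevant and is not
assumed.) -/
theorem result {A : Type u} {B : Type v} {L : Type w} [CommRing A] [CommRing B]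
    [Algebra A B] [AddCommGroup L] [Module A L] [Module B L] [IsScalarTower A B L] [TopologicalSpace B]
    [IsTopologicalRing B] [TopologicalSpace L] [DiscreteTopology L] [ContinuousAdd L] [ContinuousConstSMul B L]
    (hsq : ∀ I : Ideal B, IsOpen (I : Set B) → IsOpen ((I ^ 2 : Ideal B) : Set B))
    (K : Ideal B) (hK : IsOpen (K : Set B)) (hKL : ∀ x ∈ K, ∀ z : L, x • z = 0) :
    TopMod.DerCont A B L = ⊤ := by
  refine eq_top_iff.2 fun D _ ↦ ?_
  show Continuous D
  have h0 : ∀ x ∈ (K ^ 2 : Ideal B), D x = 0 := fun x hx ↦ by
    rw [pow_two] at hx
    refine Submodule.mul_induction_on hx (fun a ha b hb ↦ ?_) fun a b ha hb ↦ by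
      rw [map_add, ha, hb, add_zero]
    rw [Derivation.leibniz, hKL a ha, hKL b hb, add_zero]
  refine continuous_of_continuousAt_zero D.toLinearMap.toAddMonoidHom ?_
  rw [ContinuousAt, nhds_discrete L, Filter.tendsto_pure]
  exact Filter.mem_of_superset ((hsq K hK).mem_nhds (K ^ 2 : Ideal B).zero_mem)
    fun x hx ↦ (h0 x hx).trans (map_zero D).symm

end Groth.Agent.S5829
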