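import Groth.Statements.S5830
import Mathlib.RingTheory.Smooth.Basic


set_option autoImplicit false
universe u v
open EGA41

namespace Groth.Agent.S5830

/-- A normalised symmetric Hochschild cocycle. -/
structure Cocycle (A : Type u) (B : Type v) [CommRing A] [CommRing B] [Algebra A B] (L : Type v)
    [AddCommGroup L] [Module B L] [Module A L] [IsScalarTower A B L] where
  φ : B →ₗ[A] B →ₗ[A] L
  symm : ∀ x y, φ x y = φ y x
  coc : ∀ x y z, φ (x * y) z + z • φ x y = x • φ y z + φ x (y * z)
  one : ∀ y, φ 1 y = 0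

variable {A : Type u} {B : Type v} [CommRing A] [CommRing B] [Algebra A B] {L : Type v}
    [AddCommGroup L] [Module B L] [Module A L] [IsScalarTower A B L]

/-- The square zero extension of `B` by `L` attached to a cocycle. -/
def Ext (_ : Cocycle A B L) : Type v := B × L

namespace Ext

variable (D : Cocycle A B L)

instance : AddCommGroup (Ext D) := inferInstanceAs (AddCommGroup (B × L))

instance : Mul (Ext D) :=
  ⟨fun p q => ((p.1 * q.1, p.1 • q.2 + q.1 • p.2 + D.φ p.1 q.1) : B × L)⟩

theorem mul_def (p q : Ext D) :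
    p * q = ((p.1 * q.1, p.1 • q.2 + q.1 • p.2 + D.φ p.1 q.1) : B × L) := rfl

instance : One (Ext D) := ⟨((1, 0) : B × L)⟩

theorem one_def : (1 : Ext D) = ((1, 0) : B × L) := rfl

theorem ext' {p q : Ext D} (h1 : p.1 = q.1) (h2 : p.2 = q.2) : p = q := Prod.ext h1 h2

theorem one_mul' (p : Ext D) : 1 * p = p := by
  refine ext' D ?_ ?_
  · show (1 : B) * p.1 = p.1
    exact one_mul _
  · show (1 : B) • p.2 + p.1 • (0 : L) + D.φ 1 p.1 = p.2
    rw [one_smul, smul_zero, D.one, add_zero, add_zero]

theorem mul_comm' (p q : Ext D) : p * q = q * p := by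
  refine ext' D (mul_comm p.1 q.1) ?_
  show p.1 • q.2 + q.1 • p.2 + D.φ p.1 q.1 = q.1 • p.2 + p.1 • q.2 + D.φ q.1 p.1
  rw [D.symm p.1 q.1, add_comm (p.1 • q.2)]

theorem mul_assoc' (p q r : Ext D) : p * q * r = p * (q * r) := by
  refine ext' D (mul_assoc p.1 q.1 r.1) ?_
  show (p.1 * q.1) • r.2 + r.1 • (p.1 • q.2 + q.1 • p.2 + D.φ p.1 q.1) + D.φ (p.1 * q.1) r.1 =
    p.1 • (q.1 • r.2 + r.1 • q.2 + D.φ q.1 r.1) + (q.1 * r.1) • p.2 + D.φ p.1 (q.1 * r.1)
  linear_combination (norm := module) D.coc p.1 q.1 r.1

theorem left_distrib' (p q r : Ext D) : p * (q + r) = p * q + p * r := by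
  refine ext' D (mul_add p.1 q.1 r.1) ?_
  show p.1 • (q.2 + r.2) + (q.1 + r.1) • p.2 + D.φ p.1 (q.1 + r.1) =
    (p.1 • q.2 + q.1 • p.2 + D.φ p.1 q.1) + (p.1 • r.2 + r.1 • p.2 + D.φ p.1 r.1)
  rw [map_add]
  module

instance : CommRing (Ext D) :=
  { (inferInstance : AddCommGroup (Ext D)), (inferInstance : Mul (Ext D)), (inferInstance : One (Ext D)) with
    mul_assoc := mul_assoc' D
    one_mul := one_mul' D
    mul_one := fun p => (mul_comm' D p 1).trans (one_mul' D p)
    left_distrib := left_distrib' D
    right_distrib := fun p q r => by rw [mul_comm', left_distrib', mul_comm' D r p, mul_comm' D r q]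
    mul_comm := mul_comm' D
    zero_mul := fun p => by
      have h := left_distrib' D p 0 0
      rw [add_zero] at h
      rw [mul_comm']
      exact left_eq_add.mp h
    mul_zero := fun p => by
      have h := left_distrib' D p 0 0
      rw [add_zero] at h
      exact left_eq_add.mp h }

theorem φ_algebraMap (a : A) (y : B) : D.φ (algebraMap A B a) y = 0 := by
  rw [Algebra.algebraMap_eq_smul_one, map_smul, LinearMap.smul_apply, D.one, smul_zero]

instance : Algebra A (Ext D) := RingHom.toAlgebra
  { toFun := fun a => ((algebraMap A B a, 0) : B × L)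
    map_one' := ext' D (map_one (algebraMap A B)) rfl
    map_mul' := fun a b => ext' D (map_mul (algebraMap A B) a b) (by
      show (0 : L) = algebraMap A B a • (0 : L) + algebraMap A B b • (0 : L) + D.φ _ _
      rw [φ_algebraMap, smul_zero, smul_zero, add_zero, add_zero])
    map_zero' := ext' D (map_zero (algebraMap A B)) rfl
    map_add' := fun a b => ext' D (map_add (algebraMap A B) a b) (add_zero (0 : L)).symm }

/-- The projection. -/
def proj : Ext D →ₐ[A] B where
  toFun p := p.1
  map_one' := rfl
  map_mul' _ _ := rfl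
  map_zero' := rfl
  map_add' _ _ := rfl
  commutes' _ := rfl

theorem smul_snd (a : A) (p : Ext D) : (a • p).2 = a • p.2 := by
  rw [Algebra.smul_def]
  show algebraMap A B a • p.2 + p.1 • (0 : L) + D.φ (algebraMap A B a) p.1 = a • p.2
  rw [φ_algebraMap, smul_zero, add_zero, add_zero, algebraMap_smul]

end Ext

theorem Cocycle.exists_cobound [Algebra.FormallySmooth A B] (D : Cocycle A B L) :
    ∃ h : B →ₗ[A] L, ∀ x y, h (x * y) = x • h y + y • h x + D.φ x y := by
  have hsq : RingHom.ker (Ext.proj D : Ext D →+* B) ^ 2 = ⊥ := by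
    rw [eq_bot_iff, pow_two, Ideal.mul_le]
    intro p hp q hq
    have hp' : p.1 = 0 := hp
    have hq' : q.1 = 0 := hq
    refine Ext.ext' D ?_ ?_
    · show p.1 * q.1 = 0
      rw [hp', zero_mul]
    · show p.1 • q.2 + q.1 • p.2 + D.φ p.1 q.1 = 0
      simp [hp', hq']
  have hs : Function.Surjective (Ext.proj D) := fun b => ⟨((b, 0) : B × L), rfl⟩
  let s := Algebra.FormallySmooth.liftOfSurjective (AlgHom.id A B) (Ext.proj D) hs ⟨2, hsq⟩
  have h1 : ∀ x, (s x).1 = x := fun x =>
    Algebra.FormallySmooth.liftOfSurjective_apply (AlgHom.id A B) (Ext.proj D) hs ⟨2, hsq⟩ x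
  refine ⟨{ toFun := fun x => (s x).2, map_add' := fun x y => by rw [map_add]; rfl,
            map_smul' := fun a x => by rw [map_smul]; exact Ext.smul_snd D a (s x) }, fun x y => ?_⟩
  show (s (x * y)).2 = x • (s y).2 + y • (s x).2 + D.φ x y
  rw [map_mul]
  show (s x).1 • (s y).2 + (s y).1 • (s x).2 + D.φ (s x).1 (s y).1 = _
  rw [h1, h1]

/-- Discrete case. If B is a formally smooth A-algebra then, for every B-module L, every A-bilinear
symmetric Hochschild 2-cocycle f : B × B → L (f(xy, z) + z f(x, y) = x f(y, z) + f(x, yz)) is a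
Hochschild 2-coboundary: f(x, y) = x g(y) − g(xy) + y g(x) for some A-linear g : B → L. (The
published statement is for topological algebras and open ideals; this row is its discrete case.) -/
theorem result {A : Type u} {B : Type v} [CommRing A] [CommRing B]
    [Algebra A B] [Algebra.FormallySmooth A B] {L : Type v} [AddCommGroup L] [Module B L] [Module A L]
    [IsScalarTower A B L] (f : B →ₗ[A] B →ₗ[A] L) (hsymm : ∀ x y : B, f x y = f y x)
    (hcoc : ∀ x y z : B, f (x * y) z + z • f x y = x • f y z + f x (y * z)) :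
    ∃ g : B →ₗ[A] L, ∀ x y : B, f x y = x • g y - g (x * y) + y • g x := by
  classical
  have h11 : ∀ z : B, f 1 z = z • f 1 1 := fun z => by
    have := hcoc 1 1 z
    simp only [one_mul, one_smul] at this
    exact (add_left_cancel this).symm
  let c := f 1 1
  let φ : B →ₗ[A] B →ₗ[A] L := f - LinearMap.mk₂ A (fun x y => (x * y) • c)
    (fun x y z => by rw [add_mul, add_smul]) (fun a x y => by rw [smul_mul_assoc, smul_assoc])
    (fun x y z => by rw [mul_add, add_smul]) (fun a x y => by rw [mul_smul_comm, smul_assoc])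
  have hφ : ∀ x y, φ x y = f x y - (x * y) • c := fun x y => by simp [φ]
  let D : Cocycle A B L :=
    { φ := φ
      symm := fun x y => by rw [hφ, hφ, hsymm, mul_comm]
      coc := fun x y z => by
        simp only [hφ, smul_sub, smul_smul]
        rw [mul_comm z (x * y), mul_assoc x y z]
        linear_combination (norm := module) hcoc x y z
      one := fun y => by rw [hφ, h11, one_mul, sub_self] }
  obtain ⟨h, hh⟩ := D.exists_cobound
  refine ⟨LinearMap.toSpanSingleton B L c |>.restrictScalars A |> (· - h), fun x y => ?_⟩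
  have := hh x y
  rw [show D.φ x y = φ x y from rfl, hφ] at this
  simp only [LinearMap.sub_apply, LinearMap.coe_restrictScalars, LinearMap.toSpanSingleton_apply]
  rw [smul_sub, smul_sub, smul_smul, smul_smul, mul_comm y x]
  linear_combination (norm := module) -this


end Groth.Agent.S5830
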