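import Groth.Statements.S5831
import Mathlib

set_option autoImplicit false
universe u
open EGA41

namespace Groth.Agent.S5831

/-- Discrete case. Let B be an A-algebra which is a projective A-module (A and B in one universe). If
for every B-module L in that universe every A-bilinear symmetric Hochschild 2-cocycle B × B → L is a
coboundary, then B is formally smooth over A. (The published statement assumes B formally projective
as a topological A-module; for discrete rings this is projectivity.) -/
theorem result {A B : Type u} [CommRing A]
    [CommRing B] [Algebra A B] [Module.Projective A B]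
    (h : ∀ (L : Type u) [AddCommGroup L] [Module B L] [Module A L] [IsScalarTower A B L]
      (f : B →ₗ[A] B →ₗ[A] L), (∀ x y : B, f x y = f y x) →
        (∀ x y z : B, f (x * y) z + z • f x y = x • f y z + f x (y * z)) →
          ∃ g : B →ₗ[A] L, ∀ x y : B, f x y = x • g y - g (x * y) + y • g x) :
    Algebra.FormallySmooth A B := by
  classical
  refine Algebra.FormallySmooth.of_comp_surjective fun C _ _ I hI φ => ?_
  obtain ⟨s, hs⟩ := Module.projective_lifting_property (Ideal.Quotient.mkₐ A I).toLinearMap φ.toLinearMap
    (Ideal.Quotient.mkₐ_surjective A I)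
  have hsq : ∀ i j : C, i ∈ I → j ∈ I → i * j = 0 := fun i j hi hj => by
    have : i * j ∈ I ^ 2 := by rw [pow_two]; exact Ideal.mul_mem_mul hi hj
    rwa [hI, Ideal.mem_bot] at this
  have hsmk : ∀ b, Ideal.Quotient.mk I (s b) = φ b := fun b => congrArg (fun l => l b) hs
  have hmul : ∀ x y, s x * s y - s (x * y) ∈ I := fun x y => by
    rw [← Ideal.Quotient.eq_zero_iff_mem, map_sub, map_mul, hsmk, hsmk, hsmk, map_mul, sub_self]
  have hone : s 1 - 1 ∈ I := by
    rw [← Ideal.Quotient.eq_zero_iff_mem, map_sub, hsmk, map_one, map_one, sub_self]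
  letI : Module B I :=
    { smul := fun b i => ⟨s b * i.1, I.mul_mem_left _ i.2⟩
      one_smul := fun i => Subtype.ext (by
        show s 1 * i.1 = i.1
        have := hsq _ _ hone i.2
        linear_combination this)
      mul_smul := fun x y i => Subtype.ext (by
        show s (x * y) * i.1 = s x * (s y * i.1)
        have := hsq _ _ (hmul x y) i.2
        linear_combination -this)
      smul_zero := fun b => Subtype.ext (mul_zero (s b))
      zero_smul := fun i => Subtype.ext (by show s 0 * i.1 = 0; rw [map_zero, zero_mul])
      smul_add := fun b i j => Subtype.ext (mul_add (s b) i.1 j.1)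
      add_smul := fun x y i => Subtype.ext (by show s (x + y) * i.1 = s x * i.1 + s y * i.1; rw [map_add, add_mul]) }
  haveI : IsScalarTower A B I := ⟨fun a b i => Subtype.ext (by
    show s (a • b) * i.1 = a • (s b * i.1)
    rw [map_smul, smul_mul_assoc])⟩
  let f : B →ₗ[A] B →ₗ[A] I := LinearMap.mk₂ A (fun x y => ⟨s x * s y - s (x * y), hmul x y⟩)
    (fun x x' y => Subtype.ext (by
      show _ = (_ : C) + _
      simp only [map_add, add_mul]; ring))
    (fun a x y => Subtype.ext (by
      show _ = a • (_ : C)
      simp only [map_smul, smul_mul_assoc, smul_sub]))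
    (fun x y y' => Subtype.ext (by
      show _ = (_ : C) + _
      simp only [map_add, mul_add]; ring))
    (fun a x y => Subtype.ext (by
      show _ = a • (_ : C)
      simp only [map_smul, mul_smul_comm, smul_sub]))
  obtain ⟨g, hg⟩ := h I f (fun x y => Subtype.ext (by
      show s x * s y - s (x * y) = s y * s x - s (y * x)
      rw [mul_comm x y, mul_comm (s x)]))
    (fun x y z => Subtype.ext (by
      show (s (x * y) * s z - s (x * y * z)) + s z * (s x * s y - s (x * y)) =
        s x * (s y * s z - s (y * z)) + (s x * s (y * z) - s (x * (y * z)))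
      rw [mul_assoc x y z]; ring))
  let t : B →ₗ[A] C := s - (I.subtype.restrictScalars A) ∘ₗ g
  have ht : ∀ b, t b = s b - (g b).1 := fun b => rfl
  have htmul : ∀ x y, t (x * y) = t x * t y := fun x y => by
    have h1 : s x * s y - s (x * y) = s x * (g y).1 - (g (x * y)).1 + s y * (g x).1 :=
      congrArg Subtype.val (hg x y)
    have h2 := hsq _ _ (g x).2 (g y).2
    rw [ht, ht, ht]
    linear_combination -h1 - h2
  have htone : t 1 = 1 := by
    have h1 : t 1 - 1 ∈ I := by
      rw [ht, show s 1 - (g 1).1 - 1 = (s 1 - 1) - (g 1).1 by ring]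
      exact sub_mem hone (g 1).2
    have h2 := hsq _ _ h1 h1
    have h3 : t 1 = t 1 * t 1 := by rw [← htmul, one_mul]
    linear_combination -h2 - h3
  exact ⟨AlgHom.ofLinearMap t htone htmul, AlgHom.ext fun b => by
    show Ideal.Quotient.mk I (t b) = φ b
    rw [ht, map_sub, hsmk, (Ideal.Quotient.eq_zero_iff_mem).mpr (g b).2, sub_zero]⟩

end Groth.Agent.S5831
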