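import Groth.Statements.S5832
import Groth.Agent.Lib.CotTwo.ExalChar


set_option autoImplicit false
universe u u' v
open EGA41

namespace Groth.Agent.S5832

attribute [local instance] Exal.opModule Exal.isCentralScalar_opModule

/-- Surjectivity at the end of the sequence. For ring maps Λ → A → B → C and a C-module L, every
Λ-trivial A-extension of B by L is equivalent to the inverse image along B → C of a Λ-trivial
A-extension of C by L. (Exactness at the other places is that of the six-term derivation-extension
sequence restricted to Λ-trivial classes.) -/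
theorem result {Λ : Type u} {A : Type u'} {B C L : Type v}
    [CommRing Λ] [CommRing A] [CommRing B] [CommRing C] [Algebra Λ A] [Algebra Λ B] [Algebra Λ C]
    [Algebra A B] [Algebra B C] [Algebra A C] [IsScalarTower Λ A B] [IsScalarTower Λ A C] [IsScalarTower A B C]
    [AddCommGroup L] [Module C L] [Module B L] [IsScalarTower B C L]
    (Y : Exal.Ext A B L) (hY : Y.IsTrivialOver Λ) :
    ∃ X : Exal.Ext A C L, X.IsTrivialOver Λ ∧ Nonempty ((X.pullback B).Equiv Y) := by
  obtain ⟨s, hs⟩ := hY
  have hp : ∀ z, Y.proj (Y.incl z) = 0 := fun z => (Y.isExtension.exact _).2 ⟨z, rfl⟩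
  have hsc : ∀ c, s (algebraMap Λ B c) = algebraMap A Y.E (algebraMap Λ A c) := fun c => s.commutes c
  let sE : B →+* Y.E := s.toRingHom
  have hsE : ∀ b, Y.proj (sE b) = b := hs
  have hex : ∀ y, ∃ z, Y.incl z = y - sE (Y.proj y) := fun y =>
    (Y.isExtension.exact _).1 (by rw [map_sub, hsE, sub_self])
  choose k hk using hex
  have hkey : ∀ y, y = sE (Y.proj y) + Y.incl (k y) := fun y => by rw [hk, add_sub_cancel]
  have hsq : ∀ z z', Y.incl z * Y.incl z' = 0 := fun z z' => by
    rw [Y.isExtension.mul_incl, hp, zero_smul, map_zero]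
  have k_add : ∀ x y, k (x + y) = k x + k y := fun x y => Y.isExtension.incl_injective (by
    rw [map_add Y.incl, hk, hk, hk, map_add Y.proj, map_add sE]
    abel)
  have k_mul : ∀ x y, k (x * y) = algebraMap B C (Y.proj x) • k y + algebraMap B C (Y.proj y) • k x := fun x y =>
    Y.isExtension.incl_injective (by
      rw [algebraMap_smul, algebraMap_smul, map_add Y.incl, hk (x * y), map_mul Y.proj, map_mul sE]
      conv_rhs => rw [← hsE (Y.proj x), ← hsE (Y.proj y), ← Y.isExtension.mul_incl, ← Y.isExtension.mul_incl]
      conv_lhs => rw [hkey x, hkey y]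
      simp only [map_add, hp, hsE, add_zero, add_mul, mul_add, hsq]
      ring)
  have k_s : ∀ b, k (sE b) = 0 := fun b => Y.isExtension.incl_injective (by rw [hk, hsE, sub_self, map_zero])
  have k_incl : ∀ z, k (Y.incl z) = z := fun z => Y.isExtension.incl_injective (by rw [hk, hp, map_zero, sub_zero])
  let K : Y.E →+* Exal.Ext.TrivCarrier Λ C L :=
    { toFun := fun y => ((algebraMap B C (Y.proj y), k y) : TrivSqZeroExt C L)
      map_one' := TrivSqZeroExt.ext (by show algebraMap B C (Y.proj 1) = 1; rw [map_one, map_one]) (by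
        show k 1 = 0
        rw [← map_one sE, k_s])
      map_mul' := fun x y => TrivSqZeroExt.ext (by
        show algebraMap B C (Y.proj (x * y)) = algebraMap B C (Y.proj x) * algebraMap B C (Y.proj y)
        rw [map_mul, map_mul]) (k_mul x y)
      map_zero' := TrivSqZeroExt.ext (by show algebraMap B C (Y.proj 0) = 0; rw [map_zero, map_zero]) (by
        show k 0 = 0
        rw [← map_zero sE, k_s])
      map_add' := fun x y => TrivSqZeroExt.ext (by
        show algebraMap B C (Y.proj (x + y)) = algebraMap B C (Y.proj x) + algebraMap B C (Y.proj y)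
        rw [map_add, map_add]) (k_add x y) }
  letI algA : Algebra A (Exal.Ext.TrivCarrier Λ C L) := (K.comp (algebraMap A Y.E)).toAlgebra
  let T := Exal.Ext.trivial Λ C L
  let X : Exal.Ext A C L :=
    { E := Exal.Ext.TrivCarrier Λ C L
      proj := { toRingHom := T.proj.toRingHom, commutes' := fun a => by
                  show algebraMap B C (Y.proj (algebraMap A Y.E a)) = algebraMap A C a
                  rw [Y.proj.commutes, ← IsScalarTower.algebraMap_apply] }
      incl := T.incl
      isExtension := ⟨T.isExtension.proj_surjective, T.isExtension.incl_injective, T.isExtension.exact,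
        T.isExtension.mul_incl⟩ }
  refine ⟨X, ⟨{ toRingHom := TrivSqZeroExt.inlHom C L, commutes' := fun c => ?_ }, fun _ => rfl⟩, ?_⟩
  · refine TrivSqZeroExt.ext ?_ ?_
    · show algebraMap Λ C c = algebraMap B C (Y.proj (algebraMap A Y.E (algebraMap Λ A c)))
      rw [Y.proj.commutes, ← IsScalarTower.algebraMap_apply A B C, ← IsScalarTower.algebraMap_apply]
    · show (0 : L) = k (algebraMap A Y.E (algebraMap Λ A c))
      rw [← hsc]
      exact (k_s _).symm
  let F : Y.E →ₐ[A] (X.pullback B).E :=
    (({ toRingHom := K, commutes' := fun a => rfl } : Y.E →ₐ[A] X.E).prod Y.proj).codRestrict (X.fiberProd B)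
      fun y => rfl
  have hinv : ∀ y, sE (Y.proj y) + Y.incl (k y) = y := fun y => (hkey y).symm
  have hbij : Function.Bijective F := by
    refine ⟨fun x y hxy => ?_, fun w => ?_⟩
    · rw [← hinv x, ← hinv y, show Y.proj x = Y.proj y from congrArg (fun w : (X.pullback B).E => w.1.2) hxy,
        show k x = k y from congrArg (fun w : (X.pullback B).E => TrivSqZeroExt.snd (w.1.1 : TrivSqZeroExt C L)) hxy]
    · obtain ⟨⟨e, b⟩, hw⟩ := w
      refine ⟨sE b + Y.incl (TrivSqZeroExt.snd (e : TrivSqZeroExt C L)), Subtype.ext (Prod.ext (TrivSqZeroExt.ext ?_ ?_) ?_)⟩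
      · show algebraMap B C (Y.proj (_ + _)) = _
        rw [map_add, hsE, hp, add_zero]
        exact hw.symm
      · show k (_ + _) = _
        rw [k_add, k_s, k_incl, zero_add]
      · show Y.proj (_ + _) = b
        rw [map_add, hsE, hp, add_zero]
  exact ⟨(⟨AlgEquiv.ofBijective F hbij, fun y => rfl, fun z => Subtype.ext (Prod.ext
    (TrivSqZeroExt.ext (by show algebraMap B C (Y.proj (Y.incl z)) = 0; rw [hp, map_zero]) (k_incl z)) (hp z))⟩ :
    Y.Equiv (X.pullback B)).symm⟩

end Groth.Agent.S5832
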