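import Groth.Statements.S5833
import Groth.Agent.Lib.CotTwo.ExalChar3
import Groth.Agent.S5821


set_option autoImplicit false
universe u v
open scoped TensorProduct
open EGA41

namespace Groth.Agent.S5833

open Groth.Agent.Lib.CotTwo TensorProduct

/-- Let Λ → A → B be ring maps, K an ideal of B, C = B ⧸ K, and suppose E = B ⧸ K², as an extension of C
by K/K², is Λ-trivial. Let χ : Υ_{C/A/Λ} → K/K² be the characteristic homomorphism of E as an
A-extension, relative to Λ → A. Then: (a) the kernel of χ consists of the elements of Υ_{C/A/Λ} ⊆ C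
⊗_A Ω_{A/Λ} whose image in C ⊗_B Ω_{B/Λ} is zero (that image map is written as the base change to C
of B ⊗_A Ω_{A/Λ} → Ω_{B/Λ}, through the canonical identification C ⊗_B (B ⊗_A Ω_{A/Λ}) = C ⊗_A
Ω_{A/Λ}); (b) the image of χ is the kernel of the conormal map K/K² → C ⊗_B Ω_{B/A}, x ↦ 1 ⊗ dx.
This is the exact sequence 0 → Υ^C_{B/A/Λ} → Υ_{C/A/Λ} → K/K² → C ⊗_B Ω_{B/A} → Ω_{C/A} → 0 up to
its last two (conormal-sequence) terms. -/
theorem result {Λ : Type u} {A B : Type v} [CommRing Λ]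
    [CommRing A] [CommRing B] [Algebra Λ A] [Algebra Λ B] [Algebra A B] [IsScalarTower Λ A B] (K : Ideal B)
    (htriv : ((Exal.Ext.infinitesimal K).restrictBase A).IsTrivialOver Λ)
    (χ : ↥(EGA41.imperfection Λ A (B ⧸ K)) →ₗ[B ⧸ K] K.Cotangent)
    (hχ : ((Exal.Ext.infinitesimal K).restrictBase A).IsCharHom Λ χ) :
    (∀ z : ↥(EGA41.imperfection Λ A (B ⧸ K)),
        χ z = 0 ↔
          ((KaehlerDifferential.mapBaseChange Λ A B).baseChange (B ⧸ K))
              ((TensorProduct.AlgebraTensorModule.cancelBaseChange A B (B ⧸ K) (B ⧸ K) Ω[A⁄Λ]).symm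
                (z : (B ⧸ K) ⊗[A] Ω[A⁄Λ])) = 0) ∧
      ∀ (x : B) (hx : x ∈ K),
        K.toCotangent ⟨x, hx⟩ ∈ LinearMap.range χ ↔
          (1 : B ⧸ K) ⊗ₜ[B] KaehlerDifferential.D A B x = (0 : (B ⧸ K) ⊗[B] Ω[B⁄A]) := by
  obtain ⟨S⟩ := (isTrivialOver_iff _).1 htriv
  have hK : (Exal.Ext.infinitesimal K).IsTrivialOver Λ := (isTrivialOver_iff _).2 ⟨S.ofRestrict⟩
  let χ' : ↥(EGA41.imperfection Λ B (B ⧸ K)) →ₗ[B ⧸ K] K.Cotangent :=
    S.ofRestrict.phi ∘ₗ (EGA41.imperfection Λ B (B ⧸ K)).subtype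
  have hχ' : (Exal.Ext.infinitesimal K).IsCharHom Λ χ' := (S.ofRestrict.isCharHom_iff χ').2 fun _ => rfl
  have hbij := Groth.Agent.S5821.result K hK χ' hχ'
  have hmem : ∀ z : ↥(EGA41.imperfection Λ A (B ⧸ K)), nu Λ A B (B ⧸ K) z ∈ EGA41.imperfection Λ B (B ⧸ K) := fun z =>
    LinearMap.mem_ker.2 ((mapBaseChange_nu z.1).trans (LinearMap.mem_ker.1 z.2))
  have hz : ∀ z : ↥(EGA41.imperfection Λ A (B ⧸ K)), χ z = χ' ⟨_, hmem z⟩ := fun z =>
    ((S.isCharHom_iff χ).1 hχ z).trans (S.phi_ofRestrict z.1)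
  refine ⟨fun z => ?_, fun x hx => ?_⟩
  · rw [hz]
    show _ ↔ nu Λ A B (B ⧸ K) z = 0
    constructor
    · intro h
      exact congrArg Subtype.val (hbij.1 (h.trans (map_zero χ').symm))
    · intro h
      rw [show (⟨_, hmem z⟩ : ↥(EGA41.imperfection Λ B (B ⧸ K))) = 0 from Subtype.ext h, map_zero]
  have hxC : algebraMap B (B ⧸ K) x = 0 := Ideal.Quotient.eq_zero_iff_mem.2 hx
  have hwm : (1 : B ⧸ K) ⊗ₜ KaehlerDifferential.D Λ B x ∈ EGA41.imperfection Λ B (B ⧸ K) := LinearMap.mem_ker.2 (by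
    rw [KaehlerDifferential.mapBaseChange_tmul, KaehlerDifferential.map_D, hxC, map_zero, smul_zero])
  have hw : χ' ⟨_, hwm⟩ = K.toCotangent ⟨x, hx⟩ := by
    refine (S.ofRestrict.phi_tmul (1 : B ⧸ K) x).trans ?_
    rw [one_smul]
    refine (Exal.Ext.infinitesimal K).isExtension.incl_injective ?_
    rw [Sect.incl_kill, (Exal.Ext.infinitesimal K).proj.commutes, hxC, map_zero, sub_zero]
    exact (K.toCotangent_to_quotient_square ⟨x, hx⟩).symm
  let M' := (KaehlerDifferential.map Λ A B B).lTensor (B ⧸ K)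
  have hex : Function.Exact ((KaehlerDifferential.mapBaseChange Λ A B).lTensor (B ⧸ K)) M' :=
    lTensor_exact (B ⧸ K) (KaehlerDifferential.exact_mapBaseChange_map Λ A B) (KaehlerDifferential.map_surjective Λ A B)
  have hM : M' ((1 : B ⧸ K) ⊗ₜ KaehlerDifferential.D Λ B x) = (1 : B ⧸ K) ⊗ₜ KaehlerDifferential.D A B x := by
    rw [LinearMap.lTensor_tmul, KaehlerDifferential.map_D]
    rfl
  have hνM : ∀ z, M' (nu Λ A B (B ⧸ K) z) = 0 := fun z => hex.apply_apply_eq_zero _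
  rw [← hM]
  constructor
  · rintro ⟨z, hzx⟩
    rw [hz, ← hw] at hzx
    exact (congrArg (fun w : ↥(EGA41.imperfection Λ B (B ⧸ K)) => M' w.1) (hbij.1 hzx)).symm.trans (hνM z.1)
  · intro h
    obtain ⟨y, hy⟩ := (hex _).1 h
    let z := TensorProduct.AlgebraTensorModule.cancelBaseChange A B (B ⧸ K) (B ⧸ K) Ω[A⁄Λ] y
    have hν : nu Λ A B (B ⧸ K) z = (1 : B ⧸ K) ⊗ₜ KaehlerDifferential.D Λ B x := by
      refine Eq.trans ?_ hy
      show (KaehlerDifferential.mapBaseChange Λ A B).baseChange (B ⧸ K) (LinearEquiv.symm _ z) = _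
      rw [LinearEquiv.symm_apply_apply]
      rfl
    have hzm : z ∈ EGA41.imperfection Λ A (B ⧸ K) := LinearMap.mem_ker.2 (by
      rw [← mapBaseChange_nu (B := B), hν]
      exact LinearMap.mem_ker.1 hwm)
    exact ⟨⟨z, hzm⟩, (hz _).trans ((congrArg χ' (Subtype.ext hν)).trans hw)⟩

end Groth.Agent.S5833
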