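import Groth.Statements.S5834
import Groth.Agent.S5833
import Mathlib.RingTheory.Kaehler.JacobiZariski


set_option autoImplicit false
universe u v
open EGA41

namespace Groth.Agent.S5834

open TensorProduct

/-- Let Λ → A → B be ring maps with B formally smooth over A, K an ideal of B, C = B ⧸ K, and suppose E
= B ⧸ K², as an extension of C by K/K², is Λ-trivial. Then the characteristic homomorphism χ :
Υ_{C/A/Λ} → K/K² of E as an A-extension relative to Λ → A is injective (so that, with the
description of its image as the kernel of K/K² → C ⊗_B Ω_{B/A}, the sequence 0 → Υ_{C/A/Λ} → K/K² →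
C ⊗_B Ω_{B/A} → Ω_{C/A} → 0 is exact). -/
theorem result {Λ : Type u} {A B : Type v} [CommRing Λ]
    [CommRing A] [CommRing B] [Algebra Λ A] [Algebra Λ B] [Algebra A B] [IsScalarTower Λ A B]
    [Algebra.FormallySmooth A B] (K : Ideal B)
    (htriv : ((Exal.Ext.infinitesimal K).restrictBase A).IsTrivialOver Λ)
    (χ : ↥(EGA41.imperfection Λ A (B ⧸ K)) →ₗ[B ⧸ K] K.Cotangent)
    (hχ : ((Exal.Ext.infinitesimal K).restrictBase A).IsCharHom Λ χ) :
    Function.Injective χ := by
  rw [injective_iff_map_eq_zero]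
  intro z hz
  have h0 := ((Groth.Agent.S5833.result K htriv χ hχ).1 z).1 hz
  let μ := KaehlerDifferential.mapBaseChange Λ A B
  have hinj : Function.Injective μ := (injective_iff_map_eq_zero _).2 fun y hy => by
    obtain ⟨h1, rfl⟩ := (Algebra.H1Cotangent.exact_δ_mapBaseChange (R := Λ) (S := A) (T := B) y).1 hy
    rw [Subsingleton.elim h1 0, map_zero]
  obtain ⟨s, hs⟩ := (KaehlerDifferential.map Λ A B B).exists_rightInverse_of_surjective
    (LinearMap.range_eq_top.2 (KaehlerDifferential.map_surjective Λ A B))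
  have hs' : ∀ ω, KaehlerDifferential.map Λ A B B (s ω) = ω := LinearMap.congr_fun hs
  have hmem : ∀ ω, (LinearMap.id - s ∘ₗ KaehlerDifferential.map Λ A B B : Ω[B⁄Λ] →ₗ[B] Ω[B⁄Λ]) ω ∈ LinearMap.range μ :=
    fun ω => by
      refine (KaehlerDifferential.exact_mapBaseChange_map Λ A B _).1 ?_
      show KaehlerDifferential.map Λ A B B (ω - s (KaehlerDifferential.map Λ A B B ω)) = 0
      rw [map_sub, hs', sub_self]
  let r : Ω[B⁄Λ] →ₗ[B] B ⊗[A] Ω[A⁄Λ] :=
    (LinearEquiv.ofInjective μ hinj).symm.toLinearMap ∘ₗ LinearMap.codRestrict _ _ hmem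
  have hr : r ∘ₗ μ = LinearMap.id := LinearMap.ext fun y => hinj (by
    show μ (((LinearEquiv.ofInjective μ hinj).symm _)) = μ y
    refine (congrArg Subtype.val ((LinearEquiv.ofInjective μ hinj).apply_symm_apply _)).trans ?_
    show μ y - s (KaehlerDifferential.map Λ A B B (μ y)) = μ y
    rw [(KaehlerDifferential.exact_mapBaseChange_map Λ A B).apply_apply_eq_zero, map_zero, sub_zero])
  have h1 := congrArg (r.baseChange (B ⧸ K)) h0
  rw [← LinearMap.comp_apply, ← LinearMap.baseChange_comp, hr, LinearMap.baseChange_id, LinearMap.id_apply, map_zero,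
    LinearEquiv.map_eq_zero_iff] at h1
  exact Subtype.ext h1

end Groth.Agent.S5834
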