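import Groth.Statements.S5835
import Groth.Agent.Lib.Imperf.Rank
import Groth.Agent.Lib.PBasis.FieldSmooth
import Mathlib.RingTheory.Kaehler.JacobiZariski
-- import your own Groth.Agent.* helpers here

set_option autoImplicit false
universe v w
open scoped TensorProduct
open EGA41

namespace Groth.Agent.S5835

theorem injective_mbc (R : Type*) (S T : Type*) [CommRing R] [CommRing S] [CommRing T] [Algebra R S]
    [Algebra R T] [Algebra S T] [IsScalarTower R S T] [Algebra.FormallySmooth S T] :
    Function.Injective (KaehlerDifferential.mapBaseChange R S T) := by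
  rw [injective_iff_map_eq_zero]
  intro x hx
  obtain ⟨y, rfl⟩ := (Algebra.H1Cotangent.exact_δ_mapBaseChange R S T x).1 hx
  rw [Subsingleton.elim y 0, map_zero]

theorem same_universe {k k₀ K L : Type w}
    [Field k₀] [Field k] [Field K] [Field L] [Algebra k₀ k] [Algebra k₀ K] [Algebra k₀ L] [Algebra k K]
    [Algebra k L] [Algebra K L] [IsScalarTower k₀ k K] [IsScalarTower k₀ k L] [IsScalarTower k₀ K L]
    [IsScalarTower k K L] [Algebra.IsGeometricallyReduced k L] (z : L ⊗[K] Ω[K⁄k₀])
    (hz : z ∈ EGA41.imperfection k₀ K L)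
    (hz' : z ∈ Submodule.span L (Set.range fun s : k =>
        (1 : L) ⊗ₜ[K] KaehlerDifferential.D k₀ K (algebraMap k K s))) : z = 0 := by
  haveI : Algebra.FormallySmooth k L :=
    Groth.Agent.Lib.PBasis.FieldSmooth.formallySmooth_iff_isGeometricallyReduced.2 inferInstance
  let ν : L ⊗[k] Ω[k⁄k₀] →ₗ[L] L ⊗[K] Ω[K⁄k₀] :=
    LinearMap.liftBaseChange L
      (((TensorProduct.mk K L Ω[K⁄k₀] 1).restrictScalars k).comp (KaehlerDifferential.map k₀ k₀ k K))
  have hν : ∀ y, KaehlerDifferential.mapBaseChange k₀ K L (ν y) =
      KaehlerDifferential.mapBaseChange k₀ k L y := by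
    intro y
    induction y using TensorProduct.induction_on with
    | zero => simp
    | add a b ha hb => simp only [map_add, ha, hb]
    | tmul l x =>
      simp only [ν, LinearMap.liftBaseChange_tmul, LinearMap.comp_apply, map_smul,
        LinearMap.coe_restrictScalars, TensorProduct.mk_apply, KaehlerDifferential.mapBaseChange_tmul,
        one_smul]
      congr 1
      have hx : x ∈ Submodule.span k (Set.range (KaehlerDifferential.D k₀ k)) := by
        rw [KaehlerDifferential.span_range_derivation]; trivial
      induction hx using Submodule.span_induction with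
      | mem v hv =>
        obtain ⟨a, rfl⟩ := hv
        rw [KaehlerDifferential.map_D, KaehlerDifferential.map_D, KaehlerDifferential.map_D,
          ← IsScalarTower.algebraMap_apply]
      | zero => simp
      | add p q _ _ hp hq => simp only [map_add, hp, hq]
      | smul c p _ hp => simp only [map_smul, LinearMap.map_smul_of_tower, hp]
  obtain ⟨y, rfl⟩ : z ∈ LinearMap.range ν := by
    refine (Submodule.span_le.2 ?_) hz'
    rintro _ ⟨s, rfl⟩
    refine ⟨(1 : L) ⊗ₜ[k] KaehlerDifferential.D k₀ k s, ?_⟩
    simp [ν, KaehlerDifferential.map_D]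
  have h0 := LinearMap.mem_ker.1 hz
  rw [hν] at h0
  rw [injective_mbc k₀ k L (h0.trans (map_zero _).symm), map_zero]

/-- For fields k₀ ⊆ k ⊆ K ⊆ L, the map of imperfection modules Υ_{L/K/k₀} → Υ_{L/K/k} induced by
Ω_{K/k₀} → Ω_{K/k} is injective (k is k₀-admissible for the extension L of K) in each of the
following cases: L is separable over k; L is separable over K; k lies in k₀(K^p), p the
characteristic exponent. Separable means geometrically reduced (not necessarily algebraic). -/
theorem result {k : Type v} {k₀ K L : Type w}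
    [Field k₀] [Field k] [Field K] [Field L] [Algebra k₀ k] [Algebra k₀ K] [Algebra k₀ L] [Algebra k K]
    [Algebra k L] [Algebra K L] [IsScalarTower k₀ k K] [IsScalarTower k₀ k L] [IsScalarTower k₀ K L]
    [IsScalarTower k K L] (p : ℕ) [ExpChar K p]
    (h : Algebra.IsGeometricallyReduced k L ∨ Algebra.IsGeometricallyReduced K L ∨
      ∀ x : k, algebraMap k K x ∈ EGA41.pPowerSubalgebra p k₀ K) :
    ∀ z : L ⊗[K] Ω[K⁄k₀], z ∈ EGA41.imperfection k₀ K L →
      (KaehlerDifferential.map k₀ k K K).baseChange L z = 0 → z = 0 := by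
  intro z hz hzk
  have hz' : z ∈ Submodule.span L (Set.range fun s : k =>
      (1 : L) ⊗ₜ[K] KaehlerDifferential.D k₀ K (algebraMap k K s)) := by
    rw [← Groth.Agent.Lib.Imperf.ker_map_baseChange L]; exact hzk
  -- the base field in the universe of `K`
  let k' : Subfield K := (algebraMap k K).fieldRange
  let e : k →+* k' := (algebraMap k K).rangeRestrictField
  have he : ∀ x, ((e x : k') : K) = algebraMap k K x := fun x => rfl
  letI : Algebra k₀ k' := (e.comp (algebraMap k₀ k)).toAlgebra
  haveI : IsScalarTower k₀ k' K := IsScalarTower.of_algebraMap_eq fun x => by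
    rw [IsScalarTower.algebraMap_apply k₀ k K]; rfl
  haveI : IsScalarTower k₀ k' L := IsScalarTower.of_algebraMap_eq fun x => by
    rw [IsScalarTower.algebraMap_apply k₀ K L, IsScalarTower.algebraMap_apply k₀ k' K]; rfl
  have hz'' : z ∈ Submodule.span L (Set.range fun s : k' =>
      (1 : L) ⊗ₜ[K] KaehlerDifferential.D k₀ K (algebraMap k' K s)) :=
    Submodule.span_mono (by rintro _ ⟨s, rfl⟩; exact ⟨e s, rfl⟩) hz'
  have hsep : Algebra.IsGeometricallyReduced k' L → z = 0 := fun _ =>
    same_universe (k := k') z hz hz''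
  rcases h with h | h | h
  · refine hsep ?_
    let Ω' := AlgebraicClosure k'
    letI : Algebra k k' := e.toAlgebra
    haveI : IsScalarTower k k' K := IsScalarTower.of_algebraMap_eq fun _ => rfl
    haveI : IsScalarTower k k' L := IsScalarTower.of_algebraMap_eq fun x => by
      rw [IsScalarTower.algebraMap_apply k K L]; rfl
    have hes : Function.Surjective (algebraMap k k') := fun ⟨y, x, hx⟩ => ⟨x, Subtype.ext hx⟩
    haveI : Algebra.IsAlgebraic k k' :=
      ⟨fun y => by obtain ⟨x, rfl⟩ := hes y; exact isAlgebraic_algebraMap x⟩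
    haveI : Algebra.IsAlgebraic k Ω' := Algebra.IsAlgebraic.trans k k' Ω'
    rw [Algebra.isGeometricallyReduced_field_iff]
    haveI : IsReduced (Ω' ⊗[k] L) := inferInstance
    haveI : TensorProduct.CompatibleSMul k k' Ω' L := ⟨fun r a b => by
      obtain ⟨x, rfl⟩ := hes r
      rw [algebraMap_smul, algebraMap_smul, TensorProduct.smul_tmul]⟩
    exact isReduced_of_injective (Algebra.TensorProduct.equivOfCompatibleSMul k k' k Ω' L).toRingEquiv
      (RingEquiv.injective _)
  · haveI : Algebra.FormallySmooth K L :=
      Groth.Agent.Lib.PBasis.FieldSmooth.formallySmooth_iff_isGeometricallyReduced.2 h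
    exact injective_mbc k₀ K L ((LinearMap.mem_ker.1 hz).trans (map_zero _).symm)
  · cases ‹ExpChar K p› with
    | zero =>
      haveI : CharZero k' := (algebraMap k' K).charZero
      exact hsep Groth.Agent.Lib.PBasis.MacLane.isGeometricallyReduced_of_charZero
    | prime hp =>
      haveI := Fact.mk hp
      have h0 : ∀ s : k, KaehlerDifferential.D k₀ K (algebraMap k K s) = 0 := fun s =>
        Groth.Agent.Lib.PBasis.Deriv.derivation_pPower_eq_zero (p := p) _ (h s)
      have : Submodule.span L (Set.range fun s : k =>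
          (1 : L) ⊗ₜ[K] KaehlerDifferential.D k₀ K (algebraMap k K s)) = ⊥ := by
        rw [Submodule.span_eq_bot]
        rintro _ ⟨s, rfl⟩
        simp [h0]
      rw [this] at hz'
      exact (Submodule.mem_bot L).1 hz'

end Groth.Agent.S5835
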