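import Groth.Statements.S5836
import Groth.Agent.Lib.Imperf.Rank
-- import your own Groth.Agent.* helpers here

set_option autoImplicit false
universe u u' u'' w
open scoped TensorProduct
open EGA41

namespace Groth.Agent.S5836

/-- For fields k ⊆ k' ⊆ k'' ⊆ K ⊆ L put Δ(L/K, a/b) = ker(Υ_{L/K/b} → Υ_{L/K/a}) ⊆ L ⊗_K Ω_{K/b}. Then 0
→ Δ(L/K, k'/k) → Δ(L/K, k''/k) → Δ(L/K, k''/k') → 0 is exact: stated as the surjectivity of the map
induced by L ⊗_K Ω_{K/k} → L ⊗_K Ω_{K/k'} (exactness on the left and in the middle hold by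
construction), together with the resulting identity of ranks d(L/K, k''/k) = d(L/K, k''/k') + d(L/K,
k'/k). -/
theorem result {k : Type u} {k' : Type u'} {k'' : Type u''} {K L : Type w}
    [Field k] [Field k'] [Field k''] [Field K] [Field L]
    [Algebra k k'] [Algebra k k''] [Algebra k' k''] [IsScalarTower k k' k'']
    [Algebra k K] [Algebra k' K] [Algebra k'' K] [IsScalarTower k k' K] [IsScalarTower k' k'' K]
    [IsScalarTower k k'' K] [Algebra K L] [Algebra k L] [Algebra k' L] [Algebra k'' L]
    [IsScalarTower k K L] [IsScalarTower k' K L] [IsScalarTower k'' K L] :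
    (∀ w : L ⊗[K] Ω[K⁄k'], w ∈ EGA41.imperfection k' K L →
        (KaehlerDifferential.map k' k'' K K).baseChange L w = 0 →
          ∃ z : L ⊗[K] Ω[K⁄k], z ∈ EGA41.imperfection k K L ∧
            (KaehlerDifferential.map k k'' K K).baseChange L z = 0 ∧
              (KaehlerDifferential.map k k' K K).baseChange L z = w) ∧
      Module.rank L ↥(EGA41.imperfection k K L ⊓
            LinearMap.ker ((KaehlerDifferential.map k k'' K K).baseChange L)) =
        Module.rank L ↥(EGA41.imperfection k' K L ⊓
              LinearMap.ker ((KaehlerDifferential.map k' k'' K K).baseChange L)) +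
          Module.rank L ↥(EGA41.imperfection k K L ⊓
              LinearMap.ker ((KaehlerDifferential.map k k' K K).baseChange L)) := by
  haveI : IsScalarTower k k' L := IsScalarTower.of_algebraMap_eq fun x => by
    rw [IsScalarTower.algebraMap_apply k K L, IsScalarTower.algebraMap_apply k k' K,
      ← IsScalarTower.algebraMap_apply k' K L]
  set φ₁ := (KaehlerDifferential.map k k' K K).baseChange L
  set φ₂ := (KaehlerDifferential.map k' k'' K K).baseChange L
  set φ₃ := (KaehlerDifferential.map k k'' K K).baseChange L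
  have hcomp : ∀ z, φ₂ (φ₁ z) = φ₃ z := by
    intro z
    induction z using TensorProduct.induction_on with
    | zero => simp
    | add a b ha hb => simp only [map_add, ha, hb]
    | tmul l x => simp only [φ₁, φ₂, φ₃, LinearMap.baseChange_tmul, Groth.Agent.Lib.Imperf.map_map]
  have hmbc : ∀ z, KaehlerDifferential.mapBaseChange k' K L (φ₁ z) =
      KaehlerDifferential.map k k' L L (KaehlerDifferential.mapBaseChange k K L z) := by
    intro z
    induction z using TensorProduct.induction_on with
    | zero => simp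
    | add a b ha hb => simp only [map_add, ha, hb]
    | tmul l x =>
      simp only [φ₁, LinearMap.baseChange_tmul, KaehlerDifferential.mapBaseChange_tmul, map_smul]
      congr 1
      have hx : x ∈ Submodule.span K (Set.range (KaehlerDifferential.D k K)) := by
        rw [KaehlerDifferential.span_range_derivation]; trivial
      induction hx using Submodule.span_induction with
      | mem v hv =>
        obtain ⟨a, rfl⟩ := hv
        simp only [KaehlerDifferential.map_D, Algebra.algebraMap_self_apply]
      | zero => simp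
      | add p q _ _ hp hq => simp only [map_add, hp, hq]
      | smul c p _ hp => simp only [map_smul, ← algebraMap_smul L c, hp]
  have hsurj : Function.Surjective φ₁ :=
    LinearMap.lTensor_surjective L (KaehlerDifferential.map_surjective k k' K)
  have main : ∀ w : L ⊗[K] Ω[K⁄k'], w ∈ EGA41.imperfection k' K L → φ₂ w = 0 →
      ∃ z : L ⊗[K] Ω[K⁄k], z ∈ EGA41.imperfection k K L ∧ φ₃ z = 0 ∧ φ₁ z = w := by
    intro w hw hw2
    obtain ⟨z, rfl⟩ := hsurj w
    have h1 : KaehlerDifferential.mapBaseChange k K L z ∈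
        LinearMap.ker (KaehlerDifferential.map k k' L L) := by
      rw [LinearMap.mem_ker, ← hmbc]; exact LinearMap.mem_ker.1 hw
    have h2 : LinearMap.ker (KaehlerDifferential.map k k' L L) ≤
        (LinearMap.ker φ₁).map (KaehlerDifferential.mapBaseChange k K L) := by
      rw [Groth.Agent.Lib.Imperf.ker_map_eq_span, Submodule.span_le]
      rintro _ ⟨s, rfl⟩
      refine ⟨(1 : L) ⊗ₜ[K] KaehlerDifferential.D k K (algebraMap k' K s), ?_, ?_⟩
      · rw [show LinearMap.ker φ₁ = _ from Groth.Agent.Lib.Imperf.ker_map_baseChange L]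
        exact Submodule.subset_span ⟨s, rfl⟩
      · rw [KaehlerDifferential.mapBaseChange_tmul, one_smul, KaehlerDifferential.map_D,
          ← IsScalarTower.algebraMap_apply]
    obtain ⟨y, hy, hyz⟩ := h2 h1
    refine ⟨z - y, LinearMap.mem_ker.2 (by rw [map_sub, hyz, sub_self]), ?_, ?_⟩
    · rw [← hcomp, map_sub φ₁, LinearMap.mem_ker.1 hy, sub_zero, hw2]
    · rw [map_sub, LinearMap.mem_ker.1 hy, sub_zero]
  refine ⟨main, ?_⟩
  set P3 : Submodule L (L ⊗[K] Ω[K⁄k]) := EGA41.imperfection k K L ⊓ LinearMap.ker φ₃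
  set P2 : Submodule L (L ⊗[K] Ω[K⁄k']) := EGA41.imperfection k' K L ⊓ LinearMap.ker φ₂
  set P1 : Submodule L (L ⊗[K] Ω[K⁄k]) := EGA41.imperfection k K L ⊓ LinearMap.ker φ₁
  have hrange : P3.map φ₁ = P2 := by
    refine le_antisymm (Submodule.map_le_iff_le_comap.2 fun z hz => ?_) fun w hw => ?_
    · exact ⟨LinearMap.mem_ker.2 (by rw [hmbc, LinearMap.mem_ker.1 hz.1, map_zero]),
        LinearMap.mem_ker.2 (by rw [hcomp]; exact LinearMap.mem_ker.1 hz.2)⟩
    · obtain ⟨z, h1, h2, h3⟩ := main w hw.1 (LinearMap.mem_ker.1 hw.2)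
      exact ⟨z, ⟨h1, LinearMap.mem_ker.2 h2⟩, h3⟩
  letI : AddCommGroup (L ⊗[K] Ω[K⁄k']) := TensorProduct.addCommGroup
  letI : AddCommGroup (↥P3) := P3.addCommGroup
  have h := LinearMap.rank_range_add_rank_ker (R := L) (M := ↥P3) (M₁ := L ⊗[K] Ω[K⁄k']) (φ₁.domRestrict P3)
  have e1 : LinearMap.range (φ₁.domRestrict P3) = P2 := by
    rw [LinearMap.range_domRestrict, hrange]
  have e2 : (LinearMap.ker (φ₁.domRestrict P3)).map P3.subtype = P1 := by
    rw [LinearMap.ker_domRestrict, Submodule.map_comap_subtype]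
    ext z
    refine ⟨fun hz => ⟨hz.1.1, hz.2⟩, fun hz => ⟨⟨hz.1, LinearMap.mem_ker.2 ?_⟩, hz.2⟩⟩
    rw [← hcomp, LinearMap.mem_ker.1 hz.2, map_zero]
  rw [e1] at h
  rw [← h, ← e2, ((LinearMap.ker (φ₁.domRestrict P3)).equivMapOfInjective P3.subtype
    Subtype.val_injective).rank_eq]

end Groth.Agent.S5836
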