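import Groth.Statements.S5837
import Groth.Agent.Lib.Imperf.Rank
import Mathlib.LinearAlgebra.Dimension.Constructions
import Mathlib.RingTheory.TensorProduct.Free
-- import your own Groth.Agent.* helpers here

set_option autoImplicit false
universe u u' w
open scoped TensorProduct
open EGA41

namespace Groth.Agent.S5837

/-- Rank form. For fields k₀ ⊆ k ⊆ K ⊆ L ⊆ M, with Δ(F/E, k/k₀) = ker(Υ_{F/E/k₀} → Υ_{F/E/k}) and d its
rank, one has d(M/K, k/k₀) = d(M/L, k/k₀) + d(L/K, k/k₀) (cardinal ranks; the published statement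
gives the short exact sequence 0 → Δ(L/K, k/k₀) ⊗_L M → Δ(M/K, k/k₀) → Δ(M/L, k/k₀) → 0, of which
this row states the rank identity). -/
theorem result {k₀ : Type u} {k : Type u'} {K L M : Type w}
    [Field k₀] [Field k] [Field K] [Field L] [Field M] [Algebra k₀ k]
    [Algebra k₀ K] [Algebra k K] [IsScalarTower k₀ k K] [Algebra k₀ L] [Algebra k L] [IsScalarTower k₀ k L]
    [Algebra K L] [Algebra K M] [Algebra L M] [IsScalarTower K L M]
    [Algebra k₀ M] [Algebra k M] [IsScalarTower k₀ K L] [IsScalarTower k K L]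
    [IsScalarTower k₀ K M] [IsScalarTower k K M] [IsScalarTower k₀ L M] [IsScalarTower k L M] :
    Module.rank M ↥(EGA41.imperfection k₀ K M ⊓
          LinearMap.ker ((KaehlerDifferential.map k₀ k K K).baseChange M)) =
      Module.rank M ↥(EGA41.imperfection k₀ L M ⊓
            LinearMap.ker ((KaehlerDifferential.map k₀ k L L).baseChange M)) +
        Module.rank L ↥(EGA41.imperfection k₀ K L ⊓
            LinearMap.ker ((KaehlerDifferential.map k₀ k K K).baseChange L)) := by
  let cK := TensorProduct.AlgebraTensorModule.cancelBaseChange K L M M Ω[K⁄k₀]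
  let cK' := TensorProduct.AlgebraTensorModule.cancelBaseChange K L M M Ω[K⁄k]
  let μ0 := KaehlerDifferential.mapBaseChange k₀ K L
  let φ0 := (KaehlerDifferential.map k₀ k K K).baseChange L
  set φK := (KaehlerDifferential.map k₀ k K K).baseChange M
  set φL := (KaehlerDifferential.map k₀ k L L).baseChange M
  let ψ : M ⊗[K] Ω[K⁄k₀] →ₗ[M] M ⊗[L] Ω[L⁄k₀] := μ0.baseChange M ∘ₗ cK.symm.toLinearMap
  have hψ : ∀ (m : M) (x : Ω[K⁄k₀]),
      ψ (m ⊗ₜ x) = m ⊗ₜ[L] KaehlerDifferential.map k₀ k₀ K L x := fun m x => by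
    change μ0.baseChange M (cK.symm (m ⊗ₜ x)) = _
    rw [TensorProduct.AlgebraTensorModule.cancelBaseChange_symm_tmul, LinearMap.baseChange_tmul,
      KaehlerDifferential.mapBaseChange_tmul, one_smul]
  have hmbc : ∀ z, KaehlerDifferential.mapBaseChange k₀ L M (ψ z) =
      KaehlerDifferential.mapBaseChange k₀ K M z := by
    intro z
    induction z using TensorProduct.induction_on with
    | zero => simp
    | add a b ha hb => simp only [map_add, ha, hb]
    | tmul m x =>
      rw [hψ, KaehlerDifferential.mapBaseChange_tmul, KaehlerDifferential.mapBaseChange_tmul]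
      congr 1
      have hx : x ∈ Submodule.span K (Set.range (KaehlerDifferential.D k₀ K)) := by
        rw [KaehlerDifferential.span_range_derivation]; trivial
      induction hx using Submodule.span_induction with
      | mem v hv =>
        obtain ⟨a, rfl⟩ := hv
        rw [KaehlerDifferential.map_D, KaehlerDifferential.map_D, KaehlerDifferential.map_D,
          ← IsScalarTower.algebraMap_apply]
      | zero => simp
      | add p q _ _ hp hq => simp only [map_add, hp, hq]
      | smul c p _ hp => simp only [map_smul, LinearMap.map_smul_of_tower, hp]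
  have hspan : (LinearMap.ker φK).map ψ = LinearMap.ker φL := by
    rw [show LinearMap.ker φK = _ from Groth.Agent.Lib.Imperf.ker_map_baseChange M,
      show LinearMap.ker φL = _ from Groth.Agent.Lib.Imperf.ker_map_baseChange M,
      Submodule.map_span, ← Set.range_comp]
    congr 1
    refine congrArg _ (funext fun s => ?_)
    rw [Function.comp_apply, hψ, KaehlerDifferential.map_D, ← IsScalarTower.algebraMap_apply]
  set P3 : Submodule M (M ⊗[K] Ω[K⁄k₀]) := EGA41.imperfection k₀ K M ⊓ LinearMap.ker φK
  set P2 : Submodule M (M ⊗[L] Ω[L⁄k₀]) := EGA41.imperfection k₀ L M ⊓ LinearMap.ker φL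
  set P0 : Submodule L (L ⊗[K] Ω[K⁄k₀]) := EGA41.imperfection k₀ K L ⊓ LinearMap.ker φ0
  have hrange : P3.map ψ = P2 := by
    refine le_antisymm (Submodule.map_le_iff_le_comap.2 fun z hz => ?_) fun w hw => ?_
    · exact ⟨LinearMap.mem_ker.2 ((hmbc z).trans (LinearMap.mem_ker.1 hz.1)),
        hspan ▸ Submodule.mem_map_of_mem hz.2⟩
    · obtain ⟨z, hz, rfl⟩ := hspan.ge hw.2
      exact ⟨z, ⟨LinearMap.mem_ker.2 ((hmbc z).symm.trans (LinearMap.mem_ker.1 hw.1)), hz⟩, rfl⟩
  have hφ : ∀ y, φK (cK y) = cK' (φ0.baseChange M y) := by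
    intro y
    induction y using TensorProduct.induction_on with
    | zero => simp
    | add a b ha hb => simp only [map_add, ha, hb]
    | tmul m v =>
      induction v using TensorProduct.induction_on with
      | zero => simp
      | add a b ha hb => simp only [TensorProduct.tmul_add, map_add, ha, hb]
      | tmul l x =>
        simp only [φK, φ0, cK, cK', TensorProduct.AlgebraTensorModule.cancelBaseChange_tmul,
          LinearMap.baseChange_tmul]
  let χ : L ⊗[K] Ω[K⁄k₀] →ₗ[L] Ω[L⁄k₀] × (L ⊗[K] Ω[K⁄k]) := μ0.prod φ0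
  have hχ : LinearMap.ker χ = P0 := LinearMap.ker_prod μ0 φ0
  have hex : Function.Exact (P0.subtype.baseChange M) (χ.baseChange M) :=
    Groth.Agent.Lib.Imperf.exact_baseChange χ P0 hχ
  let ι : M ⊗[L] P0 →ₗ[M] M ⊗[K] Ω[K⁄k₀] := cK.toLinearMap ∘ₗ P0.subtype.baseChange M
  have hι : Function.Injective ι :=
    cK.injective.comp (Module.Flat.lTensor_preserves_injective_linearMap _ Subtype.val_injective)
  have hιr : LinearMap.range ι = P3 ⊓ LinearMap.ker ψ := by
    have hmem : ∀ y, χ.baseChange M y = 0 ↔ μ0.baseChange M y = 0 ∧ φ0.baseChange M y = 0 := by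
      intro y
      have h1 : μ0 = LinearMap.fst L _ _ ∘ₗ χ := rfl
      have h2 : φ0 = LinearMap.snd L _ _ ∘ₗ χ := rfl
      have h3 : χ = LinearMap.inl L _ _ ∘ₗ μ0 + LinearMap.inr L _ _ ∘ₗ φ0 := by
        refine LinearMap.ext fun v => ?_
        simp [χ]
      constructor
      · intro h
        constructor
        · rw [h1, LinearMap.baseChange_comp, LinearMap.comp_apply, h, map_zero]
        · rw [h2, LinearMap.baseChange_comp, LinearMap.comp_apply, h, map_zero]
      · rintro ⟨ha, hb⟩
        rw [h3, LinearMap.baseChange_add, LinearMap.add_apply, LinearMap.baseChange_comp,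
          LinearMap.baseChange_comp, LinearMap.comp_apply, LinearMap.comp_apply, ha, hb, map_zero,
          map_zero, add_zero]
    ext z
    obtain ⟨y, rfl⟩ := cK.surjective z
    rw [LinearMap.range_comp]
    constructor
    · rintro ⟨y', hy', he⟩
      obtain rfl : y' = y := cK.injective he
      obtain ⟨ha, hb⟩ := (hmem y').1 ((hex y').2 hy')
      have hψ0 : ψ (cK y') = 0 := by
        change μ0.baseChange M (cK.symm (cK y')) = 0
        rw [LinearEquiv.symm_apply_apply, ha]
      exact ⟨⟨LinearMap.mem_ker.2 (by rw [← hmbc, hψ0, map_zero]),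
        LinearMap.mem_ker.2 (by rw [hφ, hb, map_zero])⟩, hψ0⟩
    · rintro ⟨⟨-, hb⟩, ha⟩
      refine ⟨y, (hex y).1 ((hmem y).2 ⟨?_, ?_⟩), rfl⟩
      · have ha' : μ0.baseChange M (cK.symm (cK y)) = 0 := LinearMap.mem_ker.1 ha
        rwa [LinearEquiv.symm_apply_apply] at ha'
      · have hb' := LinearMap.mem_ker.1 hb
        rw [hφ, LinearEquiv.map_eq_zero_iff] at hb'
        exact hb'
  letI : AddCommGroup ↥P0 := P0.addCommGroup
  haveI : Module.Free L ↥P0 := Module.Free.of_divisionRing L ↥P0
  have h := LinearMap.rank_range_add_rank_ker (R := M) (M := ↥P3) (M₁ := M ⊗[L] Ω[L⁄k₀])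
    (ψ.domRestrict P3)
  have e2 : (LinearMap.ker (ψ.domRestrict P3)).map P3.subtype = LinearMap.range ι := by
    rw [LinearMap.ker_domRestrict, Submodule.map_comap_subtype, hιr]
  rw [show LinearMap.range (ψ.domRestrict P3) = P2 by rw [LinearMap.range_domRestrict, hrange],
    ((LinearMap.ker (ψ.domRestrict P3)).equivMapOfInjective P3.subtype
      Subtype.val_injective).rank_eq, e2, rank_range_of_injective ι hι, Module.rank_baseChange,
    Cardinal.lift_id] at h
  exact h.symm

end Groth.Agent.S5837
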