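import Groth.Statements.S5840
import Groth.Agent.H18.ZClos.Support
import Groth.Agent.Lib.DerivedOX.Grothendieck
import Groth.Agent.Lib.Modules.Local

set_option autoImplicit false
universe u
open ZClos

open Groth.Agent.H18.ZClos
open Groth.Agent.Lib.QCoh.Localizing (res res_res res_self res_app)

namespace Groth.Agent.S5840

open CategoryTheory CategoryTheory.Limits AlgebraicGeometry in
/-- For a locally Noetherian scheme X and a subset Z of X stable under specialization, the Z-closure
functor F ↦ H⁰_{X/Z}(F) on O_X-modules (the filtered colimit, over the closed subsets T of X inside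
Z, of the direct images of the restrictions of F to X ∖ T) is left exact: it preserves finite
limits. -/
theorem result (X : Scheme.{u}) [IsLocallyNoetherian X] (Z : Set X)
    (hZ : StableUnderSpecialization Z) : PreservesFiniteLimits (ZClos.H0 Z) := by
  haveI : ∀ T : ZClos.Cl Z, PreservesFiniteLimits (ZClos.resPush T.U) := fun T => by
    haveI : PreservesFiniteLimits (Scheme.Modules.restrictFunctor T.U.ι) := Groth.Agent.Lib.Modules.Local.restrictFunctor_preservesFiniteLimits _
    exact comp_preservesFiniteLimits _ _
  haveI : PreservesFiniteLimits (ZClos.diagram Z) := ⟨fun J _ _ =>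
    preservesLimitsOfShape_of_evaluation _ _ fun T => by
      change PreservesLimitsOfShape J (ZClos.resPush T.U)
      infer_instance⟩
  exact comp_preservesFiniteLimits (ZClos.diagram Z) colim

end Groth.Agent.S5840
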