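import Groth.Statements.S5841
import Groth.Agent.H18.ZClos.Support
import Groth.Agent.Lib.QCoh.Pushforward

set_option autoImplicit false
universe u
open ZClos

open Groth.Agent.H18.ZClos
open Groth.Agent.Lib.QCoh.Localizing (res res_res res_self res_app)

namespace Groth.Agent.S5841

open CategoryTheory CategoryTheory.Limits AlgebraicGeometry in
/-- For a locally Noetherian scheme X, a subset Z of X stable under specialization and a quasi-coherent
O_X-module F, the Z-closure H⁰_{X/Z}(F) is quasi-coherent. -/
theorem result (X : Scheme.{u}) [IsLocallyNoetherian X] (Z : Set X)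
    (hZ : StableUnderSpecialization Z) (F : X.Modules) (hF : Coh.IsQCoh F) :
    Coh.IsQCoh ((ZClos.H0 Z).obj F) := by
  haveI : F.IsQuasicoherent := hF
  have h : ∀ U : X.Opens, ((Scheme.Modules.pushforward U.ι).obj
      ((Scheme.Modules.restrictFunctor U.ι).obj F)).IsQuasicoherent := fun U => by
    haveI : ((Scheme.Modules.restrictFunctor U.ι).obj F).IsQuasicoherent := inferInstance
    exact Groth.Agent.Lib.QCoh.Pushforward.isQCoh_pushforward U.ι
  exact Groth.Agent.Lib.QCoh.Closure.isQCoh_colimit ((ZClos.diagram Z).obj F) fun T => h T.U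

end Groth.Agent.S5841
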