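import Groth.Statements.S5846
import Groth.Agent.H18.ZClos.Support

set_option autoImplicit false
universe u
open ZClos

open Groth.Agent.H18.ZClos
open Groth.Agent.Lib.QCoh.Localizing (res res_res res_self res_app)

namespace Groth.Agent.S5846

open CategoryTheory CategoryTheory.Limits AlgebraicGeometry in
/-- For a locally Noetherian scheme X, a subset Z of X stable under specialization, an O_X-module F and
an open covering (V_i) of X, F is Z-pure if and only if, for every i, the restriction of F to the
open subscheme V_i is (Z ∩ V_i)-pure. -/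
theorem result (X : Scheme.{u}) [IsLocallyNoetherian X] (Z : Set X)
    (hZ : StableUnderSpecialization Z) (F : X.Modules) {ι : Type u} (V : ι → X.Opens) (hV : iSup V = ⊤) :
    ZClos.IsZPure Z F ↔
      ∀ i, ZClos.IsZPure ((V i).ι.base ⁻¹' Z) ((Scheme.Modules.restrictFunctor (V i).ι).obj F) := by
  constructor
  · exact fun h i => isZPure_iff.2 fun W => (pureOn_restrict_iff (V i) hZ F W).2 (isZPure_iff.1 h _)
  · intro h
    refine isZPure_of_nhd fun x W₀ hx => ?_
    obtain ⟨i, hi⟩ := TopologicalSpace.Opens.mem_iSup.1 (hV.ge trivial : x ∈ iSup V)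
    refine ⟨(V i).ι ''ᵁ (V i).ι ⁻¹ᵁ W₀, ⟨⟨x, hi⟩, hx, rfl⟩, Scheme.Hom.image_preimage_le _ _, ?_⟩
    exact (pureOn_restrict_iff (V i) hZ F _).1 (isZPure_iff.1 (h i) _)

end Groth.Agent.S5846
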