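import Groth.Statements.S5850
import Groth.Agent.H18.ZClos.Criteria

set_option autoImplicit false
universe u
open ZClos

open Groth.Agent.H18.ZClos
open Groth.Agent.Lib.QCoh.Localizing (res res_res res_self res_app)

namespace Groth.Agent.S5850

open CategoryTheory CategoryTheory.Limits AlgebraicGeometry in
/-- For a locally Noetherian scheme X, a subset Z of X stable under specialization and an arbitrary
O_X-module F, the Z-closure H⁰_{X/Z}(F) is itself Z-closed. -/
theorem result (X : Scheme.{u}) [IsLocallyNoetherian X] (Z : Set X)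
    (hZ : StableUnderSpecialization Z) (F : X.Modules) :
    ZClos.IsZClosed Z ((ZClos.H0 Z).obj F) := by
  refine isZClosed_of_nhd fun x V₀ hx => ?_
  obtain ⟨V, hV, hxV, hle⟩ := exists_isCompact_nhd hx
  refine ⟨V, hxV, hle, fun T => ⟨(injective_iff_map_eq_zero _).2 fun σ hσ => ?_, fun τ => ?_⟩⟩
  · obtain ⟨T₁, s, rfl⟩ := exists_rep hV σ
    rw [ιsec_res] at hσ
    obtain ⟨T₂, hT₂, h0⟩ := ιsec_eq_zero (isCompact_of_le hV inf_le_left) _ hσ
    have hle₂ : T₁ ≤ T₂ ⊔ T := hT₂.trans le_sup_left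
    rw [← ιsec_mono hle₂ V s]
    have hzero : res F (inf_U_anti Z hle₂ (le_refl V)) s = 0 := by
      have hz : V ⊓ (T₂ ⊔ T).U ≤ (V ⊓ T.U) ⊓ T₂.U :=
        le_inf (inf_le_inf le_rfl (ZClos.Cl.U_anti le_sup_right))
          (inf_le_right.trans (ZClos.Cl.U_anti le_sup_left))
      have := congrArg (res F hz) h0
      simpa only [res_res, map_zero] using this
    rw [hzero, map_zero]
  · obtain ⟨T₁, s, rfl⟩ := exists_rep (isCompact_of_le hV (inf_le_left : V ⊓ T.U ≤ V)) τ
    have hz : V ⊓ (T₁ ⊔ T).U ≤ (V ⊓ T.U) ⊓ T₁.U :=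
      le_inf (inf_le_inf le_rfl (ZClos.Cl.U_anti le_sup_right))
        (inf_le_right.trans (ZClos.Cl.U_anti le_sup_left))
    refine ⟨ιsec Z F (T₁ ⊔ T) V (res F hz s), ?_⟩
    rw [ιsec_res, res_res, ← ιsec_mono (le_sup_left : T₁ ≤ T₁ ⊔ T)]

end Groth.Agent.S5850
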