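import Groth.Statements.S5851
import Groth.Agent.H18.ZClos.Criteria

set_option autoImplicit false
universe u
open ZClos

open Groth.Agent.H18.ZClos
open Groth.Agent.Lib.QCoh.Localizing (res res_res res_self res_app)

namespace Groth.Agent.S5851

open CategoryTheory CategoryTheory.Limits AlgebraicGeometry in
/-- For a locally Noetherian scheme X, a subset Z of X stable under specialization, O_X-modules F and F'
with F' Z-closed, and a homomorphism u : F → F', there is exactly one homomorphism v : H⁰_{X/Z}(F) →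
F' with u = v ∘ ρ_{X/Z}. -/
theorem result (X : Scheme.{u}) [IsLocallyNoetherian X] (Z : Set X)
    (hZ : StableUnderSpecialization Z) (F F' : X.Modules) (hF' : ZClos.IsZClosed Z F') (u : F ⟶ F') :
    ∃! v : (ZClos.H0 Z).obj F ⟶ F', ZClos.rhoApp Z F ≫ v = u := by
  have hiso : ∀ T : ZClos.Cl Z, IsIso (ZClos.toDiagram Z F' T) := fun T =>
    (Groth.Agent.Lib.Modules.Stalk.isIso_iff_app_bijective _).2 fun V =>
      bijective_res_img.2 (isZClosed_iff.1 hF' V T)
  let c : Cocone ((ZClos.diagram Z).obj F) :=
    { pt := F'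
      ι :=
        { app := fun T => ((ZClos.diagram Z).map u).app T ≫ (haveI := hiso T; inv (ZClos.toDiagram Z F' T))
          naturality := fun T T' f => by
            haveI := hiso T
            haveI := hiso T'
            simp only [Functor.const_obj_map, Category.comp_id, Functor.const_obj_obj]
            rw [← Category.assoc, ((ZClos.diagram Z).map u).naturality f, Category.assoc]
            congr 1
            rw [IsIso.comp_inv_eq, ← ZClos.toDiagram_map Z F' f, IsIso.inv_hom_id_assoc] } }
  refine ⟨colimit.desc _ c, ?_, fun v hv => colimit.hom_ext fun T => ?_⟩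
  · change ZClos.rhoApp Z F ≫ colimit.desc _ c = u
    haveI := hiso ⊥
    rw [ZClos.rhoApp_eq Z F ⊥]
    refine (Category.assoc _ _ _).trans ?_
    refine (congrArg (ZClos.toDiagram Z F ⊥ ≫ ·) (colimit.ι_desc c ⊥)).trans ?_
    change ZClos.toDiagram Z F ⊥ ≫ ((ZClos.diagram Z).map u).app ⊥ ≫ inv (ZClos.toDiagram Z F' ⊥) = u
    rw [← Category.assoc, ← ZClos.toDiagram_naturality Z u ⊥, Category.assoc, IsIso.hom_inv_id,
      Category.comp_id]
  · rw [colimit.ι_desc]
    ext V s
    obtain ⟨W, rfl⟩ : ∃ s' : Γ(F, V ⊓ T.U), res F (img_le T.U V) s' = s := by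
      have key : ∀ s₀ : Γ(F, T.U.ι ''ᵁ T.U.ι ⁻¹ᵁ V), ∃ s', res F (img_le T.U V) s' = s₀ := fun s₀ =>
        ⟨res F (le_img T.U V) s₀, by rw [res_res, res_self]⟩
      exact key s
    change v.app V (ιsec Z F T V W) = _
    haveI := hiso T
    refine ((Groth.Agent.Lib.Modules.Stalk.isIso_iff_app_bijective _).1 (hiso T) V).1 ?_
    change _ = (ZClos.toDiagram Z F' T).app V (((inv (ZClos.toDiagram Z F' T))).app V
      ((((ZClos.diagram Z).map u).app T).app V (res F (img_le T.U V) W)))
    have einv : ∀ y : Γ(((ZClos.diagram Z).obj F').obj T, V),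
        (ZClos.toDiagram Z F' T).app V ((inv (ZClos.toDiagram Z F' T)).app V y) = y := fun y => by
      rw [← ConcreteCategory.comp_apply, ← Scheme.Modules.Hom.comp_app, IsIso.inv_hom_id]
      rfl
    refine Eq.trans ?_ (einv _).symm
    change res F' (Scheme.Hom.image_preimage_le _ V) (v.app V (ιsec Z F T V W)) =
      u.app _ (res F (img_le T.U V) W)
    rw [← res_res (inf_le_left : V ⊓ T.U ≤ V) (img_le T.U V), res_app, ← res_app u]
    congr 1
    rw [ιsec_res]
    refine Eq.trans (congrArg (v.app (V ⊓ T.U)) ?_) (congrArg (fun w => Scheme.Modules.Hom.app w (V ⊓ T.U) W) hv)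
    change _ = (ZClos.rhoApp Z F).app (V ⊓ T.U) W
    rw [rho_ιsec T]

end Groth.Agent.S5851
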