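import Groth.Statements.S5852
import Groth.Agent.H18.ZClos.Support

set_option autoImplicit false
universe u
open ZClos

open Groth.Agent.H18.ZClos
open Groth.Agent.Lib.QCoh.Localizing (res res_res res_self res_app)

namespace Groth.Agent.S5852

open CategoryTheory CategoryTheory.Limits AlgebraicGeometry in
/-- For a locally Noetherian scheme X, a subset Z of X stable under specialization, O_X-modules F and F'
with F' Z-closed, and a homomorphism u : F → F' whose kernel and cokernel have support inside Z (the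
map induced by u on stalks is bijective at every point outside Z): the homomorphism v : H⁰_{X/Z}(F)
→ F' with u = v ∘ ρ_{X/Z} is an isomorphism. -/
theorem result (X : Scheme.{u}) [IsLocallyNoetherian X] (Z : Set X)
    (hZ : StableUnderSpecialization Z) (F F' : X.Modules) (hF' : ZClos.IsZClosed Z F') (u : F ⟶ F')
    (hu : ∀ x : X, x ∉ Z →
      Function.Bijective ((TopCat.Presheaf.stalkFunctor (C := Ab.{u}) x).map u.mapPresheaf))
    (v : (ZClos.H0 Z).obj F ⟶ F') (hv : ZClos.rhoApp Z F ≫ v = u) : IsIso v := by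
  have hF'' := isZClosed_iff.1 hF'
  have hvι : ∀ (T : ZClos.Cl Z) (V : X.Opens) (s : Γ(F, V ⊓ T.U)),
      res F' (inf_le_left : V ⊓ T.U ≤ V) (v.app V (ιsec Z F T V s)) = u.app (V ⊓ T.U) s := by
    intro T V s
    refine (res_app v inf_le_left _).trans ?_
    rw [ιsec_res]
    refine Eq.trans (congrArg (v.app (V ⊓ T.U)) ?_)
      (congrArg (fun w => Scheme.Modules.Hom.app w (V ⊓ T.U) s) hv)
    change _ = (ZClos.rhoApp Z F).app (V ⊓ T.U) s
    rw [rho_ιsec T]
  refine (Groth.Agent.Lib.Modules.Stalk.isIso_iff_stalk_bijective v).2 fun x =>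
    ⟨(injective_iff_map_eq_zero ((Groth.Agent.Lib.Modules.Stalk.stalkFunctor X x).map v).hom).2 fun z hz => ?_,
      fun z => ?_⟩
  · obtain ⟨T, V, hxV, s, rfl⟩ := exists_germ x z
    have hz' : F'.presheaf.germ V x hxV (v.app V (ιsec Z F T V s)) = 0 :=
      (Groth.Agent.Lib.Modules.Stalk.stalkFunctor_map_germ x v hxV _).symm.trans hz
    obtain ⟨W, hWV, hxW, h0⟩ := exists_nhd_of_germ_eq_zero hxV hz'
    set s' := res F (inf_le_inf hWV le_rfl : W ⊓ T.U ≤ V ⊓ T.U) s with hs'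
    have hus : u.app (W ⊓ T.U) s' = 0 := by
      rw [hs', ← res_app u, ← hvι T V s, res_res,
        ← res_res hWV (inf_le_left : W ⊓ T.U ≤ W), h0, map_zero]
    obtain ⟨T', hT'⟩ := exists_res_eq_zero hZ s' fun y hy hyZ => by
      refine (hu y hyZ).1 ?_
      refine (Groth.Agent.Lib.Modules.Stalk.stalkFunctor_map_germ y u hy s').trans ?_
      exact (congrArg (fun w => F'.presheaf.germ (W ⊓ T.U) y hy w) hus).trans ((map_zero _).trans (map_zero _).symm)
    refine (germ_eq_zero hxV s).2 ⟨T ⊔ T', le_sup_left, W, hxW, hWV, ?_⟩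
    have hz : W ⊓ (T ⊔ T').U ≤ (W ⊓ T.U) ⊓ T'.U :=
      le_inf (inf_le_inf le_rfl (ZClos.Cl.U_anti le_sup_left))
        (inf_le_right.trans (ZClos.Cl.U_anti le_sup_right))
    have := congrArg (res F hz) hT'
    rw [hs'] at this
    simpa only [res_res, map_zero] using this
  · obtain ⟨V₀, hx₀, t₀, rfl⟩ := TopCat.Presheaf.exists_germ_eq F'.presheaf z
    obtain ⟨V, hV, hxV, hle⟩ := exists_isCompact_nhd hx₀
    rw [← germ_res hle hxV t₀]
    set t := res F' hle t₀ with ht₀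
    clear_value t
    clear ht₀
    -- the locus where `t` lifts
    let L := {p : (W : X.Opens) × Γ(F, W) // ∃ hW : p.1 ≤ V, u.app p.1 p.2 = res F' hW t}
    have hLc : ∀ y ∈ V, y ∉ Z → ∃ p : L, y ∈ p.1.1 := by
      intro y hy hyZ
      obtain ⟨w, hw⟩ := (hu y hyZ).2 (F'.presheaf.germ V y hy t)
      obtain ⟨W, hyW, s, rfl⟩ := TopCat.Presheaf.exists_germ_eq F.presheaf w
      have hw' : F'.presheaf.germ W y hyW (u.app W s) = F'.presheaf.germ V y hy t :=
        (Groth.Agent.Lib.Modules.Stalk.stalkFunctor_map_germ y u hyW s).symm.trans hw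
      obtain ⟨W', hyW', i₁, i₂, e⟩ := TopCat.Presheaf.germ_eq _ y hyW hy _ _ hw'
      refine ⟨⟨⟨W', res F i₁.le s⟩, i₂.le, ?_⟩, hyW'⟩
      rw [← res_app u]
      exact e
    let O : X.Opens := ⨆ p : L, p.1.1
    have hOV : O ≤ V := iSup_le fun p => p.2.1
    have hOc := isCompact_of_le hV hOV
    obtain ⟨J, hJ⟩ := hOc.elim_finite_subcover (fun p : L => (p.1.1 : Set X)) (fun p => p.1.1.2)
      (fun y hy => Set.mem_iUnion.2 (TopologicalSpace.Opens.mem_iSup.1 hy))
    have hC : (O : Set X)ᶜ ∩ V ⊆ Z := fun y hy => by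
      by_contra hyZ
      obtain ⟨p, hp⟩ := hLc y hy.2 hyZ
      exact hy.1 (TopologicalSpace.Opens.mem_iSup.2 ⟨p, hp⟩)
    -- lifts agree off members of the index
    have hag : ∀ pq : J × J, ∃ T' : ZClos.Cl Z,
        res F (inf_le_left.trans inf_le_left : (pq.1.1.1.1 ⊓ pq.2.1.1.1) ⊓ T'.U ≤ pq.1.1.1.1) pq.1.1.1.2 =
        res F (inf_le_left.trans inf_le_right : (pq.1.1.1.1 ⊓ pq.2.1.1.1) ⊓ T'.U ≤ pq.2.1.1.1) pq.2.1.1.2 := by
      intro pq
      obtain ⟨hp, ep⟩ := pq.1.1.2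
      obtain ⟨hq, eq'⟩ := pq.2.1.2
      obtain ⟨T', h0⟩ := exists_res_eq_zero hZ (G := F) (V := pq.1.1.1.1 ⊓ pq.2.1.1.1)
        (res F inf_le_left pq.1.1.1.2 - res F inf_le_right pq.2.1.1.2) fun y hy hyZ => by
          refine (hu y hyZ).1 ?_
          refine (Groth.Agent.Lib.Modules.Stalk.stalkFunctor_map_germ y u hy _).trans ?_
          rw [map_sub, ← res_app u, ← res_app u, ep, eq', res_res, res_res, sub_self]
          exact (map_zero _).trans (map_zero _).symm
      refine ⟨T', ?_⟩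
      simp only [map_sub, res_res, sub_eq_zero] at h0
      exact h0
    choose T' hT' using hag
    let T := clOf hZ O.2.isClosed_compl V hC ⊔ Finset.univ.sup T'
    have hTU : V ⊓ T.U ≤ O := fun y hy => not_not.1
      (clOf_inf_U hZ O.2.isClosed_compl V hC ⟨hy.1, ZClos.Cl.U_anti le_sup_left hy.2⟩)
    obtain ⟨s, hs, -⟩ := TopCat.Sheaf.existsUnique_gluing' (⟨F.presheaf, F.isSheaf⟩ : TopCat.Sheaf AddCommGrpCat.{u} X)
      (fun p : J => p.1.1.1 ⊓ T.U) (V ⊓ T.U) (fun p => homOfLE (inf_le_inf p.1.2.1 le_rfl))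
      (fun y hy => by
        obtain ⟨p, hpJ, hyp⟩ := Set.mem_iUnion₂.1 (hJ (hTU hy))
        exact TopologicalSpace.Opens.mem_iSup.2 ⟨⟨p, hpJ⟩, hyp, hy.2⟩)
      (fun p => res F inf_le_left p.1.1.2) (fun p q => by
        change res F inf_le_left (res F inf_le_left p.1.1.2) = res F inf_le_right (res F inf_le_left q.1.1.2)
        rw [res_res, res_res]
        have hz : (p.1.1.1 ⊓ T.U) ⊓ (q.1.1.1 ⊓ T.U) ≤ (p.1.1.1 ⊓ q.1.1.1) ⊓ (T' (p, q)).U :=
          le_inf (inf_le_inf inf_le_left inf_le_left) (inf_le_left.trans (inf_le_right.trans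
            (ZClos.Cl.U_anti ((Finset.le_sup (Finset.mem_univ (p, q))).trans le_sup_right))))
        have := congrArg (res F hz) (hT' (p, q))
        simpa only [res_res] using this)
    refine ⟨((ZClos.H0 Z).obj F).presheaf.germ V x hxV (ιsec Z F T V s), ?_⟩
    refine (Groth.Agent.Lib.Modules.Stalk.stalkFunctor_map_germ x v hxV _).trans ?_
    refine congrArg (fun w => F'.presheaf.germ V x hxV w) ((hF'' V T).1 ?_)
    rw [hvι]
    refine TopCat.Sheaf.eq_of_locally_eq' (⟨F'.presheaf, F'.isSheaf⟩ : TopCat.Sheaf AddCommGrpCat.{u} X)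
      (fun p : J => p.1.1.1 ⊓ T.U) (V ⊓ T.U) (fun p => homOfLE (inf_le_inf p.1.2.1 le_rfl))
      (fun y hy => by
        obtain ⟨p, hpJ, hyp⟩ := Set.mem_iUnion₂.1 (hJ (hTU hy))
        exact TopologicalSpace.Opens.mem_iSup.2 ⟨⟨p, hpJ⟩, hyp, hy.2⟩) _ _ fun p => ?_
    change res F' (inf_le_inf p.1.2.1 le_rfl) (u.app (V ⊓ T.U) s) =
      res F' (inf_le_inf p.1.2.1 le_rfl) (res F' inf_le_left t)
    have hsp : res F (inf_le_inf p.1.2.1 le_rfl) s = res F inf_le_left p.1.1.2 := hs p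
    rw [res_app u, hsp, ← res_app u]
    exact (congrArg (res F' inf_le_left) p.1.2.2).trans ((res_res _ _ t).trans (res_res _ _ t).symm)

end Groth.Agent.S5852
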