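import Groth.Statements.S5854
import Groth.Agent.H18.ZClos.BaseChange
import Groth.Agent.Lib.Cyc.FP.Stalk
import Mathlib.LinearAlgebra.TensorProduct.Pi
import Mathlib.RingTheory.Flat.FaithfullyFlat.Algebra
import Mathlib.RingTheory.Spectrum.Prime.Topology

set_option autoImplicit false
universe u
open ZClos

namespace Groth.Agent.S5854

open CategoryTheory AlgebraicGeometry TensorProduct

/-- Finiteness descends along a finite jointly surjective flat family. -/
theorem finite_of_cover {A : Type u} [CommRing A] {ι : Type u} [Fintype ι] [DecidableEq ι] (S : ι → Type u)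
    [∀ j, CommRing (S j)] [∀ j, Algebra A (S j)] [∀ j, Module.Flat A (S j)]
    (hsurj : ∀ p : PrimeSpectrum A, ∃ j q, PrimeSpectrum.comap (algebraMap A (S j)) q = p)
    (N : Type u) [AddCommGroup N] [Module A N] (h : ∀ j, Module.Finite (S j) (S j ⊗[A] N)) :
    Module.Finite A N := by
  classical
  haveI : Module.Flat A (∀ j, S j) :=
    Module.Flat.of_linearEquiv (DFinsupp.linearEquivFunOnFintype (R := A) (M := S)).symm
  haveI : Module.FaithfullyFlat A (∀ j, S j) := by
    refine Module.FaithfullyFlat.of_comap_surjective (fun p => ?_)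
    obtain ⟨j, q, hq⟩ := hsurj p
    exact ⟨PrimeSpectrum.comap (Pi.evalRingHom S j) q, hq⟩
  have hs : ∀ j, ∃ H : Submodule A N, H.FG ∧
      Submodule.span (S j) ((TensorProduct.mk A (S j) N 1) '' (H : Set N)) = ⊤ := fun j => by
    haveI := h j
    have hfg : (Submodule.span (S j) (Set.range (TensorProduct.mk A (S j) N 1))).FG := by
      rw [show Submodule.span (S j) (Set.range (TensorProduct.mk A (S j) N 1)) = ⊤ from ?_]
      · exact Module.Finite.fg_top
      refine top_unique fun z _ => ?_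
      induction z using TensorProduct.induction_on with
      | zero => exact zero_mem _
      | tmul s m =>
        rw [show s ⊗ₜ[A] m = s • ((1 : S j) ⊗ₜ[A] m) by rw [smul_tmul', smul_eq_mul, mul_one]]
        exact Submodule.smul_mem _ _ (Submodule.subset_span ⟨m, rfl⟩)
      | add a b ha hb => exact add_mem (ha trivial) (hb trivial)
    obtain ⟨s, hs, e⟩ := (Submodule.fg_span_iff_fg_span_finset_subset _).1 hfg
    choose g hg using fun z : s => hs z.2
    refine ⟨Submodule.span A (Set.range g), Submodule.fg_span (Set.finite_range g), top_unique ?_⟩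
    intro z _
    have hz : z ∈ Submodule.span (S j) (Set.range (TensorProduct.mk A (S j) N 1)) := by
      induction z using TensorProduct.induction_on with
      | zero => exact zero_mem _
      | tmul s m =>
        rw [show s ⊗ₜ[A] m = s • ((1 : S j) ⊗ₜ[A] m) by rw [smul_tmul', smul_eq_mul, mul_one]]
        exact Submodule.smul_mem _ _ (Submodule.subset_span ⟨m, rfl⟩)
      | add a b ha hb => exact add_mem (ha trivial) (hb trivial)
    rw [e] at hz
    refine Submodule.span_mono ?_ hz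
    intro w hw
    exact ⟨g ⟨w, hw⟩, Submodule.subset_span ⟨_, rfl⟩, hg ⟨w, hw⟩⟩
  choose H hH hspan using hs
  have hfg : (⨆ j, H j).FG := Submodule.fg_iSup H hH
  refine ⟨?_⟩
  suffices e : (⨆ j, H j) = ⊤ by rw [← e]; exact hfg
  suffices Subsingleton (N ⧸ ⨆ j, H j) from Submodule.Quotient.subsingleton_iff.1 this
  have hj : ∀ j, Subsingleton (S j ⊗[A] (N ⧸ ⨆ j, H j)) := fun j => by
    let φ := LinearMap.baseChange (S j) (⨆ j, H j).mkQ
    have hφ : φ = 0 := by
      refine LinearMap.ext_on (hspan j) ?_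
      rintro _ ⟨m, hm, rfl⟩
      show (1 : S j) ⊗ₜ[A] ((⨆ j, H j).mkQ m) = 0
      rw [Submodule.mkQ_apply, (Submodule.Quotient.mk_eq_zero _).2 (le_iSup H j hm), tmul_zero]
    refine subsingleton_of_forall_eq 0 fun z => ?_
    obtain ⟨w, rfl⟩ := LinearMap.lTensor_surjective (S j) (Submodule.mkQ_surjective (⨆ j, H j)) z
    exact LinearMap.congr_fun hφ w
  haveI : Subsingleton ((∀ j, S j) ⊗[A] (N ⧸ ⨆ j, H j)) := by
    haveI : ∀ j, Subsingleton ((N ⧸ ⨆ j, H j) ⊗[A] S j) := fun j =>
      haveI := hj j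
      (TensorProduct.comm A (N ⧸ ⨆ j, H j) (S j)).toEquiv.subsingleton
    exact ((TensorProduct.comm A (∀ j, S j) (N ⧸ ⨆ j, H j)).trans
      (TensorProduct.piRight A A (N ⧸ ⨆ j, H j) S)).toEquiv.subsingleton
  exact Module.FaithfullyFlat.lTensor_reflects_triviality A (∀ j, S j) _

/-- A quasi-coherent module is coherent if its inverse image along a faithfully flat quasi-compact
morphism is. -/
theorem isCoh_of_pullback {X X' : Scheme.{u}} (f : X' ⟶ X) [Flat f] [Surjective f] [QuasiCompact f]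
    {N : X.Modules} [N.IsQuasicoherent] (hN : Coh.IsCoh ((Scheme.Modules.pullback f).obj N)) :
    Coh.IsCoh N := by
  classical
  refine Lib.CohBasics.Closure.isCoh_of_finite_sections fun W hW => ?_
  have hqc : IsCompact ((f ⁻¹ᵁ W : X'.Opens) : Set X') := QuasiCompact.isCompact_preimage (f := f) W W.2 hW.isCompact
  obtain ⟨s, hs, e⟩ := (isCompact_and_isOpen_iff_finite_and_eq_biUnion_affineOpens (U := ((f ⁻¹ᵁ W : X'.Opens) : Set X'))).1 ⟨hqc, (f ⁻¹ᵁ W).2⟩
  haveI : Fintype s := hs.fintype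
  have hle : ∀ U : s, U.1.1 ≤ f ⁻¹ᵁ W := fun U x hx => by
    show x ∈ ((f ⁻¹ᵁ W : X'.Opens) : Set X')
    rw [e]
    exact Set.mem_iUnion₂.2 ⟨U.1, U.2, hx⟩
  letI : ∀ U : s, Algebra Γ(X, W) Γ(X', U.1.1) := fun U => (f.appLE W U.1.1 (hle U)).hom.toAlgebra
  haveI : ∀ U : s, Module.Flat Γ(X, W) Γ(X', U.1.1) := fun U => f.flat_appLE hW U.1.2 (hle U)
  refine finite_of_cover (fun U : s => Γ(X', U.1.1)) (fun p => ?_) Γ(N, W) fun U => ?_
  · obtain ⟨x, hx⟩ := f.surjective (hW.fromSpec p)
    have hxW : x ∈ ((f ⁻¹ᵁ W : X'.Opens) : Set X') := by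
      show f x ∈ W
      rw [hx]
      exact hW.range_fromSpec.subset ⟨p, rfl⟩
    rw [e] at hxW
    obtain ⟨U, hU, hxU⟩ := Set.mem_iUnion₂.1 hxW
    have hU' : x ∈ Set.range U.2.fromSpec := U.2.range_fromSpec.superset hxU
    obtain ⟨q, hq⟩ := hU'
    refine ⟨⟨U, hU⟩, q, hW.isOpenImmersion_fromSpec.base_open.injective ?_⟩
    refine ((congrArg (fun k : Spec Γ(X', U.1) ⟶ X => k.base q)
      (IsAffineOpen.SpecMap_appLE_fromSpec f hW U.2 (hle ⟨U, hU⟩)))).trans ?_
    show f (U.2.fromSpec q) = _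
    rw [hq]
    exact hx
  · letI : Module Γ(X, W) Γ((Scheme.Modules.pullback f).obj N, U.1.1) :=
      Module.compHom _ (f.appLE W U.1.1 (hle U)).hom
    haveI : IsScalarTower Γ(X, W) Γ(X', U.1.1) Γ((Scheme.Modules.pullback f).obj N, U.1.1) :=
      IsScalarTower.of_algebraMap_smul fun _ _ => rfl
    haveI := Lib.CohBasics.Closure.finite_sections hN U.1.2
    exact Module.Finite.equiv (Lib.CechRes.PullSec.isBaseChange_mu f N hW U.1.2 (hle U)).equiv.symm


open CategoryTheory CategoryTheory.Limits AlgebraicGeometry in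
/-- Let f : X' → X be a flat morphism of locally Noetherian schemes, Z a subset of X stable under
specialization, Z' = f⁻¹(Z) and F a quasi-coherent O_X-module. If H⁰_{X/Z}(F) is coherent then
H⁰_{X'/Z'}(f^* F) is coherent; the converse holds when f is moreover surjective (faithfully flat)
and quasi-compact. -/
theorem result {X X' : Scheme.{u}} [IsLocallyNoetherian X] [IsLocallyNoetherian X'] (f : X' ⟶ X) [Flat f]
    (Z : Set X) (hZ : StableUnderSpecialization Z) (F : X.Modules) (hF : Coh.IsQCoh F) :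
    (Coh.IsCoh ((ZClos.H0 Z).obj F) →
      Coh.IsCoh ((ZClos.H0 (f.base ⁻¹' Z)).obj ((Scheme.Modules.pullback f).obj F))) ∧
    (Surjective f → QuasiCompact f →
      Coh.IsCoh ((ZClos.H0 (f.base ⁻¹' Z)).obj ((Scheme.Modules.pullback f).obj F)) →
        Coh.IsCoh ((ZClos.H0 Z).obj F)) := by
  haveI : F.IsQuasicoherent := hF
  obtain ⟨e⟩ := H18.ZClos.nonempty_pullback_H0_iso f hZ F
  refine ⟨fun h => Lib.CohBasics.Closure.isCoh_of_iso e (Lib.Cyc.FP.Stalk.isCoh_pullback f h), fun _ _ h => ?_⟩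
  haveI := H18.Sec.isQCoh_H0 (Z := Z) (F := F)
  exact isCoh_of_pullback f (Lib.CohBasics.Closure.isCoh_of_iso e.symm h)

end Groth.Agent.S5854
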