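import Groth.Statements.S5858
import Groth.Agent.H18.ZClos.DepthCrit

set_option autoImplicit false
universe u
open ZClos

open Groth.Agent.H18.ZClos
open Groth.Agent.Lib.StalkLoc.Basic

namespace Groth.Agent.S5858

open CategoryTheory CategoryTheory.Limits AlgebraicGeometry in
/-- For a locally Noetherian scheme X, a subset Z of X stable under specialization and a coherent
O_X-module F whose Z-closure H⁰_{X/Z}(F) is coherent: for every associated point x of F outside Z
and every specialization y of x lying in Z, the closure of y has codimension at least 2 in the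
closure of x, that is, the quotient of O_{X,y} by the prime ideal of the generization x has
dimension at least 2. -/
theorem result (X : Scheme.{u}) [IsLocallyNoetherian X] (Z : Set X)
    (hZ : StableUnderSpecialization Z) (F : X.Modules) (hF : Coh.IsCoh F)
    (hH : Coh.IsCoh ((ZClos.H0 Z).obj F))
    (x : X) (hx : x ∈ AssSch.Ass F) (hxZ : x ∉ Z) (y : X) (hy : y ∈ Z) (h : x ⤳ y) :
    (2 : WithBot ℕ∞) ≤ ringKrullDim (X.presheaf.stalk y ⧸
      (IsLocalRing.maximalIdeal (X.presheaf.stalk x)).comap (X.presheaf.stalkSpecializes h).hom) := by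
  haveI := hF.1
  haveI := hH.1
  set N := (ZClos.H0 Z).obj F with hN
  haveI := Groth.Agent.Lib.RefHull.LocFree.finite_stalk hH y
  have h2 := two_le_depth_H0 (F := F) hZ hF hy
  set q := (IsLocalRing.maximalIdeal (X.presheaf.stalk x)).comap (X.presheaf.stalkSpecializes h).hom with hqdef
  obtain ⟨W, hW, hyW, -⟩ := exists_isAffineOpen_mem_and_subset (X := X) (x := y) (U := ⊤) trivial
  have hxW : x ∈ W := h.mem_open W.2 hyW
  haveI := IsLocallyNoetherian.component_noetherian (X := X) ⟨W, hW⟩
  have hxN : x ∈ AssSch.Ass N := by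
    have hb := isZClosedAt_of_notMem (F := F) hxZ
    show IsAssociatedPrime (IsLocalRing.maximalIdeal _) (N.presheaf.stalk x)
    exact associatedPrimes.subset_of_injective (f := _root_.RefHull.stalkMapₗ (ZClos.rhoApp Z F) x) hb.1 hx
  have hpx := (Groth.Agent.Lib.StalkLoc.Ass.mem_ass_iff hW hxW).1 hxN
  let _ := moduleSections N hyW
  let _ := TopCat.Presheaf.algebra_section_stalk X.presheaf (⟨y, hyW⟩ : W)
  have := isScalarTower_sections N hyW
  have := hW.isLocalization_stalk ⟨y, hyW⟩
  have := isLocalizedModule_germ (M := N) hW hyW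
  have hq : q ∈ associatedPrimes (X.presheaf.stalk y) (N.presheaf.stalk y) := by
    rw [← Module.associatedPrimes.preimage_comap_associatedPrimes_eq_associatedPrimes_of_isLocalizedModule
      (hW.primeIdealOf ⟨y, hyW⟩).asIdeal.primeCompl (X.presheaf.stalk y) (germₗ N hyW), Set.mem_preimage]
    convert hpx using 1
    letI := TopCat.Presheaf.algebra_section_stalk X.presheaf (⟨x, hxW⟩ : W)
    have := hW.isLocalization_stalk ⟨x, hxW⟩
    rw [← IsLocalization.AtPrime.comap_maximalIdeal (X.presheaf.stalk x) (hW.primeIdealOf ⟨x, hxW⟩).asIdeal,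
      hqdef, Ideal.comap_comap]
    congr 1
    ext r
    exact TopCat.Presheaf.germ_stalkSpecializes_apply X.presheaf hyW h r
  exact le_trans (WithBot.coe_le_coe.2 h2)
    (Groth.Agent.Lib.Depth.Assoc.depth_le_ringKrullDim_quotient _ hq)

end Groth.Agent.S5858
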