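import Groth.Statements.S5861
import Groth.Agent.H18.ZClos.DimTwo

set_option autoImplicit false
universe u
open ZClos

open Groth.Agent.H18.ZClos

namespace Groth.Agent.S5861

open CategoryTheory CategoryTheory.Limits AlgebraicGeometry in
/-- Suppose X is a locally Noetherian scheme and F is a coherent O_X-module whose support is the whole
of X. Assume no associated point of F has a local ring of X of dimension 1, and assume H⁰_{X/Z}(F)
is coherent, where Z = Z^(2)(X) denotes the set of points whose local ring has dimension at least 2.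
Consider the set U of points x where F satisfies (S_2), meaning depth(F_{x'}) ≥ min(2, dim F_{x'})
holds at every generization x' of x. Then U is an open subset, and the points lying outside U form a
set of codimension ≥ 2: the local ring at any such point has dimension at least 2. -/
theorem result (X : Scheme.{u}) [IsLocallyNoetherian X] (F : X.Modules) (hF : Coh.IsCoh F)
    (hsupp : ∀ x : X, Nontrivial (F.presheaf.stalk x))
    (hass : ∀ x ∈ AssSch.Ass F, ringKrullDim (X.presheaf.stalk x) ≠ 1)
    (hH : Coh.IsCoh ((ZClos.H0 (ZClos.dimGe X 2)).obj F)) :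
    IsOpen {x : X | ∀ x' : X, x' ⤳ x →
        min (2 : WithBot ℕ∞) (Module.supportDim (X.presheaf.stalk x') (F.presheaf.stalk x')) ≤
          ((LocCoh.depth (X.presheaf.stalk x') (F.presheaf.stalk x') : ℕ∞) : WithBot ℕ∞)} ∧
      ∀ x : X, (¬ ∀ x' : X, x' ⤳ x →
        min (2 : WithBot ℕ∞) (Module.supportDim (X.presheaf.stalk x') (F.presheaf.stalk x')) ≤
          ((LocCoh.depth (X.presheaf.stalk x') (F.presheaf.stalk x') : ℕ∞) : WithBot ℕ∞)) →
        (2 : WithBot ℕ∞) ≤ ringKrullDim (X.presheaf.stalk x) := by
  have hZ := stableUnderSpecialization_dimGe (X := X) 2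
  have hiff : ∀ x : X, (∀ x' : X, x' ⤳ x →
      min (2 : WithBot ℕ∞) (Module.supportDim (X.presheaf.stalk x') (F.presheaf.stalk x')) ≤
        ((LocCoh.depth (X.presheaf.stalk x') (F.presheaf.stalk x') : ℕ∞) : WithBot ℕ∞)) ↔
      ZClos.IsZClosedAt (ZClos.dimGe X 2) F x := fun x => by
    rw [isZClosedAt_iff hZ hF x]
    refine forall₂_congr fun z _ => ?_
    by_cases hz : z ∈ ZClos.dimGe X 2
    · rw [supportDim_eq hF hsupp z, min_eq_left (show (2 : WithBot ℕ∞) ≤ _ from hz)]
      exact ⟨fun h _ => WithBot.coe_le_coe.1 h, fun h => WithBot.coe_le_coe.2 (h hz)⟩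
    · exact iff_of_true (min_le_depth_of_notMem hF hass hz) fun h => absurd h hz
  refine ⟨?_, fun x hx => ?_⟩
  · simp only [hiff]
    exact isOpen_closedAt hF hH
  · rw [hiff] at hx
    by_contra hxZ
    exact hx (isZClosedAt_of_notMem hxZ)

end Groth.Agent.S5861
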