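import Groth.Statements.S5867
import Groth.Agent.H18.ZClos.DepthCrit

set_option autoImplicit false
universe u
open ZClos

open Groth.Agent.H18.ZClos
open Groth.Agent.Lib.QCoh.Localizing (res res_res res_self)

namespace Groth.Agent.S5867

open CategoryTheory CategoryTheory.Limits AlgebraicGeometry in
/-- a) ⇒ d): for a locally Noetherian scheme X, a subset Z of X stable under specialization and a
coherent O_X-module F none of whose associated points lies in Z: if H⁰_{X/Z}(F) is coherent, then
for every closed subset T of X contained in Z the direct image i_*(F|X∖T) along the inclusion i : X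
∖ T → X is coherent. -/
theorem result (X : Scheme.{u}) [IsLocallyNoetherian X] (Z : Set X)
    (hZ : StableUnderSpecialization Z) (F : X.Modules) (hF : Coh.IsCoh F)
    (hass : ∀ x ∈ AssSch.Ass F, x ∉ Z) (hH : Coh.IsCoh ((ZClos.H0 Z).obj F)) (T : ZClos.Cl Z) :
    Coh.IsCoh ((ZClos.resPush T.U).obj F) := by
  haveI := hF.1
  haveI := Groth.Agent.H18.Sec.isQCoh_resPush (F := F) T.U
  have hpure : ZClos.IsZPure Z F := by
    refine (Groth.Agent.Lib.Modules.Stalk.mono_iff_stalk_injective _).2 fun x => ?_
    refine (isZPureAt_iff hZ hF x).2 fun z _ hz => ?_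
    haveI := Groth.Agent.Lib.RefHull.LocFree.finite_stalk hF z
    rw [LocCoh.depth, Groth.Agent.Lib.Depth.Assoc.one_le_idealDepth_iff_forall]
    refine Or.inr fun P hP hle => hass z ?_ hz
    have hP' : P = IsLocalRing.maximalIdeal (X.presheaf.stalk z) :=
      ((IsLocalRing.maximalIdeal.isMaximal _).eq_of_le hP.isPrime.ne_top hle).symm
    rw [hP'] at hP
    exact hP
  let φ : (ZClos.resPush T.U).obj F ⟶ (ZClos.H0 Z).obj F := Limits.colimit.ι ((ZClos.diagram Z).obj F) T
  haveI : Mono φ := by
    refine (Groth.Agent.Lib.Modules.Stalk.mono_iff_stalk_injective _).2 fun x => ?_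
    refine (injective_iff_map_eq_zero _).2 fun z hz => ?_
    obtain ⟨V, hxV, t, rfl⟩ := TopCat.Presheaf.exists_germ_eq ((ZClos.resPush T.U).obj F).presheaf z
    have h0 : ((ZClos.H0 Z).obj F).presheaf.germ V x hxV (ιsec Z F T V (res F (le_img T.U V) t)) = 0 := by
      refine Eq.trans ?_ ((Groth.Agent.Lib.Modules.Stalk.stalkFunctor_map_germ x φ hxV t).symm.trans hz)
      refine congrArg (fun s => ((ZClos.H0 Z).obj F).presheaf.germ V x hxV s) ?_
      refine congrArg (φ.app V) ?_
      exact (res_res (M := F) (le_img T.U V) (img_le T.U V) t).trans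
        (res_self (M := F) (U := T.U.ι ''ᵁ T.U.ι ⁻¹ᵁ V) le_rfl t)
    obtain ⟨T', hT, V', hxV', hV, hz0⟩ := (germ_eq_zero hxV _).1 h0
    have h1 : res F (inf_le_inf hV le_rfl : V' ⊓ T.U ≤ V ⊓ T.U) (res F (le_img T.U V) t) = 0 := by
      refine (isZPure_iff.1 hpure (V' ⊓ T.U)) T' ?_
      rw [map_zero]
      have := congrArg (res F (inf_le_inf inf_le_left le_rfl : (V' ⊓ T.U) ⊓ T'.U ≤ V' ⊓ T'.U)) hz0
      simp only [res_res, map_zero] at this ⊢
      exact this
    rw [← germ_res (G := (ZClos.resPush T.U).obj F) hV hxV' t]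
    have h2 : res ((ZClos.resPush T.U).obj F) hV t = 0 := by
      have h3 := congrArg (res F (img_le T.U V')) h1
      simp only [res_res, map_zero] at h3
      exact h3
    rw [h2]
    exact map_zero _
  exact Groth.Agent.Lib.CohBasics.Closure.isCoh_of_mono φ hH

end Groth.Agent.S5867
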