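import Groth.Statements.S5868
import Groth.Agent.H18.Sec.Family
import Groth.Agent.Lib.StalkLoc.Ass
import Groth.Agent.S2722
import Groth.Agent.H25.Hull

set_option autoImplicit false
universe u
open ZClos

open Groth.Agent.H18.Sec

namespace Groth.Agent.S5868

open CategoryTheory CategoryTheory.Limits AlgebraicGeometry in
/-- d) ⇒ a), second sufficient condition: let X be a locally Noetherian scheme, Z a subset of X stable
under specialization and F a coherent O_X-module none of whose associated points lies in Z. Assume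
that for every affine open V of X with ring A and every associated point x of F in V, with prime
ideal p ⊂ A, the domain A/p is universally catenary and N-1 (its integral closure is a finite
module); that is, the reduced closed subschemes on the closures of the associated points of F are
universally catenary with finite normalization. If, for a directed family of closed subsets T of X
contained in Z and covering Z, each direct image i_*(F|X∖T) is coherent, then H⁰_{X/Z}(F) is
coherent. (The published statement also allows, in place of the condition on the closures of the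
associated points, that X be locally immersible in a regular scheme; this row omits that
alternative.) -/
theorem result (X : Scheme.{u}) [IsLocallyNoetherian X] (Z : Set X)
    (hZ : StableUnderSpecialization Z) (F : X.Modules) (hF : Coh.IsCoh F)
    (hass : ∀ x ∈ AssSch.Ass F, x ∉ Z)
    (hX : ∀ (V : X.Opens) (hV : IsAffineOpen V) (x : X) (hxV : x ∈ V), x ∈ AssSch.Ass F →
        CAlg.IsUniversallyCatenary (Γ(X, V) ⧸ (hV.primeIdealOf ⟨x, hxV⟩).asIdeal) ∧
          CAlg.IsN1 (Γ(X, V) ⧸ (hV.primeIdealOf ⟨x, hxV⟩).asIdeal))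
    (𝒯 : Set (ZClos.Cl Z)) (hdir : DirectedOn (· ≤ ·) 𝒯) (hcov : ∀ z ∈ Z, ∃ T ∈ 𝒯, z ∈ (T.1 : Set X))
    (hd : ∀ T ∈ 𝒯, Coh.IsCoh ((ZClos.resPush T.U).obj F)) :
    Coh.IsCoh ((ZClos.H0 Z).obj F) := by
  haveI := hF.1
  refine isCoh_H0_of_finite hZ fun x₀ => ?_
  obtain ⟨W, hW, hx₀, -⟩ := exists_isAffineOpen_mem_and_subset (X := X) (x := x₀) (U := ⊤) trivial
  refine ⟨W, hW, hx₀, ?_⟩
  haveI : IsNoetherianRing Γ(X, W) := IsLocallyNoetherian.component_noetherian ⟨W, hW⟩
  haveI := Groth.Agent.Lib.CohBasics.Closure.finite_sections hF hW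
  refine finite_of_hull _ (fun y z => outside_generize hZ hW y z) _ fun p hp _ => ?_
  have hxW := fromSpec_mem hW p
  have hpx : hW.primeIdealOf ⟨hW.fromSpec p, hxW⟩ = p := primeIdealOf_fromSpec hW p
  have hass' : hW.fromSpec p ∈ AssSch.Ass F := by
    rw [Lib.StalkLoc.Ass.mem_ass_iff hW hxW, hpx]
    exact hp
  obtain ⟨hcat, hn1⟩ := hX W hW _ hxW hass'
  rw [hpx] at hcat hn1
  refine ⟨H25.Hull.heightOneHullFinite hcat hn1, fun y hy hpy => ?_⟩
  obtain ⟨T, hT, hyT⟩ := hcov _ (not_not.1 hy : hW.fromSpec y ∈ Z)
  obtain ⟨J, hJ, hcoh⟩ := isCoherentPushCompl_of_resPush T (hd T hT) hW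
  have hJp : ¬ J ≤ p.asIdeal := fun h => hass _ hass' (T.2 ((hJ p).1 h))
  exact (S2722.result _ J _ hcoh p.asIdeal hp hJp).trans (Ideal.height_mono (Ideal.map_mono ((hJ y).2 hyT)))

end Groth.Agent.S5868
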