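import Groth.Statements.S5869
import Groth.Agent.H18.Sec.Spec
import Mathlib.RingTheory.Ideal.AssociatedPrime.Basic

set_option autoImplicit false
universe u
open ZClos

open Groth.Agent.H18.Sec

namespace Groth.Agent.S5869

open CategoryTheory CategoryTheory.Limits AlgebraicGeometry in
/-- a) ⇔ b): for a Noetherian ring A with X = Spec A, the following are equivalent: a) for every prime
ideal q of A, writing B = A/q, the ring B^(1) (intersection of the localizations of B at its
height-one primes) is a finite B-algebra; b) for every finite A-module M and every subset Z of X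
stable under specialization such that, for every associated prime p of M not in Z and every prime p'
∈ Z containing p, the image of p' in A/p has height at least 2, the Z-closure H⁰_{X/Z} of the module
M~ is coherent. -/
theorem result (A : Type u) [CommRing A] [IsNoetherianRing A] :
    (∀ (q : Ideal A) [q.IsPrime], EGA4.HeightOneHullFinite (A ⧸ q)) ↔
      ∀ (M : Type u) [AddCommGroup M] [Module A M] [Module.Finite A M]
        (Z : Set (PrimeSpectrum A)), StableUnderSpecialization Z →
        (∀ x : PrimeSpectrum A, x.asIdeal ∈ associatedPrimes A M → x ∉ Z →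
          ∀ y ∈ Z, x.asIdeal ≤ y.asIdeal → (2 : ℕ∞) ≤ (y.asIdeal.map (Ideal.Quotient.mk x.asIdeal)).height) →
        Coh.IsCoh ((ZClos.H0 (X := Spec (CommRingCat.of A)) Z).obj (EGA4.tildeOf A M)) := by
  constructor
  · intro h M _ _ _ Z hZ hM
    rw [isCoh_H0_tildeOf_iff A M Z hZ]
    refine finite_of_hull Zᶜ (fun y z hyz hz hy => hz (hZ ((PrimeSpectrum.le_iff_specializes y z).1 hyz) hy)) M
      fun x hx hxG => ⟨h x.asIdeal, fun y hy hxy => hM x hx hxG y (not_not.1 hy) hxy⟩
  · intro h q _
    set Z : Set (PrimeSpectrum A) :=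
      {y | q ≤ y.asIdeal ∧ (2 : ℕ∞) ≤ (y.asIdeal.map (Ideal.Quotient.mk q)).height} with hZdef
    have hZ : StableUnderSpecialization Z := fun a b hab ha => by
      have hle := (PrimeSpectrum.le_iff_specializes a b).2 hab
      exact ⟨ha.1.trans hle, ha.2.trans (Ideal.height_mono (Ideal.map_mono hle))⟩
    have hfin := h (A ⧸ q) Z hZ fun x hx _ y hy _ => by
      have hxq : x.asIdeal = q := by
        obtain ⟨hxp, z, hz⟩ := isAssociatedPrime_iff.1 hx
        have hz0 : z ≠ 0 := by
          rintro rfl
          refine hxp.ne_top ((Ideal.eq_top_iff_one _).2 (hz.ge ?_))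
          rw [Submodule.mem_colon_singleton, smul_zero]
          exact Submodule.zero_mem _
        ext r
        rw [hz, Submodule.mem_colon_singleton, Submodule.mem_bot, Algebra.smul_def, mul_eq_zero,
          or_iff_left hz0, Ideal.Quotient.algebraMap_eq, Ideal.Quotient.eq_zero_iff_mem]
      rw [hxq]
      exact hy.2
    rw [isCoh_H0_tildeOf_iff A (A ⧸ q) Z hZ] at hfin
    have hP : (⟨RingHom.ker (algebraMap A (A ⧸ q)), RingHom.ker_isPrime _⟩ : PrimeSpectrum A) ∈ Zᶜ := by
      rintro ⟨-, h2⟩
      have h2' : (2 : ℕ∞) ≤ ((RingHom.ker (Ideal.Quotient.mk q)).map (Ideal.Quotient.mk q)).height := h2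
      rw [Ideal.mk_ker, Ideal.map_quotient_self, Ideal.height_bot] at h2'
      norm_cast at h2'
    have hGD : ∀ (Q : Ideal (A ⧸ q)) [Q.IsPrime], Q.height ≤ 1 ↔
        (⟨Q.comap (algebraMap A (A ⧸ q)), Ideal.IsPrime.comap _⟩ : PrimeSpectrum A) ∈ Zᶜ := by
      intro Q _
      have hm : (Q.comap (algebraMap A (A ⧸ q))).map (Ideal.Quotient.mk q) = Q :=
        Ideal.map_comap_of_surjective _ Ideal.Quotient.mk_surjective Q
      constructor
      · rintro hQ ⟨-, h2⟩
        simp only at h2
        rw [hm] at h2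
        exact absurd (h2.trans hQ) (by norm_num)
      · intro hQ
        by_contra hlt
        refine hQ ⟨fun a ha => ?_, ?_⟩
        · show algebraMap A (A ⧸ q) a ∈ Q
          rw [Ideal.Quotient.algebraMap_eq, Ideal.Quotient.eq_zero_iff_mem.2 ha]
          exact Q.zero_mem
        · show (2 : ℕ∞) ≤ ((Q.comap (algebraMap A (A ⧸ q))).map (Ideal.Quotient.mk q)).height
          rw [hm]
          simpa [one_add_one_eq_two] using Order.add_one_le_of_lt (not_le.1 hlt)
    have hh := (finite_iff_hull (A := A) (D := A ⧸ q) Ideal.Quotient.mk_surjective hP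
      (fun Q => Q.height ≤ 1) hGD).1 hfin
    refine ⟨H25.Hull.hull fun Q => Q.height ≤ 1, Set.Subset.antisymm (fun x hx Q hQ h1 => hx Q h1.le) ?_, hh⟩
    intro x hx Q hQ hle
    rcases lt_or_eq_of_le hle with hlt | heq
    · obtain rfl : Q = ⊥ := by
        simpa [Ideal.height_eq_zero_iff] using (ENat.lt_one_iff_eq_zero.1 hlt)
      obtain ⟨⟨a, s⟩, ha⟩ := IsLocalization.surj (nonZeroDivisors (A ⧸ q)) x
      exact ⟨s, fun hs => nonZeroDivisors.coe_ne_zero s (Ideal.mem_bot.1 hs), a, by rw [← ha, mul_comm]⟩
    · exact hx Q heq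

end Groth.Agent.S5869
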