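import Groth.Statements.S5870
import Groth.Agent.H18.ZClos.Support

set_option autoImplicit false
universe u
open ZClos

open Groth.Agent.H18.ZClos
open Groth.Agent.Lib.QCoh.Localizing (res res_res res_self res_app)

namespace Groth.Agent.S5870

open CategoryTheory CategoryTheory.Limits AlgebraicGeometry in
/-- For a locally Noetherian scheme X, a subset Z of X stable under specialization and an arbitrary
O_X-module F, the Z-closure H⁰_{X/Z}(F) is zero if and only if the support of F is contained in Z,
that is, the stalk of F at every point outside Z is zero. -/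
theorem result (X : Scheme.{u}) [IsLocallyNoetherian X] (Z : Set X)
    (hZ : StableUnderSpecialization Z) (F : X.Modules) :
    IsZero ((ZClos.H0 Z).obj F) ↔ ∀ x : X, x ∉ Z → Subsingleton (F.presheaf.stalk x) := by
  rw [Groth.Agent.Lib.Modules.Stalk.isZero_iff_stalk_subsingleton]
  constructor
  · intro h x hx
    haveI := h x
    exact (isZClosedAt_of_notMem (F := F) hx).1.subsingleton
  · intro h x
    refine subsingleton_of_forall_eq 0 fun z => ?_
    obtain ⟨T, V, hxV, s, rfl⟩ := exists_germ x z
    obtain ⟨T', h0⟩ := exists_res_eq_zero hZ s fun y _ hy => @Subsingleton.elim _ (h y hy) _ _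
    refine (germ_eq_zero hxV s).2 ⟨T ⊔ T', le_sup_left, V, hxV, le_rfl, ?_⟩
    have hz : V ⊓ (T ⊔ T').U ≤ (V ⊓ T.U) ⊓ T'.U :=
      le_inf (inf_le_inf le_rfl (ZClos.Cl.U_anti le_sup_left))
        (inf_le_right.trans (ZClos.Cl.U_anti le_sup_right))
    have := congrArg (res F hz) h0
    simpa only [res_res, map_zero] using this

end Groth.Agent.S5870
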