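import Groth.Statements.S5871
import Groth.Agent.H69.FibreLoci.Loci

set_option autoImplicit false
universe u
open CategoryTheory AlgebraicGeometry
open Cons9

namespace Groth.Agent.S5871
set_option backward.isDefEq.respectTransparency false
open Groth.Agent.H69.FibreLoci Groth.Agent.H46.FibreProf.Basic CategoryTheory AlgebraicGeometry

/-- Let f : X ⟶ S be a morphism of finite presentation (locally of finite presentation, quasi-compact
and quasi-separated) and F a quasi-coherent O_X-module of finite presentation; for s in S let F_s be
the pullback of F to the scheme-theoretic fibre X_s. Then the set of s such that F_s has no embedded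
associated point (an associated point of F_s which is a specialization of another associated point
is equal to it) is locally constructible in S. -/
theorem result {X S : Scheme.{u}} (f : X ⟶ S)
    [LocallyOfFinitePresentation f] [QuasiCompact f] [QuasiSeparated f]
    (F : X.Modules) [Coh.IsQCoh F] (hF : CohB1.IsFP F) :
    Topology.IsLocallyConstructible
      {s : S | AssSch.NoEmbedded ((Scheme.Modules.pullback (f.fiberι s)).obj F)} := by
  haveI := hF
  haveI := Groth.Agent.H26.FreeCrit.isQuasicoherent_of_isFP hF
  convert Groth.Agent.Lib.ProCons45.Basic.isLocallyConstructible_compl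
    (Loci.isLocallyConstructible_exists (fun d => Loci.isLocallyConstructible_embedded f F hF d)
      (Loci.bounded_hasProper f F _)) using 1
  ext s
  constructor
  · rintro h ⟨d, θ, hθ, h0, -, w, hw, hθw, hne⟩
    obtain ⟨a, rfl⟩ := Groth.Agent.Lib.Cyc.FieldDim.exists_fiberι_eq f θ s hθ
    obtain ⟨b, rfl, hb⟩ := fg_exists f hθw
    exact hne (congrArg _ (h a ((mem_ass_iff f F s a).2 h0) b ((mem_ass_iff f F s b).2 hw) hb).symm)
  · intro h a ha b hb hba
    by_contra hne
    exact h ⟨_, f.fiberι s a, Groth.Agent.Lib.Cyc.FieldDim.apply_fiberι f s a,
      (mem_ass_iff f F s a).1 ha, rfl, f.fiberι s b, (mem_ass_iff f F s b).1 hb, (fg_fiberι f).2 hba,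
      fun e => hne ((f.fiberι s).isEmbedding.injective e).symm⟩

end Groth.Agent.S5871
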