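import Groth.Statements.S5873
import Groth.Agent.H69.FibreLoci.Generic
import Groth.Agent.H52.Ass.Decomp2
import Groth.Agent.H46.FibreDimNhd
import Groth.Agent.Lib.Cyc.FP.Stalk
import Groth.Agent.Lib.Spectral.Noetherian

set_option autoImplicit false
universe u
open CategoryTheory AlgebraicGeometry
open Cons9

namespace Groth.Agent.S5873
set_option backward.isDefEq.respectTransparency false
open Groth.Agent.H69.FibreLoci Groth.Agent.H46.FibreProf.Basic CategoryTheory AlgebraicGeometry Topology

/-- Let S be an integral Noetherian scheme with generic point η, f : X ⟶ S a morphism of finite type and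
F a coherent O_X-module; for s in S write F_s for the pullback of F to the scheme-theoretic fibre
X_s. For an associated point x of F_η let Z_x denote the closure in X of the image of x, and (Z_x)_s
its trace on X_s (the preimage under X_s ⟶ X). Then there is an open neighbourhood U of η such that
for every s in U: (a) the associated points of F_s are exactly the maximal points (those admitting
no proper generization inside the set) of the sets (Z_x)_s, for x running over the associated points
of F_η, so that the associated prime cycles of F_s are the irreducible components of the (Z_x)_s;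
(b) for distinct associated points x, x' of F_η the maximal points of (Z_x)_s and of (Z_x')_s are
pairwise distinct; (c) for every associated point x of F_η and every maximal point z of (Z_x)_s, the
point z is a maximal associated point of F_s (no other associated point of F_s generizes it) if and
only if x is a maximal associated point of F_η. -/
theorem result {X S : Scheme.{u}} [IsIntegral S] [IsNoetherian S]
    (f : X ⟶ S) [LocallyOfFiniteType f] [QuasiCompact f]
    (F : X.Modules) [Coh.IsQCoh F] (hF : CohB1.IsFP F) :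
    ∃ U : S.Opens, genericPoint S ∈ U ∧ ∀ s ∈ U,
      (AssSch.Ass ((Scheme.Modules.pullback (f.fiberι s)).obj F) =
          ⋃ x ∈ AssSch.Ass ((Scheme.Modules.pullback (f.fiberι (genericPoint S))).obj F),
            {z : ↥(f.fiber s) | z ∈ ((f.fiberι s).base ⁻¹' closure {(f.fiberι (genericPoint S)).base x}) ∧ ∀ z' ∈ ((f.fiberι s).base ⁻¹' closure {(f.fiberι (genericPoint S)).base x}), z' ⤳ z → z' = z}) ∧
      (∀ x ∈ AssSch.Ass ((Scheme.Modules.pullback (f.fiberι (genericPoint S))).obj F), ∀ x' ∈ AssSch.Ass ((Scheme.Modules.pullback (f.fiberι (genericPoint S))).obj F), x ≠ x' →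
          Disjoint {z : ↥(f.fiber s) | z ∈ ((f.fiberι s).base ⁻¹' closure {(f.fiberι (genericPoint S)).base x}) ∧ ∀ z' ∈ ((f.fiberι s).base ⁻¹' closure {(f.fiberι (genericPoint S)).base x}), z' ⤳ z → z' = z}
            {z : ↥(f.fiber s) | z ∈ ((f.fiberι s).base ⁻¹' closure {(f.fiberι (genericPoint S)).base x'}) ∧ ∀ z' ∈ ((f.fiberι s).base ⁻¹' closure {(f.fiberι (genericPoint S)).base x'}), z' ⤳ z → z' = z}) ∧
      (∀ x ∈ AssSch.Ass ((Scheme.Modules.pullback (f.fiberι (genericPoint S))).obj F),
        ∀ z ∈ {z : ↥(f.fiber s) | z ∈ ((f.fiberι s).base ⁻¹' closure {(f.fiberι (genericPoint S)).base x}) ∧ ∀ z' ∈ ((f.fiberι s).base ⁻¹' closure {(f.fiberι (genericPoint S)).base x}), z' ⤳ z → z' = z},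
          ((∀ y ∈ AssSch.Ass ((Scheme.Modules.pullback (f.fiberι s)).obj F), y ⤳ z → y = z) ↔
            (∀ y ∈ AssSch.Ass ((Scheme.Modules.pullback (f.fiberι (genericPoint S))).obj F), y ⤳ x → y = x))) := by
  haveI : SheafOfModules.IsFinitePresentation (R := X.ringCatSheaf) F := hF
  haveI := Groth.Agent.H26.FreeCrit.isQuasicoherent_of_isFP hF
  haveI : LocallyOfFinitePresentation f := Groth.Agent.H46.FibreDimNhd.locallyOfFinitePresentation f
  haveI : IsLocallyNoetherian X := LocallyOfFiniteType.isLocallyNoetherian f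
  haveI : CompactSpace X := QuasiCompact.compactSpace_of_compactSpace f
  haveI : IsNoetherian X := {}
  let η := genericPoint S
  haveI : IsLocallyNoetherian (f.fiber η) := Groth.Agent.H46.QFin.isLocallyNoetherian_fiber f η
  haveI : QuasiCompact (f.fiberToSpecResidueField η) := MorphismProperty.pullback_snd _ _ ‹QuasiCompact f›
  haveI : CompactSpace (f.fiber η) := QuasiCompact.compactSpace_of_compactSpace (f.fiberToSpecResidueField η)
  have hFc : Coh.IsCoh F := ⟨‹_›, inferInstance⟩
  have hcoh : Coh.IsCoh ((Scheme.Modules.pullback (f.fiberι η)).obj F) :=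
    Groth.Agent.Lib.Cyc.FP.Stalk.isCoh_pullback _ hFc
  let A := AssSch.Ass ((Scheme.Modules.pullback (f.fiberι η)).obj F)
  haveI : Finite A := (Groth.Agent.H52.Ass.Decomp.finite_ass hcoh).to_subtype
  obtain ⟨U, hU, h⟩ := Generic.exists_open f F hF (fun a : A => f.fiberι η a.1)
    (fun a => Groth.Agent.Lib.Cyc.FieldDim.apply_fiberι f η a.1)
    (fun a => (mem_ass_iff f F η a.1).1 a.2)
    (fun θ hθ h0 => by
      obtain ⟨a, rfl⟩ := Groth.Agent.Lib.Cyc.FieldDim.exists_fiberι_eq f θ η hθ
      exact ⟨⟨a, (mem_ass_iff f F η a).2 h0⟩, rfl⟩)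
    (fun a b e => Subtype.ext ((f.fiberι η).isEmbedding.injective e))
    (fun a => (Groth.Agent.Lib.Spectral.Noetherian.isConstructible_of_isClosed isClosed_closure).isLocallyConstructible)
  refine ⟨U, hU, fun s hs => ?_⟩
  have key : ∀ (a : A) (z : ↥(f.fiber s)),
      (z ∈ ((f.fiberι s).base ⁻¹' closure {(f.fiberι η).base a.1}) ∧
        ∀ z' ∈ ((f.fiberι s).base ⁻¹' closure {(f.fiberι η).base a.1}), z' ⤳ z → z' = z) ↔
      Generic.IsMaxIn f (fun a : A => f.fiberι η a.1) a (f.fiberι s z) := by
    intro a z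
    constructor
    · rintro ⟨h1, h2⟩
      refine ⟨h1, fun w hw hwz => ?_⟩
      obtain ⟨b, rfl, hb⟩ := fg_exists f hwz
      rw [h2 b hw hb]
    · rintro ⟨h1, h2⟩
      exact ⟨h1, fun z' hz' hs' =>
        (f.fiberι s).isEmbedding.injective (h2 _ hz' ((fg_fiberι f).2 hs'))⟩
  have hz : ∀ z : ↥(f.fiber s), f (f.fiberι s z) ∈ U := fun z => by
    rw [Groth.Agent.Lib.Cyc.FieldDim.apply_fiberι]; exact hs
  refine ⟨?_, fun x hx x' hx' hne => Set.disjoint_left.2 fun z hz1 hz2 =>
    hne (congrArg Subtype.val ((h _ (hz z)).2.1 ⟨x, hx⟩ ⟨x', hx'⟩ ((key _ z).1 hz1) ((key _ z).1 hz2))),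
    fun x hx z hzx => ?_⟩
  · ext z
    simp only [Set.mem_iUnion]
    constructor
    · intro hza
      obtain ⟨⟨a, ha⟩, hmax⟩ := (h _ (hz z)).1.1 ((mem_ass_iff f F s z).1 hza)
      exact ⟨a, ha, (key _ z).2 hmax⟩
    · rintro ⟨a, ha, hmax⟩
      exact (mem_ass_iff f F s z).2 ((h _ (hz z)).1.2 ⟨⟨a, ha⟩, (key ⟨a, ha⟩ z).1 hmax⟩)
  · have hmaxz := (key ⟨x, hx⟩ z).1 hzx
    constructor
    · intro hzmax y hy hyx
      by_contra hne
      -- `z` lies in the closure of `y`; take a maximal point there
      have hzy : f.fiberι s z ∈ closure ({f.fiberι η y} : Set X) :=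
        ((hyx.map (f.fiberι η).continuous).trans (specializes_iff_mem_closure.2 hmaxz.1)).mem_closure
      obtain ⟨θ, hθB, hzθ, hθmax⟩ := Loci.exists_max f hzy
      obtain ⟨b, rfl, hb⟩ := fg_exists f hzθ
      have hbass := (h _ (hz b)).1.2 ⟨⟨y, hy⟩, hθB, hθmax⟩
      obtain rfl := hzmax b ((mem_ass_iff f F s b).2 hbass) hb
      exact hne (congrArg Subtype.val ((h _ (hz b)).2.1 ⟨x, hx⟩ ⟨y, hy⟩ hmaxz ⟨hθB, hθmax⟩)).symm
    · intro hxmax y hy hyz
      refine (f.fiberι s).isEmbedding.injective ((h _ (hz z)).2.2 ⟨x, hx⟩ (fun j hj => ?_) hmaxz _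
        ((mem_ass_iff f F s y).1 hy) ((fg_fiberι f).2 hyz))
      exact congrArg _ (hxmax j.1 j.2 ((f.fiberι η).isEmbedding.isInducing.specializes_iff.1 hj))

end Groth.Agent.S5873
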