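import Groth.Statements.S5874
import Groth.Agent.H46.FibreProf.AssCons
-- import your own Groth.Agent.* helpers here

set_option autoImplicit false
universe u
open CategoryTheory AlgebraicGeometry
open Cons9

namespace Groth.Agent.S5874

open Groth.Agent.H46.FibreProf Groth.Agent.H46.FibreProf.Basic Groth.Agent.H46.FibreTrdeg in
/-- Let f : X ⟶ S be a morphism of finite presentation (locally of finite presentation, quasi-compact
and quasi-separated) and F a quasi-coherent O_X-module of finite presentation; for s in S let F_s be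
the pullback of F to the scheme-theoretic fibre X_s and E(s) the finite set of dimensions of the
associated prime cycles of F_s (closures in X_s of the associated points of F_s). Then s ↦ E(s) is a
locally constructible function on S: for every finite set Φ of natural numbers, the set of s with
E(s) = Φ is locally constructible. -/
theorem result {X S : Scheme.{u}} (f : X ⟶ S)
    [LocallyOfFinitePresentation f] [QuasiCompact f] [QuasiSeparated f]
    (F : X.Modules) [Coh.IsQCoh F] (hF : CohB1.IsFP F) (Φ : Finset ℕ) :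
    Topology.IsLocallyConstructible {s : S |
      (fun z : ↥(f.fiber s) => topologicalKrullDim ↥(closure ({z} : Set ↥(f.fiber s)))) ''
          AssSch.Ass ((Scheme.Modules.pullback (f.fiberι s)).obj F) =
        (fun n : ℕ => (n : WithBot ℕ∞)) '' (Φ : Set ℕ)} := by
  haveI := hF
  haveI := Groth.Agent.H26.FreeCrit.isQuasicoherent_of_isFP hF
  convert AssCons.isLocallyConstructible_hasAss_eq f F hF Φ using 1
  ext s
  show _ = _ ↔ ∀ d, AssCons.HasAss f F d s ↔ d ∈ Φ
  constructor
  · intro h d
    constructor
    · rintro ⟨θ, hθ, h0, hd⟩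
      obtain ⟨b, rfl⟩ := Groth.Agent.Lib.Cyc.FieldDim.exists_fiberι_eq f θ s hθ
      obtain ⟨n, hn, hn'⟩ := h.subset ⟨b, (mem_ass_iff f F s b).2 h0, rfl⟩
      simp only [Equidim.dim_closure, hd] at hn'
      exact Nat.cast_inj.1 hn' ▸ hn
    · intro hd
      obtain ⟨b, hb, hb'⟩ := h.superset ⟨d, hd, rfl⟩
      simp only [Equidim.dim_closure] at hb'
      exact ⟨_, Groth.Agent.Lib.Cyc.FieldDim.apply_fiberι f s b, (mem_ass_iff f F s b).1 hb,
        by exact_mod_cast hb'⟩
  · intro h
    apply Set.Subset.antisymm
    · rintro _ ⟨b, hb, rfl⟩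
      refine ⟨trd f (f.fiberι s b), (h _).1 ⟨_, Groth.Agent.Lib.Cyc.FieldDim.apply_fiberι f s b,
        (mem_ass_iff f F s b).1 hb, rfl⟩, ?_⟩
      simp only [Equidim.dim_closure]
    · rintro _ ⟨d, hd, rfl⟩
      obtain ⟨θ, hθ, h0, hd'⟩ := (h d).2 hd
      obtain ⟨b, rfl⟩ := Groth.Agent.Lib.Cyc.FieldDim.exists_fiberι_eq f θ s hθ
      refine ⟨b, (mem_ass_iff f F s b).2 h0, ?_⟩
      simp only [Equidim.dim_closure, hd']

end Groth.Agent.S5874
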