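import Groth.Statements.S5875
import Groth.Agent.H69.FibreLoci.Loci

set_option autoImplicit false
universe u
open CategoryTheory AlgebraicGeometry
open Cons9

namespace Groth.Agent.S5875
set_option backward.isDefEq.respectTransparency false
open Groth.Agent.H69.FibreLoci Groth.Agent.H46.FibreProf.Basic CategoryTheory AlgebraicGeometry

/-- Let f : X ⟶ S be a morphism of finite presentation (locally of finite presentation, quasi-compact
and quasi-separated) and F a quasi-coherent O_X-module of finite presentation; for s in S let F_s be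
the pullback of F to the scheme-theoretic fibre X_s and E'(s) the finite set of dimensions of the
irreducible components of the support of F_s (the points of X_s where the stalk of F_s is nonzero),
i.e. of the maximal associated prime cycles of F_s. Then s ↦ E'(s) is a locally constructible
function on S: for every finite set Φ of natural numbers, the set of s with E'(s) = Φ is locally
constructible. -/
theorem result {X S : Scheme.{u}} (f : X ⟶ S)
    [LocallyOfFinitePresentation f] [QuasiCompact f] [QuasiSeparated f]
    (F : X.Modules) [Coh.IsQCoh F] (hF : CohB1.IsFP F) (Φ : Finset ℕ) :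
    Topology.IsLocallyConstructible {s : S |
      (fun Z : Set ↥(CohB1.support ((Scheme.Modules.pullback (f.fiberι s)).obj F)) => topologicalKrullDim ↥Z) ''
          irreducibleComponents ↥(CohB1.support ((Scheme.Modules.pullback (f.fiberι s)).obj F)) =
        (fun n : ℕ => (n : WithBot ℕ∞)) '' (Φ : Set ℕ)} := by
  haveI : SheafOfModules.IsFinitePresentation (R := X.ringCatSheaf) F := hF
  haveI := Groth.Agent.H26.FreeCrit.isQuasicoherent_of_isFP hF
  convert Loci.isLocallyConstructible_levelSet (fun d => Loci.isLocallyConstructible_hasMax f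
    (Groth.Agent.H46.FibreProf.Cons.isLocallyConstructible_support F hF) d)
    (Loci.bounded_hasMax f (CohB1.support F)) (Φ : Set ℕ) using 1
  ext s
  show _ = _ ↔ _
  have e : CohB1.support ((Scheme.Modules.pullback (f.fiberι s)).obj F) =
      Groth.Agent.H46.FibreProf.Comps.T f F s :=
    Set.ext fun z => not_subsingleton_iff_nontrivial
  rw [e]
  have key : ∀ d, (∃ θ, Groth.Agent.H46.FibreProf.Equidim.IsMaxSupp f F θ ∧ f θ = s ∧
      Groth.Agent.H46.FibreTrdeg.trd f θ = d) ↔ s ∈ Loci.HasMax f (CohB1.support F) d :=
    fun d => ⟨fun ⟨θ, hθ, hs, hd⟩ => ⟨θ, hθ.1, hs, hd, hθ.2⟩,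
      fun ⟨θ, hθ, hs, hd, hm⟩ => ⟨θ, ⟨hθ, hm⟩, hs, hd⟩⟩
  constructor
  · intro h d
    rw [← key d, ← (Nat.cast_injective (R := WithBot ℕ∞)).mem_set_image, ← h]
    exact (Groth.Agent.H46.FibreProf.Comps.exists_comp_iff f F s d).symm
  · intro h
    ext v
    constructor
    · rintro ⟨Z, hZ, rfl⟩
      obtain ⟨n, hn⟩ := Groth.Agent.H46.FibreProf.Comps.exists_natCast_of_comp f F s hZ
      refine ⟨n, (h n).1 ((key n).1 ?_), hn.symm⟩
      exact (Groth.Agent.H46.FibreProf.Comps.exists_comp_iff f F s n).1 ⟨Z, hZ, hn⟩
    · rintro ⟨n, hn, rfl⟩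
      exact (Groth.Agent.H46.FibreProf.Comps.exists_comp_iff f F s n).2 ((key n).2 ((h n).2 hn))

end Groth.Agent.S5875
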