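import Groth.Statements.S5877
import Groth.Agent.Lib.ImmSubalg.Basic
import Groth.Agent.Lib.QCAlgSub.Sections
-- import your own Groth.Agent.* helpers here

set_option autoImplicit false
universe u
open CategoryTheory AlgebraicGeometry Opposite
open Lim8

namespace Groth.Agent.S5877

section helpers

open CategoryTheory AlgebraicGeometry Opposite
open Groth.Agent.Lib Groth.Agent.Lib.Modules.SubStalk Groth.Agent.Lib.Modules.ExtendFT
open Groth.Agent.Lib.QCAlgSub

/-- A subalgebra of finite type containing prescribed finite sets of sections. -/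
theorem exists_subalgebra {Y : Scheme.{u}} [CompactSpace Y] [QuasiSeparatedSpace Y]
    (C : RelSpec.QCAlg Y) (K : Finset Y.affineOpens)
    (T : ∀ W : Y.affineOpens, Finset (C.presheaf.obj (op (W : Y.Opens)))) :
    ∃ (C' : RelSpec.QCAlg Y) (φ : C' ⟶ C),
      (∀ U : Y.Opens, Function.Injective (φ.hom.app (op U))) ∧
      (∀ U : Y.affineOpens, (C'.str.app (op (U : Y.Opens))).hom.FiniteType) ∧
      ∀ W ∈ K, (↑(T W) : Set _) ⊆ Set.range (φ.hom.app (op (W : Y.Opens))).hom := by
  classical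
  haveI := Basic.isQuasicoherent_toModule C
  let t : ∀ W : Y.affineOpens, Fin (T W).card → Γ(C.toModule, (W : Y.Opens)) := fun W i =>
    ((T W).equivFin.symm i).1
  choose S hS hmem using fun W : Y.affineOpens => Sections.exists_family_qcqs W.2 (t W)
  have hsup : ∀ K : Finset Y.affineOpens, ∃ F : Family C.toModule, IsLocFG F ⊤ ∧
      ∀ W ∈ K, ∀ x, S W x ≤ F x := by
    intro K
    induction K using Finset.induction with
    | empty => exact ⟨_, Sections.isLocFG_bot ⊤, by simp⟩
    | insert W K hWK ih =>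
      obtain ⟨F, hF, hle⟩ := ih
      refine ⟨_, Sections.isLocFG_sup_family (hS W) hF, fun W' hW' x => ?_⟩
      rcases Finset.mem_insert.mp hW' with rfl | h
      · exact le_sup_left
      · exact (hle W' h x).trans le_sup_right
  obtain ⟨F, hF, hle⟩ := hsup K
  haveI := isQCoh_subMod hF
  haveI : SheafOfModules.IsFiniteType (R := Y.ringCatSheaf) (subMod F) := isFT_subMod hF
  refine ⟨Basic.subAlg C (ι F), Basic.incl C (ι F), fun U => Basic.incl_injective C (ι F) U,
    fun U => Basic.finiteType_subAlg C (ι F) U.2, fun W hW b hb => ?_⟩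
  obtain ⟨g, hg⟩ := exists_ι_app (S := F) (t := t W ((T W).equivFin ⟨b, hb⟩))
    fun y hy => hle W hW y (hmem W _ y hy)
  refine Basic.mem_range_incl C (ι F) ?_
  have hb' : t W ((T W).equivFin ⟨b, hb⟩) = b := by simp [t]
  have hj : Basic.jm C (ι F) (W : Y.Opens) g = b := hg.trans hb'
  exact hj ▸ Basic.jm_mem_adj C (ι F) _ g

/-- The immersion criterion over one affine open of the base. -/
theorem exists_finset_chart {X Y : Scheme.{u}} (f : X ⟶ Y) [LocallyOfFiniteType f] [QuasiCompact f]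
    (C : RelSpec.QCAlg Y) (g : X ⟶ C.spec) [IsImmersion g] (hg : g ≫ C.π = f)
    {V : Y.Opens} (hV : IsAffineOpen V) :
    ∃ T : Finset (C.presheaf.obj (op V)), ∀ (C' : RelSpec.QCAlg Y) (φ : C' ⟶ C),
      (↑T : Set _) ⊆ Set.range (φ.hom.app (op V)).hom →
        IsImmersion ((g ≫ RelSpec.QCAlg.specMap φ) ∣_ (C'.π ⁻¹ᵁ V)) := by
  have hle : Set.range ((f ⁻¹ᵁ V).ι ≫ g) ⊆ Set.range (C.ι V hV) := by
    rintro _ ⟨z, rfl⟩
    have h : g ((f ⁻¹ᵁ V).ι z) ∈ C.π ⁻¹ᵁ V := by
      show C.π (g ((f ⁻¹ᵁ V).ι z)) ∈ V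
      rw [← Scheme.Hom.comp_apply, hg]
      exact z.2
    rw [RelSpec.QCAlg.π_preimage C V hV] at h
    rw [Scheme.Hom.comp_apply]
    exact h
  let u := IsOpenImmersion.lift (C.ι V hV) ((f ⁻¹ᵁ V).ι ≫ g) hle
  have hu : u ≫ C.ι V hV = (f ⁻¹ᵁ V).ι ≫ g := IsOpenImmersion.lift_fac _ _ hle
  haveI : IsImmersion (u ≫ C.ι V hV) := hu ▸ inferInstance
  haveI : IsImmersion u := IsImmersion.of_comp u (C.ι V hV)
  haveI : CompactSpace (f ⁻¹ᵁ V).toScheme :=
    isCompact_iff_compactSpace.mp (f.isCompact_preimage hV.isCompact)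
  haveI : LocallyOfFiniteType (u ≫ Spec.map (C.str.app (op V))) := by
    have h1 : (u ≫ Spec.map (C.str.app (op V))) ≫ hV.fromSpec = (f ⁻¹ᵁ V).ι ≫ f := by
      rw [Category.assoc, ← RelSpec.QCAlg.ι_π C V hV, ← Category.assoc, hu, Category.assoc, hg]
    haveI : LocallyOfFiniteType ((u ≫ Spec.map (C.str.app (op V))) ≫ hV.fromSpec) :=
      h1 ▸ inferInstance
    exact locallyOfFiniteType_of_comp _ hV.fromSpec
  obtain ⟨T, hT⟩ := Groth.Agent.Lib.ImmSubalg.exists_finset u (C.str.app (op V))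
  refine ⟨T, fun C' φ hsub => ?_⟩
  haveI := hT _ (φ.hom.app (op V)) (C'.str.app (op V))
    (by rw [← NatTrans.comp_app, φ.comm]) hsub
  have hpre : (g ≫ RelSpec.QCAlg.specMap φ) ⁻¹ᵁ (C'.π ⁻¹ᵁ V) = f ⁻¹ᵁ V := by
    rw [← Scheme.Hom.comp_preimage, Category.assoc, RelSpec.QCAlg.specMap_π, hg]
  have h2 : IsImmersion ((f ⁻¹ᵁ V).ι ≫ g ≫ RelSpec.QCAlg.specMap φ) := by
    rw [← Category.assoc, ← hu, Category.assoc, RelSpec.QCAlg.ι_specMap V hV φ, ← Category.assoc]
    infer_instance
  rw [← hpre, ← morphismRestrict_ι] at h2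
  exact IsImmersion.of_comp _ (C'.π ⁻¹ᵁ V).ι

end helpers

/-- Equivalence of a) and b): let Y be a quasi-compact quasi-separated scheme, f : X ⟶ Y a
quasi-separated morphism of finite type, C a quasi-coherent O_Y-algebra with relative spectrum
Spec(C) ⟶ Y, and g : X ⟶ Spec(C) a Y-morphism. The quasi-coherent sub-O_Y-algebras of C of finite
type form an increasing filtered family with union C; here such a sub-algebra is a quasi-coherent
O_Y-algebra C' with a homomorphism C' ⟶ C that is injective on sections over every open, and with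
C'(U) a finitely generated O_Y(U)-algebra for every affine open U of Y. Then g is an immersion if
and only if, for some quasi-coherent sub-algebra C' of C of finite type, the composite X ⟶ Spec(C) ⟶
Spec(C') is an immersion. -/
theorem result {X Y : Scheme.{u}}
    [CompactSpace Y] [QuasiSeparatedSpace Y]
    (f : X ⟶ Y) [LocallyOfFiniteType f] [QuasiCompact f] [QuasiSeparated f]
    (C : RelSpec.QCAlg Y) (g : X ⟶ C.spec) (hg : g ≫ C.π = f) :
    IsImmersion g ↔
      ∃ (C' : RelSpec.QCAlg Y) (φ : C' ⟶ C),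
        (∀ U : Y.Opens, Function.Injective (φ.hom.app (op U))) ∧
        (∀ U : Y.affineOpens, (C'.str.app (op (U : Y.Opens))).hom.FiniteType) ∧
        IsImmersion (g ≫ RelSpec.QCAlg.specMap φ) := by
  constructor
  · intro hI
    obtain ⟨s, hs, hcov⟩ := isCompact_and_isOpen_iff_finite_and_eq_biUnion_affineOpens.mp
      (⟨isCompact_univ, isOpen_univ⟩ : IsCompact (Set.univ : Set Y) ∧ IsOpen (Set.univ : Set Y))
    choose T hT using fun W : Y.affineOpens => exists_finset_chart f C g hg W.2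
    obtain ⟨C', φ, hinj, hft, hmem⟩ := exists_subalgebra C hs.toFinset T
    refine ⟨C', φ, hinj, hft, ?_⟩
    haveI : MorphismProperty.RespectsRight @IsImmersion.{u} @IsOpenImmersion.{u} :=
      ⟨fun i hi f hf => by
        haveI : IsOpenImmersion i := hi
        haveI : IsImmersion f := hf
        exact inferInstanceAs (IsImmersion (f ≫ i))⟩
    refine IsZariskiLocalAtTarget.of_range_subset_iSup (fun W : s => C'.π ⁻¹ᵁ (W.1 : Y.Opens))
      (fun y _ => ?_) fun W => hT W.1 C' φ (hmem W.1 (hs.mem_toFinset.mpr W.2))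
    obtain ⟨W, hW, hyW⟩ := Set.mem_iUnion₂.mp (hcov ▸ Set.mem_univ (C'.π y))
    exact TopologicalSpace.Opens.mem_iSup.mpr ⟨⟨W, hW⟩, hyW⟩
  · rintro ⟨C', φ, -, -, h⟩
    exact IsImmersion.of_comp g (RelSpec.QCAlg.specMap φ)

end Groth.Agent.S5877
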