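import Groth.Statements.S5886
import Groth.Agent.H47.ConsBasic
import Groth.Agent.H47.FiniteLocus
import Groth.Agent.Lib.AlgSpMor.AffineDescent

set_option autoImplicit false
universe u
open CategoryTheory AlgebraicGeometry
open ConsProp

namespace Groth.Agent.S5886

/-- The property of an algebraic k-scheme X of being finite over k is a constructible property of
algebraic schemes (invariant under extension of the base field; over an integral Noetherian base,
for a family of finite type, the set of points with finite fibre or its complement contains a
nonempty open subset). -/
theorem result :
    ConsProp.IsCons (fun Y T g => AlgebraicGeometry.IsFinite g) := by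
  refine ⟨fun Y Y' T T' g g' e h _ _ _ _ _ _ sq => ?_, fun X S u _ _ _ _ => ?_⟩
  · have : Surjective h := Groth.Agent.H47.ConsBasic.surjective_of_subsingleton h
    let _ := (isField_of_isIntegral_of_subsingleton T).toField
    have : Flat h := inferInstance
    have : QuasiCompact h := inferInstance
    exact ⟨fun hg => MorphismProperty.of_isPullback sq hg, fun hg =>
      MorphismProperty.of_isPullback_of_descendsAlong (P := @IsFinite)
        (Q := @Surjective ⊓ @Flat ⊓ @QuasiCompact) sq.flip
        ⟨⟨inferInstance, inferInstance⟩, inferInstance⟩ hg⟩
  · rw [Groth.Agent.H47.ConsBasic.locus_eq @IsFinite u]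
    have : LocallyOfFinitePresentation u :=
      LocallyOfFinitePresentation.iff_locallyOfFiniteType.2 inferInstance
    have : IsLocallyNoetherian X := LocallyOfFiniteType.isLocallyNoetherian u
    have : QuasiSeparated u := inferInstance
    exact Groth.Agent.H47.ConsBasic.dichotomy
      (Groth.Agent.H47.FiniteLocus.isLocallyConstructible_isFinite u (𝟙 S))

end Groth.Agent.S5886
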