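import Groth.Statements.S5887
import Groth.Agent.H47.ConsBasic
import Groth.Agent.H47.SurjLocus

set_option autoImplicit false
universe u
open CategoryTheory AlgebraicGeometry
open ConsProp

namespace Groth.Agent.S5887

/-- The property of an algebraic k-scheme X of being radicial over k (structure morphism universally
injective) is a constructible property of algebraic schemes. -/
theorem result :
    ConsProp.IsCons (fun Y T g => AlgebraicGeometry.UniversallyInjective g) := by
  refine ⟨fun Y Y' T T' g g' e h _ _ _ _ _ _ sq => ?_, fun X S u _ _ _ _ => ?_⟩
  · have : Surjective h := Groth.Agent.H47.ConsBasic.surjective_of_subsingleton h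
    exact Groth.Agent.H47.ConsBasic.universallyInjective_iff_of_surjective sq
  · rw [Groth.Agent.H47.ConsBasic.locus_eq @UniversallyInjective u]
    have : LocallyOfFinitePresentation u := inferInstance
    have : IsLocallyNoetherian X := LocallyOfFiniteType.isLocallyNoetherian u
    have : QuasiSeparated u := inferInstance
    exact Groth.Agent.H47.ConsBasic.dichotomy
      (Groth.Agent.H47.SurjLocus.isLocallyConstructible_universallyInjective u (𝟙 S))

end Groth.Agent.S5887
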