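import Groth.Statements.S5889
import Groth.Agent.H47.QFLocus
import Groth.Agent.H47.ConsBasic

set_option autoImplicit false
universe u
open CategoryTheory AlgebraicGeometry
open ConsProp

namespace Groth.Agent.S5889

/-- Being quasi-finite (locally of finite type, quasi-compact, with discrete fibres) is a constructible
property of morphisms of algebraic schemes. -/
theorem result :
    ConsProp.IsConsMor
      (fun X Y T f g => AlgebraicGeometry.LocallyOfFiniteType f ∧ AlgebraicGeometry.QuasiCompact f ∧
        AlgebraicGeometry.LocallyQuasiFinite f) := by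
  refine ⟨fun X X' Y Y' T T' f g f' g' eX eY h _ _ _ _ _ _ _ _ sqY sqX => ?_,
    fun X Y S f g _ _ _ _ _ _ => ?_⟩
  · have : Surjective h := Groth.Agent.H47.ConsBasic.surjective_of_subsingleton h
    have : Surjective eY := MorphismProperty.of_isPullback sqY.flip inferInstance
    have : Surjective eX := MorphismProperty.of_isPullback sqX.flip inferInstance
    refine ⟨fun ⟨h1, h2, h3⟩ => ⟨MorphismProperty.of_isPullback sqX h1,
      MorphismProperty.of_isPullback sqX h2, MorphismProperty.of_isPullback sqX h3⟩,
      fun ⟨h1, h2, h3⟩ => ?_⟩
    have hft : LocallyOfFiniteType f := locallyOfFiniteType_of_comp f g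
    have : IsNoetherianRing Γ(T, ⊤) := by
      letI := (isField_of_isIntegral_of_subsingleton T).toField
      infer_instance
    have : IsLocallyNoetherian T := isLocallyNoetherian_of_isOpenImmersion T.isoSpec.hom
    have : IsLocallyNoetherian Y := LocallyOfFiniteType.isLocallyNoetherian g
    refine ⟨hft, QuasiCompact.of_comp f g, ?_⟩
    rw [← Scheme.Hom.quasiFiniteLocus_eq_top_iff]
    refine top_le_iff.mp fun x _ => ?_
    obtain ⟨x', rfl⟩ := eX.surjective x
    exact Groth.Agent.H47.LQFDescend.quasiFiniteAt_of_isPullback sqX (f'.quasiFiniteAt x')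
  · have : IsLocallyNoetherian Y := LocallyOfFiniteType.isLocallyNoetherian g
    have : LocallyOfFiniteType f := locallyOfFiniteType_of_comp f g
    have : IsLocallyNoetherian X := LocallyOfFiniteType.isLocallyNoetherian f
    have : QuasiSeparated g := inferInstance
    have : LocallyOfFinitePresentation f :=
      LocallyOfFinitePresentation.iff_locallyOfFiniteType.2 inferInstance
    have : LocallyOfFinitePresentation g :=
      LocallyOfFinitePresentation.iff_locallyOfFiniteType.2 inferInstance
    have : QuasiCompact f := QuasiCompact.of_comp f g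
    have e : ConsProp.locusMor (fun X Y T f g => AlgebraicGeometry.LocallyOfFiniteType f ∧
        AlgebraicGeometry.QuasiCompact f ∧ AlgebraicGeometry.LocallyQuasiFinite f) f g =
        {s | LocallyQuasiFinite (Groth.Agent.H47.FibreLocus.bcMap f g (S.fromSpecResidueField s))} := by
      ext s
      refine Iff.trans (Groth.Agent.H47.FibreLocus.fibreMap_iff f g
        (@LocallyOfFiniteType ⊓ (@QuasiCompact ⊓ @LocallyQuasiFinite)) _) ?_
      exact ⟨fun h => h.2.2, fun h => ⟨MorphismProperty.pullback_snd _ _ inferInstance,
        MorphismProperty.pullback_snd _ _ inferInstance, h⟩⟩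
    rw [e]
    exact Groth.Agent.H47.ConsBasic.dichotomy
      (Groth.Agent.H47.QFLocus.isLocallyConstructible_locallyQuasiFinite f g)

end Groth.Agent.S5889
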