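import Groth.Statements.S5890
import Groth.Agent.H47.ConsBasic
import Groth.Agent.H47.SurjLocus

set_option autoImplicit false
universe u
open CategoryTheory AlgebraicGeometry
open ConsProp

namespace Groth.Agent.S5890

/-- Being radicial (universally injective) is a constructible property of morphisms of algebraic
schemes. -/
theorem result :
    ConsProp.IsConsMor (fun X Y T f g => AlgebraicGeometry.UniversallyInjective f) := by
  refine ⟨fun X X' Y Y' T T' f g f' g' eX eY h _ _ _ _ _ _ _ _ sqY sqX => ?_,
    fun X Y S f g _ _ _ _ _ _ => ?_⟩
  · have : Surjective h := Groth.Agent.H47.ConsBasic.surjective_of_subsingleton h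
    have : Surjective eY := MorphismProperty.of_isPullback sqY.flip inferInstance
    exact Groth.Agent.H47.ConsBasic.universallyInjective_iff_of_surjective sqX
  · rw [Groth.Agent.H47.ConsBasic.locusMor_eq @UniversallyInjective f g]
    have : IsLocallyNoetherian Y := LocallyOfFiniteType.isLocallyNoetherian g
    have : LocallyOfFiniteType f := locallyOfFiniteType_of_comp f g
    have : IsLocallyNoetherian X := LocallyOfFiniteType.isLocallyNoetherian f
    have : QuasiSeparated g := inferInstance
    have : LocallyOfFinitePresentation f :=
      LocallyOfFinitePresentation.iff_locallyOfFiniteType.2 inferInstance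
    have : LocallyOfFinitePresentation g :=
      LocallyOfFinitePresentation.iff_locallyOfFiniteType.2 inferInstance
    have : QuasiCompact f := QuasiCompact.of_comp f g
    exact Groth.Agent.H47.ConsBasic.dichotomy
      (Groth.Agent.H47.SurjLocus.isLocallyConstructible_universallyInjective f g)

end Groth.Agent.S5890
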