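import Groth.Statements.S5895
import Groth.Agent.H47.PairProp
import Groth.Agent.H47.LimDescend
import Groth.Agent.Lib.Lim.Valuative
import Groth.Agent.Lib.Lim.OpenImm

set_option autoImplicit false
universe u
open CategoryTheory AlgebraicGeometry
open ConsPropPair

namespace Groth.Agent.S5895

/-- Case of the property of being an open immersion: let P(X, Y, k) be the relation between a field k
and two algebraic k-schemes X, Y: there are an extension field k′ of k (a one-point integral scheme
T′ over T = Spec k) and a k′-morphism g : X_(k′) ⟶ Y_(k′) between the base changes (cartesian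
squares over T′ ⟶ T) which is an open immersion. Then P is an ind-constructible property of pairs of
algebraic schemes. -/
theorem result :
    ConsPropPair.IsIndConsPair
      (fun X Y T gX gY => ∃ (T' X' Y' : Scheme.{u}) (h : T' ⟶ T) (gX' : X' ⟶ T') (gY' : Y' ⟶ T')
        (eX : X' ⟶ X) (eY : Y' ⟶ Y), IsIntegral T' ∧ Subsingleton ↥T' ∧
          IsPullback eX gX' gX h ∧ IsPullback eY gY' gY h ∧
            ∃ g : X' ⟶ Y', g ≫ gY' = gX' ∧ AlgebraicGeometry.IsOpenImmersion g) := by
  exact Groth.Agent.H47.PairProp.isIndConsPair_rel (Pr := @IsOpenImmersion) Groth.Agent.Lib.Lim.OpenImm.isOpenImmersion_descends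
    (fun f _ _ _ => by first | exact trivial | assumption | infer_instance)

end Groth.Agent.S5895
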