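import Groth.Statements.S5903
import Groth.Agent.H47.PairProp
import Groth.Agent.H47.LQFDescend

set_option autoImplicit false
universe u
open CategoryTheory AlgebraicGeometry
open ConsPropPair

namespace Groth.Agent.S5903

/-- Case of the property of being quasi-finite: let P(X, Y, k) be the relation between a field k and two
algebraic k-schemes X, Y: there are an extension field k′ of k (a one-point integral scheme T′ over
T = Spec k) and a k′-morphism g : X_(k′) ⟶ Y_(k′) between the base changes (cartesian squares over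
T′ ⟶ T) which is quasi-finite (locally of finite type, quasi-compact, with discrete fibres). Then P
is an ind-constructible property of pairs of algebraic schemes. -/
theorem result :
    ConsPropPair.IsIndConsPair
      (fun X Y T gX gY => ∃ (T' X' Y' : Scheme.{u}) (h : T' ⟶ T) (gX' : X' ⟶ T') (gY' : Y' ⟶ T')
        (eX : X' ⟶ X) (eY : Y' ⟶ Y), IsIntegral T' ∧ Subsingleton ↥T' ∧
          IsPullback eX gX' gX h ∧ IsPullback eY gY' gY h ∧
            ∃ g : X' ⟶ Y', g ≫ gY' = gX' ∧ (AlgebraicGeometry.LocallyOfFiniteType g ∧ AlgebraicGeometry.QuasiCompact g ∧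
              AlgebraicGeometry.LocallyQuasiFinite g)) := by
  refine Groth.Agent.H47.PairProp.isIndConsPair_rel
    (Pr := @LocallyOfFiniteType ⊓ (@QuasiCompact ⊓ @LocallyQuasiFinite))
    (Q := @LocallyOfFiniteType ⊓ @QuasiCompact) ?_ (fun f _ _ _ => ⟨inferInstance, inferInstance⟩)
  intro I _ _ D c hc hD i₀ hcD hqD X₀ f₀ hcX hqX hQ X f qX hX hP
  obtain ⟨i, φ, hi⟩ := Groth.Agent.H47.LQFDescend.locallyQuasiFinite_descends D c hc hD i₀ hcD hqD
    f₀ hcX hqX hQ.1 f qX hX hP.2.2
  exact ⟨i, φ, MorphismProperty.pullback_snd _ _ hQ.1, MorphismProperty.pullback_snd _ _ hQ.2, hi⟩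

end Groth.Agent.S5903
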