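import Groth.Statements.S5910
import Groth.Agent.Lib.SchDom.Sep
import Groth.Agent.Lib.SchDom.Nilpotent
import Groth.Agent.H47.FlatKernelScheme
-- import your own Groth.Agent.* helpers here

set_option autoImplicit false
universe u
open CategoryTheory AlgebraicGeometry
open TensorProduct
open EGA43

namespace Groth.Agent.S5910

open AlgebraicGeometry CategoryTheory Lib.SchDom
set_option linter.style.haveILetI false

open CategoryTheory.Limits in
/-- Separating assertion: over an affine base and in the case Z_λ = X: let A be a commutative ring, p :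
X ⟶ Spec A an A-scheme, F a quasi-coherent O_X-module, (G_i) quasi-coherent O_X-modules flat over
Spec A and u_i : F ⟶ G_i homomorphisms. Let J be a nilpotent ideal of A all of whose successive
quotients J^k/J^{k+1} are free (A/J)-modules, and X₀ = X ×_{Spec A} Spec(A/J). If the family of
pullbacks of the u_i to X₀ is separating (a section of the pulled-back F over an open subset killed
by every member is zero), then (u_i) is separating. (The published statement has an arbitrary base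
S, a nilpotent quasi-coherent ideal of O_S whose successive quotients are locally free over O_S
modulo the ideal, homomorphisms into direct images (f_λ)_*G_λ, and the same assertion for
universally separating families; the assertion is local on S and on X, and this row is the case of
an affine base with free successive quotients and Z_λ = X.) -/
theorem result {X : Scheme.{u}} (A : CommRingCat.{u}) (p : X ⟶ Spec A)
    (J : Ideal ↑A) (hJ : IsNilpotent J) (hfree : ∀ k : ℕ, Module.Free (↑A ⧸ J) ((↑A ⧸ J) ⊗[↑A] ↥(J ^ k)))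
    (F : X.Modules) [Coh.IsQCoh F] {ι : Type u} (G : ι → X.Modules) [∀ i, Coh.IsQCoh (G i)]
    (hG : ∀ i, FlatMod.IsFlatOver p (G i)) (u : ∀ i, F ⟶ G i)
    (h0 : ∀ (V : (pullback p (Spec.map (CommRingCat.ofHom (Ideal.Quotient.mk J)))).Opens) (t : ↑(((Scheme.Modules.pullback (pullback.fst p (Spec.map (CommRingCat.ofHom (Ideal.Quotient.mk J))))).obj F).presheaf.obj (Opposite.op V))), (∀ i, (Scheme.Modules.Hom.mapPresheaf ((Scheme.Modules.pullback (pullback.fst p (Spec.map (CommRingCat.ofHom (Ideal.Quotient.mk J))))).map (u i))).app (Opposite.op V) t = 0) → t = 0) :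
    ∀ (V : (X).Opens) (t : ↑((F).presheaf.obj (Opposite.op V))), (∀ i, (Scheme.Modules.Hom.mapPresheaf (u i)).app (Opposite.op V) t = 0) → t = 0 := by
  haveI : F.IsQuasicoherent := ‹Coh.IsQCoh F›
  haveI : ∀ i, (G i).IsQuasicoherent := fun i => ‹∀ i, Coh.IsQCoh (G i)› i
  refine sep_of_injLoc u fun x => ?_
  obtain ⟨V, hV, hxV, -⟩ := exists_isAffineOpen_mem_and_subset (x := x) (U := ⊤) trivial
  refine ⟨V, hV, hxV, ?_⟩
  have hA : IsAffineOpen (⊤ : (Spec A).Opens) := isAffineOpen_top _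
  have hB : IsAffineOpen (⊤ : (Spec (CommRingCat.of (↑A ⧸ J))).Opens) := isAffineOpen_top _
  have eV : V ≤ p ⁻¹ᵁ ⊤ := fun _ _ => trivial
  have eB : (⊤ : (Spec (CommRingCat.of (↑A ⧸ J))).Opens) ≤
      Spec.map (CommRingCat.ofHom (Ideal.Quotient.mk J)) ⁻¹ᵁ ⊤ := fun _ _ => trivial
  have hc := chartSep_of_sep p _ u h0 hA hV hB eV eB
  unfold ChartSep at hc
  letI := (p.appLE ⊤ V eV).hom.toAlgebra
  letI := ((Spec.map (CommRingCat.ofHom (Ideal.Quotient.mk J))).appLE ⊤ ⊤ eB).hom.toAlgebra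
  letI := ((Scheme.ΓSpecIso A).inv).hom.toAlgebra
  letI : Algebra ↑A Γ(X, V) := ((p.appLE ⊤ V eV).hom.comp (Scheme.ΓSpecIso A).inv.hom).toAlgebra
  haveI : IsScalarTower ↑A Γ(Spec A, ⊤) Γ(X, V) := IsScalarTower.of_algebraMap_eq fun _ => rfl
  letI : Module ↑A Γ(F, V) := Module.compHom _ (algebraMap ↑A Γ(X, V))
  haveI : IsScalarTower ↑A Γ(X, V) Γ(F, V) := IsScalarTower.of_algebraMap_smul fun _ _ => rfl
  letI : ∀ i, Module Γ(Spec A, ⊤) Γ(G i, V) := fun i => Module.compHom _ (p.appLE ⊤ V eV).hom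
  haveI : ∀ i, IsScalarTower Γ(Spec A, ⊤) Γ(X, V) Γ(G i, V) := fun i =>
    IsScalarTower.of_algebraMap_smul fun _ _ => rfl
  letI : ∀ i, Module ↑A Γ(G i, V) := fun i => Module.compHom _ (algebraMap ↑A Γ(X, V))
  haveI : ∀ i, IsScalarTower ↑A Γ(X, V) Γ(G i, V) := fun i => IsScalarTower.of_algebraMap_smul fun _ _ => rfl
  haveI : ∀ i, IsScalarTower ↑A Γ(Spec A, ⊤) Γ(G i, V) := fun i =>
    IsScalarTower.of_algebraMap_smul fun _ _ => rfl
  haveI : Module.Flat ↑A Γ(Spec A, ⊤) := RingHom.Flat.of_bijective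
    (Scheme.ΓSpecIso A).commRingCatIsoToRingEquiv.symm.bijective
  haveI : ∀ i, Module.Flat ↑A Γ(G i, V) := fun i =>
    haveI : Module.Flat Γ(Spec A, ⊤) Γ(G i, V) := H47.FlatKernelScheme.flat_sections p (G i) hA hV eV (hG i)
    Module.Flat.trans ↑A Γ(Spec A, ⊤) Γ(G i, V)
  refine injLoc_of_nilpotent J hJ hfree _ ?_
  letI : Algebra Γ(Spec A, ⊤) (↑A ⧸ J) := ((Ideal.Quotient.mk J).comp (Scheme.ΓSpecIso A).hom.hom).toAlgebra
  haveI : IsScalarTower ↑A Γ(Spec A, ⊤) (↑A ⧸ J) := IsScalarTower.of_algebraMap_eq fun a =>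
    (congrArg (Ideal.Quotient.mk J) ((Scheme.ΓSpecIso A).commRingCatIsoToRingEquiv.apply_symm_apply a)).symm
  let e : Γ(Spec (CommRingCat.of (↑A ⧸ J)), ⊤) ≃ₐ[Γ(Spec A, ⊤)] (↑A ⧸ J) :=
    AlgEquiv.ofRingEquiv (f := (Scheme.ΓSpecIso (CommRingCat.of (↑A ⧸ J))).commRingCatIsoToRingEquiv) fun r => by
      have h1 := congrArg (fun f => f.hom r) (Scheme.ΓSpecIso_naturality (CommRingCat.ofHom (Ideal.Quotient.mk J)))
      rw [show (Spec.map (CommRingCat.ofHom (Ideal.Quotient.mk J))).appTop = (Spec.map (CommRingCat.ofHom (Ideal.Quotient.mk J))).appLE ⊤ ⊤ eB from (Scheme.Hom.appLE_eq_app _).symm] at h1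
      exact h1
  have hsurj : Function.Surjective (algebraMap ↑A Γ(Spec A, ⊤)) :=
    (Scheme.ΓSpecIso A).commRingCatIsoToRingEquiv.symm.surjective
  haveI : TensorProduct.CompatibleSMul ↑A Γ(Spec A, ⊤) Γ(X, V) (↑A ⧸ J) :=
    ⟨fun r m n => by obtain ⟨a, rfl⟩ := hsurj r; rw [algebraMap_smul, algebraMap_smul, TensorProduct.smul_tmul]⟩
  exact hc.of_algEquiv ((Algebra.TensorProduct.congr AlgEquiv.refl e).trans
    (Algebra.TensorProduct.equivOfCompatibleSMul ↑A Γ(Spec A, ⊤) Γ(X, V) Γ(X, V) (↑A ⧸ J)))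

end Groth.Agent.S5910
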