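import Groth.Statements.S5912
import Groth.Agent.H47.FlatAdic
import Mathlib.RingTheory.Noetherian.Basic
import Mathlib.RingTheory.Ideal.Quotient.Noetherian

set_option autoImplicit false
universe u
open TensorProduct
open EGA43

namespace Groth.Agent.S5912

/-- Let A be a Noetherian ring, J an ideal of A and M an A-module which is ideally separated for the
J-adic topology (for every ideal a of A the module a ⊗_A M is J-adically separated), and suppose
every quotient J^k/J^{k+1} is a flat (A/J)-module (the associated graded ring of A along J is flat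
over A/J). Then M is flat if and only if (A/J) ⊗_A M is flat over A/J and M_p is flat over A_p for
every associated prime p of the A-module A/J. -/
theorem result {A : Type u} [CommRing A] [IsNoetherianRing A]
    (J : Ideal A) (M : Type u) [AddCommGroup M] [Module A M]
    (hsep : ∀ a : Ideal A, IsHausdorff J (↥a ⊗[A] M))
    (hgr : ∀ k : ℕ, Module.Flat (A ⧸ J) ((A ⧸ J) ⊗[A] ↥(J ^ k))) :
    Module.Flat A M ↔
      Module.Flat (A ⧸ J) ((A ⧸ J) ⊗[A] M) ∧
        ∀ q : associatedPrimes A (A ⧸ J),
          haveI : q.1.IsPrime := IsAssociatedPrime.isPrime q.2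
          Module.Flat (Localization.AtPrime q.1) (LocalizedModule q.1.primeCompl M) := by
  classical
  constructor
  · intro h
    exact ⟨inferInstance, fun p ↦
      haveI : p.1.IsPrime := IsAssociatedPrime.isPrime p.2
      Groth.Agent.H47.FlatAdic.flat_localizedModule p.1⟩
  rintro ⟨hJM, hloc⟩
  have := (associatedPrimes.finite A (A ⧸ J)).to_subtype
  haveI : ∀ p : associatedPrimes A (A ⧸ J), p.1.IsPrime := fun p ↦ IsAssociatedPrime.isPrime p.2
  refine Groth.Agent.H47.FlatAdic.flat_of_hausdorff J hsep fun n ↦ ?_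
  refine Groth.Agent.H47.FlatAdic.flat_quotient_of_localizations (M := M) J (J ^ n) ⟨n, le_rfl⟩
    (fun q : associatedPrimes A (A ⧸ J) ↦ q.1) hloc fun a ha ↦ ?_
  have hu : ∀ q : associatedPrimes A (A ⧸ J), ∃ u, u ∉ q.1 ∧ u * a ∈ J ^ n := fun q ↦ by
    obtain ⟨u, hu, h⟩ := (IsLocalization.algebraMap_mem_map_algebraMap_iff q.1.primeCompl
      (Localization.AtPrime q.1) _ a).1 (ha q)
    exact ⟨u, hu, h⟩
  have key : ∀ k, k ≤ n → a ∈ J ^ k := by
    intro k
    induction k with
    | zero => simp
    | succ k ih =>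
      intro hk
      have hak := ih (by omega)
      have := hgr k
      have hz : (1 : A ⧸ J) ⊗ₜ[A] (⟨a, hak⟩ : ↥(J ^ k)) = 0 := by
        refine Groth.Agent.H47.FlatAdic.eq_zero_of_forall_associatedPrimes (R := A ⧸ J) _ fun q hq ↦ ?_
        have hqp := hq.isPrime
        have hq' : q.comap (Ideal.Quotient.mk J) ∈ associatedPrimes A (A ⧸ J) := by
          have := Ideal.IsPrime.comap (Ideal.Quotient.mk J) (K := q)
          obtain ⟨hqp', w, hw⟩ := hq
          refine ⟨this, w, ?_⟩
          rw [hw, Ideal.comap_radical]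
          congr 1
        obtain ⟨u, hu1, hu2⟩ := hu ⟨_, hq'⟩
        refine ⟨Ideal.Quotient.mk J u, hu1, ?_⟩
        rw [TensorProduct.smul_tmul', smul_eq_mul, mul_one, ← Ideal.Quotient.algebraMap_eq,
          Algebra.algebraMap_eq_smul_one, TensorProduct.smul_tmul]
        have h1 : u • (⟨a, hak⟩ : ↥(J ^ k)) ∈ J • (⊤ : Submodule A ↥(J ^ k)) := by
          rw [Submodule.mem_smul_top_iff]
          show u * a ∈ J • (J ^ k : Ideal A)
          rw [smul_eq_mul, ← pow_succ']
          exact Ideal.pow_le_pow_right hk hu2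
        have h2 : ((1 : A ⧸ J) ⊗ₜ[A] (u • (⟨a, hak⟩ : ↥(J ^ k)))) = 0 := by
          rw [← (TensorProduct.quotTensorEquivQuotSMul ↥(J ^ k) J).map_eq_zero_iff, ← map_one (Ideal.Quotient.mk J),
            TensorProduct.quotTensorEquivQuotSMul_mk_tmul, one_smul]
          exact (Submodule.Quotient.mk_eq_zero _).2 h1
        exact h2
      rw [← (TensorProduct.quotTensorEquivQuotSMul ↥(J ^ k) J).map_eq_zero_iff, ← map_one (Ideal.Quotient.mk J),
        TensorProduct.quotTensorEquivQuotSMul_mk_tmul, one_smul, Submodule.Quotient.mk_eq_zero,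
        Submodule.mem_smul_top_iff] at hz
      rw [pow_succ']
      exact hz
  exact key n le_rfl

end Groth.Agent.S5912
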