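import Groth.Statements.S5913
import Groth.Agent.H47.SemiLocal
import Mathlib.AlgebraicGeometry.Morphisms.Immersion

set_option autoImplicit false
universe u
open CategoryTheory AlgebraicGeometry
open EGA43

namespace Groth.Agent.S5913

/-- In the locally Noetherian form: a locally Noetherian scheme X is Jacobson if and only if it has no
subscheme isomorphic to the spectrum of a semi-local integral domain of dimension 1, i.e. there is
no immersion Spec R ⟶ X with R an integral domain having finitely many maximal ideals and Krull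
dimension 1. -/
theorem result (X : Scheme.{u}) [IsLocallyNoetherian X] :
    JacobsonSpace X ↔
      ∀ (R : CommRingCat.{u}) [IsDomain R] (i : Spec R ⟶ X) [IsImmersion i],
        ¬ (Finite (MaximalSpectrum R) ∧ ringKrullDim R = 1) := by
  constructor
  · rintro h R _ i _ ⟨hfin, hdim⟩
    have hJ : JacobsonSpace (Spec R) := by
      rw [jacobsonSpace_iff_locallyClosed]
      intro S hne hS
      have he := i.isEmbedding
      obtain ⟨y, ⟨x, hx, rfl⟩, hy⟩ := nonempty_inter_closedPoints (hne.image i)
        (hS.image he.isInducing i.isLocallyClosed_range)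
      refine ⟨x, hx, ?_⟩
      have := IsClosed.preimage i.continuous hy
      rwa [← Set.image_singleton, he.injective.preimage_image] at this
    have : IsJacobsonRing R := PrimeSpectrum.isJacobsonRing_iff_jacobsonSpace.2 hJ
    exact Groth.Agent.H47.SemiLocal.not_semilocal_dim_one hdim
  · intro h
    rw [jacobsonSpace_iff_locallyClosed]
    intro S hne hS
    obtain ⟨q, hq, hql⟩ := Groth.Agent.H47.GDomain.exists_locallyClosed_point_scheme hS hne
    refine ⟨q, hq, by_contra fun hnc ↦ ?_⟩
    obtain ⟨w, hqw, hne'⟩ : ∃ w, q ⤳ w ∧ q ≠ w := by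
      by_contra hc
      push_neg at hc
      refine hnc ?_
      have : ({q} : Set X) = closure {q} := Set.Subset.antisymm subset_closure fun w hw ↦
        (hc w (specializes_iff_mem_closure.2 hw)).symm
      rw [mem_closedPoints_iff, this]
      exact isClosed_closure
    obtain ⟨_, ⟨U, hU, rfl⟩, hwU, -⟩ :=
      X.isBasis_affineOpens.exists_subset_of_mem_open (Set.mem_univ w) isOpen_univ
    have : IsNoetherianRing Γ(X, U) := IsLocallyNoetherian.component_noetherian ⟨U, hU⟩
    have := hU.isOpenImmersion_fromSpec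
    have he := hU.fromSpec.isOpenEmbedding
    obtain ⟨q', hq'⟩ : q ∈ Set.range hU.fromSpec := by
      rw [hU.range_fromSpec]; exact hqw.mem_open U.isOpen hwU
    obtain ⟨w', hw'⟩ : w ∈ Set.range hU.fromSpec := by rwa [hU.range_fromSpec]
    subst hq' hw'
    have hlc : IsLocallyClosed ({q'} : Set (PrimeSpectrum Γ(X, U))) := by
      have := hql.preimage he.continuous
      rwa [← Set.image_singleton, he.injective.preimage_image] at this
    obtain ⟨f, hf, hf'⟩ := Groth.Agent.H47.GDomain.exists_f_of_isLocallyClosed_singleton q' hlc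
    have := q'.2
    obtain ⟨h1, h2, -⟩ := Groth.Agent.H47.GDomain.exists_quot q'.asIdeal hf hf'
    let π : Γ(X, U) ⟶ CommRingCat.of (Γ(X, U) ⧸ q'.asIdeal) :=
      CommRingCat.ofHom (Ideal.Quotient.mk q'.asIdeal)
    have : IsClosedImmersion (Spec.map π) := IsClosedImmersion.spec_of_surjective π Ideal.Quotient.mk_surjective
    have : IsDomain (CommRingCat.of (Γ(X, U) ⧸ q'.asIdeal)) := inferInstanceAs (IsDomain (Γ(X, U) ⧸ q'.asIdeal))
    refine h (CommRingCat.of (Γ(X, U) ⧸ q'.asIdeal)) (Spec.map π ≫ hU.fromSpec)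
      ⟨Finite.of_injective (α := MaximalSpectrum (Γ(X, U) ⧸ q'.asIdeal)) MaximalSpectrum.toPrimeSpectrum
        MaximalSpectrum.toPrimeSpectrum_injective, ?_⟩
    have : Ring.KrullDimLE 1 (Γ(X, U) ⧸ q'.asIdeal) := Groth.Agent.H47.SemiLocal.dim_le_one
      (Groth.Agent.H47.GDomain.key_domain (f := Ideal.Quotient.mk q'.asIdeal f)
        (fun e ↦ hf (Ideal.Quotient.eq_zero_iff_mem.1 e)) fun P hP hPb ↦ by
          refine hf' (P.comap (Ideal.Quotient.mk _)) (hP.comap _) (lt_of_le_of_ne ?_ fun e ↦ hPb ?_)
          · exact fun a ha ↦ by simp [Ideal.mem_comap, Ideal.Quotient.eq_zero_iff_mem.2 ha]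
          · rw [← Ideal.map_comap_of_surjective _ Ideal.Quotient.mk_surjective P, ← e, Ideal.map_quotient_self]).1
    refine Groth.Agent.H47.SemiLocal.dim_eq_one (B := Γ(X, U) ⧸ q'.asIdeal) fun hfield ↦ ?_
    have hm : q'.asIdeal.IsMaximal := Ideal.Quotient.maximal_of_isField _ hfield
    refine hne' (congrArg hU.fromSpec (PrimeSpectrum.ext ?_))
    exact hm.eq_of_le w'.2.ne_top ((PrimeSpectrum.le_iff_specializes _ _).2 (he.isInducing.specializes_iff.1 hqw))

end Groth.Agent.S5913
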