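import Groth.Statements.S5914
import Groth.Agent.H46.FibreProf.StrataCons
import Groth.Agent.H46.FibreProf.Equidim
import Groth.Agent.H46.FibreProf.Unit
-- import your own Groth.Agent.* helpers here

set_option autoImplicit false
universe u
open CategoryTheory AlgebraicGeometry
open EGA43

namespace Groth.Agent.S5914

open Groth.Agent.H46.FibreProf Groth.Agent.H46.FibreProf.Basic Groth.Agent.H46.FibreProf.Open in
/-- Let f : X ⟶ S be locally of finite presentation and F a quasi-coherent O_X-module of finite
presentation. For x in X with s = f x write F_s for the pullback of F to the fibre X_s and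
prof*_x(F_s) = prof((F_s)_x) + dim cl_{X_s}{x} for its rectified depth at x (depth of the stalk of
F_s at x over the local ring of the fibre, which is +∞ for the zero stalk, plus the Krull dimension
of the closure of x in the fibre). Then the function x ↦ prof*_x(F_{f(x)}) is locally constructible:
for every n in ℕ∞ the set of x with prof*_x(F_{f(x)}) = n is a locally constructible subset of X.
(The published statement calls the function constructible and takes its hypotheses from a
neighbouring result stated without a module; the hypotheses here, f locally of finite presentation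
and F quasi-coherent of finite presentation, are the ones its proof uses, and local constructibility
of the level sets is what that proof establishes.) -/
theorem result {X S : Scheme.{u}} (f : X ⟶ S) [LocallyOfFinitePresentation f]
    (F : X.Modules) [Coh.IsQCoh F] (hF : CohB1.IsFP F) (n : ℕ∞) :
    Topology.IsLocallyConstructible {x : X |
      ((CInt.fiberDepth f F x : ℕ∞) : WithBot ℕ∞) +
          topologicalKrullDim ↥(closure ({f.asFiber x} : Set ↥(f.fiber (f.base x)))) = ((n : ℕ∞) : WithBot ℕ∞)} := by
  haveI := hF
  haveI := Groth.Agent.H26.FreeCrit.isQuasicoherent_of_isFP hF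
  have hc := StrataCons.isLocallyConstructible_le_psi f F hF
  have key : ∀ x : X, (((CInt.fiberDepth f F x : ℕ∞) : WithBot ℕ∞) +
      topologicalKrullDim ↥(closure ({f.asFiber x} : Set ↥(f.fiber (f.base x)))) = ((n : ℕ∞) : WithBot ℕ∞)) ↔
      psi f F x = n := by
    intro x
    rw [Equidim.dim_closure, f.fiberι_asFiber]
    exact WithBot.coe_eq_coe
  cases n using ENat.recTopCoe with
  | top =>
    convert Groth.Agent.Lib.ProCons45.Basic.isLocallyConstructible_compl
      (Cons.isLocallyConstructible_support F hF) using 1
    ext x
    exact (key x).trans (psi_eq_top_iff f F x)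
  | coe m =>
    convert (hc m).inter (Groth.Agent.Lib.ProCons45.Basic.isLocallyConstructible_compl (hc (m + 1)))
      using 1
    ext x
    refine (key x).trans ?_
    show psi f F x = (m : ℕ∞) ↔ (m : ℕ∞) ≤ psi f F x ∧ ¬ ((m + 1 : ℕ) : ℕ∞) ≤ psi f F x
    constructor
    · intro h
      rw [h]
      exact ⟨le_rfl, fun h' => by
        have : m + 1 ≤ m := by exact_mod_cast h'
        omega⟩
    · rintro ⟨h1, h2⟩
      obtain ⟨p, hp⟩ := ENat.ne_top_iff_exists.1 (ne_top_of_lt (not_le.1 h2))
      rw [← hp] at h1 h2 ⊢
      have h3 : m ≤ p := by exact_mod_cast h1
      have h4 : ¬ m + 1 ≤ p := fun h => h2 (by exact_mod_cast h)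
      exact_mod_cast (by omega : p = m)

end Groth.Agent.S5914
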