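import Groth.Statements.S5915
import Groth.Agent.H47.FiniteInj
import Groth.Agent.H47.ArtinCases
import Groth.Agent.Lib.Flat55.FlatOverAt

set_option autoImplicit false
universe u
open CategoryTheory AlgebraicGeometry
open EGA43

namespace Groth.Agent.S5915

open CategoryTheory.Limits in
/-- Let Y be locally Noetherian, f : X ⟶ Y locally of finite type, F a coherent O_X-module, x a point of
X and y = f x. Let φ : O_{Y,y} ⟶ A' be an injective ring homomorphism which is finite (A' finitely
generated as an O_{Y,y}-module), Y' = Spec A' ⟶ Y the induced Y-scheme, X' = X ×_Y Y' and F' the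
pullback of F to X'. Then F is f-flat at x if and only if F' is flat over Y' at every point of X'
lying over x and over a closed point of Y'. (The published statement treats more generally a Zariski
ring A' whose radical pulls back to the maximal ideal and whose map on completions is injective;
this row is the case of a finite algebra with injective structure map, in which those conditions
hold.) -/
theorem result {X Y : Scheme.{u}} [IsLocallyNoetherian Y]
    (f : X ⟶ Y) [LocallyOfFiniteType f] (F : X.Modules) (hF : Coh.IsCoh F) (x : X)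
    (A' : CommRingCat.{u}) (φ : Y.presheaf.stalk (f.base x) ⟶ A') (hfin : φ.hom.Finite)
    (hinj : Function.Injective φ.hom) :
    FlatMod.IsFlatOverAt f F x ↔
      ∀ x' : ↥(pullback f (Spec.map φ ≫ Y.fromSpecStalk (f.base x))), pullback.fst f (Spec.map φ ≫ Y.fromSpecStalk (f.base x)) x' = x →
        IsClosed ({pullback.snd f (Spec.map φ ≫ Y.fromSpecStalk (f.base x)) x'} : Set ↥(Spec A')) →
          FlatMod.IsFlatOverAt (pullback.snd f (Spec.map φ ≫ Y.fromSpecStalk (f.base x))) ((Scheme.Modules.pullback (pullback.fst f (Spec.map φ ≫ Y.fromSpecStalk (f.base x)))).obj F) x' := by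
  constructor
  · intro h x' hx' _
    exact Groth.Agent.H52.FDesc.BaseChangeFlat.isFlatOverAt_baseChange f _ F x' (by rw [hx']; exact h)
  intro h
  letI := φ.hom.toAlgebra
  haveI : Module.Finite ↑(Y.presheaf.stalk (f.base x)) ↑A' := hfin
  haveI : IsNoetherianRing ↑(Y.presheaf.stalk (f.base x)) := inferInstance
  let ψ : ∀ p : MaximalSpectrum ↑A',
      (Y.presheaf.stalk (f x) : Type u) →+* Localization.AtPrime p.asIdeal :=
    fun p => (algebraMap ↑A' (Localization.AtPrime p.asIdeal)).comp φ.hom
  haveI : ∀ p, IsLocalHom (ψ p) := fun p => by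
    refine ((IsLocalRing.local_hom_TFAE (ψ p)).out 0 4).mpr ?_
    show Ideal.comap ((algebraMap ↑A' (Localization.AtPrime p.asIdeal)).comp φ.hom) _ = _
    rw [← Ideal.comap_comap, ← Ideal.under_def, Localization.AtPrime.under_maximalIdeal]
    exact Groth.Agent.H47.FiniteInj.under_eq (R := ↑(Y.presheaf.stalk (f.base x))) p.asIdeal
  refine Groth.Agent.H47.ArtinCases.isFlatOverAt_local f F hF x
    (fun p : MaximalSpectrum ↑A' => Localization.AtPrime p.asIdeal) ψ
    (fun N => Groth.Agent.H47.FiniteInj.htop hinj N) _ (fun _ => rfl) (fun p => Or.inl ?_)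
  intro z hz1 hz2
  let g0 : Spec A' ⟶ Y := Spec.map φ ≫ Y.fromSpecStalk (f.base x)
  let l : Spec (CommRingCat.of (Localization.AtPrime p.asIdeal)) ⟶ Spec A' :=
    Spec.map (CommRingCat.ofHom (algebraMap ↑A' (Localization.AtPrime p.asIdeal)))
  let gp := Spec.map (CommRingCat.ofHom (ψ p)) ≫ Y.fromSpecStalk (f.base x)
  have hgp : gp = l ≫ g0 := by
    show Spec.map (CommRingCat.ofHom (ψ p)) ≫ _ = l ≫ Spec.map φ ≫ _
    rw [← Category.assoc, ← Spec.map_comp]
    rfl
  let q : pullback f gp ⟶ pullback f g0 := pullback.lift (pullback.fst f gp) (pullback.snd f gp ≫ l)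
    (by rw [pullback.condition, hgp, Category.assoc])
  have hq : IsPullback q (pullback.snd f gp) (pullback.snd f g0) l := by
    refine IsPullback.of_right ?_ (pullback.lift_snd _ _ _) (IsPullback.of_hasPullback f g0)
    rw [pullback.lift_fst, ← hgp]
    exact IsPullback.of_hasPullback f gp
  have hq1 : pullback.fst f g0 (q z) = x := by
    rw [← Scheme.Hom.comp_apply, pullback.lift_fst]
    exact hz1
  have hq2 : pullback.snd f g0 (q z) = (⟨p.asIdeal, p.isMaximal.isPrime⟩ : PrimeSpectrum ↑A') := by
    rw [← Scheme.Hom.comp_apply, pullback.lift_snd, Scheme.Hom.comp_apply]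
    refine (congrArg (fun t => l t) hz2).trans (PrimeSpectrum.ext ?_)
    exact Localization.AtPrime.under_maximalIdeal
  have hcl : IsClosed ({pullback.snd f g0 (q z)} : Set ↥(Spec A')) := by
    rw [hq2]
    exact (PrimeSpectrum.isClosed_singleton_iff_isMaximal _).mpr p.isMaximal
  exact Groth.Agent.Lib.Flat55.FlatOverAt.of_iso (pullback.snd f gp)
    ((Scheme.Modules.pullbackComp q (pullback.fst f g0)).app F ≪≫
      (Scheme.Modules.pullbackCongr (pullback.lift_fst _ _ _)).app F) z
    (Groth.Agent.Lib.Flat55.FlatOverAt.isFlatOverAt_baseChange _ _ q l hq _ z (h (q z) hq1 hcl))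

end Groth.Agent.S5915
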