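import Groth.Statements.S5916
import Groth.Agent.Lib.SchDom.Sep
import Groth.Agent.Lib.SchDom.FlatBC
import Groth.Agent.H47.FlatKernelScheme
-- import your own Groth.Agent.* helpers here

set_option autoImplicit false
universe u
open CategoryTheory AlgebraicGeometry
open EGA43

namespace Groth.Agent.S5916

open AlgebraicGeometry CategoryTheory Lib.SchDom
set_option linter.style.haveILetI false

/-- The factorisation of a homomorphism through a finitely generated subalgebra. -/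
theorem exists_factor {A A' R R' : CommRingCat.{u}} (iA : R ≅ A) (iA' : R' ≅ A') (φ : A ⟶ A') (ψ : R ⟶ R')
    (hψ : ψ ≫ iA'.hom = iA.hom ≫ φ) (B₀ : letI := ψ.hom.toAlgebra; Subalgebra R R')
    (hB₀ : letI := ψ.hom.toAlgebra; B₀.FG) :
    ∃ (B : CommRingCat.{u}) (a : A ⟶ B) (b : B ⟶ A'),
      a ≫ b = φ ∧ Function.Injective b.hom ∧ a.hom.FiniteType ∧
      ∀ (RB : CommRingCat.{u}) (ψB : R ⟶ RB) (iB : RB ≅ B), ψB ≫ iB.hom = iA.hom ≫ a →
        letI := ψB.hom.toAlgebra
        letI := ψ.hom.toAlgebra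
        Nonempty (RB ≃ₐ[R] B₀) := by
  letI := ψ.hom.toAlgebra
  refine ⟨CommRingCat.of B₀, iA.inv ≫ CommRingCat.ofHom (algebraMap R B₀),
    CommRingCat.ofHom B₀.val.toRingHom ≫ iA'.hom, ?_, ?_, ?_, fun RB ψB iB hB => ?_⟩
  · have h : CommRingCat.ofHom (algebraMap R B₀) ≫ CommRingCat.ofHom B₀.val.toRingHom = ψ :=
      CommRingCat.hom_ext (RingHom.ext fun _ => rfl)
    rw [Category.assoc, reassoc_of% h, hψ, Iso.inv_hom_id_assoc]
  · exact iA'.commRingCatIsoToRingEquiv.injective.comp Subtype.val_injective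
  · haveI : Algebra.FiniteType R B₀ := (Subalgebra.fg_iff_finiteType _).1 hB₀
    exact RingHom.FiniteType.comp (RingHom.finiteType_algebraMap.2 inferInstance)
      (RingHom.FiniteType.of_surjective _ iA.commRingCatIsoToRingEquiv.symm.surjective)
  · letI := ψB.hom.toAlgebra
    rw [Iso.hom_inv_id_assoc] at hB
    exact ⟨AlgEquiv.ofRingEquiv (f := iB.commRingCatIsoToRingEquiv) fun r => congrArg (fun f => f.hom r) hB⟩

open CategoryTheory.Limits in
/-- Case Z_λ = X: let A be a commutative ring, p : X ⟶ Spec A an A-scheme, F a quasi-coherent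
O_X-module, (G_i) quasi-coherent O_X-modules flat over Spec A and u_i : F ⟶ G_i a separating family
of homomorphisms (a section of F over an open subset killed by every u_i is zero). Let φ : A ⟶ A' be
a ring homomorphism. If for every factorisation A ⟶ B ⟶ A' of φ with A ⟶ B of finite type and B ⟶ A'
injective (every finitely generated sub-A-algebra B of A') the family pulled back to X ×_{Spec A}
Spec B is separating, then the family pulled back to X ×_{Spec A} Spec A' is separating. (The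
published statement allows homomorphisms into direct images (f_λ)_*G_λ of modules G_λ flat over the
base; this row is the case Z_λ = X.) -/
theorem result {X : Scheme.{u}} (A A' : CommRingCat.{u}) (φ : A ⟶ A')
    (p : X ⟶ Spec A) (F : X.Modules) [Coh.IsQCoh F] {ι : Type u} (G : ι → X.Modules) [∀ i, Coh.IsQCoh (G i)]
    (hG : ∀ i, FlatMod.IsFlatOver p (G i)) (u : ∀ i, F ⟶ G i)
    (h : ∀ (V : (X).Opens) (t : ↑((F).presheaf.obj (Opposite.op V))), (∀ i, (Scheme.Modules.Hom.mapPresheaf (u i)).app (Opposite.op V) t = 0) → t = 0)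
    (hfg : ∀ (B : CommRingCat.{u}) (a : A ⟶ B) (b : B ⟶ A'), a ≫ b = φ → Function.Injective b.hom → a.hom.FiniteType →
      ∀ (V : (pullback p (Spec.map a)).Opens) (t : ↑(((Scheme.Modules.pullback (pullback.fst p (Spec.map a))).obj F).presheaf.obj (Opposite.op V))), (∀ i, (Scheme.Modules.Hom.mapPresheaf ((Scheme.Modules.pullback (pullback.fst p (Spec.map a))).map (u i))).app (Opposite.op V) t = 0) → t = 0) :
    ∀ (V : (pullback p (Spec.map φ)).Opens) (t : ↑(((Scheme.Modules.pullback (pullback.fst p (Spec.map φ))).obj F).presheaf.obj (Opposite.op V))), (∀ i, (Scheme.Modules.Hom.mapPresheaf ((Scheme.Modules.pullback (pullback.fst p (Spec.map φ))).map (u i))).app (Opposite.op V) t = 0) → t = 0 := by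
  haveI : F.IsQuasicoherent := ‹Coh.IsQCoh F›
  haveI : ∀ i, (G i).IsQuasicoherent := fun i => ‹∀ i, Coh.IsQCoh (G i)› i
  haveI := Lib.QCoh.Pullback.isQCoh_pullback (pullback.fst p (Spec.map φ)) F
  haveI := fun i => Lib.QCoh.Pullback.isQCoh_pullback (pullback.fst p (Spec.map φ)) (G i)
  refine sep_of_injLoc (fun i => pbHom p (Spec.map φ) u i) fun y => ?_
  obtain ⟨V, hV, hyV, -⟩ := exists_isAffineOpen_mem_and_subset (x := pullback.fst p (Spec.map φ) y) (U := ⊤) trivial
  have hA : IsAffineOpen (⊤ : (Spec A).Opens) := isAffineOpen_top _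
  have hA' : IsAffineOpen (⊤ : (Spec A').Opens) := isAffineOpen_top _
  have eV : V ≤ p ⁻¹ᵁ ⊤ := fun _ _ => trivial
  have eU : (⊤ : (Spec A').Opens) ≤ Spec.map φ ⁻¹ᵁ ⊤ := fun _ _ => trivial
  refine ⟨_, (exists_chartEquiv (IsPullback.of_hasPullback p (Spec.map φ)) hA hV hA' eV eU).1, ⟨hyV, trivial⟩,
    (chartSep_iff p (Spec.map φ) u hA hV hA' eV eU).1 ?_⟩
  unfold ChartSep
  letI := (p.appLE ⊤ V eV).hom.toAlgebra
  letI := ((Spec.map φ).appLE ⊤ ⊤ eU).hom.toAlgebra
  letI : Module Γ(Spec A, ⊤) Γ(F, V) := Module.compHom _ (p.appLE ⊤ V eV).hom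
  haveI : IsScalarTower Γ(Spec A, ⊤) Γ(X, V) Γ(F, V) := IsScalarTower.of_algebraMap_smul fun _ _ => rfl
  letI : ∀ i, Module Γ(Spec A, ⊤) Γ(G i, V) := fun i => Module.compHom _ (p.appLE ⊤ V eV).hom
  haveI : ∀ i, IsScalarTower Γ(Spec A, ⊤) Γ(X, V) Γ(G i, V) := fun i =>
    IsScalarTower.of_algebraMap_smul fun _ _ => rfl
  haveI : ∀ i, Module.Flat Γ(Spec A, ⊤) Γ(G i, V) := fun i =>
    H47.FlatKernelScheme.flat_sections p (G i) hA hV eV (hG i)
  refine bcInj_of_fg _ _ fun B₀ hB₀ => ?_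
  obtain ⟨B, a, b, hab, hb, hft, hequiv⟩ := exists_factor (Scheme.ΓSpecIso A) (Scheme.ΓSpecIso A') φ
    ((Spec.map φ).appLE ⊤ ⊤ eU)
    (by rw [show (Spec.map φ).appLE ⊤ ⊤ eU = (Spec.map φ).appTop from Scheme.Hom.appLE_eq_app _]
        exact Scheme.ΓSpecIso_naturality φ) B₀ hB₀
  have hB : IsAffineOpen (⊤ : (Spec B).Opens) := isAffineOpen_top _
  have eB : (⊤ : (Spec B).Opens) ≤ Spec.map a ⁻¹ᵁ ⊤ := fun _ _ => trivial
  letI := ((Spec.map a).appLE ⊤ ⊤ eB).hom.toAlgebra
  obtain ⟨e⟩ := hequiv _ ((Spec.map a).appLE ⊤ ⊤ eB) (Scheme.ΓSpecIso B)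
    (by rw [show (Spec.map a).appLE ⊤ ⊤ eB = (Spec.map a).appTop from Scheme.Hom.appLE_eq_app _]
        exact Scheme.ΓSpecIso_naturality a)
  exact BCInj.of_algEquiv (Algebra.TensorProduct.congr AlgEquiv.refl e)
    (chartSep_of_sep p (Spec.map a) u (hfg B a b hab hb hft) hA hV hB eV eB)

end Groth.Agent.S5916
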