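import Groth.Statements.S5918
import Groth.Agent.H47.ArtinCases

set_option autoImplicit false
universe u
open CategoryTheory AlgebraicGeometry
open EGA43

namespace Groth.Agent.S5918

open CategoryTheory.Limits in
/-- Let A be an Artinian local ring, f : X ⟶ Spec A locally of finite type, F a coherent O_X-module and
x a point of X. Let (g_i : Y_i ⟶ Spec A) be a family of A-schemes such that an element of A whose
image in every Γ(Y_i, O_{Y_i}) is zero is itself zero. If, for every i, the pullback of F to X
×_{Spec A} Y_i is flat over Y_i at every point lying over x, then F is f-flat at x. -/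
theorem result {A : Type u} [CommRing A]
    [IsArtinianRing A] [IsLocalRing A] {X : Scheme.{u}} (f : X ⟶ Spec (CommRingCat.of A))
    [LocallyOfFiniteType f] (F : X.Modules) (hF : Coh.IsCoh F) (x : X)
    {ι : Type u} (Y : ι → Scheme.{u}) (g : ∀ i, Y i ⟶ Spec (CommRingCat.of A))
    (hg : ∀ a : A, (∀ i, (g i).appTop ((Scheme.ΓSpecIso (CommRingCat.of A)).inv a) = 0) → a = 0)
    (hflat : ∀ (i : ι) (x' : ↥(pullback f (g i))), pullback.fst f (g i) x' = x →
      FlatMod.IsFlatOverAt (pullback.snd f (g i)) ((Scheme.Modules.pullback (pullback.fst f (g i))).obj F) x') :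
    FlatMod.IsFlatOverAt f F x := by
  refine H47.ArtinCases.isFlatOverAt_artinian f F hF x (fun j : Σ i, ↥(Y i) => Y j.1)
    (fun j => g j.1) (fun j => j.2) (fun a ha => hg a fun i => ?_)
    (fun j => Or.inl fun x' h1 _ => hflat j.1 x' h1)
  refine TopCat.Presheaf.section_ext (Y i).sheaf ⊤ _ _ fun y _ => ?_
  exact (ha ⟨i, y⟩).trans (map_zero _).symm

end Groth.Agent.S5918
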