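import Groth.Statements.S5924
import Groth.Agent.Lib.Cyc.DimFun
import Groth.Agent.Lib.Cyc.FieldDim
import Groth.Agent.H46.QFin

set_option autoImplicit false
open CategoryTheory AlgebraicGeometry
universe u
open EGA43

namespace Groth.Agent.S5924

/-- Let Y be an irreducible locally Noetherian scheme, f : X ⟶ Y a morphism locally of finite type which
is equidimensional at the point x, and suppose that x is not a maximal point of its fibre f⁻¹(f x),
i.e. some point of the fibre other than x specializes to x. Then there exist an affine open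
neighbourhood U of x and a section g of O_X over U such that g vanishes at x (x is not in the basic
open set of g) while every maximal point of f⁻¹(f x) lying in U is in the basic open set of g. -/
theorem result {X Y : Scheme.{u}} [IrreducibleSpace Y]
    [IsLocallyNoetherian Y] (f : X ⟶ Y) [LocallyOfFiniteType f] (x : X) (hf : EGA43.IsEquidimAt f x)
    (hx : ∃ x' : X, f.base x' = f.base x ∧ x' ≠ x ∧ x ∈ closure ({x'} : Set X)) :
    ∃ U : X.Opens, IsAffineOpen U ∧ x ∈ U ∧ ∃ g : Γ(X, U), x ∉ X.basicOpen g ∧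
      ∀ z : X, f.base z = f.base x → (∀ z' : X, f.base z' = f.base x → z ∈ closure ({z'} : Set X) → z' = z) →
        z ∈ U → z ∈ X.basicOpen g := by
  classical
  haveI := LocallyOfFiniteType.isLocallyNoetherian f
  obtain ⟨U, hU, hxU, -⟩ := exists_isAffineOpen_mem_and_subset (x := x) (U := ⊤) trivial
  haveI : IsNoetherianRing Γ(X, U) := IsLocallyNoetherian.component_noetherian ⟨U, hU⟩
  obtain ⟨px, hpx⟩ : x ∈ Set.range hU.fromSpec := hU.range_fromSpec.ge hxU
  let T : Set ↥(Spec Γ(X, U)) := (fun p => f (hU.fromSpec p)) ⁻¹' {f x}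
  let M : Set ↥(Spec Γ(X, U)) := {p | p ∈ T ∧ ∀ q ∈ T, q ⤳ p → q = p}
  have hM : M.Finite := by
    haveI := Groth.Agent.H46.QFin.isLocallyNoetherian_fiber (hU.fromSpec ≫ f) (f x)
    haveI : CompactSpace ↥((hU.fromSpec ≫ f).fiber (f x)) := by
      haveI : IsLocallyNoetherian Y := inferInstance
      haveI : QuasiCompact (hU.fromSpec ≫ f) := inferInstance
      infer_instance
    haveI : IsNoetherian ((hU.fromSpec ≫ f).fiber (f x)) := ⟨⟩
    refine ((Groth.Agent.Lib.Cyc.DimFun.finite_maxPts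
      (α := ↥((hU.fromSpec ≫ f).fiber (f x))) isClosed_univ).image
        ((hU.fromSpec ≫ f).fiberι (f x))).subset fun p hp => ?_
    obtain ⟨z, hz⟩ := Groth.Agent.Lib.Cyc.FieldDim.exists_fiberι_eq (hU.fromSpec ≫ f) p (f x)
      (by rw [Scheme.Hom.comp_apply]; exact hp.1)
    refine ⟨z, ⟨trivial, fun y _ hy => ?_⟩, hz⟩
    refine ((hU.fromSpec ≫ f).fiberι (f x)).isEmbedding.injective
      ((hp.2 _ ?_ (hz ▸ hy.map ((hU.fromSpec ≫ f).fiberι (f x)).continuous)).trans hz.symm)
    show f (hU.fromSpec _) = f x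
    rw [← Scheme.Hom.comp_apply]
    exact Groth.Agent.Lib.Cyc.FieldDim.apply_fiberι _ _ y
  obtain ⟨x', hx', hne, hcl⟩ := hx
  have hx'x : x' ⤳ x := specializes_iff_mem_closure.2 hcl
  obtain ⟨q', hq'⟩ : x' ∈ Set.range hU.fromSpec :=
    hU.range_fromSpec.ge (hx'x.mem_open U.2 hxU)
  have hemb := hU.fromSpec.isOpenEmbedding
  have hnle : ∀ p ∈ M, ¬ (px : PrimeSpectrum Γ(X, U)).asIdeal ≤ (p : PrimeSpectrum Γ(X, U)).asIdeal := by
    intro p hp hle
    have h1 : px ⤳ p := (PrimeSpectrum.le_iff_specializes _ _).1 hle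
    have h2 := hp.2 px (by show f (hU.fromSpec px) = f x; rw [hpx]) h1
    subst h2
    have h3 := hp.2 q' (by show f (hU.fromSpec q') = f x; rw [hq', hx'])
      (hemb.isInducing.specializes_iff.1 (by rw [hq', hpx]; exact hx'x))
    exact hne (by rw [← hq', h3, hpx])
  obtain ⟨g, hgx, hg⟩ : ∃ g, g ∈ (px : PrimeSpectrum Γ(X, U)).asIdeal ∧
      ∀ p ∈ M, g ∉ (p : PrimeSpectrum Γ(X, U)).asIdeal := by
    by_contra hc
    push Not at hc
    have hsub : ((px : PrimeSpectrum Γ(X, U)).asIdeal : Set Γ(X, U)) ⊆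
        ⋃ p ∈ (hM.toFinset : Set ↥(Spec Γ(X, U))),
          ((p : PrimeSpectrum Γ(X, U)).asIdeal : Set Γ(X, U)) := fun g hg => by
      obtain ⟨p, hp, hgp⟩ := hc g hg
      exact Set.mem_biUnion (hM.mem_toFinset.2 hp) hgp
    obtain ⟨p, hp, hle⟩ := (Ideal.subset_union_prime px px
      fun p _ _ _ => (p : PrimeSpectrum Γ(X, U)).isPrime).1 hsub
    exact hnle p (hM.mem_toFinset.1 hp) hle
  refine ⟨U, hU, hxU, g, fun h => ?_, fun z hz hzmax hzU => ?_⟩
  · rw [← hpx] at h
    have : px ∈ hU.fromSpec ⁻¹ᵁ X.basicOpen g := h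
    rw [hU.fromSpec_preimage_basicOpen] at this
    exact this hgx
  · obtain ⟨p, rfl⟩ : z ∈ Set.range hU.fromSpec := hU.range_fromSpec.ge hzU
    have : p ∈ hU.fromSpec ⁻¹ᵁ X.basicOpen g := by
      rw [hU.fromSpec_preimage_basicOpen]
      refine hg p ⟨hz, fun q hq hqp => hemb.injective ?_⟩
      exact hzmax _ hq (hqp.map hU.fromSpec.continuous).mem_closure
    exact this

end Groth.Agent.S5924
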