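import Groth.Statements.S5928
import Groth.Agent.H46.SectEquidimModel
-- import your own Groth.Agent.* helpers here

set_option autoImplicit false
open CategoryTheory AlgebraicGeometry
universe u
open EGA43

namespace Groth.Agent.S5928

/-- Let f : X ⟶ Y be a morphism with a section g : Y ⟶ X, and suppose that either Y is locally
Noetherian and f is locally of finite type, or f is of finite presentation. Let X_y^0 be the
connected component of f⁻¹(y) containing g y and X^0 ⊆ X the union of the X_y^0, and suppose every
X_y^0 is geometrically irreducible over κ(y). Then the set W of points x of X^0 such that y ↦ dim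
X_y^0 is constant on a neighbourhood of f x and the fibre f⁻¹(f x) is geometrically reduced at x
over κ(f x) is open in X. (The published statement asks that the whole component X_{f x}^0 be
geometrically reduced rather than geometrically reduced at x; with that reading the set need not be
open: over the affine line Spec k[t] take X = Spec k[t, s, e]/(e², e(ts − 1)) with the section s = e
= 0, whose fibres are lines carrying an embedded point at s = 1/t for t ≠ 0 and a reduced line at t
= 0, so that the set would be the closed fibre over t = 0; the published proof, through the openness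
of the locus where the fibre is geometrically reduced at the point, gives the pointwise form stated
here.) -/
theorem result {X Y : Scheme.{u}} (f : X ⟶ Y) (g : Y ⟶ X)
    (hg : g ≫ f = 𝟙 Y)
    (hfin : (IsLocallyNoetherian Y ∧ LocallyOfFiniteType f) ∨
      (LocallyOfFinitePresentation f ∧ QuasiCompact f ∧ QuasiSeparated f))
    (hirr : ∀ y : Y, (∀ (K : Type u) [Field K] [Algebra (IsLocalRing.ResidueField (Y.presheaf.stalk y)) K],
        IsIrreducible ((FBase.bcπ (f.fiberToSpecResidueField y) K ≫ f.fiberι y).base ⁻¹' connectedComponentIn (f.base ⁻¹' {y}) (g.base y)))) :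
    IsOpen {x : X | x ∈ MoreMor.sectionComponents f g ∧ (∃ V ∈ nhds (f.base x), ∀ z ∈ V, topologicalKrullDim ↥(connectedComponentIn (f.base ⁻¹' {z}) (g.base z)) = topologicalKrullDim ↥(connectedComponentIn (f.base ⁻¹' {(f.base x)}) (g.base (f.base x)))) ∧
      FBase.IsGeomReducedAt (f.fiberToSpecResidueField (f.base x)) (f.asFiber x)} := by
  haveI : LocallyOfFiniteType f := hfin.elim (fun h => h.2) fun h => haveI := h.1; inferInstance
  have hdim : ∀ y, topologicalKrullDim ↥(Groth.Agent.H46.SectComp.C f g y) =
      (Groth.Agent.H46.DimData.fe f (g y) : WithBot ℕ∞) := fun y => by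
    obtain ⟨_, -, -, -, -, -, -, h⟩ := Groth.Agent.H46.SectComp.exists_generic f hg
      (Groth.Agent.H46.SectComp.irr_of_geom f hg (hirr y))
    exact h
  refine isOpen_iff_mem_nhds.2 ?_
  rintro x ⟨hx, ⟨V, hV, hVc⟩, hgr⟩
  obtain ⟨V₀, hV₀, hV₀o, hyV₀⟩ := mem_nhds_iff.1 hV
  have hgi := Groth.Agent.H46.GeomIrrC.gi_of_fibre f g (f x) (hirr (f x))
  have hgr' := (Groth.Agent.H46.GRAt.grAt_iff f x).2 hgr
  have hfe : ∀ z ∈ V, Groth.Agent.H46.DimData.fe f (g z) = Groth.Agent.H46.DimData.fe f (g (f x)) :=
    fun z hz => by
      have h := (hdim z).symm.trans ((hVc z hz).trans (hdim (f x)))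
      exact_mod_cast h
  have hN : {z | z ∈ MoreMor.sectionComponents f g ∧ Groth.Agent.H46.GRAt.GRAt f z} ∈ nhds x := by
    rcases hfin with ⟨hY, -⟩ | ⟨h1, h2, h3⟩
    · exact (Groth.Agent.H46.SectEquidimModel.exists_red_data f hg hgi
        (fun y' h => hfe y' (mem_of_mem_nhds (h hV))) hx hgr').1
    · exact (Groth.Agent.H46.SectEquidimModel.main f hg hgi hV hfe hx hgr').1
  refine Filter.mem_of_superset (Filter.inter_mem hN
    ((hV₀o.preimage f.continuous).mem_nhds hyV₀)) ?_
  rintro z ⟨⟨hz1, hz2⟩, hzV⟩
  refine ⟨hz1, ⟨V, Filter.mem_of_superset (hV₀o.mem_nhds hzV) hV₀, fun t ht => ?_⟩,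
    (Groth.Agent.H46.GRAt.grAt_iff f z).1 hz2⟩
  exact (hVc t ht).trans (hVc _ (hV₀ hzV)).symm

end Groth.Agent.S5928
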