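import Groth.Statements.S5929
import Groth.Agent.Lib.FlatFPSyzygy.Basic
import Groth.Agent.H22.FreeRes
-- import your own Groth.Agent.* helpers here

set_option autoImplicit false
universe u
open TensorProduct CategoryTheory
open EGA43

namespace Groth.Agent.S5929

set_option linter.style.haveILetI false

open H22.FreeRes

/-- Finitely presented and flat over the base. -/
def Good (A : Type u) {B : Type u} [CommRing A] [CommRing B] [Algebra A B] (N : Type u) [AddCommGroup N]
    [Module B N] : Prop :=
  letI : Module A N := Module.compHom N (algebraMap A B)
  Module.FinitePresentation B N ∧ Module.Flat A N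

variable {A B : Type u} [CommRing A] [CommRing B] [Algebra A B] [Algebra.FinitePresentation A B]
  [Module.Flat A B]

theorem good_ker {F N : Type u} [AddCommGroup F] [Module B F] [Module.Finite B F] [Module.Free B F]
    [AddCommGroup N] [Module B N] (f : F →ₗ[B] N) (hf : Function.Surjective f) (h : Good A (B := B) N) :
    Good A (B := B) ↥(LinearMap.ker f) := by
  letI : Module A F := Module.compHom F (algebraMap A B)
  letI : Module A N := Module.compHom N (algebraMap A B)
  haveI : IsScalarTower A B F := IsScalarTower.of_algebraMap_smul fun _ _ ↦ rfl
  haveI : IsScalarTower A B N := IsScalarTower.of_algebraMap_smul fun _ _ ↦ rfl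
  letI : Module A ↥(LinearMap.ker f) := Module.compHom _ (algebraMap A B)
  haveI : IsScalarTower A B ↥(LinearMap.ker f) := IsScalarTower.of_algebraMap_smul fun _ _ ↦ rfl
  obtain ⟨hN, hflat⟩ := h
  haveI : Module.FinitePresentation B N := hN
  haveI : Module.Flat A N := hflat
  haveI : Module.FinitePresentation B F := Module.finitePresentation_of_projective B F
  haveI : Module.Flat A F := Module.Flat.trans A B F
  exact ⟨Lib.FlatFPSyzygy.Basic.ker_finitePresentation (R := A) f hf,
    Lib.FlatCx.Ker.flat_of_exact ((LinearMap.ker f).subtype.restrictScalars A) (f.restrictScalars A)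
      Subtype.val_injective hf fun x => LinearMap.exact_subtype_ker_map f x⟩

theorem good_range (M : ModuleCat.{u} B) (hM : Good A (B := B) M) : ∀ n,
    Good A (B := B) ↥(LinearMap.range (seq M n).2.2.hom) ∧ Module.Finite B (seq M n).1 := by
  intro n
  induction n with
  | zero =>
    haveI : Module.FinitePresentation B M := hM.1
    have hfg : (⊤ : Submodule B M).FG := Module.Finite.fg_top
    refine ⟨?_, finite_cover hfg⟩
    have hr : LinearMap.range (seq M 0).2.2.hom = ⊤ := range_coverMap _
    exact transfer (Submodule.topEquiv.symm.trans (LinearEquiv.ofEq _ _ hr.symm)) hM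
  | succ n ih =>
    obtain ⟨h, hfin⟩ := ih
    haveI := hfin
    have hk := good_ker (A := A) (seq M n).2.2.hom.rangeRestrict (LinearMap.surjective_rangeRestrict _) h
    have hker : LinearMap.ker (seq M n).2.2.hom.rangeRestrict = LinearMap.ker (seq M n).2.2.hom :=
      LinearMap.ker_rangeRestrict _
    have hfg : (LinearMap.ker (seq M n).2.2.hom).FG := by
      haveI : Module.FinitePresentation B ↥(LinearMap.ker (seq M n).2.2.hom.rangeRestrict) := hk.1
      rw [← hker]
      exact Module.Finite.iff_fg.1 inferInstance
    exact ⟨transfer ((LinearEquiv.ofEq _ _ hker).trans (LinearEquiv.ofEq _ _ (range_eq_ker M n).symm)) hk,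
      finite_cover hfg⟩
where
  transfer {N N' : Type u} [AddCommGroup N] [Module B N] [AddCommGroup N'] [Module B N'] (e : N ≃ₗ[B] N')
      (h : Good A (B := B) N) : Good A (B := B) N' := by
    letI : Module A N := Module.compHom N (algebraMap A B)
    letI : Module A N' := Module.compHom N' (algebraMap A B)
    haveI : IsScalarTower A B N := IsScalarTower.of_algebraMap_smul fun _ _ ↦ rfl
    haveI : IsScalarTower A B N' := IsScalarTower.of_algebraMap_smul fun _ _ ↦ rfl
    obtain ⟨hN, hflat⟩ := h
    haveI : Module.FinitePresentation B N := hN
    haveI : Module.Flat A N := hflat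
    exact ⟨Module.FinitePresentation.of_equiv e, Module.Flat.of_linearEquiv (e.restrictScalars A).symm⟩


/-- Let A be a commutative ring, B a finitely presented A-algebra which is flat as an A-module, and M a
finitely presented B-module which is flat as an A-module. Then M admits a left resolution by free
B-modules of finite type: there is a projective resolution of M in the category of B-modules (a
chain complex of projective modules with a quasi-isomorphism to M in degree 0) every term of which
is a finitely generated free B-module. -/
theorem result (A B M : Type u) [CommRing A] [CommRing B] [Algebra A B]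
    [Algebra.FinitePresentation A B] [Module.Flat A B] [AddCommGroup M] [Module B M] [Module A M]
    [IsScalarTower A B M] [Module.FinitePresentation B M] [Module.Flat A M] :
    ∃ P : ProjectiveResolution (ModuleCat.of B M),
      ∀ n : ℕ, Module.Finite B (P.complex.X n) ∧ Module.Free B (P.complex.X n) := by
  have hM : Good A (B := B) (ModuleCat.of B M) := by
    refine ⟨inferInstanceAs (Module.FinitePresentation B M), ?_⟩
    have he : (Module.compHom M (algebraMap A B) : Module A M) = ‹Module A M› :=
      Module.ext' _ _ fun r x => algebraMap_smul B r x
    change @Module.Flat A M _ _ (Module.compHom M (algebraMap A B))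
    rw [he]
    infer_instance
  exact ⟨resolution _, fun n => ⟨(good_range _ hM n).2, inferInstanceAs (Module.Free B (seq _ n).1)⟩⟩

end Groth.Agent.S5929
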