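import Groth.Statements.S5932
import Groth.Agent.H46.FibreProf.OpenGeom
-- import your own Groth.Agent.* helpers here

set_option autoImplicit false
open CategoryTheory AlgebraicGeometry
universe u
open EGA43

namespace Groth.Agent.S5932

open Groth.Agent.H46.FibreProf Groth.Agent.H46.FibreProf.Basic in
/-- Let f : X ⟶ Y be a proper, flat morphism of finite presentation and k ≥ 1 a natural number. The set
of points y of Y such that the fibre X_y satisfies the geometric condition (R_k) (for every finite
field extension K of κ(y), every local ring of the base change of X_y to K satisfies (R_k)), is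
equidimensional at each of its points (every local ring of X_y has all quotients by minimal primes
of the same dimension) and has no embedded associated cycle (every associated prime of every local
ring of X_y is minimal), is open in Y. -/
theorem result {X Y : Scheme.{u}} (f : X ⟶ Y) [IsProper f]
    [Flat f] [LocallyOfFinitePresentation f] (k : ℕ) (hk : 1 ≤ k) :
    IsOpen {y : Y | ∀ x : ↥(f.fiber y), (∀ (K : Type u) [Field K] [Algebra (IsLocalRing.ResidueField (Y.presheaf.stalk y)) K],
        Module.Finite (IsLocalRing.ResidueField (Y.presheaf.stalk y)) K →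
        ∀ x' : ↥(FBase.bc (f.fiberToSpecResidueField y) K),
          (FBase.bcπ (f.fiberToSpecResidueField y) K).base x' = x →
          LocCoh.HasRk k ((FBase.bc (f.fiberToSpecResidueField y) K).presheaf.stalk x')) ∧
      EGA4.IsEquidim ↑((f.fiber y).presheaf.stalk x) ∧ (∀ p ∈ associatedPrimes ↑((f.fiber y).presheaf.stalk x) ↑((f.fiber y).presheaf.stalk x), p ∈ minimalPrimes ↑((f.fiber y).presheaf.stalk x))} := by
  haveI := Unit.isFP_structureModule X
  haveI := Groth.Agent.H26.FreeCrit.isQuasicoherent_of_isFP (Unit.isFP_structureModule X)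
  have key : ∀ x : X, ((∀ (K : Type u) [Field K] [Algebra (IsLocalRing.ResidueField (Y.presheaf.stalk (f.base x))) K],
        Module.Finite (IsLocalRing.ResidueField (Y.presheaf.stalk (f.base x))) K →
        ∀ x' : ↥(FBase.bc (f.fiberToSpecResidueField (f.base x)) K),
          (FBase.bcπ (f.fiberToSpecResidueField (f.base x)) K).base x' = f.asFiber x →
          LocCoh.HasRk k ((FBase.bc (f.fiberToSpecResidueField (f.base x)) K).presheaf.stalk x')) ∧
      EGA4.IsEquidim ↑((f.fiber (f.base x)).presheaf.stalk (f.asFiber x)) ∧ (∀ p ∈ associatedPrimes ↑((f.fiber (f.base x)).presheaf.stalk (f.asFiber x)) ↑((f.fiber (f.base x)).presheaf.stalk (f.asFiber x)), p ∈ minimalPrimes ↑((f.fiber (f.base x)).presheaf.stalk (f.asFiber x)))) ↔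
      ((f.stalkMap x).hom.Flat ∧ RkCons.Rk f k x ∧ OpenGeom.Good f x) := by
    intro x
    have h := OpenGeom.good_iff f (f.base x) (f.asFiber x)
    rw [f.fiberι_asFiber] at h
    rw [and_iff_right (Flat.stalkMap f x), h, ← RkCons.rk_iff_forall_finite f k x]
  convert Equidim.isOpen_forall_fiber f (OpenGeom.isOpen_rk_good f k) using 1
  ext y
  show (∀ _, _) ↔ (∀ _, _)
  refine forall_congr' fun a => ?_
  have gen : ∀ (x : X) (s : Y) (b : f.fiber s), f.fiberι s b = x →
      (((∀ (K : Type u) [Field K] [Algebra (IsLocalRing.ResidueField (Y.presheaf.stalk s)) K],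
        Module.Finite (IsLocalRing.ResidueField (Y.presheaf.stalk s)) K →
        ∀ x' : ↥(FBase.bc (f.fiberToSpecResidueField s) K),
          (FBase.bcπ (f.fiberToSpecResidueField s) K).base x' = b →
          LocCoh.HasRk k ((FBase.bc (f.fiberToSpecResidueField s) K).presheaf.stalk x')) ∧
      EGA4.IsEquidim ↑((f.fiber s).presheaf.stalk b) ∧ (∀ p ∈ associatedPrimes ↑((f.fiber s).presheaf.stalk b) ↑((f.fiber s).presheaf.stalk b), p ∈ minimalPrimes ↑((f.fiber s).presheaf.stalk b))) ↔
      ((f.stalkMap x).hom.Flat ∧ RkCons.Rk f k x ∧ OpenGeom.Good f x)) := by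
    intro x s b hb
    obtain rfl : s = f.base x := by rw [← hb, Groth.Agent.Lib.Cyc.FieldDim.apply_fiberι]
    obtain rfl : b = f.asFiber x := (f.fiberι _).isEmbedding.injective (by rw [hb, f.fiberι_asFiber])
    exact key x
  exact gen _ y a rfl

end Groth.Agent.S5932
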