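import Groth.Statements.S5934
import Groth.Agent.S2155

set_option autoImplicit false
open CategoryTheory AlgebraicGeometry
universe u
open EGA43

namespace Groth.Agent.S5934

/-- Let f : X ⟶ Y be a proper, flat morphism of finite presentation. The set of points y of Y whose
fibre X_y is geometrically regular, i.e. smooth over the residue field κ(y), is open in Y. -/
theorem result {X Y : Scheme.{u}} (f : X ⟶ Y) [IsProper f] [Flat f]
    [LocallyOfFinitePresentation f] :
    IsOpen {y : Y | Smooth (f.fiberToSpecResidueField y)} := by
  have hy : ∀ y : Y, Smooth (f.fiberToSpecResidueField y) ↔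
      Set.range (f.fiberι y).base ⊆ (f.smoothLocus : Set X) := by
    intro y
    haveI : LocallyOfFinitePresentation (f.fiberToSpecResidueField y) :=
      MorphismProperty.pullback_snd _ _ ‹LocallyOfFinitePresentation f›
    rw [← Scheme.Hom.smoothLocus_eq_top_iff]
    have h2 : (f.fiberToSpecResidueField y).smoothLocus = (f.fiberι y) ⁻¹ᵁ f.smoothLocus :=
      Groth.Agent.S2155.result f (Y.fromSpecResidueField y) (f.fiberToSpecResidueField y) (f.fiberι y)
        (IsPullback.of_hasPullback f (Y.fromSpecResidueField y)) (Or.inl inferInstance)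
    rw [h2]
    constructor
    · rintro h _ ⟨z, rfl⟩
      exact h.ge (Set.mem_univ z)
    · exact fun h => top_le_iff.1 fun z _ => h ⟨z, rfl⟩
  have heq : {y : Y | Smooth (f.fiberToSpecResidueField y)} =
      (f.base '' (f.smoothLocus : Set X)ᶜ)ᶜ := by
    ext y
    rw [Set.mem_ofPred_eq, hy, Scheme.Hom.range_fiberι]
    simp only [Set.mem_compl_iff, Set.mem_image, not_exists, not_and]
    exact ⟨fun h x hx hfx => hx (h hfx), fun h x hx => by
      by_contra hc
      exact h x hc hx⟩
  rw [heq]
  exact (f.isClosedMap _ f.smoothLocus.2.isClosed_compl).isOpen_compl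

end Groth.Agent.S5934
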