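import Groth.Statements.S5936
import Groth.Agent.Lib.FlatFPSyzygy.Basic
import Groth.Agent.H25.TorBridge
import Groth.Agent.Lib.Cyc.TorPD

set_option autoImplicit false
universe u
open TensorProduct CategoryTheory
open EGA43

namespace Groth.Agent.S5936

set_option linter.style.haveILetI false

open CategoryTheory CategoryTheory.Limits Groth.Agent.Lib.Tor

theorem hasProjectiveDimensionLT_of_tor (A B : Type u) [CommRing A] [CommRing B] [Algebra A B]
    [Algebra.FinitePresentation A B] [Module.Flat A B] :
    ∀ (j : ℕ) (M : Type u) [AddCommGroup M] [Module B M] [Module A M] [IsScalarTower A B M]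
      [Module.FinitePresentation B M] [Module.Flat A M],
      (∀ p : ℕ, j < p → ∀ N : ModuleCat.{u} B, IsZero ((H25.TorLES.T N p).obj (ModuleCat.of B M))) →
      HasProjectiveDimensionLT (ModuleCat.of B M) (j + 1) := by
  intro j
  induction j with
  | zero =>
    intro M _ _ _ _ _ _ h
    haveI : Module.Flat B M := Lib.LocalFlat.Basic.flat_of_tor1Zero fun J _ =>
      (H25.TorBridge.isZero_iff (M := ModuleCat.of B M) (B ⧸ J)).1
        ((h 1 one_pos (ModuleCat.of B (B ⧸ J))).of_iso (Balance.torFlipIso _ _ 1))
    haveI : Module.Projective B M := Module.Flat.projective_of_finitePresentation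
    rw [← projective_iff_hasProjectiveDimensionLT_one]
    exact (IsProjective.iff_projective (R := B) M).1 inferInstance
  | succ j ih =>
    intro M _ _ _ _ _ _ h
    obtain ⟨n, f, hf⟩ := Module.Finite.exists_fin' B M
    haveI := Lib.FlatFPSyzygy.Basic.ker_finitePresentation (R := A) f hf
    haveI : Module.Flat A (Fin n → B) := Module.Flat.trans A B (Fin n → B)
    haveI : Module.Flat A ↥(LinearMap.ker f) :=
      Lib.FlatCx.Ker.flat_of_exact ((LinearMap.ker f).subtype.restrictScalars A) (f.restrictScalars A)
        Subtype.val_injective hf (fun x => LinearMap.exact_subtype_ker_map f x)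
    have hS := LinearMap.shortExact_shortComplexKer hf
    refine (hS.hasProjectiveDimensionLT_X₃_iff j
      ((IsProjective.iff_projective (R := B) (Fin n → B)).1 inferInstance)).2 ?_
    refine ih ↥(LinearMap.ker f) fun p hp N => ?_
    obtain ⟨q, rfl⟩ : ∃ q, p = q + 1 := ⟨p - 1, by omega⟩
    haveI : Projective (ModuleCat.of B (Fin n → B)) :=
      (IsProjective.iff_projective (R := B) (Fin n → B)).1 inferInstance
    exact (H25.TorLES.exact₁ (M := N) hS (q + 1)).isZero_of_both_zeros
      ((h (q + 2) (by omega) N).eq_zero_of_src _)
      ((isZero_Tor_succ_of_projective (ModuleCat.{u} B) N (ModuleCat.of B (Fin n → B)) q).eq_zero_of_tgt _)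

/-- Let A be a commutative ring, B a finitely presented A-algebra which is flat as an A-module, and M a
finitely presented B-module which is flat as an A-module. Then the projective dimension of M as a
B-module equals its Tor-dimension, the least n such that Tor_i^B(M, N) = 0 for every i > n and every
B-module N. (Both sides are valued in WithBot ℕ∞, with the zero module of dimension ⊥; Tor_i^B(M, −)
is the i-th left derived functor of M ⊗_B −. In general only Tor-dimension ≤ projective dimension
holds.) -/
theorem result (A B M : Type u) [CommRing A] [CommRing B] [Algebra A B]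
    [Algebra.FinitePresentation A B] [Module.Flat A B] [AddCommGroup M] [Module B M] [Module A M]
    [IsScalarTower A B M] [Module.FinitePresentation B M] [Module.Flat A M] :
    projectiveDimension (ModuleCat.of B M) =
      sInf {n : WithBot ℕ∞ | ∀ i : ℕ, n < i → ∀ N : ModuleCat.{u} B,
        Limits.IsZero (((Tor (ModuleCat.{u} B) i).obj (ModuleCat.of B M)).obj N)} := by
  unfold projectiveDimension
  congr 1
  ext n
  simp only [Set.mem_ofPred_eq]
  constructor
  · intro h i hi N
    refine IsZero.of_iso ?_ (Balance.torFlipIso (ModuleCat.of B M) N i)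
    have hM := h i hi
    rcases i with _ | i
    · exact Functor.map_isZero (H25.TorLES.T N 0)
        ((hasProjectiveDimensionLT_zero_iff_isZero (ModuleCat.of B M)).1 hM)
    · exact Lib.Cyc.TorPD.isZero_tor N i _ hM (i + 1) (Nat.lt_succ_self i)
  · intro h i hi
    rcases i with _ | i
    · refine (hasProjectiveDimensionLT_zero_iff_isZero (ModuleCat.of B M)).2 ?_
      have hz := (h 0 hi (ModuleCat.of B B)).of_iso ((H25.TorLES.zeroIso (ModuleCat.of B M)).app _).symm
      exact hz.of_iso ((TensorProduct.rid B M).symm.toModuleIso)
    · refine hasProjectiveDimensionLT_of_tor A B i M fun p hp N => ?_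
      refine (h p ?_ N).of_iso (Balance.torFlipIso (ModuleCat.of B M) N p).symm
      exact lt_of_lt_of_le hi (by exact_mod_cast hp)

end Groth.Agent.S5936
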