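import Groth.Statements.S5939
import Mathlib.AlgebraicGeometry.Morphisms.QuasiSeparated
-- import your own Groth.Agent.* helpers here

set_option autoImplicit false
universe u
open CategoryTheory CategoryTheory.Limits AlgebraicGeometry
open Unram17

namespace Groth.Agent.S5939

/-- Let f : X ⟶ Y be faithfully flat, locally of finite presentation and quasi-compact, and let g : Y ⟶
Z be a morphism such that f ≫ g is of finite presentation (locally of finite presentation,
quasi-compact and quasi-separated). Then g is quasi-compact and quasi-separated; together with the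
descent of local finite presentation along f this says that g is of finite presentation. This is the
case f quasi-compact. -/
theorem result {X Y Z : Scheme.{u}} (f : X ⟶ Y) (g : Y ⟶ Z)
    [Surjective f] [Flat f] [LocallyOfFinitePresentation f] [QuasiCompact f]
    [LocallyOfFinitePresentation (f ≫ g)] [QuasiCompact (f ≫ g)] [QuasiSeparated (f ≫ g)] :
    QuasiCompact g ∧ QuasiSeparated g := by
  have key : ∀ {A B C : Scheme.{u}} (a : A ⟶ B) (b : B ⟶ C), Surjective a → QuasiCompact (a ≫ b) →
      QuasiCompact b := fun {A B C} a b ha hab => ⟨fun U hU hc => by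
    have h1 := hab.isCompact_preimage U hU hc
    have : a '' ((a ≫ b) ⁻¹' U) = b ⁻¹' U := by
      rw [show (a ≫ b) ⁻¹' U = a ⁻¹' (b ⁻¹' U) from rfl, Set.image_preimage_eq _ a.surjective]
    rw [← this]
    exact h1.image a.continuous⟩
  refine ⟨key f g inferInstance inferInstance, ⟨key f (pullback.diagonal g) inferInstance ?_⟩⟩
  have e : f ≫ pullback.diagonal g = pullback.diagonal (f ≫ g) ≫
      pullback.map (f ≫ g) (f ≫ g) g g f f (𝟙 _) (by simp) (by simp) := by
    apply pullback.hom_ext <;> simp [pullback.diagonal, pullback.lift_fst, pullback.lift_snd, pullback.lift_fst_assoc, pullback.lift_snd_assoc]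
  rw [e]
  have : QuasiCompact (pullback.diagonal (f ≫ g)) := QuasiSeparated.quasiCompact_diagonal
  have : QuasiCompact (pullback.map (f ≫ g) (f ≫ g) g g f f (𝟙 _) (by simp) (by simp)) := by
    let a := pullback.map (f ≫ g) (f ≫ g) g (f ≫ g) f (𝟙 _) (𝟙 _) (by simp) (by simp)
    let b := pullback.map g (f ≫ g) g g (𝟙 _) f (𝟙 _) (by simp) (by simp)
    have e2 : pullback.map (f ≫ g) (f ≫ g) g g f f (𝟙 _) (by simp) (by simp) = a ≫ b := by
      apply pullback.hom_ext <;> simp [a, b, pullback.lift_fst, pullback.lift_snd, pullback.lift_fst_assoc, pullback.lift_snd_assoc]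
    have ha : IsPullback a (pullback.fst _ _) (pullback.fst g (f ≫ g)) f := by
      refine IsPullback.of_right ?_ (pullback.lift_fst _ _ _) (IsPullback.of_hasPullback g (f ≫ g)).flip
      rw [show a ≫ pullback.snd g (f ≫ g) = pullback.snd (f ≫ g) (f ≫ g) by simp [a, pullback.lift_snd]]
      exact (IsPullback.of_hasPullback _ _).flip
    have hb : IsPullback b (pullback.snd _ _) (pullback.snd g g) f := by
      refine IsPullback.of_right ?_ (pullback.lift_snd _ _ _) (IsPullback.of_hasPullback g g)
      rw [show b ≫ pullback.fst g g = pullback.fst g (f ≫ g) by simp [b, pullback.lift_fst]]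
      exact IsPullback.of_hasPullback _ _
    have : QuasiCompact a := MorphismProperty.of_isPullback ha.flip ‹QuasiCompact f›
    have : QuasiCompact b := MorphismProperty.of_isPullback hb.flip ‹QuasiCompact f›
    rw [e2]
    infer_instance
  infer_instance

end Groth.Agent.S5939
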