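import Groth.Statements.S5947
import Groth.Agent.Lib.Kaehler.AffineUniv

set_option autoImplicit false
universe u
open CategoryTheory AlgebraicGeometry TopologicalSpace
open Nrm16

namespace Groth.Agent.S5947

/-- Let A be a commutative ring, B an A-algebra and L a B-module; put S = Spec A, X = Spec B and let F
be the O_X-module associated with L. For an S-derivation D of O_X into F write Γ(D) : B → L for its
effect on global sections (global sections of O_X and of F being identified with B and L by the
canonical isomorphisms). Then D ↦ Γ(D) is a bijection from the set of S-derivations of O_X into F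
onto the set of A-derivations of B into L: every Γ(D) is an A-derivation, and every A-derivation of
B into L is Γ(D) for exactly one D. (The published statement asserts an isomorphism of B-modules; no
module structure is placed on sheaf derivations here, so this row states the bijection.) -/
theorem result (A B : Type u) [CommRing A] [CommRing B] [Algebra A B]
    (L : Type u) [AddCommGroup L] [Module B L] [Module A L] [IsScalarTower A B L] :
    (∀ D : OmegaSh.Der (Spec.map (CommRingCat.ofHom (algebraMap A B))) (tilde (ModuleCat.of (CommRingCat.of B) L)),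
      ∃ δ : Derivation A B L, ∀ t : B, D.app ⊤ ((Scheme.ΓSpecIso (CommRingCat.of B)).inv t) =
        (tilde.isoTop (ModuleCat.of (CommRingCat.of B) L)).hom (δ t)) ∧
    ∀ δ : Derivation A B L,
      ∃! D : OmegaSh.Der (Spec.map (CommRingCat.ofHom (algebraMap A B))) (tilde (ModuleCat.of (CommRingCat.of B) L)),
        ∀ t : B, D.app ⊤ ((Scheme.ΓSpecIso (CommRingCat.of B)).inv t) =
          (tilde.isoTop (ModuleCat.of (CommRingCat.of B) L)).hom (δ t) := by
  let φ := CommRingCat.ofHom (algebraMap A B)
  let M := ModuleCat.of (CommRingCat.of B) L
  let e : M ≅ Lib.Kaehler.AffineUniv.gm (tilde M) := tilde.isoTop M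
  have bwd : ∀ δ : Derivation A B L, ∃ E : (Lib.Kaehler.AffineUniv.gm (tilde M)).Derivation φ,
      ∀ t : B, E.d t = e.hom (δ t) := fun δ =>
    ⟨ModuleCat.Derivation.mk (fun b : B => e.hom (δ b))
      (fun b b' => by rw [map_add]; exact map_add e.hom.hom _ _)
      (fun b b' => by
        rw [Derivation.leibniz]
        exact (map_add e.hom.hom _ _).trans
          (congrArg₂ (· + ·) (map_smul e.hom.hom b _) (map_smul e.hom.hom b' _)))
      (fun a => by
        change e.hom (δ (algebraMap A B a)) = 0
        rw [Derivation.map_algebraMap]
        exact map_zero e.hom.hom), fun _ => rfl⟩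
  constructor
  · intro D
    let E := Lib.Kaehler.AffineUniv.toModDer φ D
    refine ⟨Derivation.mk'
      { toFun := fun b => e.inv (E.d b)
        map_add' := fun b b' => by
          rw [ModuleCat.Derivation.d_add]; exact map_add e.inv.hom _ _
        map_smul' := fun a b => ?_ } (fun b b' => ?_), fun t => ?_⟩
    · change e.inv (E.d (a • b)) = a • (e.inv (E.d b) : L)
      rw [Algebra.smul_def, ModuleCat.Derivation.d_mul, ← algebraMap_smul B a (e.inv (E.d b) : L)]
      have h0 : E.d (algebraMap A B a) = 0 := E.d_map a
      rw [h0, smul_zero, add_zero]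
      exact map_smul e.inv.hom _ _
    · change e.inv (E.d (b * b')) = (b • e.inv (E.d b') + b' • e.inv (E.d b) : L)
      rw [ModuleCat.Derivation.d_mul]
      exact (map_add e.inv.hom _ _).trans
        (congrArg₂ (· + ·) (map_smul e.inv.hom b _) (map_smul e.inv.hom b' _))
    · change D.app ⊤ _ = e.hom (e.inv (E.d t))
      rw [e.inv_hom_id_apply]
      rfl
  · intro δ
    obtain ⟨E, hE⟩ := bwd δ
    obtain ⟨D, hD⟩ := (Lib.Kaehler.AffineUniv.toModDer_bijective φ _).2 E
    refine ⟨D, fun t => ?_, fun D' hD' => ?_⟩
    · have h := congrArg (fun X : (Lib.Kaehler.AffineUniv.gm (tilde M)).Derivation φ => X.d t) hD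
      exact h.trans (hE t)
    · refine (Lib.Kaehler.AffineUniv.toModDer_bijective φ _).1 ?_
      rw [hD]
      exact Lib.Kaehler.AffineUniv.modDer_ext φ fun t => (hD' t).trans (hE t).symm

end Groth.Agent.S5947
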