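import Groth.Statements.S5948
import Groth.Agent.H69.FibreLoci.FlatFibre

set_option autoImplicit false
universe u
open CategoryTheory CategoryTheory.Limits AlgebraicGeometry TopologicalSpace Topology
open Unram17

namespace Groth.Agent.S5948
open CategoryTheory CategoryTheory.Limits Groth.Agent.Lib
set_option backward.isDefEq.respectTransparency false

/-- Let g : X ⟶ S and h : Y ⟶ S be locally of finite presentation, f : X ⟶ Y a morphism with f ≫ h = g,
and F a quasi-coherent O_X-module of finite presentation. For x in X with s = g(x), the fibres X_s ⟶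
Y_s ⟶ Spec κ(s) of f over s are given by pullback squares, F_s is the pullback of F to X_s, and x is
identified with the unique point of X_s over it. Then the set E of points x such that F_s is flat
over Y_s at x (the stalk of F_s at x is a flat module over the local ring of Y_s at f_s(x)) is
locally constructible in X. -/
theorem result {X Y S : Scheme.{u}} (g : X ⟶ S) (h : Y ⟶ S)
    [LocallyOfFinitePresentation g] [LocallyOfFinitePresentation h] (f : X ⟶ Y) (w : f ≫ h = g)
    (F : X.Modules) [Coh.IsQCoh F] (hF : CohB1.IsFP F) :
    IsLocallyConstructible {x : ↥X | ∀ (Xs Ys : Scheme.{u}) (ιX : Xs ⟶ X) (ιY : Ys ⟶ Y) (fs : Xs ⟶ Ys)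
      (pY : Ys ⟶ Spec (S.residueField (g.base x))),
      IsPullback ιY pY h (S.fromSpecResidueField (g.base x)) → IsPullback ιX fs f ιY →
        ∀ x' : ↥Xs, ιX.base x' = x → FlatMod.IsFlatOverAt fs ((Scheme.Modules.pullback ιX).obj F) x'} := by
  subst w
  have : LocallyOfFinitePresentation (f ≫ h) := inferInstance
  convert H69.FibreLoci.FlatFibre.isLocallyConstructible f h F hF using 1
  ext x
  let s := h (f x)
  constructor
  · intro H p hp
    exact H _ _ (pullback.fst f (h.fiberι s)) (h.fiberι s) (pullback.snd f (h.fiberι s))
      (h.fiberToSpecResidueField s) (IsPullback.of_hasPullback h (S.fromSpecResidueField s))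
      (IsPullback.of_hasPullback f (h.fiberι s)) p hp
  · intro H Xs Ys ιX ιY fs pY hY hX x' hx'
    let e := hY.isoPullback
    have he : e.hom ≫ h.fiberι s = ιY := hY.isoPullback_hom_fst
    have hX' : IsPullback ιX fs f (e.hom ≫ h.fiberι s) := he.symm ▸ hX
    let π : Xs ⟶ pullback f (h.fiberι s) :=
      pullback.lift ιX (fs ≫ e.hom) (hX'.w.trans (Category.assoc _ _ _).symm)
    have hπ : π ≫ pullback.fst f (h.fiberι s) = ιX := pullback.lift_fst _ _ _
    have sq : IsPullback π fs (pullback.snd f (h.fiberι s)) e.hom :=
      IsPullback.of_right (by rw [hπ]; exact hX') (pullback.lift_snd _ _ _)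
        (IsPullback.of_hasPullback f (h.fiberι s))
    exact Flat55.FlatOverAt.of_iso fs
      ((Scheme.Modules.pullbackComp π (pullback.fst f (h.fiberι s))).app F ≪≫
        (Scheme.Modules.pullbackCongr hπ).app F) x'
      (Flat55.FlatOverAt.isFlatOverAt_baseChange _ _ _ _ sq _ x'
        (H (π x') ((congr($hπ x')).trans hx')))

end Groth.Agent.S5948
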