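import Groth.Statements.S5950
import Groth.Agent.S5949
import Groth.Agent.Lib.NormalBirational

set_option autoImplicit false
universe u
open CategoryTheory AlgebraicGeometry
open Unram17

namespace Groth.Agent.S5950

/-- Let X be an integral scheme which has a nonempty (hence dense) open subset at whose points the local
rings are integrally closed, let X' ⟶ X be its normalization, and let f : Y ⟶ X be a morphism of
schemes. Then there is an isomorphism Y ≅ X' over X if and only if: every local ring of Y is an
integrally closed domain, f is an integral morphism, and there is a dense open subset U of X whose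
preimage is dense in Y and such that the restriction f⁻¹(U) ⟶ U of f is an isomorphism. (The
published statement allows X reduced with locally finitely many irreducible components and a dense
normal open subset; this row states the case of an integral X. The quasi-compactness and
quasi-separatedness binders on the generic point always hold and only serve to form the
normalization.) -/
theorem result (X : Scheme.{u}) [IsIntegral X]
    [QuasiCompact (X.fromSpecStalk (genericPoint X))] [QuasiSeparated (X.fromSpecStalk (genericPoint X))]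
    (hV : ∃ V : X.Opens, (V : Set ↥X).Nonempty ∧ ∀ x ∈ V, IsIntegrallyClosed (X.presheaf.stalk x))
    {Y : Scheme.{u}} (f : Y ⟶ X) :
    (∃ e : Y ≅ Curv2.normalization X, e.hom ≫ Curv2.normalizationι X = f) ↔
      Pi1.IsNormalScheme Y ∧ IsIntegralHom f ∧
        ∃ U : X.Opens, Dense (U : Set ↥X) ∧ Dense ((f ⁻¹ᵁ U : Y.Opens) : Set ↥Y) ∧ IsIso (f ∣_ U) := by
  obtain ⟨V, hVne, hVn⟩ := hV
  constructor
  · intro he
    obtain ⟨hN, hf, hirr, hfib, hiso⟩ := (S5949.result X f).mp he
    haveI : IsReduced Y := by
      haveI : ∀ y : Y, _root_.IsReduced (Y.presheaf.stalk y) := fun y => by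
        haveI := (hN y).1; infer_instance
      exact isReduced_of_isReduced_stalk Y
    haveI : IsIntegral Y := isIntegral_of_irreducibleSpace_of_isReduced Y
    have hη : f (genericPoint ↥Y) = genericPoint ↥X :=
      (hfib.ge rfl : genericPoint ↥Y ∈ f.base ⁻¹' {genericPoint ↥X})
    have hηV : genericPoint ↥X ∈ V := ((genericPoint_spec ↥X).mem_open_set_iff V.isOpen).mpr (by simpa using hVne)
    have hmem : genericPoint ↥Y ∈ f ⁻¹ᵁ V := by show f (genericPoint ↥Y) ∈ V; rw [hη]; exact hηV
    haveI : Nonempty V.toScheme := ⟨⟨_, hηV⟩⟩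
    haveI : Nonempty (f ⁻¹ᵁ V).toScheme := ⟨⟨_, hmem⟩⟩
    haveI : IsIntegral V.toScheme := isIntegral_of_isOpenImmersion V.ι
    haveI : IsIntegral (f ⁻¹ᵁ V).toScheme := isIntegral_of_isOpenImmersion (f ⁻¹ᵁ V).ι
    haveI : IsIntegralHom f := hf
    haveI : IsIntegralHom (f ∣_ V) := IsZariskiLocalAtTarget.restrict hf V
    haveI : Surjective f := ⟨fun x => by
      have hcl : IsClosed (Set.range f) := f.isClosedMap.isClosed_range
      exact (genericPoint_specializes x).mem_closed hcl ⟨_, hη⟩⟩
    haveI : Surjective (f ∣_ V) := IsZariskiLocalAtTarget.restrict ‹Surjective f› V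
    have hN' : Pi1.IsNormalScheme V.toScheme := fun v => by
      haveI := hVn v.1 v.2
      let r := (V.stalkIso v).commRingCatIsoToRingEquiv
      exact ⟨r.toMulEquiv.isDomain _, IsIntegrallyClosed.of_equiv r.symm⟩
    have hgU : (genericPoint (f ⁻¹ᵁ V).toScheme).1 = genericPoint ↥Y :=
      genericPoint_eq_of_isOpenImmersion (f ⁻¹ᵁ V).ι
    have hgV : (genericPoint V.toScheme).1 = genericPoint ↥X := genericPoint_eq_of_isOpenImmersion V.ι
    have hgen : (f ∣_ V) (genericPoint (f ⁻¹ᵁ V).toScheme) = genericPoint V.toScheme :=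
      Subtype.ext (by rw [morphismRestrict_base_coe, hgU, hη, hgV])
    have hi : IsIso ((f ∣_ V).stalkMap (genericPoint (f ⁻¹ᵁ V).toScheme)) := by
      refine ((MorphismProperty.isomorphisms CommRingCat).arrow_mk_iso_iff (morphismRestrictStalkMap f V _)).mpr ?_
      show IsIso (f.stalkMap (genericPoint (f ⁻¹ᵁ V).toScheme).1)
      rw [hgU]; exact hiso
    refine ⟨hN, hf, V, IsOpen.dense V.isOpen hVne, IsOpen.dense (f ⁻¹ᵁ V).isOpen ⟨_, hmem⟩, ?_⟩
    exact Lib.NormalBirational.isIso_of_stalkMap_bijective hN' (f ∣_ V) hgen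
      ((ConcreteCategory.isIso_iff_bijective _).mp hi)
  · rintro ⟨hN, hf, U, hU, hfU, hiso⟩
    refine (S5949.result X f).mpr ⟨hN, hf, ?_⟩
    haveI := hiso
    have hUne : (U : Set ↥X).Nonempty := hU.nonempty
    have hηU : genericPoint ↥X ∈ U := ((genericPoint_spec ↥X).mem_open_set_iff U.isOpen).mpr (by simpa using hUne)
    haveI : Nonempty U.toScheme := ⟨⟨_, hηU⟩⟩
    haveI : IsIntegral U.toScheme := isIntegral_of_isOpenImmersion U.ι
    haveI : Nonempty (f ⁻¹ᵁ U).toScheme := ⟨(inv (f ∣_ U)) (genericPoint U.toScheme)⟩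
    haveI : IsIntegral (f ⁻¹ᵁ U).toScheme := isIntegral_of_isOpenImmersion (f ∣_ U)
    let ξ : ↥Y := (genericPoint (f ⁻¹ᵁ U).toScheme).1
    have hξ : closure ({ξ} : Set ↥Y) = Set.univ := by
      refine Set.univ_subset_iff.mp ?_
      rw [← hfU.closure_eq]
      refine closure_minimal (fun y hy => ?_) isClosed_closure
      exact (((genericPoint_specializes (α := (f ⁻¹ᵁ U).toScheme) ⟨y, hy⟩).map continuous_subtype_val).mem_closure)
    have hirr : IrreducibleSpace ↥Y := by
      haveI : Nonempty ↥Y := ⟨ξ⟩
      have : IsIrreducible (closure ({ξ} : Set ↥Y)) := isIrreducible_singleton.closure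
      rw [hξ] at this
      exact { toNonempty := ⟨ξ⟩, isPreirreducible_univ := this.isPreirreducible }
    have hξeq : genericPoint ↥Y = ξ := ((genericPoint_spec ↥Y).eq hξ)
    have hfξ : f ξ = genericPoint ↥X := by
      have h1 : (f ∣_ U) (genericPoint (f ⁻¹ᵁ U).toScheme) = genericPoint U.toScheme :=
        genericPoint_eq_of_isOpenImmersion (f ∣_ U)
      have h2 := congrArg Subtype.val h1
      rw [morphismRestrict_base_coe] at h2
      exact h2.trans (genericPoint_eq_of_isOpenImmersion U.ι)
    refine ⟨hirr, Set.ext fun y => ⟨fun hy => ?_, ?_⟩, ?_⟩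
    · have hy' : f y = genericPoint ↥X := hy
      have hyU : y ∈ f ⁻¹ᵁ U := by show f y ∈ U; rw [hy']; exact hηU
      have : (f ∣_ U) ⟨y, hyU⟩ = (f ∣_ U) (genericPoint (f ⁻¹ᵁ U).toScheme) :=
        Subtype.ext (by rw [morphismRestrict_base_coe, morphismRestrict_base_coe]; exact hy'.trans hfξ.symm)
      show y = genericPoint ↥Y
      rw [hξeq]
      exact congrArg Subtype.val ((f ∣_ U).homeomorph.injective this)
    · rintro rfl
      show f (genericPoint ↥Y) = _
      rw [hξeq, hfξ]
    · rw [hξeq]
      exact ((MorphismProperty.isomorphisms CommRingCat).arrow_mk_iso_iff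
        (morphismRestrictStalkMap f U (genericPoint (f ⁻¹ᵁ U).toScheme))).mp
        (show IsIso _ from inferInstance)

end Groth.Agent.S5950
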