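import Groth.Statements.S5951
import Groth.Agent.Lib.Ideal.Comap

set_option autoImplicit false
set_option linter.style.haveILetI false
universe u
open CategoryTheory CategoryTheory.Limits AlgebraicGeometry TopologicalSpace Opposite
open Nrm16

namespace Groth.Agent.S5951

/-- Let f : Y ⟶ X be a closed immersion, v : X' ⟶ X a morphism and Y' a fibre product of Y and X' over
X, with projections u : Y' ⟶ Y and f' : Y' ⟶ X'. For each n let w be the morphism from the n-th
infinitesimal neighbourhood of f' to that of f compatible with the two inclusions and v (it is
unique, the inclusions being closed immersions). Then w and the inclusion of the neighbourhood of f'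
into X' exhibit that neighbourhood as the fibre product of the n-th infinitesimal neighbourhood of f
with X' over X. (The published statement allows f to be any immersion, or any morphism with
surjective comorphism when v is flat; this row states the case of a closed immersion.) -/
theorem result {Y X Y' X' : Scheme.{u}} (f : Y ⟶ X) [IsClosedImmersion f]
    (v : X' ⟶ X) (u : Y' ⟶ Y) (f' : Y' ⟶ X') (hsq : IsPullback u f' f v) (n : ℕ)
    (w : PrinPart.infNbhd f' n ⟶ PrinPart.infNbhd f n)
    (hw : w ≫ PrinPart.infNbhdι f n = PrinPart.infNbhdι f' n ≫ v) :
    IsPullback w (PrinPart.infNbhdι f' n) (PrinPart.infNbhdι f n) v := by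
  let e := hsq.flip.isoPullback
  have hf' : f' = e.hom ≫ pullback.fst v f := (hsq.flip.isoPullback_hom_fst).symm
  haveI : IsClosedImmersion f' := hf' ▸ inferInstance
  have hker : f.ker.comap v = f'.ker := by
    have h1 : (e.hom ≫ pullback.fst v f).ker = (pullback.fst v f).ker :=
      Scheme.Hom.ker_comp_of_isIso _ _
    rw [hf', h1, Scheme.IdealSheafData.ker_fst_of_isClosedImmersion]
  haveI : IsClosedImmersion (PrinPart.infNbhdι f n) := by
    unfold PrinPart.infNbhdι; infer_instance
  haveI : IsClosedImmersion (PrinPart.infNbhdι f' n) := by
    unfold PrinPart.infNbhdι; infer_instance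
  refine (isPullback_of_isClosedImmersion _ _ w v hw.symm ?_).flip
  show (Scheme.IdealSheafData.subschemeι (f.ker ^ (n + 1))).ker.comap v =
    (Scheme.IdealSheafData.subschemeι (f'.ker ^ (n + 1))).ker
  rw [Scheme.IdealSheafData.ker_subschemeι, Scheme.IdealSheafData.ker_subschemeι,
    Lib.Ideal.Comap.comap_pow, hker]

end Groth.Agent.S5951
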