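import Groth.Statements.S5961
import Groth.Agent.Lib.PrinParts.Alt

set_option autoImplicit false
universe u
open CategoryTheory CategoryTheory.Limits AlgebraicGeometry TopologicalSpace Opposite
open Nrm16

namespace Groth.Agent.S5961

/-- Let f : X ⟶ S be a morphism of schemes, G an O_X-module and D : O_X ⟶ G a differential operator of
order at most 1 relative to S. Then D can be written in exactly one way as v + d with v : O_X ⟶ G an
O_X-linear map and d an S-derivation of O_X into G. -/
theorem result {X S : Scheme.{u}} (f : X ⟶ S) (G : X.Modules)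
    (D : (Coh.structureModule X).presheaf ⟶ G.presheaf)
    (hD : PrinPart.IsDiffOpLE f (Coh.structureModule X) G 1 D) :
    ∃! p : (Coh.structureModule X ⟶ G) × OmegaSh.Der f G,
      ∀ (U : X.Opens) (a : Γ(X, U)),
        D.app (op U) (OmegaSh.strSect X U a) = p.1.app U (OmegaSh.strSect X U a) + p.2.app U a := by
  have hl := Groth.Agent.Lib.PrinParts.isBaseLinear_of_isDiffOpLE f hD
  let e : (U : X.Opens) → Γ(G, U) := fun U => D.app (op U) (OmegaSh.strSect X U 1)
  have he : ∀ (U V : X.Opens) (i : V ⟶ U), G.presheaf.map i.op (e U) = e V := fun U V i => by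
    have h := (ConcreteCategory.congr_hom (D.naturality i.op) (OmegaSh.strSect X U 1)).symm
    refine h.trans (congrArg (fun s => D.app (op V) (OmegaSh.strSect X V s)) ?_)
    exact map_one (X.presheaf.map i.op).hom
  let φ : (Coh.structureModule X).presheaf ⟶ G.presheaf :=
    { app := fun U => AddCommGrpCat.ofHom (AddMonoidHom.mk'
        (fun a => (OmegaSh.fnSect X U.unop a) • e U.unop) fun a b => (congrArg (· • e U.unop) ((OmegaSh.fnSect X U.unop).map_add a b)).trans (add_smul _ _ _))
      naturality := fun U V i => by
        ext a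
        show (OmegaSh.fnSect X V.unop ((Coh.structureModule X).presheaf.map i a)) • e V.unop =
          G.presheaf.map i ((OmegaSh.fnSect X U.unop a) • e U.unop)
        rw [← he U.unop V.unop i.unop]
        exact (Scheme.Modules.map_smul G i.unop (OmegaSh.fnSect X U.unop a) (e U.unop)).symm }
  let p₁ : Coh.structureModule X ⟶ G :=
    ⟨PresheafOfModules.homMk φ fun U r m => mul_smul (show Γ(X, U.unop) from r)
      (OmegaSh.fnSect X U.unop m) (e U.unop)⟩
  let dd : (U : X.Opens) → Γ(X, U) →+ Γ(G, U) := fun U =>
    AddMonoidHom.mk' (fun a => D.app (op U) (OmegaSh.strSect X U a) - a • e U) fun a b => by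
      rw [map_add, map_add, add_smul]; abel
  let p₂ : OmegaSh.Der f G :=
    { d := fun {U} => dd U.unop
      d_mul := fun {U} (a b : Γ(X, U.unop)) => by
        have h := Groth.Agent.Lib.PrinParts.leibniz_of_order_one f hD U.unop a b
        show D.app (op U.unop) _ - (a * b) • e U.unop =
          a • (D.app (op U.unop) _ - b • e U.unop) + b • (D.app (op U.unop) _ - a • e U.unop)
        rw [smul_sub, smul_sub, smul_smul, smul_smul, mul_comm b a]
        linear_combination (norm := abel) h
      d_map := fun {U V} i (x : Γ(X, U.unop)) => by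
        show D.app (op V.unop) _ - (show Γ(X, V.unop) from X.presheaf.map i x) • e V.unop = G.presheaf.map i (D.app (op U.unop) _ - x • e U.unop)
        have h := ConcreteCategory.congr_hom (D.naturality i) (OmegaSh.strSect X U.unop x)
        rw [map_sub, ← he U.unop V.unop i.unop]
        exact congrArg₂ (· - ·) h (Scheme.Modules.map_smul G i.unop x (e U.unop)).symm
      d_app := fun {V} a => by
        show D.app (op (f ⁻¹ᵁ V.unop)) (OmegaSh.strSect X _ (f.app V.unop a)) -
          f.app V.unop a • e (f ⁻¹ᵁ V.unop) = 0
        have h := hl V.unop a (f ⁻¹ᵁ V.unop) le_rfl (OmegaSh.strSect X _ 1)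
        rw [show X.presheaf.map (homOfLE (le_refl (f ⁻¹ᵁ V.unop))).op (f.app V.unop a) =
          f.app V.unop a from by
            rw [show (homOfLE (le_refl (f ⁻¹ᵁ V.unop))).op = 𝟙 _ from rfl,
              CategoryTheory.Functor.map_id]
            rfl, ← OmegaSh.strSect_mul, mul_one] at h
        exact sub_eq_zero.mpr h }
  refine ⟨(p₁, p₂), fun U a => ?_, ?_⟩
  · show _ = a • e U + (D.app (op U) (OmegaSh.strSect X U a) - a • e U)
    abel
  · rintro ⟨q₁, q₂⟩ hq
    have h1 : ∀ U, q₁.app U (OmegaSh.strSect X U 1) = e U := fun U => by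
      have h := hq U 1
      rw [show q₂.app U 1 = 0 from q₂.d_one (op U), add_zero] at h
      exact h.symm
    have hs : ∀ (U : X.Opens) (a : Γ(X, U)), q₁.app U (OmegaSh.strSect X U a) = a • e U := fun U a => by
      rw [← h1, ← Scheme.Modules.Hom.app_smul, ← OmegaSh.strSect_mul, mul_one]
    have e1 : q₁ = p₁ := Scheme.Modules.hom_ext _ _ fun U => by
      ext m
      exact hs U (OmegaSh.fnSect X U m)
    have e2 : q₂ = p₂ := by
      refine PresheafOfModules.Derivation.ext (funext fun U => AddMonoidHom.ext fun a => ?_)
      have h := hq U.unop a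
      rw [hs] at h
      exact eq_sub_of_add_eq' h.symm
    rw [e1, e2]

end Groth.Agent.S5961
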