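import Groth.Statements.S5965
-- import your own Groth.Agent.* helpers here

set_option autoImplicit false
universe u
open CategoryTheory CategoryTheory.Limits AlgebraicGeometry TopologicalSpace Opposite
open Nrm16

namespace Groth.Agent.S5965

/-- Let g : X ⟶ Y be a morphism locally of finite type with a section f : Y ⟶ X which is a closed
immersion. Then for every n the n-th infinitesimal neighbourhood of Y in X, mapped to Y through its
inclusion into X followed by g, is finite over Y. (The published statement allows any section f and
says that the structure sheaf of the neighbourhood is a quasi-coherent O_Y-algebra which is an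
O_Y-module of finite type; this row assumes f a closed immersion and states the conclusion as
finiteness of the morphism to Y.) -/
theorem result {X Y : Scheme.{u}} (g : X ⟶ Y) [LocallyOfFiniteType g] (f : Y ⟶ X)
    [IsClosedImmersion f] (hf : f ≫ g = 𝟙 Y) (n : ℕ) :
    IsFinite (PrinPart.infNbhdι f n ≫ g) := by
  set h := PrinPart.infNbhdι f n ≫ g with hh
  set t := PrinPart.toInfNbhd f n with ht
  have hth : t ≫ h = 𝟙 Y := by rw [hh, ht, PrinPart.toInfNbhd_ι_assoc, hf]
  have hts : Surjective t := ⟨PrinPart.toInfNbhd_surjective f n⟩
  haveI : LocallyOfFiniteType h := by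
    rw [hh]; unfold PrinPart.infNbhdι; infer_instance
  have hl : ∀ x, h (t x) = x := fun x => by rw [← Scheme.Hom.comp_apply, hth]; rfl
  have hr : ∀ x, t (h x) = x := fun x => by
    obtain ⟨y, rfl⟩ := PrinPart.toInfNbhd_surjective f n x
    rw [← ht, hl]
  have hemb : Topology.IsEmbedding h :=
    Function.LeftInverse.isEmbedding (f := t) hr t.continuous h.continuous
  haveI : IsAffineHom h := by
    refine isAffineHom_of_isInducing h hemb.isInducing ?_
    rw [Function.Surjective.range_eq fun y => ⟨t y, hl y⟩]
    exact isClosed_univ
  haveI : UniversallyClosed (t ≫ h) := by rw [hth]; infer_instance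
  haveI : UniversallyClosed h := UniversallyClosed.of_comp_surjective t h
  exact (IsFinite.iff_isIntegralHom_and_locallyOfFiniteType h).mpr
    ⟨(IsIntegralHom.iff_universallyClosed_and_isAffineHom).mpr ⟨inferInstance, inferInstance⟩,
      inferInstance⟩

end Groth.Agent.S5965
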