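import Groth.Statements.S5967
import Groth.Agent.Lib.PrinParts.Flat

set_option autoImplicit false
universe u
open CategoryTheory CategoryTheory.Limits AlgebraicGeometry TopologicalSpace Opposite
open Nrm16

namespace Groth.Agent.S5967

/-- Let f : X ⟶ S be a morphism of schemes and n a natural number, and assume that P^n_{X/S} is a flat
O_X-module for its left structure. Then the functor F ↦ P^n_{X/S}(F) on O_X-modules preserves finite
limits (so it is exact). -/
theorem result {X S : Scheme.{u}} (f : X ⟶ S) (n : ℕ)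
    (hP : FlatMod.IsFlat (PrinPart.P f n)) :
    PreservesFiniteLimits
      ((Scheme.Modules.pullback (PrinPart.pr2 f n)) ⋙ (Scheme.Modules.pushforward (PrinPart.pr1 f n))) := by
  obtain ⟨σ, -, hσσ, hσ1, -, -⟩ := Groth.Agent.Lib.PrinParts.exists_symm f n
  haveI : IsIso σ := ⟨σ, hσσ, hσσ⟩
  haveI := Groth.Agent.Lib.PrinParts.flat_pr1 f n hP
  haveI : Flat (PrinPart.pr2 f n) := by rw [← hσ1]; infer_instance
  haveI : PreservesColimitsOfSize.{0, 0} (Scheme.Modules.pullback (PrinPart.pr2 f n)) :=
    (Scheme.Modules.pullbackPushforwardAdjunction (PrinPart.pr2 f n)).leftAdjoint_preservesColimits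
  haveI : (Scheme.Modules.pullback (PrinPart.pr2 f n)).Additive :=
    Functor.additive_of_preserves_binary_products _
  haveI : PreservesFiniteLimits (Scheme.Modules.pullback (PrinPart.pr2 f n)) := by
    rw [Functor.preservesFiniteLimits_iff_forall_exact_map_and_mono]
    intro S hS
    haveI := hS.mono_f
    haveI := hS.epi_g
    refine ⟨?_, Groth.Agent.Lib.Cyc.FP.Stalk.mono_pullback (PrinPart.pr2 f n) S.f⟩
    exact ((S.map (Scheme.Modules.pullback (PrinPart.pr2 f n))).exact_and_epi_g_iff_g_is_cokernel.2
      ⟨CokernelCofork.mapIsColimit _ hS.gIsCokernel (Scheme.Modules.pullback (PrinPart.pr2 f n))⟩).1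
  haveI : PreservesLimitsOfSize.{0, 0} (Scheme.Modules.pushforward (PrinPart.pr1 f n)) :=
    (Scheme.Modules.pullbackPushforwardAdjunction (PrinPart.pr1 f n)).rightAdjoint_preservesLimits
  haveI : PreservesFiniteLimits (Scheme.Modules.pushforward (PrinPart.pr1 f n)) :=
    PreservesLimitsOfSize.preservesFiniteLimits _
  exact comp_preservesFiniteLimits _ _

end Groth.Agent.S5967
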