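import Groth.Statements.S5972
import Groth.Agent.Lib.PrinParts.Ring

set_option autoImplicit false
universe u
open CategoryTheory CategoryTheory.Limits AlgebraicGeometry TopologicalSpace Opposite
open Nrm16

namespace Groth.Agent.S5972

/-- Let A → B be a ring homomorphism, X = Spec B, S = Spec A with f : X ⟶ S the induced morphism, and n
a natural number; identify B with the ring of global functions on X through the canonical
isomorphism. If ψ : B ⊗_A B → Γ(X, P^n_{X/S}) is the additive map with ψ(b ⊗ b') = b · d^n(b') for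
all b, b' in B, then ψ is surjective with kernel the (n+1)-st power of the kernel I of the
multiplication map B ⊗_A B → B. -/
theorem result (A B : Type u) [CommRing A] [CommRing B] [Algebra A B] (n : ℕ)
    (ψ : TensorProduct A B B →+
      Γ(PrinPart.P (Spec.map (CommRingCat.ofHom (algebraMap A B))) n, (⊤ : (Spec (CommRingCat.of B)).Opens)))
    (hψ : ∀ b b' : B, ψ (b ⊗ₜ[A] b') =
      (Scheme.ΓSpecIso (CommRingCat.of B)).inv b •
        PrinPart.dn (Spec.map (CommRingCat.ofHom (algebraMap A B))) n ⊤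
          ((Scheme.ΓSpecIso (CommRingCat.of B)).inv b')) :
    Function.Surjective ψ ∧ ψ.ker = (KaehlerDifferential.ideal A B ^ (n + 1)).toAddSubgroup := by
  set γA := Scheme.ΓSpecIso (CommRingCat.of A)
  set γB := Scheme.ΓSpecIso (CommRingCat.of B)
  letI iT := ((Spec.map (CommRingCat.ofHom (algebraMap A B))).appLE ⊤ ⊤ le_top).hom.toAlgebra
  have hcom : ∀ a : A, (Spec.map (CommRingCat.ofHom (algebraMap A B))).appLE ⊤ ⊤ le_top (γA.inv a) = γB.inv (algebraMap A B a) := fun a => by
    have h := ConcreteCategory.congr_hom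
      (Scheme.ΓSpecIso_inv_naturality (CommRingCat.ofHom (algebraMap A B))) a
    simp only [CommRingCat.comp_apply] at h
    refine Eq.trans ?_ h.symm
    rw [Scheme.Hom.appLE]
    simp only [CommRingCat.comp_apply]
    refine (congrArg (fun k => (Spec (CommRingCat.of B)).presheaf.map k _)
      (Subsingleton.elim _ (𝟙 _))).trans ?_
    rw [CategoryTheory.Functor.map_id]
    rfl
  obtain ⟨μ, hμ, hμJ⟩ := Groth.Agent.Lib.PrinParts.exists_tensorMap (A := A) (B := B)
    γA.inv.hom γB.inv.hom hcom
  obtain ⟨ν, hν, hνJ⟩ := Groth.Agent.Lib.PrinParts.exists_tensorMap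
    (A := Γ(Spec (CommRingCat.of A), ⊤)) (B := Γ(Spec (CommRingCat.of B), ⊤))
    γA.hom.hom γB.hom.hom fun a => by
      obtain ⟨a, rfl⟩ := (ConcreteCategory.bijective_of_isIso γA.inv).2 a
      rw [show γA.hom.hom (γA.inv a) = a from Iso.inv_hom_id_apply γA a]
      exact (Iso.inv_hom_id_apply γB (algebraMap A B a)).symm.trans (congrArg γB.hom (hcom a).symm)
  have hνμ : ∀ τ, ν (μ τ) = τ := by
    intro τ
    induction τ using TensorProduct.induction_on with
    | zero => rw [map_zero, map_zero]
    | add x y hx hy => rw [map_add, map_add, hx, hy]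
    | tmul a b =>
      rw [hμ, hν]
      exact congrArg₂ (· ⊗ₜ[A] ·) (Iso.inv_hom_id_apply γB a) (Iso.inv_hom_id_apply γB b)
  have hμν : ∀ τ, μ (ν τ) = τ := by
    intro τ
    induction τ using TensorProduct.induction_on with
    | zero => rw [map_zero, map_zero]
    | add x y hx hy => rw [map_add, map_add, hx, hy]
    | tmul a b =>
      rw [hν, hμ]
      exact congrArg₂ (· ⊗ₜ[_] ·) (Iso.hom_inv_id_apply γB a) (Iso.hom_inv_id_apply γB b)
  obtain ⟨hs, hk⟩ := Groth.Agent.Lib.PrinParts.surjective_and_ker_of_chart (Spec.map (CommRingCat.ofHom (algebraMap A B))) n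
    (isAffineOpen_top _) (isAffineOpen_top _) le_top (ψ.comp ν.toAddMonoidHom) fun b b' => by
      show ψ (ν (b ⊗ₜ b')) = _
      rw [hν, hψ]
      exact congrArg₂ (fun p q => p • PrinPart.dn (Spec.map (CommRingCat.ofHom (algebraMap A B))) n ⊤ q) (Iso.hom_inv_id_apply γB b)
        (Iso.hom_inv_id_apply γB b')
  refine ⟨fun m => ?_, ?_⟩
  · obtain ⟨τ, hτ⟩ := hs m
    exact ⟨ν τ, hτ⟩
  · ext τ
    have h : ψ τ = 0 ↔ μ τ ∈ (KaehlerDifferential.ideal Γ(Spec (CommRingCat.of A), ⊤)
        Γ(Spec (CommRingCat.of B), ⊤) ^ (n + 1)).toAddSubgroup := by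
      rw [← hk, AddMonoidHom.mem_ker]
      show _ ↔ ψ (ν (μ τ)) = 0
      rw [hνμ]
    rw [AddMonoidHom.mem_ker, h, Submodule.mem_toAddSubgroup, Submodule.mem_toAddSubgroup]
    constructor
    · intro hτ
      have := Ideal.mem_map_of_mem ν hτ
      rw [hνμ, Ideal.map_pow] at this
      exact Ideal.pow_right_mono hνJ _ this
    · intro hτ
      have := Ideal.mem_map_of_mem μ hτ
      rw [Ideal.map_pow] at this
      exact Ideal.pow_right_mono hμJ _ this

end Groth.Agent.S5972
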