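import Groth.Statements.S5977
import Groth.Agent.Lib.PrinParts.Module

set_option autoImplicit false
universe u
open CategoryTheory CategoryTheory.Limits AlgebraicGeometry TopologicalSpace Opposite
open Nrm16

namespace Groth.Agent.S5977

/-- Let f : Y ⟶ Z be a morphism and j : X ⟶ Y a closed immersion, and let φ : j^* P^n_{Y/Z} ⟶ P^n_{X/Z}
be the canonical O_X-linear map of sheaves of principal parts of order n, the one sending the
pullback of d^n b to d^n (j♯ b). Then φ is an epimorphism. (The published statement also identifies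
the kernel of φ as the ideal generated by the pullback of d^n of the ideal of j; this row states the
surjectivity.) -/
theorem result {X Y Z : Scheme.{u}} (f : Y ⟶ Z) (j : X ⟶ Y) [IsClosedImmersion j] (n : ℕ)
    (φ : (Scheme.Modules.pullback j).obj (PrinPart.P f n) ⟶ PrinPart.P (j ≫ f) n)
    (hφ : PrinPart.IsPMap f (j ≫ f) j n φ) :
    Epi φ := by
  refine ⟨fun {G} a b hab => ?_⟩
  refine Groth.Agent.Lib.PrinParts.hom_ext_of_dP a b fun W t => ?_
  refine TopCat.Presheaf.section_ext ⟨G.presheaf, G.isSheaf⟩ W _ _ fun x hx => ?_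
  change G.presheaf.germ W x hx _ = G.presheaf.germ W x hx _
  obtain ⟨σ, hσ⟩ := j.stalkMap_surjective x (X.presheaf.germ W x hx (OmegaSh.fnSect X W t))
  obtain ⟨U, hU, c, rfl⟩ := TopCat.Presheaf.exists_germ_eq Y.presheaf σ
  have hσ' : X.presheaf.germ (j ⁻¹ᵁ U) x hU (j.app U c) =
      X.presheaf.germ W x hx (OmegaSh.fnSect X W t) :=
    (Scheme.Hom.germ_stalkMap_apply j U x hU c).symm.trans hσ
  obtain ⟨W', hxW', i₁, i₂, hres⟩ := TopCat.Presheaf.germ_eq X.presheaf x hU hx _ _ hσ'
  have h := congr(Scheme.Modules.Hom.app $hab (j ⁻¹ᵁ U)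
    (OmegaSh.pullSect j (PrinPart.P f n) U (PrinPart.dn f n U c)))
  simp only [Scheme.Modules.Hom.comp_app, AddCommGrpCat.hom_comp, AddMonoidHom.coe_comp,
    Function.comp_apply] at h
  rw [hφ U c] at h
  have key : ∀ (k : PrinPart.P (j ≫ f) n ⟶ G),
      G.presheaf.germ W x hx (k.app W (PrinPart.dP (j ≫ f) n (Coh.structureModule X) W t)) =
      G.presheaf.germ (j ⁻¹ᵁ U) x hU (k.app (j ⁻¹ᵁ U) (PrinPart.dn (j ≫ f) n (j ⁻¹ᵁ U) (j.app U c))) := by
    intro k
    rw [← TopCat.Presheaf.germ_res_apply G.presheaf i₂ x hxW',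
      ← TopCat.Presheaf.germ_res_apply G.presheaf i₁ x hxW']
    refine congrArg (G.presheaf.germ W' x hxW') ?_
    have n₁ := ConcreteCategory.congr_hom (k.mapPresheaf.naturality i₂.op)
      (PrinPart.dP (j ≫ f) n (Coh.structureModule X) W t)
    have n₂ := ConcreteCategory.congr_hom (k.mapPresheaf.naturality i₁.op)
      (PrinPart.dn (j ≫ f) n (j ⁻¹ᵁ U) (j.app U c))
    refine n₁.symm.trans (Eq.trans ?_ n₂)
    refine congrArg (k.app W') ?_
    refine (PrinPart.dP_map (j ≫ f) n (Coh.structureModule X) i₂.le t).symm.trans ?_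
    refine Eq.trans ?_ (PrinPart.dP_map (j ≫ f) n (Coh.structureModule X) i₁.le
      (OmegaSh.strSect X (j ⁻¹ᵁ U) (j.app U c)))
    exact congrArg (PrinPart.dP (j ≫ f) n (Coh.structureModule X) W') hres.symm
  exact (key a).trans ((congrArg (G.presheaf.germ (j ⁻¹ᵁ U) x hU) h).trans (key b).symm)

end Groth.Agent.S5977
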