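import Groth.Statements.S5987
import Groth.Agent.S5073
import Groth.Agent.Lib.LCFin.Connected
import Groth.Agent.Lib.LCFin.CMDim
import Mathlib.RingTheory.Ideal.MinimalPrime.Localization
-- import your own Groth.Agent.* helpers here

set_option autoImplicit false
universe u
open EGA418

namespace Groth.Agent.S5987

/-- Let A be a Noetherian local ring and p a prime ideal of A such that the local ring A_p is
Cohen–Macaulay, of dimension s; let t_1, …, t_s be a system of parameters of A_p (elements of its
maximal ideal such that A_p/(t_1, …, t_s) has dimension 0). Then there are elements x_1, …, x_s of p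
which form part of a system of parameters of A, in the sense that dim A/(x_1, …, x_s) + s = dim A,
and elements a_1, …, a_s of A outside p, such that for every i the image of x_i in A_p is congruent
to a_i t_i modulo the ideal (t_1, …, t_{i-1}) A_p. (The published statement asks for the image of
x_i to be congruent to t_i itself; this row allows the factor a_i outside p, which is what the
published proof gives, since it first multiplies each t_i by a unit of A_p to bring it into the
image of A. The published form fails already for s = 1: for A the localization of k[X, Y] at (X, Y),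
p = (X) and t_1 = X/Y, the congruence modulo the zero ideal asks for an element of A with image X/Y
in A_p, and there is none.) -/
theorem result (A : Type u) [CommRing A]
    [IsNoetherianRing A] [IsLocalRing A] (p : Ideal A) [p.IsPrime]
    [LocCoh.IsCohenMacaulayLocalRing (Localization.AtPrime p)] (s : ℕ)
    (hs : ringKrullDim (Localization.AtPrime p) = s) (t : Fin s → Localization.AtPrime p)
    (ht : ∀ i, t i ∈ IsLocalRing.maximalIdeal (Localization.AtPrime p))
    (hsop : ringKrullDim (Localization.AtPrime p ⧸ Ideal.span (Set.range t)) = 0) :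
    ∃ x a : Fin s → A, (∀ i, x i ∈ p) ∧ (∀ i, a i ∉ p) ∧
      ringKrullDim (A ⧸ Ideal.span (Set.range x)) + (s : WithBot ℕ∞) = ringKrullDim A ∧
      ∀ i : Fin s, algebraMap A (Localization.AtPrime p) (x i) -
          algebraMap A (Localization.AtPrime p) (a i) * t i ∈
        Ideal.span (t '' {j : Fin s | j < i}) := by
  classical
  let L := Localization.AtPrime p
  let f := algebraMap A L
  -- cutting by one element
  have drop : ∀ (c : Ideal A) (y : A) (d : ℕ), ringKrullDim (A ⧸ c) ≤ d →
      (∀ q ∈ c.minimalPrimes, y ∉ q) → c ⊔ Ideal.span {y} ≠ ⊤ →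
      ∃ e : ℕ, ringKrullDim (A ⧸ c ⊔ Ideal.span {y}) = e ∧ e + 1 ≤ d := by
    intro c y d hd hy htop
    obtain ⟨e, he⟩ := Groth.Agent.Lib.LCFin.Connected.exists_dim_eq _ htop
    obtain ⟨l, hl⟩ : ∃ l : ℕ, ringKrullDim (A ⧸ c) = l :=
      Groth.Agent.Lib.LCFin.Connected.exists_dim_eq c (fun h => htop (by rw [h, top_sup_eq]))
    have hld : l ≤ d := by rw [hl] at hd; exact_mod_cast hd
    refine ⟨e, he, le_trans ?_ hld⟩
    rcases Nat.eq_zero_or_pos l with h0 | h0
    · exfalso
      obtain ⟨q, hq⟩ := Ideal.nonempty_minimalPrimes (R := A) htop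
      have hqp := hq.1.1
      obtain ⟨P, hP, hPq⟩ := Ideal.exists_minimalPrimes_le (le_sup_left.trans hq.1.2)
      have hPp := hP.1.1
      have hlt : P < q := lt_of_le_of_ne hPq fun h =>
        hy P hP (h ▸ hq.1.2 (Ideal.mem_sup_right (Ideal.mem_span_singleton_self y)))
      have h1 := (Groth.Agent.Lib.Depth.Assoc.ringKrullDim_quotient_add_one_le_of_lt hlt).trans
        (ringKrullDim_le_of_surjective (Ideal.Quotient.factor hP.1.2) (Ideal.Quotient.factor_surjective _))
      obtain ⟨r, hr⟩ := Groth.Agent.Lib.LCFin.Connected.exists_dim_eq q hqp.ne_top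
      rw [hr, hl, h0] at h1
      have : r + 1 ≤ 0 := by exact_mod_cast h1
      omega
    · have h2 : ringKrullDim (A ⧸ c ⊔ Ideal.span {y}) ≤ (l - 1 : ℕ) := by
        rw [← Module.supportDim_quotient_eq_ringKrullDim]
        refine Groth.Agent.Lib.LCFin.CanonBasic.supportDim_le_of_primes fun q hq hann => ?_
        rw [Ideal.annihilator_quotient] at hann
        obtain ⟨P, hP, hPq⟩ := Ideal.exists_minimalPrimes_le (le_sup_left.trans hann)
        have hPp := hP.1.1
        have hlt : P < q := lt_of_le_of_ne hPq fun h =>
          hy P hP (h ▸ hann (Ideal.mem_sup_right (Ideal.mem_span_singleton_self y)))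
        have h1 := (Groth.Agent.Lib.Depth.Assoc.ringKrullDim_quotient_add_one_le_of_lt hlt).trans
          (ringKrullDim_le_of_surjective (Ideal.Quotient.factor hP.1.2) (Ideal.Quotient.factor_surjective _))
        obtain ⟨r, hr⟩ := Groth.Agent.Lib.LCFin.Connected.exists_dim_eq q hq.ne_top
        rw [hr, hl] at h1
        rw [hr]
        have : r + 1 ≤ l := by exact_mod_cast h1
        exact_mod_cast (show r ≤ l - 1 by omega)
      rw [he] at h2
      have : e ≤ l - 1 := by exact_mod_cast h2
      omega
  -- cutting by several elements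
  have cut : ∀ {R : Type u} [CommRing R] [IsNoetherianRing R] [IsLocalRing R] (S : Finset R),
      (∀ y ∈ S, y ∈ IsLocalRing.maximalIdeal R) → ∀ c : Ideal R,
      ringKrullDim (R ⧸ c) ≤ ringKrullDim (R ⧸ c ⊔ Ideal.span (S : Set R)) + (S.card : WithBot ℕ∞) := by
    intro R _ _ _ S
    induction S using Finset.induction_on with
    | empty =>
      intro _ c
      simp only [Finset.coe_empty, Ideal.span_empty, Finset.card_empty, Nat.cast_zero, add_zero]
      exact ringKrullDim_le_of_surjective (Ideal.Quotient.factor (sup_le (le_refl c) (by simp)))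
        (Ideal.Quotient.factor_surjective _)
    | insert y S hyS ih =>
      intro hS c
      simp only [Finset.forall_mem_insert] at hS
      refine (Groth.Agent.Lib.LCFin.Connected.dim_le_succ c hS.1).trans ?_
      refine (add_le_add_left (ih hS.2 (c ⊔ Ideal.span {y})) 1).trans (le_of_eq ?_)
      rw [Finset.coe_insert, Finset.card_insert_of_notMem hyS, Ideal.span_insert, sup_assoc,
        Nat.cast_succ, add_assoc]
  obtain ⟨d, hd⟩ : ∃ d : ℕ, ringKrullDim A = d := by
    obtain ⟨d, hd⟩ := Groth.Agent.Lib.Depth.CM.supportDim_eq_nat (R := A) A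
    exact ⟨d, (Module.supportDim_self_eq_ringKrullDim (R := A)).symm.trans hd⟩
  -- the elements
  let T : ℕ → Set L := fun k => t '' {j : Fin s | (j : ℕ) < k}
  have key : ∀ k : ℕ, k ≤ s → ∃ x a : Fin s → A, (∀ i, x i ∈ p) ∧ (∀ i, a i ∉ p) ∧
      (∀ i : Fin s, (i : ℕ) < k → f (x i) - f (a i) * t i ∈ Ideal.span (t '' {j : Fin s | j < i})) ∧
      (Ideal.span (x '' {j : Fin s | (j : ℕ) < k})).map f = Ideal.span (T k) ∧
      ∃ e : ℕ, ringKrullDim (A ⧸ Ideal.span (x '' {j : Fin s | (j : ℕ) < k})) = e ∧ e + k ≤ d := by
    intro k
    induction k with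
    | zero =>
      intro _
      refine ⟨fun _ => 0, fun _ => 1, fun _ => p.zero_mem, fun _ => p.one_notMem,
        fun i hi => absurd hi (Nat.not_lt_zero _), ?_, d, ?_, le_rfl⟩
      · simp [T]
      · have : Ideal.span ((fun _ : Fin s => (0 : A)) '' {j : Fin s | (j : ℕ) < 0}) = ⊥ := by simp
        rw [this, ringKrullDim_eq_of_ringEquiv (RingEquiv.quotientBot A), hd]
    | succ k ih =>
      intro hk
      obtain ⟨x, a, hxp, hap, hxa, hspan, e, he, hek⟩ := ih (Nat.le_of_succ_le hk)
      set J := Ideal.span (x '' {j : Fin s | (j : ℕ) < k}) with hJ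
      have hJp : J ≤ p := Ideal.span_le.mpr (by rintro _ ⟨j, -, rfl⟩; exact hxp j)
      let i₀ : Fin s := ⟨k, hk⟩
      obtain ⟨y, u, hyu⟩ := IsLocalization.exists_mk'_eq p.primeCompl (t i₀)
      have hfy : f y = f u * t i₀ := by
        rw [← hyu, IsLocalization.mk'_spec']
      have hyp : y ∈ p := by
        rw [← IsLocalization.AtPrime.to_map_mem_maximal_iff L p y]
        exact (hfy ▸ Ideal.mul_mem_left _ _ (ht i₀) : f y ∈ IsLocalRing.maximalIdeal L)
      -- primes over `J` inside `p` miss `y`
      have hy : ∀ q ∈ J.minimalPrimes, q ≤ p → y ∉ q := by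
        intro q hq hqp hyq
        have hqpr := hq.1.1
        have hd' : Disjoint (p.primeCompl : Set A) (q : Set A) :=
          Set.disjoint_left.mpr fun c hc hc' => hc (hqp hc')
        let Q : Ideal L := q.map f
        have hQp : Q.IsPrime := IsLocalization.isPrime_of_isPrime_disjoint p.primeCompl L q hqpr hd'
        have hQmin : Q ∈ (Ideal.span (T k)).minimalPrimes := by
          rw [← hspan, IsLocalization.minimalPrimes_map p.primeCompl L, Set.mem_preimage]
          show Q.comap f ∈ J.minimalPrimes
          rwa [show Q.comap f = q from IsLocalization.under_map_of_isPrime_disjoint p.primeCompl L hqpr hd']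
        obtain ⟨H, r, hH, hr, hHr⟩ := Groth.Agent.Lib.LCFin.CMDim.exists_dims Q hs
        have hHk : H ≤ k := by
          let S₁ : Finset L := ((Finset.univ : Finset (Fin s)).filter fun j : Fin s => (j : ℕ) < k).image t
          have hS₁ : Ideal.span (T k) = Ideal.span (S₁ : Set L) := by
            congr 1; ext z; simp [T, S₁]
          have h1 := Ideal.height_le_card_of_mem_minimalPrimes_span_finset (hS₁ ▸ hQmin)
          rw [IsLocalization.AtPrime.ringKrullDim_eq_height Q (Localization.AtPrime Q),
            show ((H : ℕ) : WithBot ℕ∞) = (((H : ℕ) : ℕ∞) : WithBot ℕ∞) from rfl, WithBot.coe_inj] at hH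
          rw [hH] at h1
          have h2 : S₁.card ≤ k := Finset.card_image_le.trans
            ((Finset.card_le_card_of_injOn (fun j : Fin s => (j : ℕ)) (t := Finset.range k)
              (fun j hj => Finset.mem_range.mpr (Finset.mem_filter.mp hj).2)
              (fun a _ b _ h => Fin.val_injective h)).trans (Finset.card_range k).le)
          exact (by exact_mod_cast h1 : H ≤ S₁.card).trans h2
        let S₂ : Finset L := ((Finset.univ : Finset (Fin s)).filter fun j : Fin s => k < (j : ℕ)).image t
        have hS₂ : S₂.card ≤ s - (k + 1) := Finset.card_image_le.trans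
          ((Finset.card_le_card_of_injOn (fun j : Fin s => (j : ℕ) - (k + 1)) (t := Finset.range (s - (k + 1)))
            (fun j hj => Finset.mem_range.mpr (by
              have h1 : k < (j : ℕ) := (Finset.mem_filter.mp hj).2
              have := j.isLt
              show (j : ℕ) - (k + 1) < s - (k + 1)
              omega))
            (fun a ha b hb h => Fin.val_injective (by
              have h1 : k < (a : ℕ) := (Finset.mem_filter.mp ha).2
              have h2 : k < (b : ℕ) := (Finset.mem_filter.mp hb).2
              simp only at h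
              omega))).trans (Finset.card_range _).le)
        have hall : Ideal.span (Set.range t) ≤ Q ⊔ Ideal.span (S₂ : Set L) := by
          rw [Ideal.span_le]
          rintro _ ⟨j, rfl⟩
          rcases lt_trichotomy (j : ℕ) k with h | h | h
          · exact Ideal.mem_sup_left (hQmin.1.2 (Ideal.subset_span ⟨j, h, rfl⟩))
          · refine Ideal.mem_sup_left ?_
            have hfu : IsUnit (f u) := IsLocalization.map_units L u
            have : f y ∈ Q := Ideal.mem_map_of_mem f hyq
            rw [hfy, show i₀ = j from Fin.ext h.symm] at this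
            exact (hQp.mem_or_mem this).resolve_left fun hu => hQp.ne_top (Ideal.eq_top_of_isUnit_mem _ hu hfu)
          · exact Ideal.mem_sup_right (Ideal.subset_span (by
              simp only [S₂, Finset.coe_image, Finset.coe_filter, Finset.mem_univ, true_and]
              exact ⟨j, h, rfl⟩))
        have h3 := (cut S₂ (fun z hz => by
          obtain ⟨j, -, rfl⟩ := Finset.mem_image.mp hz; exact ht j) Q).trans
          (add_le_add_left ((ringKrullDim_le_of_surjective (Ideal.Quotient.factor hall)
            (Ideal.Quotient.factor_surjective _)).trans hsop.le) _)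
        rw [hr, zero_add] at h3
        have : r ≤ S₂.card := by exact_mod_cast h3
        omega
      haveI : Nontrivial (A ⧸ J) := Ideal.Quotient.nontrivial_iff.mpr fun h => Ideal.IsPrime.ne_top ‹p.IsPrime› (top_le_iff.mp (h ▸ hJp))
      haveI : IsLocalRing (A ⧸ J) := IsLocalRing.of_surjective' (Ideal.Quotient.mk J) Ideal.Quotient.mk_surjective
      have hP : (p.map (Ideal.Quotient.mk J)).IsPrime :=
        Ideal.map_isPrime_of_surjective Ideal.Quotient.mk_surjective (by rw [Ideal.mk_ker]; exact hJp)
      obtain ⟨w, hw, hwmin⟩ := Groth.Agent.S5073.result (A ⧸ J) (p.map (Ideal.Quotient.mk J)) (Ideal.Quotient.mk J y)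
      obtain ⟨z, rfl⟩ := Ideal.Quotient.mk_surjective w
      obtain ⟨⟨v, hv⟩, hvz⟩ := (IsLocalization.eq_iff_exists (p.map (Ideal.Quotient.mk J)).primeCompl _).mp hw
      obtain ⟨v, rfl⟩ := Ideal.Quotient.mk_surjective v
      have hvp : v ∉ p := fun h => hv (Ideal.mem_map_of_mem _ h)
      have hvJ : v * (z - y) ∈ J := by
        rw [← Ideal.Quotient.eq_zero_iff_mem, map_mul, map_sub, mul_sub, sub_eq_zero]
        exact hvz
      have hzp : z ∈ p := by
        have := ((Ideal.IsPrime.mem_or_mem ‹p.IsPrime› (hJp hvJ)).resolve_left hvp)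
        simpa using p.add_mem this hyp
      have hzy : f z - f y ∈ Ideal.span (T k) := by
        rw [← hspan, ← map_sub]
        have := Ideal.mem_map_of_mem f hvJ
        rw [map_mul] at this
        exact (Ideal.unit_mul_mem_iff_mem _ (IsLocalization.map_units L (⟨v, hvp⟩ : p.primeCompl))).mp this
      have hzmin : ∀ q ∈ J.minimalPrimes, z ∉ q := by
        intro q hq hzq
        have hqpr := hq.1.1
        by_cases hqp : q ≤ p
        · have := hqpr.mem_or_mem (hq.1.2 hvJ)
          exact hy q hq hqp (by simpa using q.sub_mem hzq (this.resolve_left fun h => hvp (hqp h)))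
        · have hq' : q.map (Ideal.Quotient.mk J) ∈ minimalPrimes (A ⧸ J) := by
            rw [Ideal.minimalPrimes_eq_comap] at hq
            obtain ⟨Q, hQ, rfl⟩ := hq
            rwa [Ideal.map_comap_of_surjective _ Ideal.Quotient.mk_surjective]
          refine hwmin _ hq' (fun hle => hqp ?_) (Ideal.mem_map_of_mem _ hzq)
          have := Ideal.comap_mono (f := Ideal.Quotient.mk J) hle
          rwa [Ideal.comap_map_of_surjective _ Ideal.Quotient.mk_surjective,
            Ideal.comap_map_of_surjective _ Ideal.Quotient.mk_surjective, ← RingHom.ker_eq_comap_bot,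
            Ideal.mk_ker, sup_eq_left.mpr hJp, sup_eq_left.mpr hq.1.2] at this
      let x' := Function.update x i₀ z
      let a' := Function.update a i₀ (u : A)
      have hold : ∀ j : Fin s, (j : ℕ) < k → x' j = x j ∧ a' j = a j := fun j hj => by
        have : j ≠ i₀ := fun h => by rw [h] at hj; exact lt_irrefl _ hj
        exact ⟨Function.update_of_ne this _ _, Function.update_of_ne this _ _⟩
      have hset : ({j : Fin s | (j : ℕ) < k + 1} : Set (Fin s)) = insert i₀ {j : Fin s | (j : ℕ) < k} := by
        ext j
        simp only [i₀, Set.mem_setOf_eq, Set.mem_insert_iff, Fin.ext_iff]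
        omega
      have himg : x' '' {j : Fin s | (j : ℕ) < k + 1} = insert z (x '' {j : Fin s | (j : ℕ) < k}) := by
        rw [hset, Set.image_insert_eq, show x' i₀ = z from Function.update_self _ _ _]
        congr 1
        exact Set.image_congr fun j hj => (hold j hj).1
      refine ⟨x', a', ?_, ?_, ?_, ?_, ?_⟩
      · intro i
        rcases eq_or_ne i i₀ with rfl | h
        · rw [show x' i₀ = z from Function.update_self _ _ _]; exact hzp
        · rw [show x' i = x i from Function.update_of_ne h _ _]; exact hxp i
      · intro i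
        rcases eq_or_ne i i₀ with rfl | h
        · rw [show a' i₀ = u from Function.update_self _ _ _]; exact u.2
        · rw [show a' i = a i from Function.update_of_ne h _ _]; exact hap i
      · intro i hi
        rcases Nat.lt_succ_iff_lt_or_eq.mp hi with h | h
        · rw [(hold i h).1, (hold i h).2]; exact hxa i h
        · obtain rfl : i = i₀ := Fin.ext h
          rw [show x' i₀ = z from Function.update_self _ _ _,
            show a' i₀ = u from Function.update_self _ _ _, ← hfy]
          exact hzy
      · rw [himg, Ideal.span_insert, Ideal.map_sup, Ideal.map_span, Set.image_singleton, ← hJ, hspan]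
        show _ = Ideal.span (t '' {j : Fin s | (j : ℕ) < k + 1})
        rw [hset, Set.image_insert_eq, Ideal.span_insert]
        refine le_antisymm (sup_le ((Ideal.span_singleton_le_iff_mem _).mpr ?_) le_sup_right)
          (sup_le ((Ideal.span_singleton_le_iff_mem _).mpr ?_) le_sup_right)
        · have : f z = f u * t i₀ + (f z - f y) := by rw [← hfy]; abel
          rw [this]
          exact add_mem (Ideal.mem_sup_left (Ideal.mul_mem_left _ _ (Ideal.mem_span_singleton_self _)))
            (Ideal.mem_sup_right hzy)
        · refine (Ideal.unit_mul_mem_iff_mem _ (IsLocalization.map_units L u)).mp ?_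
          rw [← hfy, show f y = f z - (f z - f y) by abel]
          exact sub_mem (Ideal.mem_sup_left (Ideal.mem_span_singleton_self _)) (Ideal.mem_sup_right hzy)
      · rw [himg, Ideal.span_insert, sup_comm, ← hJ]
        obtain ⟨e', he', hlt⟩ := drop J z e he.le hzmin (fun h => Ideal.IsPrime.ne_top ‹p.IsPrime› (top_le_iff.mp
          (h ▸ sup_le hJp ((Ideal.span_singleton_le_iff_mem _).mpr hzp))))
        exact ⟨e', he', by omega⟩
  obtain ⟨x, a, hxp, hap, hxa, -, e, he, hes⟩ := key s le_rfl
  have huniv : {j : Fin s | (j : ℕ) < s} = Set.univ := Set.eq_univ_of_forall fun j => j.isLt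
  rw [huniv, Set.image_univ] at he
  refine ⟨x, a, hxp, hap, ?_, fun i => hxa i i.isLt⟩
  have hlow := cut ((Finset.univ : Finset (Fin s)).image x) (fun z hz => by
    obtain ⟨j, -, rfl⟩ := Finset.mem_image.mp hz
    exact IsLocalRing.le_maximalIdeal (Ideal.IsPrime.ne_top ‹p.IsPrime›) (hxp j)) ⊥
  rw [Finset.coe_image, Finset.coe_univ, Set.image_univ, bot_sup_eq, he,
    ringKrullDim_eq_of_ringEquiv (RingEquiv.quotientBot A), hd] at hlow
  rw [he, hd]
  have h4 : d ≤ e + ((Finset.univ : Finset (Fin s)).image x).card := by exact_mod_cast hlow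
  have h5 : ((Finset.univ : Finset (Fin s)).image x).card ≤ s := Finset.card_image_le.trans (by simp)
  exact_mod_cast (show e + s = d by omega)


end Groth.Agent.S5987
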