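import Groth.Statements.S5992
import Groth.Agent.H2.Omega.PurInsep
import Groth.Agent.H2.Omega.RankN
import Groth.Agent.H2.Omega.Unram
import Groth.Agent.H24.CompleteFinite

set_option autoImplicit false
set_option linter.style.haveILetI false
set_option maxHeartbeats 800000
universe u
open scoped TensorProduct
open EGA418

namespace Groth.Agent.S5992

/-- Let k be a field of characteristic exponent p such that k is finite over its subfield k^p (the
Frobenius endomorphism of k is a finite ring map), and A a complete Noetherian local k-algebra which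
is an integral domain, not a field, whose residue field is a finite extension of k; let n = dim A.
Then there is a finite purely inseparable extension k' of k such that, A' denoting the reduction of
k' ⊗_k A modulo its nilradical, A' is a local domain and there is a local k'-algebra homomorphism
from the power series ring k'[[T_1, …, T_n]] to A' which is injective, makes A' a finite algebra,
and is unramified at the zero ideal of A' (so the fraction field of A' is a finite separable
extension of that of k'[[T_1, …, T_n]]). -/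
theorem result (p : ℕ) (k A : Type u) [Field k]
    [ExpChar k p] (hk : (frobenius k p).Finite) [CommRing A] [IsDomain A] [IsNoetherianRing A] [IsLocalRing A]
    [Algebra k A] [IsAdicComplete (IsLocalRing.maximalIdeal A) A]
    [Module.Finite k (IsLocalRing.ResidueField A)] (hA : ¬ IsField A) (n : ℕ) (hn : ringKrullDim A = n) :
    ∃ (k' : Type u) (_ : Field k') (_ : Algebra k k'), Module.Finite k k' ∧ IsPurelyInseparable k k' ∧
      ∃ (_ : IsDomain ((k' ⊗[k] A) ⧸ nilradical (k' ⊗[k] A)))
        (_ : IsLocalRing ((k' ⊗[k] A) ⧸ nilradical (k' ⊗[k] A)))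
        (_ : Algebra (MvPowerSeries (Fin n) k') ((k' ⊗[k] A) ⧸ nilradical (k' ⊗[k] A)))
        (_ : IsScalarTower k' (MvPowerSeries (Fin n) k') ((k' ⊗[k] A) ⧸ nilradical (k' ⊗[k] A))),
        IsLocalHom (algebraMap (MvPowerSeries (Fin n) k') ((k' ⊗[k] A) ⧸ nilradical (k' ⊗[k] A))) ∧
        Function.Injective (algebraMap (MvPowerSeries (Fin n) k') ((k' ⊗[k] A) ⧸ nilradical (k' ⊗[k] A))) ∧
        Module.Finite (MvPowerSeries (Fin n) k') ((k' ⊗[k] A) ⧸ nilradical (k' ⊗[k] A)) ∧
        Algebra.IsUnramifiedAt (MvPowerSeries (Fin n) k') (⊥ : Ideal ((k' ⊗[k] A) ⧸ nilradical (k' ⊗[k] A))) := by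
  classical
  obtain ⟨k', hk'F, hk'A, hfin, hpi, hgr⟩ := H2.Omega.PurInsep.exists_ext k (FractionRing A) (by
    obtain ⟨x, hx, hrad⟩ := Lib.Cohen.PSRegular.exists_sop A hn
    obtain ⟨g, -, hgfin⟩ := H2.Omega.Tools.exists_finite_algHom (k := k) x hx hrad
    haveI := H2.Omega.Etale.isDomain_P (k := k) (n := n)
    letI : Algebra (MvPowerSeries (Fin n) k) A := g.toRingHom.toAlgebra
    haveI : Module.Finite (MvPowerSeries (Fin n) k) A := hgfin
    haveI : IsScalarTower k (MvPowerSeries (Fin n) k) A := .of_algebraMap_eq fun r => (g.commutes r).symm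
    have hginj := Lib.Cohen.PSRegular.injective_of_finite g.toRingHom hgfin
      (H24.PowerSeries.ringKrullDim_eq k n) hn
    let P := MvPowerSeries (Fin n) k
    let L := FractionRing P
    let E := FractionRing A
    have hPE : Function.Injective (algebraMap P E) := by
      rw [IsScalarTower.algebraMap_eq P A E]
      exact (IsFractionRing.injective A E).comp hginj
    letI : Algebra L E := (IsFractionRing.lift (A := P) (K := L) hPE).toAlgebra
    haveI : IsScalarTower P L E := .of_algebraMap_eq fun f => (IsFractionRing.lift_algebraMap hPE f).symm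
    haveI : IsScalarTower k L E := .of_algebraMap_eq fun r => by
      rw [IsScalarTower.algebraMap_apply k P L, ← IsScalarTower.algebraMap_apply P L E,
        ← IsScalarTower.algebraMap_apply]
    haveI : Algebra.IsAlgebraic L E := by
      refine ⟨fun z => IsIntegral.isAlgebraic ?_⟩
      obtain ⟨u, v, hv, rfl⟩ := IsFractionRing.div_surjective (A := A) z
      have hint : ∀ a : A, IsIntegral L (algebraMap A E a) := fun a =>
        ((Algebra.IsIntegral.isIntegral (R := P) a).map (IsScalarTower.toAlgHom P A E)).tower_top
      rw [div_eq_mul_inv]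
      exact (hint u).mul (hint v).inv
    haveI : Algebra.EssFiniteType A E := Algebra.EssFiniteType.of_isLocalization E (nonZeroDivisors A)
    haveI : Algebra.EssFiniteType P E := .comp P A E
    haveI : Algebra.EssFiniteType L E := .of_comp P L E
    haveI : FiniteDimensional L E := Algebra.finite_of_essFiniteType_of_isAlgebraic
    haveI : Algebra.IsGeometricallyReduced k L :=
      Lib.PBasis.FieldSmooth.isGeometricallyReduced_iff_injective_int.2
        (H2.Omega.Imperf.injective_of_geomReg (E := L)
          (H2.Rigid.GeomRegLocal.localization (nonZeroDivisors P) L (H2.Omega.GeomReg.powerSeries k n)))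
    exact H2.Omega.PurInsep.isNoetherianRing k _ L E)
  letI := hk'F
  letI := hk'A
  haveI := hfin
  haveI := hpi
  refine ⟨k', hk'F, hk'A, hfin, hpi, ?_⟩
  let E := FractionRing A
  haveI := hgr
  haveI hNmax := H2.Omega.PurInsep.isMaximal_nilradical k k' E
  letI : CommRing ((k' ⊗[k] E) ⧸ nilradical (k' ⊗[k] E)) := inferInstance
  let F := (k' ⊗[k] E) ⧸ nilradical (k' ⊗[k] E)
  haveI : IsDomain ((k' ⊗[k] E) ⧸ nilradical (k' ⊗[k] E)) := Ideal.Quotient.isDomain _
  letI : Field ((k' ⊗[k] E) ⧸ nilradical (k' ⊗[k] E)) := Ideal.Quotient.field _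
  let i : (k' ⊗[k] A) →ₐ[k'] k' ⊗[k] E :=
    Algebra.TensorProduct.map (AlgHom.id k' k') (IsScalarTower.toAlgHom k A E)
  have hi : Function.Injective i :=
    Module.Flat.lTensor_preserves_injective_linearMap (IsScalarTower.toAlgHom k A E).toLinearMap
      (IsFractionRing.injective A E)
  let j : (k' ⊗[k] A) →ₐ[k'] F := (Ideal.Quotient.mkₐ k' (nilradical (k' ⊗[k] E))).comp i
  have hker : RingHom.ker j = nilradical (k' ⊗[k] A) := by
    ext z
    rw [RingHom.mem_ker, AlgHom.comp_apply, Ideal.Quotient.mkₐ_eq_mk, Ideal.Quotient.eq_zero_iff_mem,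
      mem_nilradical, mem_nilradical, IsNilpotent.map_iff hi]
  haveI : (nilradical (k' ⊗[k] A)).IsPrime := hker ▸ RingHom.ker_isPrime j
  letI : CommRing ((k' ⊗[k] A) ⧸ nilradical (k' ⊗[k] A)) := inferInstance
  let A' := (k' ⊗[k] A) ⧸ nilradical (k' ⊗[k] A)
  haveI hdom : IsDomain ((k' ⊗[k] A) ⧸ nilradical (k' ⊗[k] A)) := Ideal.Quotient.isDomain _
  let j' : A' →ₐ[k'] F := Ideal.Quotient.liftₐ (nilradical (k' ⊗[k] A)) j fun z hz => by
    rw [← hker] at hz; exact hz
  have hj' : Function.Injective j' := (injective_iff_map_eq_zero j').2 fun y hy => by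
    obtain ⟨z, rfl⟩ := Ideal.Quotient.mk_surjective y
    rw [Ideal.Quotient.eq_zero_iff_mem, ← hker]
    exact hy
  letI : Algebra A (k' ⊗[k] A) := Algebra.TensorProduct.rightAlgebra
  haveI : Module.Finite A (k' ⊗[k] A) :=
    Module.Finite.equiv (Algebra.IsPushout.equiv k A k' (k' ⊗[k] A)).toLinearEquiv
  haveI : Module.Finite A ((k' ⊗[k] A) ⧸ nilradical (k' ⊗[k] A)) :=
    Module.Finite.of_surjective (Ideal.Quotient.mkₐ A (nilradical (k' ⊗[k] A))).toLinearMap Ideal.Quotient.mk_surjective
  have hinjA : Function.Injective (algebraMap A A') := by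
    have h2 : Function.Injective (j'.toRingHom.comp (algebraMap A A')) := by
      have h3 : j'.toRingHom.comp (algebraMap A A') =
          ((Ideal.Quotient.mk (nilradical (k' ⊗[k] E))).comp
            (Algebra.TensorProduct.includeRight : E →ₐ[k] k' ⊗[k] E).toRingHom).comp (algebraMap A E) := by
        ext a
        rfl
      rw [h3, RingHom.coe_comp]
      exact (((Ideal.Quotient.mk (nilradical (k' ⊗[k] E))).comp
        (Algebra.TensorProduct.includeRight : E →ₐ[k] k' ⊗[k] E).toRingHom).injective).comp (IsFractionRing.injective A E)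
    exact Function.Injective.of_comp (f := j') h2
  haveI : FaithfulSMul A A' := (faithfulSMul_iff_algebraMap_injective _ _).2 hinjA
  haveI hloc : IsLocalRing ((k' ⊗[k] A) ⧸ nilradical (k' ⊗[k] A)) := by
    refine IsLocalRing.of_unique_max_ideal ?_
    obtain ⟨M, hM⟩ := Ideal.exists_maximal A'
    refine ⟨M, hM, fun N hN => ?_⟩
    have key : ∀ (M N : Ideal A'), M.IsMaximal → N.IsMaximal → M ≤ N := by
      intro M N hM hN y hy
      haveI := hM
      haveI := hN
      obtain ⟨z, rfl⟩ := Ideal.Quotient.mk_surjective y
      obtain ⟨l, hl, a, ha⟩ := IsPurelyInseparable.exists_pow_mem_range_tensorProduct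
        (Algebra.TensorProduct.comm k k' A z)
      have ha' : algebraMap A A' a = (Ideal.Quotient.mk _ z) ^ l := by
        rw [← map_pow]
        show Ideal.Quotient.mk _ ((1 : k') ⊗ₜ[k] a) = _
        congr 1
        apply (Algebra.TensorProduct.comm k k' A).injective
        rw [map_pow, ← ha]
        simp
      have hM' := IsLocalRing.eq_maximalIdeal (Ideal.isMaximal_comap_of_isIntegral_of_isMaximal (R := A) M)
      have hN' := IsLocalRing.eq_maximalIdeal (Ideal.isMaximal_comap_of_isIntegral_of_isMaximal (R := A) N)
      have h1 : a ∈ M.comap (algebraMap A A') := by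
        rw [Ideal.mem_comap, ha']; exact Ideal.pow_mem_of_mem _ hy _ hl
      rw [hM', ← hN', Ideal.mem_comap, ha'] at h1
      exact hN.isPrime.mem_of_pow_mem _ h1
    exact le_antisymm (key N M hN hM) (key M N hM hN)
  haveI : IsNoetherianRing A' := IsNoetherianRing.of_finite A A'
  haveI : IsAdicComplete (IsLocalRing.maximalIdeal A') A' :=
    H24.CompleteFinite.isAdicComplete_maximalIdeal (R := A)
  haveI : IsLocalHom (algebraMap A A') := inferInstance
  haveI : Module.Finite k' (IsLocalRing.ResidueField A') := by
    haveI : IsScalarTower k A A' := .of_algebraMap_eq fun c => by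
      show Ideal.Quotient.mk _ (algebraMap k k' c ⊗ₜ[k] (1 : A)) = Ideal.Quotient.mk _ ((1 : k') ⊗ₜ[k] algebraMap k A c)
      rw [Algebra.algebraMap_eq_smul_one, Algebra.algebraMap_eq_smul_one, TensorProduct.smul_tmul]
    haveI : Module.Finite (IsLocalRing.ResidueField A) (IsLocalRing.ResidueField A') := inferInstance
    haveI : Module.Finite k (IsLocalRing.ResidueField A') := Module.Finite.trans (IsLocalRing.ResidueField A) _
    exact Module.Finite.of_restrictScalars_finite k k' _
  have hdim : ringKrullDim A' = n := by
    rw [Lib.Dim.Integral.ringKrullDim_eq_of_isIntegral (R := A)]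
    exact hn
  let E' := FractionRing A'
  let jE : E' →ₐ[k'] F :=
    { IsFractionRing.lift (A := A') (K := E') (L := F) (g := j'.toRingHom) hj' with
      commutes' := fun c => by
        show IsFractionRing.lift (A := A') (K := E') (L := F) (g := j'.toRingHom) hj' (algebraMap k' E' c) = _
        rw [IsScalarTower.algebraMap_apply k' A' E', IsFractionRing.lift_algebraMap]
        exact j'.commutes c }
  haveI : Algebra.IsGeometricallyReduced k' E' :=
    Algebra.IsGeometricallyReduced.of_injective (B := F) jE jE.toRingHom.injective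
  haveI := Ideal.isPrime_bot (α := A')
  have hrank : Module.finrank (⊥ : Ideal A').ResidueField
      ((⊥ : Ideal A').ResidueField ⊗[A'] H2.Omega.Basic.Om k' A') = n := by
    obtain _ | hp := ‹ExpChar k p›
    · haveI : CharZero k' := charZero_of_injective_algebraMap (algebraMap k k').injective
      exact H2.Omega.RankN.finrank_zero_char hdim
    · haveI : Fact p.Prime := ⟨hp⟩
      haveI : CharP k' p := charP_of_injective_algebraMap (algebraMap k k').injective p
      haveI : ExpChar k' p := ExpChar.prime hp
      have hk' : (frobenius k' p).Finite := by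
        refine RingHom.Finite.of_comp_finite (f := algebraMap k k') ?_
        rw [show (frobenius k' p).comp (algebraMap k k') = (algebraMap k k').comp (frobenius k p) from
          RingHom.ext fun c => ((algebraMap k k').map_frobenius p c).symm]
        exact (RingHom.finite_algebraMap.2 hfin).comp hk
      exact H2.Omega.RankN.finrank_char_p p hk' E' hdim
  have hne : (⊥ : Ideal A') ≠ IsLocalRing.maximalIdeal A' := fun h => hA
    (isField_of_isIntegral_of_isField hinjA (IsLocalRing.isField_iff_maximalIdeal_eq.2 h.symm))
  obtain ⟨halg, htower, hlocal, hfinite, hunr⟩ := (H2.Omega.Unram.exists_iff (k := k') (⊥ : Ideal A') hne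
    ⟨⊥, by rw [IsDomain.minimalPrimes_eq_singleton_bot]; rfl, le_rfl,
      ringKrullDim_eq_of_ringEquiv (RingEquiv.quotientBot A')⟩ n).2 hrank.le
  refine ⟨hdom, hloc, halg, htower, hlocal, ?_, hfinite, hunr⟩
  exact Lib.Cohen.PSRegular.injective_of_finite _ (RingHom.finite_algebraMap.2 hfinite)
    (H24.PowerSeries.ringKrullDim_eq k' n) hdim


end Groth.Agent.S5992
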