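import Groth.Statements.S5993
import Groth.Agent.H2.CB.Semilocal
import Groth.Agent.H2.CB.Tfae

set_option autoImplicit false
set_option linter.style.haveILetI false
universe u
open scoped TensorProduct
open EGA418

namespace Groth.Agent.S5993

/-- Let k be a field, A a complete Noetherian local k-algebra with maximal ideal m whose residue field
is a finite extension of k, k' an extension field of k, I the ideal of A ⊗_k k' generated by m, and
A' the completed tensor product of A and k' over k, namely the I-adic completion of A ⊗_k k'. Then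
A' is a Noetherian ring with finitely many maximal ideals, complete and separated for the ideal
generated by m, and for every maximal ideal M of A' the local ring A'_M is complete, faithfully flat
over A, of the same dimension as A, and has residue field finite over k'. -/
theorem result (k A k' : Type u) [Field k]
    [CommRing A] [IsNoetherianRing A] [IsLocalRing A] [Algebra k A]
    [IsAdicComplete (IsLocalRing.maximalIdeal A) A] [Module.Finite k (IsLocalRing.ResidueField A)]
    [Field k'] [Algebra k k'] (I : Ideal (A ⊗[k] k'))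
    (hI : I = (IsLocalRing.maximalIdeal A).map (algebraMap A (A ⊗[k] k'))) :
    IsNoetherianRing (AdicCompletion I (A ⊗[k] k')) ∧
      Finite (MaximalSpectrum (AdicCompletion I (A ⊗[k] k'))) ∧
      IsAdicComplete ((IsLocalRing.maximalIdeal A).map (algebraMap A (AdicCompletion I (A ⊗[k] k'))))
        (AdicCompletion I (A ⊗[k] k')) ∧
      ∀ M : MaximalSpectrum (AdicCompletion I (A ⊗[k] k')),
        IsAdicComplete (IsLocalRing.maximalIdeal (Localization.AtPrime M.asIdeal))
            (Localization.AtPrime M.asIdeal) ∧
          Module.FaithfullyFlat A (Localization.AtPrime M.asIdeal) ∧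
          ringKrullDim (Localization.AtPrime M.asIdeal) = ringKrullDim A ∧
          (((Ideal.Quotient.mk M.asIdeal).comp (algebraMap (A ⊗[k] k') (AdicCompletion I (A ⊗[k] k')))).comp
              Algebra.TensorProduct.includeRight.toRingHom).Finite := by
  classical
  obtain ⟨dA, hdA⟩ := H2.Omega.Unram.exists_dim (A := A)
  obtain ⟨x, hx, hrad⟩ := Lib.Cohen.PSRegular.exists_sop A hdA
  obtain ⟨g, hg, hgfin⟩ := H2.Omega.Tools.exists_finite_algHom (k := k) x hx hrad
  letI : Algebra (MvPowerSeries (Fin dA) k) A := g.toRingHom.toAlgebra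
  haveI : IsScalarTower k (MvPowerSeries (Fin dA) k) A := .of_algebraMap_eq fun c => (g.commutes c).symm
  haveI : Module.Finite (MvPowerSeries (Fin dA) k) A := hgfin
  haveI : IsLocalHom (algebraMap (MvPowerSeries (Fin dA) k) A) :=
    H2.Omega.Unram.isLocalHom fun i => by rw [show algebraMap _ A _ = g _ from rfl, hg]; exact hx i
  obtain rfl : I = H2.CB.Base.idl k k' A := hI
  obtain ⟨e, he⟩ := H2.CB.Base.exists_equiv k k' A dA
  haveI := H24.PowerSeries.isRegularLocalRing_fin k' dA
  haveI : IsAdicComplete (IsLocalRing.maximalIdeal (MvPowerSeries (Fin dA) k')) (MvPowerSeries (Fin dA) k') :=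
    H24.PowerSeries.isAdicComplete k' (Fin dA)
  haveI := H2.CB.Base.isNoetherianRing k k' A dA
  have hcpl := H2.CB.Base.isAdicComplete k k' A dA
  letI : Algebra (MvPowerSeries (Fin dA) k') (H2.CB.Base.Mdl k k' A dA) := Algebra.TensorProduct.rightAlgebra
  haveI := H2.CB.Base.finite k k' A dA
  haveI := H2.CB.Regular.flat k k' A dA
  have heA : ∀ a : A, e (algebraMap A _ a) = algebraMap A (H2.CB.Base.Mdl k k' A dA) a := fun a =>
    (he _).trans (H2.CB.Base.toMdl_include k k' A dA a)
  refine ⟨isNoetherianRing_of_ringEquiv _ e.symm, ?_, ?_, fun M => ?_⟩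
  · haveI := Lib.Henselian.Finite.finite_maximalSpectrum (MvPowerSeries (Fin dA) k') (B := H2.CB.Base.Mdl k k' A dA)
    refine Finite.of_injective (fun M : MaximalSpectrum (AdicCompletion (H2.CB.Base.idl k k' A) (A ⊗[k] k')) =>
      (⟨M.asIdeal.comap e.symm.toRingHom, Ideal.comap_isMaximal_of_surjective _ e.symm.surjective⟩ :
        MaximalSpectrum (H2.CB.Base.Mdl k k' A dA))) fun M N h => MaximalSpectrum.ext ?_
    exact Ideal.comap_injective_of_surjective e.symm.toRingHom e.symm.surjective (congrArg MaximalSpectrum.asIdeal h)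
  · rw [H2.CB.Base.map_idl, ← IsAdicComplete.congr_ringEquiv _ e.symm] at hcpl
    have key : (algebraMap A (AdicCompletion (H2.CB.Base.idl k k' A) (A ⊗[k] k'))) =
        e.symm.toRingHom.comp (algebraMap A (H2.CB.Base.Mdl k k' A dA)) := RingHom.ext fun a => by
      show _ = e.symm _
      rw [← heA, RingEquiv.symm_apply_apply]
    rw [key, ← Ideal.map_map]
    exact hcpl
  · let M₀ := M.asIdeal.comap e.symm.toRingHom
    haveI : M₀.IsMaximal := Ideal.comap_isMaximal_of_surjective _ e.symm.surjective
    have hM₀ : M.asIdeal = M₀.comap e.toRingHom := by ext z; simp [M₀]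
    let r := Localization.localRingEquiv M.asIdeal M₀ e hM₀
    let r' : Localization.AtPrime M.asIdeal ≃ₐ[A] Localization.AtPrime M₀ :=
      AlgEquiv.ofRingEquiv (f := r) fun a => by
        rw [IsScalarTower.algebraMap_apply A (AdicCompletion (H2.CB.Base.idl k k' A) (A ⊗[k] k')),
          IsScalarTower.algebraMap_apply A (H2.CB.Base.Mdl k k' A dA) (Localization.AtPrime M₀)]
        show Localization.localRingHom M.asIdeal M₀ e.toRingHom hM₀ _ = _
        rw [Localization.localRingHom_to_map]
        exact congrArg _ (heA a)
    have hle := H2.CB.Semilocal.map_le k k' A dA M₀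
    refine ⟨?_, ?_, ?_, ?_⟩
    · have := (H2.CB.Semilocal.local_factor (MvPowerSeries (Fin dA) k') _ M₀).2.2
      have h1 := (IsAdicComplete.congr_ringEquiv (R := Localization.AtPrime M₀)
        (S := Localization.AtPrime M.asIdeal) (IsLocalRing.maximalIdeal _) r.symm).2 this
      haveI : ((IsLocalRing.maximalIdeal (Localization.AtPrime M₀)).map r.symm).IsMaximal :=
        Ideal.map_isMaximal_of_equiv r.symm
      exact (IsLocalRing.eq_maximalIdeal this) ▸ h1
    · haveI := H2.CB.Semilocal.faithfullyFlat (A := A) M₀ hle
      exact Module.FaithfullyFlat.of_linearEquiv A (Localization.AtPrime M₀)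
        (r.toAddEquiv.toLinearEquiv fun a z => by
          show r (a • z) = a • r z
          rw [← algebraMap_smul (Localization.AtPrime M.asIdeal) a z, smul_eq_mul, map_mul,
            ← algebraMap_smul (Localization.AtPrime M₀) a (r z), smul_eq_mul]
          exact congrArg (· * r z) (r'.commutes a))
    · rw [ringKrullDim_eq_of_ringEquiv r]
      exact H2.CB.Semilocal.ringKrullDim_eq M₀ hle (H2.CB.Semilocal.map_le_map k k' A dA)
    · have h0 := H2.CB.Semilocal.finite_residue (P := MvPowerSeries (Fin dA) k') M₀
        ((Ideal.Quotient.mk M.asIdeal).comp e.symm.toRingHom)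
        (fun y => by
          obtain ⟨z, rfl⟩ := Ideal.Quotient.mk_surjective y
          exact ⟨e z, congrArg (Ideal.Quotient.mk M.asIdeal) (e.symm_apply_apply z)⟩)
        (fun z hz => Ideal.Quotient.eq_zero_iff_mem.2 hz) (algebraMap k' (MvPowerSeries (Fin dA) k'))
        (MvPowerSeries.constantCoeff (σ := Fin dA) (R := k')) fun f => by
          rw [IsLocalRing.mem_maximalIdeal, mem_nonunits_iff, MvPowerSeries.isUnit_iff_constantCoeff, map_sub]
          simp [MvPowerSeries.algebraMap_apply]
      convert h0 using 1
      rw [RingHom.comp_assoc, RingHom.comp_assoc]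
      congr 1
      refine RingHom.ext fun c => e.injective ?_
      show e (AdicCompletion.of _ _ ((1 : A) ⊗ₜ[k] c)) = e (e.symm _)
      rw [he, RingEquiv.apply_symm_apply, H2.CB.Base.toMdl_tmul]
      rfl


end Groth.Agent.S5993
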