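import Groth.Statements.S5997
import Groth.Agent.PD92.ProjDeform

set_option autoImplicit false
universe u
open SGA1

namespace Groth.Agent.S5997

open AlgebraicGeometry CategoryTheory CategoryTheory.Limits in
/-- Suppose A is a Noetherian local ring, complete for its maximal ideal, whose residue field we call k,
and consider a proper flat A-scheme X such that the closed fibre X ×_A k is isomorphic over k to
P^r_k. Then X is isomorphic over A to P^r_A. (For ordinary schemes the published statement leaves
out flatness, yet the proof relies on it; dropping it, P^r_k regarded as an A-scheme via the closed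
point gives a counterexample as soon as A fails to be a field. This row therefore assumes f is
flat.) -/
theorem result (A : Type u) [CommRing A] [IsLocalRing A]
    [IsNoetherianRing A] [IsAdicComplete (IsLocalRing.maximalIdeal A) A] (r : ℕ) {X : Scheme.{u}}
    (f : X ⟶ Spec (CommRingCat.of A)) [IsProper f] [Flat f]
    (e₀ : pullback f (Spec.map (CommRingCat.ofHom (IsLocalRing.residue A))) ≅
      CohB1.ProjSpace r (IsLocalRing.ResidueField A))
    (he₀ : e₀.hom ≫ CohB1.ProjSpace.toSpec r (IsLocalRing.ResidueField A) = pullback.snd f _) :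
    ∃ e : X ≅ CohB1.ProjSpace r A, e.hom ≫ CohB1.ProjSpace.toSpec r A = f := by
  haveI := Groth.Agent.PD92.ProjDeform.isIso_SpecMap_toK (A := A)
  let φ := Groth.Agent.PD92.ProjDeform.toK (A := A)
  have hp := Groth.Agent.Lib.ProjSpace.BaseChange.isPullback_projMap r φ
  haveI : IsIso (Groth.Agent.Lib.ProjSpace.BaseChange.projMap r φ) := hp.isIso_fst_of_isIso
  obtain ⟨a, ha, -, hasnd⟩ := Groth.Agent.PD92.ProjDeform.exists_iso_closedFibre f
  refine Groth.Agent.PD92.ProjDeform.exists_iso f r
    (a ≫ e₀.hom ≫ inv (Groth.Agent.Lib.ProjSpace.BaseChange.projMap r φ)) ?_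
  rw [← cancel_mono (Spec.map (CommRingCat.ofHom φ)), ← hasnd, Category.assoc, Category.assoc,
    Category.assoc, ← hp.w, IsIso.inv_hom_id_assoc, he₀]

end Groth.Agent.S5997
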