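import Groth.Statements.S5998
import Mathlib.RingTheory.Smooth.Local
import Mathlib.RingTheory.Etale.Kaehler
import Mathlib.RingTheory.LocalRing.Module

set_option autoImplicit false
universe u
open SGA1

namespace Groth.Agent.S5998

open TensorProduct in
/-- Let R be a Noetherian ring, A a smooth R-algebra, I an ideal of A, P a prime ideal of A/I and q its
preimage in A. Then A/I is smooth over R at P (that is, the local ring of A/I at P is formally
smooth over R) exactly when there are finitely many elements g_1, ..., g_p of I generating the ideal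
I·A_q whose differentials dg_i have linearly independent images in κ(q) ⊗_A Ω_{A/R}. -/
theorem result
    (R A : Type u) [CommRing R] [CommRing A] [IsNoetherianRing R] [Algebra R A] [Algebra.Smooth R A]
    (I : Ideal A) (P : Ideal (A ⧸ I)) [P.IsPrime] :
    letI q : Ideal A := P.comap (Ideal.Quotient.mk I)
    Algebra.IsSmoothAt R P ↔ ∃ s : Finset A, (↑s : Set A) ⊆ (I : Set A) ∧
      Ideal.map (algebraMap A (Localization.AtPrime q)) I =
        Ideal.span ((algebraMap A (Localization.AtPrime q)) '' (↑s : Set A)) ∧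
      LinearIndependent q.ResidueField
        (fun g : ↥s => (1 : q.ResidueField) ⊗ₜ[A] KaehlerDifferential.D R A (g : A)) := by
  classical
  let q : Ideal A := P.comap (Ideal.Quotient.mk I)
  let Aq := Localization.AtPrime q
  let S := Localization.AtPrime P
  let k := q.ResidueField
  show Algebra.IsSmoothAt R P ↔ ∃ s : Finset A, (↑s : Set A) ⊆ (I : Set A) ∧
      Ideal.map (algebraMap A Aq) I = Ideal.span ((algebraMap A Aq) '' (↑s : Set A)) ∧
      LinearIndependent k (fun g : ↥s => (1 : k) ⊗ₜ[A] KaehlerDifferential.D R A (g : A))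
  haveI : IsNoetherianRing A := Algebra.FiniteType.isNoetherianRing R A
  let φ : Aq →+* S := Localization.localRingHom q P (Ideal.Quotient.mk I) rfl
  letI : Algebra Aq S := φ.toAlgebra
  haveI : IsLocalHom φ := Localization.isLocalHom_localRingHom q P (Ideal.Quotient.mk I) rfl
  haveI hlh : IsLocalHom (algebraMap Aq S) := ‹IsLocalHom φ›
  have hcomp : ∀ a, φ (algebraMap A Aq a) = algebraMap (A ⧸ I) S (Ideal.Quotient.mk I a) :=
    fun a ↦ Localization.localRingHom_to_map _ _ _ _ _
  haveI : IsScalarTower R Aq S := IsScalarTower.of_algebraMap_eq fun r ↦ by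
    rw [IsScalarTower.algebraMap_apply R A Aq, RingHom.algebraMap_toAlgebra, hcomp,
      Ideal.Quotient.mk_algebraMap, ← IsScalarTower.algebraMap_apply]
  have hsurj : Function.Surjective (algebraMap Aq S) := fun z ↦ by
    obtain ⟨⟨x, s⟩, hz⟩ := IsLocalization.surj P.primeCompl z
    obtain ⟨a, rfl⟩ := Ideal.Quotient.mk_surjective x
    obtain ⟨t, ht⟩ := Ideal.Quotient.mk_surjective (s : A ⧸ I)
    have htq : t ∈ q.primeCompl := fun h ↦ s.2 (ht ▸ h)
    refine ⟨IsLocalization.mk' Aq a ⟨t, htq⟩, ?_⟩
    have h1 : φ (IsLocalization.mk' Aq a ⟨t, htq⟩) * φ (algebraMap A Aq t) =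
        φ (algebraMap A Aq a) := by
      rw [← map_mul]
      exact congrArg φ (IsLocalization.mk'_spec Aq a ⟨t, htq⟩)
    rw [hcomp, hcomp, ht] at h1
    exact (IsLocalization.map_units S s).mul_right_cancel (h1.trans hz.symm)
  have hker : RingHom.ker (algebraMap Aq S) = I.map (algebraMap A Aq) := by
    refine le_antisymm (fun z hz ↦ ?_) ?_
    · obtain ⟨⟨a, t⟩, hz'⟩ := IsLocalization.surj q.primeCompl z
      have h0 : algebraMap (A ⧸ I) S (Ideal.Quotient.mk I a) = 0 := by
        rw [← hcomp, ← hz', map_mul]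
        exact mul_eq_zero_of_left hz _
      obtain ⟨⟨u, hu⟩, hua⟩ := (IsLocalization.map_eq_zero_iff P.primeCompl S _).mp h0
      obtain ⟨u, rfl⟩ := Ideal.Quotient.mk_surjective u
      have hmem : u * a ∈ I := by
        rw [← Ideal.Quotient.eq_zero_iff_mem, map_mul]; exact hua
      have : z * algebraMap A Aq (t * u) ∈ I.map (algebraMap A Aq) := by
        rw [map_mul, ← mul_assoc, hz', ← map_mul, mul_comm]
        exact Ideal.mem_map_of_mem _ hmem
      exact (Ideal.unit_mul_mem_iff_mem _ (IsLocalization.map_units Aq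
        (⟨(t : A) * u, q.primeCompl.mul_mem t.2 hu⟩ : q.primeCompl))).mp (mul_comm z _ ▸ this)
    · rw [Ideal.map_le_iff_le_comap]
      intro a ha
      rw [Ideal.mem_comap, RingHom.mem_ker, RingHom.algebraMap_toAlgebra, hcomp,
        Ideal.Quotient.eq_zero_iff_mem.mpr ha, map_zero]
  haveI : Algebra.FormallySmooth R Aq := Algebra.FormallySmooth.comp R A Aq
  haveI : Algebra.EssFiniteType R Aq := Algebra.EssFiniteType.comp R A Aq
  haveI : Module.Free Aq Ω[Aq⁄R] := Module.free_of_flat_of_isLocalRing
  have h2 : (RingHom.ker (algebraMap Aq S)).FG := IsNoetherian.noetherian _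
  -- the residue field as an algebra over the quotient
  have hle : RingHom.ker (algebraMap Aq S) ≤ RingHom.ker (algebraMap Aq k) := fun z hz ↦ by
    refine (IsLocalRing.residue_eq_zero_iff z).mpr fun hu ↦ ?_
    exact not_isUnit_zero ((RingHom.mem_ker.mp hz) ▸ hu.map (algebraMap Aq S))
  let ψ : S →+* k := RingHom.liftOfSurjective (algebraMap Aq S) hsurj ⟨algebraMap Aq k, hle⟩
  have hψ : ∀ z, ψ (algebraMap Aq S z) = algebraMap Aq k z :=
    RingHom.liftOfRightInverse_comp_apply (algebraMap Aq S) _ _ _
  letI : Algebra S k := ψ.toAlgebra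
  haveI : IsScalarTower Aq S k := IsScalarTower.of_algebraMap_eq fun z ↦ (hψ z).symm
  have h3 : IsLocalRing.maximalIdeal S ≤ RingHom.ker (algebraMap S k) := fun z hz ↦ by
    obtain ⟨w, rfl⟩ := hsurj z
    rw [RingHom.mem_ker, RingHom.algebraMap_toAlgebra, hψ]
    exact (IsLocalRing.residue_eq_zero_iff w).mpr fun hu ↦ hz (hu.map (algebraMap Aq S))
  change Algebra.FormallySmooth R S ↔ _
  rw [Algebra.FormallySmooth.iff_injective_cotangentComplexBaseChange Aq k hsurj h2 h3]
  haveI : Algebra.FormallyEtale A Aq := Algebra.FormallyEtale.of_isLocalization q.primeCompl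
  let E : k ⊗[Aq] Ω[Aq⁄R] ≃ₗ[k] k ⊗[A] Ω[A⁄R] :=
    (TensorProduct.AlgebraTensorModule.congr (LinearEquiv.refl k k)
      (KaehlerDifferential.tensorKaehlerEquivOfFormallyEtale R A Aq).symm).trans
      (TensorProduct.AlgebraTensorModule.cancelBaseChange A Aq k k Ω[A⁄R])
  let f : k ⊗[Aq] RingHom.ker (algebraMap Aq S) →ₗ[k] k ⊗[A] Ω[A⁄R] :=
    E.toLinearMap ∘ₗ KaehlerDifferential.cotangentComplexBaseChange R S Aq k
  rw [show Function.Injective (KaehlerDifferential.cotangentComplexBaseChange R S Aq k) ↔
    Function.Injective f from (E.injective.of_comp_iff _).symm]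
  let x : I → RingHom.ker (algebraMap Aq S) := fun g ↦
    ⟨algebraMap A Aq g, hker.ge (Ideal.mem_map_of_mem _ g.2)⟩
  let v : I → k ⊗[Aq] RingHom.ker (algebraMap Aq S) := fun g ↦ (1 : k) ⊗ₜ x g
  have hfv : ∀ g : I, f (v g) = (1 : k) ⊗ₜ[A] KaehlerDifferential.D R A g := fun g ↦ by
    simp only [f, v, x, E, LinearMap.comp_apply, LinearEquiv.coe_coe, LinearEquiv.trans_apply,
      KaehlerDifferential.cotangentComplexBaseChange_tmul, one_smul,
      KaehlerDifferential.kerToTensor]
    change (TensorProduct.AlgebraTensorModule.cancelBaseChange A Aq k k Ω[A⁄R])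
      (TensorProduct.AlgebraTensorModule.congr (LinearEquiv.refl k k)
        (KaehlerDifferential.tensorKaehlerEquivOfFormallyEtale R A Aq).symm
        ((1 : k) ⊗ₜ[Aq] KaehlerDifferential.D R Aq (algebraMap A Aq (g : A)))) = _
    rw [TensorProduct.AlgebraTensorModule.congr_tmul, LinearEquiv.refl_apply,
      KaehlerDifferential.tensorKaehlerEquivOfFormallyEtale_symm_D_algebraMap,
      TensorProduct.AlgebraTensorModule.cancelBaseChange_tmul, one_smul]
  have hres : Function.Surjective (algebraMap Aq k) := IsLocalRing.residue_surjective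
  -- spanning by a generating set
  have hspan : ∀ T : Set I, Submodule.span Aq (x '' T) = ⊤ → Submodule.span k (v '' T) = ⊤ := by
    intro T hT
    rw [eq_top_iff]
    rintro z -
    induction z using TensorProduct.induction_on with
    | zero => exact zero_mem _
    | add y z hy hz => exact add_mem hy hz
    | tmul c w =>
      have key : ∀ w ∈ Submodule.span Aq (x '' T), (1 : k) ⊗ₜ[Aq] w ∈ Submodule.span k (v '' T) := by
        intro w hw
        induction hw using Submodule.span_induction with
        | mem y hy =>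
          obtain ⟨g, hg, rfl⟩ := hy
          exact Submodule.subset_span ⟨g, hg, rfl⟩
        | zero => rw [TensorProduct.tmul_zero]; exact zero_mem _
        | add y z _ _ hy hz => rw [TensorProduct.tmul_add]; exact add_mem hy hz
        | smul r y _ hy => rw [TensorProduct.tmul_smul]; exact Submodule.smul_of_tower_mem _ r hy
      rw [show c ⊗ₜ[Aq] w = c • ((1 : k) ⊗ₜ[Aq] w) by
        rw [TensorProduct.smul_tmul', smul_eq_mul, mul_one]]
      exact Submodule.smul_mem _ _ (key w (hT ▸ Submodule.mem_top))
  have himage : ∀ T : Set I, (Submodule.span Aq (x '' T)).map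
      (RingHom.ker (algebraMap Aq S)).subtype = Ideal.span (algebraMap A Aq '' (Subtype.val '' T)) :=
    fun T ↦ by
      rw [Submodule.map_span, ← Set.image_comp, ← Set.image_comp]
      rfl
  constructor
  · intro hf
    obtain ⟨J, a, ha, hspanJ, hli⟩ := exists_linearIndependent' k v
    have htop : Submodule.span Aq (x '' Set.univ) = ⊤ := by
      apply Submodule.map_injective_of_injective (Submodule.injective_subtype _)
      rw [himage, Submodule.map_top, Submodule.range_subtype, hker]
      simp [Ideal.map]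
    haveI : Module.Finite Aq (RingHom.ker (algebraMap Aq S)) := Module.Finite.of_fg h2
    haveI : Finite J := hli.finite
    haveI := Fintype.ofFinite J
    refine ⟨Finset.univ.image fun i ↦ (a i : A), fun y hy ↦ ?_, ?_, ?_⟩
    · obtain ⟨i, -, rfl⟩ := Finset.mem_image.mp (Finset.mem_coe.mp hy)
      exact (a i).2
    · have hN : Submodule.span Aq (x '' Set.range a) = ⊤ := by
        rw [← IsLocalRing.map_tensorProduct_mk_eq_top, eq_top_iff]
        rintro z -
        have hz : z ∈ Submodule.span k (Set.range (v ∘ a)) := by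
          rw [hspanJ, ← Set.image_univ, hspan _ htop]; trivial
        induction hz using Submodule.span_induction with
        | mem y hy =>
          obtain ⟨i, rfl⟩ := hy
          exact ⟨x (a i), Submodule.subset_span ⟨a i, ⟨i, rfl⟩, rfl⟩, rfl⟩
        | zero => exact zero_mem _
        | add y z _ _ hy hz => exact add_mem hy hz
        | smul c y _ hy =>
          obtain ⟨r, rfl⟩ := hres c
          rw [algebraMap_smul]
          exact Submodule.smul_mem _ r hy
      have h := himage (Set.range a)
      rw [hN, Submodule.map_top, Submodule.range_subtype, hker] at h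
      rw [h]
      congr 2
      ext y
      simp
    · have hfi := hli.map' f (LinearMap.ker_eq_bot.mpr hf)
      let e : J ≃ ↥(Finset.univ.image fun i ↦ (a i : A)) :=
        Equiv.ofBijective (fun i ↦ ⟨(a i : A), Finset.mem_image_of_mem _ (Finset.mem_univ i)⟩)
          ⟨fun i j h ↦ ha (Subtype.ext (congrArg Subtype.val h :)), fun ⟨y, hy⟩ ↦ by
            obtain ⟨i, -, rfl⟩ := Finset.mem_image.mp hy
            exact ⟨i, rfl⟩⟩
      refine (linearIndependent_equiv e).mp ?_
      have hfun : (fun g : ↥(Finset.univ.image fun i ↦ (a i : A)) ↦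
          (1 : k) ⊗ₜ[A] KaehlerDifferential.D R A (g : A)) ∘ e = ⇑f ∘ (v ∘ a) :=
        funext fun i ↦ (hfv (a i)).symm
      rw [hfun]
      exact hfi
  · rintro ⟨s, hs, hgen, hli⟩
    let w : ↥s → I := fun g ↦ ⟨g, hs g.2⟩
    have hw : Submodule.span Aq (x '' Set.range w) = ⊤ := by
      apply Submodule.map_injective_of_injective (Submodule.injective_subtype _)
      rw [himage, Submodule.map_top, Submodule.range_subtype, hker, hgen]
      congr 2
      ext y
      exact ⟨fun ⟨_, ⟨g, hg⟩, hy⟩ ↦ hy ▸ hg ▸ g.2, fun h ↦ ⟨w ⟨y, h⟩, ⟨⟨y, h⟩, rfl⟩, rfl⟩⟩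
    have htop := hspan _ hw
    rw [← Set.range_comp] at htop
    rw [injective_iff_map_eq_zero]
    intro z hz
    obtain ⟨c, rfl⟩ := (Submodule.mem_span_range_iff_exists_fun k).mp
      (htop ▸ Submodule.mem_top : z ∈ Submodule.span k (Set.range (v ∘ w)))
    rw [map_sum] at hz
    simp only [map_smul, Function.comp_apply, hfv] at hz
    refine Finset.sum_eq_zero fun i _ ↦ ?_
    rw [Fintype.linearIndependent_iff.mp hli c hz i, zero_smul]

end Groth.Agent.S5998
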