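import Groth.Statements.S5999
import Mathlib.RingTheory.Smooth.Local
import Mathlib.RingTheory.Etale.Kaehler
import Mathlib.RingTheory.Flat.FaithfullyFlat.Algebra


set_option autoImplicit false
universe u
open SGA1

namespace Groth.Agent.S5999

open TensorProduct in
/-- Let R be a Noetherian ring, A an R-algebra of finite type, F an element of A, P a prime ideal of
A/(F) and q its preimage in A, and suppose A is smooth over R at q. Then the hypersurface A/(F) is
smooth over R at P if and only if either F is zero in the local ring A_q (F vanishes on a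
neighbourhood of q) or the image dF(q) of the differential of F in κ(q) ⊗_A Ω_{A/R} is nonzero. -/
theorem result
    (R A : Type u) [CommRing R] [CommRing A] [IsNoetherianRing R] [Algebra R A] [Algebra.FiniteType R A]
    (F : A) (P : Ideal (A ⧸ Ideal.span ({F} : Set A))) [P.IsPrime]
    (hX : Algebra.IsSmoothAt R (P.comap (Ideal.Quotient.mk (Ideal.span ({F} : Set A))))) :
    letI q : Ideal A := P.comap (Ideal.Quotient.mk (Ideal.span ({F} : Set A)))
    Algebra.IsSmoothAt R P ↔ algebraMap A (Localization.AtPrime q) F = 0 ∨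
      (1 : q.ResidueField) ⊗ₜ[A] KaehlerDifferential.D R A F ≠ 0 := by
  let q : Ideal A := P.comap (Ideal.Quotient.mk (Ideal.span ({F} : Set A)))
  show Algebra.IsSmoothAt R P ↔ algebraMap A (Localization.AtPrime q) F = 0 ∨
    (1 : q.ResidueField) ⊗ₜ[A] KaehlerDifferential.D R A F ≠ 0
  let I : Ideal A := Ideal.span ({F} : Set A)
  let Aq := Localization.AtPrime q
  let S := Localization.AtPrime P
  let φ : Aq →+* S := Localization.localRingHom q P (Ideal.Quotient.mk I) rfl
  letI : Algebra Aq S := φ.toAlgebra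
  haveI : IsLocalHom φ := Localization.isLocalHom_localRingHom q P (Ideal.Quotient.mk I) rfl
  have hcomp : ∀ a, φ (algebraMap A Aq a) = algebraMap (A ⧸ I) S (Ideal.Quotient.mk I a) :=
    fun a ↦ Localization.localRingHom_to_map _ _ _ _ _
  haveI : IsScalarTower R Aq S := IsScalarTower.of_algebraMap_eq fun r ↦ by
    rw [IsScalarTower.algebraMap_apply R A Aq, RingHom.algebraMap_toAlgebra, hcomp,
      Ideal.Quotient.mk_algebraMap, ← IsScalarTower.algebraMap_apply]
  haveI : IsScalarTower A Aq S := IsScalarTower.of_algebraMap_eq fun a ↦ by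
    rw [RingHom.algebraMap_toAlgebra, hcomp, IsScalarTower.algebraMap_apply A (A ⧸ I) S]
    rfl
  have hsurj : Function.Surjective (algebraMap Aq S) := fun z ↦ by
    obtain ⟨⟨x, s⟩, hz⟩ := IsLocalization.surj P.primeCompl z
    obtain ⟨a, rfl⟩ := Ideal.Quotient.mk_surjective x
    obtain ⟨t, ht⟩ := Ideal.Quotient.mk_surjective (s : A ⧸ I)
    have htq : t ∈ q.primeCompl := fun h ↦ s.2 (ht ▸ h)
    refine ⟨IsLocalization.mk' Aq a ⟨t, htq⟩, ?_⟩
    have h1 : φ (IsLocalization.mk' Aq a ⟨t, htq⟩) * φ (algebraMap A Aq t) =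
        φ (algebraMap A Aq a) := by
      rw [← map_mul]
      exact congrArg φ (IsLocalization.mk'_spec Aq a ⟨t, htq⟩)
    rw [hcomp, hcomp, ht] at h1
    exact (IsLocalization.map_units S s).mul_right_cancel (h1.trans hz.symm)
  let F' : Aq := algebraMap A Aq F
  have hker : RingHom.ker (algebraMap Aq S) = Ideal.span {F'} := by
    refine le_antisymm (fun z hz ↦ ?_) ?_
    · obtain ⟨⟨a, t⟩, hz'⟩ := IsLocalization.surj q.primeCompl z
      have h0 : algebraMap (A ⧸ I) S (Ideal.Quotient.mk I a) = 0 := by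
        rw [← hcomp, ← hz', map_mul]
        exact mul_eq_zero_of_left hz _
      obtain ⟨⟨u, hu⟩, hua⟩ := (IsLocalization.map_eq_zero_iff P.primeCompl S _).mp h0
      obtain ⟨u, rfl⟩ := Ideal.Quotient.mk_surjective u
      have hmem : u * a ∈ I := by
        rw [← Ideal.Quotient.eq_zero_iff_mem, map_mul]; exact hua
      obtain ⟨c, hc⟩ := Ideal.mem_span_singleton'.mp hmem
      have : z * algebraMap A Aq (t * u) = algebraMap A Aq c * F' := by
        rw [map_mul, ← mul_assoc, hz', ← map_mul, ← map_mul, hc, mul_comm]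
      refine Ideal.mem_span_singleton'.mpr ⟨algebraMap A Aq c *
        ((IsLocalization.map_units Aq (⟨(t : A) * u, q.primeCompl.mul_mem t.2 hu⟩ :
          q.primeCompl)).unit⁻¹ : Aqˣ), ?_⟩
      rw [mul_right_comm, ← this]
      exact IsUnit.mul_val_inv _ |> fun h ↦ by rw [mul_assoc, h, mul_one]
    · rw [Ideal.span_singleton_le_iff_mem, RingHom.mem_ker, RingHom.algebraMap_toAlgebra, hcomp,
        Ideal.Quotient.eq_zero_iff_mem.mpr (Ideal.mem_span_singleton_self F), map_zero]
  haveI : Algebra.FormallySmooth R Aq := hX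
  haveI : Algebra.EssFiniteType R Aq := Algebra.EssFiniteType.comp R A Aq
  haveI : Module.Free Aq Ω[Aq⁄R] := Module.free_of_flat_of_isLocalRing
  have h2 : (RingHom.ker (algebraMap Aq S)).FG := ⟨{F'}, by rw [hker, Finset.coe_singleton]⟩
  let K := IsLocalRing.ResidueField S
  change Algebra.FormallySmooth R S ↔ _
  rw [Algebra.FormallySmooth.iff_injective_cotangentComplexBaseChange_residueField Aq hsurj h2]
  let f := KaehlerDifferential.cotangentComplexBaseChange R S Aq K
  have hF : F' ∈ RingHom.ker (algebraMap Aq S) := hker ▸ Ideal.mem_span_singleton_self F'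
  let x₀ : RingHom.ker (algebraMap Aq S) := ⟨F', hF⟩
  have hgen : ∀ z : K ⊗[Aq] RingHom.ker (algebraMap Aq S), ∃ k : K, z = k ⊗ₜ x₀ := fun z ↦ by
    induction z using TensorProduct.induction_on with
    | zero => exact ⟨0, by rw [TensorProduct.zero_tmul]⟩
    | tmul k x =>
      obtain ⟨c, hc⟩ := Ideal.mem_span_singleton'.mp
        (show (x : Aq) ∈ Ideal.span {F'} by rw [← hker]; exact x.2)
      refine ⟨c • k, ?_⟩
      rw [TensorProduct.smul_tmul]
      congr 1
      exact Subtype.ext hc.symm
    | add y z hy hz =>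
      obtain ⟨a, rfl⟩ := hy
      obtain ⟨b, rfl⟩ := hz
      exact ⟨a + b, (TensorProduct.add_tmul _ _ _).symm⟩
  have hx₀ : (1 : K) ⊗ₜ[Aq] x₀ = 0 → F' = 0 := fun h ↦ by
    have hfin : Module.Finite Aq (RingHom.ker (algebraMap Aq S)) := Module.Finite.of_fg h2
    have hsub : Subsingleton (K ⊗[Aq] RingHom.ker (algebraMap Aq S)) :=
      subsingleton_of_forall_eq 0 fun z ↦ by
        obtain ⟨k, rfl⟩ := hgen z
        rw [show k ⊗ₜ[Aq] x₀ = k • ((1 : K) ⊗ₜ[Aq] x₀) by
          rw [TensorProduct.smul_tmul', smul_eq_mul, mul_one], h, smul_zero]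
    have hloc : IsLocalHom (algebraMap Aq S) := ‹IsLocalHom φ›
    let j : IsLocalRing.ResidueField Aq →+* K := IsLocalRing.ResidueField.map (algebraMap Aq S)
    have hj : Function.Surjective j := fun k ↦ by
      obtain ⟨s, rfl⟩ := IsLocalRing.residue_surjective k
      obtain ⟨a, rfl⟩ := hsurj s
      exact ⟨IsLocalRing.residue Aq a, IsLocalRing.ResidueField.map_residue _ _⟩
    let e : IsLocalRing.ResidueField Aq ≃ₐ[Aq] K := AlgEquiv.ofBijective
      { j with commutes' := fun a ↦ IsLocalRing.ResidueField.map_residue _ a }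
      ⟨j.injective, hj⟩
    have : Subsingleton (IsLocalRing.ResidueField Aq ⊗[Aq] RingHom.ker (algebraMap Aq S)) :=
      (TensorProduct.congr e.toLinearEquiv (LinearEquiv.refl _ _)).toEquiv.subsingleton
    have := IsLocalRing.subsingleton_tensorProduct.mp this
    exact congrArg Subtype.val (Subsingleton.elim x₀ 0)
  have himg : f ((1 : K) ⊗ₜ[Aq] x₀) = (1 : K) ⊗ₜ[Aq] KaehlerDifferential.D R Aq F' :=
    (KaehlerDifferential.cotangentComplexBaseChange_tmul (R := R) (S := S) (P := Aq) (A := K) 1
      x₀).trans (one_smul K _)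
  -- compare the two residue computations
  haveI hlh : IsLocalHom (algebraMap Aq S) := ‹IsLocalHom φ›
  haveI : IsScalarTower A q.ResidueField K := IsScalarTower.of_algebraMap_eq fun a ↦ by
    rw [IsScalarTower.algebraMap_apply A Aq q.ResidueField, IsScalarTower.algebraMap_apply A Aq K]
    exact (IsLocalRing.ResidueField.map_residue (algebraMap Aq S) (algebraMap A Aq a)).symm
  haveI : Algebra.FormallyEtale A Aq := Algebra.FormallyEtale.of_isLocalization q.primeCompl
  let E : K ⊗[Aq] Ω[Aq⁄R] ≃ₗ[Aq] K ⊗[A] Ω[A⁄R] :=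
    (TensorProduct.congr (LinearEquiv.refl Aq K)
      (KaehlerDifferential.tensorKaehlerEquivOfFormallyEtale R A Aq).symm).trans
      ((TensorProduct.AlgebraTensorModule.cancelBaseChange A Aq K K Ω[A⁄R]).restrictScalars Aq)
  have hE : E ((1 : K) ⊗ₜ[Aq] KaehlerDifferential.D R Aq F') =
      (1 : K) ⊗ₜ[A] KaehlerDifferential.D R A F := by
    simp only [E, F', LinearEquiv.trans_apply, TensorProduct.congr_tmul, LinearEquiv.refl_apply,
      KaehlerDifferential.tensorKaehlerEquivOfFormallyEtale_symm_D_algebraMap,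
      LinearEquiv.restrictScalars_apply, TensorProduct.AlgebraTensorModule.cancelBaseChange_tmul,
      one_smul]
  let G := TensorProduct.AlgebraTensorModule.cancelBaseChange A q.ResidueField K K Ω[A⁄R]
  have hiff : (1 : K) ⊗ₜ[Aq] KaehlerDifferential.D R Aq F' = 0 ↔
      (1 : q.ResidueField) ⊗ₜ[A] KaehlerDifferential.D R A F = 0 := by
    rw [← E.map_eq_zero_iff, hE, ← G.symm.map_eq_zero_iff,
      TensorProduct.AlgebraTensorModule.cancelBaseChange_symm_tmul]
    refine ⟨fun h ↦ Module.FaithfullyFlat.tensorProduct_mk_injective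
      (A := q.ResidueField) (B := K) _ (h.trans (TensorProduct.tmul_zero _ _).symm),
      fun h ↦ by rw [h, TensorProduct.tmul_zero]⟩
  constructor
  · intro hinj
    refine or_iff_not_imp_left.mpr fun hF0 hd ↦ hF0 (hx₀ (hinj ?_))
    change f _ = f 0
    rw [map_zero, himg]
    exact hiff.mpr hd
  · rintro (h0 | hd)
    · have : x₀ = 0 := Subtype.ext h0
      intro a b _
      obtain ⟨ka, rfl⟩ := hgen a
      obtain ⟨kb, rfl⟩ := hgen b
      rw [this, TensorProduct.tmul_zero, TensorProduct.tmul_zero]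
    · rw [injective_iff_map_eq_zero]
      intro z hz
      obtain ⟨k, rfl⟩ := hgen z
      rw [show k ⊗ₜ[Aq] x₀ = k • ((1 : K) ⊗ₜ[Aq] x₀) by
        rw [TensorProduct.smul_tmul', smul_eq_mul, mul_one]] at hz ⊢
      change f _ = 0 at hz
      rw [map_smul, himg, smul_eq_zero] at hz
      rcases hz with hk | hk
      · rw [hk, zero_smul]
      · exact absurd (hiff.mp hk) hd

end Groth.Agent.S5999
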