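import Groth.Statements.S6001
import Groth.Agent.Lib.Unram.CompletionCriterion
import Groth.Agent.H56.AbsFlat
import Groth.Agent.Lib.Excellent.CompletionFinite
import Mathlib.RingTheory.Etale.Locus
import Mathlib.RingTheory.Filtration

set_option autoImplicit false
universe u
open SGA1

namespace Groth.Agent.S6001

/-- Let A be a Noetherian local ring which is analytically reduced (its completion has no nonzero
nilpotents), and let B be the local ring at a prime q, lying over the maximal ideal of A, of an
A-algebra C of finite type that is etale over A at q (an etale local homomorphism A ⟶ B). Then B is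
analytically reduced, and in particular reduced. -/
theorem result (A C : Type u) [CommRing A] [IsLocalRing A]
    [IsNoetherianRing A] [CommRing C] [Algebra A C] [Algebra.FiniteType A C] (q : Ideal C) [q.IsPrime]
    (hq : Ideal.comap (algebraMap A C) q = IsLocalRing.maximalIdeal A) (hC : Algebra.IsEtaleAt A q)
    (hA : IsReduced (AdicCompletion (IsLocalRing.maximalIdeal A) A)) :
    IsReduced (AdicCompletion (IsLocalRing.maximalIdeal (Localization.AtPrime q)) (Localization.AtPrime q)) ∧
      IsReduced (Localization.AtPrime q) := by

  classical
  open IsLocalRing in
  let B := Localization.AtPrime q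
  have hlh : IsLocalHom (algebraMap A B) := by
    constructor
    intro a ha
    by_contra hna
    have h1 : algebraMap A C a ∈ q := by
      show a ∈ Ideal.comap (algebraMap A C) q
      rw [hq]; exact hna
    rw [IsScalarTower.algebraMap_apply A C B] at ha
    exact (IsLocalization.AtPrime.isUnit_to_map_iff B q _).1 ha h1
  have : IsNoetherianRing C := Algebra.FiniteType.isNoetherianRing A C
  have : IsNoetherianRing B := IsLocalization.isNoetherianRing q.primeCompl B inferInstance
  have : Algebra.EssFiniteType A B := Algebra.EssFiniteType.comp A C B
  have : Algebra.FormallyEtale A B := hC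
  have : Module.Flat A B := by
    have : Algebra.FinitePresentation A C := Algebra.FinitePresentation.of_finiteType.1 inferInstance
    obtain ⟨f, hf, hE⟩ := Algebra.exists_etale_of_isEtaleAt (R := A) q
    let : Algebra (Localization.Away f) B :=
      (IsLocalization.Away.lift (S := Localization.Away f) f (g := algebraMap C B)
        (IsLocalization.map_units B (⟨f, hf⟩ : q.primeCompl))).toAlgebra
    have : IsScalarTower C (Localization.Away f) B :=
      IsScalarTower.of_algebraMap_eq fun c => (IsLocalization.Away.lift_eq (S := Localization.Away f) (g := algebraMap C B) f (IsLocalization.map_units B (⟨f, hf⟩ : q.primeCompl)) c).symm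
    have : IsScalarTower A (Localization.Away f) B := IsScalarTower.of_algebraMap_eq fun a => by
      rw [IsScalarTower.algebraMap_apply A C (Localization.Away f), ← IsScalarTower.algebraMap_apply C (Localization.Away f) B,
        ← IsScalarTower.algebraMap_apply A C B]
    have : IsLocalization (q.primeCompl.map (algebraMap C (Localization.Away f))) B :=
      IsLocalization.isLocalization_of_submonoid_le (Localization.Away f) B (Submonoid.powers f) q.primeCompl
        (Submonoid.powers_le.2 hf)
    have : Module.Flat (Localization.Away f) B :=
      IsLocalization.flat B (q.primeCompl.map (algebraMap C (Localization.Away f)))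
    exact Module.Flat.trans A (Localization.Away f) B
  have hm := Algebra.FormallyUnramified.map_maximalIdeal (R := A) (S := B)
  obtain ⟨ψ, hψ⟩ : ∃ ψ : AdicCompletion (maximalIdeal A) A →+* AdicCompletion (maximalIdeal B) B,
      ψ.comp (algebraMap A _) = (algebraMap B _).comp (algebraMap A B) := by
    have key : ∀ J' : Ideal B, (maximalIdeal A).map (algebraMap A B) = J' →
        ∃ ψ : AdicCompletion (maximalIdeal A) A →+* AdicCompletion J' B,
          ψ.comp (algebraMap A _) = (algebraMap B _).comp (algebraMap A B) := by
      rintro _ rfl
      refine ⟨(Groth.Agent.Lib.Excellent.CompletionFinite.mapAlgHom (maximalIdeal A) B).toRingHom, ?_⟩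
      refine RingHom.ext fun a => ?_
      refine ((Groth.Agent.Lib.Excellent.CompletionFinite.mapAlgHom (maximalIdeal A) B).commutes a).trans ?_
      exact IsScalarTower.algebraMap_apply A B _ a
    exact key _ hm
  have he : ψ.Etale := (Groth.Agent.Lib.Unram.CompletionCriterion.etale_iff A B ψ hψ).1.1
    ⟨inferInstance, hm, inferInstance, inferInstance⟩
  let := ψ.toAlgebra
  have : Algebra.Etale (AdicCompletion (maximalIdeal A) A) (AdicCompletion (maximalIdeal B) B) := he
  have hred : IsReduced (AdicCompletion (maximalIdeal B) B) :=
    Groth.Agent.H56.AbsFlat.isReduced_of_weaklyEtale (AdicCompletion (maximalIdeal A) A) _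
  refine ⟨hred, isReduced_of_injective (algebraMap B (AdicCompletion (maximalIdeal B) B)) ?_⟩
  exact AdicCompletion.of_injective (maximalIdeal B) B

end Groth.Agent.S6001
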