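import Groth.Statements.S6003

import Groth.Agent.Lib.TorsorSch.Basic
import Groth.Agent.Lib.FFDesc.Datum
import Groth.Agent.S5132
import Mathlib.AlgebraicGeometry.Morphisms.LocalFlatDescent

set_option autoImplicit false
universe u
open CategoryTheory AlgebraicGeometry
open SGA1

open CategoryTheory AlgebraicGeometry

namespace Groth.Agent.S6003

theorem descendsAlong_qc :
    MorphismProperty.DescendsAlong @QuasiCompact.{u} (@Surjective ⊓ @Flat ⊓ @QuasiCompact : MorphismProperty Scheme.{u}) := by
  have : MorphismProperty.RespectsIso @QuasiCompact.{u} :=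
    MorphismProperty.IsStableUnderBaseChange.respectsIso
  refine MorphismProperty.DescendsAlong.mk' fun {X Y Z} f g _ hf h => ?_
  have := Groth.Agent.S5132.result.{u}
  exact MorphismProperty.of_pullback_fst_of_descendsAlong (P := @QuasiCompact.{u})
    (Q := (@Surjective ⊓ @QuasiCompact : MorphismProperty Scheme.{u})) (f := f) (g := g) ⟨hf.1.1, hf.2⟩ h

/-- Let G be an S-group scheme which is flat and quasi-compact over S and let G act on the S-scheme X.
Then X is a principal homogeneous bundle under G (a pseudo-torsor which acquires sections on the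
members of some fpqc covering family of S) if and only if X is formally principal homogeneous (a
pseudo-torsor) and the structure morphism X → S is faithfully flat and quasi-compact. -/
theorem result {S : Scheme.{u}}
    (G X : Over S) [GrpObj G] [Flat G.hom] [QuasiCompact G.hom] (a : AlgGrp.Action G X) :
    NonAbH1.IsTorsorFor Scheme.fpqcPrecoverage a ↔
      (NonAbH1.IsPseudoTorsorSch a ∧ Surjective X.hom ∧ Flat X.hom ∧ QuasiCompact X.hom) := by
  have := descendsAlong_qc.{u}
  have : IsZariskiLocalAtTarget (@QuasiCompact : MorphismProperty Scheme.{u}) :=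
    @HasAffineProperty.instIsZariskiLocalAtTarget _ _
      instHasAffinePropertyQuasiCompactCompactSpaceCarrierCarrierCommRingCat
  have : IsZariskiLocalAtTarget (@Flat : MorphismProperty Scheme.{u}) :=
    HasRingHomProperty.instIsZariskiLocalAtTarget _
  refine ⟨fun h => ⟨h.1, ?_, ?_, ?_⟩, fun ⟨h1, h2, h3, h4⟩ => ?_⟩
  · refine Groth.Agent.Lib.TorsorSch.Basic.of_hom (P := @Surjective.{u}) h ⟨fun s => ?_⟩
    exact ⟨MonObj.one (X := G) |>.left s, by rw [← Scheme.Hom.comp_apply, Over.w]; rfl⟩
  · exact Groth.Agent.Lib.TorsorSch.Basic.of_hom (P := @Flat.{u}) h ‹_›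
  · exact Groth.Agent.Lib.TorsorSch.Basic.of_hom (P := @QuasiCompact.{u}) h ‹_›
  · refine ⟨h1, Presieve.singleton X.hom, Groth.Agent.Lib.FFDesc.fpqcCover_of_quasiCompact X.hom, ?_⟩
    rintro S' f ⟨⟩
    exact ⟨𝟙 _, Category.id_comp _⟩

end Groth.Agent.S6003
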