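import Groth.Statements.S6004

import Groth.Agent.Lib.TorsorSch.Basic
import Mathlib.AlgebraicGeometry.Morphisms.Affine
import Mathlib.AlgebraicGeometry.Morphisms.Flat
import Mathlib.AlgebraicGeometry.Morphisms.LocalFlatDescent

set_option autoImplicit false
universe u
open CategoryTheory AlgebraicGeometry
open SGA1

open CategoryTheory AlgebraicGeometry

namespace Groth.Agent.S6004

/-- Let G be an S-group scheme which is affine and flat over S. Then every principal homogeneous bundle
under G (a pseudo-torsor which acquires sections on the members of some fpqc covering family of S)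
is affine and flat over S. -/
theorem result {S : Scheme.{u}}
    (G X : Over S) [GrpObj G] [IsAffineHom G.hom] [Flat G.hom] (a : AlgGrp.Action G X)
    (h : NonAbH1.IsTorsorFor Scheme.fpqcPrecoverage a) :
    IsAffineHom X.hom ∧ Flat X.hom := by
  have := Groth.Agent.Lib.Tori.AffineDescent.descendsAlong_isAffineHom.{u}
  have : IsZariskiLocalAtTarget (@Flat : MorphismProperty Scheme.{u}) :=
    HasRingHomProperty.instIsZariskiLocalAtTarget _
  have : IsZariskiLocalAtTarget (@IsAffineHom : MorphismProperty Scheme.{u}) :=
    @HasAffineProperty.instIsZariskiLocalAtTarget _ _ instHasAffinePropertyIsAffineHomIsAffine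
  exact ⟨Groth.Agent.Lib.TorsorSch.Basic.of_hom (P := @IsAffineHom.{u}) h ‹_›,
    Groth.Agent.Lib.TorsorSch.Basic.of_hom (P := @Flat.{u}) h ‹_›⟩

end Groth.Agent.S6004
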