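import Groth.Statements.S6008
import Groth.Agent.H80.Fpqc.Exact
import Groth.Agent.H80.Fpqc.RootCover
import Groth.Agent.Lib.RedPts.Ga
import Groth.Agent.Lib.RedPts.Gm
import Mathlib.Algebra.CharP.Lemmas
import Mathlib.FieldTheory.Finite.Basic

set_option autoImplicit false
set_option backward.isDefEq.respectTransparency false
universe u
open CategoryTheory AlgebraicGeometry MonoidalCategory CartesianMonoidalCategory MonObj GrpObj
open SGA1t

namespace Groth.Agent.S6008

open Groth.Agent.Lib.RedPts CategoryTheory.Limits in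
theorem cast_eq_cast_iff {R : Type u} [CommRing R] {p : ℕ} [Fact p.Prime] (hp : (p : R) = 0)
    (j k : ZMod p) (h : ((j.val : ℕ) : R) = ((k.val : ℕ) : R)) : j = k ∨ (1 : R) = 0 := by
  rcases subsingleton_or_nontrivial R with hR | hR
  · exact Or.inr (Subsingleton.elim _ _)
  have : CharP R p := (CharP.charP_iff_prime_eq_zero Fact.out).mpr hp
  refine Or.inl (ZMod.val_injective p ?_)
  rw [CharP.natCast_eq_natCast R p] at h
  exact Nat.ModEq.eq_of_lt_of_lt h (ZMod.val_lt j) (ZMod.val_lt k)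

theorem isEmpty_of_one_eq_zero {X : Scheme.{u}} (h : (1 : Γ(X, ⊤)) = 0) : IsEmpty X := by
  refine ⟨fun x => ?_⟩
  have h1 : x ∈ X.basicOpen (1 : Γ(X, ⊤)) := (X.mem_basicOpen 1 x (TopologicalSpace.Opens.mem_top x)).mpr (by rw [map_one]; exact isUnit_one)
  rw [h, Scheme.basicOpen_zero] at h1
  exact h1

set_option maxHeartbeats 1600000 in
set_option synthInstance.maxHeartbeats 200000 in
open Groth.Agent.Lib.RedPts CategoryTheory.Limits in
theorem key (p : ℕ) [Fact p.Prime] {S : Scheme.{u}}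
    (hp : (p : Γ(S, ⊤)) = 0) (F : Red.Ga S ⟶ Red.Ga S)
    (hF : ∀ (T : Over S) (x : T ⟶ Red.Ga S), Red.gaFn (x ≫ F) = Red.gaFn x ^ p)
    {G' : Over S} [GrpObj G'] (e : G' ≅ TwC.const S (Multiplicative (ZMod p)))
    (he : TwC.IsConstGrp (Multiplicative (ZMod p)) G' e)
    (i : G' ⟶ Red.Ga S) [IsMonHom i]
    (hi : Red.gaFn (TwC.pt S (Multiplicative (ZMod p)) (Multiplicative.ofAdd 1) ≫ e.inv ≫ i) = 1) :
    NonAbH1.IsExactSeq Scheme.fpqcPrecoverage i (𝟙 (Red.Ga S) * F⁻¹) := by
  have hp2 : 2 ≤ p := (Fact.out : p.Prime).two_le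
  have hpT : ∀ T : Over S, (p : Γ(T.left, ⊤)) = 0 := fun T => by
    rw [← map_natCast T.hom.appTop.hom, hp, map_zero]
  have hadd : ∀ {T : Over S} (a b : Γ(T.left, ⊤)), (a + b) ^ p = a ^ p + b ^ p := fun {T} a b => by
    obtain ⟨r, hr⟩ := exists_add_pow_prime_eq (Fact.out : p.Prime) a b
    rw [hr, hpT T, MulZeroClass.zero_mul, MulZeroClass.zero_mul, MulZeroClass.zero_mul, add_zero]
  have hfermat : ∀ {T : Over S} (j : ℕ), ((j : ℕ) : Γ(T.left, ⊤)) ^ p = j := fun {T} j => by
    induction j with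
    | zero => rw [Nat.cast_zero, zero_pow (by omega)]
    | succ j ih => rw [Nat.cast_succ, hadd, ih, one_pow]
  have hv : ∀ {T : Over S} (x : T ⟶ Red.Ga S),
      Red.gaFn (x ≫ (𝟙 (Red.Ga S) * F⁻¹)) = Red.gaFn x - Red.gaFn x ^ p := fun {T} x => by
    rw [MonObj.comp_mul, Category.comp_id, GrpObj.comp_inv, Ga.gaFn_mul, Ga.gaFn_inv, hF,
      sub_eq_add_neg]
  have : IsMonHom (𝟙 (Red.Ga S) * F⁻¹) :=
    { one_hom := Ga.gaFn_injective (by
        rw [hv, Gm.η_eq_one, Ga.gaFn_one, zero_pow (by omega), sub_zero])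
      mul_hom := Ga.gaFn_injective (by
        rw [hv, Gm.tensorHom_μ, Gm.μ_eq_mul, Ga.gaFn_mul, Ga.gaFn_mul, hv, hv, hadd]
        ring) }
  -- the values of `i` on the constant points
  let M := Multiplicative (ZMod p)
  let c : M → Γ(S, ⊤) := fun m => Red.gaFn (TwC.pt S M m ≫ e.inv ≫ i)
  have hc : ∀ m n, c (m * n) = c m + c n := fun m n => by
    simp only [c]
    rw [← Category.assoc, ← he m n, MonObj.mul_comp _ _ i, Ga.gaFn_mul, Category.assoc, Category.assoc]
  have hcval : ∀ m : M, c m = ((Multiplicative.toAdd m).val : ℕ) := by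
    have h1 : ∀ k : ℕ, c (Multiplicative.ofAdd (k : ZMod p)) = (k : ℕ) := fun k => by
      induction k with
      | zero =>
        have := hc 1 1
        rw [_root_.mul_one, left_eq_add] at this
        rw [Nat.cast_zero, ofAdd_zero, this, Nat.cast_zero]
      | succ k ih => rw [Nat.cast_succ, ofAdd_add, hc, ih, show c (Multiplicative.ofAdd 1) = 1 from hi, Nat.cast_succ]
    intro m
    conv_lhs => rw [← ofAdd_toAdd m, ← ZMod.natCast_zmod_val (Multiplicative.toAdd m)]
    exact h1 _
  -- pieces of a point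
  have hpieces : ∀ {T : Over S} (z : T ⟶ G'), ∃ V : M → T.left.Opens, iSup V = ⊤ ∧ ∀ m,
      let h : Over.mk ((V m).ι ≫ T.hom) ⟶ T := Over.homMk (V m).ι rfl
      h ≫ z = CartesianMonoidalCategory.toUnit _ ≫ TwC.pt S M m ≫ e.inv ∧
      (V m).ι.appTop (Red.gaFn (z ≫ i)) = ((Multiplicative.toAdd m).val : ℕ) := by
    intro T z
    let y : T.left ⟶ ∐ fun _ : M => S := (z ≫ e.hom).left
    refine ⟨fun m => y ⁻¹ᵁ (Sigma.ι (fun _ : M => S) m).opensRange, ?_, fun m => ?_⟩
    · refine top_le_iff.mp fun x _ => TopologicalSpace.Opens.mem_iSup.mpr ?_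
      obtain ⟨m, s, hs⟩ := (sigmaOpenCover (fun _ : M => S)).exists_eq (y.base x)
      exact ⟨m, s, hs⟩
    intro h
    set V := y ⁻¹ᵁ (Sigma.ι (fun _ : M => S) m).opensRange
    have hr : Set.range (V.ι ≫ y).base ⊆ Set.range (Sigma.ι (fun _ : M => S) m).base := by
      rintro _ ⟨x, rfl⟩
      exact x.2
    let r := IsOpenImmersion.lift (Sigma.ι (fun _ : M => S) m) (V.ι ≫ y) hr
    have hr1 : r ≫ Sigma.ι (fun _ : M => S) m = V.ι ≫ y := IsOpenImmersion.lift_fac _ _ _
    have hr2 : r = V.ι ≫ T.hom := by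
      rw [← Over.w (z ≫ e.hom)]
      change r = V.ι ≫ y ≫ Sigma.desc fun _ : M => 𝟙 S
      rw [← reassoc_of% hr1, Sigma.ι_desc, Category.comp_id]
    have h1 : h ≫ z = CartesianMonoidalCategory.toUnit _ ≫ TwC.pt S M m ≫ e.inv := by
      rw [← cancel_mono e.hom, Category.assoc, Category.assoc, Category.assoc, e.inv_hom_id, Category.comp_id]
      apply Over.OverMorphism.ext
      change V.ι ≫ y = (V.ι ≫ T.hom) ≫ Sigma.ι (fun _ : M => S) m
      rw [← hr2, hr1]
    refine ⟨h1, ?_⟩
    have h2 : Red.gaFn ((h ≫ z) ≫ i) = h.left.appTop (Red.gaFn (z ≫ i)) := by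
      rw [Category.assoc, Ga.gaFn_comp]
    refine h2.symm.trans ?_
    rw [h1, Category.assoc, Category.assoc, Ga.gaFn_comp]
    change (CartesianMonoidalCategory.toUnit (Over.mk (V.ι ≫ T.hom))).left.appTop (c m) = _
    rw [hcval]
    exact map_natCast _ _
  have hres : ∀ {X : Scheme.{u}} {J : Type} (V : J → X.Opens), iSup V = ⊤ → ∀ a b : Γ(X, ⊤),
      (∀ m, (V m).ι.appTop a = (V m).ι.appTop b) → a = b := by
    intro X J V hV a b hab
    refine TopCat.Sheaf.eq_of_locally_eq' X.sheaf V ⊤ (fun m => homOfLE le_top) (hV ▸ le_rfl) a b fun m => ?_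
    have := congrArg ((V m).topIso.hom) (hab m)
    rw [Scheme.Opens.topIso_hom, Scheme.Opens.ι_appTop] at this
    rw [← CommRingCat.comp_apply, ← CommRingCat.comp_apply, ← X.presheaf.map_comp] at this
    exact this
  have hfix : ∀ {T : Over S} (z : T ⟶ G'), Red.gaFn (z ≫ i) ^ p = Red.gaFn (z ≫ i) := by
    intro T z
    obtain ⟨V, hV, hVm⟩ := hpieces z
    refine hres V hV _ _ fun m => ?_
    rw [map_pow, (hVm m).2]
    exact hfermat (T := Over.mk ((V m).ι ≫ T.hom)) _
  refine H80.Fpqc.isExactSeq_of_points _ i _ ?_ ?_ ?_ ?_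
  · refine Ga.gaFn_injective ?_
    rw [hv, Ga.gaFn_one, ← Category.id_comp i, hfix, sub_self]
  · intro T d hd
    let w := Red.gaFn d
    have hw : w ^ p = w := by
      have := hv d
      rw [hd, Ga.gaFn_one] at this
      exact (sub_eq_zero.mp this.symm).symm
    let t : M → Γ(T.left, ⊤) := fun m => w - ((Multiplicative.toAdd m).val : ℕ)
    have ht : ∀ m, t m ^ p = t m := fun m => by
      have := hadd (T := T) (t m) (((Multiplicative.toAdd m).val : ℕ))
      rw [sub_add_cancel, hw, hfermat] at this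
      linear_combination -this
    let V : M → T.left.Opens := fun m => T.left.basicOpen (1 - t m ^ (p - 1))
    have hVt : ∀ m, (V m).ι.appTop (Red.gaFn d) = ((Multiplicative.toAdd m).val : ℕ) := by
      intro m
      have hu : IsUnit ((V m).ι.appTop.hom (1 - t m ^ (p - 1))) :=
        RingedSpace.isUnit_of_isUnit_germ (V m : Scheme.{u}).toSheafedSpace ⊤ _ fun x hx =>
          (Scheme.mem_basicOpen _ _ x hx).mp (by
            rw [← Scheme.preimage_basicOpen_top]
            exact x.2)
      have h0 : (1 - t m ^ (p - 1)) * t m = 0 := by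
        rw [sub_mul, _root_.one_mul, ← pow_succ, Nat.sub_add_cancel (by omega), ht, sub_self]
      have h2 := congrArg (V m).ι.appTop.hom h0
      rw [map_mul, map_zero] at h2
      have h1 := hu.mul_right_eq_zero.mp h2
      rw [map_sub, map_natCast] at h1
      exact sub_eq_zero.mp h1
    have hV : iSup V = ⊤ := by
      refine top_le_iff.mp fun x _ => TopologicalSpace.Opens.mem_iSup.mpr ?_
      by_contra! hx
      let ev := (T.left.presheaf.germ ⊤ x (TopologicalSpace.Opens.mem_top x) ≫ T.left.residue x).hom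
      have hev : ∀ m, ev (t m) ^ (p - 1) = 1 := fun m => by
        by_contra hne
        refine hx m ((T.left.mem_basicOpen _ x (TopologicalSpace.Opens.mem_top x)).mpr ?_)
        by_contra hnu
        refine hne (sub_eq_zero.mp ?_).symm
        rw [← map_pow, ← map_one ev, ← map_sub]
        exact (IsLocalRing.residue_eq_zero_iff _).mpr hnu
      have hne : ∀ m, ev (t m) ≠ 0 := fun m h0 => by
        have := hev m
        rw [h0, zero_pow (by omega)] at this
        exact zero_ne_one this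
      have : CharP (T.left.residueField x) p := (CharP.charP_iff_prime_eq_zero Fact.out).mpr (by
        rw [← map_natCast ev, hpT, map_zero])
      obtain ⟨j, hj⟩ : ev w ∈ (ZMod.castHom (dvd_refl p) (T.left.residueField x)).fieldRange := by
        rw [ZMod.fieldRange_castHom_eq_bot, Subfield.mem_bot_iff_pow_eq_self _ p, ← map_pow, hw]
      refine hne (Multiplicative.ofAdd j) ?_
      rw [map_sub, map_natCast, sub_eq_zero, toAdd_ofAdd, ← hj]
      exact (congrArg _ (ZMod.natCast_zmod_val j)).symm.trans (map_natCast _ _)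
    let 𝒰 := T.left.openCoverOfIsOpenCover V hV
    have hglue : ∀ m m' : M, pullback.fst (V m).ι (V m').ι ≫ (V m).ι ≫ T.hom ≫ Sigma.ι (fun _ : M => S) m =
        pullback.snd (V m).ι (V m').ι ≫ (V m').ι ≫ T.hom ≫ Sigma.ι (fun _ : M => S) m' := by
      intro m m'
      rcases eq_or_ne m m' with rfl | hne
      · rw [pullback.condition_assoc]
      · have hP : IsEmpty ↥(pullback (V m).ι (V m').ι) := by
          refine isEmpty_of_one_eq_zero ?_
          let P : Over S := Over.mk (pullback.fst (V m).ι (V m').ι ≫ (V m).ι ≫ T.hom)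
          refine ((cast_eq_cast_iff (hpT P) (Multiplicative.toAdd m) (Multiplicative.toAdd m') ?_).resolve_left
            fun h => hne (Multiplicative.toAdd.injective h))
          rw [← map_natCast (pullback.fst (V m).ι (V m').ι).appTop.hom, ← hVt m,
            ← map_natCast (pullback.snd (V m).ι (V m').ι).appTop.hom (Multiplicative.toAdd m').val, ← hVt m',
            ← CommRingCat.comp_apply, ← CommRingCat.comp_apply, ← Scheme.Hom.comp_appTop,
            ← Scheme.Hom.comp_appTop, pullback.condition]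
        exact isInitialOfIsEmpty.hom_ext _ _
    let y : T.left ⟶ ∐ fun _ : M => S :=
      𝒰.glueMorphisms (fun m : M => (V m).ι ≫ T.hom ≫ Sigma.ι (fun _ : M => S) m) hglue
    have hy : ∀ m : M, (V m).ι ≫ y = (V m).ι ≫ T.hom ≫ Sigma.ι (fun _ : M => S) m := fun m =>
      𝒰.ι_glueMorphisms _ hglue m
    let z : T ⟶ G' := Over.homMk (V := TwC.const S M) y (by
      refine Scheme.Cover.hom_ext 𝒰 _ _ fun m => ?_
      change (V m).ι ≫ y ≫ Sigma.desc (fun _ : M => 𝟙 S) = (V m).ι ≫ T.hom
      rw [reassoc_of% (hy m), Sigma.ι_desc, Category.comp_id]) ≫ e.inv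
    refine ⟨z, Ga.gaFn_injective (hres V hV _ _ fun m => ?_)⟩
    rw [hVt m]
    let h : Over.mk ((V m).ι ≫ T.hom) ⟶ T := Over.homMk (V m).ι rfl
    have h1 : h ≫ z = CartesianMonoidalCategory.toUnit _ ≫ TwC.pt S M m ≫ e.inv := by
      rw [← cancel_mono e.hom]
      simp only [z, Category.assoc, e.inv_hom_id, Category.comp_id]
      apply Over.OverMorphism.ext
      change (V m).ι ≫ y = ((V m).ι ≫ T.hom) ≫ Sigma.ι (fun _ : M => S) m
      rw [hy, Category.assoc]
    change h.left.appTop _ = _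
    rw [← Ga.gaFn_comp, ← Category.assoc, h1, Category.assoc, Category.assoc, Ga.gaFn_comp]
    change (CartesianMonoidalCategory.toUnit (Over.mk ((V m).ι ≫ T.hom))).left.appTop (c m) = _
    rw [hcval]
    exact map_natCast _ _
  · intro T z z' hzz
    obtain ⟨V, hV, hVm⟩ := hpieces z
    obtain ⟨V', hV', hVm'⟩ := hpieces z'
    have hW : ⨆ q : M × M, V q.1 ⊓ V' q.2 = ⊤ := by
      have h1 : iSup V ⊓ iSup V' = ⊤ := by rw [hV, hV', inf_top_eq]
      rw [iSup_prod, ← h1, iSup_inf_eq]
      simp_rw [inf_iSup_eq]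
    apply Over.OverMorphism.ext
    refine Scheme.Cover.hom_ext (T.left.openCoverOfIsOpenCover _ hW) _ _ fun q => ?_
    change (V q.1 ⊓ V' q.2).ι ≫ z.left = (V q.1 ⊓ V' q.2).ι ≫ z'.left
    have hl : (V q.1 ⊓ V' q.2).ι ≫ z.left = T.left.homOfLE (inf_le_left : V q.1 ⊓ V' q.2 ≤ V q.1) ≫
        ((V q.1).ι ≫ T.hom) ≫ (TwC.pt S M q.1 ≫ e.inv).left := by
      rw [← Scheme.homOfLE_ι T.left (inf_le_left : V q.1 ⊓ V' q.2 ≤ V q.1), Category.assoc]
      congr 1
      exact congrArg (fun f => f.left) (hVm q.1).1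
    have hl' : (V q.1 ⊓ V' q.2).ι ≫ z'.left = T.left.homOfLE (inf_le_right : V q.1 ⊓ V' q.2 ≤ V' q.2) ≫
        ((V' q.2).ι ≫ T.hom) ≫ (TwC.pt S M q.2 ≫ e.inv).left := by
      rw [← Scheme.homOfLE_ι T.left (inf_le_right : V q.1 ⊓ V' q.2 ≤ V' q.2), Category.assoc]
      congr 1
      exact congrArg (fun f => f.left) (hVm' q.2).1
    rcases eq_or_ne q.1 q.2 with hq | hq
    · rw [hl, hl', hq, Category.assoc, Scheme.homOfLE_ι_assoc, Category.assoc, Scheme.homOfLE_ι_assoc]
    · have : IsEmpty ↥(Scheme.Opens.toScheme (V q.1 ⊓ V' q.2)) := by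
        refine isEmpty_of_one_eq_zero ?_
        let P : Over S := Over.mk ((V q.1 ⊓ V' q.2).ι ≫ T.hom)
        refine ((cast_eq_cast_iff (hpT P) (Multiplicative.toAdd q.1) (Multiplicative.toAdd q.2) ?_).resolve_left
          fun h => hq (Multiplicative.toAdd.injective h))
        rw [← map_natCast (T.left.homOfLE (inf_le_left : V q.1 ⊓ V' q.2 ≤ V q.1)).appTop.hom, ← (hVm q.1).2,
          ← map_natCast (T.left.homOfLE (inf_le_right : V q.1 ⊓ V' q.2 ≤ V' q.2)).appTop.hom (Multiplicative.toAdd q.2).val,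
          ← (hVm' q.2).2, hzz, ← CommRingCat.comp_apply, ← CommRingCat.comp_apply, ← Scheme.Hom.comp_appTop,
          ← Scheme.Hom.comp_appTop, Scheme.homOfLE_ι, Scheme.homOfLE_ι]
      exact isInitialOfIsEmpty.hom_ext _ _
  · let X := (Red.Ga S).left
    let a : Γ(X, ⊤) := Red.gaFn (𝟙 (Red.Ga S))
    rcases subsingleton_or_nontrivial Γ(X, ⊤) with hX | hX
    · refine ⟨_, Scheme.Hom.singleton_mem_fpqcPrecoverage (𝟙 X), ?_⟩
      rintro S' _ ⟨⟩
      refine ⟨𝟙 X, ?_⟩
      change 𝟙 X ≫ (𝟙 (Red.Ga S) * F⁻¹).left = 𝟙 X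
      rw [Category.id_comp]
      exact congrArg (fun m => m.left) (Ga.gaFn_injective (Subsingleton.elim _ _) :
        (𝟙 (Red.Ga S) * F⁻¹) = 𝟙 (Red.Ga S))
    have hdeg : ((Polynomial.X : Polynomial Γ(X, ⊤)) ^ p - Polynomial.X + Polynomial.C a).natDegree = p := by
      rw [Polynomial.natDegree_add_C, Polynomial.natDegree_sub_eq_left_of_natDegree_lt (by simp; omega),
        Polynomial.natDegree_X_pow]
    obtain ⟨Z, g, -, hg, w, hw⟩ := H80.Fpqc.exists_root_cover X _ (show Polynomial.Monic _ by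
      rw [Polynomial.Monic, Polynomial.leadingCoeff, hdeg]
      simp [Polynomial.coeff_X, Polynomial.coeff_C, show (1 : ℕ) ≠ p by omega, show p ≠ 0 by omega]) (hdeg.trans_ne (by omega))
    rw [Polynomial.eval₂_add, Polynomial.eval₂_sub, Polynomial.eval₂_X_pow, Polynomial.eval₂_X,
      Polynomial.eval₂_C] at hw
    refine ⟨_, hg, ?_⟩
    rintro S' _ ⟨⟩
    let T : Over S := Over.mk (g ≫ (Red.Ga S).hom)
    let h : T ⟶ Red.Ga S := Over.homMk g rfl
    have hh : Ga.gaPt (X := T) w ≫ (𝟙 (Red.Ga S) * F⁻¹) = h := Ga.gaFn_injective (by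
      rw [hv, Ga.gaFn_gaPt]
      refine Eq.trans ?_ (show g.appTop.hom a = Red.gaFn h by rw [← Category.comp_id h, Ga.gaFn_comp]; rfl)
      linear_combination -hw)
    exact ⟨(Ga.gaPt (X := T) w).left, congrArg (fun m => m.left) hh⟩

/-- Let p be a prime and S a scheme of characteristic p (p = 0 in the ring of global functions). Let F
be the Frobenius endomorphism of the additive group over S, the S-endomorphism which raises the
coordinate function of every point to the p-th power, and let P be the difference of the identity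
and F in the group of endomorphisms (on points x ↦ x − x^p). Let G' be the constant S-group (Z/p)_S:
an S-group together with an isomorphism of S-schemes e from G' to the disjoint union of copies of S
indexed by Z/p, under which the S-points of indices m and n multiply to the S-point of index m + n;
and let i : G' → G_a be the homomorphism of S-groups which sends the S-point of index 1 to the point
whose coordinate is the unit global function. Then the Artin-Schreier sequence 1 → (Z/p)_S → G_a →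
G_a → 1 is exact for the fpqc topology: i and P are homomorphisms with trivial composite, (x, g) ↦
(x, x + i(g)) identifies G_a ×_S G' with the fibre product of P with itself (so that i is a kernel
of P), and P acquires sections on the members of some fpqc covering family of its target. -/
theorem result (p : ℕ) [Fact p.Prime] {S : Scheme.{u}}
    (hp : (p : Γ(S, ⊤)) = 0) (F : Red.Ga S ⟶ Red.Ga S)
    (hF : ∀ (T : Over S) (x : T ⟶ Red.Ga S), Red.gaFn (x ≫ F) = Red.gaFn x ^ p)
    {G' : Over S} [GrpObj G'] (e : G' ≅ TwC.const S (Multiplicative (ZMod p)))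
    (he : TwC.IsConstGrp (Multiplicative (ZMod p)) G' e)
    (i : G' ⟶ Red.Ga S) [IsMonHom i]
    (hi : Red.gaFn (TwC.pt S (Multiplicative (ZMod p)) (Multiplicative.ofAdd 1) ≫ e.inv ≫ i) = 1) :
    NonAbH1.IsExactSeq Scheme.fpqcPrecoverage i (𝟙 (Red.Ga S) * F⁻¹) := by
  exact key p hp F hF e he i hi

end Groth.Agent.S6008
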