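import Groth.Statements.S6011
import Groth.Agent.Lib.TorsorSch.Classes

set_option autoImplicit false
universe u
open CategoryTheory AlgebraicGeometry
open SGA1

namespace Groth.Agent.S6011

open MonoidalCategory CartesianMonoidalCategory

/-- An S-scheme X with an action of the S-group G is trivial — equivariantly isomorphic over S to G
acting on itself by translation — if and only if it is formally principal homogeneous (a
pseudo-torsor) and admits a section over S. -/
theorem result {S : Scheme.{u}}
    (G X : Over S) [GrpObj G] (a : AlgGrp.Action G X) :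
    Nonempty (NonAbH1.EquivIso (NonAbH1.trivialAction G) a) ↔
      (NonAbH1.IsPseudoTorsorSch a ∧ NonAbH1.HasSectionOver X (𝟙 S)) := by
  constructor
  · rintro ⟨e⟩
    refine ⟨?_, ?_⟩
    · have : IsIso (lift (NonAbH1.trivialAction G).act (snd G G)) :=
        NonAbH1.isPseudoTorsorSch_trivialAction G
      have h : lift a.act (snd G X) = (G ◁ e.iso.inv) ≫
          lift (NonAbH1.trivialAction G).act (snd G G) ≫ (e.iso.hom ⊗ₘ e.iso.hom) := by
        rw [lift_map, e.comm, comp_lift, ← whiskerLeft_comp_assoc, Iso.inv_hom_id,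
          whiskerLeft_id, Category.id_comp]
        congr 1
        rw [whiskerLeft_snd_assoc, Iso.inv_hom_id, Category.comp_id]
      change IsIso (lift a.act (snd G X))
      rw [h]
      infer_instance
    · exact ⟨((MonObj.one : 𝟙_ (Over S) ⟶ G) ≫ e.iso.hom).left,
        Over.w ((MonObj.one : 𝟙_ (Over S) ⟶ G) ≫ e.iso.hom)⟩
  · rintro ⟨hp, σ, hσ⟩
    let o : 𝟙_ (Over S) ⟶ X := Over.homMk σ hσ
    have hf := Groth.Agent.Lib.TorsorSch.Classes.isEquivariant_orbit a o
    have := Groth.Agent.Lib.TorsorSch.Basic.isIso_of_isEquivariant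
      (NonAbH1.isTorsorFor_trivialAction G Scheme.fpqcPrecoverage) hp _ hf
    exact ⟨⟨asIso (lift (𝟙 G) (toUnit G ≫ o) ≫ a.act), hf⟩⟩

end Groth.Agent.S6011
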