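import Groth.Statements.S6024
import Groth.Agent.H30.LocZ.LES
import Groth.Agent.Lib.SiteCoh.Basic

set_option autoImplicit false
universe u
open CategoryTheory CategoryTheory.Limits TopologicalSpace
open LocCohZ

namespace Groth.Agent.S6024

/-- Consider a topological space X carrying a sheaf of abelian groups F, and assume that H^1_Z(X, F)
vanishes for each closed subset Z of X (writing Z = X − U with U open). Under this assumption, F is
flasque. -/
theorem result {X : TopCat.{u}} (F : CohTop.Ab X)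
    (h : ∀ U : Opens X, Subsingleton (LocCohZ.HZc F 1 U)) : TopCat.Sheaf.IsFlasque F := by
  refine { epi := fun {A B} i => (AddCommGrpCat.epi_iff_surjective _).2 fun s => ?_ }
  obtain ⟨y, hy⟩ : ∃ y, y = (Abelian.Ext.mk₀ ((Groth.Agent.Lib.SiteCoh.Basic.homEquiv B.unop F).symm s) :
      CohTop.HU F 0 B.unop) := ⟨_, rfl⟩
  obtain ⟨x, hx⟩ := Groth.Agent.H30.LocZ.LES.exists_res_of_delta_eq_zero (le_top : B.unop ≤ ⊤) y
    ((h B.unop).elim _ _)
  obtain ⟨t, rfl⟩ := (Abelian.Ext.mk₀_bijective _ _).2 x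
  change (Abelian.Ext.mk₀ _).comp (Abelian.Ext.mk₀ t) (zero_add 0) = y at hx
  rw [Abelian.Ext.mk₀_comp_mk₀, hy] at hx
  have hx' := (Abelian.Ext.mk₀_bijective _ _).1 hx
  refine ⟨F.obj.map (homOfLE (le_top : A.unop ≤ ⊤)).op
    (Groth.Agent.Lib.SiteCoh.Basic.homEquiv ⊤ F t), ?_⟩
  rw [← ConcreteCategory.comp_apply, ← Functor.map_comp,
    show (homOfLE (le_top : A.unop ≤ ⊤)).op ≫ i = (homOfLE (le_top : B.unop ≤ ⊤)).op from
      Subsingleton.elim _ _, ← Groth.Agent.Lib.SiteCoh.Basic.homEquiv'_naturality_left]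
  exact (congrArg _ hx').trans ((Groth.Agent.Lib.SiteCoh.Basic.homEquiv B.unop F).apply_symm_apply s)

end Groth.Agent.S6024
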