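import Groth.Statements.S6028
-- import your own Groth.Agent.* helpers here

set_option autoImplicit false
universe u
open CategoryTheory CategoryTheory.Limits TopologicalSpace
open LocCohZ

namespace Groth.Agent.S6028

/-- Let X be a topological space and W ⊆ V ⊆ T opens of X; put Z = T − W, Z' = T − V and Z'' = V − W, so
that Z' is closed in Z with complement Z''. Then 0 → ℤ_{Z'',X} → ℤ_{Z,X} → ℤ_{Z',X} → 0 is a short
exact sequence of abelian sheaves on X, where ℤ_{Z,X} = ℤ_T/ℤ_W and the maps are the induced ones. -/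
theorem result {X : TopCat.{u}} {W V T : Opens X} (hWV : W ≤ V) (hVT : V ≤ T) :
    ∃ w : LocCohZ.zqMap (hWV.trans hVT) hWV le_rfl hVT ≫ LocCohZ.zqMap hVT (hWV.trans hVT) hWV le_rfl = 0,
      (ShortComplex.mk _ _ w).ShortExact := by
  let A := CohCx.freeSheafMap (Opens.grothendieckTopology X) (homOfLE hWV)
  let B := CohCx.freeSheafMap (Opens.grothendieckTopology X) (homOfLE hVT)
  let p₁ : LocCohZ.zq hWV ⟶ LocCohZ.zq (hWV.trans hVT) :=
    LocCohZ.zqMap (hWV.trans hVT) hWV le_rfl hVT
  let p₂ : LocCohZ.zq (hWV.trans hVT) ⟶ LocCohZ.zq hVT :=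
    LocCohZ.zqMap hVT (hWV.trans hVT) hWV le_rfl
  have hBA : A ≫ B = CohCx.freeSheafMap (Opens.grothendieckTopology X) (homOfLE (hWV.trans hVT)) :=
    (CohFree.freeSheafMap_comp _ _ _).symm
  have hid : ∀ U : Opens X, CohCx.freeSheafMap (Opens.grothendieckTopology X)
      (homOfLE (le_refl U)) = 𝟙 _ := fun U => CohFree.freeSheafMap_id _ U
  have h₁ : cokernel.π A ≫ p₁ = B ≫ cokernel.π _ := cokernel.π_desc _ _ _
  have h₂ : cokernel.π _ ≫ p₂ = cokernel.π B :=
    (cokernel.π_desc _ _ _).trans ((congrArg (· ≫ cokernel.π B) (hid T)).trans (Category.id_comp _))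
  have w : p₁ ≫ p₂ = 0 := by
    rw [← cancel_epi (cokernel.π A), ← Category.assoc, h₁, Category.assoc, h₂, cokernel.condition,
      comp_zero]
  have : Mono B := (LocCohZ.zqSeq_shortExact hVT).mono_f
  refine ⟨w, ?_⟩
  refine { exact := ?_, mono_f := ?_, epi_g := ?_ }
  · refine ShortComplex.exact_of_g_is_cokernel _ (CokernelCofork.IsColimit.ofπ p₂ w
      (fun k hk => cokernel.desc B (cokernel.π _ ≫ k) (by
        rw [← Category.assoc, ← h₁, Category.assoc, hk, comp_zero]))
      (fun k hk => ?_) (fun k hk m hm => ?_))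
    · apply (cancel_epi (cokernel.π _)).1
      rw [← Category.assoc, h₂, cokernel.π_desc]
    · apply (cancel_epi (cokernel.π B)).1
      rw [cokernel.π_desc, ← hm, ← Category.assoc, h₂]
  · refine Preadditive.mono_of_cancel_zero _ fun {P} x hx => ?_
    obtain ⟨P', π, hπ, y, hy⟩ := surjective_up_to_refinements_of_epi (cokernel.π A) x
    have h3 : (y ≫ B) ≫ cokernel.π
        (CohCx.freeSheafMap (Opens.grothendieckTopology X) (homOfLE (hWV.trans hVT))) = 0 := by
      rw [Category.assoc, ← h₁, ← Category.assoc, ← hy, Category.assoc]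
      exact (congrArg (π ≫ ·) hx).trans comp_zero
    obtain ⟨P'', π', hπ', a, ha⟩ := ((LocCohZ.zqSeq_shortExact (hWV.trans hVT)).exact).exact_up_to_refinements
      (y ≫ B) h3
    change π' ≫ y ≫ B = a ≫ CohCx.freeSheafMap _ (homOfLE (hWV.trans hVT)) at ha
    have ha' : (π' ≫ y) ≫ B = ((a : P'' ⟶ CohCx.freeSheaf _ W) ≫ A) ≫ B :=
      (Category.assoc _ _ _).trans (ha.trans ((congrArg (fun t => (a : P'' ⟶ CohCx.freeSheaf _ W) ≫ t)
        hBA.symm).trans (Category.assoc _ _ _).symm))
    have ha'' := (cancel_mono B).1 ha'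
    rw [← cancel_epi π, comp_zero, hy, ← cancel_epi π', comp_zero, ← Category.assoc, ha'']
    exact (Category.assoc _ _ _).trans ((congrArg _ (cokernel.condition A)).trans comp_zero)
  · have : Epi (cokernel.π (CohCx.freeSheafMap (Opens.grothendieckTopology X)
        (homOfLE (hWV.trans hVT))) ≫ p₂) := h₂ ▸ inferInstance
    exact epi_of_epi (cokernel.π _) p₂

end Groth.Agent.S6028
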