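import Groth.Statements.S6029
import Groth.Agent.Lib.LocCohSS.Basic
-- import your own Groth.Agent.* helpers here

set_option autoImplicit false
universe u
open CategoryTheory CategoryTheory.Limits TopologicalSpace
open LocCohZ

namespace Groth.Agent.S6029
open Groth.Agent.Lib Groth.Agent.Lib.SpecSeq

/-- For a closed subset Z = X − U of a topological space X and an abelian sheaf F on X: there is an E₂
spectral sequence of abelian groups with E₂^{p,q} ≅ H^p(X, ℋ^q_Z(F)) for p, q ≥ 0 (and 0 otherwise),
bounded, abutting with finite filtrations to H^n_Z(X, F) (n ≥ 0; 0 for n < 0). (Existence only: the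
E₂ identifications and the abutment isomorphisms are some isomorphisms, not the canonical maps of a
construction, so edge maps and low-degree exact sequences are not part of this statement.) -/
theorem result {X : TopCat.{u}} (F : CohTop.Ab X) (U : Opens X) :
    ∃ (E : E₂CohomologicalSpectralSequence AddCommGrpCat.{u})
      (a : SpSeq.Abutment E (fun n : ℤ =>
        if 0 ≤ n then AddCommGrpCat.of (LocCohZ.HZc F n.toNat U) else AddCommGrpCat.of PUnit.{u + 1})),
      (∀ n : ℤ, a.IsFinite n) ∧ SpSeq.IsBounded E ∧
      ∀ p q : ℤ, Nonempty ((E.page 2 le_rfl).X (p, q) ≅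
        (if 0 ≤ p ∧ 0 ≤ q then AddCommGrpCat.of (CohTop.HU ((LocCohZ.HZsh U q.toNat).obj F) p.toNat ⊤)
          else AddCommGrpCat.of PUnit.{u + 1})) := by
  refine Composite.exists_spectralSequence (LocCohZ.sectSuppF U)
    (HomExt.homFunctor (CohCx.freeSheaf (Opens.grothendieckTopology X) (⊤ : Opens X)))
    (fun I _ p => ?_) F _
    (fun n => ?_) (fun n hn => ?_) _ (fun p q => ?_) (fun p q h => ?_)
  · have := Groth.Agent.Lib.ZarCoh.Basic.isFlasque_of_injective I
    exact IsZero.of_iso (@AddCommGrpCat.isZero_of_subsingleton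
      (AddCommGrpCat.of (Abelian.Ext _ ((LocCohZ.sectSuppF U).obj I) (p + 1)))
      (LocCohSS.Basic.subsingleton_hu_sectSupp U I p))
      (HomExt.rightDerivedIso _ _ _)
  · simp only [Int.natCast_nonneg, ↓reduceIte, Int.toNat_natCast]
    exact ⟨Composite.rightDerivedCongr (LocCohSS.Basic.suppHomIso U) n F ≪≫
      HomExt.rightDerivedIso _ _ _⟩
  · rw [if_neg (by lia)]
    exact AddCommGrpCat.isZero_of_subsingleton _
  · simp only [Int.natCast_nonneg, and_self, ↓reduceIte, Int.toNat_natCast]
    exact ⟨HomExt.rightDerivedIso _ _ _⟩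
  · rw [if_neg h]
    exact AddCommGrpCat.isZero_of_subsingleton _

end Groth.Agent.S6029
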