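import Groth.Statements.S6030
import Groth.Agent.Lib.DerivedOX.GammaZTriangle
import Groth.Agent.Lib.DerivedOX.OpenImm
import Groth.Agent.Lib.DerivedOX.TildeEquiv
import Groth.Agent.Lib.CohDelta.QCohR
import Groth.Agent.Lib.QCoh.Pushforward
import Groth.Agent.Lib.QCoh.Closure
import Mathlib.CategoryTheory.Abelian.RightDerived
import Mathlib.Algebra.Homology.HomologicalComplexAbelian

set_option autoImplicit false
universe u
open CategoryTheory CategoryTheory.Limits TopologicalSpace AlgebraicGeometry
open LocCohZ

namespace Groth.Agent.S6030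

section Helpers

variable {U Y : Scheme.{u}} (j : U ⟶ Y) [IsOpenImmersion j]

/-- Restriction of an injective resolution. -/
theorem exists_restricted (M : Y.Modules) (I : InjectiveResolution M) :
    ∃ J : InjectiveResolution ((Scheme.Modules.restrictFunctor j).obj M),
      Nonempty (J.cocomplex ≅
        ((Scheme.Modules.restrictFunctor j).mapHomologicalComplex (ComplexShape.up ℕ)).obj I.cocomplex) := by
  haveI : PreservesFiniteLimits (Scheme.Modules.restrictFunctor j) :=
    CxOX.preservesFiniteLimits_restrictFunctor j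
  haveI := Groth.Agent.Lib.DerivedOX.OpenImm.preservesFiniteLimits_extZero' j
  let R := Scheme.Modules.restrictFunctor j
  haveI : ∀ n, Injective ((R.mapHomologicalComplex (ComplexShape.up ℕ)).obj I.cocomplex |>.X n) :=
    fun n => by
      haveI := I.injective n
      exact Injective.injective_of_adjoint (CxOX.extZeroAdj j) _
  let ι : (CochainComplex.single₀ _).obj (R.obj M) ⟶
      (R.mapHomologicalComplex (ComplexShape.up ℕ)).obj I.cocomplex :=
    (HomologicalComplex.singleMapHomologicalComplex R (ComplexShape.up ℕ) 0).inv.app M ≫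
      (R.mapHomologicalComplex (ComplexShape.up ℕ)).map I.ι
  haveI : QuasiIso I.ι := I.quasiIso
  haveI : R.PreservesHomology := inferInstance
  haveI : QuasiIso ι := inferInstance
  exact ⟨{ cocomplex := _, injective := inferInstance, ι := ι, quasiIso := inferInstance }, ⟨Iso.refl _⟩⟩

theorem isQCoh_R0 {X S : Scheme.{u}} (f : X ⟶ S) [QuasiCompact f] [QuasiSeparated f]
    [HasInjectiveResolutions X.Modules] (M : X.Modules) (hM : M.IsQuasicoherent) :
    (((Scheme.Modules.pushforward f).rightDerived 0).obj M).IsQuasicoherent := by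
  haveI : PreservesLimitsOfSize.{0, 0} (Scheme.Modules.pushforward f) :=
    (Scheme.Modules.pullbackPushforwardAdjunction f).rightAdjoint_preservesLimits
  haveI : PreservesFiniteLimits (Scheme.Modules.pushforward f) :=
    PreservesLimitsOfSize.preservesFiniteLimits _
  haveI := hM
  exact ObjectProperty.prop_of_iso (SheafOfModules.isQuasicoherent (R := S.ringCatSheaf))
    ((Scheme.Modules.pushforward f).rightDerivedZeroIsoSelf.app M).symm
    (Groth.Agent.Lib.QCoh.Pushforward.isQCoh_pushforward f (M := M))

theorem isQCoh_R {X S : Scheme.{u}} (f : X ⟶ S) [QuasiCompact f] [QuasiSeparated f]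
    [HasInjectiveResolutions X.Modules] (M : X.Modules) (hM : M.IsQuasicoherent) :
    ∀ q, (((Scheme.Modules.pushforward f).rightDerived q).obj M).IsQuasicoherent
  | 0 => isQCoh_R0 f M hM
  | q + 1 => by
    let I := InjectiveResolution.of M
    obtain ⟨e⟩ := Groth.Agent.Lib.CohDelta.Syzygy.nonempty_rightDerived_iso I f q
    exact ObjectProperty.prop_of_iso (SheafOfModules.isQuasicoherent (R := S.ringCatSheaf)) e.symm
      (Groth.Agent.Lib.CohDelta.QCohR.isQCoh_R f I q hM)

end Helpers

/-- Let Y be a scheme, j : U → Y a quasi-compact open immersion with closed complement Z, and M a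
quasi-coherent O_Y-module. Then the local cohomology sheaves ℋ^q_Z(M) (right derived functors of Γ_Z
on O_Y-modules) are quasi-coherent for every q. -/
theorem result {U Y : Scheme.{u}} (j : U ⟶ Y) [IsOpenImmersion j] [QuasiCompact j]
    [HasInjectiveResolutions Y.Modules] (M : Y.Modules) (hM : Coh.IsQCoh M) (q : ℕ) :
    Coh.IsQCoh ((LocCohZ.HZshM j q).obj M) := by
  haveI : PreservesFiniteLimits (Scheme.Modules.restrictFunctor j) :=
    CxOX.preservesFiniteLimits_restrictFunctor j
  haveI : M.IsQuasicoherent := hM
  let qc : ObjectProperty Y.Modules := SheafOfModules.isQuasicoherent (R := Y.ringCatSheaf)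
  let R := Scheme.Modules.restrictFunctor j
  let P := Scheme.Modules.pushforward j
  let I := InjectiveResolution.of M
  obtain ⟨J, ⟨eJ⟩⟩ := exists_restricted j M I
  have hMU : (R.obj M).IsQuasicoherent := inferInstance
  let C₂ := I.cocomplex
  let C₁ := ((DCoh.gammaZ j).mapHomologicalComplex (ComplexShape.up ℕ)).obj C₂
  let C₃ := ((R ⋙ P).mapHomologicalComplex (ComplexShape.up ℕ)).obj C₂
  let fS : C₁ ⟶ C₂ :=
    { f := fun n => (CxOX.gammaZι j).app (C₂.X n)
      comm' := fun a b _ => ((CxOX.gammaZι j).naturality (C₂.d a b)).symm }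
  let gS : C₂ ⟶ C₃ :=
    { f := fun n => (Scheme.Modules.restrictAdjunction j).unit.app (C₂.X n)
      comm' := fun a b _ => ((Scheme.Modules.restrictAdjunction j).unit.naturality (C₂.d a b)).symm }
  let S := ShortComplex.mk fS gS (HomologicalComplex.hom_ext _ _ fun n => kernel.condition _)
  have hS : S.ShortExact := by
    refine HomologicalComplex.shortExact_of_degreewise_shortExact _ fun n => ?_
    haveI : Injective (C₂.X n) := I.injective n
    haveI := Groth.Agent.Lib.DerivedOX.GammaZTriangle.epi_unit_of_injective j (C₂.X n)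
    let u := (Scheme.Modules.restrictAdjunction j).unit.app (C₂.X n)
    exact
      { exact := ShortComplex.exact_of_f_is_kernel _ (kernelIsKernel u)
        mono_f := inferInstanceAs (Mono (kernel.ι u))
        epi_g := inferInstanceAs (Epi u) }
  have h2 : ∀ i, (C₂.homology i).IsQuasicoherent := fun i => by
    haveI : QuasiIso I.ι := I.quasiIso
    refine ObjectProperty.prop_of_iso qc (isoOfQuasiIsoAt I.ι i) ?_
    rcases i with _ | i
    · exact ObjectProperty.prop_of_iso qc
        (HomologicalComplex.singleObjHomologySelfIso (ComplexShape.up ℕ) 0 M).symm ‹_›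
    · haveI hz : IsZero (((CochainComplex.single₀ Y.Modules).obj M).homology (i + 1)) :=
        ShortComplex.isZero_homology_of_isZero_X₂ _
          (HomologicalComplex.isZero_single_obj_X (ComplexShape.up ℕ) 0 M (i + 1) (Nat.succ_ne_zero i))
      exact ObjectProperty.prop_of_iso qc ((isZero_cokernel_of_epi (𝟙 M)).iso hz)
        (Groth.Agent.Lib.QCoh.Closure.isQCoh_cokernel (𝟙 M))
  have h3 : ∀ i, (C₃.homology i).IsQuasicoherent := fun i => by
    haveI := isQCoh_R j (R.obj M) hMU i
    exact ObjectProperty.prop_of_iso qc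
      (J.isoRightDerivedObj P i ≪≫ (HomologicalComplex.homologyFunctor _ _ i).mapIso
        ((P.mapHomologicalComplex (ComplexShape.up ℕ)).mapIso eJ)) this
  show (((DCoh.gammaZ j).rightDerived q).obj M).IsQuasicoherent
  refine ObjectProperty.prop_of_iso qc (I.isoRightDerivedObj (DCoh.gammaZ j) q).symm ?_
  show (S.X₁.homology q).IsQuasicoherent
  haveI := h2 q
  haveI := h3 q
  rcases q with _ | q
  · haveI : Mono (HomologicalComplex.homologyMap S.f 0) := by
      haveI : Mono (S.f.f 0) := inferInstanceAs (Mono (kernel.ι ((Scheme.Modules.restrictAdjunction j).unit.app (C₂.X 0))))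
      exact HomologicalComplex.mono_homologyMap_of_mono_of_not_rel S.f 0 (fun k hk => by simp at hk)
    haveI : (S.X₂.homology 0).IsQuasicoherent := h2 0
    haveI : (S.X₃.homology 0).IsQuasicoherent := h3 0
    exact Groth.Agent.Lib.QCoh.Closure.isQCoh_of_exact_mono
      (S := ShortComplex.mk (HomologicalComplex.homologyMap S.f 0) (HomologicalComplex.homologyMap S.g 0)
        (by rw [← HomologicalComplex.homologyMap_comp, S.zero, HomologicalComplex.homologyMap_zero]))
      (hS.homology_exact₂ 0)
  · exact Groth.Agent.Lib.DerivedOX.TildeEquiv.isQCoh_mid (HomologicalComplex.homologyMap S.g q)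
      (hS.δ q (q + 1) rfl) (HomologicalComplex.homologyMap S.f (q + 1))
      (HomologicalComplex.homologyMap S.g (q + 1)) _ _ _
      (hS.homology_exact₃ q (q + 1) rfl) (hS.homology_exact₁ q (q + 1) rfl)
      (hS.homology_exact₂ (q + 1)) (h2 q) (h3 q) (h2 (q + 1)) (h3 (q + 1))

end Groth.Agent.S6030
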