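import Groth.Statements.S6031
import Groth.Agent.H30.LocZ.LES
import Groth.Agent.Lib.ZarCoh.Affine

set_option autoImplicit false
universe u
open CategoryTheory CategoryTheory.Limits TopologicalSpace AlgebraicGeometry
open LocCohZ

namespace Groth.Agent.S6031

/-- Let Y be an affine scheme, U an open subset with closed complement Z and M a quasi-coherent
O_Y-module with underlying abelian sheaf F. Then 0 → H^0_Z(Y, F) → H^0(Y, F) → H^0(U, F) → H^1_Z(Y,
F) → 0 is exact, i.e. the connecting map H^0(U, F) → H^1_Z(Y, F) is surjective, and the connecting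
maps H^i(U, F) → H^{i+1}_Z(Y, F) are bijective for all i ≥ 1. (The published statement assumes U
quasi-compact; the printed proof of these two assertions only uses the vanishing of the higher
cohomology of F on the affine scheme Y, so U is an arbitrary open here.) -/
theorem result (Y : Scheme.{u}) [IsAffine Y] (M : Y.Modules)
    (hM : Coh.IsQCoh M) (U : Y.Opens) :
    Function.Surjective (LocCohZ.delta (X := Y.carrier) (Coh.toAb M) 0 (le_top : U ≤ ⊤)) ∧
      ∀ i : ℕ, 1 ≤ i →
        Function.Bijective (LocCohZ.delta (X := Y.carrier) (Coh.toAb M) i (le_top : U ≤ ⊤)) := by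
  haveI : M.IsQuasicoherent := hM
  have hv : ∀ n, Subsingleton (CohTop.HU (X := Y.carrier) (Coh.toAb M) (n + 1) (⊤ : Y.Opens)) :=
    fun n => Groth.Agent.Lib.ZarCoh.Affine.HU_subsingleton M (isAffineOpen_top Y) n
  have hs : ∀ i, Function.Surjective
      (LocCohZ.delta (X := Y.carrier) (Coh.toAb M) i (le_top : U ≤ ⊤)) := fun i x =>
    Groth.Agent.H30.LocZ.LES.exists_delta_of_toHU_eq_zero (le_top : U ≤ ⊤) x ((hv i).elim _ _)
  refine ⟨hs 0, fun i hi => ⟨(injective_iff_map_eq_zero _).2 fun y hy => ?_, hs i⟩⟩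
  obtain ⟨z, rfl⟩ := Groth.Agent.H30.LocZ.LES.exists_res_of_delta_eq_zero (le_top : U ≤ ⊤) y hy
  obtain ⟨k, rfl⟩ : ∃ k, i = k + 1 := ⟨i - 1, by omega⟩
  exact (congrArg _ ((hv k).elim z 0)).trans (map_zero _)

end Groth.Agent.S6031
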