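import Groth.Statements.S6033
import Groth.Agent.Lib.Koszul.Stable.Supp
import Groth.Agent.Lib.ZarCoh.Basic
import Mathlib.Topology.Sheaves.Flasque

set_option autoImplicit false
universe u
open CategoryTheory CategoryTheory.Limits TopologicalSpace AlgebraicGeometry
open LocCohZ

namespace Groth.Agent.S6033

open Groth.Agent.Lib.Koszul.Stable

section
variable (A : Type u) [CommRing A] (M : Type u) [AddCommGroup M] [Module A M]

theorem range_eq_top_iff (fs : List A) :
    (SchLow.resU (Supp.sh A M) (SchLow.union (SchLow.mem' (fs.map (Supp.φ A))))).range = ⊤ ↔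
      Subsingleton (CohIII.koszulHLim fs (ModuleCat.of A M) 1) := by
  obtain ⟨t⟩ := Supp.nonempty_top_equiv A fs M 1
  have : (Supp.sh A M).IsQuasicoherent := by infer_instance
  obtain ⟨-, ⟨a⟩⟩ := SchLow.nonempty_ker_coker (Supp.sh A M) (fs.map (Supp.φ A)) _ rfl
  rw [← QuotientAddGroup.subsingleton_iff]
  exact (a.trans t.symm).toEquiv.subsingleton_congr

theorem exists_list [NoetherianSpace (PrimeSpectrum A)] (V : (Spec (CommRingCat.of A)).Opens) :
    ∃ fs : List A, V = SchLow.union (SchLow.mem' (fs.map (Supp.φ A))) := by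
  obtain ⟨t, ht⟩ := PrimeSpectrum.isCompact_isOpen_iff.1
    ⟨NoetherianSpace.isCompact (α := PrimeSpectrum A) _, V.isOpen⟩
  refine ⟨t.toList, ?_⟩
  rw [← Supp.punctured_eq A t.toList]
  refine Opens.ext (ht.symm.trans ?_)
  show (PrimeSpectrum.zeroLocus (t : Set A))ᶜ = _
  rw [← PrimeSpectrum.zeroLocus_span, show (t : Set A) = {a | a ∈ t.toList} by ext; simp]
  try rfl

theorem isFlasque_of_H1 [NoetherianSpace (PrimeSpectrum A)]
    (h : ∀ fs : List A, Subsingleton (CohIII.koszulHLim fs (ModuleCat.of A M) 1)) :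
    TopCat.Sheaf.IsFlasque (Coh.toAb (Supp.sh A M)) := by
  refine ⟨@fun U V i => ?_⟩
  obtain ⟨fs, hfs⟩ := exists_list A V.unop
  have htop := (range_eq_top_iff A M fs).2 (h fs)
  rw [← hfs] at htop
  rw [AddCommGrpCat.epi_iff_surjective]
  intro x
  obtain ⟨m, hm⟩ := AddMonoidHom.range_eq_top.1 htop x
  refine ⟨((Coh.toAb (Supp.sh A M)).obj.map (homOfLE (le_top : U.unop ≤ ⊤)).op).hom m, ?_⟩
  rw [← ConcreteCategory.comp_apply, ← Functor.map_comp]
  exact hm

theorem H1_of_isFlasque (h : TopCat.Sheaf.IsFlasque (Coh.toAb (Supp.sh A M))) (fs : List A) :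
    Subsingleton (CohIII.koszulHLim fs (ModuleCat.of A M) 1) := by
  rw [← range_eq_top_iff A M fs, AddMonoidHom.range_eq_top]
  exact (AddCommGrpCat.epi_iff_surjective _).1 (h.epi _)

theorem higher_of_isFlasque (h : TopCat.Sheaf.IsFlasque (Coh.toAb (Supp.sh A M))) (fs : List A)
    (i : ℕ) (hi : 0 < i) :
    Subsingleton (CohIII.koszulHLim fs (ModuleCat.of A M) i) := by
  obtain _ | _ | n := i
  · omega
  · exact H1_of_isFlasque A M h fs
  obtain ⟨t⟩ := Supp.nonempty_top_equiv A fs M (n + 2)
  have : (Supp.sh A M).IsQuasicoherent := by infer_instance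
  obtain ⟨a⟩ := SchHH.nonempty_HHon (Supp.sh A M) (fs.map (Supp.φ A))
    (fun j => (isAffineOpen_top (Spec (CommRingCat.of A))).basicOpen _)
    (SchLow.union (SchLow.mem' (fs.map (Supp.φ A)))) (SchLow.union_eq _) (n + 1) (by omega)
  have := h
  have : Subsingleton (CohTop.HU (Coh.toAb (Supp.sh A M)) (n + 1)
      (SchLow.union (SchLow.mem' (fs.map (Supp.φ A))))) :=
    Groth.Agent.Lib.ZarCoh.Basic.HU_flasque _ _ n
  exact (t.trans (a.symm.trans (Groth.Agent.Lib.CohDelta.Basic.hU (Supp.sh A M)
    (SchLow.union (SchLow.mem' (fs.map (Supp.φ A)))) (n + 1)))).toEquiv.subsingleton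

end

/-- Let A be a commutative ring such that the underlying space of X = Spec A is Noetherian. Then M~ is
flasque for every injective A-module M if and only if colim_n H^1(f^n, M) = 0 (direct limit of
Koszul cohomology of the powers) for every finite family f of elements of A and every injective
A-module M; and in that case colim_n H^i(f^n, M) = 0 for all i > 0 as well. -/
theorem result (A : Type u) [CommRing A]
    [NoetherianSpace (PrimeSpectrum A)] :
    ((∀ (M : Type u) [AddCommGroup M] [Module A M], Module.Injective A M →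
        TopCat.Sheaf.IsFlasque (Coh.toAb (AlgebraicGeometry.tilde (R := CommRingCat.of A) (ModuleCat.of A M)))) ↔
      ∀ (fs : List A) (M : Type u) [AddCommGroup M] [Module A M], Module.Injective A M →
        Subsingleton (CohIII.koszulHLim fs (ModuleCat.of A M) 1)) ∧
    ((∀ (M : Type u) [AddCommGroup M] [Module A M], Module.Injective A M →
        TopCat.Sheaf.IsFlasque (Coh.toAb (AlgebraicGeometry.tilde (R := CommRingCat.of A) (ModuleCat.of A M)))) →
      ∀ (fs : List A) (M : Type u) [AddCommGroup M] [Module A M], Module.Injective A M →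
        ∀ i : ℕ, 0 < i → Subsingleton (CohIII.koszulHLim fs (ModuleCat.of A M) i)) := by
  exact ⟨⟨fun h fs M _ _ hM => H1_of_isFlasque A M (h M hM) fs,
    fun h M _ _ hM => isFlasque_of_H1 A M fun fs => h fs M hM⟩,
    fun h fs M _ _ hM i hi => higher_of_isFlasque A M (h M hM) fs i hi⟩

end Groth.Agent.S6033
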