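import Groth.Statements.S6037
import Groth.Agent.Lib.LocCohSS.Basic
-- import your own Groth.Agent.* helpers here

set_option autoImplicit false
universe u
open CategoryTheory CategoryTheory.Limits TopologicalSpace
open LocCohZ

namespace Groth.Agent.S6037
open Groth.Agent.Lib Groth.Agent.Lib.SpecSeq

/-- Let f : X → Y be a continuous map of topological spaces, Y' a closed subset of Y with open
complement V, X' = f⁻¹(Y') and F an abelian sheaf on X. There is an E₂ spectral sequence of abelian
groups with E₂^{p,q} ≅ H^p_{Y'}(Y, R^q f_* F) for p, q ≥ 0 (0 otherwise), bounded, abutting with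
finite filtrations to H^n_{X'}(X, F). (The published statement is for a morphism of ringed spaces
and records module structures over the global sections of O_Y; here only abelian groups. Existence
only: the E₂ identifications and abutment isomorphisms are some isomorphisms, not the canonical
ones.) -/
theorem result {X Y : TopCat.{u}} (f : X ⟶ Y)
    (V : Opens Y) (F : CohTop.Ab X) :
    ∃ (E : E₂CohomologicalSpectralSequence AddCommGrpCat.{u})
      (a : SpSeq.Abutment E (fun n : ℤ =>
        if 0 ≤ n then AddCommGrpCat.of (LocCohZ.HZc F n.toNat ((Opens.map f).obj V))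
          else AddCommGrpCat.of PUnit.{u + 1})),
      (∀ n : ℤ, a.IsFinite n) ∧ SpSeq.IsBounded E ∧
      ∀ p q : ℤ, Nonempty ((E.page 2 le_rfl).X (p, q) ≅
        (if 0 ≤ p ∧ 0 ≤ q then AddCommGrpCat.of (LocCohZ.HZc ((CohTop.Rpush f q.toNat).obj F) p.toNat V)
          else AddCommGrpCat.of PUnit.{u + 1})) := by
  refine Composite.exists_spectralSequence (CohTop.push f)
    (HomExt.homFunctor (LocCohZ.zq (le_top : V ≤ ⊤)))
    (fun I _ p => ?_) F _
    (fun n => ?_) (fun n hn => ?_) _ (fun p q => ?_) (fun p q h => ?_)
  · have := Groth.Agent.Lib.ZarCoh.Basic.isFlasque_of_injective I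
    exact IsZero.of_iso (@AddCommGrpCat.isZero_of_subsingleton
      (AddCommGrpCat.of (LocCohZ.HZc ((CohTop.push f).obj I) (p + 1) V))
      (LocCohSS.Basic.subsingleton_HZ_flasque _ le_top p))
      (HomExt.rightDerivedIso _ _ _)
  · simp only [Int.natCast_nonneg, ↓reduceIte, Int.toNat_natCast]
    exact ⟨Composite.rightDerivedCongr (LocCohSS.Basic.pushZqIso f V) n F ≪≫
      HomExt.rightDerivedIso _ _ _⟩
  · rw [if_neg (by lia)]
    exact AddCommGrpCat.isZero_of_subsingleton _
  · simp only [Int.natCast_nonneg, and_self, ↓reduceIte, Int.toNat_natCast]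
    exact ⟨HomExt.rightDerivedIso _ _ _⟩
  · rw [if_neg h]
    exact AddCommGrpCat.isZero_of_subsingleton _

end Groth.Agent.S6037
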