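import Groth.Statements.S6041
import Groth.Agent.Lib.AlgSpace.Quot
import Groth.Agent.Lib.GrpdQuot.Quotient

set_option autoImplicit false
open CategoryTheory CategoryTheory.Limits AlgebraicGeometry MonoidalCategory
universe u
open GrpQ

namespace Groth.Agent.S6041

open CartesianMonoidalCategory in
/-- For schemes and the fppf topology, easy direction: let `s, t : R ⇉ U` be a pair of morphisms of
schemes over `S` (in the source an equivalence relation), `T` a scheme over `S` and `i : Z ⟶ U ×_S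
T` such that `Z ⟶ T` is flat, surjective and locally of finite presentation and any two points of
`Z` over the same point of `T` have `R`-related images in `U`. Then the composite `h_Z ⟶ h_U ⟶ U/R`
descends to exactly one section of the fppf quotient sheaf `U/R` over `T`. -/
theorem result {S : Scheme.{u}} {R U : Over S} (s t : R ⟶ U)
    (T Z : Over S) (i : Z ⟶ U ⊗ T)
    [Flat (i ≫ snd U T).left] [Surjective (i ≫ snd U T).left] [LocallyOfFinitePresentation (i ≫ snd U T).left]
    (hZZ : ∀ (T' : Over S) (z₁ z₂ : T' ⟶ Z), z₁ ≫ i ≫ snd U T = z₂ ≫ i ≫ snd U T →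
      ∃ r : T' ⟶ R, r ≫ s = z₁ ≫ i ≫ fst U T ∧ r ≫ t = z₂ ≫ i ≫ fst U T) :
    ∃! σ : QuotSh.rep Scheme.fppfPrecoverage T ⟶ QuotSh.quot Scheme.fppfPrecoverage s t,
      QuotSh.repMap Scheme.fppfPrecoverage (i ≫ fst U T) ≫ QuotSh.quotπ Scheme.fppfPrecoverage s t =
        QuotSh.repMap Scheme.fppfPrecoverage (i ≫ snd U T) ≫ σ := by
  let p : Z ⟶ T := i ≫ snd U T
  let a : Z ⟶ U := i ≫ fst U T
  haveI : Flat p.left := ‹_›
  haveI : Surjective p.left := ‹_›
  haveI : LocallyOfFinitePresentation p.left := ‹_›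
  have hp : Lib.AlgSpace.fppfCover p.left := Lib.AlgSpace.fppfCover_mk p.left
  haveI := Lib.AlgSpace.isLocallySurjective_yon_map p hp
  let Q := QuotSh.quot Scheme.fppfPrecoverage s t
  let π := Lib.AlgSpace.quotMap s t
  have hZ : (AlgSp.yon S).map (Limits.pullback.fst p p ≫ a) ≫ π =
      (AlgSp.yon S).map (Limits.pullback.snd p p ≫ a) ≫ π := by
    obtain ⟨r, h1, h2⟩ := hZZ _ (Limits.pullback.fst p p) (Limits.pullback.snd p p) pullback.condition
    rw [show Limits.pullback.fst p p ≫ a = r ≫ s from h1.symm,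
      show Limits.pullback.snd p p ≫ a = r ≫ t from h2.symm, Functor.map_comp, Functor.map_comp,
      Category.assoc, Category.assoc, Lib.AlgSpace.quotMap_condition]
  obtain ⟨l, hl⟩ := Lib.AlgSpace.exists_desc ((AlgSp.yon S).map p)
    ((IsPullback.of_hasPullback p p).map (AlgSp.yon S)) ((AlgSp.yon S).map a ≫ π) (by
      rw [← Functor.map_comp_assoc, ← Functor.map_comp_assoc]
      exact hZ)
  have hπ : (QuotSh.repIsoUliftYoneda Scheme.fppfPrecoverage U).hom ≫ π =
      QuotSh.quotπ Scheme.fppfPrecoverage s t := by simp [π, Lib.AlgSpace.quotMap]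
  have key : ∀ m : QuotSh.rep Scheme.fppfPrecoverage T ⟶ Q,
      (QuotSh.repMap Scheme.fppfPrecoverage a ≫ QuotSh.quotπ Scheme.fppfPrecoverage s t =
        QuotSh.repMap Scheme.fppfPrecoverage p ≫ m) ↔
      (AlgSp.yon S).map a ≫ π =
        (AlgSp.yon S).map p ≫ (QuotSh.repIsoUliftYoneda Scheme.fppfPrecoverage T).inv ≫ m := fun m => by
    rw [← cancel_epi (QuotSh.repIsoUliftYoneda Scheme.fppfPrecoverage Z).hom
      (g := (AlgSp.yon S).map a ≫ π), ← Lib.AlgSpace.repMap_repIso_hom_assoc, hπ,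
      ← Lib.AlgSpace.repMap_repIso_hom_assoc, Iso.hom_inv_id_assoc]
  refine ⟨(QuotSh.repIsoUliftYoneda Scheme.fppfPrecoverage T).hom ≫ l, ?_, fun m hm => ?_⟩
  · refine (key _).2 ?_
    rw [Iso.inv_hom_id_assoc, hl]
  · haveI := Lib.AlgSpace.epi_yon_map p hp
    have h' := (key m).1 hm
    rw [← hl, cancel_epi] at h'
    rw [h', Iso.hom_inv_id_assoc]

end Groth.Agent.S6041
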