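import Groth.Statements.S6048
import Groth.Agent.Lib.ShfQuot.Basic

set_option autoImplicit false
open CategoryTheory CategoryTheory.Limits MonoidalCategory
universe w v₁ u₁
open ShfCat

namespace Groth.Agent.S6048

open CartesianMonoidalCategory SemiCartesianMonoidalCategory in
/-- For sheaves of sets on a site with sheafification: let `p₁, p₂ : R ⇉ X` be an equivalence relation
of sheaves with universally effective quotient `π : X ⟶ X/R` and `Y` a sheaf. (a) A subsheaf `Z ⊆ X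
× Y` stable under `R × Y`, covering `Y`, and any two of whose points over the same point of `Y` are
`R`-related, is the pullback of `π` along exactly one `f : Y ⟶ X/R`; (b) every `f : Y ⟶ X/R` arises
in this way. -/
theorem result {C : Type u₁} [Category.{v₁} C]
    (J : GrothendieckTopology C) [HasSheafify J (Type w)]
    {R X : Sheaf J (Type w)} {p₁ p₂ : R ⟶ X}
    (e : UniversallyEffectiveEquivalenceRelation p₁ p₂) (Y : Sheaf J (Type w)) :
    (∀ (Z : Sheaf J (Type w)) (ι : Z ⟶ X ⊗ Y), Mono ι →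
      (∀ (W : Sheaf J (Type w)) (r : W ⟶ R) (y : W ⟶ Y),
        (∃ z : W ⟶ Z, z ≫ ι = lift (r ≫ p₁) y) ↔ (∃ z : W ⟶ Z, z ≫ ι = lift (r ≫ p₂) y)) →
      Epi (ι ≫ snd X Y) →
      (∀ (W : Sheaf J (Type w)) (z₁ z₂ : W ⟶ Z), z₁ ≫ ι ≫ snd X Y = z₂ ≫ ι ≫ snd X Y →
        ∃ r : W ⟶ R, r ≫ p₁ = z₁ ≫ ι ≫ fst X Y ∧ r ≫ p₂ = z₂ ≫ ι ≫ fst X Y) →
      ∃! f : Y ⟶ e.B, IsPullback (ι ≫ fst X Y) (ι ≫ snd X Y) e.π f) ∧
    (∀ f : Y ⟶ e.B, ∃ (Z : Sheaf J (Type w)) (ι : Z ⟶ X ⊗ Y), Mono ι ∧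
      (∀ (W : Sheaf J (Type w)) (r : W ⟶ R) (y : W ⟶ Y),
        (∃ z : W ⟶ Z, z ≫ ι = lift (r ≫ p₁) y) ↔ (∃ z : W ⟶ Z, z ≫ ι = lift (r ≫ p₂) y)) ∧
      Epi (ι ≫ snd X Y) ∧
      (∀ (W : Sheaf J (Type w)) (z₁ z₂ : W ⟶ Z), z₁ ≫ ι ≫ snd X Y = z₂ ≫ ι ≫ snd X Y →
        ∃ r : W ⟶ R, r ≫ p₁ = z₁ ≫ ι ≫ fst X Y ∧ r ≫ p₂ = z₂ ≫ ι ≫ fst X Y) ∧
      IsPullback (ι ≫ fst X Y) (ι ≫ snd X Y) e.π f) := by
  haveI := Groth.ShfQuot.epi_π e
  refine ⟨fun Z ι hι hst hepi hrel => ?_, fun f => ?_⟩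
  · haveI : EffectiveEpi (ι ≫ snd X Y) := Groth.ShfQuot.effectiveEpi _
    let f := EffectiveEpi.desc (ι ≫ snd X Y) (ι ≫ fst X Y ≫ e.π) fun z₁ z₂ h => by
      obtain ⟨r, h₁, h₂⟩ := hrel _ z₁ z₂ h
      calc z₁ ≫ ι ≫ fst X Y ≫ e.π = (r ≫ p₁) ≫ e.π := by rw [h₁]; simp only [Category.assoc]
        _ = (r ≫ p₂) ≫ e.π := by rw [Category.assoc, e.isKernelPair.w, Category.assoc]
        _ = z₂ ≫ ι ≫ fst X Y ≫ e.π := by rw [h₂]; simp only [Category.assoc]
    have hf : (ι ≫ fst X Y) ≫ e.π = (ι ≫ snd X Y) ≫ f := by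
      rw [EffectiveEpi.fac, Category.assoc]
    have hlift : ∀ {W : Sheaf J (Type w)} (x : W ⟶ X) (y : W ⟶ Y), x ≫ e.π = y ≫ f →
        ∃ k : W ⟶ Z, k ≫ ι = lift x y := fun {W} x y hxy => by
      obtain ⟨W', c, z, hc, hz⟩ := Groth.ShfQuot.lift₁ (ι ≫ snd X Y) y
      obtain ⟨r, h₁, h₂⟩ := Groth.ShfQuot.rel_of_eq e (z ≫ ι ≫ fst X Y) (c ≫ x) (by
        calc (z ≫ ι ≫ fst X Y) ≫ e.π = z ≫ (ι ≫ snd X Y) ≫ f := by rw [← hf, Category.assoc]
          _ = (c ≫ y) ≫ f := by rw [← Category.assoc z, hz]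
          _ = (c ≫ x) ≫ e.π := by rw [Category.assoc, Category.assoc, hxy])
      obtain ⟨z', hz'⟩ := (hst W' r (c ≫ y)).1 ⟨z, by
        apply CartesianMonoidalCategory.hom_ext
        · rw [lift_fst, h₁, Category.assoc]
        · rw [lift_snd, ← hz, Category.assoc]⟩
      exact Groth.ShfQuot.factor_local c ι (lift x y) z' (by rw [hz', h₂, comp_lift])
    refine ⟨f, IsPullback.of_isLimit' ⟨hf⟩ (PullbackCone.IsLimit.mk _
      (fun s => (hlift s.fst s.snd s.condition).choose)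
      (fun s => by rw [← Category.assoc, (hlift s.fst s.snd s.condition).choose_spec, lift_fst])
      (fun s => by rw [← Category.assoc, (hlift s.fst s.snd s.condition).choose_spec, lift_snd])
      (fun s m h₁ h₂ => ?_)), fun f' hf' => ?_⟩
    · rw [← cancel_mono ι, (hlift s.fst s.snd s.condition).choose_spec]
      apply CartesianMonoidalCategory.hom_ext
      · rw [lift_fst, Category.assoc]; exact h₁
      · rw [lift_snd, Category.assoc]; exact h₂
    · rw [← cancel_epi (ι ≫ snd X Y), ← hf, hf'.w]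
  · have h₁ : lift (pullback.fst e.π f) (pullback.snd e.π f) ≫ fst X Y = pullback.fst e.π f := lift_fst _ _
    have h₂ : lift (pullback.fst e.π f) (pullback.snd e.π f) ≫ snd X Y = pullback.snd e.π f := lift_snd _ _
    have hstep : ∀ {W : Sheaf J (Type w)} (r : W ⟶ R) (y : W ⟶ Y) (i j : R ⟶ X), i ≫ e.π = j ≫ e.π →
        (∃ z : W ⟶ pullback e.π f, z ≫ lift (pullback.fst e.π f) (pullback.snd e.π f) = lift (r ≫ i) y) →
        ∃ z : W ⟶ pullback e.π f, z ≫ lift (pullback.fst e.π f) (pullback.snd e.π f) = lift (r ≫ j) y := by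
      rintro W r y i j hij ⟨z, hz⟩
      have a₁ : z ≫ pullback.fst e.π f = r ≫ i := by
        rw [← h₁, ← Category.assoc, hz, lift_fst]
      have a₂ : z ≫ pullback.snd e.π f = y := by
        rw [← h₂, ← Category.assoc, hz, lift_snd]
      refine ⟨pullback.lift (r ≫ j) y ?_, by rw [comp_lift, pullback.lift_fst, pullback.lift_snd]⟩
      rw [Category.assoc, ← hij, ← Category.assoc, ← a₁, ← a₂, Category.assoc, Category.assoc, pullback.condition]
    refine ⟨pullback e.π f, lift (pullback.fst e.π f) (pullback.snd e.π f), ?_, ?_, ?_, ?_, ?_⟩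
    · refine ⟨fun a b h => pullback.hom_ext ?_ ?_⟩
      · simpa only [Category.assoc, h₁] using congrArg (· ≫ fst X Y) h
      · simpa only [Category.assoc, h₂] using congrArg (· ≫ snd X Y) h
    · exact fun W r y => ⟨hstep r y p₁ p₂ e.isKernelPair.w, hstep r y p₂ p₁ e.isKernelPair.w.symm⟩
    · rw [h₂]
      exact Groth.Agent.S5217.epi_stable (IsPullback.of_hasPullback e.π f)
    · intro W z₁ z₂ h
      rw [h₂] at h
      simp only [h₁]
      apply Groth.ShfQuot.rel_of_eq e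
      simp only [Category.assoc, pullback.condition]
      rw [reassoc_of% h]
    · rw [h₁, h₂]
      exact IsPullback.of_hasPullback e.π f

end Groth.Agent.S6048
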