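import Groth.Statements.S6050
import Groth.Agent.Lib.SheafGrpQuot.Basic
import Groth.Agent.Lib.SheafGrpQuot.Sub

set_option autoImplicit false
open CategoryTheory CategoryTheory.Limits MonoidalCategory
universe w v₁ u₁
open ShfCat

open Groth
namespace Groth.Agent.S6050

open MonObj CartesianMonoidalCategory SemiCartesianMonoidalCategory in
/-- Let `u : H ⟶ G` be a normal subgroup sheaf of a sheaf of groups `G` on a site, `G' = G/H` the
quotient sheaf with its group structure making `π : G ⟶ G'` a homomorphism. Then `K' ↦ K' ×_{G'} G`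
is a bijection from the subgroup sheaves of `G'` onto the subgroup sheaves of `G` containing `H`
(its inverse is `K ↦ K/H`), and normal subgroup sheaves correspond to normal subgroup sheaves.
Stated for sheaves of sets in `Type w` with sheafification; a subgroup sheaf is a subobject
admitting a group structure for which its inclusion is a homomorphism. -/
theorem result {C : Type u₁} [Category.{v₁} C]
    (J : GrothendieckTopology C) [HasSheafify J (Type w)]
    {H G : Sheaf J (Type w)} [hH : GrpObj H] [hG : GrpObj G] (u : H ⟶ G) [Mono u]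
    (hu : @IsMonHom (Sheaf J (Type w)) _ _ H G hH.toMonObj hG.toMonObj u)
    (hn : ∀ (Y : Sheaf J (Type w)) (g : Y ⟶ G) (h : Y ⟶ H), ∃ h' : Y ⟶ H, g * (h ≫ u) * g⁻¹ = h' ≫ u)
    [hQ : GrpObj (coequalizer (fst G H) ((G ◁ u) ≫ hG.mul))]
    (hπ : @IsMonHom (Sheaf J (Type w)) _ _ G (coequalizer (fst G H) ((G ◁ u) ≫ hG.mul)) hG.toMonObj hQ.toMonObj
      (coequalizer.π (fst G H) ((G ◁ u) ≫ hG.mul))) :
    Set.BijOn (Subobject.pullback (coequalizer.π (fst G H) ((G ◁ u) ≫ hG.mul))).obj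
      {K' : Subobject (coequalizer (fst G H) ((G ◁ u) ≫ hG.mul)) |
        ∃ str : GrpObj (K' : Sheaf J (Type w)),
          @IsMonHom (Sheaf J (Type w)) _ _ _ _ str.toMonObj hQ.toMonObj K'.arrow}
      {K : Subobject G | Subobject.mk u ≤ K ∧
        ∃ str : GrpObj (K : Sheaf J (Type w)),
          @IsMonHom (Sheaf J (Type w)) _ _ _ _ str.toMonObj hG.toMonObj K.arrow} ∧
    ∀ (K' : Subobject (coequalizer (fst G H) ((G ◁ u) ≫ hG.mul)))
      (str' : GrpObj (K' : Sheaf J (Type w)))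
      (str : GrpObj ((Subobject.pullback (coequalizer.π (fst G H) ((G ◁ u) ≫ hG.mul))).obj K' : Sheaf J (Type w))),
      @IsMonHom (Sheaf J (Type w)) _ _ _ _ str'.toMonObj hQ.toMonObj K'.arrow →
      @IsMonHom (Sheaf J (Type w)) _ _ _ _ str.toMonObj hG.toMonObj
        ((Subobject.pullback (coequalizer.π (fst G H) ((G ◁ u) ≫ hG.mul))).obj K').arrow →
      ((∀ (Y : Sheaf J (Type w)) (g : Y ⟶ coequalizer (fst G H) ((G ◁ u) ≫ hG.mul))
          (k : Y ⟶ (K' : Sheaf J (Type w))),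
          ∃ k' : Y ⟶ (K' : Sheaf J (Type w)), g * (k ≫ K'.arrow) * g⁻¹ = k' ≫ K'.arrow) ↔
        (∀ (Y : Sheaf J (Type w)) (g : Y ⟶ G)
          (k : Y ⟶ ((Subobject.pullback (coequalizer.π (fst G H) ((G ◁ u) ≫ hG.mul))).obj K' : Sheaf J (Type w))),
          ∃ k' : Y ⟶ ((Subobject.pullback (coequalizer.π (fst G H) ((G ◁ u) ≫ hG.mul))).obj K' : Sheaf J (Type w)),
            g * (k ≫ ((Subobject.pullback (coequalizer.π (fst G H) ((G ◁ u) ≫ hG.mul))).obj K').arrow) * g⁻¹ =
              k' ≫ ((Subobject.pullback (coequalizer.π (fst G H) ((G ◁ u) ≫ hG.mul))).obj K').arrow)) := by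
  have hl : SheafGrpQuot.HasSLifts (SheafGrpQuot.qπ u) := fun W z => by
    obtain ⟨B, p, g, hp, hg⟩ := SheafGrpQuot.exists_lift_π z
    exact ⟨B, p, g, inferInstance, hg⟩
  have himg : ∀ (K : Sheaf J (Type w)) (k : K ⟶ G) (str : GrpObj K), Mono k →
      @IsMonHom (Sheaf J (Type w)) _ _ K G str.toMonObj hG.toMonObj k → (∃ i : H ⟶ K, i ≫ k = u) →
      ∃ (R : Sheaf J (Type w)) (πK : K ⟶ R) (j : R ⟶ coequalizer (fst G H) ((G ◁ u) ≫ hG.mul)),
        Mono j ∧ SheafGrpQuot.HasSLifts πK ∧ πK ≫ j = k ≫ coequalizer.π (fst G H) ((G ◁ u) ≫ hG.mul) := by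
    rintro K k str hm hk ⟨i, hi⟩
    have hii : @IsMonHom (Sheaf J (Type w)) _ _ H K hH.toMonObj str.toMonObj i := by
      have := hk
      have := hu
      refine ⟨?_, ?_⟩
      · rw [← cancel_mono k, Category.assoc, hi, IsMonHom.one_hom, IsMonHom.one_hom]
      · rw [← cancel_mono k, Category.assoc, hi, Category.assoc, IsMonHom.mul_hom, IsMonHom.mul_hom,
          ← Category.assoc]
        congr 1
        subst hi
        exact (tensorHom_comp_tensorHom i i k k).symm
    have : Mono i := mono_of_mono_fac hi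
    have hlK : SheafGrpQuot.HasSLifts (SheafGrpQuot.qπ i) := fun W z => by
      obtain ⟨B, p, g, hp, hg⟩ := SheafGrpQuot.exists_lift_π z
      exact ⟨B, p, g, inferInstance, hg⟩
    have := hk
    obtain ⟨j, hj⟩ := SheafGrpQuot.desc₀ (hu := hii) (k ≫ SheafGrpQuot.qπ u) fun W x y => by
      have : k ≫ SheafGrpQuot.qπ u = k ≫ SheafGrpQuot.qπ u := rfl
      rw [← Category.assoc, ← Category.assoc, MonObj.mul_comp, Category.assoc y, hi]
      exact ((SheafGrpQuot.π_eq_iff (hu := hu) u _ _).mpr ⟨y, rfl⟩).symm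
    refine ⟨_, SheafGrpQuot.qπ i, j, ⟨fun {W} a b hab => ?_⟩, hlK, hj⟩
    obtain ⟨B, p, x, hp, hx⟩ := hlK W a
    obtain ⟨B', p', y, hp', hy⟩ := hlK B (p ≫ b)
    have e : ((p' ≫ x) ≫ k) ≫ SheafGrpQuot.qπ u = (y ≫ k) ≫ SheafGrpQuot.qπ u := by
      rw [Category.assoc (p' ≫ x), Category.assoc y, ← hj, ← Category.assoc (p' ≫ x),
        Category.assoc p', hx, ← Category.assoc y, hy]
      simp only [Category.assoc, hab]
    obtain ⟨z, hz⟩ := (SheafGrpQuot.π_eq_iff (hu := hu) u _ _).mp e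
    rw [← hi, ← Category.assoc z, ← MonObj.mul_comp, cancel_mono] at hz
    have := (SheafGrpQuot.π_eq_iff (hu := hii) i _ _).mpr ⟨z, hz⟩
    rw [Category.assoc p', hx, hy] at this
    rwa [← cancel_epi p, ← cancel_epi p']
  have h := SheafGrpQuot.bijOn_subgroups (hG := hG) (hQ := hQ) _ hπ hl u
    (fun W a b => SheafGrpQuot.π_eq_iff (hu := hu) u a b) himg
  exact ⟨h.1, fun K' _ _ _ _ => h.2 K'⟩

end Groth.Agent.S6050
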