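import Groth.Statements.S6057
import Mathlib.CategoryTheory.Sites.Over
open Opposite

set_option autoImplicit false
set_option linter.style.haveILetI false
open CategoryTheory
universe v₁ u₁
open ShfCat

namespace Groth.Agent.S6057

/-- Let `S` be an object whose representable presheaf is a sheaf for `J` and `φ : F ⟶ h_S` a morphism of
presheaves of sets. The relative presheaf on `C/S` (sections of `F` over `T` lying over the given `T
⟶ S`) is separated (resp. a sheaf) for the induced topology on `C/S` if and only if `F` is separated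
(resp. a sheaf). -/
theorem result {C : Type u₁} [Category.{v₁} C] (J : GrothendieckTopology C)
    {S : C} (hS : Presieve.IsSheaf J (yoneda.obj S)) {F : Cᵒᵖ ⥤ Type v₁} (φ : F ⟶ yoneda.obj S) :
    (Presieve.IsSeparated (J.over S) (ShfCat.relPsh φ) ↔ Presieve.IsSeparated J F) ∧
    (Presieve.IsSheaf (J.over S) (ShfCat.relPsh φ) ↔ Presieve.IsSheaf J F) := by
  let q : ∀ (T : Over S), (ShfCat.relPsh φ).obj (op T) → F.obj (op T.left) := fun T x => x.1
  have up : ∀ {T : Over S} {W : C} (R : Sieve T) (g : W ⟶ T.left), Sieve.overEquiv T R g →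
      R (Over.homMk g rfl : Over.mk (g ≫ T.hom) ⟶ T) := by
    intro T W R g hg
    have : R = (Sieve.overEquiv T).symm (Sieve.overEquiv T R) := ((Sieve.overEquiv T).symm_apply_apply R).symm
    rw [this]
    exact hg
  have sep1 : Presieve.IsSeparated J F → Presieve.IsSeparated (J.over S) (ShfCat.relPsh φ) := by
    intro h T R hR x t₁ t₂ h₁ h₂
    rw [J.mem_over_iff] at hR
    have hc : Presieve.IsSeparatedFor F (Sieve.overEquiv T R).arrows := h _ hR
    refine Subtype.ext (hc.ext fun W g hg => ?_)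
    exact congrArg Subtype.val ((h₁ _ (up R g hg)).trans (h₂ _ (up R g hg)).symm)
  have sep2 : Presieve.IsSeparated (J.over S) (ShfCat.relPsh φ) → Presieve.IsSeparated J F := by
    intro h X R hR x t₁ t₂ h₁ h₂
    have e : φ.app (op X) t₁ = φ.app (op X) t₂ := by
      refine ((hS R hR).isSeparatedFor).ext fun W g hg => ?_
      rw [← NatTrans.naturality_apply φ g.op, ← NatTrans.naturality_apply φ g.op, h₁ g hg, h₂ g hg]
    let T : Over S := Over.mk (φ.app (op X) t₁)
    let R' : Sieve T := (Sieve.overEquiv T).symm R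
    have hR' : R' ∈ J.over S T := J.overEquiv_symm_mem_over T R hR
    let u₁ : (ShfCat.relPsh φ).obj (op T) := ⟨t₁, rfl⟩
    let u₂ : (ShfCat.relPsh φ).obj (op T) := ⟨t₂, e.symm⟩
    have := (h R' hR').ext (t₁ := u₁) (t₂ := u₂) fun W g hg => Subtype.ext ((h₁ g.left hg).trans (h₂ g.left hg).symm)
    exact congrArg Subtype.val this
  refine ⟨⟨sep2, sep1⟩, ⟨fun h X R hR x hx => ?_, fun h T R hR x hx => ?_⟩⟩
  · have hxS : Presieve.FamilyOfElements.Compatible (P := yoneda.obj S)
        (fun W g hg => φ.app (op W) (x g hg) : Presieve.FamilyOfElements (yoneda.obj S) R.arrows) := by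
      intro Y₁ Y₂ Z g₁ g₂ f₁ f₂ k₁ k₂ hk
      simp only
      rw [← NatTrans.naturality_apply φ g₁.op, ← NatTrans.naturality_apply φ g₂.op, hx g₁ g₂ k₁ k₂ hk]
    obtain ⟨a, ha, -⟩ := hS R hR _ hxS
    let T : Over S := Over.mk a
    let R' : Sieve T := (Sieve.overEquiv T).symm R
    have hR' : R' ∈ J.over S T := J.overEquiv_symm_mem_over T R hR
    let x' : Presieve.FamilyOfElements (ShfCat.relPsh φ) R'.arrows := fun W g hg =>
      ⟨x g.left hg, ((ha g.left hg).symm.trans (Over.w g))⟩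
    have hx' : x'.Compatible := fun Y₁ Y₂ Z g₁ g₂ f₁ f₂ k₁ k₂ hk =>
      Subtype.ext (hx g₁.left g₂.left k₁ k₂ (congrArg CommaMorphism.left hk))
    obtain ⟨b, hb, -⟩ := h R' hR' x' hx'
    refine ⟨b.1, fun W g hg => ?_, fun c hc => ?_⟩
    · exact congrArg Subtype.val (hb (Over.homMk g rfl : Over.mk (g ≫ a) ⟶ T) hg)
    · refine ((sep2 h.isSeparated) R hR).ext fun W g hg => ?_
      exact (hc g hg).trans (congrArg Subtype.val (hb (Over.homMk g rfl : Over.mk (g ≫ a) ⟶ T) hg)).symm
  · have hR' : Sieve.overEquiv T R ∈ J T.left := (J.mem_over_iff R).1 hR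
    let y : Presieve.FamilyOfElements F (Sieve.overEquiv T R).arrows := fun W g hg =>
      q _ (x (Over.homMk g rfl : Over.mk (g ≫ T.hom) ⟶ T) (up R g hg))
    have hy : y.Compatible := by
      intro Y₁ Y₂ Z g₁ g₂ f₁ f₂ k₁ k₂ hk
      let G₁ : Over.mk ((g₁ ≫ f₁) ≫ T.hom) ⟶ Over.mk (f₁ ≫ T.hom) :=
        Over.homMk g₁ (Category.assoc _ _ _).symm
      let G₂ : Over.mk ((g₁ ≫ f₁) ≫ T.hom) ⟶ Over.mk (f₂ ≫ T.hom) :=
        Over.homMk g₂ ((Category.assoc _ _ _).symm.trans (congrArg (· ≫ T.hom) hk.symm))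
      exact congrArg Subtype.val (hx G₁ G₂ (up R f₁ k₁) (up R f₂ k₂) (Over.OverMorphism.ext hk))
    obtain ⟨a, ha, hau⟩ := h _ hR' y hy
    have haS : φ.app (op T.left) a = T.hom := by
      refine ((hS _ hR').isSeparatedFor).ext fun W g hg => ?_
      rw [← NatTrans.naturality_apply φ g.op, ha g hg]
      exact (x (Over.homMk g rfl : Over.mk (g ≫ T.hom) ⟶ T) (up R g hg)).2
    have hmem : ∀ {W : Over S} (g : W ⟶ T), R g → Sieve.overEquiv T R g.left := fun g hg =>
      ⟨_, g, 𝟙 _, hg, (Category.id_comp _).symm⟩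
    refine ⟨⟨a, haS⟩, fun W g hg => Subtype.ext ((ha g.left (hmem g hg)).trans ?_), fun c hc => ?_⟩
    · let G : Over.mk (g.left ≫ T.hom) ⟶ W := Over.homMk (𝟙 _) ((Category.id_comp _).trans (Over.w g).symm)
      have := congrArg Subtype.val (hx (𝟙 _) G (up R g.left (hmem g hg)) hg
        (Over.OverMorphism.ext (by simp [G])))
      rw [ShfCat.relPsh_map_val, ShfCat.relPsh_map_val] at this
      simpa [y, q, G] using this
    · exact Subtype.ext (hau c.1 fun W g hg =>
        congrArg Subtype.val (hc (Over.homMk g rfl : Over.mk (g ≫ T.hom) ⟶ T) (up R g hg)))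

end Groth.Agent.S6057
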