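import Groth.Statements.S6058
import Groth.Agent.Lib.OT67.IdemFibre
import Groth.Agent.Lib.OT67.TorsionDense

set_option autoImplicit false
universe u
open TensorProduct SGA3b
open SGA3b

namespace Groth.Agent.S6058

/-- Let A be a Noetherian ring, separated and complete for the I-adic topology, and H = Spec C a
commutative affine A-group (C cocommutative) with C flat and of finite type over A, such that the
reduction H₀ = Spec ((A/I) ⊗ C) is an isotrivial (A/I)-group of multiplicative type and such that
for every n > 0 the kernel ₙH = Spec (C/Jₙ) of the n-th power map is finite over A (Jₙ the ideal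
generated by the image of the augmentation ideal under the n-th power endomorphism). Then H is an
isotrivial A-group of multiplicative type. (Affine group schemes over an affine base are taken in
Hopf-algebra form; base change is the tensor product.) -/
theorem result (A : Type u) [CommRing A] [IsNoetherianRing A] (I : Ideal A) [IsAdicComplete I A]
    (C : Type u) [CommRing C] [HopfAlgebra A C] [Coalgebra.IsCocomm A C] [Module.Flat A C] (hft : Algebra.FiniteType A C)
    (h0 : IsIsotrivial (A ⧸ I) ((A ⧸ I) ⊗[A] C))
    (hfin : ∀ n : ℕ, 0 < n → Module.Finite A (C ⧸ torsionIdeal A C n)) :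
    IsIsotrivial A C := by
  obtain ⟨B, _, _, φ, e, hB, hsurj, he, heI, hK, -⟩ := Groth.Agent.Lib.OT67.OpenPartMain.exists_openPart hft
    (fun q _ _ => inferInstance) h0
  refine Groth.Agent.Lib.OT67.IdemFibre.isIsotrivial_of_injective hsurj hK ?_ hB
  haveI := hft
  refine Groth.Agent.Lib.OT67.TorsionDense.eq_zero hB hsurj he hK fun n hn => ?_
  haveI := hfin n hn
  haveI : IsHausdorff I (C ⧸ torsionIdeal A C n) :=
    IsHausdorff.of_le_jacobson I _ (IsAdicComplete.le_jacobson_bot I)
  refine Ideal.Quotient.eq_zero_iff_mem.1 (IsHausdorff.haus (I := I) inferInstance _ fun k => ?_)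
  rw [SModEq.zero]
  have h1 : e ∈ (I ^ k • ⊤ : Submodule A C) := by
    rw [Ideal.smul_top_eq_map, Submodule.restrictScalars_mem, Ideal.map_pow]
    have := Ideal.pow_le_pow_right (Nat.le_succ k) (Ideal.pow_mem_pow heI (k + 1))
    rwa [he.pow_succ_eq] at this
  exact Groth.Agent.H83.MultType.map_mem_of_mem_smul (Ideal.Quotient.mkₐ A (torsionIdeal A C n)).toLinearMap h1

end Groth.Agent.S6058
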