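import Groth.Statements.S6060
import Groth.Agent.Lib.SubEq.Main
import Groth.Agent.H87.EqLocus

set_option autoImplicit false
open CategoryTheory MonoidalCategory CartesianMonoidalCategory MonObj GrpObj AlgebraicGeometry
universe u
open SGA3x

namespace Groth.Agent.S6060

/-- Let G be an S-group, suppose S locally Noetherian or G of finite presentation over S, and let i₁ :
H₁ ⟶ G, i₂ : H₂ ⟶ G be two sub-group-schemes (homomorphisms which are immersions) of multiplicative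
type and of finite type. Let s ∈ S be a point such that the fibre (H₁)_s is central in G_s (every
point of G_s commutes with every point of (H₁)_s) and (H₁)_s = (H₂)_s as subgroups of G_s (an
isomorphism of the fibres compatible with the inclusions). Then there is an open neighbourhood U of
s such that H₁|_U = H₂|_U as subgroups of G|_U. -/
theorem result {S : Scheme.{u}} (G H₁ H₂ : Over S) [GrpObj G] [GrpObj H₁] [GrpObj H₂]
    (hG : IsLocallyNoetherian S ∨ (LocallyOfFinitePresentation G.hom ∧ QuasiCompact G.hom ∧ QuasiSeparated G.hom))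
    (h₁ : SGA3x.IsMultTypeFT H₁) (h₂ : SGA3x.IsMultTypeFT H₂)
    (i₁ : H₁ ⟶ G) [IsMonHom i₁] [IsImmersion i₁.left] (i₂ : H₂ ⟶ G) [IsMonHom i₂] [IsImmersion i₂.left] (s : S)
    (hc : ∀ (X : Over (Spec (S.residueField s))) (g : X ⟶ Red.bc (S.fromSpecResidueField s) G)
      (h : X ⟶ Red.bc (S.fromSpecResidueField s) H₁),
      g * (h ≫ (Over.pullback (S.fromSpecResidueField s)).map i₁) = (h ≫ (Over.pullback (S.fromSpecResidueField s)).map i₁) * g)
    (hs : ∃ ψ : Red.bc (S.fromSpecResidueField s) H₁ ≅ Red.bc (S.fromSpecResidueField s) H₂,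
      ψ.hom ≫ (Over.pullback (S.fromSpecResidueField s)).map i₂ = (Over.pullback (S.fromSpecResidueField s)).map i₁) :
    ∃ U : S.Opens, s ∈ U ∧ ∃ ψ : Red.bc U.ι H₁ ≅ Red.bc U.ι H₂,
      ψ.hom ≫ (Over.pullback U.ι).map i₂ = (Over.pullback U.ι).map i₁ := by
  
  haveI : Mono i₁ := Over.mono_of_mono_left i₁
  haveI : Mono i₂ := Over.mono_of_mono_left i₂
  obtain ⟨ψ, hψ⟩ := hs
  obtain ⟨hf₁, hf₂⟩ := Groth.Agent.Lib.SubEq.fac_of_bc_iso i₁ i₂ ψ hψ
  have hc₁ := Groth.Agent.Lib.SubEq.centralOn_of_bc i₁ hc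
  have hc₂ := Groth.Agent.Lib.SubEq.centralOn_of_fac i₁ i₂ hf₂ hc₁
  obtain ⟨U₁, hs₁, hU₁⟩ := Groth.Agent.Lib.SubEq.exists_nhd_fac_of_point i₁ i₂ hG h₁ h₂ s hf₁ hc₁
  obtain ⟨U₂, hs₂, hU₂⟩ := Groth.Agent.Lib.SubEq.exists_nhd_fac_of_point i₂ i₁ hG h₂ h₁ s hf₂ hc₂
  refine ⟨U₁ ⊓ U₂, ⟨hs₁, hs₂⟩, (Groth.Agent.H87.EqLocus.exists_iso_iff_fac i₁ i₂ _).mpr ⟨?_, ?_⟩⟩
  · exact Groth.Agent.Lib.SubEq.fac_congr i₁ i₂ (S.homOfLE_ι inf_le_left)
      (Groth.Agent.Lib.SubEq.fac_comp i₁ i₂ _ hU₁)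
  · exact Groth.Agent.Lib.SubEq.fac_congr i₂ i₁ (S.homOfLE_ι inf_le_right)
      (Groth.Agent.Lib.SubEq.fac_comp i₂ i₁ _ hU₂)

end Groth.Agent.S6060
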