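import Groth.Statements.S6061
import Groth.Agent.H87.SplitHom
-- import your own Groth.Agent.* helpers here

set_option autoImplicit false
open CategoryTheory MonoidalCategory CartesianMonoidalCategory MonObj GrpObj AlgebraicGeometry
universe u
open SGA3x

namespace Groth.Agent.S6061

/-- Representability; the twisted-constant structure is asserted at the level of S-schemes: Let H and G
be quasi-isotrivial S-groups of multiplicative type — etale-locally on S isomorphic, as group
schemes, to diagonalisable groups D(M), with M finitely generated in the case of G (G of finite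
type). Then the functor of group homomorphisms from H to G is representable, by an S-scheme which is
a quasi-isotrivial twisted constant S-scheme (etale-locally constant). The character groups M range
over Type 0, as in the prelude's D_S(M). (The published statement also asserts that the representing
object is a twisted constant group of type Hom(M, N), M and N the types of G and H respectively;
this row asserts only the scheme-level twisted constant structure, without the group structure or
the type.) -/
theorem result {S : Scheme.{u}} (H G : Over S) [GrpObj H] [GrpObj G]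
    (hH : TwC.Locally S TwC.Topology.etale (fun S' f => ∃ (M : Type) (_ : AddCommGroup M),
      Nonempty (Grp.mk (Red.bc f H) ≅ Grp.mk (Red.DS S' M))))
    (hG : TwC.Locally S TwC.Topology.etale (fun S' f => ∃ (M : Type) (_ : AddCommGroup M),
      AddGroup.FG M ∧ Nonempty (Grp.mk (Red.bc f G) ≅ Grp.mk (Red.DS S' M)))) :
    ∃ (A : Over S) (υ : H ⊗ A ⟶ G), AutFam.RepresentsHom H G A υ ∧ TwC.IsTwConst TwC.Topology.etale A := by
  classical
  choose S₁ f₁ hf₁ hr₁ M iM hM using hH
  choose S₂ f₂ hf₂ hr₂ N iN hNfg hN using hG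
  let X : S → Scheme.{u} := fun s => Limits.pullback (f₁ s) (f₂ s)
  let p : ∀ s, X s ⟶ S₁ s := fun s => Limits.pullback.fst (f₁ s) (f₂ s)
  let q : ∀ s, X s ⟶ S₂ s := fun s => Limits.pullback.snd (f₁ s) (f₂ s)
  let g : ∀ s, X s ⟶ S := fun s => p s ≫ f₁ s
  have hge : ∀ s, Etale (g s) := fun s =>
    have := hf₁ s
    have := hf₂ s
    inferInstance
  have hgr : ∀ s, s ∈ Set.range (g s).base := fun s => by
    obtain ⟨a, ha⟩ := hr₁ s
    obtain ⟨b, hb⟩ := hr₂ s
    obtain ⟨x, hx, -⟩ := Scheme.Pullback.exists_preimage_pullback a b (ha.trans hb.symm)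
    exact ⟨x, by show (p s ≫ f₁ s) x = s; rw [Scheme.Hom.comp_apply, hx]; exact ha⟩
  have hcov : Presieve.ofArrows X g ∈ Scheme.fpqcPrecoverage S :=
    Groth.Agent.H87.HomFam.mem_fpqc_of_etale g fun s => ⟨s, hgr s⟩
  let eH : ∀ s, Grp.mk (Red.bc (g s) H) ≅ Grp.mk (Red.DS (X s) (M s)) := fun s =>
    Groth.Agent.H87.Charts.resChart (hM s).some (p s)
  let eG : ∀ s, Grp.mk (Red.bc (g s) G) ≅ Grp.mk (Red.DS (X s) (N s)) := fun s =>
    Groth.Agent.Lib.Tori.BaseChange.bcCongr
      (Limits.pullback.condition : p s ≫ f₁ s = q s ≫ f₂ s) G ≪≫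
      Groth.Agent.H87.Charts.resChart (hN s).some (q s)
  have hV := fun s => @Groth.Agent.H87.HomFam.exists_reps_const (X s) (M s) (N s) _ _ (hNfg s)
  choose V hV using hV
  obtain ⟨R, W, hR, hpc⟩ := Groth.Agent.H87.HomFam.exists_reps_of_indQA g hcov _ _
    (fun s => Groth.Agent.H87.HomFam.repsOn_of_charts (g s) (TwC.const (X s) (N s →+ M s)) (eH s) (eG s) (V s) (hV s))
    (fun s => Groth.Agent.H87.HomFam.indQA_const _ _)
  refine ⟨R, W.toMor, Groth.Agent.H87.HomFam.representsHom R W hR, fun s =>
    ⟨X s, g s, hge s, hgr s, ULift.{u} (N s →+ M s), ⟨?_⟩⟩⟩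
  refine ?_ ≪≫ (hpc s).some ≪≫ Groth.Agent.H87.HomFam.constULift _ _
  exact Over.isoMk (Limits.pullbackSymmetry _ _) (Limits.pullbackSymmetry_hom_comp_fst _ _)

end Groth.Agent.S6061
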