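import Groth.Statements.S6065
import Groth.Agent.Lib.TorsionDense.Kernels

set_option autoImplicit false
open CategoryTheory MonoidalCategory CartesianMonoidalCategory MonObj GrpObj AlgebraicGeometry
universe u
open SGA3x

namespace Groth.Agent.S6065

open Groth.Agent.Lib.TorsionDense

open CategoryTheory.Limits in
/-- Let S be a locally Noetherian scheme, H a commutative S-group which is of finite type over S, and E
a nonempty set of integers n > 0 stable under multiplication, such that: a) for every n ∈ E the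
kernel ₙH of the n-th power map of H (the pullback of the unit section along that map) is finite and
flat over S; b) for every s ∈ S the family of fibres (ₙH)_s ⟶ H_s, n ∈ E, is schematically dense in
H_s (a section of the structure sheaf of H_s over an open subset whose pullback to every (ₙH)_s
vanishes is zero). Let Y be a closed subscheme of H. Then the functor on S-schemes whose value at S'
⟶ S is a point when H ×_S S' ⟶ H factors through Y and empty otherwise is representable by a closed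
subscheme T of S; and if S is Noetherian there is n ∈ E such that, for every S' ⟶ S, H ×_S S' ⟶ H
factors through Y if and only if ₙH ×_S S' ⟶ H does. -/
theorem result {S : Scheme.{u}} [IsLocallyNoetherian S]
    (H : Over S) [GrpObj H] [IsCommMonObj H] [LocallyOfFiniteType H.hom] [QuasiCompact H.hom]
    (E : Set ℕ) (hE : E.Nonempty) (hE0 : ∀ n ∈ E, 0 < n) (hEmul : ∀ m ∈ E, ∀ n ∈ E, m * n ∈ E)
    (ha : ∀ n ∈ E, IsFinite ((pullback.snd η[H].left (𝟙 H ^ n : H ⟶ H).left) ≫ H.hom) ∧ Flat ((pullback.snd η[H].left (𝟙 H ^ n : H ⟶ H).left) ≫ H.hom))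
    (hb : ∀ (s : S) (V : (H.hom.fiber s).Opens) (t : Γ(H.hom.fiber s, V)),
      (∀ n ∈ E, (MoreMor.fiberMap (pullback.snd η[H].left (𝟙 H ^ n : H ⟶ H).left) H.hom s).app V t = 0) → t = 0)
    (Y : Scheme.{u}) (y : Y ⟶ H.left) [IsClosedImmersion y] :
    (∃ (T : Scheme.{u}) (t : T ⟶ S), IsClosedImmersion t ∧
      ∀ (S' : Scheme.{u}) (g : S' ⟶ S), (∃ g' : S' ⟶ T, g' ≫ t = g) ↔
        ∃ l : pullback H.hom g ⟶ Y, l ≫ y = pullback.fst H.hom g) ∧
    (AlgebraicGeometry.IsNoetherian S → ∃ n ∈ E, ∀ (S' : Scheme.{u}) (g : S' ⟶ S),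
      (∃ l : pullback H.hom g ⟶ Y, l ≫ y = pullback.fst H.hom g) ↔
        ∃ l : pullback ((pullback.snd η[H].left (𝟙 H ^ n : H ⟶ H).left) ≫ H.hom) g ⟶ Y,
          l ≫ y = pullback.fst ((pullback.snd η[H].left (𝟙 H ^ n : H ⟶ H).left) ≫ H.hom) g ≫ (pullback.snd η[H].left (𝟙 H ^ n : H ⟶ H).left)) := by
  have hfin : ∀ i, IsFinite (kerFam H E i ≫ H.hom) := fun i => (ha _ i.down.2).1
  have hflat : ∀ i, Flat (kerFam H E i ≫ H.hom) := fun i => (ha _ i.down.2).2
  have huniv := kerFam_univ E hflat hb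
  refine ⟨exists_closed H.hom _ (kerFam H E) hfin hflat y huniv, fun hS => ?_⟩
  obtain ⟨F, hF⟩ := exists_finset H.hom _ (kerFam H E) hfin hflat y huniv
  obtain ⟨n, hn, hdvd⟩ := exists_common_multiple hE hEmul F
  refine ⟨n, hn, fun S' g => ⟨fun h => exists_lift_member H.hom _ (kerFam H E) y g ⟨⟨n, hn⟩⟩ h,
    fun ⟨l, hl⟩ => hF S' g fun i hi => ?_⟩⟩
  obtain ⟨w, hw⟩ := exists_kerι_fac_of_dvd (H := H) (hdvd i hi)
  refine ⟨pullback.lift (pullback.fst _ _ ≫ w) (pullback.snd _ _) ?_ ≫ l, ?_⟩
  · rw [← pullback.condition, Category.assoc, ← Category.assoc w, hw]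
  · rw [Category.assoc, hl, pullback.lift_fst_assoc, Category.assoc, hw]

end Groth.Agent.S6065
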