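import Groth.Statements.S6066
import Groth.Agent.Lib.TorsionDense.Transporter

set_option autoImplicit false
open CategoryTheory MonoidalCategory CartesianMonoidalCategory MonObj GrpObj AlgebraicGeometry
universe u
open SGA3x

namespace Groth.Agent.S6066

open Groth.Agent.Lib.TorsionDense

open CategoryTheory.Limits in
/-- Let S be a locally Noetherian scheme, H a commutative S-group which is of finite type over S, and E
a nonempty set of integers n > 0 stable under multiplication such that a) every kernel ₙH of the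
n-th power map (n ∈ E; the pullback of the unit section along that map) is finite and flat over S
and b) for every s ∈ S the family of fibres (ₙH)_s ⟶ H_s, n ∈ E, is schematically dense in H_s. Let
u : H ⟶ G be a homomorphism into an S-group G locally of finite type over S and k : K ⟶ G a closed
sub-group-scheme. Then the transporter of u into K — the subfunctor of G of those points g, with
values in an S-scheme X, such that for every X' ⟶ X and every X'-valued point h of H the point g
u(h) g⁻¹ lies in K — is representable by a closed subscheme of G; and if the scheme G is Noetherian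
there is n ∈ E such that a point g of G lies in the transporter if and only if g u(h) g⁻¹ lies in K
for all points h of H with h^n = 1. (The published statement is over an arbitrary base S and also
asserts that the transporter is smooth over S when G is smooth, K is smooth or of multiplicative
type and the ₙH, n ∈ E, are of multiplicative type; this row assumes S locally Noetherian, the
setting in which the printed argument through the base G applies, and does not state the smoothness
assertion.) -/
theorem result {S : Scheme.{u}} [IsLocallyNoetherian S]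
    (H : Over S) [GrpObj H] [IsCommMonObj H] [LocallyOfFiniteType H.hom] [QuasiCompact H.hom]
    (E : Set ℕ) (hE : E.Nonempty) (hE0 : ∀ n ∈ E, 0 < n) (hEmul : ∀ m ∈ E, ∀ n ∈ E, m * n ∈ E)
    (ha : ∀ n ∈ E, IsFinite ((pullback.snd η[H].left (𝟙 H ^ n : H ⟶ H).left) ≫ H.hom) ∧ Flat ((pullback.snd η[H].left (𝟙 H ^ n : H ⟶ H).left) ≫ H.hom))
    (hb : ∀ (s : S) (V : (H.hom.fiber s).Opens) (t : Γ(H.hom.fiber s, V)),
      (∀ n ∈ E, (MoreMor.fiberMap (pullback.snd η[H].left (𝟙 H ^ n : H ⟶ H).left) H.hom s).app V t = 0) → t = 0)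
    (G K : Over S) [GrpObj G] [GrpObj K] [LocallyOfFiniteType G.hom] (u : H ⟶ G) [IsMonHom u]
    (k : K ⟶ G) [IsMonHom k] [IsClosedImmersion k.left] :
    (∃ (T : Over S) (j : T ⟶ G), IsClosedImmersion j.left ∧
      ∀ (X : Over S) (g : X ⟶ G), (∃ t : X ⟶ T, t ≫ j = g) ↔
        ∀ (X' : Over S) (x : X' ⟶ X) (h : X' ⟶ H), ∃ κ : X' ⟶ K, (x ≫ g) * (h ≫ u) * (x ≫ g)⁻¹ = κ ≫ k) ∧
    (AlgebraicGeometry.IsNoetherian G.left → ∃ n ∈ E, ∀ (X : Over S) (g : X ⟶ G),
      (∀ (X' : Over S) (x : X' ⟶ X) (h : X' ⟶ H), ∃ κ : X' ⟶ K, (x ≫ g) * (h ≫ u) * (x ≫ g)⁻¹ = κ ≫ k) ↔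
        ∀ (X' : Over S) (x : X' ⟶ X) (h : X' ⟶ H), h ^ n = 1 → ∃ κ : X' ⟶ K, (x ≫ g) * (h ≫ u) * (x ≫ g)⁻¹ = κ ≫ k) := by
  haveI : IsLocallyNoetherian G.left := LocallyOfFiniteType.isLocallyNoetherian G.hom
  let p := pullback.snd H.hom G.hom
  let f := Groth.Agent.Lib.SchDom.pbFam H.hom G.hom (kerFam H E)
  let y := pullback.fst (conjMap u).left k.left
  have hfin : ∀ i, IsFinite (f i ≫ p) := fun i => by
    rw [pbFam_snd]; exact MorphismProperty.of_isPullback (IsPullback.of_hasPullback _ _) (ha _ i.down.2).1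
  have hflat : ∀ i, Flat (f i ≫ p) := fun i => by
    rw [pbFam_snd]; exact MorphismProperty.of_isPullback (IsPullback.of_hasPullback _ _) (ha _ i.down.2).2
  have huniv := univ_pbFam H.hom G.hom (kerFam H E)
    (kerFam_univ E (fun i => (ha _ i.down.2).2) hb)
  have key : ∀ (X : Over S) (g : X ⟶ G),
      (∃ l, l ≫ y = pullback.fst p g.left) ↔
        ∀ (X' : Over S) (x : X' ⟶ X) (h : X' ⟶ H), ∃ κ : X' ⟶ K,
          (x ≫ g) * (h ≫ u) * (x ≫ g)⁻¹ = κ ≫ k := fun X g => by
    refine ⟨fun hl X' x h => transporter_of_lift u k g hl x h, fun ht => ?_⟩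
    obtain ⟨l, hl⟩ := lift_of_transporter u k g (𝟙 _) fun x h _ => ht _ x h
    exact ⟨l, hl.trans (Category.id_comp _)⟩
  refine ⟨?_, fun hG => ?_⟩
  · obtain ⟨T, t, ht, hT⟩ := exists_closed p _ f hfin hflat y huniv
    let j : Over.mk (t ≫ G.hom) ⟶ G := Over.homMk t
    refine ⟨Over.mk (t ≫ G.hom), j, ht, fun X g => ?_⟩
    rw [← key X g, ← hT X.left g.left]
    constructor
    · rintro ⟨g', hg'⟩
      exact ⟨g'.left, congrArg CommaMorphism.left hg'⟩
    · rintro ⟨g', hg'⟩
      exact ⟨Over.homMk g' (by simp [reassoc_of% hg']), by ext; exact hg'⟩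
  · obtain ⟨F, hF⟩ := exists_finset p _ f hfin hflat y huniv
    obtain ⟨n, hn, hdvd⟩ := exists_common_multiple hE hEmul F
    refine ⟨n, hn, fun X g => ⟨fun h X' x y _ => h X' x y,
      fun ht => (key X g).mp (hF _ g.left fun i hi => ?_)⟩⟩
    obtain ⟨l, hl⟩ := lift_of_transporter u k g (Groth.Agent.Lib.SchDom.pbFam p g.left f i)
      fun x h hh => ht _ x h (by
        obtain ⟨w, hw⟩ := exists_kerι_fac_of_dvd (H := H) (hdvd i hi)
        refine pow_eq_one_of_fac h n (pullback.fst _ _ ≫ pullback.fst _ _ ≫ w) ?_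
        rw [Category.assoc, Category.assoc, hw, hh]
        exact (congrArg (pullback.fst (f i ≫ p) g.left ≫ ·) (pbFam_fst H.hom G.hom (kerFam H E) i).symm).trans
          (pbFam_fst_assoc p g.left f i _).symm)
    exact ⟨l, hl.trans (pbFam_fst _ _ _ _)⟩

end Groth.Agent.S6066
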