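import Groth.Statements.S6069
import Groth.Agent.H87.FinSubAll

set_option autoImplicit false
set_option linter.style.haveILetI false
open CategoryTheory MonoidalCategory CartesianMonoidalCategory MonObj GrpObj AlgebraicGeometry
universe u
open CategoryTheory.Limits
open SGA3x
open Groth.Agent.H87 Groth.Agent.H87.MonoHom Groth.Agent.H87.SubIn

namespace Groth.Agent.S6069

/-- Let G be an S-group which is affine and of finite presentation over S. Then the functor which to an
S-scheme T assigns the set of subgroup schemes of G ×_S T which are of multiplicative type and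
finite over T (homomorphisms which are immersions from a T-group of multiplicative type, finite over
T) is representable by an S-scheme M every point of which has an open and closed neighbourhood
affine over S: M carries a universal such subgroup K ⟶ G ×_S M, and for every f : T ⟶ S and every
such subgroup K' of G ×_S T there is exactly one S-morphism v : T ⟶ M under which the pull-back of K
equals K' as a subscheme of G ×_S T (compared through their maps to G and to T). Moreover M is
locally of finite presentation over S. (The published statement says that the representing scheme is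
affine over S; its argument builds it as the disjoint sum, over the isomorphism types of finite
commutative groups, of pieces each affine over S, and for G the multiplicative group over a field
that sum has one copy of S for every n ≥ 1 — the subgroups of n-th roots of unity — so it is not
quasi-compact, hence not affine, over S; this row states the piecewise affineness. The published
statement also allows S locally Noetherian with G affine of arbitrary type; its argument that the
subgroup immersions form an open and closed part of the scheme of homomorphisms needs G of finite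
presentation — for G an infinite product of copies of the multiplicative group over a field and
homomorphisms from the group of p-th roots of unity, p prime, the immersions form a part which is
open but not closed — so this row assumes G of finite presentation over S.) -/
theorem result {S : Scheme.{u}} (G : Over S) [GrpObj G] [IsAffineHom G.hom]
    [LocallyOfFinitePresentation G.hom] :
    ∃ (M : Over S) (K : Over M.left) (_ : GrpObj K) (j : K ⟶ Red.bc M.hom G),
      (∀ m : ↥M.left, ∃ U : M.left.Opens, m ∈ U ∧ IsClosed (U : Set ↥M.left) ∧ IsAffineHom (U.ι ≫ M.hom)) ∧ IsMonHom j ∧ IsImmersion j.left ∧ SGA3x.IsMultTypeFT K ∧ IsFinite K.hom ∧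
      (∀ (T : Scheme.{u}) (f : T ⟶ S) (K' : Over T) [GrpObj K'] (j' : K' ⟶ Red.bc f G),
        IsMonHom j' → IsImmersion j'.left → SGA3x.IsMultTypeFT K' → IsFinite K'.hom →
        ∃! v : T ⟶ M.left, v ≫ M.hom = f ∧
          ∃ φ : K'.left ≅ (Red.bc v K).left,
            φ.hom ≫ (Red.bc v K).hom = K'.hom ∧
            φ.hom ≫ ((Over.pullback v).map j).left ≫ pullback.fst (Red.bc M.hom G).hom v ≫ pullback.fst G.hom M.hom =
              j'.left ≫ pullback.fst G.hom f) ∧
      LocallyOfFinitePresentation M.hom := by
  obtain ⟨M, K, gK, j, hU, hjm, hjmono, hjimm, hKmt, hKf, hMfp, huniv⟩ := FinSubAll.exists_univ G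
  refine ⟨M, K, gK, j, hU, hjm, hjimm, hKmt, hKf, ?_, hMfp⟩
  intro T f K' _ j' hj'm hj'i hK'mt hK'f
  haveI := hjm; haveI := hjmono; haveI := hj'm; haveI := hj'i
  haveI : Mono j' := Over.mono_of_mono_left j'
  obtain ⟨v, ⟨hv, hvIn⟩, hvu⟩ := huniv T f K' j' hK'mt hK'f
  refine ⟨v, ⟨hv, ?_⟩, ?_⟩
  · obtain ⟨jv, -, hm, hg, hIn⟩ := exists_pull v hv j
    obtain ⟨φ, hφ⟩ := exists_iso_of_In j' jv fun W w g => (hvIn W w g).trans (hIn w g).symm
    refine ⟨(Over.forget T).mapIso φ, Over.w φ.hom, ?_⟩
    have h1 : ((Over.pullback v).map j).left ≫ pullback.fst (Red.bc M.hom G).hom v =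
        pullback.fst K.hom v ≫ j.left := pullback.lift_fst _ _ _
    show φ.hom.left ≫ ((Over.pullback v).map j).left ≫ pullback.fst (Red.bc M.hom G).hom v ≫
      pullback.fst G.hom M.hom = gmap G j'
    rw [← hφ, reassoc_of% h1]
    exact (congrArg (φ.hom.left ≫ ·) hg.symm).trans (Category.assoc _ _ _).symm
  · rintro v' ⟨hv', φ, hφw, hφj⟩
    refine hvu v' ⟨hv', fun W w g => ?_⟩
    obtain ⟨jv, -, hm, hg, hIn⟩ := exists_pull v' hv' j
    let φ' : K' ≅ Red.bc v' K := Over.isoMk φ hφw
    have h1 : ((Over.pullback v').map j).left ≫ pullback.fst (Red.bc M.hom G).hom v' =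
        pullback.fst K.hom v' ≫ j.left := pullback.lift_fst _ _ _
    rw [reassoc_of% h1] at hφj
    have h2 : φ'.hom ≫ jv = j' := hom_ext_gmap ((Category.assoc _ _ _).trans
      ((congrArg (φ.hom ≫ ·) hg).trans hφj))
    rw [← h2, in_iso, hIn]

end Groth.Agent.S6069
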