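import Groth.Statements.S6070
import Groth.Agent.H87.MultTorsion

set_option autoImplicit false
open CategoryTheory MonoidalCategory CartesianMonoidalCategory MonObj GrpObj AlgebraicGeometry
universe u
open SGA3x
open Groth.Agent.Lib Groth.Agent.Lib.RedPts Groth.Agent.H87

namespace Groth.Agent.S6070

/-- In lifting form: what formal smoothness of the morphism H ↦ ₙH of the functor of multiplicative
subgroups means. Let S = Spec R be affine, J a nilpotent ideal of R, S₀ = Spec (R/J), n a natural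
number and G an S-group which is smooth over S. Let j₀ : H₀ ⟶ G₀ = G ×_S S₀ be a sub-group-scheme (a
homomorphism which is an immersion) of multiplicative type (fpqc-locally isomorphic, as a group, to
diagonalisable groups D(M), M allowed to vary and taken in Type 0), and l : L ⟶ G a sub-group-scheme
of multiplicative type whose base change to S₀ is the n-torsion of H₀ inside G₀: a point of G₀
factors through L ×_S S₀ if and only if it is j₀(h) for a point h of H₀ with h^n = 1. Then there is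
a sub-group-scheme j : H ⟶ G of multiplicative type whose base change to S₀ coincides with H₀ as a
subgroup of G₀ (an isomorphism compatible with the maps to G₀) and whose n-torsion is L: a point of
G factors through L if and only if it is j(h) for a point h of H with h^n = 1. -/
theorem result {R : Type u} [CommRing R] (J : Ideal R) (hJ : IsNilpotent J) (n : ℕ)
    (G : Over (Spec (CommRingCat.of R))) [GrpObj G] (hG : Smooth G.hom)
    (H₀ : Over (Spec (CommRingCat.of (R ⧸ J)))) [GrpObj H₀]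
    (hH₀ : TwC.Locally (Spec (CommRingCat.of (R ⧸ J))) TwC.Topology.fpqc (fun S' f => ∃ (M : Type) (_ : AddCommGroup M), Nonempty (Grp.mk (Red.bc f H₀) ≅ Grp.mk (Red.DS S' M))))
    (j₀ : H₀ ⟶ Red.bc (Spec.map (CommRingCat.ofHom (Ideal.Quotient.mk J))) G) [IsMonHom j₀] [IsImmersion j₀.left]
    (L : Over (Spec (CommRingCat.of R))) [GrpObj L] (hL : TwC.Locally (Spec (CommRingCat.of R)) TwC.Topology.fpqc (fun S' f => ∃ (M : Type) (_ : AddCommGroup M), Nonempty (Grp.mk (Red.bc f L) ≅ Grp.mk (Red.DS S' M))))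
    (l : L ⟶ G) [IsMonHom l] [IsImmersion l.left]
    (hL0 : ∀ (X : Over (Spec (CommRingCat.of (R ⧸ J)))) (g : X ⟶ Red.bc (Spec.map (CommRingCat.ofHom (Ideal.Quotient.mk J))) G),
      (∃ y : X ⟶ Red.bc (Spec.map (CommRingCat.ofHom (Ideal.Quotient.mk J))) L, y ≫ (Over.pullback (Spec.map (CommRingCat.ofHom (Ideal.Quotient.mk J)))).map l = g) ↔
        ∃ h : X ⟶ H₀, h ^ n = 1 ∧ h ≫ j₀ = g) :
    ∃ (H : Over (Spec (CommRingCat.of R))) (_ : GrpObj H) (j : H ⟶ G), IsMonHom j ∧ IsImmersion j.left ∧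
      TwC.Locally (Spec (CommRingCat.of R)) TwC.Topology.fpqc (fun S' f => ∃ (M : Type) (_ : AddCommGroup M), Nonempty (Grp.mk (Red.bc f H) ≅ Grp.mk (Red.DS S' M))) ∧
      (∃ φ : Red.bc (Spec.map (CommRingCat.ofHom (Ideal.Quotient.mk J))) H ≅ H₀, φ.hom ≫ j₀ = (Over.pullback (Spec.map (CommRingCat.ofHom (Ideal.Quotient.mk J)))).map j) ∧
      ∀ (X : Over (Spec (CommRingCat.of R))) (g : X ⟶ G),
        (∃ y : X ⟶ L, y ≫ l = g) ↔ ∃ h : X ⟶ H, h ^ n = 1 ∧ h ≫ j = g := by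
  haveI := hG
  let π := Bridge.mq J
  haveI : Smooth (Red.bc π G).hom := MorphismProperty.pullback_snd _ _ hG
  have hlft : LocallyOfFiniteType H₀.hom := by
    rw [← Over.w j₀]
    infer_instance
  obtain ⟨H, _, hH, ⟨ε⟩⟩ := Bridge.exists_lift hJ H₀ hH₀ hlft
  have hsplit : MultAvg.LocSplit H := by
    obtain ⟨S', f, h1, h2, h3, h4⟩ := hH
    exact ⟨S', f, h1, h2, h3, fun s' => by
      obtain ⟨U, hU, M, iM, -, he⟩ := h4 s'
      exact ⟨U, hU, M, iM, he⟩⟩
  obtain ⟨φ, hφ, hφ'⟩ : ∃ φ : Red.bc π H ≅ H₀, IsMonHom φ.hom ∧ IsMonHom φ.inv :=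
    ⟨Tori.BaseChange.overIso ε, Tori.BaseChange.isMonHom_overIso ε, Tori.BaseChange.isMonHom_overIso ε.symm⟩
  haveI := hφ
  haveI := hφ'
  obtain ⟨j₁, hj₁, hjv⟩ := Bridge.exists_hom_lift hJ hsplit (φ.hom ≫ j₀)
  haveI := hj₁
  have hv : IsImmersion ((Over.pullback (Bridge.mq J)).map j₁).left := by
    have : IsIso φ.hom.left := inferInstanceAs (IsIso ((Over.forget _).map φ.hom))
    rw [hjv, Over.comp_left]
    infer_instance
  haveI := hv
  haveI := Bridge.isImmersion_of_mod hJ j₁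
  haveI : Mono j₁ := (Over.forget _).mono_of_mono_map (inferInstanceAs (Mono j₁.left))
  haveI : Mono l := (Over.forget _).mono_of_mono_map (inferInstanceAs (Mono l.left))
  obtain ⟨K, _, z, hzm, hzM, hz⟩ := MultTorsion.exists_torsion H (fun X a b => Normal.comm hH a b) n
  haveI := hzm
  haveI := hzM
  haveI : Mono (z ≫ j₁) := mono_comp z j₁
  have conv : ∀ (Y : Over (Spec (CommRingCat.of R))) (q : Y ⟶ HomDS.test (𝟙 (Spec (CommRingCat.of R))) (MultAvg.mkA (A := CommRingCat.of R) J)),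
      ∃ X₀ : Over (Spec (CommRingCat.of (R ⧸ J))), Nonempty ((Over.map π).obj X₀ ≅ Y) := fun Y q =>
    ⟨Over.mk q.left, ⟨Over.isoMk (Iso.refl _) (by
      show 𝟙 _ ≫ Y.hom = q.left ≫ π
      rw [Category.id_comp, ← Over.w q]
      exact congrArg (q.left ≫ ·) (Category.comp_id _))⟩⟩
  have hx₁ : ∀ (Y : Over (Spec (CommRingCat.of R))) (q : Y ⟶ HomDS.test (𝟙 (Spec (CommRingCat.of R))) (MultAvg.mkA (A := CommRingCat.of R) J)) (x : Y ⟶ K), ∃ x' : Y ⟶ L,
      (q ≫ (1 : HomDS.test (𝟙 (Spec (CommRingCat.of R))) (MultAvg.mkA (A := CommRingCat.of R) J) ⟶ G)) * (x ≫ z ≫ j₁) * (q ≫ (1 : HomDS.test (𝟙 (Spec (CommRingCat.of R))) (MultAvg.mkA (A := CommRingCat.of R) J) ⟶ G))⁻¹ = x' ≫ l := by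
    intro Y q x
    obtain ⟨X₀, ⟨e⟩⟩ := conv Y q
    let y₀ := BC.up π (e.hom ≫ x ≫ z)
    have hy₀ : y₀ ^ n = 1 := (BC.downMulEquiv π X₀ H).injective (by
      rw [map_pow, map_one]
      show (BC.down π y₀) ^ n = 1
      rw [BC.down_up, ← Category.assoc]
      exact (hz _ _).1 ⟨_, rfl⟩)
    obtain ⟨y, hy⟩ := (hL0 X₀ ((y₀ ≫ φ.hom) ≫ j₀)).2 ⟨y₀ ≫ φ.hom,
      (@MonObj.pow_comp _ _ _ _ _ _ _ _ y₀ n φ.hom hφ).symm.trans (by rw [hy₀]; exact @MonObj.one_comp _ _ _ _ _ _ _ _ φ.hom hφ), rfl⟩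
    refine ⟨e.inv ≫ BC.down π y, ?_⟩
    rw [comp_one, _root_.one_mul, inv_one, _root_.mul_one, Category.assoc (e.inv), ← BC.down_map, hy, Category.assoc, ← hjv,
      BC.down_map, BC.down_up]
    simp
  have hx₂ : ∀ (Y : Over (Spec (CommRingCat.of R))) (q : Y ⟶ HomDS.test (𝟙 (Spec (CommRingCat.of R))) (MultAvg.mkA (A := CommRingCat.of R) J)) (x : Y ⟶ L), ∃ x' : Y ⟶ K,
      (q ≫ (1 : HomDS.test (𝟙 (Spec (CommRingCat.of R))) (MultAvg.mkA (A := CommRingCat.of R) J) ⟶ G))⁻¹ * (x ≫ l) * (q ≫ (1 : HomDS.test (𝟙 (Spec (CommRingCat.of R))) (MultAvg.mkA (A := CommRingCat.of R) J) ⟶ G)) = x' ≫ z ≫ j₁ := by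
    intro Y q x
    obtain ⟨X₀, ⟨e⟩⟩ := conv Y q
    let y := BC.up π (e.hom ≫ x)
    obtain ⟨h, hn, hh⟩ := (hL0 X₀ (y ≫ (Over.pullback π).map l)).1 ⟨y, rfl⟩
    have hn' : (h ≫ φ.inv) ^ n = 1 :=
      (@MonObj.pow_comp _ _ _ _ _ _ _ _ h n φ.inv hφ').symm.trans (by rw [hn]; exact @MonObj.one_comp _ _ _ _ _ _ _ _ φ.inv hφ')
    obtain ⟨r, hr⟩ := (hz _ (e.inv ≫ BC.down π (h ≫ φ.inv))).2 (by
      rw [← MonObj.comp_pow, show BC.down π (h ≫ φ.inv) = BC.downMulEquiv π X₀ H (h ≫ φ.inv) from rfl, ← map_pow, hn', map_one,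
        comp_one])
    refine ⟨r, ?_⟩
    rw [comp_one, inv_one, _root_.one_mul, _root_.mul_one, ← Category.assoc r, hr, Category.assoc,
      ← BC.down_map, Category.assoc, hjv, Iso.inv_hom_id_assoc, hh, BC.down_map, BC.down_up]
    simp
  obtain ⟨a, hma, hrel⟩ := MultAvg.exists_conj_iso (A := CommRingCat.of R) hJ (MultTorsion.locSplit_torsion z n hz hsplit) hL
    (z ≫ j₁) l 1 hx₁ hx₂
  obtain ⟨g, hg, hrel'⟩ := MultAvg.exists_rel_lift (A := CommRingCat.of R) (MultTorsion.locSplit_torsion z n hz hsplit)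
    (z ≫ j₁) (a.hom ≫ l) (𝟙 _) J hJ _ hrel
  let g₁ : ∀ X : Over (Spec (CommRingCat.of R)), X ⟶ G := fun X => toUnit X ≫ MultAvg.toPt ≫ g
  have hgn : ∀ {X X' : Over (Spec (CommRingCat.of R))} (r : X' ⟶ X), r ≫ g₁ X = g₁ X' := fun r => by
    simp only [g₁]
    rw [← Category.assoc, comp_toUnit]
  let j : H ⟶ G := g₁ H * j₁ * (g₁ H)⁻¹
  have hj : ∀ {X : Over (Spec (CommRingCat.of R))} (x : X ⟶ H), x ≫ j = g₁ X * (x ≫ j₁) * (g₁ X)⁻¹ := fun x => by
    simp only [j]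
    rw [MonObj.comp_mul, MonObj.comp_mul, GrpObj.comp_inv, hgn]
  have hj0 : (Over.pullback π).map j = (Over.pullback π).map j₁ := by
    apply BC.down_injective
    rw [← Category.id_comp ((Over.pullback π).map j), BC.down_map, hj, ← Category.id_comp ((Over.pullback π).map j₁), BC.down_map]
    let Z := Red.bc π H
    have h1 : g₁ ((Over.map π).obj Z) = 1 := by
      let o : (Over.map π).obj Z ⟶ (Over.mk (Spec.map (MultAvg.mkA (A := CommRingCat.of R) J)) : Over (Spec (CommRingCat.of R))) :=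
        Over.homMk Z.hom rfl
      show toUnit _ ≫ MultAvg.toPt ≫ g = 1
      rw [← comp_toUnit o, Category.assoc, ← Category.assoc (toUnit _)]
      refine (congrArg (fun t => o ≫ t ≫ g) (MultAvg.toUnit_toPt (A := CommRingCat.of R) J)).trans ?_
      rw [Category.assoc, hg, comp_one, comp_one]
    rw [h1, _root_.one_mul, inv_one, _root_.mul_one]
  have hjm : IsMonHom j := HomDS.isMonHom_of_points j fun X x y => by
    rw [hj, hj, hj, MonObj.mul_comp]
    group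
  haveI : IsImmersion ((Over.pullback (Bridge.mq J)).map j).left := by
    rw [hj0]
    exact hv
  refine ⟨H, inferInstance, j, hjm, Bridge.isImmersion_of_mod hJ j, hsplit, ⟨φ, ?_⟩, fun X x => ?_⟩
  · exact hjv.symm.trans hj0.symm
  constructor
  · rintro ⟨y, rfl⟩
    refine ⟨(y ≫ a.inv) ≫ z, (hz _ _).1 ⟨_, rfl⟩, ?_⟩
    rw [hj, Category.assoc (y ≫ a.inv)]
    exact (hrel'.global X (y ≫ a.inv)).symm.trans (by simp)
  · rintro ⟨h, hn, rfl⟩
    obtain ⟨r, rfl⟩ := (hz _ h).2 hn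
    refine ⟨r ≫ a.hom, ?_⟩
    rw [hj, Category.assoc, Category.assoc]
    exact hrel'.global X r

end Groth.Agent.S6070
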