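import Groth.Statements.S6071
import Groth.Agent.H24.DiagLimit.Index

set_option autoImplicit false
universe u
open TensorProduct SGA3b
open SGA3b

namespace Groth.Agent.S6071

open Groth.Agent.H24.DiagLimit Groth.Agent.H83.MultType

/-- Let A be a ring which is the union of a directed family of subrings A_i, and H = Spec C an A-group
of multiplicative type and of finite type which is quasi-isotrivial (resp. isotrivial). Then there
are an index i and an A_i-group H_i = Spec C_i of multiplicative type and of finite type,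
quasi-isotrivial (resp. isotrivial), such that H ≅ H_i ×_{A_i} A as A-groups: a bialgebra
isomorphism A ⊗_{A_i} C_i ≅ C (existence of an isomorphism; the descended group is not unique).
(Affine group schemes over an affine base are taken in Hopf-algebra form; base change is the tensor
product.) -/
theorem result (A : Type u) [CommRing A] {ι : Type u} [Preorder ι] [IsDirected ι (· ≤ ·)] [Nonempty ι]
    (B : ι → Subring A) (hmono : Monotone B) (hsup : ⨆ i, B i = ⊤)
    (C : Type u) [CommRing C] [HopfAlgebra A C] (hft : Algebra.FiniteType A C) :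
    (IsQuasiIsotrivial A C → ∃ (i : ι) (Ci : Type u) (_ : CommRing Ci) (_ : HopfAlgebra (B i) Ci),
      Algebra.FiniteType (B i) Ci ∧ IsQuasiIsotrivial (B i) Ci ∧ Nonempty ((A ⊗[B i] Ci) ≃ₐc[A] C)) ∧
    (IsIsotrivial A C → ∃ (i : ι) (Ci : Type u) (_ : CommRing Ci) (_ : HopfAlgebra (B i) Ci),
      Algebra.FiniteType (B i) Ci ∧ IsIsotrivial (B i) Ci ∧ Nonempty ((A ⊗[B i] Ci) ≃ₐc[A] C)) := by
  have model : Algebra.FinitePresentation A C → ∃ (A₀ : Type u) (_ : CommRing A₀) (_ : Algebra A₀ A) (C₀ : Type u)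
      (_ : CommRing C₀) (_ : HopfAlgebra A₀ C₀),
      Algebra.FiniteType ℤ A₀ ∧ Algebra.FinitePresentation A₀ C₀ ∧ Nonempty ((A ⊗[A₀] C₀) ≃ₐc[A] C) := fun hfp => by
    haveI := hfp
    exact Groth.Agent.Lib.OT67.HopfDescent.exists_model A C
  have stage : ∀ (A₀ : Type u) [CommRing A₀] [Algebra A₀ A] [Algebra.FiniteType ℤ A₀] (C₀ : Type u) [CommRing C₀]
      [HopfAlgebra A₀ C₀] [Algebra.FinitePresentation A₀ C₀] (T : (A ⊗[A₀] C₀) ≃ₐc[A] C) (P : Subalgebra A₀ A), P.FG →
      ∃ (i : ι) (g : P →+* B i), ∃ (Ci : Type u) (_ : CommRing Ci) (_ : HopfAlgebra (B i) Ci),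
        Algebra.FiniteType (B i) Ci ∧ Nonempty ((A ⊗[B i] Ci) ≃ₐc[A] C) ∧
        (IsQuasiIsotrivial P (P ⊗[A₀] C₀) → IsQuasiIsotrivial (B i) Ci) ∧
        (IsIsotrivial P (P ⊗[A₀] C₀) → IsIsotrivial (B i) Ci) := by
    intro A₀ _ _ _ C₀ _ _ _ T P hP
    haveI : Algebra.FiniteType A₀ P := P.fg_iff_finiteType.1 hP
    haveI : Algebra.FiniteType ℤ P := Algebra.FiniteType.trans (S := A₀) inferInstance inferInstance
    obtain ⟨i, hi⟩ := exists_index B hmono hsup P
    let g : P →+* B i := P.val.toRingHom.codRestrict (B i) hi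
    letI : Algebra P (B i) := g.toAlgebra
    haveI : IsScalarTower P (B i) A := IsScalarTower.of_algebraMap_eq fun _ => rfl
    obtain ⟨U, -⟩ := exists_towerEquiv P (B i) A (P ⊗[A₀] C₀)
    obtain ⟨V, -⟩ := exists_towerEquiv A₀ P A C₀
    haveI : Algebra.FiniteType P (P ⊗[A₀] C₀) := inferInstance
    exact ⟨i, g, (B i) ⊗[P] (P ⊗[A₀] C₀), inferInstance, inferInstance, inferInstance,
      ⟨(U.symm.trans V.symm).trans T⟩,
      fun h => Groth.Agent.Lib.OT67.QuasiIso.isQuasiIsotrivial_baseChange (B i) h,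
      fun h => Groth.Agent.H24.DiagLimit.isIsotrivial_baseChange (B i) h⟩
  refine ⟨fun h => ?_, fun h => ?_⟩
  · obtain ⟨A₀, _, _, C₀, _, _, hA₀, hC₀, ⟨T⟩⟩ := model (finitePresentation_of_quasi hft h)
    haveI := hA₀
    haveI := hC₀
    obtain ⟨P, hP, hq⟩ := exists_quasi C₀ (Groth.Agent.Lib.OT67.QuasiIso.of_equiv T.symm h)
    obtain ⟨i, -, Ci, _, _, h1, h2, h3, -⟩ := stage A₀ C₀ T P hP
    exact ⟨i, Ci, inferInstance, inferInstance, h1, h3 hq, h2⟩
  · obtain ⟨A₀, _, _, C₀, _, _, hA₀, hC₀, ⟨T⟩⟩ := model (finitePresentation_of_iso hft h)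
    haveI := hA₀
    haveI := hC₀
    obtain ⟨R', _, _, het, hfin, hff, M, _, ⟨e⟩⟩ := h
    obtain ⟨P, hP, hq⟩ := exists_iso_stage C₀
      ⟨R', inferInstance, inferInstance, het, hfin, hff, M, inferInstance, ⟨(Groth.Agent.Lib.OT67.QuasiIso.bcCongr R' T).trans e⟩⟩
    obtain ⟨i, -, Ci, _, _, h1, h2, -, h4⟩ := stage A₀ C₀ T P hP
    exact ⟨i, Ci, inferInstance, inferInstance, h1, h4 hq, h2⟩

end Groth.Agent.S6071
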