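import Groth.Statements.S6072
import Groth.Agent.Lib.OT67.HenselLift
import Groth.Agent.S0518

set_option autoImplicit false
universe u
open TensorProduct SGA3b
open SGA3b

open scoped TensorProduct

namespace Groth.Agent.S6072

/-- Let R be a henselian local ring with residue field k and H₀ = Spec C₀ a k-group of multiplicative
type which is finite over k. Then H₀ lifts to R: there is an R-group H = Spec C of multiplicative
type, finite over R and isotrivial, together with an isomorphism of k-groups H ×_R k ≅ H₀, i.e. a
bialgebra isomorphism k ⊗_R C ≅ C₀ (existence of an isomorphism; the lift is determined up to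
isomorphism only). (Affine group schemes over an affine base are taken in Hopf-algebra form; base
change is the tensor product.) -/
theorem result (R : Type u) [CommRing R] [HenselianLocalRing R]
    (C₀ : Type u) [CommRing C₀] [HopfAlgebra (IsLocalRing.ResidueField R) C₀] [Module.Finite (IsLocalRing.ResidueField R) C₀]
    (h₀ : IsMultType (IsLocalRing.ResidueField R) C₀) :
    ∃ (C : Type u) (_ : CommRing C) (_ : HopfAlgebra R C), Module.Finite R C ∧ IsIsotrivial R C ∧
      Nonempty ((IsLocalRing.ResidueField R ⊗[R] C) ≃ₐc[IsLocalRing.ResidueField R] C₀) := by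
  classical
  haveI : ConnectedSpace (PrimeSpectrum R) := by
    refine connectedSpace_iff_clopen.2 ⟨⟨IsLocalRing.closedPoint R⟩, fun U hU => ?_⟩
    have key : ∀ (V : Set (PrimeSpectrum R)), IsOpen V → IsLocalRing.closedPoint R ∈ V → V = Set.univ := fun V hV hc =>
      Set.eq_univ_of_forall fun x => (IsLocalRing.specializes_closedPoint x).mem_open hV hc
    by_cases hc : IsLocalRing.closedPoint R ∈ U
    · exact Or.inr (key U hU.isOpen hc)
    · exact Or.inl (Set.compl_univ_iff.1 (key _ hU.compl.isOpen hc))
  haveI : ConnectedSpace (PrimeSpectrum (IsLocalRing.ResidueField R)) := inferInstance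
  haveI := Groth.Agent.Lib.OT67.MultFinite.projective h₀
  haveI := Groth.Agent.Lib.OT67.MultFinite.isCocomm h₀
  haveI := Groth.Agent.Lib.OT67.MultFinite.etale_dual h₀
  obtain ⟨T, _, _, _, _, ⟨θ⟩⟩ := Groth.Agent.S0518.result R (CartDual.D (IsLocalRing.ResidueField R) C₀)
  letI : Algebra R (CartDual.D (IsLocalRing.ResidueField R) C₀) :=
    Algebra.compHom _ (algebraMap R (IsLocalRing.ResidueField R))
  haveI : IsScalarTower R (IsLocalRing.ResidueField R) (CartDual.D (IsLocalRing.ResidueField R) C₀) :=
    IsScalarTower.of_algebraMap_eq fun _ => rfl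
  let π : T →ₐ[R] CartDual.D (IsLocalRing.ResidueField R) C₀ :=
    ((θ : IsLocalRing.ResidueField R ⊗[R] T →ₐ[IsLocalRing.ResidueField R] _).restrictScalars R).comp
      Algebra.TensorProduct.includeRight
  have hπ : Function.Bijective (Groth.Agent.Lib.OT67.HenselLift.red π) := by
    have h : Groth.Agent.Lib.OT67.HenselLift.red π = (θ : IsLocalRing.ResidueField R ⊗[R] T →ₐ[IsLocalRing.ResidueField R] _) :=
      Algebra.TensorProduct.ext' fun s x => by
        rw [show s ⊗ₜ[R] x = s • ((1 : IsLocalRing.ResidueField R) ⊗ₜ[R] x) by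
          rw [TensorProduct.smul_tmul', smul_eq_mul, mul_one], map_smul, map_smul,
          Groth.Agent.Lib.OT67.HenselLift.red_one_tmul]
        rfl
    rw [h]
    exact θ.bijective
  obtain ⟨C, _, _, hf, _, _, het, ⟨e⟩⟩ :=
    Groth.Agent.Lib.OT67.HenselLift.exists_hopf (CartDual.D (IsLocalRing.ResidueField R) C₀) π hπ
  haveI := het
  let ev := @BialgEquiv.ofBijective (IsLocalRing.ResidueField R) C₀
    (CartDual.D (IsLocalRing.ResidueField R) (CartDual.D (IsLocalRing.ResidueField R) C₀)) _ _ _ _ _
    (CartDual.eval (IsLocalRing.ResidueField R) C₀) (Groth.Agent.Lib.OT67.Triple.eval_bijective C₀)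
  exact ⟨C, inferInstance, inferInstance, hf,
    Groth.Agent.Lib.OT67.SplitMult.isIsotrivial_of_etale_dual C, ⟨e.trans ev.symm⟩⟩

end Groth.Agent.S6072
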