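import Groth.Statements.S6074
import Groth.Agent.Lib.GenSub.Bounded
import Groth.Agent.Lib.GenSub.Connected
import Groth.Agent.Lib.ActSep.CompQC

set_option autoImplicit false
universe u
open CategoryTheory CategoryTheory.Limits MonoidalCategory CartesianMonoidalCategory MonObj GrpObj AlgebraicGeometry
open SGA3

namespace Groth.Agent.S6074

/-- Let k be a field, G a group scheme locally of finite type over k, X a k-scheme of finite type,
geometrically reduced and geometrically connected, and f : X → G a k-morphism whose image contains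
the unit point of G. Let i : Γ → G be the smallest closed subgroup scheme of G through which f
factors. Then there is a natural number N such that the underlying set of Γ is the set of points of
G lying under a word of length N in f: a point g of G is in the image of i if and only if there are
a k-scheme T, a point p of T, T-valued points x_1, …, x_N of X and signs such that the T-valued
point f(x_1)^{±1} ⋯ f(x_N)^{±1} of G maps p to g. (The set of points of G lying under words of
length exactly N is the image of the N-th iterated word morphism X^N → G built from f and its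
inverse.) -/
theorem result (k : Type u) [Field k]
    (G X : Over (Spec (CommRingCat.of k))) [GrpObj G] [LocallyOfFiniteType G.hom]
    [LocallyOfFiniteType X.hom] [QuasiCompact X.hom] [GeometricallyReduced X.hom] [GeometricallyConnected X.hom]
    (f : X ⟶ G) (he : ∃ x : X.left, f.left.base x ∈ Set.range (η[G] : 𝟙_ (Over (Spec (CommRingCat.of k))) ⟶ G).left.base)
    (Γ : Over (Spec (CommRingCat.of k))) [GrpObj Γ] (i : Γ ⟶ G) [IsMonHom i] [IsClosedImmersion i.left]
    (hf : ∃ f' : X ⟶ Γ, f' ≫ i = f)
    (hmin : ∀ (Γ' : Over (Spec (CommRingCat.of k))) (_ : GrpObj Γ') (i' : Γ' ⟶ G), IsMonHom i' → IsClosedImmersion i'.left →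
        (∃ f'' : X ⟶ Γ', f'' ≫ i' = f) → ∃ j : Γ ⟶ Γ', j ≫ i' = i) :
    ∃ N : ℕ, Set.range i.left.base =
      {g : G.left | ∃ (T : Over (Spec (CommRingCat.of k))) (p : T.left) (x : Fin N → (T ⟶ X)) (ε : Fin N → Bool),
        ((List.ofFn fun j : Fin N => if ε j then x j ≫ f else (x j ≫ f)⁻¹).prod : T ⟶ G).left.base p = g} := by
  obtain ⟨f', hf'⟩ := hf
  subst hf'
  have : IsSeparated G.hom := Lib.GrpSch.isSeparated_of_field G
  have : LocallyOfFiniteType Γ.hom := by rw [← Over.w i]; infer_instance
  have hmono : Mono i := (Over.forget _).mono_of_mono_map (show Mono i.left from inferInstance)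
  have : ConnectedSpace Γ.left :=
    Lib.GenSub.connectedSpace_of_geometricallyConnected (f' ≫ i) he Γ i ⟨f', rfl⟩ hmin
  have : Subsingleton (Spec (CommRingCat.of k)) := inferInstanceAs (Subsingleton (PrimeSpectrum k))
  have : CompactSpace Γ.left := ⟨by
    rw [← PreconnectedSpace.connectedComponent_eq_univ (Nonempty.some inferInstance : Γ.left)]
    exact Lib.ActSep.isCompact_connectedComponent_of_subsingleton Γ (Lib.GrpSch.extBase k (AlgebraicClosure k)) _⟩
  have hqc : QuasiCompact Γ.hom := inferInstance
  obtain ⟨N, hN⟩ := Lib.GenSub.exists_wordSet_eq_univ f' (by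
    obtain ⟨x, p, hp⟩ := he
    refine ⟨x, p, i.left.isClosedEmbedding.injective ?_⟩
    rw [← Scheme.Hom.comp_apply, ← Over.comp_left, IsMonHom.one_hom]
    exact hp) (fun Γ' _ i' hi' hc' ⟨f'', hf''⟩ => by
    obtain ⟨j, hj⟩ := hmin Γ' ‹_› (i' ≫ i) inferInstance (by rw [Over.comp_left]; infer_instance)
      ⟨f'', by rw [← Category.assoc, hf'']⟩
    refine ⟨j, ?_⟩
    rw [← cancel_mono i, Category.assoc, Category.id_comp]
    exact hj)
  refine ⟨N, ?_⟩
  have hw : ∀ (T : Over (Spec (CommRingCat.of k))) (x : Fin N → (T ⟶ X)) (ε : Fin N → Bool),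
      Lib.GenSub.wprod (f' ≫ i) ε x = Lib.GenSub.wprod f' ε x ≫ i := fun T x ε => by
    let φ : (T ⟶ Γ) →* (T ⟶ G) :=
      { toFun := fun g => g ≫ i, map_one' := MonObj.one_comp i, map_mul' := fun a b => MonObj.mul_comp a b i }
    show _ = φ _
    rw [Lib.GenSub.wprod, Lib.GenSub.wprod, map_list_prod, List.map_ofFn]
    congr 2
    funext j
    show _ = φ (if ε j then x j ≫ f' else (x j ≫ f')⁻¹)
    split
    · exact (Category.assoc _ _ _).symm
    · rw [map_inv]; exact congrArg Inv.inv (Category.assoc _ _ _).symm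
  rw [← Set.image_univ, ← hN]
  ext g
  constructor
  · rintro ⟨γ, ⟨T, p, x, ε, h⟩, rfl⟩
    refine ⟨T, p, x, ε, ?_⟩
    show (Lib.GenSub.wprod (f' ≫ i) ε x).left p = _
    rw [hw, Over.comp_left, Scheme.Hom.comp_apply, h]
  · rintro ⟨T, p, x, ε, h⟩
    refine ⟨_, ⟨T, p, x, ε, rfl⟩, ?_⟩
    rw [← h]
    show i.left _ = (Lib.GenSub.wprod (f' ≫ i) ε x).left p
    rw [hw, Over.comp_left, Scheme.Hom.comp_apply]

end Groth.Agent.S6074
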