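import Groth.Statements.S6075
import Groth.Agent.Lib.GenSub.Words
import Groth.Agent.Lib.Spectral.Basic

set_option autoImplicit false
universe u
open CategoryTheory CategoryTheory.Limits MonoidalCategory CartesianMonoidalCategory MonObj GrpObj AlgebraicGeometry
open SGA3

namespace Groth.Agent.S6075

/-- Let k be an algebraically closed field, G a group scheme locally of finite type over k, X a
geometrically reduced k-scheme locally of finite type, and f : X → G a k-morphism. Consider the
k-points g of G whose underlying point lies under a word in f: there are a k-scheme T, a point p of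
T, n ≥ 0, T-valued points x_1, …, x_n of X and signs such that the T-valued point f(x_1)^{±1} ⋯
f(x_n)^{±1} of G maps p to the point of g. These k-points form exactly the subgroup of G(k)
generated by the k-points of G whose underlying point lies in the image of f. (Words of length zero
are allowed here, so that the unit is on both sides when X is empty; for nonempty X this changes
nothing, while the published statement, with words of positive length only, fails for empty X.) -/
theorem result (k : Type u) [Field k] [IsAlgClosed k]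
    (G X : Over (Spec (CommRingCat.of k))) [GrpObj G] [LocallyOfFiniteType G.hom]
    [LocallyOfFiniteType X.hom] [GeometricallyReduced X.hom] (f : X ⟶ G) :
    {g : 𝟙_ (Over (Spec (CommRingCat.of k))) ⟶ G | ∃ (n : ℕ) (T : Over (Spec (CommRingCat.of k))) (p : T.left) (p₀ : (𝟙_ (Over (Spec (CommRingCat.of k)))).left)
        (x : Fin n → (T ⟶ X)) (ε : Fin n → Bool), ((List.ofFn fun j : Fin n => if ε j then x j ≫ f else (x j ≫ f)⁻¹).prod : T ⟶ G).left.base p = g.left.base p₀} =
      ((Subgroup.closure {g : 𝟙_ (Over (Spec (CommRingCat.of k))) ⟶ G | ∃ p₀ : (𝟙_ (Over (Spec (CommRingCat.of k)))).left, g.left.base p₀ ∈ Set.range f.left.base} :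
        Subgroup (𝟙_ (Over (Spec (CommRingCat.of k))) ⟶ G)) : Set (𝟙_ (Over (Spec (CommRingCat.of k))) ⟶ G)) := by
  let Gk := 𝟙_ (Over (Spec (CommRingCat.of k))) ⟶ G
  let gens : Set Gk := {g | ∃ p₀ : (𝟙_ (Over (Spec (CommRingCat.of k)))).left, g.left.base p₀ ∈ Set.range f.left.base}
  have hx : ∀ x : 𝟙_ (Over (Spec (CommRingCat.of k))) ⟶ X, x ≫ f ∈ gens := fun x =>
    ⟨IsLocalRing.closedPoint k, x.left (IsLocalRing.closedPoint k), rfl⟩
  have hprod : ∀ (n : ℕ) (x : Fin n → (𝟙_ (Over (Spec (CommRingCat.of k))) ⟶ X)) (ε : Fin n → Bool),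
      Lib.GenSub.wprod f ε x ∈ Subgroup.closure gens := fun n x ε => Subgroup.list_prod_mem _ fun y hy => by
    obtain ⟨j, rfl⟩ := List.mem_ofFn.1 hy
    split
    · exact Subgroup.subset_closure (hx _)
    · exact inv_mem (Subgroup.subset_closure (hx _))
  refine Set.Subset.antisymm ?_ fun g hg => ?_
  · rintro g ⟨n, T, p, p₀, x, ε, h⟩
    obtain ⟨l, x', rfl, hl⟩ := Lib.GenSub.exists_list f ε x
    have hmem : g.left p₀ ∈ Set.range (Lib.GenSub.wordHom f l).left :=
      (Lib.GenSub.mem_range_iff f l _).2 ⟨T, p, x', by rw [hl]; exact h⟩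
    have := Lib.GenSub.lft_wordObj (X := X) l
    obtain ⟨w, hw⟩ := Lib.GenSub.exists_rational_lift (Lib.GenSub.wordHom f l) g p₀ hmem
    obtain ⟨u, hu⟩ := Lib.GenSub.exists_universal f l
    rw [← hw, ← hu, Lib.GenSub.comp_wprod]
    exact hprod _ _ _
  · suffices ∃ (n : ℕ) (x : Fin n → (𝟙_ (Over (Spec (CommRingCat.of k))) ⟶ X)) (ε : Fin n → Bool),
        Lib.GenSub.wprod f ε x = g by
      obtain ⟨n, x, ε, rfl⟩ := this
      exact ⟨n, _, IsLocalRing.closedPoint k, IsLocalRing.closedPoint k, x, ε, rfl⟩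
    have hb : ∀ (b : Bool) (x : 𝟙_ (Over (Spec (CommRingCat.of k))) ⟶ X) {n : ℕ}
        (x' : Fin n → (𝟙_ (Over (Spec (CommRingCat.of k))) ⟶ X)) (ε : Fin n → Bool),
        Lib.GenSub.wprod f (Fin.cons b ε) (Fin.cons x x') = Lib.GenSub.sgn f b x * Lib.GenSub.wprod f ε x' := by
      intro b x n x' ε
      rw [Lib.GenSub.wprod_succ]
      rfl
    induction hg using Subgroup.closure_induction_left with
    | one => exact ⟨0, Fin.elim0, Fin.elim0, by simp [Lib.GenSub.wprod]⟩
    | mul_left y hy z _ ih =>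
      obtain ⟨n, x', ε, rfl⟩ := ih
      obtain ⟨p₀, hp₀⟩ := hy
      obtain ⟨x, rfl⟩ := Lib.GenSub.exists_rational_lift f y p₀ hp₀
      exact ⟨n + 1, Fin.cons x x', Fin.cons true ε, hb true x x' ε⟩
    | inv_mul_cancel y hy z _ ih =>
      obtain ⟨n, x', ε, rfl⟩ := ih
      obtain ⟨p₀, hp₀⟩ := hy
      obtain ⟨x, rfl⟩ := Lib.GenSub.exists_rational_lift f y p₀ hp₀
      exact ⟨n + 1, Fin.cons x x', Fin.cons false ε, hb false x x' ε⟩

end Groth.Agent.S6075
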