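import Groth.Statements.S6076
import Groth.Agent.Lib.GenSub.Words
import Groth.Agent.Lib.AlgSpMor.Cancel
import Groth.Agent.Lib.Spectral.Basic

set_option autoImplicit false
universe u
open CategoryTheory CategoryTheory.Limits MonoidalCategory CartesianMonoidalCategory MonObj GrpObj AlgebraicGeometry
open SGA3

namespace Groth.Agent.S6076

/-- (iii) ⟹ (iv): let S be a scheme, X an S-scheme which is flat and locally of finite presentation over
S, H an S-group scheme locally of finite presentation over S with reduced fibres and quasi-compact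
underlying space, and f : X → H an S-morphism. Say that a point h of H lies under a word of length n
in f when there are an S-scheme T, a point p of T, T-valued points x_1, …, x_n of X and signs such
that the T-valued point f(x_1)^{±1} ⋯ f(x_n)^{±1} of H maps p to h. If every point of H lies under
some word in f, then there is a natural number n such that every point of H lies under a word of
length at most n. (The published statement concludes with words of one fixed length n and an
fppf-covering word morphism; for the constant group of order two over a field and f the non-trivial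
point, the points under words of length n alternate between the two points of H, so only the bound
on the length is stated here, and the covering assertion is not stated.) -/
theorem result (S : Scheme.{u}) (X H : Over S) [GrpObj H]
    [Flat X.hom] [LocallyOfFinitePresentation X.hom] [LocallyOfFinitePresentation H.hom]
    (hred : ∀ s : S, IsReduced (H.hom.fiber s)) [CompactSpace H.left] (f : X ⟶ H)
    (hsurj : ∀ h : H.left, ∃ (n : ℕ) (T : Over S) (p : T.left) (x : Fin n → (T ⟶ X)) (ε : Fin n → Bool),
      ((List.ofFn fun j : Fin n => if ε j then x j ≫ f else (x j ≫ f)⁻¹).prod : T ⟶ H).left.base p = h) :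
    ∃ n : ℕ, ∀ h : H.left, ∃ (m : ℕ) (_ : m ≤ n) (T : Over S) (p : T.left) (x : Fin m → (T ⟶ X)) (ε : Fin m → Bool),
      ((List.ofFn fun j : Fin m => if ε j then x j ≫ f else (x j ≫ f)⁻¹).prod : T ⟶ H).left.base p = h := by
  classical
  have hsurj' : ∀ h : H.left, ∃ l : List Bool, h ∈ Set.range (Lib.GenSub.wordHom f l).left := fun h => by
    obtain ⟨n, T, p, x, ε, hh⟩ := hsurj h
    obtain ⟨l, x', -, hl⟩ := Lib.GenSub.exists_list f ε x
    exact ⟨l, (Lib.GenSub.mem_range_iff f l h).2 ⟨T, p, x', by rw [hl]; exact hh⟩⟩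
  have key : ∀ V : H.left.affineOpens, ∃ n : ℕ, ∀ h ∈ V.1, ∃ l : List Bool, l.length ≤ n ∧
      h ∈ Set.range (Lib.GenSub.wordHom f l).left := by
    intro V
    have : IsAffine (V.1 : Scheme.{u}) := V.2
    let Idx := Σ l : List Bool, {U : (Lib.GenSub.wordObj X l).left.affineOpens // U.1 ≤ (Lib.GenSub.wordHom f l).left ⁻¹ᵁ V.1}
    let mp (a : Idx) : (a.2.1.1 : Scheme.{u}) ⟶ V.1 := IsOpenImmersion.lift V.1.ι
      (a.2.1.1.ι ≫ (Lib.GenSub.wordHom f a.1).left) (by
        rintro _ ⟨z, rfl⟩
        rw [Scheme.Opens.range_ι]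
        exact a.2.2 z.2)
    have hmp : ∀ a, mp a ≫ V.1.ι = a.2.1.1.ι ≫ (Lib.GenSub.wordHom f a.1).left :=
      fun a => IsOpenImmersion.lift_fac _ _ _
    have hC : ∀ a, Topology.IsConstructible (Set.range (mp a)) := by
      intro a
      have : IsAffine (a.2.1.1 : Scheme.{u}) := a.2.1.2
      have := Lib.GenSub.lfp_wordObj (X := X) a.1
      have : LocallyOfFinitePresentation ((Lib.GenSub.wordHom f a.1).left ≫ H.hom) := by
        rw [Over.w]; infer_instance
      have : LocallyOfFinitePresentation (Lib.GenSub.wordHom f a.1).left := Lib.AlgSpMor.Cancel.locallyOfFinitePresentation_of_comp (g := H.hom) ‹_› inferInstance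
      have : LocallyOfFinitePresentation (mp a ≫ V.1.ι) := by rw [hmp]; infer_instance
      have : LocallyOfFinitePresentation (mp a) := Lib.AlgSpMor.Cancel.locallyOfFinitePresentation_of_comp (g := V.1.ι) ‹_› inferInstance
      rw [← Set.image_univ]
      exact Scheme.Hom.isConstructible_image (mp a) Topology.IsConstructible.univ
    have hcov : (Set.univ : Set ↥(V.1 : Scheme.{u})) ⊆ ⋃ a, Set.range (mp a) := by
      intro v _
      obtain ⟨l, w, hw⟩ := hsurj' (V.1.ι v)
      obtain ⟨U, hU, hwU, hUV⟩ := exists_isAffineOpen_mem_and_subset (x := w)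
        (U := (Lib.GenSub.wordHom f l).left ⁻¹ᵁ V.1) (show (Lib.GenSub.wordHom f l).left w ∈ V.1 from hw ▸ v.2)
      let a : Idx := ⟨l, ⟨⟨U, hU⟩, hUV⟩⟩
      refine Set.mem_iUnion.2 ⟨a, (⟨w, hwU⟩ : U), V.1.ι.isOpenEmbedding.injective ?_⟩
      exact (congrArg (fun q => q (⟨w, hwU⟩ : U)) (congrArg (fun q : (a.2.1.1 : Scheme.{u}) ⟶ H.left => (q : _ → _)) (hmp a))).trans hw
    have : CompactSpace ↥(V.1 : Scheme.{u}) := inferInstance
    have : SpectralSpace ↥(V.1 : Scheme.{u}) := {}
    obtain ⟨t, ht⟩ : ∃ t : Finset Idx, (Set.univ : Set ↥(V.1 : Scheme.{u})) ⊆ ⋃ a ∈ t, Set.range (mp a) :=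
      @IsCompact.elim_finite_subcover _ (constructibleTopology _) _ _
        (@isCompact_univ _ (constructibleTopology _) Lib.Spectral.Basic.compactSpace_cons) _
        (fun a => (Lib.Spectral.Basic.isClopen_cons_of_isConstructible (hC a)).2) hcov
    refine ⟨t.sup fun a => a.1.length, fun h hh => ?_⟩
    obtain ⟨a, ha, z, hz⟩ := Set.mem_iUnion₂.1 (ht (Set.mem_univ (⟨h, hh⟩ : ↥(V.1 : Scheme.{u}))))
    refine ⟨a.1, Finset.le_sup (f := fun a : Idx => a.1.length) ha, a.2.1.1.ι z, ?_⟩
    rw [← Scheme.Hom.comp_apply, ← hmp, Scheme.Hom.comp_apply, hz]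
    rfl
  obtain ⟨s, hs⟩ := isCompact_univ.elim_finite_subcover (fun V : H.left.affineOpens => (V.1 : Set H.left))
    (fun V => V.1.2) (fun x _ => by
      obtain ⟨V, hV, hxV, -⟩ := exists_isAffineOpen_mem_and_subset (U := ⊤) (x := x) trivial
      exact Set.mem_iUnion.2 ⟨⟨V, hV⟩, hxV⟩)
  choose n hn using key
  refine ⟨s.sup n, fun h => ?_⟩
  obtain ⟨V, hV, hhV⟩ := Set.mem_iUnion₂.1 (hs (Set.mem_univ h))
  obtain ⟨l, hl, hmem⟩ := hn V h hhV
  obtain ⟨T, p, x, hx⟩ := (Lib.GenSub.mem_range_iff f l h).1 hmem
  exact ⟨l.length, hl.trans (Finset.le_sup hV), T, p, x, l.get, hx⟩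

end Groth.Agent.S6076
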