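import Groth.Statements.S6077
import Groth.Agent.Lib.GenSub.Bounded

set_option autoImplicit false
universe u
open CategoryTheory CategoryTheory.Limits MonoidalCategory CartesianMonoidalCategory MonObj GrpObj AlgebraicGeometry
open SGA3

namespace Groth.Agent.S6077

open scoped Pointwise

/-- Let k be an algebraically closed field, G a group scheme locally of finite type over k, X a
geometrically reduced k-scheme locally of finite type, f : X → G a k-morphism, and h : H → G a
closed subgroup scheme whose underlying set is contained in the image of f. Let i : Γ → G be the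
smallest closed subgroup scheme of G through which f factors. Say that a point of G lies under a
word of length n in f when there are a k-scheme T, a point p of T, T-valued points x_1, …, x_n of X
and signs such that f(x_1)^{±1} ⋯ f(x_n)^{±1} maps p to it; let Γ'₀ be the set of k-points of G
whose point lies under some word (of any length n ≥ 0). Suppose that Γ'₀ is covered by finitely many
left translates a · H(k) of the image of H(k) in G(k), with the a in Γ'₀ (H(k) has finite index in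
Γ'₀). Then there is m such that the underlying set of Γ is the set of points of G lying under a word
of length m, and there are finitely many k-points a_1, …, a_r of G such that the underlying set of Γ
is the union of the left translates a_j · H of the underlying set of H. -/
theorem result (k : Type u) [Field k] [IsAlgClosed k]
    (G X H : Over (Spec (CommRingCat.of k))) [GrpObj G] [GrpObj H] [LocallyOfFiniteType G.hom]
    [LocallyOfFiniteType X.hom] [GeometricallyReduced X.hom] (f : X ⟶ G)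
    (h : H ⟶ G) [IsMonHom h] [IsClosedImmersion h.left] (hH : Set.range h.left.base ⊆ Set.range f.left.base)
    (Γ : Over (Spec (CommRingCat.of k))) [GrpObj Γ] (i : Γ ⟶ G) [IsMonHom i] [IsClosedImmersion i.left]
    (hf : ∃ f' : X ⟶ Γ, f' ≫ i = f)
    (hmin : ∀ (Γ' : Over (Spec (CommRingCat.of k))) (_ : GrpObj Γ') (i' : Γ' ⟶ G), IsMonHom i' → IsClosedImmersion i'.left →
        (∃ f'' : X ⟶ Γ', f'' ≫ i' = f) → ∃ j : Γ ⟶ Γ', j ≫ i' = i)
    (hfin : ∃ F : Finset (𝟙_ (Over (Spec (CommRingCat.of k))) ⟶ G),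
      (∀ a ∈ F, ∃ (n : ℕ) (T : Over (Spec (CommRingCat.of k))) (p : T.left) (p₀ : (𝟙_ (Over (Spec (CommRingCat.of k)))).left) (x : Fin n → (T ⟶ X)) (ε : Fin n → Bool),
        ((List.ofFn fun j : Fin n => if ε j then x j ≫ f else (x j ≫ f)⁻¹).prod : T ⟶ G).left.base p = a.left.base p₀) ∧
      ∀ g : 𝟙_ (Over (Spec (CommRingCat.of k))) ⟶ G, (∃ (n : ℕ) (T : Over (Spec (CommRingCat.of k))) (p : T.left) (p₀ : (𝟙_ (Over (Spec (CommRingCat.of k)))).left) (x : Fin n → (T ⟶ X)) (ε : Fin n → Bool),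
        ((List.ofFn fun j : Fin n => if ε j then x j ≫ f else (x j ≫ f)⁻¹).prod : T ⟶ G).left.base p = g.left.base p₀) →
        ∃ a ∈ F, ∃ y : 𝟙_ (Over (Spec (CommRingCat.of k))) ⟶ H, g = a * (y ≫ h)) :
    (∃ m : ℕ, Set.range i.left.base =
      {g : G.left | ∃ (T : Over (Spec (CommRingCat.of k))) (p : T.left) (x : Fin m → (T ⟶ X)) (ε : Fin m → Bool),
        ((List.ofFn fun j : Fin m => if ε j then x j ≫ f else (x j ≫ f)⁻¹).prod : T ⟶ G).left.base p = g}) ∧
    ∃ F : Finset (𝟙_ (Over (Spec (CommRingCat.of k))) ⟶ G), Set.range i.left.base =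
      ⋃ a ∈ F, (fun z => ((λ_ G).inv ≫ (a ▷ G) ≫ μ[G]).left.base z) '' Set.range h.left.base := by
  classical
  obtain ⟨f', hf'⟩ := hf
  obtain ⟨F, hF, hcov⟩ := hfin
  refine ⟨?_, ?_⟩
  all_goals
    have : IsSeparated G.hom := Lib.GrpSch.isSeparated_of_field G
    have : JacobsonSpace G.left := LocallyOfFiniteType.jacobsonSpace G.hom
    have : JacobsonSpace X.left := LocallyOfFiniteType.jacobsonSpace X.hom
    have : LocallyOfFiniteType H.hom := by rw [← Over.w h]; infer_instance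
    have : LocallyOfFiniteType Γ.hom := by rw [← Over.w i]; infer_instance
    let Y : Set (𝟙_ (Over (Spec (CommRingCat.of k))) ⟶ G) := Lib.GenSub.signed f (𝟙_ _)
    let p₀ : ↥(𝟙_ (Over (Spec (CommRingCat.of k)))).left := IsLocalRing.closedPoint k
    -- words on rational points
    have hword : ∀ (n : ℕ) (g : 𝟙_ (Over (Spec (CommRingCat.of k))) ⟶ G),
        (∃ (T : Over (Spec (CommRingCat.of k))) (p : T.left) (q : ↥(𝟙_ (Over (Spec (CommRingCat.of k)))).left)
          (x : Fin n → (T ⟶ X)) (ε : Fin n → Bool), (Lib.GenSub.wprod f ε x).left p = g.left q) ↔ g ∈ Y ^ n := by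
      intro n g
      constructor
      · rintro ⟨T, p, q, x, ε, hh⟩
        obtain ⟨l, x', rfl, hl⟩ := Lib.GenSub.exists_list f ε x
        have hmem : g.left q ∈ Set.range (Lib.GenSub.wordHom f l).left :=
          (Lib.GenSub.mem_range_iff f l _).2 ⟨T, p, x', by rw [hl]; exact hh⟩
        have := Lib.GenSub.lft_wordObj (X := X) l
        obtain ⟨w, hw⟩ := Lib.GenSub.exists_rational_lift (Lib.GenSub.wordHom f l) g q hmem
        obtain ⟨u, hu⟩ := Lib.GenSub.exists_universal f l
        refine (Lib.GenSub.mem_signed_pow_iff f).2 ⟨fun j => w ≫ u j, l.get, ?_⟩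
        rw [← Lib.GenSub.comp_wprod, hu, hw]
      · intro hg
        obtain ⟨x, ε, rfl⟩ := (Lib.GenSub.mem_signed_pow_iff f).1 hg
        exact ⟨_, p₀, p₀, x, ε, rfl⟩
    have hY : ∀ g : 𝟙_ (Over (Spec (CommRingCat.of k))) ⟶ G, g.left p₀ ∈ Set.range f.left → g ∈ Y := fun g hg => by
      obtain ⟨w, hw⟩ := Lib.GenSub.exists_rational_lift f g p₀ hg
      exact Or.inl ⟨w, hw⟩
    have hYh : ∀ y : 𝟙_ (Over (Spec (CommRingCat.of k))) ⟶ H, y ≫ h ∈ Y := fun y =>
      hY _ (hH ⟨y.left p₀, rfl⟩)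
    have h1Y : (1 : 𝟙_ (Over (Spec (CommRingCat.of k))) ⟶ G) ∈ Y := by
      rw [← MonObj.one_comp h]; exact hYh 1
    have hexN : ∀ a ∈ F, ∃ n, a ∈ Y ^ n := fun a ha => by
      obtain ⟨n, T, p, q, x, ε, hh⟩ := hF a ha
      exact ⟨n, (hword n a).1 ⟨T, p, q, x, ε, hh⟩⟩
    -- the union of translates
    let τ : (𝟙_ (Over (Spec (CommRingCat.of k))) ⟶ G) → (G ⟶ G) := fun a => (λ_ G).inv ≫ (a ▷ G) ≫ μ[G]
    have hτ : ∀ a, τ a = (toUnit G ≫ a) * 𝟙 G := fun a => by
      show (λ_ G).inv ≫ (a ▷ G) ≫ μ[G] = _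
      rw [Hom.mul_def, ← Category.assoc]
      congr 1
      refine CartesianMonoidalCategory.hom_ext _ _ ?_ ?_
      · rw [Category.assoc, whiskerRight_fst, ← Category.assoc, lift_fst]
        congr 1
        exact toUnit_unique _ _
      · rw [Category.assoc, whiskerRight_snd, lift_snd, leftUnitor_inv_snd]
    have hτc : ∀ a b, τ a ≫ τ b = τ (b * a) := fun a b => by
      simp only [hτ, MonObj.comp_mul, Category.comp_id]
      rw [← Category.assoc, toUnit_unique (((toUnit G ≫ a) * 𝟙 G) ≫ toUnit G) (toUnit G), _root_.mul_assoc]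
    have hτ1 : τ 1 = 𝟙 G := by rw [hτ, MonObj.comp_one, _root_.one_mul]
    have hτpt : ∀ a (g : 𝟙_ (Over (Spec (CommRingCat.of k))) ⟶ G), g ≫ τ a = a * g := fun a g => by
      rw [hτ, MonObj.comp_mul, Category.comp_id, ← Category.assoc, toUnit_unique (g ≫ toUnit G) (𝟙 _),
        Category.id_comp]
    have hclosed : ∀ a, IsClosed ((τ a).left '' Set.range h.left) := fun a => by
      have hinv : ∀ b, (τ b).left ∘ (τ b⁻¹).left = id ∧ (τ b⁻¹).left ∘ (τ b).left = id := fun b => by
        constructor <;> funext z <;> simp only [Function.comp_apply, id_eq] <;>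
          rw [← Scheme.Hom.comp_apply, ← Over.comp_left, hτc] <;> simp [hτ1]
      rw [show (τ a).left '' Set.range h.left = (τ a⁻¹).left ⁻¹' Set.range h.left from
        congrFun (Set.image_eq_preimage_of_inverse (f := ⇑(τ a).left) (g := ⇑(τ a⁻¹).left) (congrFun (hinv a).2) (congrFun (hinv a).1)) _]
      exact h.left.isClosedEmbedding.isClosed_range.preimage (τ a⁻¹).left.continuous
    let U : Set G.left := ⋃ a ∈ F, (τ a).left '' Set.range h.left
    have hUc : IsClosed U := F.finite_toSet.isClosed_biUnion fun a _ => hclosed a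
    let N := Subgroup.closure Y
    have hYinv : ∀ g ∈ Y, g⁻¹ ∈ Y := fun g hg => hg.elim
      (fun h => Or.inr (by rw [Set.mem_inv, _root_.inv_inv]; exact h)) (fun h => Or.inl (Set.mem_inv.1 h))
    have hNU : ∀ g ∈ N, g.left p₀ ∈ U := fun g hg => by
      obtain ⟨n, hn⟩ := Lib.Solv.exists_mem_pow hYinv hg
      obtain ⟨T, p, q, x, ε, hh⟩ := (hword n g).2 hn
      obtain ⟨a, ha, y, rfl⟩ := hcov g ⟨n, T, p, q, x, ε, hh⟩
      refine Set.mem_biUnion (x := a) ha ⟨(y ≫ h).left p₀, ⟨y.left p₀, rfl⟩, ?_⟩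
      rw [← Scheme.Hom.comp_apply, ← Over.comp_left, hτpt]
    have hUN : ∀ g : 𝟙_ (Over (Spec (CommRingCat.of k))) ⟶ G, g.left p₀ ∈ U → g ∈ N := fun g hg => by
      obtain ⟨a, ha, z, ⟨w, rfl⟩, hz⟩ := Set.mem_iUnion₂.1 hg
      have hmem : (g ≫ τ a⁻¹).left p₀ ∈ Set.range h.left := by
        rw [Over.comp_left, Scheme.Hom.comp_apply, ← hz, ← Scheme.Hom.comp_apply (τ a).left, ← Over.comp_left,
          hτc, inv_mul_cancel, hτ1]
        exact ⟨w, rfl⟩
      obtain ⟨y, hy⟩ := Lib.GenSub.exists_rational_lift h (g ≫ τ a⁻¹) p₀ hmem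
      obtain ⟨n, hn⟩ := hexN a ha
      rw [hτpt] at hy
      have : g = a * (y ≫ h) := by rw [hy, mul_inv_cancel_left]
      rw [this]
      refine N.mul_mem ?_ (Subgroup.subset_closure (hYh y))
      obtain ⟨x, ε, rfl⟩ := (Lib.GenSub.mem_signed_pow_iff f).1 hn
      refine Subgroup.list_prod_mem _ fun t ht => ?_
      obtain ⟨l, rfl⟩ := List.mem_ofFn.1 ht
      split
      · exact Subgroup.subset_closure (Or.inl ⟨_, rfl⟩)
      · exact Subgroup.inv_mem _ (Subgroup.subset_closure (Or.inl ⟨_, rfl⟩))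
    have hgood : ∀ (W : Over (Spec (CommRingCat.of k))) (c : W ⟶ G), LocallyOfFiniteType W.hom →
        (∀ y : 𝟙_ (Over (Spec (CommRingCat.of k))) ⟶ W, y ≫ c ∈ N) → Set.range c.left ⊆ U := by
      rintro W c h1 hc _ ⟨w, rfl⟩
      by_contra hw
      have : JacobsonSpace W.left := LocallyOfFiniteType.jacobsonSpace W.hom
      obtain ⟨w', hw', hwc⟩ := nonempty_inter_closedPoints (Z := c.left ⁻¹' Uᶜ) ⟨w, hw⟩
        (hUc.isOpen_compl.preimage c.left.continuous).isLocallyClosed
      have h3 := hNU _ (hc (Over.homMk (pointOfClosedPoint W.hom w' hwc) (pointOfClosedPoint_comp _ _ _)))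
      refine hw' ?_
      rw [Over.comp_left, Scheme.Hom.comp_apply] at h3
      exact (pointOfClosedPoint_apply W.hom w' hwc p₀) ▸ h3
    have hiU : Set.range i.left ⊆ U := by
      obtain ⟨Γ₀, hG₀, i₀, hi₀, hc₀, hf₀, -, -, hdense⟩ := Lib.GenSub.exists_smallest_of f
        (fun W c => LocallyOfFiniteType W.hom ∧ ∀ y : 𝟙_ (Over (Spec (CommRingCat.of k))) ⟶ W, y ≫ c ∈ N)
        ⟨inferInstance, fun y => Subgroup.subset_closure (Or.inl ⟨y, rfl⟩)⟩
        ⟨inferInstanceAs (LocallyOfFiniteType (𝟙 _)), fun y => by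
          rw [show η[G] = (1 : 𝟙_ _ ⟶ G) by rw [Hom.one_def, toUnit_unit, Category.id_comp], MonObj.comp_one]
          exact N.one_mem⟩
        (fun W c ⟨h1, h2⟩ => ⟨h1, fun y => by rw [GrpObj.comp_inv]; exact N.inv_mem (h2 y)⟩)
        (fun W W' c c' _ _ ⟨h1, h2⟩ ⟨h1', h2'⟩ => by
          have := Lib.GrpSch.fst_left_of (P := @LocallyOfFiniteType) W h1'
          refine ⟨by rw [← Over.w (fst W W')]; infer_instance, fun y => ?_⟩
          rw [show (c ⊗ₘ c') ≫ μ[G] = (fst W W' ≫ c) * (snd W W' ≫ c') by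
            rw [Hom.mul_def, ← lift_fst_comp_snd_comp], MonObj.comp_mul, ← Category.assoc, ← Category.assoc]
          exact N.mul_mem (h2 _) (h2' _))
      obtain ⟨r, hr⟩ := hmin Γ₀ hG₀ i₀ hi₀ hc₀ hf₀
      rintro _ ⟨γ, rfl⟩
      rw [← hUc.closure_eq, mem_closure_iff]
      intro O hO hgO
      obtain ⟨W, c, ⟨-, hW1, hW2⟩, w, hw⟩ := hdense ⟨i₀.left ⁻¹' O, hO.preimage i₀.left.continuous⟩
        ⟨r.left γ, by
          show i₀.left (r.left γ) ∈ O
          rw [← Scheme.Hom.comp_apply, ← Over.comp_left, hr]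
          exact hgO⟩
      exact ⟨i₀.left (c.left w), hw, hgood W (c ≫ i₀) hW1 hW2 ⟨w, rfl⟩⟩
    let φ : ∀ T : Over (Spec (CommRingCat.of k)), (T ⟶ Γ) →* (T ⟶ G) := fun T =>
      { toFun := fun g => g ≫ i, map_one' := MonObj.one_comp i, map_mul' := fun a b => MonObj.mul_comp a b i }
    have hUi : U ⊆ Set.range i.left := by
      have hpts : ∀ g ∈ N, g ∈ (φ (𝟙_ _)).range := fun g hg => by
        refine (Subgroup.closure_le _).2 ?_ hg
        have : ∀ x : 𝟙_ (Over (Spec (CommRingCat.of k))) ⟶ X, x ≫ f ∈ (φ (𝟙_ _)).range := fun x =>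
          ⟨x ≫ f', by show (x ≫ f') ≫ i = _; rw [Category.assoc, hf']⟩
        rintro _ (⟨x, rfl⟩ | hx)
        · exact this x
        · obtain ⟨x, hx⟩ := hx
          exact (φ (𝟙_ _)).range.inv_mem_iff.1 (hx ▸ this x)
      intro z hz
      by_contra hzi
      obtain ⟨z', ⟨hz', hz''⟩, hzc⟩ := nonempty_inter_closedPoints (Z := U ∩ (Set.range i.left)ᶜ) ⟨z, hz, hzi⟩
        (hUc.isLocallyClosed.inter i.left.isClosedEmbedding.isClosed_range.isOpen_compl.isLocallyClosed)
      let v : 𝟙_ (Over (Spec (CommRingCat.of k))) ⟶ G :=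
        Over.homMk (pointOfClosedPoint G.hom z' hzc) (pointOfClosedPoint_comp _ _ _)
      have hv : v.left p₀ = z' := pointOfClosedPoint_apply G.hom z' hzc p₀
      obtain ⟨γ, hγ⟩ := hpts v (hUN v (hv.symm ▸ hz'))
      refine hz'' ⟨γ.left p₀, ?_⟩
      rw [← hv, ← hγ]
      rfl
  · let n : (𝟙_ (Over (Spec (CommRingCat.of k))) ⟶ G) → ℕ := fun a => if h : ∃ n, a ∈ Y ^ n then h.choose else 0
    refine ⟨F.sup n + 1, Set.Subset.antisymm (fun g hg => ?_) ?_⟩
    · obtain ⟨a, ha, z, ⟨w, rfl⟩, rfl⟩ := Set.mem_iUnion₂.1 (hiU hg)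
      have hn : a ∈ Y ^ n a := by
        simp only [n, dif_pos (hexN a ha)]
        exact (hexN a ha).choose_spec
      obtain ⟨x₁, hx₁⟩ := hH ⟨w, rfl⟩
      obtain ⟨q, hq₁, hq₂⟩ := Scheme.Pullback.exists_preimage_pullback (f := f.left) (g := h.left) x₁ w hx₁
      let T : Over (Spec (CommRingCat.of k)) := Over.mk (pullback.snd f.left h.left ≫ H.hom)
      let xT : T ⟶ X := Over.homMk (pullback.fst f.left h.left) (by
        show pullback.fst f.left h.left ≫ X.hom = pullback.snd f.left h.left ≫ H.hom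
        rw [← Over.w f, ← Over.w h, pullback.condition_assoc])
      let yT : T ⟶ H := Over.homMk (pullback.snd f.left h.left) rfl
      have hxy : xT ≫ f = yT ≫ h := Over.OverMorphism.ext pullback.condition
      let ψ : (𝟙_ (Over (Spec (CommRingCat.of k))) ⟶ G) →* (T ⟶ G) :=
        { toFun := fun g => toUnit T ≫ g, map_one' := MonObj.comp_one _, map_mul' := MonObj.comp_mul _ }
      have hψ : ψ '' Y ⊆ Lib.GenSub.signed f T := by
        rintro _ ⟨g, ⟨x, rfl⟩ | hg, rfl⟩
        · exact Or.inl ⟨toUnit T ≫ x, Category.assoc _ _ _⟩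
        · obtain ⟨x, hx⟩ := hg
          exact Or.inr ⟨toUnit T ≫ x, by rw [← map_inv]; exact (Category.assoc _ _ _).trans (congrArg (toUnit T ≫ ·) hx)⟩
      have hmem : ψ a * (yT ≫ h) ∈ Lib.GenSub.signed f T ^ (F.sup n + 1) := by
        refine Set.pow_subset_pow_right (hψ ⟨1, h1Y, map_one ψ⟩) (Nat.add_le_add_right (Finset.le_sup ha) 1) ?_
        rw [pow_succ]
        refine Set.mul_mem_mul ?_ (Or.inl ⟨xT, hxy⟩)
        exact Set.pow_subset_pow_left hψ (Set.image_pow ψ Y (n a) ▸ ⟨a, hn, rfl⟩)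
      obtain ⟨x, ε, hxε⟩ := (Lib.GenSub.mem_signed_pow_iff f).1 hmem
      refine ⟨T, q, x, ε, ?_⟩
      show (Lib.GenSub.wprod f ε x).left q = _
      rw [hxε]
      have e : ψ a * (yT ≫ h) = (yT ≫ h) ≫ τ a := by
        rw [hτ, MonObj.comp_mul, Category.comp_id, ← Category.assoc _ (toUnit G),
          toUnit_unique ((yT ≫ h) ≫ toUnit G) (toUnit T)]
        rfl
      rw [e]
      show (τ a).left (h.left (pullback.snd f.left h.left q)) = _
      rw [hq₂]
    · rintro g ⟨T, p, x, ε, hh⟩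
      refine ⟨(Lib.GenSub.wprod f' ε x).left p, ?_⟩
      rw [← hh]
      show _ = (Lib.GenSub.wprod f ε x).left p
      rw [← Scheme.Hom.comp_apply, ← Over.comp_left]
      suffices Lib.GenSub.wprod f' ε x ≫ i = Lib.GenSub.wprod f ε x by rw [this]
      show φ T _ = _
      rw [Lib.GenSub.wprod, Lib.GenSub.wprod, map_list_prod, List.map_ofFn]
      congr 2
      funext j
      show φ T (if ε j then x j ≫ f' else (x j ≫ f')⁻¹) = _
      split
      · exact (Category.assoc _ _ _).trans (congrArg (x j ≫ ·) hf')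
      · rw [map_inv]; exact congrArg Inv.inv ((Category.assoc _ _ _).trans (congrArg (x j ≫ ·) hf'))
  · exact ⟨F, Set.Subset.antisymm hiU hUi⟩

end Groth.Agent.S6077
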