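import Groth.Statements.S6080
import Groth.Agent.Lib.Hopf.RegularDimTwo
import Groth.Agent.Lib.Hopf.DoubleDual
import Groth.Agent.Lib.Hopf.SubHopf

set_option autoImplicit false
universe u
open TensorProduct
open SGA3

namespace Groth.Agent.S6080

/-- Let R be a Noetherian regular ring of Krull dimension at most 2 and A a commutative Hopf algebra
over R which is flat as an R-module, so that G = Spec A is an affine flat R-group scheme, not
necessarily of finite type. Then every finite subset F of A is contained in a finite-type
sub-Hopf-algebra of the following form: there are a natural number d and a d × d matrix (a_ij) of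
elements of A with Δ(a_ij) = Σ_l a_il ⊗ a_lj and ε(a_ij) = δ_ij (a matrix corepresentation, i.e. a
homomorphism G → GL_{d,R}) whose determinant is a unit, such that F lies in the R-subalgebra
generated by the entries a_ij together with the inverse of det(a_ij) (the affine algebra of the
schematic image of G in GL_{d,R}). Consequently A is the directed union of finite-type
sub-Hopf-algebras each of which is a quotient of the Hopf algebra of some GL_{d,R}. (The published
statement asserts that A is a filtered union of sub-Hopf-algebras of finite type which are moreover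
flat over R. The published proof produces the sub-Hopf-algebras described here, as coefficient
algebras of finite projective subcomodules, and does not address their flatness; they need not be
flat: for the additive group over R = k[x, y], so A = R[s] with s primitive, and the subcomodule
spanned by 1, x s and y s, the construction gives the subalgebra R[x s, y s], which as an R-module
is the direct sum of the powers of the ideal (x, y) and is not flat. Flatness of the
sub-Hopf-algebras is therefore not asserted here. The published statement is over a Noetherian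
regular scheme of dimension at most 2; this row is the affine case.) -/
theorem result (R : Type u) [CommRing R] [IsRegularRing R]
    (hdim : ringKrullDim R ≤ 2) (A : Type u) [CommRing A] [HopfAlgebra R A] [Module.Flat R A] (F : Finset A) :
    ∃ (d : ℕ) (a : Matrix (Fin d) (Fin d) A),
      (∀ i j, CoalgebraStruct.comul (R := R) (a i j) = ∑ l, a i l ⊗ₜ[R] a l j) ∧
      (∀ i j, CoalgebraStruct.counit (R := R) (a i j) = if i = j then 1 else 0) ∧
      ∃ u : A, u * a.det = 1 ∧ (↑F : Set A) ⊆ Algebra.adjoin R (Set.range (fun p : Fin d × Fin d => a p.1 p.2) ∪ {u}) := by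
  obtain ⟨W, hW, hFW, hfg⟩ := Groth.Agent.Lib.Hopf.ComodRing.exists_fg_subcomod (C := A) (V := A)
    (Submodule.span R (F : Set A)) ⟨F, rfl⟩
  let cW := Groth.Agent.Lib.Hopf.SubHopf.subComod hW
  have : Module.Finite R W := Module.Finite.iff_fg.2 hfg
  have : Module.FinitePresentation R W := Module.finitePresentation_of_finite R W
  obtain ⟨hproj, hfin⟩ := Groth.Agent.Lib.Hopf.RegularDimTwo.projective_dual hdim W
  obtain ⟨cV, hcV⟩ := Groth.Agent.Lib.Hopf.DoubleDual.exists_comod (R := R) (C := A) (W := W)
  have := Groth.Agent.Lib.Hopf.DoubleDual.projective_dual_of_projective (R := R) (Module.Dual R W)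
  have : Module.Finite R (Module.Dual R (Module.Dual R W)) :=
    (Groth.Agent.Lib.Hopf.RegularDimTwo.projective_dual hdim (Module.Dual R W)).2
  obtain ⟨j, hj⟩ := Groth.Agent.Lib.Hopf.DoubleDual.exists_extend (T := A) W.subtype
  have hjc : CoalgebraStruct.comul (R := R) (A := A) ∘ₗ j = j.rTensor A ∘ₗ cV.coact := by
    refine Groth.Agent.Lib.Hopf.DoubleDual.ext_of_comp_eval (W := W) (T := A ⊗[R] A) _ _ ?_
    refine LinearMap.ext fun w => ?_
    simp only [LinearMap.comp_apply]
    rw [show j (Module.Dual.eval R W w) = (w : A) from LinearMap.congr_fun hj w,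
      show cV.coact (Module.Dual.eval R W w) = _ from LinearMap.congr_fun hcV w,
      LinearMap.comp_apply, ← LinearMap.comp_apply (j.rTensor A), ← LinearMap.rTensor_comp, hj]
    exact (Groth.Agent.Lib.Hopf.SubHopf.rTensor_subCoact hW w).symm
  obtain ⟨d, a, ha, hr⟩ := @Groth.Agent.Lib.Hopf.Coeff.exists_corep_range_le R A _ _ _
    (Module.Dual R (Module.Dual R W)) _ _ cV _ _ j hjc
  refine ⟨d, a, ha.1, ha.2, Groth.Agent.Lib.Hopf.Coeff.detInv R a,
    Groth.Agent.Lib.Hopf.Coeff.detInv_mul ha, fun x hx => ?_⟩
  have : x ∈ LinearMap.range j :=
    ⟨Module.Dual.eval R W ⟨x, hFW (Submodule.subset_span hx)⟩, LinearMap.congr_fun hj _⟩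
  exact Groth.Agent.Lib.Hopf.Coeff.span_entries_le_coeffAlg (R := R) (hr this)

end Groth.Agent.S6080
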