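import Groth.Statements.S6081
import Groth.Agent.Lib.Hopf.SubHopf
-- import your own Groth.Agent.* helpers here

set_option autoImplicit false
universe u
open TensorProduct
open SGA3

namespace Groth.Agent.S6081

/-- Let R be a Noetherian ring and A a commutative Hopf algebra over R which is flat and of finite type
as an R-algebra, so that G = Spec A is an affine flat R-group scheme of finite type. Suppose that
the pair (G, Spec R) has the equivariant resolution property: for every A-comodule F which is
finitely generated as an R-module there are an A-comodule E which is finitely generated and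
projective as an R-module and a surjective R-linear map E → F compatible with the coactions. Then
there are a natural number d and a d × d matrix (a_ij) of elements of A with Δ(a_ij) = Σ_l a_il ⊗
a_lj and ε(a_ij) = δ_ij (a matrix corepresentation, i.e. a homomorphism G → GL_{d,R}) whose
determinant is a unit, such that A is generated as an R-algebra by the entries a_ij together with
the inverse of det(a_ij): G is a closed subgroup scheme of GL_{d,R}. (The published statement is
over a Noetherian scheme S, with G-equivariant coherent modules; this row is its assertion (ii), the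
case S affine, in Hopf-algebra form.) -/
theorem result (R : Type u) [CommRing R] [IsNoetherianRing R]
    (A : Type u) [CommRing A] [HopfAlgebra R A] [Module.Flat R A] [Algebra.FiniteType R A]
    (hRE : ∀ (F : Type u) [AddCommGroup F] [Module R F] [HopfRep.Comod R A F] [Module.Finite R F],
      ∃ (E : Type u) (_ : AddCommGroup E) (_ : Module R E) (_ : HopfRep.Comod R A E) (π : E →ₗ[R] F),
        Module.Finite R E ∧ Module.Projective R E ∧ Function.Surjective π ∧
        HopfRep.Comod.coact (k := R) (A := A) ∘ₗ π = π.rTensor A ∘ₗ HopfRep.Comod.coact (k := R) (A := A) (V := E)) :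
    ∃ (d : ℕ) (a : Matrix (Fin d) (Fin d) A),
      (∀ i j, CoalgebraStruct.comul (R := R) (a i j) = ∑ l, a i l ⊗ₜ[R] a l j) ∧
      (∀ i j, CoalgebraStruct.counit (R := R) (a i j) = if i = j then 1 else 0) ∧
      ∃ u : A, u * a.det = 1 ∧ Algebra.adjoin R (Set.range (fun p : Fin d × Fin d => a p.1 p.2) ∪ {u}) = ⊤ := by
  obtain ⟨s, hs⟩ := (inferInstance : Algebra.FiniteType R A).out
  obtain ⟨W, hW, hsW, hfg⟩ := Groth.Agent.Lib.Hopf.ComodRing.exists_fg_subcomod (C := A) (V := A)
    (Submodule.span R (s : Set A)) ⟨s, rfl⟩
  let cW := Groth.Agent.Lib.Hopf.SubHopf.subComod hW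
  have : Module.Finite R W := Module.Finite.iff_fg.2 hfg
  obtain ⟨E, _, _, cE, π, hfin, hproj, hπ, hcomp⟩ := hRE W
  obtain ⟨d, a, ha, hr⟩ := Groth.Agent.Lib.Hopf.Coeff.exists_corep_range_le (R := R) (A := A) (V := E)
    (W.subtype ∘ₗ π) (LinearMap.ext fun e => by
      simp only [LinearMap.comp_apply, LinearMap.rTensor_comp]
      rw [← LinearMap.comp_apply (π.rTensor A), ← hcomp, LinearMap.comp_apply]
      exact (Groth.Agent.Lib.Hopf.SubHopf.rTensor_subCoact hW (π e)).symm)
  refine ⟨d, a, ha.1, ha.2, Groth.Agent.Lib.Hopf.Coeff.detInv R a,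
    Groth.Agent.Lib.Hopf.Coeff.detInv_mul ha, ?_⟩
  refine eq_top_iff.2 ?_
  rw [← hs]
  refine Algebra.adjoin_le fun x hx => ?_
  obtain ⟨e, he⟩ := hπ ⟨x, hsW (Submodule.subset_span hx)⟩
  have : x ∈ LinearMap.range (W.subtype ∘ₗ π) := ⟨e, by simp [he]⟩
  exact Groth.Agent.Lib.Hopf.Coeff.span_entries_le_coeffAlg (R := R) (hr this)

end Groth.Agent.S6081
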