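import Groth.Statements.S6082
import Groth.Agent.Lib.Hopf.RegularDimTwo
import Groth.Agent.Lib.Hopf.DoubleDual
import Groth.Agent.Lib.Hopf.Cofree

set_option autoImplicit false
universe u
open TensorProduct
open SGA3

namespace Groth.Agent.S6082

/-- Let R be a Noetherian regular ring of Krull dimension at most 2, C a (coassociative, counital)
R-coalgebra which is projective as an R-module, and F a right C-comodule which is finitely generated
as an R-module. Then F is a quotient of a C-comodule which is finitely generated and projective as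
an R-module: there are such a comodule V and a surjective R-linear map V → F compatible with the
coactions. -/
theorem result (R : Type u) [CommRing R] [IsRegularRing R]
    (hdim : ringKrullDim R ≤ 2) (C : Type u) [AddCommGroup C] [Module R C] [Coalgebra R C] [Module.Projective R C]
    (F : Type u) [AddCommGroup F] [Module R F] [HopfRep.Comod R C F] [Module.Finite R F] :
    ∃ (V : Type u) (_ : AddCommGroup V) (_ : Module R V) (_ : HopfRep.Comod R C V) (φ : V →ₗ[R] F),
      Module.Finite R V ∧ Module.Projective R V ∧ Function.Surjective φ ∧ HopfRep.Comod.coact (k := R) (A := C) ∘ₗ φ = φ.rTensor C ∘ₗ HopfRep.Comod.coact (k := R) (A := C) (V := V) := by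
  obtain ⟨n₁, W₁, _, _, c₁, ι₁, r₁, _, hι₁, hsurj₁, hc₁⟩ :=
    Groth.Agent.Lib.Hopf.Cofree.exists_cover (R := R) (C := C) (F := F)
  obtain ⟨n₂, W₂, _, _, c₂, ι₂, r₂, _, hι₂, hsurj₂, hc₂⟩ :=
    Groth.Agent.Lib.Hopf.Cofree.exists_cover (R := R) (C := C) (F := W₁)
  have : Module.FinitePresentation R W₂ := Module.finitePresentation_of_finite R W₂
  obtain ⟨hproj, hfin⟩ := Groth.Agent.Lib.Hopf.RegularDimTwo.projective_dual hdim W₂
  obtain ⟨cV, hcV⟩ := Groth.Agent.Lib.Hopf.DoubleDual.exists_comod (R := R) (C := C) (W := W₂)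
  obtain ⟨hprojV, hfinV⟩ :=
    Groth.Agent.Lib.Hopf.RegularDimTwo.projective_dual hdim (Module.Dual R W₂)
  obtain ⟨g, hg⟩ := Groth.Agent.Lib.Hopf.DoubleDual.exists_extend
    (T := (Fin n₂ → R) ⊗[R] C) ι₂
  let η := Module.Dual.eval R W₂
  let ψ := r₂ ∘ₗ g
  have hψ : ψ ∘ₗ η = r₂ ∘ₗ ι₂ := by rw [LinearMap.comp_assoc, hg]
  have hψc : c₁.coact ∘ₗ ψ = ψ.rTensor C ∘ₗ cV.coact := by
    have hi : Function.Injective (ι₁.rTensor C) :=
      Module.Flat.rTensor_preserves_injective_linearMap _ hι₁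
    have hext : ι₁.rTensor C ∘ₗ c₁.coact ∘ₗ ψ = ι₁.rTensor C ∘ₗ ψ.rTensor C ∘ₗ cV.coact := by
      refine Groth.Agent.Lib.Hopf.DoubleDual.ext_of_comp_eval (W := W₂)
        (T := ((Fin n₁ → R) ⊗[R] C) ⊗[R] C) _ _ ?_
      simp only [LinearMap.comp_assoc]
      rw [hψ, hcV, hc₂]
      refine congrArg _ ?_
      rw [← LinearMap.comp_assoc, ← LinearMap.rTensor_comp, hψ]
    exact LinearMap.ext fun x => hi (LinearMap.congr_fun hext x)
  refine ⟨Module.Dual R (Module.Dual R W₂), inferInstance, inferInstance, cV, (r₁ ∘ₗ ι₁) ∘ₗ ψ,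
    hfinV, hprojV, ?_, ?_⟩
  · refine hsurj₁.comp ?_
    exact Function.Surjective.of_comp (g := η) (by rw [← LinearMap.coe_comp, hψ]; exact hsurj₂)
  · rw [← LinearMap.comp_assoc, hc₁, LinearMap.comp_assoc, hψc, ← LinearMap.comp_assoc,
      ← LinearMap.rTensor_comp]

end Groth.Agent.S6082
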