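import Groth.Statements.S6083
import Groth.Agent.Lib.ActSep.QFAffineSpace

set_option autoImplicit false
set_option backward.isDefEq.respectTransparency false
set_option backward.isDefEq.respectTransparency.types false
universe u
open CategoryTheory CategoryTheory.Limits MonoidalCategory CartesianMonoidalCategory MonObj GrpObj AlgebraicGeometry
open SGA3

namespace Groth.Agent.S6083

/-- Let f : X → S be a morphism locally of finite presentation, s a point of S, x a point of the fibre
X_s = f⁻¹(s), n the local dimension of X_s at x, q : 𝔸^n_S → S the affine n-space over S and u : X →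
𝔸^n_S a locally quasi-finite morphism with u q = f. Suppose that f is universally open at the
generic point z of an irreducible component Z of X_s which contains x and has dimension n. Then u is
universally open at x. -/
theorem result (X S : Scheme.{u}) (f : X ⟶ S) [LocallyOfFinitePresentation f]
    (s : S) (x : X) (hxs : f.base x = s) (n : ℕ)
    (u : X ⟶ 𝔸(ULift.{u} (Fin n); S)) [LocallyQuasiFinite u] (hu : u ≫ (𝔸(ULift.{u} (Fin n); S) ↘ S) = f)
    (Z : Set ↥(f.base ⁻¹' {s})) (hZ : Z ∈ irreducibleComponents ↥(f.base ⁻¹' {s})) (hxZ : x ∈ (Subtype.val '' Z))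
    (z : X) (hz : z ∈ Subtype.val '' Z ∧ Subtype.val '' Z ⊆ closure {z}) (hopen : EGA43.IsUnivOpenAt f z)
    (hdimZ : topologicalKrullDim ↥Z = n) (hdimx : FlatMor.localDim ↥(f.base ⁻¹' {s}) ⟨x, hxs⟩ = n) :
    EGA43.IsUnivOpenAt u x := by
  obtain ⟨⟨z₀, hz₀Z, hz₀⟩, hZcl⟩ := hz
  obtain ⟨x₀, hx₀Z, hx₀⟩ := hxZ
  have hzs : f.base z = s := hz₀ ▸ z₀.2
  have hzx : z ⤳ x := specializes_iff_mem_closure.2 (hZcl ⟨x₀, hx₀Z, hx₀⟩)
  have hcl : IsClosed Z := isClosed_of_mem_irreducibleComponents Z hZ
  -- `Z` is the trace of the closure of `z` on the fibre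
  have hsub : ∀ {w : ↥(f.base ⁻¹' {s})}, Z ⊆ closure {w} → closure {w} = Z := fun {w} h =>
    (hZ.2 isIrreducible_singleton.closure h).antisymm h
  have hZle : Z ⊆ closure {z₀} := fun v hv => by
    rw [closure_subtype, Set.image_singleton, hz₀]
    exact hZcl ⟨v, hv, rfl⟩
  have hZeq : Subtype.val '' Z = closure ({z} : Set X) ∩ f.base ⁻¹' {f.base z} := by
    rw [hzs]
    refine Set.Subset.antisymm (fun v hv => ⟨hZcl hv, ?_⟩) ?_
    · obtain ⟨v, -, rfl⟩ := hv
      exact v.2
    · rintro v ⟨hv, hvs⟩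
      refine ⟨⟨v, hvs⟩, ?_, rfl⟩
      rw [← hsub hZle, closure_subtype, Set.image_singleton, hz₀]
      exact hv
  have hmax : Groth.Agent.H46.FibreTrdeg.IsMaxFib f z := by
    intro z' hz' hs
    let w : ↥(f.base ⁻¹' {s}) := ⟨z', hz'.trans hzs⟩
    have hle : Z ⊆ closure {w} := fun v hv => by
      rw [closure_subtype, Set.image_singleton]
      exact (hs.trans (specializes_iff_mem_closure.2 (hZcl ⟨v, hv, rfl⟩))).mem_closure
    have hw : w ∈ Z := hsub hle ▸ subset_closure rfl
    exact (hs.antisymm (specializes_iff_mem_closure.2 (hZcl ⟨w, hw, rfl⟩))).eq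
  have htrd : Groth.Agent.H46.FibreTrdeg.trd f z = n := by
    have h := Groth.Agent.H46.FibreTrdeg.dim_closure_inter f z
    let h1 := Topology.IsEmbedding.subtypeVal.homeomorphImage Z
    have h2 : topologicalKrullDim ↥(Subtype.val '' Z) = (n : WithBot ℕ∞) := by
      rw [← hdimZ]; exact (h1.isHomeomorph.topologicalKrullDim_eq _).symm
    rw [hZeq] at h2
    exact_mod_cast h.symm.trans h2
  exact Groth.Agent.Lib.ActSep.isUnivOpenAt_of_quasiFinite_affineSpace n u f hu hzx
    (hzs.trans hxs.symm) hmax htrd hopen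

end Groth.Agent.S6083
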