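import Groth.Statements.S6084
import Groth.Agent.Lib.GrpSch.Basic
import Groth.Agent.H14.FppfDesc.Scheme
import Mathlib.AlgebraicGeometry.Morphisms.QuasiFinite

set_option autoImplicit false
universe u
open CategoryTheory CategoryTheory.Limits MonoidalCategory CartesianMonoidalCategory MonObj GrpObj AlgebraicGeometry
open SGA3

namespace Groth.Agent.S6084

/-- Let k be a perfect field, G a group scheme locally of finite type over k and u : F → G a
homomorphism of k-group schemes which is a closed immersion and surjective on underlying spaces,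
with F reduced (so F is G_red with its group structure). Let p : G → X be a k-morphism which is
flat, surjective and locally of finite presentation and makes the square formed by (f, g) ↦ u(f) ·
g, the second projection F ×_k G → G and p (twice) cartesian (X is the quotient of G by F acting by
left translations). Then X is the spectrum of a finite local k-algebra with residue field k: X is
affine, its underlying space is a single point at which the structure morphism induces an
isomorphism of residue fields, and the ring of global sections of X is finite over k. -/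
theorem result (k : Type u) [Field k] [PerfectField k]
    (F G : Over (Spec (CommRingCat.of k))) [GrpObj F] [GrpObj G] [LocallyOfFiniteType G.hom] [IsReduced F.left]
    (u : F ⟶ G) [IsMonHom u] [IsClosedImmersion u.left] [Surjective u.left]
    (X : Over (Spec (CommRingCat.of k))) (p : G ⟶ X) [Flat p.left] [Surjective p.left] [LocallyOfFinitePresentation p.left]
    (hp : IsPullback ((u ▷ G) ≫ μ[G]) (snd F G) p p) :
    IsAffine X.left ∧ (∃ x : X.left, (Set.univ : Set X.left) = {x} ∧ IsIso (X.hom.residueFieldMap x)) ∧
      ((Scheme.ΓSpecIso (CommRingCat.of k)).inv ≫ X.hom.appTop).hom.Finite := by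
  let o : 𝟙_ (Over (Spec (CommRingCat.of k))) ⟶ X := η[G] ≫ p
  have e0 : lift (𝟙 F) (toUnit F ≫ η[G]) ≫ (u ▷ G) ≫ μ[G] = u := by
    rw [lift_whiskerRight_assoc, Category.id_comp]
    exact _root_.mul_one u
  have hup : u ≫ p = toUnit F ≫ o := by
    calc u ≫ p = lift (𝟙 F) (toUnit F ≫ η[G]) ≫ ((u ▷ G) ≫ μ[G]) ≫ p := by rw [← reassoc_of% e0, Category.assoc]
      _ = toUnit F ≫ o := by rw [hp.w, lift_snd_assoc, Category.assoc]
  let pt : ↥(Spec (CommRingCat.of k)) := IsLocalRing.closedPoint k
  have hsub : ∀ x : X.left, x = o.left.base pt := by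
    intro x
    obtain ⟨g, rfl⟩ := p.left.surjective x
    obtain ⟨f, rfl⟩ := u.left.surjective g
    rw [← Scheme.Hom.comp_apply, ← Over.comp_left, hup, Over.comp_left, Scheme.Hom.comp_apply]
    congr 1
    exact Subsingleton.elim (α := PrimeSpectrum k) _ _
  haveI : Subsingleton X.left := ⟨fun a b => (hsub a).trans (hsub b).symm⟩
  haveI hX : IsAffine X.left := by
    obtain ⟨V, hV, hxV, -⟩ := exists_isAffineOpen_mem_and_subset (U := ⊤) (x := o.left.base pt) trivial
    have hVtop : V = ⊤ := by
      ext x
      exact ⟨fun _ => trivial, fun _ => hsub x ▸ hxV⟩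
    haveI : IsAffine (⊤ : X.left.Opens).toScheme := (hVtop ▸ hV : IsAffineOpen (⊤ : X.left.Opens))
    exact IsAffine.of_isIso X.left.topIso.inv
  refine ⟨hX, ⟨o.left.base pt, Set.eq_singleton_iff_unique_mem.2 ⟨trivial, fun x _ => hsub x⟩, ?_⟩, ?_⟩
  · have hid : o.left ≫ X.hom = 𝟙 (Spec (CommRingCat.of k)) := Over.w o
    have h1 : X.hom.residueFieldMap (o.left.base pt) ≫ o.left.residueFieldMap pt =
        (o.left ≫ X.hom).residueFieldMap pt := (Scheme.residueFieldMap_comp o.left X.hom pt).symm
    haveI : IsIso ((o.left ≫ X.hom).residueFieldMap pt) := by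
      have : ∀ φ : Spec (CommRingCat.of k) ⟶ Spec (CommRingCat.of k), φ = 𝟙 _ → IsIso (φ.residueFieldMap pt) := by
        rintro φ rfl
        erw [Scheme.residueFieldMap_id]
        exact IsIso.id _
      exact this _ hid
    haveI : IsIso (X.hom.residueFieldMap (o.left.base pt) ≫ o.left.residueFieldMap pt) := by
      rw [h1]; exact ‹IsIso ((o.left ≫ X.hom).residueFieldMap pt)›
    have hbij := (ConcreteCategory.isIso_iff_bijective
      (X.hom.residueFieldMap (o.left.base pt) ≫ o.left.residueFieldMap pt)).1 inferInstance
    refine (ConcreteCategory.isIso_iff_bijective _).2 ⟨(X.hom.residueFieldMap (o.left.base pt)).hom.injective,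
      fun a => ?_⟩
    obtain ⟨b, hb⟩ := hbij.2 ((o.left.residueFieldMap pt).hom a)
    exact ⟨b, (o.left.residueFieldMap pt).hom.injective hb⟩
  · haveI : LocallyOfFiniteType X.hom :=
      Groth.Agent.H14.FppfDesc.Scheme.locallyOfFiniteType_of_comp p.left X.hom (by rw [Over.w]; infer_instance)
    haveI : Finite X.left := inferInstance
    haveI : LocallyQuasiFinite X.hom := LocallyQuasiFinite.of_injective (fun a b _ => Subsingleton.elim a b)
    haveI : QuasiCompact X.hom := inferInstance
    haveI : IsFinite X.hom := IsFinite.of_locallyQuasiFinite X.hom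
    refine RingHom.Finite.comp (Scheme.Hom.finite_appTop X.hom) ?_
    exact RingHom.Finite.of_surjective _
      (ConcreteCategory.bijective_of_isIso (Scheme.ΓSpecIso (CommRingCat.of k)).inv).2

end Groth.Agent.S6084
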