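import Groth.Statements.S6085
import Groth.Agent.H69.GrpData
import Groth.Agent.Lib.Lim.FPDescend
-- import your own Groth.Agent.* helpers here

set_option autoImplicit false
universe u
open CategoryTheory CategoryTheory.Limits MonoidalCategory CartesianMonoidalCategory MonObj GrpObj AlgebraicGeometry
open SGA3

namespace Groth.Agent.S6085
set_option backward.isDefEq.respectTransparency false

open Groth.Agent.Lib.RedPts Groth.Agent.Lib.Lim Groth.Agent.Lib.Lim.Basic
open Groth.Agent.H69.GrpDescend Groth.Agent.H69.GrpData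

set_option synthInstance.maxHeartbeats 400000 in
/-- A morphism multiplicative on points is a homomorphism. -/
theorem isMonHom_of_mul {S : Scheme.{u}} {G H : Over S} [GrpObj G] [GrpObj H] (f : G ⟶ H)
    (hmul : ∀ {X : Over S} (p q : X ⟶ G), (p * q) ≫ f = (p ≫ f) * (q ≫ f)) : IsMonHom f := by
  refine ⟨?_, ?_⟩
  · have h1 : ((1 : 𝟙_ (Over S) ⟶ G) ≫ f) * ((1 : 𝟙_ (Over S) ⟶ G) ≫ f) =
        (1 : 𝟙_ (Over S) ⟶ G) ≫ f := by rw [← hmul, _root_.one_mul]
    have h2 : (1 : 𝟙_ (Over S) ⟶ G) ≫ f = 1 := mul_left_cancel (h1.trans (_root_.mul_one _).symm)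
    simpa [Hom.one_def] using h2
  · have := hmul (fst G G) (snd G G)
    rw [Hom.mul_def, Hom.mul_def, lift_fst_snd, Category.id_comp] at this
    rw [this, ← lift_map, lift_fst_snd, Category.id_comp]

/-- Let S be the limit of a cofiltered system (S_i) of quasi-compact quasi-separated schemes with affine
transition morphisms, and let G be an S-group scheme of finite presentation over S. Then there are
an index j, an S_j-group scheme G_j of finite presentation over S_j and an isomorphism of S-group
schemes (an isomorphism over S which is a homomorphism) from G to G_j ×_{S_j} S. (The published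
setting takes all S_i affine over a fixed quasi-compact quasi-separated S_0; this row allows any
cofiltered system of quasi-compact quasi-separated schemes with affine transition morphisms.) -/
theorem result {I : Type u} [SmallCategory I] [IsCofiltered I]
    (D : I ⥤ Scheme.{u}) (c : Limits.Cone D) (hc : Limits.IsLimit c)
    [∀ (i i' : I) (f : i ⟶ i'), IsAffineHom (D.map f)] [∀ i, CompactSpace (D.obj i)] [∀ i, QuasiSeparatedSpace (D.obj i)]
    (G : Over c.pt) [GrpObj G] [LocallyOfFinitePresentation G.hom] [QuasiCompact G.hom] [QuasiSeparated G.hom] :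
    ∃ (j : I) (Gj : Over (D.obj j)) (_ : GrpObj Gj) (e : G ≅ Red.bc (c.π.app j) Gj),
      IsMonHom e.hom ∧ LocallyOfFinitePresentation Gj.hom ∧ QuasiCompact Gj.hom ∧ QuasiSeparated Gj.hom := by
  have hA : ∀ {i i' : I} (f : i ⟶ i'), IsAffineHom (D.map f) := fun f => inferInstance
  obtain ⟨j₀⟩ := IsCofiltered.nonempty (C := I)
  have : CompactSpace c.pt := compactSpace_pt hc j₀
  have : QuasiSeparatedSpace c.pt := quasiSeparatedSpace_pt hc j₀
  have : CompactSpace G.left := QuasiCompact.compactSpace_of_compactSpace G.hom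
  have : QuasiSeparatedSpace G.left := quasiSeparatedSpace_of_quasiSeparated G.hom
  obtain ⟨i, Xi, fi, g, hXc, hXq, hfi, hpb⟩ := FPDescend.exists_descent hc G.hom
  let X₀ : Over (D.obj i) := Over.mk fi
  have : LocallyOfFinitePresentation X₀.hom := hfi
  have : QuasiCompact X₀.hom := (inferInstance : QuasiCompact fi)
  have : QuasiSeparated X₀.hom := (inferInstance : QuasiSeparated fi)
  let e₀ : G ≅ Red.bc (c.π.app i) X₀ := Over.isoMk hpb.isoPullback hpb.isoPullback_hom_snd
  obtain ⟨k, f, mu, ep, io, h, hmu⟩ := exists_isGrp hc (isGrp (c.π.app i) e₀)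
  let Gj : Over (D.obj k) := Red.bc (D.map f) X₀
  letI : GrpObj Gj := grpObj (D.map f) h
  let κ := compIso (c.π.app k) (D.map f) (c.w f) X₀
  let e : G ≅ Red.bc (c.π.app k) Gj := e₀ ≪≫ κ.symm
  refine ⟨k, Gj, inferInstance, e, ?_, ?_, ?_, ?_⟩
  · refine isMonHom_of_mul e.hom fun {X} p q => ?_
    apply BC.down_injective
    rw [BC.down_mul]
    apply BC.down_injective
    rw [Groth.Agent.H69.GrpData.down_mul _ h]
    let hX : (Over.map (c.π.app i)).obj X ⟶
        (Over.map (D.map f)).obj ((Over.map (c.π.app k)).obj X) :=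
      Over.homMk (𝟙 X.left) (by
        show 𝟙 X.left ≫ (X.hom ≫ c.π.app k) ≫ D.map f = X.hom ≫ c.π.app i
        rw [Category.id_comp, Category.assoc, c.w f])
    have key : ∀ r : X ⟶ G, hX ≫ BC.down (D.map f) (BC.down (c.π.app k) (r ≫ e.hom)) =
        BC.down (c.π.app i) (r ≫ e₀.hom) := fun r => by
      apply Over.OverMorphism.ext
      show 𝟙 X.left ≫ ((r.left ≫ e₀.hom.left ≫ κ.inv.left) ≫ pullback.fst _ _) ≫
        pullback.fst X₀.hom (D.map f) = (r.left ≫ e₀.hom.left) ≫ pullback.fst X₀.hom (c.π.app i)
      rw [Category.id_comp, Category.assoc, Category.assoc, Category.assoc, Category.assoc,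
        compIso_inv_fst (c.π.app k) (D.map f) (c.w f) X₀]
    have : IsIso ((Over.forget _).map hX) := inferInstanceAs (IsIso (𝟙 X.left))
    have : IsIso hX := isIso_of_reflects_iso hX (Over.forget _)
    rw [← cancel_epi hX, comp_op, key, key, key]
    have hs : hX ≫ str (D.map f) ((Over.map (c.π.app k)).obj X) =
        str (c.π.app i) X ≫ proj c f := by
      apply Over.OverMorphism.ext
      exact Category.id_comp _
    rw [hs, Groth.Agent.H69.GrpData.down_mul_eq, ← hmu, Groth.Agent.H69.GrpData.op_whiskerRight]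
  · exact MorphismProperty.pullback_snd (P := @LocallyOfFinitePresentation) _ _ ‹_›
  · exact MorphismProperty.pullback_snd (P := @QuasiCompact) _ _ ‹_›
  · exact MorphismProperty.pullback_snd (P := @QuasiSeparated) _ _ ‹_›

end Groth.Agent.S6085
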