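import Groth.Statements.S6086
import Groth.Agent.H69.GrpDescend
-- import your own Groth.Agent.* helpers here

set_option autoImplicit false
universe u
open CategoryTheory CategoryTheory.Limits MonoidalCategory CartesianMonoidalCategory MonObj GrpObj AlgebraicGeometry
open SGA3

namespace Groth.Agent.S6086

set_option backward.isDefEq.respectTransparency false
open H69.GrpDescend

/-- Let S be the limit of a cofiltered system (S_i) of quasi-compact quasi-separated schemes with affine
transition morphisms, j an index and G_j, H_j two S_j-group schemes of finite presentation over S_j;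
for i over j write G_i, H_i for the base changes to S_i and G, H for the base changes to S. Then the
canonical map colim_i Hom_{S_i-gr}(G_i, H_i) → Hom_{S-gr}(G, H) is bijective: (surjectivity) every
homomorphism u : G → H of S-group schemes is, up to the canonical identifications (G_i) ×_{S_i} S ≅
G and (H_i) ×_{S_i} S ≅ H, the base change of a homomorphism u_i : G_i → H_i for some index i over
j; (injectivity) two homomorphisms G_i → H_i whose base changes to S coincide already coincide after
base change to S_{i'} for some index i' over i. (The published setting takes all S_i affine over a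
fixed quasi-compact quasi-separated S_0; this row allows any cofiltered system of quasi-compact
quasi-separated schemes with affine transition morphisms.) -/
theorem result {I : Type u} [SmallCategory I] [IsCofiltered I]
    (D : I ⥤ Scheme.{u}) (c : Limits.Cone D) (hc : Limits.IsLimit c)
    [∀ (i i' : I) (f : i ⟶ i'), IsAffineHom (D.map f)] [∀ i, CompactSpace (D.obj i)] [∀ i, QuasiSeparatedSpace (D.obj i)]
    (j : I) (Gj Hj : Over (D.obj j)) [GrpObj Gj] [GrpObj Hj]
    [LocallyOfFinitePresentation Gj.hom] [QuasiCompact Gj.hom] [QuasiSeparated Gj.hom]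
    [LocallyOfFinitePresentation Hj.hom] [QuasiCompact Hj.hom] [QuasiSeparated Hj.hom] :
    (∀ (u : Red.bc (c.π.app j) Gj ⟶ Red.bc (c.π.app j) Hj), IsMonHom u →
      ∃ (i : I) (f : i ⟶ j) (ui : Red.bc (D.map f) Gj ⟶ Red.bc (D.map f) Hj), IsMonHom ui ∧
        (Over.pullback (c.π.app i)).map ui = (((Over.pullbackComp (c.π.app i) (D.map f)).app Gj).symm ≪≫ eqToIso (congrArg (fun g => Red.bc g Gj) (c.w f))).hom ≫ u ≫ (((Over.pullbackComp (c.π.app i) (D.map f)).app Hj).symm ≪≫ eqToIso (congrArg (fun g => Red.bc g Hj) (c.w f))).inv) ∧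
    (∀ (i : I) (f : i ⟶ j) (u₁ u₂ : Red.bc (D.map f) Gj ⟶ Red.bc (D.map f) Hj), IsMonHom u₁ → IsMonHom u₂ →
      (Over.pullback (c.π.app i)).map u₁ = (Over.pullback (c.π.app i)).map u₂ →
      ∃ (i' : I) (g : i' ⟶ i), (Over.pullback (D.map g)).map u₁ = (Over.pullback (D.map g)).map u₂) := by
  refine ⟨fun u hu => ?_, fun i f u₁ u₂ _ _ h => ?_⟩
  · -- existence
    have hA : ∀ {i j : I} (g : i ⟶ j), IsAffineHom (D.map g) := fun g => inferInstance
    have : CompactSpace Gj.left := QuasiCompact.compactSpace_of_compactSpace Gj.hom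
    have : QuasiSeparatedSpace Gj.left := quasiSeparatedSpace_of_quasiSeparated Gj.hom
    have hP := IsPullback.of_hasPullback Gj.hom (c.π.app j)
    let φ := toφ (c.π.app j) u
    have hw : (u.left ≫ Limits.pullback.fst Hj.hom (c.π.app j)) ≫ Hj.hom =
        Limits.pullback.fst Gj.hom (c.π.app j) ≫ Gj.hom := by
      have h := Over.w u
      simp only [Over.pullback_obj_hom] at h
      rw [Category.assoc, Limits.pullback.condition, reassoc_of% h, Limits.pullback.condition]
    obtain ⟨i, f, g', hg', hlift⟩ := Lib.Lim.Basic.exists_bc_hom hc hP Hj.hom Gj.hom _ hw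
    let φi : Over.mk (D.map f) ⊗ Gj ⟶ Hj :=
      Over.homMk ((Limits.pullbackSymmetry (D.map f) Gj.hom).hom ≫ g') (by
        show ((Limits.pullbackSymmetry (D.map f) Gj.hom).hom ≫ g') ≫ Hj.hom =
          Limits.pullback.fst (D.map f) Gj.hom ≫ D.map f
        rw [Category.assoc, hg', Limits.pullback.condition,
          Limits.pullbackSymmetry_hom_comp_snd_assoc])
    have hproj : proj c f ▷ Gj ≫ φi = φ := by
      apply Over.OverMorphism.ext
      show (proj c f ▷ Gj).left ≫ (Limits.pullbackSymmetry (D.map f) Gj.hom).hom ≫ g' =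
        (Limits.pullbackSymmetry (c.π.app j) Gj.hom).hom ≫ u.left ≫ Limits.pullback.fst Hj.hom (c.π.app j)
      rw [← hlift, ← Category.assoc, ← Category.assoc _ _ g']
      congr 1
      apply Limits.pullback.hom_ext
      · simp only [Category.assoc, Limits.pullbackSymmetry_hom_comp_fst, Limits.pullback.lift_fst]
        exact Over.whiskerRight_left_snd (proj c f)
      · simp only [Category.assoc, Limits.pullbackSymmetry_hom_comp_snd, Limits.pullback.lift_snd,
          Limits.pullbackSymmetry_hom_comp_snd_assoc]
        exact Over.whiskerRight_left_fst (proj c f)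
    obtain ⟨k, g, hk⟩ := exists_isHomOver hc f φi (hproj.symm ▸ isHomOver_toφ (c.π.app j) u)
    refine ⟨k, g ≫ f, ofφ (D.map (g ≫ f)) (trans D g f ▷ Gj ≫ φi), isMonHom_ofφ _ hk, ?_⟩
    apply Over.OverMorphism.ext
    apply Limits.pullback.hom_ext
    swap
    · exact (Over.w ((Over.pullback (c.π.app k)).map _)).trans (Over.w _).symm
    apply Limits.pullback.hom_ext
    swap
    · simp only [Category.assoc]
      rw [show Limits.pullback.snd Hj.hom (D.map (g ≫ f)) = (Red.bc (D.map (g ≫ f)) Hj).hom from rfl,
        Limits.pullback.condition]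
      simp only [← Category.assoc]
      congr 1
      exact (Over.w ((Over.pullback (c.π.app k)).map _)).trans (Over.w _).symm
    show (_ ≫ Limits.pullback.fst _ (c.π.app k)) ≫ Limits.pullback.fst Hj.hom (D.map (g ≫ f)) =
      (((compIso (c.π.app k) (D.map (g ≫ f)) (c.w (g ≫ f)) Gj).hom.left ≫ u.left ≫
        (compIso (c.π.app k) (D.map (g ≫ f)) (c.w (g ≫ f)) Hj).inv.left) ≫
          Limits.pullback.fst _ (c.π.app k)) ≫ Limits.pullback.fst Hj.hom (D.map (g ≫ f))
    simp only [Over.pullback_map_left, Limits.pullback.lift_fst, Category.assoc, ofφ_left_fst,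
      compIso_inv_fst]
    have e : u.left ≫ Limits.pullback.fst Hj.hom (c.π.app j) =
        (Limits.pullbackSymmetry Gj.hom (c.π.app j)).hom ≫ φ.left := by
      show _ = _ ≫ (Limits.pullbackSymmetry (c.π.app j) Gj.hom).hom ≫ _
      have hid : (Limits.pullbackSymmetry Gj.hom (c.π.app j)).hom ≫
          (Limits.pullbackSymmetry (c.π.app j) Gj.hom).hom = 𝟙 _ := by
        apply Limits.pullback.hom_ext <;> simp
      rw [← Category.assoc (Limits.pullbackSymmetry Gj.hom (c.π.app j)).hom, hid, Category.id_comp]
    rw [e, ← hproj]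
    simp only [Over.comp_left, ← Category.assoc]
    congr 1
    apply Limits.pullback.hom_ext
    · refine ((Category.assoc _ _ _).trans (congrArg _ (Over.whiskerRight_left_fst (trans D g f)))).trans ?_
      refine Eq.trans ?_ ((Category.assoc _ _ _).trans (congrArg _ (Over.whiskerRight_left_fst (proj c f)))).symm
      simp only [Category.assoc, Over.mk_hom, Limits.pullbackSymmetry_hom_comp_fst_assoc]
      show Limits.pullback.fst _ (c.π.app k) ≫ Limits.pullback.snd Gj.hom _ ≫ D.map g =
        (compIso (c.π.app k) (D.map (g ≫ f)) (c.w (g ≫ f)) Gj).hom.left ≫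
          Limits.pullback.snd Gj.hom (c.π.app j) ≫ c.π.app i
      rw [reassoc_of% compIso_hom_snd (c.π.app k) (D.map (g ≫ f)) (c.w (g ≫ f)) Gj, ← c.w g]
      exact Limits.pullback.condition_assoc _
    · refine ((Category.assoc _ _ _).trans (congrArg _ (Over.whiskerRight_left_snd (trans D g f)))).trans ?_
      refine Eq.trans ?_ ((Category.assoc _ _ _).trans (congrArg _ (Over.whiskerRight_left_snd (proj c f)))).symm
      simp only [Category.assoc, Over.mk_hom, Limits.pullbackSymmetry_hom_comp_snd]
      exact (compIso_hom_fst (c.π.app k) (D.map (g ≫ f)) (c.w (g ≫ f)) Gj).symm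
  · -- injectivity
    have hA : ∀ {i j : I} (g : i ⟶ j), IsAffineHom (D.map g) := fun g => inferInstance
    have : QuasiCompact (Limits.pullback.snd Gj.hom (D.map f)) :=
      MorphismProperty.pullback_snd (P := @QuasiCompact) _ _ inferInstance
    have : CompactSpace (Limits.pullback Gj.hom (D.map f) : Scheme.{u}) :=
      QuasiCompact.compactSpace_of_compactSpace (Limits.pullback.snd Gj.hom (D.map f))
    have : CompactSpace ((Red.bc (D.map f) Gj).left : Scheme.{u}) := this
    have : LocallyOfFiniteType (Red.bc (D.map f) Hj).hom :=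
      MorphismProperty.pullback_snd (P := @LocallyOfFiniteType) _ _ inferInstance
    obtain ⟨i', g, hg⟩ := Lib.Lim.Basic.exists_bc_comp_eq hc
      (IsPullback.of_hasPullback (Red.bc (D.map f) Gj).hom (c.π.app i))
      (Red.bc (D.map f) Hj).hom u₁.left u₂.left ((Over.w u₁).trans (Over.w u₂).symm)
      (by simpa using congrArg (fun v => v.left ≫ Limits.pullback.fst _ _) h)
    refine ⟨i', g, Over.OverMorphism.ext ?_⟩
    apply Limits.pullback.hom_ext
    · simpa using hg
    · simp

end Groth.Agent.S6086
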