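import Groth.Statements.S6087
import Groth.Agent.Lib.QuotLimit.Main

set_option autoImplicit false
universe u
open CategoryTheory CategoryTheory.Limits MonoidalCategory CartesianMonoidalCategory MonObj GrpObj AlgebraicGeometry
open SGA3

namespace Groth.Agent.S6087

open Groth.Agent.Lib.QuotLimit

theorem iff_hasQuot {S B : Scheme.{u}} (a : B ⟶ S) (G G' : Over S) [GrpObj G] [GrpObj G'] (u : G' ⟶ G) :
    (∃ (Q : Over B) (p : Red.bc a G ⟶ Q), Flat p.left ∧ Surjective p.left ∧ LocallyOfFinitePresentation p.left ∧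
      IsPullback (((Red.bc a G) ◁ ((Over.pullback a).map u)) ≫ μ[Red.bc a G]) (fst (Red.bc a G) (Red.bc a G')) p p) ↔
    HasQuot a ((G ◁ u) ≫ μ[G]) (fst G G') := by
  let e : Red.bc a G ⊗ Red.bc a G' ≅ Red.bc a (G ⊗ G') := Functor.Monoidal.μIso (Over.pullback a) G G'
  have hs : (Red.bc a G ◁ (Over.pullback a).map u) ≫ μ[Red.bc a G] =
      e.hom ≫ (Over.pullback a).map ((G ◁ u) ≫ μ[G]) := by
    rw [Functor.map_comp]
    show (Red.bc a G ◁ (Over.pullback a).map u) ≫ Functor.LaxMonoidal.μ (Over.pullback a) G G ≫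
        (Over.pullback a).map μ[G] = _
    rw [Functor.LaxMonoidal.μ_natural_right_assoc]
    rfl
  have ht : fst (Red.bc a G) (Red.bc a G') = e.hom ≫ (Over.pullback a).map (fst G G') :=
    (Functor.Monoidal.μ_fst (Over.pullback a) G G').symm
  constructor
  · rintro ⟨Q, p, h1, h2, h3, h4⟩
    refine ⟨Q, p, h1, h2, h3, h4.of_iso e (Iso.refl _) (Iso.refl _) (Iso.refl _) ?_ ?_ (by simp) (by simp)⟩
    · simp only [Iso.refl_hom, Category.comp_id]; exact hs
    · simp only [Iso.refl_hom, Category.comp_id]; exact ht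
  · rintro ⟨Q, p, h1, h2, h3, h4⟩
    refine ⟨Q, p, h1, h2, h3, h4.of_iso e.symm (Iso.refl _) (Iso.refl _) (Iso.refl _) ?_ ?_ (by simp) (by simp)⟩
    · simp only [Iso.refl_hom, Category.comp_id, Iso.symm_hom]; rw [hs, Iso.inv_hom_id_assoc]
    · simp only [Iso.refl_hom, Category.comp_id, Iso.symm_hom]; rw [ht, Iso.inv_hom_id_assoc]

theorem flat_mul {S : Scheme.{u}} (G G' : Over S) [GrpObj G] [GrpObj G'] [Flat G'.hom] (u : G' ⟶ G) :
    Flat ((G ◁ u) ≫ μ[G]).left := by
  have hs : (G ◁ u) ≫ μ[G] = fst G G' * (snd G G' ≫ u) := by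
    rw [Hom.mul_def]
    refine congrArg (· ≫ μ[G]) ?_
    ext <;> simp
  let sh : G ⊗ G' ⟶ G ⊗ G' := lift (fst G G' * (snd G G' ≫ u)) (snd G G')
  let sh' : G ⊗ G' ⟶ G ⊗ G' := lift (fst G G' * (snd G G' ≫ u)⁻¹) (snd G G')
  haveI : IsIso sh := ⟨sh', by
      ext
      · simp only [sh, sh', Category.assoc, lift_fst, comp_mul, comp_inv, lift_snd_assoc, Category.id_comp,
          mul_inv_cancel_right]
      · simp [sh, sh'], by
      ext
      · simp only [sh, sh', Category.assoc, lift_fst, comp_mul, lift_snd_assoc, Category.id_comp,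
          inv_mul_cancel_right]
      · simp [sh, sh']⟩
  haveI : IsIso sh.left := inferInstanceAs (IsIso ((Over.forget _).map sh))
  haveI : Flat (fst G G').left := inferInstanceAs (Flat (Limits.pullback.fst G.hom G'.hom))
  rw [hs, show fst G G' * (snd G G' ≫ u) = sh ≫ fst G G' from (lift_fst _ _).symm, Over.comp_left]
  infer_instance


/-- Let S be the limit of a cofiltered system (S_i) of quasi-compact quasi-separated schemes with affine
transition morphisms, j an index, G_j an S_j-group scheme of finite presentation over S_j and u_j :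
G'_j → G_j a subgroup scheme (a homomorphism which is a monomorphism) with G'_j flat and of finite
presentation over S_j. For a base change G, G' of G_j, G'_j say that G/G' is representable when
there are Q and a morphism p : G → Q which is flat, surjective and locally of finite presentation
and makes the square formed by (g, h) ↦ g · u(h), the first projection G × G' → G and p (twice)
cartesian. Then G/G' is representable over S for the base changes to S if and only if there is an
index i over j such that G_i/G'_i is representable over S_i for the base changes to S_i. (The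
published statement is for representability of the fpqc quotient sheaf; with G' flat of finite
presentation this is the same as the existence of such a p. The published setting takes all S_i
affine over a fixed quasi-compact quasi-separated S_0.) -/
theorem result {I : Type u} [SmallCategory I] [IsCofiltered I]
    (D : I ⥤ Scheme.{u}) (c : Limits.Cone D) (hc : Limits.IsLimit c)
    [∀ (i i' : I) (f : i ⟶ i'), IsAffineHom (D.map f)] [∀ i, CompactSpace (D.obj i)] [∀ i, QuasiSeparatedSpace (D.obj i)]
    (j : I) (Gj G'j : Over (D.obj j)) [GrpObj Gj] [GrpObj G'j]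
    [LocallyOfFinitePresentation Gj.hom] [QuasiCompact Gj.hom] [QuasiSeparated Gj.hom]
    [Flat G'j.hom] [LocallyOfFinitePresentation G'j.hom] [QuasiCompact G'j.hom] [QuasiSeparated G'j.hom]
    (uj : G'j ⟶ Gj) [IsMonHom uj] [Mono uj] :
    (∃ (Q : Over c.pt) (p : (Red.bc (c.π.app j) Gj) ⟶ Q), Flat p.left ∧ Surjective p.left ∧ LocallyOfFinitePresentation p.left ∧
        IsPullback (((Red.bc (c.π.app j) Gj) ◁ ((Over.pullback (c.π.app j)).map uj)) ≫ μ[(Red.bc (c.π.app j) Gj)]) (fst (Red.bc (c.π.app j) Gj) (Red.bc (c.π.app j) G'j)) p p) ↔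
    ∃ (i : I) (f : i ⟶ j), ∃ (Q : Over (D.obj i)) (p : (Red.bc (D.map f) Gj) ⟶ Q), Flat p.left ∧ Surjective p.left ∧ LocallyOfFinitePresentation p.left ∧
        IsPullback (((Red.bc (D.map f) Gj) ◁ ((Over.pullback (D.map f)).map uj)) ≫ μ[(Red.bc (D.map f) Gj)]) (fst (Red.bc (D.map f) Gj) (Red.bc (D.map f) G'j)) p p := by
  
  haveI : ∀ (a b : I) (f : a ⟶ b), IsAffineHom (D.map f) := inferInstance
  haveI : LocallyOfFinitePresentation (Gj ⊗ G'j).hom :=
    inferInstanceAs (LocallyOfFinitePresentation (Limits.pullback.fst Gj.hom G'j.hom ≫ Gj.hom))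
  haveI : QuasiCompact (Gj ⊗ G'j).hom :=
    inferInstanceAs (QuasiCompact (Limits.pullback.fst Gj.hom G'j.hom ≫ Gj.hom))
  haveI : QuasiSeparated (Gj ⊗ G'j).hom :=
    inferInstanceAs (QuasiSeparated (Limits.pullback.fst Gj.hom G'j.hom ≫ Gj.hom))
  simp only [iff_hasQuot]
  exact ⟨Groth.Agent.Lib.QuotLimit.exists_hasQuot hc,
    fun ⟨i, f, h⟩ => Groth.Agent.Lib.QuotLimit.hasQuot_bc (D.map f) (c.π.app i) (c.w f) h⟩

end Groth.Agent.S6087
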