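import Groth.Statements.S6094
import Mathlib.RingTheory.Bialgebra.Convolution
import Mathlib.RingTheory.TensorProduct.Maps

set_option autoImplicit false
universe u
open CategoryTheory MonObj GrpObj AlgebraicGeometry
open scoped TensorProduct
open SGA3

namespace Groth.Agent.S6094

open WithConv

section

variable {R : Type u} [CommRing R] {A : Type u} [CommRing A] [HopfAlgebra R A]
  {E : Type u} [AddCommGroup E] [Module R E]

set_option quotPrecheck false in
local notation "GA" => (Spec (CommRingCat.of A)).asOver (Spec (CommRingCat.of R))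

variable {B : Type u} [CommRing B] [Algebra R B]

/-- `x ↦ Σ f(aᵢ) ⊗ xᵢ`. -/
noncomputable def ev (δ : E →ₗ[R] E ⊗[R] A) (f : A →ₐ[R] B) : E →ₗ[R] B ⊗[R] E :=
  (TensorProduct.comm R E B).toLinearMap ∘ₗ f.toLinearMap.lTensor E ∘ₗ δ

/-- The `B`-linear extension of `ev`. -/
noncomputable def act (δ : E →ₗ[R] E ⊗[R] A) (f : A →ₐ[R] B) : Module.End B (B ⊗[R] E) :=
  LinearMap.liftBaseChange B (ev δ f)

lemma act_tmul (δ : E →ₗ[R] E ⊗[R] A) (f : A →ₐ[R] B) (b : B) (x : E) :
    act δ f (b ⊗ₜ[R] x) = b • ev δ f x := rfl

variable (δ : E →ₗ[R] E ⊗[R] A)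

lemma ev_one
    (hε : (CoalgebraStruct.counit (R := R) (A := A)).lTensor E ∘ₗ δ = (TensorProduct.mk R E R).flip 1)
    (x : E) : ev δ (1 : WithConv (A →ₐ[R] B)).ofConv x = (1 : B) ⊗ₜ[R] x := by
  have h : (1 : WithConv (A →ₐ[R] B)).ofConv.toLinearMap =
      Algebra.linearMap R B ∘ₗ CoalgebraStruct.counit (R := R) (A := A) := LinearMap.ext fun _ => rfl
  simp only [ev, LinearMap.comp_apply, LinearEquiv.coe_coe, h, LinearMap.lTensor_comp]
  rw [← LinearMap.comp_apply ((CoalgebraStruct.counit (R := R) (A := A)).lTensor E), hε]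
  simp

lemma ev_mul
    (hassoc : (TensorProduct.assoc R E A A).toLinearMap ∘ₗ δ.rTensor A ∘ₗ δ =
      (CoalgebraStruct.comul (R := R) (A := A)).lTensor E ∘ₗ δ)
    (f g : WithConv (A →ₐ[R] B)) (x : E) :
    ev δ (f * g).ofConv x = act δ f.ofConv (ev δ g.ofConv x) := by
  let M := LinearMap.mul' R B ∘ₗ TensorProduct.map f.ofConv.toLinearMap g.ofConv.toLinearMap
  have h : (f * g).ofConv.toLinearMap = M ∘ₗ CoalgebraStruct.comul (R := R) (A := A) := by
    refine LinearMap.ext fun a => ?_
    show (f * g) a = _
    rw [AlgHom.convMul_apply]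
    simp only [M, LinearMap.comp_apply]
    generalize CoalgebraStruct.comul (R := R) a = z
    induction z using TensorProduct.induction_on with
    | zero => simp
    | tmul p q => simp
    | add p q hp hq => simp only [map_add, hp, hq]
  have key : ∀ y : E ⊗[R] A,
      (TensorProduct.comm R E B) (M.lTensor E (TensorProduct.assoc R E A A (δ.rTensor A y))) =
        act δ f.ofConv ((TensorProduct.comm R E B) (g.ofConv.toLinearMap.lTensor E y)) := by
    intro y
    induction y using TensorProduct.induction_on with
    | zero => simp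
    | tmul x' a =>
        rw [LinearMap.lTensor_tmul, TensorProduct.comm_tmul, act_tmul, LinearMap.rTensor_tmul]
        simp only [ev, LinearMap.comp_apply, LinearEquiv.coe_coe, AlgHom.toLinearMap_apply]
        generalize δ x' = z
        induction z using TensorProduct.induction_on with
        | zero => simp
        | tmul p q => simp [M, TensorProduct.smul_tmul', mul_comm]
        | add p q hp hq => simp only [TensorProduct.add_tmul, map_add, smul_add, hp, hq]
    | add p q hp hq => simp only [map_add, hp, hq]
  have hx := congr($hassoc x)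
  simp only [LinearMap.comp_apply, LinearEquiv.coe_coe] at hx
  conv_lhs => simp only [ev, LinearMap.comp_apply, LinearEquiv.coe_coe, h, LinearMap.lTensor_comp]
  rw [← hx, key]
  rfl

variable (B) in
/-- The group homomorphism of points into automorphisms given by a comodule structure. -/
noncomputable def rho
    (hassoc : (TensorProduct.assoc R E A A).toLinearMap ∘ₗ δ.rTensor A ∘ₗ δ =
      (CoalgebraStruct.comul (R := R) (A := A)).lTensor E ∘ₗ δ)
    (hε : (CoalgebraStruct.counit (R := R) (A := A)).lTensor E ∘ₗ δ = (TensorProduct.mk R E R).flip 1) :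
    (VecGrp.pt R B ⟶ GA) →* (VecGrp.W R E B ≃ₗ[B] VecGrp.W R E B) :=
  let T : WithConv (A →ₐ[R] B) →* Module.End B (B ⊗[R] E) :=
    { toFun := fun f => act δ f.ofConv
      map_one' := by
        refine TensorProduct.AlgebraTensorModule.ext fun b x => ?_
        rw [act_tmul, ev_one δ hε, TensorProduct.smul_tmul', smul_eq_mul, _root_.mul_one]
        rfl
      map_mul' := fun f g => by
        refine TensorProduct.AlgebraTensorModule.ext fun b x => ?_
        show act δ _ _ = act δ f.ofConv (act δ g.ofConv (b ⊗ₜ[R] x))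
        rw [act_tmul, act_tmul, map_smul, ev_mul δ hassoc] }
  (LinearMap.GeneralLinearGroup.generalLinearEquiv B (B ⊗[R] E)).toMonoidHom.comp
    (MonoidHom.toHomUnits (T.comp (Spec.mapMulEquiv (R := R) (S := A) (T := B)).symm.toMonoidHom))

lemma rho_apply
    (hassoc : (TensorProduct.assoc R E A A).toLinearMap ∘ₗ δ.rTensor A ∘ₗ δ =
      (CoalgebraStruct.comul (R := R) (A := A)).lTensor E ∘ₗ δ)
    (hε : (CoalgebraStruct.counit (R := R) (A := A)).lTensor E ∘ₗ δ = (TensorProduct.mk R E R).flip 1)
    (g : VecGrp.pt R B ⟶ GA) (y : B ⊗[R] E) :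
    rho B δ hassoc hε g y = act δ (Spec.mapMulEquiv.symm g).ofConv y := rfl

lemma symm_ptMap_comp {B' : Type u} [CommRing B'] [Algebra R B'] (φ : B →ₐ[R] B')
    (f : WithConv (A →ₐ[R] B)) :
    Spec.mapMulEquiv (toConv (φ.comp f.ofConv)) = VecGrp.ptMap φ ≫ Spec.mapMulEquiv f := by
  ext1
  show Spec.map _ = Spec.map _ ≫ Spec.map _
  rw [← Spec.map_comp]
  rfl

lemma wmap_act {B' : Type u} [CommRing B'] [Algebra R B'] (φ : B →ₐ[R] B') (f : A →ₐ[R] B)
    (y : B ⊗[R] E) :
    VecGrp.Wmap (M := E) φ (act δ f y) = act δ (φ.comp f) (VecGrp.Wmap φ y) := by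
  induction y using TensorProduct.induction_on with
  | zero => simp
  | tmul b x =>
      rw [VecGrp.Wmap_tmul, act_tmul, act_tmul, VecGrp.Wmap_smul]
      congr 1
      simp only [ev, LinearMap.comp_apply, LinearEquiv.coe_coe]
      generalize δ x = z
      induction z using TensorProduct.induction_on with
      | zero => simp
      | tmul p q => simp
      | add p q hp hq => simp only [map_add, hp, hq]
  | add p q hp hq => simp only [map_add, hp, hq]

lemma gmod_ext {m m' : VecGrp.GMod GA E}
    (h : ∀ (B : Type u) [CommRing B] [Algebra R B] (g : VecGrp.pt R B ⟶ GA) (x : E),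
      m.ρ B g ((1 : B) ⊗ₜ[R] x) = m'.ρ B g ((1 : B) ⊗ₜ[R] x)) : m = m' := by
  obtain ⟨ρ, hρ⟩ := m
  obtain ⟨ρ', hρ'⟩ := m'
  congr 1
  funext B _ _
  refine MonoidHom.ext fun g => LinearEquiv.ext fun y => ?_
  induction y using TensorProduct.induction_on with
  | zero => simp
  | tmul b x =>
      rw [show (b ⊗ₜ[R] x : B ⊗[R] E) = b • ((1 : B) ⊗ₜ[R] x) from by
        rw [TensorProduct.smul_tmul', smul_eq_mul, _root_.mul_one], map_smul, map_smul]
      exact congrArg (b • ·) (h B g x)
  | add p q hp hq => rw [map_add, map_add, hp, hq]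

end

/-- Let R be a commutative ring, A a commutative Hopf algebra over R, G = Spec A the corresponding
affine group scheme over Spec R, and E an R-module. A G-module structure on E (for every R-algebra
B, a natural action of the B-valued points of G on B ⊗_R E by B-linear automorphisms) and a right
A-comodule structure δ : E → E ⊗_R A are said to correspond when, for every R-algebra B, every
B-valued point g of G with associated algebra map f : A → B and every x ∈ E, the point g sends 1 ⊗ x
to the image of δ(x) under E ⊗_R A → B ⊗_R E, y ⊗ a ↦ f(a) ⊗ y. Then every comodule structure on E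
corresponds to exactly one G-module structure, and every G-module structure corresponds to exactly
one R-linear δ : E → E ⊗_R A which is coassociative and counital. -/
theorem result (R : Type u) [CommRing R] (A : Type u) [CommRing A] [HopfAlgebra R A]
    (E : Type u) [AddCommGroup E] [Module R E] :
    (∀ [HopfRep.Comod R A E], ∃! m : VecGrp.GMod ((Spec (CommRingCat.of A)).asOver (Spec (CommRingCat.of R))) E,
        (∀ (B : Type u) [CommRing B] [Algebra R B] (g : VecGrp.pt R B ⟶ ((Spec (CommRingCat.of A)).asOver (Spec (CommRingCat.of R)))) (x : E),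
          m.ρ B g ((1 : B) ⊗ₜ[R] x) =
            (TensorProduct.comm R E B) (LinearMap.lTensor E (Spec.mapMulEquiv.symm g).ofConv.toLinearMap (HopfRep.Comod.coact (k := R) (A := A) x)))) ∧
    (∀ m : VecGrp.GMod ((Spec (CommRingCat.of A)).asOver (Spec (CommRingCat.of R))) E, ∃! δ : E →ₗ[R] E ⊗[R] A,
        ((TensorProduct.assoc R E A A).toLinearMap ∘ₗ δ.rTensor A ∘ₗ δ =
            (CoalgebraStruct.comul (R := R) (A := A)).lTensor E ∘ₗ δ ∧
          (CoalgebraStruct.counit (R := R) (A := A)).lTensor E ∘ₗ δ = (TensorProduct.mk R E R).flip 1) ∧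
        (∀ (B : Type u) [CommRing B] [Algebra R B] (g : VecGrp.pt R B ⟶ ((Spec (CommRingCat.of A)).asOver (Spec (CommRingCat.of R)))) (x : E),
          m.ρ B g ((1 : B) ⊗ₜ[R] x) =
            (TensorProduct.comm R E B) (LinearMap.lTensor E (Spec.mapMulEquiv.symm g).ofConv.toLinearMap (δ x)))) := by
  refine ⟨?_, fun m => ?_⟩
  · intro cE
    let δ : E →ₗ[R] E ⊗[R] A := cE.coact
    let ρ := fun (B : Type u) [CommRing B] [Algebra R B] =>
      rho B δ cE.coassoc cE.counit_comp
    refine ⟨⟨fun B _ _ => ρ B, ?_⟩, ?_, fun m hm => gmod_ext fun B _ _ g x => ?_⟩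
    · intro B B' _ _ _ _ φ g y
      show VecGrp.Wmap φ (rho B δ _ _ g y) = rho B' δ _ _ _ _
      rw [rho_apply, rho_apply, wmap_act]
      congr 1
      conv_rhs => rw [← Spec.mapMulEquiv.apply_symm_apply g, ← symm_ptMap_comp,
        MulEquiv.symm_apply_apply]
    · intro B _ _ g x
      show rho B δ cE.coassoc cE.counit_comp g _ = _
      rw [rho_apply, act_tmul, one_smul]
      rfl
    · rw [hm B g x]
      show _ = rho B δ cE.coassoc cE.counit_comp g _
      rw [rho_apply, act_tmul, one_smul]
      rfl
  · let gid : VecGrp.pt R A ⟶ _ := Spec.mapMulEquiv (toConv (AlgHom.id R A))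
    let δ : E →ₗ[R] E ⊗[R] A := (TensorProduct.comm R A E).toLinearMap ∘ₗ
      (m.ρ A gid).toLinearMap.restrictScalars R ∘ₗ TensorProduct.mk R A E 1
    have huniv : ∀ (B : Type u) [CommRing B] [Algebra R B]
        (f : WithConv (A →ₐ[R] B)) (x : E),
        m.ρ B (Spec.mapMulEquiv f) ((1 : B) ⊗ₜ[R] x) = ev δ f.ofConv x := by
      intro B _ _ f x
      have h := m.naturality f.ofConv gid ((1 : A) ⊗ₜ[R] x)
      rw [← symm_ptMap_comp] at h
      simp only [ofConv_toConv, AlgHom.comp_id, toConv_ofConv, VecGrp.Wmap_tmul, map_one] at h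
      rw [← h]
      simp only [ev, δ, LinearMap.comp_apply, LinearEquiv.coe_coe, LinearMap.restrictScalars_apply,
        TensorProduct.mk_apply]
      generalize (m.ρ A gid) ((1 : A) ⊗ₜ[R] x) = z
      induction z using TensorProduct.induction_on with
      | zero => simp
      | tmul p q => simp
      | add p q hp hq => simp only [map_add, hp, hq]
    have hρ : ∀ (B : Type u) [CommRing B] [Algebra R B] (f : WithConv (A →ₐ[R] B)) (y : B ⊗[R] E),
        m.ρ B (Spec.mapMulEquiv f) y = act δ f.ofConv y := by
      intro B _ _ f y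
      induction y using TensorProduct.induction_on with
      | zero => simp
      | tmul b x =>
          rw [act_tmul, ← huniv B f x, ← map_smul, TensorProduct.smul_tmul', smul_eq_mul, _root_.mul_one]
      | add p q hp hq => rw [map_add, map_add, hp, hq]
    refine ⟨δ, ⟨⟨?_, ?_⟩, fun B _ _ g x => ?_⟩, ?_⟩
    · refine LinearMap.ext fun x => (TensorProduct.comm R E (A ⊗[R] A)).injective ?_
      simp only [LinearMap.comp_apply, LinearEquiv.coe_coe]
      let i : WithConv (A →ₐ[R] A ⊗[R] A) := toConv Algebra.TensorProduct.includeLeft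
      let j : WithConv (A →ₐ[R] A ⊗[R] A) := toConv Algebra.TensorProduct.includeRight
      have hij : (i * j).ofConv.toLinearMap = CoalgebraStruct.comul (R := R) (A := A) := by
        refine LinearMap.ext fun a => ?_
        show (i * j) a = _
        rw [AlgHom.convMul_apply]
        generalize CoalgebraStruct.comul (R := R) a = z
        induction z using TensorProduct.induction_on with
        | zero => simp
        | tmul p q => simp [i, j]
        | add p q hp hq => simp only [map_add, hp, hq]
      have h1 := huniv (A ⊗[R] A) (i * j) x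
      have e : m.ρ (A ⊗[R] A) (Spec.mapMulEquiv (i * j)) =
          m.ρ (A ⊗[R] A) (Spec.mapMulEquiv i) * m.ρ (A ⊗[R] A) (Spec.mapMulEquiv j) :=
        (congrArg (m.ρ (A ⊗[R] A)) (map_mul Spec.mapMulEquiv i j)).trans
          (map_mul (m.ρ (A ⊗[R] A)) _ _)
      erw [e, LinearEquiv.mul_apply, huniv, hρ] at h1
      simp only [ev, LinearMap.comp_apply, LinearEquiv.coe_coe, hij] at h1
      rw [← h1]
      generalize δ x = y
      induction y using TensorProduct.induction_on with
      | zero => simp
      | tmul x' a =>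
          rw [LinearMap.lTensor_tmul, TensorProduct.comm_tmul, act_tmul, LinearMap.rTensor_tmul]
          simp only [ev, LinearMap.comp_apply, LinearEquiv.coe_coe]
          generalize δ x' = z
          induction z using TensorProduct.induction_on with
          | zero => simp
          | tmul p q => simp [i, j, TensorProduct.smul_tmul']
          | add p q hp hq => simp only [TensorProduct.add_tmul, map_add, smul_add, hp, hq]
      | add p q hp hq => simp only [map_add, hp, hq]
    · refine LinearMap.ext fun x => (TensorProduct.comm R E R).injective ?_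
      have h1 := huniv R 1 x
      have e : m.ρ R (Spec.mapMulEquiv (1 : WithConv (A →ₐ[R] R))) = 1 :=
        (congrArg (m.ρ R) (map_one Spec.mapMulEquiv)).trans (map_one (m.ρ R))
      erw [e] at h1
      rw [show (1 : R ⊗[R] E ≃ₗ[R] R ⊗[R] E) ((1 : R) ⊗ₜ[R] x) = (1 : R) ⊗ₜ[R] x from rfl] at h1
      simp only [ev, LinearMap.comp_apply, LinearEquiv.coe_coe] at h1
      simp only [LinearMap.comp_apply, LinearMap.flip_apply, TensorProduct.mk_apply,
        TensorProduct.comm_tmul]
      exact h1.symm
    · have := huniv B (Spec.mapMulEquiv.symm g) x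
      exact (congrArg (fun g' : VecGrp.pt R B ⟶ _ => m.ρ B g' ((1 : B) ⊗ₜ[R] x))
        (Spec.mapMulEquiv.apply_symm_apply g)).symm.trans this
    · rintro δ' ⟨-, h⟩
      refine LinearMap.ext fun x => ?_
      have h1 := h A gid x
      rw [show (Spec.mapMulEquiv.symm gid) = toConv (AlgHom.id R A) from
        Spec.mapMulEquiv.symm_apply_apply _] at h1
      simp only [δ, LinearMap.comp_apply, LinearEquiv.coe_coe, LinearMap.restrictScalars_apply,
        TensorProduct.mk_apply, h1]
      simp

end Groth.Agent.S6094
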