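import Groth.Statements.S6100
import Groth.Agent.Lib.CentW.Radical

set_option autoImplicit false
open CategoryTheory MonoidalCategory CartesianMonoidalCategory MonObj GrpObj AlgebraicGeometry
universe u
open RedSub

namespace Groth.Agent.S6100

/-- Let G be a reductive S-group, H ⟶ G a subgroup of type (R) which is a reductive S-group, rad(H) ⟶
Z(H) ⟶ H its radical, z : Z ⟶ G the centraliser of rad(H) in G, Z(Z) ⟶ Z the centre of Z and rad(Z)
⟶ Z(Z) a maximal torus. Then H ⊆ Centr_G(rad H), and rad(Centr_G(rad H)) = rad(H) as subgroups of G,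
so that rad(H) is a C-critical torus (the radical of its own centraliser). -/
theorem result {S : Scheme.{u}} {G H ZH R Z ZZ RZ : Over S} [GrpObj G] [GrpObj H]
    [GrpObj ZH] [GrpObj R] [GrpObj Z] [GrpObj ZZ] [GrpObj RZ] (hG : Red.IsReductive G)
    (i : H ⟶ G) (hi : RedSub.IsTypeR i) (hH : Red.IsReductive H)
    (jz : ZH ⟶ H) (hZH : Red.IsCentre jz) (r : R ⟶ ZH) (hR : Red.IsMaximalTorus r)
    (z : Z ⟶ G) (hZ : Red.IsCentralizerOf (r ≫ jz ≫ i) z)
    (jzz : ZZ ⟶ Z) (hZZ : Red.IsCentre jzz) (rz : RZ ⟶ ZZ) (hRZ : Red.IsMaximalTorus rz) :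
    (∃ k : H ⟶ Z, k ≫ z = i) ∧ ∃ e : R ≅ RZ, e.hom ≫ rz ≫ jzz ≫ z = r ≫ jz ≫ i := by
  exact Groth.Agent.Lib.CentW.radical_C_critical hG i hi hH jz hZH r hR z hZ jzz hZZ rz hRZ

end Groth.Agent.S6100
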