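import Groth.Statements.S6101
import Groth.Agent.H82.Order.Filtration
-- import your own Groth.Agent.* helpers here

set_option autoImplicit false
open CategoryTheory MonoidalCategory CartesianMonoidalCategory MonObj GrpObj AlgebraicGeometry
universe u
open RedSub
open Groth.Agent.Lib.RedPts Groth.Agent.H82 Groth.Agent.H82.Order
open Groth.Agent.H82.RankOne (P P_eq P_zero P_comp)

namespace Groth.Agent.S6101

/-- On points: let G be a split reductive S-group (splitting D with torus T, lattice M and root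
homomorphisms u_a), fix a total order on M compatible with addition, and let a_1 < ⋯ < a_N be the
roots which are positive for it, enumerated increasingly by e. For i + m = N write U_{>i} for the
products u_{a_{i+1}}(y_1) ⋯ u_{a_N}(y_m) of points of G_a, taken in increasing order. Then: U_{>i}
is closed under products and inverses; it is normalised by the points of T and by the points of
U_{>0}; and conjugating a point of U_{>i} by a point of U_{>0} does not change its first factor y_1
(inner automorphisms of U_{>0} act trivially on U_{>i}/U_{>i+1} = U_{a_{i+1}}). -/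
theorem result {S : Scheme.{u}} {G : Over S} [GrpObj G] (D : Red.SplitRed G)
    [LinearOrder D.M] [IsOrderedAddMonoid D.M] {N : ℕ} (e : Fin N → D.idx) (he : Function.Injective e)
    (hrange : ∀ a : D.idx, a ∈ Set.range e ↔ 0 < D.P.root a) (hmono : StrictMono (fun k => D.P.root (e k)))
    (i m : ℕ) (h : i + m = N) :
    (∀ (X : Over S) (y y' : Fin m → (X ⟶ Red.Ga S)), ∃ z : Fin m → (X ⟶ Red.Ga S),
      (List.ofFn (fun k => z k ≫ D.u (e (Fin.cast h (Fin.natAdd i k))))).prod =
        (List.ofFn (fun k => y k ≫ D.u (e (Fin.cast h (Fin.natAdd i k))))).prod *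
          (List.ofFn (fun k => y' k ≫ D.u (e (Fin.cast h (Fin.natAdd i k))))).prod) ∧
    (∀ (X : Over S) (y : Fin m → (X ⟶ Red.Ga S)), ∃ z : Fin m → (X ⟶ Red.Ga S),
      (List.ofFn (fun k => z k ≫ D.u (e (Fin.cast h (Fin.natAdd i k))))).prod =
        ((List.ofFn (fun k => y k ≫ D.u (e (Fin.cast h (Fin.natAdd i k))))).prod)⁻¹) ∧
    (∀ (X : Over S) (t : X ⟶ D.T) (y : Fin m → (X ⟶ Red.Ga S)), ∃ z : Fin m → (X ⟶ Red.Ga S),
      (List.ofFn (fun k => z k ≫ D.u (e (Fin.cast h (Fin.natAdd i k))))).prod =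
        (t ≫ D.i) * (List.ofFn (fun k => y k ≫ D.u (e (Fin.cast h (Fin.natAdd i k))))).prod * (t ≫ D.i)⁻¹) ∧
    (∀ (X : Over S) (x : Fin N → (X ⟶ Red.Ga S)) (y : Fin m → (X ⟶ Red.Ga S)), ∃ z : Fin m → (X ⟶ Red.Ga S),
      (List.ofFn (fun k => z k ≫ D.u (e (Fin.cast h (Fin.natAdd i k))))).prod =
        (List.ofFn (fun k => x k ≫ D.u (e k))).prod *
          (List.ofFn (fun k => y k ≫ D.u (e (Fin.cast h (Fin.natAdd i k))))).prod *
            ((List.ofFn (fun k => x k ≫ D.u (e k))).prod)⁻¹ ∧
      ∀ k : Fin m, (k : ℕ) = 0 → z k = y k) := by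
  classical
  have hP : ∀ (X : Over S) (y : Fin m → (X ⟶ Red.Ga S)),
      (List.ofFn (fun k => y k ≫ D.u (e (Fin.cast h (Fin.natAdd i k))))).prod =
        Contract.prodPts m (fun k => P (D.u (e (Fin.cast h (Fin.natAdd i k)))) (Red.gaFn (y k))) := fun X y => by
    rw [ofFn_prod]
    exact congrArg _ (funext fun k => P_eq _ _)
  have hmem : ∀ (X : Over S) (y : Fin m → (X ⟶ Red.Ga S)),
      (List.ofFn (fun k => y k ≫ D.u (e (Fin.cast h (Fin.natAdd i k))))).prod ∈ upper e X i := fun X y => by
    rw [hP]; exact prodPts_mem_upper e h _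
  have hco : ∀ (X : Over S) (g : X ⟶ G), g ∈ upper e X i → ∃ z : Fin m → (X ⟶ Red.Ga S),
      (List.ofFn (fun k => z k ≫ D.u (e (Fin.cast h (Fin.natAdd i k))))).prod = g := fun X g hg => by
    obtain ⟨z, rfl⟩ := exists_coords e hrange hmono h hg
    exact ⟨fun k => Ga.gaPt (z k), by rw [ofFn_prod]; rfl⟩
  refine ⟨fun X y y' => hco X _ (mul_mem (hmem X y) (hmem X y')), fun X y => hco X _ (inv_mem (hmem X y)),
    fun X t y => ?_, fun X x y => ?_⟩
  · refine ⟨fun k => Ga.gaPt (Red.gmFn (t ≫ Contract.chr D (D.P.root (e (Fin.cast h (Fin.natAdd i k))))) *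
      Red.gaFn (y k)), ?_⟩
    rw [hP, hP]
    symm
    rw [mul_inv_eq_iff_eq_mul]
    refine Contract.mul_prodPts (t ≫ D.i) fun k => ?_
    rw [Ga.gaFn_gaPt]
    exact Contract.isRootPts D _ t _
  · have hx : (List.ofFn (fun k => x k ≫ D.u (e k))).prod ∈ upper e X 0 := by
      rw [ofFn_prod]
      refine prodPts_mem _ fun k => ?_
      rw [P_eq]
      exact root_mem_upper e k (Nat.zero_le _) _
    cases m with
    | zero => exact ⟨y, by simp, fun k => k.elim0⟩
    | succ m =>
      obtain ⟨z, hz⟩ := conj_first e hrange hmono h hx fun k => Red.gaFn (y k)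
      refine ⟨Fin.cons (y 0) fun k => Ga.gaPt (z k), ?_, fun k hk => ?_⟩
      · rw [hP, hP, hz]
        refine congrArg _ (funext fun k => ?_)
        refine Fin.cases ?_ (fun j => ?_) k
        · simp
        · simp [Ga.gaFn_gaPt]
      · rw [show k = 0 from Fin.ext hk, Fin.cons_zero]

end Groth.Agent.S6101
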