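import Groth.Statements.S6104
import Groth.Agent.H82.R2.CorootChar.Quot

set_option autoImplicit false
open CategoryTheory MonoidalCategory CartesianMonoidalCategory MonObj GrpObj AlgebraicGeometry
universe u
open RedSub
open Groth.Agent.Lib.RedPts Groth.Agent.H82.R2 Groth.Agent.H82.R2.CorootChar
open Groth.Agent.H82.Contract (exists_factor isAffineHom)

namespace Groth.Agent.S6104

/-- Let G be a split reductive S-group (splitting D, T ≅ D_S(M), system of simple roots b, big cell Ω =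
U⁻ · T · U for enumerations of the negative and positive roots), N = {m | (α*, m) = 0 for all
coroots}, T' = D_S(M/N) ⊆ T and Ω' = U⁻ · T' · U. For every S-point w of G normalising T there is an
open V_w ⊆ G containing the unit section such that int(w)Ω' ∩ V_w ⊆ Ω': if g is a point of Ω' and
the point w g w⁻¹ of G lies in V_w, then w g w⁻¹ is a point of Ω'. -/
theorem result {S : Scheme.{u}} {G : Over S} [GrpObj G] (D : Red.SplitRed G)
    (b : D.P.Base) {n m : ℕ} (eneg : Fin n → D.idx) (epos : Fin m → D.idx)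
    (hneg : RedSub.Enumerates (RedSub.negRoots D.P b) eneg) (hpos : RedSub.Enumerates (RedSub.posRoots D.P b) epos)
    (N : AddSubgroup D.M) (hN : ∀ x : D.M, x ∈ N ↔ ∀ c : D.idx, D.P.coroot c x = 0)
    (w : 𝟙_ (Over S) ⟶ G)
    (hw : ∀ (X : Over S) (t : X ⟶ D.T), (∃ t' : X ⟶ D.T, (toUnit X ≫ w) * (t ≫ D.i) * (toUnit X ≫ w)⁻¹ = t' ≫ D.i) ∧
      (∃ t' : X ⟶ D.T, (toUnit X ≫ w)⁻¹ * (t ≫ D.i) * (toUnit X ≫ w) = t' ≫ D.i)) :
    ∃ V : Set ↥G.left, IsOpen V ∧ Set.range η[G].left.base ⊆ V ∧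
      ∀ (X : Over S) (g : X ⟶ RedSub.pow (Red.Ga S) n ⊗ (Red.DS S (D.M ⧸ N) ⊗ RedSub.pow (Red.Ga S) m)),
        Set.range ((toUnit X ≫ w) * (g ≫ ((fst _ _ ≫ RedSub.prodMap (Red.Ga S) n (fun k => D.u (eneg k))) *
        ((snd _ _ ≫ fst _ _ ≫ Red.DSmap S (QuotientAddGroup.mk' N) ≫ D.split.inv.hom.hom ≫ D.i) *
          (snd _ _ ≫ snd _ _ ≫ RedSub.prodMap (Red.Ga S) m (fun k => D.u (epos k)))))) * (toUnit X ≫ w)⁻¹).left.base ⊆ V →
        ∃ g' : X ⟶ RedSub.pow (Red.Ga S) n ⊗ (Red.DS S (D.M ⧸ N) ⊗ RedSub.pow (Red.Ga S) m),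
          (toUnit X ≫ w) * (g ≫ ((fst _ _ ≫ RedSub.prodMap (Red.Ga S) n (fun k => D.u (eneg k))) *
        ((snd _ _ ≫ fst _ _ ≫ Red.DSmap S (QuotientAddGroup.mk' N) ≫ D.split.inv.hom.hom ≫ D.i) *
          (snd _ _ ≫ snd _ _ ≫ RedSub.prodMap (Red.Ga S) m (fun k => D.u (epos k)))))) * (toUnit X ≫ w)⁻¹ = g' ≫ ((fst _ _ ≫ RedSub.prodMap (Red.Ga S) n (fun k => D.u (eneg k))) *
        ((snd _ _ ≫ fst _ _ ≫ Red.DSmap S (QuotientAddGroup.mk' N) ≫ D.split.inv.hom.hom ≫ D.i) *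
          (snd _ _ ≫ snd _ _ ≫ RedSub.prodMap (Red.Ga S) m (fun k => D.u (epos k))))) := by
  haveI := isMonHom_extend (quotSetup hN b eneg epos hneg hpos)
  let Q := quotSetup hN b eneg epos hneg hpos
  haveI : IsOpenImmersion (RedSub.cellMap D eneg epos).left := inferInstanceAs (IsOpenImmersion Q.cell.left)
  refine ⟨Set.range (RedSub.cellMap D eneg epos).left.base,
    (RedSub.cellMap D eneg epos).left.isOpenEmbedding.isOpen_range, ?_, fun X g hr => ?_⟩
  · obtain ⟨z, hz⟩ := exists_of_big Q.hA hneg hpos (Big.one (D := D) (l := Q.l) (𝟙_ (Over S)))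
    rintro _ ⟨p, rfl⟩
    refine ⟨z.left p, ?_⟩
    rw [Gm.η_eq_one, ← hz]
    exact (Scheme.Hom.comp_apply _ _ _).symm
  · refine exists_prime_of_extend hN hneg hpos hr ?_
    rw [MonObj.mul_comp _ _ (extend _), MonObj.mul_comp _ _ (extend _), prime_extend hN hneg hpos g,
      GrpObj.inv_comp _ (extend _)]
    have hh : ∀ {M : Type u} [Group M] (z : M), z * 1 * z⁻¹ = 1 := fun z => by group
    exact @hh (X ⟶ Red.DS S ↥N) Hom.group _

end Groth.Agent.S6104
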