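import Groth.Statements.S6105
import Groth.Agent.H82.R2.CorootChar.Quot

set_option autoImplicit false
open CategoryTheory MonoidalCategory CartesianMonoidalCategory MonObj GrpObj AlgebraicGeometry
universe u
open RedSub
open Groth.Agent.Lib.RedPts Groth.Agent.H82.R2 Groth.Agent.H82.R2.CorootChar
open Groth.Agent.H82.Contract (exists_factor isAffineHom)

namespace Groth.Agent.S6105

/-- Let G be a split reductive S-group (splitting D, T ≅ D_S(M), system of simple roots b, enumerations
of the negative and positive roots, U = ∏_{a > 0} U_a, U⁻ = ∏_{a < 0} U_a), N = {m | (α*, m) = 0 for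
all coroots}, T' = D_S(M/N) ⊆ T and Ω' = U⁻ · T' · U. Then there is an open V₀ ⊆ G containing the
unit section such that U(S') U⁻(S') ∩ V₀(S') ⊆ Ω'(S') for every S': a product x y of a point x of U
and a point y of U⁻ which lies in V₀ is a point of Ω'. -/
theorem result {S : Scheme.{u}} {G : Over S} [GrpObj G]
    (D : Red.SplitRed G) (b : D.P.Base) {n m : ℕ} (eneg : Fin n → D.idx) (epos : Fin m → D.idx)
    (hneg : RedSub.Enumerates (RedSub.negRoots D.P b) eneg) (hpos : RedSub.Enumerates (RedSub.posRoots D.P b) epos)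
    (N : AddSubgroup D.M) (hN : ∀ x : D.M, x ∈ N ↔ ∀ c : D.idx, D.P.coroot c x = 0) :
    ∃ V : Set ↥G.left, IsOpen V ∧ Set.range η[G].left.base ⊆ V ∧
      ∀ (X : Over S) (x : X ⟶ RedSub.pow (Red.Ga S) m) (y : X ⟶ RedSub.pow (Red.Ga S) n),
        Set.range ((x ≫ RedSub.prodMap (Red.Ga S) m (fun k => D.u (epos k))) *
          (y ≫ RedSub.prodMap (Red.Ga S) n (fun k => D.u (eneg k)))).left.base ⊆ V →
        ∃ g' : X ⟶ RedSub.pow (Red.Ga S) n ⊗ (Red.DS S (D.M ⧸ N) ⊗ RedSub.pow (Red.Ga S) m),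
          (x ≫ RedSub.prodMap (Red.Ga S) m (fun k => D.u (epos k))) *
            (y ≫ RedSub.prodMap (Red.Ga S) n (fun k => D.u (eneg k))) = g' ≫ ((fst _ _ ≫ RedSub.prodMap (Red.Ga S) n (fun k => D.u (eneg k))) *
        ((snd _ _ ≫ fst _ _ ≫ Red.DSmap S (QuotientAddGroup.mk' N) ≫ D.split.inv.hom.hom ≫ D.i) *
          (snd _ _ ≫ snd _ _ ≫ RedSub.prodMap (Red.Ga S) m (fun k => D.u (epos k))))) := by
  haveI := isMonHom_extend (quotSetup hN b eneg epos hneg hpos)
  let Q := quotSetup hN b eneg epos hneg hpos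
  haveI : IsOpenImmersion (RedSub.cellMap D eneg epos).left := inferInstanceAs (IsOpenImmersion Q.cell.left)
  refine ⟨Set.range (RedSub.cellMap D eneg epos).left.base,
    (RedSub.cellMap D eneg epos).left.isOpenEmbedding.isOpen_range, ?_, fun X x y hr => ?_⟩
  · obtain ⟨z, hz⟩ := exists_of_big Q.hA hneg hpos (Big.one (D := D) (l := Q.l) (𝟙_ (Over S)))
    rintro _ ⟨p, rfl⟩
    refine ⟨z.left p, ?_⟩
    rw [Gm.η_eq_one, ← hz]
    exact (Scheme.Hom.comp_apply _ _ _).symm
  · refine exists_prime_of_extend hN hneg hpos hr ?_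
    have h : ∀ {k : ℕ} (d : Fin k → D.idx) (z : X ⟶ RedSub.pow (Red.Ga S) k),
        (z ≫ RedSub.prodMap (Red.Ga S) k fun j => D.u (d j)) ≫ extend Q = 1 := fun {k} d z => by
      rw [Groth.Agent.H82.Contract.comp_prodMap, Groth.Agent.H82.Contract.prodPts_comp_hom (extend Q)]
      simp only [Category.assoc, root_extend, MonObj.comp_one]
      clear z d hr
      induction k with
      | zero => rfl
      | succ k ih =>
        rw [Groth.Agent.H82.Contract.prodPts_succ, ih]
        exact _root_.one_mul _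
    rw [MonObj.mul_comp _ _ (extend _), h, h]
    exact @_root_.one_mul (X ⟶ Red.DS S ↥N) _ 1

end Groth.Agent.S6105
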