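import Groth.Statements.S6106
import Groth.Agent.Lib.CentW.Radical

set_option autoImplicit false
open CategoryTheory MonoidalCategory CartesianMonoidalCategory MonObj GrpObj AlgebraicGeometry
universe u
open RedSub

namespace Groth.Agent.S6106

/-- Let G be a reductive S-group, q : Q ⟶ G a subtorus, Z = Centr_G(Q), Z(Z) its centre and rad(Z) ⟶
Z(Z) a maximal torus. If q' : Q' ⟶ G is a subtorus containing Q which is C-critical (Q' is the
radical of its centraliser Z': it factors through the centre Z(Z') as a maximal torus of Z(Z')),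
then rad(Centr_G(Q)) ⊆ Q' as subgroups of G. Since rad(Centr_G(Q)) contains Q and is itself
C-critical, this says it is the smallest C-critical torus of G containing Q. -/
theorem result {S : Scheme.{u}} {G Q Z ZZ RZ Q' Z' ZZ' : Over S} [GrpObj G]
    [GrpObj Q] [GrpObj Z] [GrpObj ZZ] [GrpObj RZ] [GrpObj Q'] [GrpObj Z'] [GrpObj ZZ'] (hG : Red.IsReductive G)
    (q : Q ⟶ G) [IsMonHom q] [Mono q] (hQ : Red.IsTorus Q) (z : Z ⟶ G) (hZ : Red.IsCentralizerOf q z)
    (jzz : ZZ ⟶ Z) (hZZ : Red.IsCentre jzz) (rz : RZ ⟶ ZZ) (hRZ : Red.IsMaximalTorus rz)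
    (q' : Q' ⟶ G) [IsMonHom q'] [Mono q'] (hQ' : Red.IsTorus Q') (k : Q ⟶ Q') (hk : k ≫ q' = q)
    (z' : Z' ⟶ G) (hZ' : Red.IsCentralizerOf q' z') (jzz' : ZZ' ⟶ Z') (hZZ' : Red.IsCentre jzz')
    (m' : Q' ⟶ ZZ') (hm' : m' ≫ jzz' ≫ z' = q') (hcrit : Red.IsMaximalTorus m') :
    ∃ l : RZ ⟶ Q', l ≫ q' = rz ≫ jzz ≫ z := by
  exact Groth.Agent.Lib.CentW.least_C_critical hG q z hZ jzz hZZ rz hRZ q' hQ' k hk z' hZ' jzz' hZZ' m' hm' hcrit

end Groth.Agent.S6106
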