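import Groth.Statements.S6107
import Groth.Agent.Lib.CentW.Radical

set_option autoImplicit false
open CategoryTheory MonoidalCategory CartesianMonoidalCategory MonObj GrpObj AlgebraicGeometry
universe u
open RedSub

namespace Groth.Agent.S6107

/-- Let G be a reductive S-group, H ⟶ G a subgroup of type (R) which is a reductive S-group, rad(H) ⟶
Z(H) ⟶ H its radical and z : Z ⟶ G the centraliser of rad(H) in G. If H'' ⟶ G is a subgroup of type
(R), reductive, containing H and critical (H'' is the centraliser in G of its radical rad(H'')),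
then Centr_G(rad H) ⊆ H'' as subgroups of G. Since Centr_G(rad H) contains H and is itself critical,
this says it is the smallest critical reductive subgroup of type (R) of G containing H. -/
theorem result {S : Scheme.{u}} {G H ZH R Z H'' ZH'' R'' : Over S}
    [GrpObj G] [GrpObj H] [GrpObj ZH] [GrpObj R] [GrpObj Z] [GrpObj H''] [GrpObj ZH''] [GrpObj R'']
    (hG : Red.IsReductive G) (i : H ⟶ G) (hi : RedSub.IsTypeR i) (hH : Red.IsReductive H)
    (jz : ZH ⟶ H) (hZH : Red.IsCentre jz) (r : R ⟶ ZH) (hR : Red.IsMaximalTorus r)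
    (z : Z ⟶ G) (hZ : Red.IsCentralizerOf (r ≫ jz ≫ i) z)
    (i'' : H'' ⟶ G) (hi'' : RedSub.IsTypeR i'') (hH'' : Red.IsReductive H'') (k : H ⟶ H'') (hk : k ≫ i'' = i)
    (jz'' : ZH'' ⟶ H'') (hZH'' : Red.IsCentre jz'') (r'' : R'' ⟶ ZH'') (hR'' : Red.IsMaximalTorus r'')
    (hcrit : Red.IsCentralizerOf (r'' ≫ jz'' ≫ i'') i'') :
    ∃ l : Z ⟶ H'', l ≫ i'' = z := by
  exact Groth.Agent.Lib.CentW.least_critical hG i hi hH jz hZH r hR z hZ i'' hi'' hH'' k hk jz'' hZH'' r'' hR'' hcrit

end Groth.Agent.S6107
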