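import Groth.Statements.S6108
import Groth.Agent.H82.Order.Homs
-- import your own Groth.Agent.* helpers here

set_option autoImplicit false
open CategoryTheory MonoidalCategory CartesianMonoidalCategory MonObj GrpObj AlgebraicGeometry
universe u
open RedSub
open Groth.Agent.Lib.RedPts Groth.Agent.H82 Groth.Agent.H82.Order
open Groth.Agent.H82.RankOne (P P_eq P_zero P_comp)

namespace Groth.Agent.S6108

/-- Let G be a split reductive S-group (splitting D with root homomorphisms u_a, lattice M), fix a total
order on M compatible with addition, let a_1 < ⋯ < a_N be the positive roots enumerated increasingly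
by e, and let f_1, …, f_N : G_a ⟶ H be homomorphisms into an S-group scheme H. Let F be the map
u_{a_1}(x_1) ⋯ u_{a_N}(x_N) ↦ f_1(x_1) ⋯ f_N(x_N) on points of U = U_{a_1} ⋯ U_{a_N}. Then F is
multiplicative if and only if, for all i < j and all points a, c of G_a, F applied to the
coordinates of u_{a_j}(c) u_{a_i}(a) u_{a_j}(c)⁻¹ equals f_j(c) f_i(a) f_j(c)⁻¹. (The published
statement allows H to be any group functor over S; this row takes H to be a group scheme over S.) -/
theorem result {S : Scheme.{u}} {G H : Over S} [GrpObj G] [GrpObj H]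
    (D : Red.SplitRed G) [LinearOrder D.M] [IsOrderedAddMonoid D.M] {N : ℕ} (e : Fin N → D.idx)
    (he : Function.Injective e) (hrange : ∀ a : D.idx, a ∈ Set.range e ↔ 0 < D.P.root a)
    (hmono : StrictMono (fun k => D.P.root (e k))) (f : Fin N → (Red.Ga S ⟶ H)) (hf : ∀ k, IsMonHom (f k)) :
    (∀ (X : Over S) (x y z : Fin N → (X ⟶ Red.Ga S)),
      (List.ofFn (fun k => z k ≫ D.u (e k))).prod =
          (List.ofFn (fun k => x k ≫ D.u (e k))).prod * (List.ofFn (fun k => y k ≫ D.u (e k))).prod →
        (List.ofFn (fun k => z k ≫ f k)).prod =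
          (List.ofFn (fun k => x k ≫ f k)).prod * (List.ofFn (fun k => y k ≫ f k)).prod) ↔
    (∀ (X : Over S) (i j : Fin N), i < j → ∀ (a c : X ⟶ Red.Ga S) (z : Fin N → (X ⟶ Red.Ga S)),
      (List.ofFn (fun k => z k ≫ D.u (e k))).prod = (c ≫ D.u (e j)) * (a ≫ D.u (e i)) * (c ≫ D.u (e j))⁻¹ →
        (List.ofFn (fun k => z k ≫ f k)).prod = (c ≫ f j) * (a ≫ f i) * (c ≫ f j)⁻¹) := by
  classical
  haveI := hf
  simp only [ofFn_prod, P_eq]
  constructor
  · intro hF X i j hij a c z hz
    -- coordinates of single root elements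
    let sg : Fin N → (X ⟶ Red.Ga S) → Fin N → (X ⟶ Red.Ga S) := fun q r k => if k = q then r else 1
    have h1 : ∀ (K : Over S) [GrpObj K] (F : Fin N → (Red.Ga S ⟶ K)), (∀ k, IsMonHom (F k)) → ∀ q r,
        Contract.prodPts N (fun k => P (F k) (Red.gaFn (sg q r k))) = P (F q) (Red.gaFn r) := by
      intro K _ F hF q r
      rw [Weyl.prodPts_single q fun k hk => ?_]
      · simp [sg]
      · haveI := hF k
        simp [sg, hk, Ga.gaFn_one, P_zero]
    have hu := h1 G (fun k => D.u (e k)) fun k => inferInstance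
    have hv := h1 H f hf
    obtain ⟨w, hw⟩ := exists_coords e hrange hmono (m := N) (i := 0) (Nat.zero_add N)
      (mul_mem (root_mem_upper e j (Nat.zero_le _) (Red.gaFn c))
        (root_mem_upper e i (Nat.zero_le _) (Red.gaFn a)))
    have hid : ∀ k : Fin N, Fin.cast (Nat.zero_add N) (Fin.natAdd 0 k) = k := fun k => Fin.ext (by simp)
    simp only [hid] at hw
    have g1 := hF X (sg j c) (sg i a) (fun k => Ga.gaPt (w k))
      (by simp only [Ga.gaFn_gaPt, hu]; exact hw.symm)
    have g2 := hF X z (sg j c) (fun k => Ga.gaPt (w k))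
      (by simp only [Ga.gaFn_gaPt, hu, hz, inv_mul_cancel_right]; exact hw.symm)
    simp only [Ga.gaFn_gaPt, hv] at g1 g2
    rw [eq_mul_inv_iff_mul_eq, ← g2, g1]
  · intro h X x y z hz
    refine mul_of_relations e f he hrange hmono hf (fun X i j hij a c z hz => ?_) _ _ _ hz
    have := h X i j hij (Ga.gaPt a) (Ga.gaPt c) (fun k => Ga.gaPt (z k))
      (by simpa only [Ga.gaFn_gaPt] using hz)
    simpa only [Ga.gaFn_gaPt] using this

end Groth.Agent.S6108
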