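import Groth.Statements.S6119
import Groth.Agent.H83.Fppf
import Groth.Agent.Lib.Tori.Basic
import Groth.Agent.Lib.Flat55.FlatDescend

set_option autoImplicit false
open CategoryTheory MonoidalCategory CartesianMonoidalCategory MonObj GrpObj AlgebraicGeometry
universe u
open RedSub
open CartesianMonoidalCategory MonObj GrpObj

namespace Groth.Agent.S6119

/-- The identification G/H ≅ corad(G)/corad(H): let G be a reductive S-group, d : D ⟶ G its derived
group and f₀ : G ⟶ C its coradical (C commutative, D = Ker f₀, f₀ the fppf quotient G/D, D killed by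
every homomorphism to a commutative S-group scheme). Let t : T'' ⟶ C be a subtorus, H = G x_C T''
its preimage under f₀ (with projections k : H ⟶ G and g : H ⟶ T''), and q : G ⟶ Q the fppf quotient
of G by H. Then q factors uniquely as f₀ followed by q' : C ⟶ Q, and q' exhibits Q as the fppf
quotient of C by T''. -/
theorem result {S : Scheme.{u}} {G D C T'' H Q : Over S} [GrpObj G] [GrpObj D]
    [GrpObj C] [GrpObj T''] [GrpObj H] (hG : Red.IsReductive G) (d : D ⟶ G) [IsMonHom d]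
    (f₀ : G ⟶ C) [IsMonHom f₀] (hC : ∀ (X : Over S) (a b : X ⟶ C), a * b = b * a) (hker : AlgGrp.IsKernel d f₀)
    (hquot : RedSub.IsQuotient d f₀) (hkill : RedSub.KilledByCommutative d)
    (t : T'' ⟶ C) [IsMonHom t] [Mono t] (hT'' : Red.IsTorus T'') (k : H ⟶ G) [IsMonHom k] (g : H ⟶ T'') [IsMonHom g]
    (hsq : IsPullback k g f₀ t) (q : G ⟶ Q) (hq : RedSub.IsQuotient k q) :
    ∃! q' : C ⟶ Q, f₀ ≫ q' = q ∧ RedSub.IsQuotient t q' := by
  have hcf := Groth.Agent.H83.Fppf.isCov_of_isQuotient hquot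
  have hcq := Groth.Agent.H83.Fppf.isCov_of_isQuotient hq
  have hd : d ≫ f₀ = toUnit D ≫ η[C] := hker.w
  have ht : η[T''] ≫ t = η[C] := IsMonHom.one_hom t
  obtain ⟨e, he⟩ : ∃ e : D ⟶ H, e ≫ k = d :=
    ⟨hsq.lift d (toUnit D ≫ η[T'']) (by rw [hd, Category.assoc, ht]), hsq.lift_fst _ _ _⟩
  obtain ⟨q', hq'⟩ := Groth.Agent.H83.Fppf.exists_desc_quotient hquot q (by
    intro T x h
    rw [← he, ← Category.assoc h e]
    exact Groth.Agent.H83.Fppf.eq_of_translate hq x (h ≫ e))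
  have hgt : ∀ {X : Over S} (a : X ⟶ C) (s : X ⟶ T''), (a * (s ≫ t)) ≫ q' = a ≫ q' := by
    intro X a s
    obtain ⟨X₁, p, g₁, hp, hg₁⟩ := hcf.exists_lift a
    obtain ⟨X₂, r, g₂, hr, hg₂⟩ := hcf.exists_lift (p ≫ s ≫ t)
    apply (hr.comp hp).cancel
    let h₂ : X₂ ⟶ H := hsq.lift g₂ (r ≫ p ≫ s) (by rw [hg₂]; simp)
    have hh₂ : h₂ ≫ k = g₂ := hsq.lift_fst _ _ _
    have e2 : (r ≫ p) ≫ (a * (s ≫ t)) = ((r ≫ g₁) * g₂) ≫ f₀ := by
      rw [MonObj.comp_mul, MonObj.mul_comp, hg₂, Category.assoc r g₁ f₀, hg₁]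
      simp
    have e3 : (r ≫ p) ≫ a = (r ≫ g₁) ≫ f₀ := by rw [Category.assoc r g₁ f₀, hg₁]; simp
    rw [← Category.assoc (r ≫ p), ← Category.assoc (r ≫ p), e2, e3, Category.assoc, Category.assoc,
      hq', ← hh₂, Groth.Agent.H83.Fppf.eq_of_translate hq]
  have hex : ∀ {X : Over S} (a c : X ⟶ C), a ≫ q' = c ≫ q' → ∃ s : X ⟶ T'', c = a * (s ≫ t) := by
    intro X a c e1
    obtain ⟨X₁, p, g₁, hp, hg₁⟩ := hcf.exists_lift a
    obtain ⟨X₂, r, g₂, hr, hg₂⟩ := hcf.exists_lift (p ≫ c)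
    have e4 : (r ≫ g₁) ≫ q = g₂ ≫ q := by
      rw [← hq', ← Category.assoc, ← Category.assoc, Category.assoc r g₁ f₀, hg₁, hg₂]
      simp only [Category.assoc, e1]
    obtain ⟨h, hh⟩ := Groth.Agent.H83.Fppf.exists_translate hq e4
    have e5 : (h ≫ g) ≫ t = (r ≫ p) ≫ (a⁻¹ * c) := by
      have e6 : g₂ ≫ f₀ = ((r ≫ g₁) ≫ f₀) * ((h ≫ k) ≫ f₀) := by rw [hh, MonObj.mul_comp]
      rw [Category.assoc h k, hsq.w, Category.assoc r g₁ f₀, hg₁, hg₂] at e6
      rw [MonObj.comp_mul, GrpObj.comp_inv]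
      simp only [Category.assoc] at e6 ⊢
      rw [e6]; group
    obtain ⟨w, hw⟩ := (hr.comp hp).exists_factor_mono t (a⁻¹ * c) (h ≫ g) e5
    exact ⟨w, by rw [hw]; group⟩
  have hmu : ∀ {A B : Over S} (f : A ⟶ C) (u : B ⟶ C),
      (f ⊗ₘ u) ≫ μ[C] = (fst A B ≫ f) * (snd A B ≫ u) := by
    intro A B f u
    rw [Hom.mul_def]
    congr 1
  have hpb : ∀ {A : Over S} (f : A ⟶ C),
      IsPullback (fst A T'') ((fst A T'' ≫ f) * (snd A T'' ≫ t)) (f ≫ q') q' := by
    intro A f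
    refine Groth.Agent.H83.Fppf.isPullback_of_points (by rw [hgt, Category.assoc]) ?_
    intro X x y exy
    obtain ⟨s, hs⟩ := hex (x ≫ f) y (by rw [Category.assoc]; exact exy)
    refine ⟨lift x s, ⟨lift_fst _ _, ?_⟩, ?_⟩
    · rw [MonObj.comp_mul, lift_fst_assoc, lift_snd_assoc, hs]
    · rintro p ⟨h1, h2⟩
      rw [MonObj.comp_mul, reassoc_of% h1, hs, mul_left_cancel_iff, ← Category.assoc,
        cancel_mono] at h2
      exact CartesianMonoidalCategory.hom_ext _ _ (by rw [h1, lift_fst]) (by rw [h2, lift_snd])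
  have sur : Surjective q'.left := by
    have : Surjective (f₀.left ≫ q'.left) := by rw [← Over.comp_left, hq']; exact hq.1
    exact Surjective.of_comp f₀.left q'.left
  have fl : Flat q'.left := by
    have : Flat (f₀.left ≫ q'.left) := by rw [← Over.comp_left, hq']; exact hq.2.1
    have := hquot.1
    have := hquot.2.1
    exact Groth.Agent.Lib.Flat55.FlatDescend.flat_of_comp f₀.left q'.left
  have lfp : LocallyOfFinitePresentation q'.left := by
    have := Groth.Agent.Lib.Tori.Basic.smooth_of_isTorus hT''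
    have sq : IsPullback (fst G T'') ((fst G T'' ≫ f₀) * (snd G T'' ≫ t)) q q' := hq' ▸ hpb f₀
    refine hcq.lfp_of_isPullback sq ?_
    change LocallyOfFinitePresentation (Limits.pullback.fst G.hom T''.hom)
    infer_instance
  refine ⟨q', ⟨hq', sur, fl, lfp, ?_⟩, fun q'' h'' ↦ hcf.cancel (h''.1.trans hq'.symm)⟩
  have h1 := hpb (𝟙 C)
  rw [Category.id_comp] at h1
  rw [← id_tensorHom, hmu (𝟙 C) t]
  exact h1

end Groth.Agent.S6119
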