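import Groth.Statements.S6120
import Mathlib.CategoryTheory.Limits.Shapes.Equalizers
import Mathlib.CategoryTheory.Limits.Shapes.BinaryProducts

set_option autoImplicit false
open CategoryTheory CategoryTheory.Limits Opposite
universe w v₁ v₂ u₁ u₂
open SGA4

namespace Groth.Agent.S6120

/-- Let `I` be a category with a family of objects `i α` (`α : A`) such that every binary product `i α ⨯
i β` exists in `I` and every object of `I` admits a morphism to some `i α`. Let `F : Iᵒᵖ ⥤ C` be a
functor, and assume that `C` has equalizers and that the products `∏ F (i α)` and `∏ F (i α ⨯ i β)`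
exist in `C`. Then the limit of `F` exists, the canonical map `lim F ⟶ ∏ F (i α)` is a monomorphism,
and a map `t : T ⟶ ∏ F (i α)` factors through `lim F` exactly when its composites with the two maps
`∏ F (i α) ⇉ ∏ F (i α ⨯ i β)` induced by the two projections agree: `lim F` is the equalizer of that
pair. (The published statement assumes that `C` has all limits of the size of `A`; only equalizers
and the two products named are assumed here, which is what the equalizer construction uses.) -/
theorem result
    {I : Type u₁} [Category.{v₁} I] {C : Type u₂} [Category.{v₂} C] {A : Type w} (i : A → I)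
    [∀ α β, HasBinaryProduct (i α) (i β)]
    (hcov : ∀ j : I, ∃ α, Nonempty (j ⟶ i α))
    (F : Iᵒᵖ ⥤ C) [HasEqualizers C]
    [HasProduct (fun α => F.obj (op (i α)))]
    [HasProduct (fun p : A × A => F.obj (op (i p.1 ⨯ i p.2)))] :
    HasLimit F ∧ ∀ [HasLimit F],
      Mono (Pi.lift (fun α => limit.π F (op (i α)))) ∧
      ∀ (T : C) (t : T ⟶ ∏ᶜ (fun α => F.obj (op (i α)))),
        (∃ s : T ⟶ limit F, s ≫ Pi.lift (fun α => limit.π F (op (i α))) = t) ↔
        t ≫ Pi.lift (fun p : A × A =>
            Pi.π (fun α => F.obj (op (i α))) p.1 ≫ F.map (prod.fst : i p.1 ⨯ i p.2 ⟶ i p.1).op) =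
        t ≫ Pi.lift (fun p : A × A =>
            Pi.π (fun α => F.obj (op (i α))) p.2 ≫ F.map (prod.snd : i p.1 ⨯ i p.2 ⟶ i p.2).op) := by
  classical
  let P := fun α => F.obj (op (i α))
  let a : (∏ᶜ P) ⟶ ∏ᶜ (fun p : A × A => F.obj (op (i p.1 ⨯ i p.2))) :=
    Pi.lift (fun p : A × A => Pi.π P p.1 ≫ F.map (prod.fst : i p.1 ⨯ i p.2 ⟶ i p.1).op)
  let b : (∏ᶜ P) ⟶ ∏ᶜ (fun p : A × A => F.obj (op (i p.1 ⨯ i p.2))) :=
    Pi.lift (fun p : A × A => Pi.π P p.2 ≫ F.map (prod.snd : i p.1 ⨯ i p.2 ⟶ i p.2).op)
  choose α hα using hcov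
  let φ : ∀ j, j ⟶ i (α j) := fun j => (hα j).some
  have key : ∀ {T : C} (t : T ⟶ ∏ᶜ P), t ≫ a = t ≫ b → ∀ (j : I) (β γ : A) (f : j ⟶ i β) (g : j ⟶ i γ),
      t ≫ Pi.π P β ≫ F.map f.op = t ≫ Pi.π P γ ≫ F.map g.op := by
    intro T t ht j β γ f g
    have h := congrArg (fun z => z ≫ Pi.π _ (β, γ) ≫ F.map (prod.lift f g).op) ht
    simp only [a, b, Category.assoc, Pi.lift_π_assoc, ← F.map_comp, ← op_comp, prod.lift_fst,
      prod.lift_snd] at h
    exact h
  have heq : equalizer.ι a b ≫ a = equalizer.ι a b ≫ b := equalizer.condition a b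
  let c : Cone F :=
    { pt := equalizer a b
      π :=
        { app := fun j => equalizer.ι a b ≫ Pi.π P (α j.unop) ≫ F.map (φ j.unop).op
          naturality := fun j k f => by
            refine (Category.id_comp _).trans ((key _ heq k.unop _ _ (φ k.unop) (f.unop ≫ φ j.unop)).trans ?_)
            simp only [Category.assoc, op_comp, F.map_comp, Quiver.Hom.op_unop] } }
  have hs : ∀ (s : Cone F), Pi.lift (fun β => s.π.app (op (i β))) ≫ a = Pi.lift (fun β => s.π.app (op (i β))) ≫ b := by
    intro s
    apply Pi.hom_ext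
    intro p
    simp only [a, b, P, Category.assoc, Pi.lift_π]
    rw [Pi.lift_π_assoc, Pi.lift_π_assoc]
    exact (s.w (prod.fst : i p.1 ⨯ i p.2 ⟶ i p.1).op).trans (s.w (prod.snd : i p.1 ⨯ i p.2 ⟶ i p.2).op).symm
  have hc : IsLimit c :=
    { lift := fun s => equalizer.lift (Pi.lift (fun β => s.π.app (op (i β)))) (hs s)
      fac := fun s j => by
        simp only [c, equalizer.lift_ι_assoc, P, Pi.lift_π_assoc]
        exact s.w (φ j.unop).op
      uniq := fun s m hm => by
        apply equalizer.hom_ext
        rw [equalizer.lift_ι]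
        apply Pi.hom_ext
        intro β
        rw [Pi.lift_π, ← hm (op (i β))]
        simp only [c, Category.assoc]
        congr 1
        have := key _ heq (i β) β (α (i β)) (𝟙 _) (φ (i β))
        rw [op_id, F.map_id, Category.comp_id] at this
        exact this }
  refine ⟨HasLimit.mk ⟨c, hc⟩, ?_⟩
  intro _
  refine ⟨⟨fun {Z} g h hgh => ?_⟩, fun T t => ⟨?_, ?_⟩⟩
  · apply limit.hom_ext
    intro j
    have := congrArg (fun z => z ≫ Pi.π _ (α j.unop) ≫ F.map (φ j.unop).op) hgh
    simp only [Category.assoc, Pi.lift_π_assoc] at this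
    rwa [limit.w F (φ j.unop).op] at this
  · rintro ⟨s, rfl⟩
    apply Pi.hom_ext
    intro p
    simp only [Category.assoc, Pi.lift_π, Pi.lift_π_assoc, limit.w]
  · intro ht
    let s : Cone F :=
      { pt := T
        π :=
          { app := fun j => t ≫ Pi.π P (α j.unop) ≫ F.map (φ j.unop).op
            naturality := fun j k f => by
              refine (Category.id_comp _).trans ((key t ht k.unop _ _ (φ k.unop) (f.unop ≫ φ j.unop)).trans ?_)
              simp only [Category.assoc, op_comp, F.map_comp, Quiver.Hom.op_unop] } }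
    refine ⟨limit.lift F s, ?_⟩
    apply Pi.hom_ext
    intro β
    rw [Category.assoc, Pi.lift_π, limit.lift_π]
    have := key t ht (i β) (α (i β)) β (φ (i β)) (𝟙 _)
    rw [op_id, F.map_id, Category.comp_id] at this
    exact this

end Groth.Agent.S6120
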