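import Groth.Statements.S6122
import Mathlib

set_option autoImplicit false
open CategoryTheory
universe v₁ v₂ u₁ u₂
open SGA4

namespace Groth.Agent.S6122

/-- For a fibered functor `p : E ⥤ B` (every morphism of `B` has a cartesian lift with prescribed
codomain, and cartesian morphisms compose), `p` is faithful if and only if every fibre category of
`p` (objects over `b`, morphisms lying over the identity of `b`) has at most one morphism between
any two objects. -/
theorem result
    {B : Type u₁} [Category.{v₁} B] {E : Type u₂} [Category.{v₂} E] (p : E ⥤ B) [p.IsFibered] :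
    p.Faithful ↔ ∀ (b : B) (x y : p.Fiber b), Subsingleton (x ⟶ y) := by
  constructor
  · intro _ b x y
    refine ⟨fun φ ψ => Functor.Fiber.hom_ext (p.map_injective ?_)⟩
    haveI := φ.2
    haveI := ψ.2
    exact (IsHomLift.fac' p (𝟙 b) φ.1).trans (IsHomLift.fac' p (𝟙 b) ψ.1).symm
  · intro h
    refine ⟨fun {x y} φ ψ e => ?_⟩
    let m := Functor.IsPreFibered.pullbackMap (rfl : p.obj y = p.obj y) (p.map φ)
    haveI : p.IsHomLift (p.map φ) ψ := e ▸ IsHomLift.map p ψ
    let a₁ := Functor.IsCartesian.map p (p.map φ) m φ
    let a₂ := Functor.IsCartesian.map p (p.map φ) m ψ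
    haveI := h (p.obj x) (Functor.Fiber.mk (rfl : p.obj x = p.obj x))
      (Functor.Fiber.mk (Functor.IsPreFibered.pullbackObj_proj (rfl : p.obj y = p.obj y) (p.map φ)))
    have : a₁ = a₂ := congrArg Subtype.val (Subsingleton.elim (Functor.Fiber.homMk p (p.obj x) a₁)
      (Functor.Fiber.homMk p (p.obj x) a₂))
    rw [← Functor.IsCartesian.fac p (p.map φ) m φ, ← Functor.IsCartesian.fac p (p.map φ) m ψ]
    exact congrArg (· ≫ m) this

end Groth.Agent.S6122
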