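import Groth.Statements.S6124
import Mathlib

set_option autoImplicit false
open CategoryTheory CategoryTheory.Limits Opposite
universe w v₁ v₂ u₁ u₂
open SGA4

namespace Groth.Agent.S6124

/-- Let `E` have pullbacks, let `P` be a detecting family of objects of `E` (a morphism `f` is
invertible as soon as every map out of an object of `P` factors uniquely through `f`), and let `φ i
: E ⥤ E' i` be functors preserving pullbacks. Then the `φ i` jointly reflect isomorphisms if and
only if, for every `X` with `P X` and every subobject `X'` of `X` other than `⊤`, some `φ i` takes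
the inclusion `X' ⟶ X` to a morphism that is not invertible. -/
theorem result
    {E : Type u₁} [Category.{v₁} E] [HasPullbacks E] (P : ObjectProperty E) (hP : P.IsDetecting)
    {κ : Type w} {E' : κ → Type u₂} [∀ k, Category.{v₂} (E' k)] (φ : ∀ k, E ⥤ E' k)
    [∀ k, PreservesLimitsOfShape WalkingCospan (φ k)] :
    (∀ ⦃X Y : E⦄ (f : X ⟶ Y), (∀ k, IsIso ((φ k).map f)) → IsIso f) ↔
      ∀ (X : E), P X → ∀ (X' : Subobject X), X' ≠ ⊤ → ∃ k, ¬ IsIso ((φ k).map X'.arrow) := by
  constructor
  · intro h X _ X' hX'
    by_contra hc
    push Not at hc
    exact hX' ((Subobject.isIso_arrow_iff_eq_top X').1 (h _ hc))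
  · intro h X Y f hf
    have hmono : Mono f := by
      have key : ∀ k, IsIso ((φ k).map (pullback.diagonal f)) := fun k => by
        haveI := hf k
        have hp := (IsPullback.of_hasPullback f f).map (φ k)
        haveI : IsIso ((φ k).map (pullback.fst f f)) := hp.isIso_fst_of_isIso
        have h1 : (φ k).map (pullback.diagonal f) ≫ (φ k).map (pullback.fst f f) = 𝟙 _ := by
          rw [← (φ k).map_comp, pullback.diagonal_fst, (φ k).map_id]
        exact isIso_of_comp_hom_eq_id _ h1
      refine (pullback.isIso_diagonal_iff f).1 (hP _ fun T hT t => ?_)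
      let m := pullback.snd (pullback.diagonal f) t
      have htop : Subobject.mk m = ⊤ := by
        by_contra hne
        obtain ⟨k, hk⟩ := h T hT _ hne
        apply hk
        haveI := key k
        haveI : IsIso ((φ k).map m) := ((IsPullback.of_hasPullback (pullback.diagonal f) t).map (φ k)).isIso_snd_of_isIso
        rw [← Subobject.underlyingIso_hom_comp_eq_mk m, Functor.map_comp]
        infer_instance
      haveI : IsIso m := (Subobject.isIso_iff_mk_eq_top m).2 htop
      refine ⟨inv m ≫ pullback.fst _ _, ?_, fun y hy => ?_⟩
      · simp only [Category.assoc, pullback.condition, m, IsIso.inv_hom_id_assoc]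
      · rw [← cancel_mono (pullback.diagonal f), hy, Category.assoc, pullback.condition, IsIso.inv_hom_id_assoc]
    refine hP f fun T hT t => ?_
    let m := pullback.snd f t
    have htop : Subobject.mk m = ⊤ := by
      by_contra hne
      obtain ⟨k, hk⟩ := h T hT _ hne
      apply hk
      haveI := hf k
      haveI : IsIso ((φ k).map m) := ((IsPullback.of_hasPullback f t).map (φ k)).isIso_snd_of_isIso
      rw [← Subobject.underlyingIso_hom_comp_eq_mk m, Functor.map_comp]
      infer_instance
    haveI : IsIso m := (Subobject.isIso_iff_mk_eq_top m).2 htop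
    refine ⟨inv m ≫ pullback.fst _ _, ?_, fun y hy => ?_⟩
    · simp only [Category.assoc, pullback.condition, m, IsIso.inv_hom_id_assoc]
    · rw [← cancel_mono f, hy, Category.assoc, pullback.condition, IsIso.inv_hom_id_assoc]

end Groth.Agent.S6124
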