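import Groth.Statements.S6126
import Mathlib

set_option autoImplicit false
open CategoryTheory CategoryTheory.Limits
universe v₁ u₁
open SGA4

namespace Groth.Agent.S6126

/-- Let `E` be a category with `v₁`-small hom-sets admitting a separating family of objects `G t`
indexed by a `v₁`-small type, in which every object admits a monomorphism into an injective object.
Assume that each coproduct `G t ⨿ G t` exists and that every morphism out of `G t ⨿ G t` factors as
an effective epimorphism followed by a monomorphism. Then `E` admits a coseparating family of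
injective objects indexed by a `v₁`-small type. (The published statement moreover bounds the size of
this family in terms of the hom-sets `Hom (G t', G t ⨿ G t)`; only existence is stated here. The
published statement speaks of generating and cogenerating families; its proof uses and produces
joint faithfulness of maps out of, resp. into, the family, which is the sense taken here.) -/
theorem result
    {E : Type u₁} [Category.{v₁} E] {ι : Type v₁} (G : ι → E)
    (hG : (ObjectProperty.ofObj G).IsSeparating)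
    [EnoughInjectives E] [∀ t, HasBinaryCoproduct (G t) (G t)]
    (hfac : ∀ (t : ι) (X : E) (f : G t ⨿ G t ⟶ X),
      ∃ (Y : E) (e : G t ⨿ G t ⟶ Y) (m : Y ⟶ X), EffectiveEpi e ∧ Mono m ∧ e ≫ m = f) :
    ∃ (κ : Type v₁) (H : κ → E),
      (∀ k, Injective (H k)) ∧ (ObjectProperty.ofObj H).IsCoseparating := by
  classical
  let pairs := fun (t : ι) => Σ s : ι, (G s ⟶ G t ⨿ G t) × (G s ⟶ G t ⨿ G t)
  let rel := fun (t : ι) (Y : E) (e : G t ⨿ G t ⟶ Y) => {z : pairs t | z.2.1 ≫ e = z.2.2 ≫ e}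
  let κ := Σ t : ι, {R : Set (pairs t) //
    ∃ (Y : E) (e : G t ⨿ G t ⟶ Y), EffectiveEpi e ∧ rel t Y e = R}
  let Yof : κ → E := fun c => c.2.2.choose
  let eof : ∀ c : κ, G c.1 ⨿ G c.1 ⟶ Yof c := fun c => c.2.2.choose_spec.choose
  refine ⟨κ, fun c => Injective.under (Yof c), fun c => inferInstance, ?_⟩
  intro X X' f g hfg
  by_contra hne
  obtain ⟨t, a, ha⟩ : ∃ t, ∃ a : G t ⟶ X, a ≫ f ≠ a ≫ g := by
    by_contra hcon
    push_neg at hcon
    refine hne (hG f g fun Z hZ a => ?_)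
    obtain ⟨t⟩ := hZ
    exact hcon t a
  obtain ⟨Y, e, m, he, hm, hfac'⟩ := hfac t X' (coprod.desc (a ≫ f) (a ≫ g))
  let c : κ := ⟨t, ⟨rel t Y e, Y, e, he, rfl⟩⟩
  have hc : EffectiveEpi (eof c) ∧ rel t (Yof c) (eof c) = rel t Y e := c.2.2.choose_spec.choose_spec
  haveI := hc.1
  haveI := he
  have desc_ok : ∀ (Y₁ Y₂ : E) (e₁ : G t ⨿ G t ⟶ Y₁) (e₂ : G t ⨿ G t ⟶ Y₂), rel t Y₁ e₁ = rel t Y₂ e₂ →
      ∀ (Z : E) (g₁ g₂ : Z ⟶ G t ⨿ G t), g₁ ≫ e₁ = g₂ ≫ e₁ → g₁ ≫ e₂ = g₂ ≫ e₂ := by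
    intro Y₁ Y₂ e₁ e₂ hrel Z g₁ g₂ h
    refine hG _ _ fun W hW b => ?_
    obtain ⟨s⟩ := hW
    have hmem : (⟨s, b ≫ g₁, b ≫ g₂⟩ : pairs t) ∈ rel t Y₁ e₁ := by
      show (b ≫ g₁) ≫ e₁ = (b ≫ g₂) ≫ e₁
      rw [Category.assoc, Category.assoc, h]
    rw [hrel] at hmem
    have h' : (b ≫ g₁) ≫ e₂ = (b ≫ g₂) ≫ e₂ := hmem
    simpa using h'
  let φ : Y ⟶ Yof c := EffectiveEpi.desc e (eof c) (fun {Z} g₁ g₂ h => desc_ok _ _ _ _ hc.2.symm Z g₁ g₂ h)
  let ψ : Yof c ⟶ Y := EffectiveEpi.desc (eof c) e (fun {Z} g₁ g₂ h => desc_ok _ _ _ _ hc.2 Z g₁ g₂ h)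
  have h1 : e ≫ φ = eof c := EffectiveEpi.fac e _ _
  have h2 : eof c ≫ ψ = e := EffectiveEpi.fac (eof c) _ _
  haveI : Mono φ := by
    have : φ ≫ ψ = 𝟙 Y := (cancel_epi e).mp (by rw [reassoc_of% h1, h2, Category.comp_id])
    haveI : IsSplitMono φ := ⟨⟨⟨ψ, this⟩⟩⟩
    infer_instance
  haveI := hm
  let j := φ ≫ Injective.ι (Yof c)
  haveI : Mono j := mono_comp _ _
  let h : X' ⟶ Injective.under (Yof c) := Injective.factorThru j m
  have hh : m ≫ h = j := Injective.comp_factorThru j m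
  have hfgh := hfg _ (ObjectProperty.ofObj_apply _ c) h
  have hj : (coprod.inl ≫ e) ≫ j = (coprod.inr ≫ e) ≫ j := by
    simp only [Category.assoc, ← hh, reassoc_of% hfac', coprod.inl_desc_assoc, coprod.inr_desc_assoc, hfgh]
  apply ha
  have := (cancel_mono j).mp hj
  have h3 := congrArg (fun l => l ≫ m) this
  simpa [hfac', coprod.inl_desc, coprod.inr_desc] using h3.trans rfl

end Groth.Agent.S6126
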