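import Groth.Statements.S6128
import Mathlib

set_option autoImplicit false
open CategoryTheory
universe u
open SGA4

namespace Groth.Agent.S6128

/-- Let `u : C ⥤ C'` be a functor between small sites. If the right Kan extension along `u` of the
underlying presheaf of every sheaf of sets on `C` is a sheaf on `C'`, then `u` is cocontinuous: for
every object `Y` of `C` and every covering sieve `R` of `u Y`, the sieve of morphisms `g : Z ⟶ Y`
with `u g ∈ R` covers `Y`. -/
theorem result
    {C : Type u} [SmallCategory C] {C' : Type u} [SmallCategory C']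
    (J : GrothendieckTopology C) (J' : GrothendieckTopology C') (u : C ⥤ C')
    (h : ∀ G : Sheaf J (Type u), Presheaf.IsSheaf J' ((u.op.ran).obj G.obj)) :
    u.IsCocontinuous J J' := by
  refine ⟨fun {U} S hS => ?_⟩
  let ι := S.functorInclusion
  haveI : Presheaf.IsLocallySurjective J' ι := ⟨fun {V} g => J'.superset_covering
    (fun W h hh => ⟨⟨h ≫ g, hh⟩, rfl⟩) (J'.pullback_stable g hS)⟩
  haveI : Presheaf.IsLocallyInjective J' ι := Presheaf.isLocallyInjective_of_injective J' ι
    fun V a b e => Subtype.ext e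
  have hW : J'.W ι := J'.W_of_isLocallyBijective ι
  let adj := u.op.ranAdjunction (Type u)
  let r := (Functor.whiskeringLeft C'ᵒᵖ C'ᵒᵖ (Type u))
  let v : (C'ᵒᵖ ⥤ Type u) ⥤ (Cᵒᵖ ⥤ Type u) := (Functor.whiskeringLeft _ _ (Type u)).obj u.op
  have hWJ : J.W (v.map ι) := fun G hG => by
    have hb := hW ((u.op.ran).obj G) (h ⟨G, hG⟩)
    have : (fun g : v.obj (yoneda.obj (u.obj U)) ⟶ G => v.map ι ≫ g) =
        (adj.homEquiv _ _).symm ∘ (fun g => ι ≫ g) ∘ adj.homEquiv _ _ := by
      funext g
      simp only [Function.comp_apply, Adjunction.homEquiv_naturality_left_symm, Equiv.symm_apply_apply]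
      rfl
    change Function.Bijective (fun g : v.obj (yoneda.obj (u.obj U)) ⟶ G => v.map ι ≫ g)
    rw [this]
    exact (adj.homEquiv _ _).symm.bijective.comp (hb.comp (adj.homEquiv _ _).bijective)
  haveI := ((J.W_iff_isLocallyBijective _).1 hWJ).2
  refine J.superset_covering ?_ (Presheaf.imageSieve_mem J (v.map ι) (U := Opposite.op U) (𝟙 (u.obj U)))
  rintro W f ⟨⟨x, hx⟩, e⟩
  change Sieve.arrows S (u.map f)
  have e' : x = u.map f := e.trans (Category.comp_id _)
  exact e' ▸ hx

end Groth.Agent.S6128
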