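import Groth.Statements.S6129
import Groth.Agent.Lib.LanPre.Basic

set_option autoImplicit false
open CategoryTheory CategoryTheory.Limits Opposite Groth
universe u
open SGA4

namespace Groth.H6129

open CategoryTheory CategoryTheory.Limits Opposite Groth

variable {C : Type u} [SmallCategory C] {C' : Type u} [SmallCategory C'] (u : C ⥤ C') [u.Faithful]

open scoped Classical in
noncomputable def part (H : Cᵒᵖ ⥤ Type u) (X W : C) (φ : u.obj X ⟶ u.obj W) (x : H.obj (op W)) :
    Option (H.obj (op X)) :=
  if h : ∃ g : X ⟶ W, u.map g = φ then some (H.map h.choose.op x) else none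

theorem part_map (H : Cᵒᵖ ⥤ Type u) (X W : C) (g : X ⟶ W) (x : H.obj (op W)) :
    part u H X W (u.map g) x = some (H.map g.op x) := by
  have h : ∃ g' : X ⟶ W, u.map g' = u.map g := ⟨g, rfl⟩
  rw [part, dif_pos h, u.map_injective h.choose_spec]

variable (hu : ∀ X : C, (Over.post (X := X) u).Full)

include hu in
theorem full_over {X W V : C} (v : W ⟶ V) (h : X ⟶ V) (φ : u.obj X ⟶ u.obj W)
    (w : φ ≫ u.map v = u.map h) : ∃ g : X ⟶ W, u.map g = φ := by
  obtain ⟨p, hp⟩ := (hu V).map_surjective (X := Over.mk h) (Y := Over.mk v)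
    (Over.homMk φ w)
  exact ⟨p.left, congrArg CommaMorphism.left hp⟩

include hu in
theorem part_step (H : Cᵒᵖ ⥤ Type u) {X W V : C} (v : W ⟶ V) (φ : u.obj X ⟶ u.obj W)
    (x : H.obj (op V)) : part u H X W φ (H.map v.op x) = part u H X V (φ ≫ u.map v) x := by
  by_cases hk : ∃ g, u.map g = φ
  · obtain ⟨g, rfl⟩ := hk
    rw [← u.map_comp, part_map, part_map, op_comp, Functor.map_comp_apply]
  · have hj : ¬ ∃ g, u.map g = φ ≫ u.map v := fun ⟨h, hh⟩ =>
      hk (full_over u hu v h φ hh.symm)
    rw [part, dif_neg hk, part, dif_neg hj]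

include hu in
theorem exists_ret (H : Cᵒᵖ ⥤ Type u) (X : C) :
    ∃ r : ((LanPre.L u).obj H).obj (op (u.obj X)) → Option (H.obj (op X)),
      ∀ (W : C) (φ : u.obj X ⟶ u.obj W) (x : H.obj (op W)),
        r (((LanPre.L u).obj H).map φ.op (LanPre.η u H x)) = part u H X W φ x := by
  have hc := Functor.isPointwiseLeftKanExtensionLeftKanExtensionUnit u.op H (op (u.obj X))
  let t : Cocone (CostructuredArrow.proj u.op (op (u.obj X)) ⋙ H) :=
    { pt := Option (H.obj (op X))
      ι :=
        { app := fun j => ↾fun x => part u H X j.left.unop j.hom.unop x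
          naturality := fun j k f => by
            ext x
            change part u H X k.left.unop k.hom.unop (H.map f.left x) = part u H X j.left.unop j.hom.unop x
            have hw : k.hom.unop ≫ u.map f.left.unop = j.hom.unop := by
              rw [← CostructuredArrow.w f]; rfl
            rw [← hw]
            exact part_step u hu H f.left.unop k.hom.unop x } }
  refine ⟨fun z => hc.desc t z, fun W φ x => ?_⟩
  have := congrArg (fun q : H.obj (op W) ⟶ Option (H.obj (op X)) => q x)
    (hc.fac t (CostructuredArrow.mk (Y := op W) φ.op))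
  refine (Eq.trans ?_ this)
  simp [LanPre.η, LanPre.adj, Functor.lanAdjunction_unit, LanPre.L, Functor.lan, Functor.lanUnit]
  rfl

include hu in
theorem η_inj (H : Cᵒᵖ ⥤ Type u) {X : C} : Function.Injective (LanPre.η u H (X := X)) := by
  intro a b hab
  obtain ⟨r, hr⟩ := exists_ret u hu H X
  have ha := hr X (u.map (𝟙 X)) a
  have hb := hr X (u.map (𝟙 X)) b
  rw [LanPre.η_map, part_map] at ha hb
  simp only [op_id, Functor.map_id_apply] at ha hb
  rw [hab, hb] at ha
  exact (Option.some_injective _ ha).symm

end Groth.H6129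

namespace Groth.Agent.S6129

/-- Let `u : C ⥤ C'` be a faithful functor between small categories such that for every object `X` of
`C` the induced functor on over-categories `C/X ⥤ C'/u X` is full and faithful. Then the left Kan
extension functor `u_!` on presheaves of sets is faithful, the unit `H ⟶ u^* u_! H` of the
adjunction `u_! ⊣ u^*` is a monomorphism for every presheaf `H`, and for every morphism of
presheaves `α : H ⟶ K` the naturality square of the unit at `α` (with sides `α` and `u^* u_! α`) is
cartesian. (The published statement assumes only the condition on the slice functors, and its proof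
uses that `u` is faithful; the slice condition alone does not suffice: for a nontrivial group viewed
as a one-object category mapping to the point every slice functor is an equivalence, while `u_!` is
the orbit-set functor on `G`-sets, which is not faithful, and the unit `G ⟶ G/G` is not a
monomorphism. So `u` is taken faithful here.) -/
theorem result
    {C : Type u} [SmallCategory C] {C' : Type u} [SmallCategory C'] (u : C ⥤ C') [u.Faithful]
    (hu : ∀ X : C, (Over.post (X := X) u).Full ∧ (Over.post (X := X) u).Faithful) :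
    (u.op.lan : (Cᵒᵖ ⥤ Type u) ⥤ (C'ᵒᵖ ⥤ Type u)).Faithful ∧
    (∀ H : Cᵒᵖ ⥤ Type u, Mono ((u.op.lanAdjunction (Type u)).unit.app H)) ∧
    ∀ (H K : Cᵒᵖ ⥤ Type u) (α : H ⟶ K),
      IsPullback ((u.op.lanAdjunction (Type u)).unit.app H) α
        (((Functor.whiskeringLeft Cᵒᵖ C'ᵒᵖ (Type u)).obj u.op).map (u.op.lan.map α))
        ((u.op.lanAdjunction (Type u)).unit.app K) := by
  have hu' : ∀ X : C, (Over.post (X := X) u).Full := fun X => (hu X).1
  have hmono : ∀ H : Cᵒᵖ ⥤ Type u, Mono ((u.op.lanAdjunction (Type u)).unit.app H) := fun H => by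
    have : ∀ X, Mono (((u.op.lanAdjunction (Type u)).unit.app H).app X) := fun ⟨X⟩ =>
      (mono_iff_injective _).2 (H6129.η_inj u hu' H)
    exact NatTrans.mono_of_mono_app _
  refine ⟨(u.op.lanAdjunction (Type u)).faithful_L_of_mono_unit_app, hmono, fun H K α => ?_⟩
  let R := (Functor.whiskeringLeft Cᵒᵖ C'ᵒᵖ (Type u)).obj u.op
  have w : (u.op.lanAdjunction (Type u)).unit.app H ≫ R.map (u.op.lan.map α) =
      α ≫ (u.op.lanAdjunction (Type u)).unit.app K :=
    ((u.op.lanAdjunction (Type u)).unit.naturality α).symm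
  refine ⟨⟨w⟩, ⟨evaluationJointlyReflectsLimits _ fun X => ?_⟩⟩
  refine (isLimitMapConePullbackConeEquiv ((evaluation Cᵒᵖ (Type u)).obj X) w).symm ?_
  refine ((Types.isPullback_iff _ _ _ _).2 ⟨congrArg (fun t : H ⟶ _ => t.app X) w,
    fun a b hab => H6129.η_inj u hu' H hab.1, fun z k hz => ?_⟩).isLimit
  obtain ⟨X⟩ := X
  obtain ⟨W, φ, x, rfl⟩ := LanPre.exists_rep u H z
  obtain ⟨r, hr⟩ := H6129.exists_ret u hu' K X
  change ((LanPre.L u).map α).app (op (u.obj X)) _ = LanPre.η u K k at hz
  rw [NatTrans.naturality_apply, LanPre.η_nat] at hz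
  have h1 := hr W φ (α.app _ x)
  have h2 := hr X (u.map (𝟙 X)) k
  rw [LanPre.η_map, H6129.part_map] at h2
  simp only [op_id, Functor.map_id_apply] at h2
  rw [hz, h2] at h1
  by_cases hg : ∃ g : X ⟶ W, u.map g = φ
  · obtain ⟨g, rfl⟩ := hg
    rw [H6129.part_map] at h1
    refine ⟨H.map g.op x, (LanPre.η_map u H g x).symm, ?_⟩
    exact (NatTrans.naturality_apply α g.op x).trans (Option.some_injective _ h1).symm
  · rw [H6129.part, dif_neg hg] at h1
    exact absurd h1 (by simp)

end Groth.Agent.S6129
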