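import Groth.Statements.S6131
import Mathlib

set_option autoImplicit false
open CategoryTheory CategoryTheory.Limits
universe u
open SGA4

namespace Groth.Agent.S6131

/-- For a small site `(C, J)` and an object `X` of `C`, the sheaf associated to the presheaf represented
by `X` is an initial object of the category of sheaves of sets if and only if the empty sieve covers
`X`. -/
theorem result
    {C : Type u} [SmallCategory C] (J : GrothendieckTopology C) (X : C) :
    Nonempty (IsInitial ((presheafToSheaf J (Type u)).obj (yoneda.obj X))) ↔ (⊥ : Sieve X) ∈ J X := by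
  let a := presheafToSheaf J (Type u)
  constructor
  · rintro ⟨hI⟩
    let P : Cᵒᵖ ⥤ Type u := (Functor.const _).obj PEmpty
    let i : P ⟶ yoneda.obj X := { app := fun _ => TypeCat.ofHom PEmpty.elim, naturality := fun _ _ _ => by ext x; exact x.elim }
    haveI : Epi (a.map i) := ⟨fun {Z} g h _ => hI.hom_ext g h⟩
    haveI : Presheaf.IsLocallySurjective J i :=
      (Presheaf.isLocallySurjective_presheafToSheaf_map_iff J i).1 ((Sheaf.isLocallySurjective_iff_epi _).2 inferInstance)
    refine J.superset_covering ?_ (Presheaf.imageSieve_mem J i (U := Opposite.op X) (𝟙 X))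
    rintro Y f ⟨x, -⟩
    exact x.elim
  · intro h
    let adj := sheafificationAdjunction J (Type u)
    refine ⟨@IsInitial.ofUnique _ _ _ fun Z => ?_⟩
    have hs := ((isSheaf_iff_isSheaf_of_type J Z.obj).1 Z.property) ⊥ h
    haveI : Nonempty (Z.obj.obj (Opposite.op X)) := by
      obtain ⟨t, -, -⟩ := hs (fun W g hg => hg.elim) (fun W₁ W₂ V g₁ g₂ f₁ f₂ h₁ => h₁.elim)
      exact ⟨t⟩
    haveI : Subsingleton (Z.obj.obj (Opposite.op X)) := ⟨fun s t => hs.isSeparatedFor.ext fun W g hg => hg.elim⟩
    have := uniqueOfSubsingleton (Classical.arbitrary (Z.obj.obj (Opposite.op X)))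
    exact @Equiv.unique _ _ this ((adj.homEquiv _ _).trans yonedaEquiv)

end Groth.Agent.S6131
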