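import Groth.Statements.S6134
import Mathlib

set_option autoImplicit false
open CategoryTheory CategoryTheory.Limits
universe u
open SGA4

namespace Groth.Agent.S6134

/-- Let `C` be a small category with topologies `J ≤ J'` (every `J`-covering sieve is `J'`-covering),
`X` an object and `s i : Y i ⟶ X` a family of morphisms. If the associated `J`-sheaf of the presheaf
represented by `X`, with the maps induced by the `s i`, is a coproduct of the associated `J`-sheaves
of the `Y i` (in sheaves of sets), then the same holds for `J'`. -/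
theorem result
    {C : Type u} [SmallCategory C] {J J' : GrothendieckTopology C} (hJ : J ≤ J')
    {X : C} {ι : Type u} (Y : ι → C) (s : ∀ i, Y i ⟶ X)
    (h : Nonempty (IsColimit (Cofan.mk ((presheafToSheaf J (Type u)).obj (yoneda.obj X))
      (fun i => (presheafToSheaf J (Type u)).map (yoneda.map (s i)))))) :
    Nonempty (IsColimit (Cofan.mk ((presheafToSheaf J' (Type u)).obj (yoneda.obj X))
      (fun i => (presheafToSheaf J' (Type u)).map (yoneda.map (s i))))) := by
  obtain ⟨h⟩ := h
  let A := sheafificationAdjunction J (Type u)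
  let A' := sheafificationAdjunction J' (Type u)
  have hsh : ∀ Z : Sheaf J' (Type u), Presheaf.IsSheaf J Z.obj := fun Z T X S hS => Z.property T S (hJ _ hS)
  let tr : ∀ (Z : Sheaf J' (Type u)) (P : Cᵒᵖ ⥤ Type u), ((presheafToSheaf J' (Type u)).obj P ⟶ Z) ≃
      ((presheafToSheaf J (Type u)).obj P ⟶ ⟨Z.obj, hsh Z⟩) :=
    fun Z P => (A'.homEquiv P Z).trans (A.homEquiv P ⟨Z.obj, hsh Z⟩).symm
  have htr : ∀ (Z : Sheaf J' (Type u)) {P Q : Cᵒᵖ ⥤ Type u} (f : P ⟶ Q)
      (g : (presheafToSheaf J' (Type u)).obj Q ⟶ Z),
      tr Z P ((presheafToSheaf J' (Type u)).map f ≫ g) = (presheafToSheaf J (Type u)).map f ≫ tr Z Q g :=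
    fun Z {P Q} f g => by
      simp only [tr, Equiv.trans_apply]
      rw [A'.homEquiv_naturality_left]
      exact A.homEquiv_naturality_left_symm f _
  exact ⟨mkCofanColimit _
    (fun s => (tr s.pt _).symm (Cofan.IsColimit.desc h fun i => tr s.pt _ (s.inj i)))
    (fun s i => (tr s.pt _).injective (by
      dsimp only [Cofan.inj, Cofan.mk_ι_app]
      rw [htr, Equiv.apply_symm_apply]
      exact Cofan.IsColimit.fac h _ i))
    (fun s m hm => (tr s.pt _).injective (by
      rw [Equiv.apply_symm_apply]
      refine Cofan.IsColimit.hom_ext h _ _ fun i => ?_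
      rw [Cofan.IsColimit.fac]
      exact (htr _ _ _).symm.trans (congrArg _ (hm i))))⟩

end Groth.Agent.S6134
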