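import Groth.Statements.S6137
import Mathlib.CategoryTheory.Limits.Indization.IndObject
import Mathlib.CategoryTheory.Limits.Preserves.Shapes.Equalizers
import Mathlib.CategoryTheory.Limits.Types.Equalizers
import Mathlib.CategoryTheory.Limits.Preserves.Basic

set_option autoImplicit false
open CategoryTheory CategoryTheory.Limits
universe v u
open SGA4

namespace Groth.Agent.S6137

/-- Let `C` be a category with `v`-small hom-sets admitting all `v`-small limits, and `F : C ⥤ Type v` a
functor. Then `F` is corepresentable if and only if it is pro-representable (viewed as a presheaf on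
`Cᵒᵖ` it is an ind-object, i.e. a small filtered colimit of corepresentable functors) and preserves
all `v`-small limits. -/
theorem result
    {C : Type u} [Category.{v} C] [HasLimitsOfSize.{v, v} C] (F : C ⥤ Type v) :
    F.IsCorepresentable ↔
      IsIndObject (unopUnop C ⋙ F) ∧ PreservesLimitsOfSize.{v, v} F := by
  constructor
  · intro hF
    refine ⟨?_, ?_⟩
    · let R : (unopUnop C ⋙ F).RepresentableBy (Opposite.op F.coreprX) :=
        { homEquiv := fun {Z} => (opEquiv Z (Opposite.op F.coreprX)).trans F.corepresentableBy.homEquiv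
          homEquiv_comp := fun {Z Z'} f g => F.corepresentableBy.homEquiv_comp f.unop g.unop }
      exact (isIndObject_yoneda (Opposite.op F.coreprX)).map R.toIso.hom
    · exact preservesLimits_of_natIso F.coreprW
  · rintro ⟨hI, hL⟩
    obtain ⟨⟨P⟩⟩ := hI
    let X : P.Iᵒᵖ ⥤ C := P.F.leftOp
    let ξ : ∀ i : P.I, F.obj (P.F.obj i).unop := fun i => (P.ι.app i).app (Opposite.op (P.F.obj i)) (𝟙 (P.F.obj i))
    have hξ : ∀ i (Y : C) (h : (P.F.obj i).unop ⟶ Y), F.map h (ξ i) = (P.ι.app i).app (Opposite.op (Opposite.op Y)) h.op := by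
      intro i Y h
      have := ConcreteCategory.congr_hom ((P.ι.app i).naturality h.op.op) (𝟙 (P.F.obj i))
      refine this.symm.trans ?_
      exact congrArg ((P.ι.app i).app (Opposite.op (Opposite.op Y))) (Category.comp_id (h.op : Opposite.op Y ⟶ P.F.obj i))
    have hsurj : ∀ (Y : C) (e : F.obj Y), ∃ (i : P.I) (h : (P.F.obj i).unop ⟶ Y), F.map h (ξ i) = e := by
      intro Y e
      obtain ⟨i, h, hh⟩ := Types.jointly_surjective_of_isColimit
        (isColimitOfPreserves ((evaluation _ _).obj (Opposite.op (Opposite.op Y))) P.isColimit) e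
      exact ⟨i, h.unop, (hξ i Y h.unop).trans hh⟩
    have hξw : ∀ {i j : P.I} (u : i ⟶ j), F.map (P.F.map u).unop (ξ j) = ξ i := by
      intro i j u
      rw [hξ]
      have := ConcreteCategory.congr_hom (congr_app (P.cocone.w u) (Opposite.op (P.F.obj i))) (𝟙 (P.F.obj i))
      refine Eq.trans ?_ this
      show (P.ι.app j).app _ _ = (P.ι.app j).app _ _
      congr 1
      exact (Category.id_comp _).symm
    obtain ⟨x, hx, -⟩ := (Types.isLimit_iff _).1 ⟨isLimitOfPreserves F (limit.isLimit X)⟩
      (fun i => ξ i.unop) (fun u => hξw u.unop)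
    have hx' : ∀ i : P.I, F.map (limit.π X (Opposite.op i)) x = ξ i := fun i => hx (Opposite.op i)
    -- any endomorphism of the limit coming from a stage and fixing the universal element is trivial
    have hid : ∀ (i : P.I) (ψ : (P.F.obj i).unop ⟶ limit X), F.map ψ (ξ i) = x →
        limit.π X (Opposite.op i) ≫ ψ = 𝟙 _ := by
      intro i ψ hψ
      apply limit.hom_ext
      rintro ⟨k⟩
      have h₂ : F.map (ψ ≫ limit.π X (Opposite.op k)) (ξ i) = F.map (𝟙 _) (ξ k) := by
        rw [F.map_id]
        show _ = ξ k
        rw [← hx' k, ← hψ]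
        exact ConcreteCategory.congr_hom (F.map_comp ψ _) (ξ i)
      rw [hξ, hξ] at h₂
      obtain ⟨l, a, b, hab⟩ := (Types.FilteredColimit.isColimit_eq_iff _
        (isColimitOfPreserves ((evaluation _ _).obj (Opposite.op (Opposite.op (X.obj (Opposite.op k))))) P.isColimit)).1 h₂
      have hab' : (P.F.map a).unop ≫ ψ ≫ limit.π X (Opposite.op k) = (P.F.map b).unop :=
        (congrArg Quiver.Hom.unop hab).trans (Category.comp_id _)
      have ha : limit.π X (Opposite.op l) ≫ (P.F.map a).unop = limit.π X (Opposite.op i) := limit.w X a.op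
      have hb : limit.π X (Opposite.op l) ≫ (P.F.map b).unop = limit.π X (Opposite.op k) := limit.w X b.op
      rw [Category.id_comp, Category.assoc, ← ha, Category.assoc, hab', hb]
    have hbij : ∀ Y : C, Function.Bijective (fun h : limit X ⟶ Y => F.map h x) := by
      intro Y
      constructor
      · intro g₁ g₂ hg
        have hlim := isLimitForkMapOfIsLimit F (equalizer.condition g₁ g₂) (equalizerIsEqualizer g₁ g₂)
        obtain ⟨e, he, -⟩ := (Types.type_equalizer_iff_unique _ _).1 ⟨hlim⟩ x hg
        obtain ⟨i, h, hh⟩ := hsurj _ e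
        have hψ : F.map (h ≫ equalizer.ι g₁ g₂) (ξ i) = x := by
          rw [F.map_comp]
          show F.map _ (F.map h (ξ i)) = x
          rw [hh]; exact he
        have h1 := hid i _ hψ
        rw [← Category.id_comp g₁, ← h1, Category.assoc, Category.assoc, equalizer.condition, ← Category.assoc h,
          ← Category.assoc, h1, Category.id_comp]
      · intro e
        obtain ⟨i, h, hh⟩ := hsurj Y e
        refine ⟨limit.π X (Opposite.op i) ≫ h, ?_⟩
        show F.map _ x = e
        rw [← hh, ← hx' i, F.map_comp]
        rfl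
    exact Functor.CorepresentableBy.isCorepresentable (F := F) (X := limit X)
      { homEquiv := fun {Y} => Equiv.ofBijective _ (hbij Y)
        homEquiv_comp := fun {Y Y'} g f => ConcreteCategory.congr_hom (F.map_comp f g) x }

end Groth.Agent.S6137
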