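import Groth.Statements.S6138
import Mathlib

set_option autoImplicit false
open CategoryTheory CategoryTheory.Limits Opposite
universe v u
open SGA4

namespace Groth.Agent.S6138

/-- Let `C` have coequalizers and pullbacks, let `F` be a presheaf of sets on `C` taking coequalizers of
`C` to equalizers, and let `u ∈ F(X)`, viewed as a morphism `h_X ⟶ F`. Then this morphism is a
monomorphism (the map `v ↦ F(v)(u)` is injective on `Hom(Y, X)` for every `Y`) if and only if `u` is
minimal: whenever `u = F(p)(u')` for an effective epimorphism `p : X ⟶ X'` and some `u' ∈ F(X')`,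
`p` is an isomorphism. (Coequalizers are used for one implication and pullbacks for the other; both
are assumed here.) -/
theorem result
    {C : Type u} [Category.{v} C] [HasCoequalizers C] [HasPullbacks C]
    (F : Cᵒᵖ ⥤ Type v) [PreservesLimitsOfShape WalkingParallelPair F]
    {X : C} (u : F.obj (op X)) :
    (∀ (Y : C) (v v' : Y ⟶ X), F.map v.op u = F.map v'.op u → v = v') ↔
      ∀ (X' : C) (p : X ⟶ X') (u' : F.obj (op X')),
        EffectiveEpi p → F.map p.op u' = u → IsIso p := by
  constructor
  · intro hinj X' p u' hp hu'
    haveI : Mono p := ⟨fun {Z} g₁ g₂ e => hinj Z g₁ g₂ (by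
      rw [← hu', ← ConcreteCategory.comp_apply, ← ConcreteCategory.comp_apply, ← F.map_comp, ← F.map_comp,
        ← op_comp, ← op_comp, e])⟩
    let d := EffectiveEpi.desc p (𝟙 X) fun g₁ g₂ e => by rw [(cancel_mono p).1 e]
    have h1 : p ≫ d = 𝟙 X := EffectiveEpi.fac _ _ _
    exact ⟨⟨d, h1, by rw [← cancel_epi p, reassoc_of% h1, Category.comp_id]⟩⟩
  · intro h Y v v' e
    let c := coequalizer.π v v'
    haveI : IsRegularEpi c := inferInstance
    haveI : EffectiveEpi c := (isRegularEpi_iff_effectiveEpi c).1 inferInstance
    have hl := isLimitForkMapOfIsLimit F _ ((Cofork.isColimitOfπEquivIsLimitOp c c (coequalizer.condition v v') (by rw [← op_comp, ← op_comp, coequalizer.condition v v']) rfl) (coequalizerIsCoequalizer v v'))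
    obtain ⟨u', hu', -⟩ := (Types.type_equalizer_iff_unique _ _).1 ⟨hl⟩ u e
    haveI := h _ c u' inferInstance hu'
    exact (cancel_mono c).1 (coequalizer.condition v v')

end Groth.Agent.S6138
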