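import Groth.Statements.S6139
import Mathlib

set_option autoImplicit false
open CategoryTheory CategoryTheory.Limits
universe v u
open SGA4

namespace Groth.Agent.S6139

/-- For an object `X` of a category `C`, the empty sieve on `X` is covering for the canonical topology
of `C` (the finest topology for which every representable presheaf is a sheaf) if and only if `X` is
a strict initial object: `X` is initial and every morphism with target `X` is an isomorphism. (The
source phrases the first condition as: for some topology coarser than the canonical one the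
associated sheaf of `h_X` is initial; that sheaf is initial exactly when the empty sieve covers `X`,
and coverage by the empty sieve passes to the finer canonical topology.) -/
theorem result
    {C : Type u} [Category.{v} C] (X : C) :
    (⊥ : Sieve X) ∈ Sheaf.canonicalTopology C X ↔
      (Nonempty (IsInitial X) ∧ ∀ (Y : C) (f : Y ⟶ X), IsIso f) := by
  constructor
  · intro h
    have hY : ∀ (Z : C) (Y : C) (f : Y ⟶ X), Nonempty (Unique (Y ⟶ Z)) := fun Z Y f => by
      have hs := (Sheaf.isSheaf_yoneda_obj (C := C) Z) ((⊥ : Sieve X).pullback f)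
        ((Sheaf.canonicalTopology C).pullback_stable f h)
      obtain ⟨t, -, ht⟩ := hs (fun W g hg => hg.elim) (fun W₁ W₂ V g₁ g₂ f₁ f₂ h₁ => h₁.elim)
      exact ⟨⟨⟨t⟩, fun s => ht s fun W g hg => hg.elim⟩⟩
    have hI : ∀ (Y : C) (f : Y ⟶ X), Nonempty (IsInitial Y) := fun Y f => by
      haveI : ∀ Z, Unique (Y ⟶ Z) := fun Z => (hY Z Y f).some
      exact ⟨IsInitial.ofUnique Y⟩
    obtain ⟨hX⟩ := hI X (𝟙 X)
    refine ⟨⟨hX⟩, fun Y f => ?_⟩
    obtain ⟨hYi⟩ := hI Y f
    exact ⟨⟨hX.to Y, hYi.hom_ext _ _, hX.hom_ext _ _⟩⟩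
  · rintro ⟨⟨hX⟩, hiso⟩
    refine Sheaf.mem_finestTopology_of_forall_isSheafFor ?_
    rintro _ ⟨Z, rfl⟩ Y f
    intro x hx
    haveI := hiso Y f
    refine ⟨f ≫ hX.to Z, fun W g hg => hg.elim, fun s _ => ?_⟩
    change Y ⟶ Z at s
    exact (cancel_epi (inv f)).1 (hX.hom_ext _ _)

end Groth.Agent.S6139
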