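import Groth.Statements.S6140
import Mathlib

set_option autoImplicit false
open CategoryTheory CategoryTheory.Limits Opposite
universe u
open SGA4

namespace Groth.H6140

open CategoryTheory CategoryTheory.Limits Opposite

variable {C : Type u} [SmallCategory C]

local notation "JC" => Sheaf.canonicalTopology C

noncomputable abbrev ε (C : Type u) [SmallCategory C] : C ⥤ Sheaf (Sheaf.canonicalTopology C) (Type u) :=
  yoneda ⋙ presheafToSheaf (Sheaf.canonicalTopology C) (Type u)

noncomputable def e (X : C) (G : Sheaf JC (Type u)) : ((ε C).obj X ⟶ G) ≃ G.obj.obj (op X) :=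
  ((sheafificationAdjunction JC (Type u)).homEquiv _ _).trans yonedaEquiv

theorem e_map {X Y : C} (f : Y ⟶ X) (G : Sheaf JC (Type u)) (φ : (ε C).obj X ⟶ G) :
    e Y G ((ε C).map f ≫ φ) = G.obj.map f.op (e X G φ) := by
  simp only [e, Equiv.trans_apply, Functor.comp_map]
  rw [Adjunction.homEquiv_naturality_left, yonedaEquiv_naturality]

/-- The presheaf quotient. -/
def Q {R X : C} (p₁ p₂ : R ⟶ X) : Cᵒᵖ ⥤ Type u where
  obj W := Quot fun a b : W.unop ⟶ X => ∃ f, f ≫ p₁ = a ∧ f ≫ p₂ = b
  map {W V} v := ↾Quot.map (fun a => v.unop ≫ a) (by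
    rintro a b ⟨f, rfl, rfl⟩
    exact ⟨v.unop ≫ f, by simp, by simp⟩)
  map_id W := by
    ext ⟨a⟩
    exact congrArg (Quot.mk _) (Category.id_comp a)
  map_comp v w := by
    ext ⟨a⟩
    exact congrArg (Quot.mk _) (Category.assoc w.unop v.unop a)

def q {R X : C} (p₁ p₂ : R ⟶ X) : yoneda.obj X ⟶ Q p₁ p₂ where
  app W := ↾(Quot.mk _)
  naturality W V v := rfl

theorem covering_of_epi {X B : C} (π : X ⟶ B) [Epi ((ε C).map π)] :
    Sieve.ofArrows (fun _ : PUnit.{u + 1} => X) (fun _ => π) ∈ JC B := by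
  have : Presheaf.IsLocallySurjective JC (yoneda.map π) :=
    (Presheaf.isLocallySurjective_presheafToSheaf_map_iff _ (yoneda.map π)).1
      ((Sheaf.isLocallySurjective_iff_epi _).2 ‹Epi ((ε C).map π)›)
  refine (JC).superset_covering ?_ (this.imageSieve_mem (U := B) (𝟙 B : (yoneda.obj B).obj (op B)))
  rintro V v ⟨a, ha⟩
  rw [Sieve.mem_ofArrows_iff]
  exact ⟨⟨⟩, a, (ha.trans (Category.comp_id v)).symm⟩

end Groth.H6140

open Groth
namespace Groth.Agent.S6140

/-- Let `C` be a small category with pullbacks, `p₁ p₂ : R ⇉ X` an equivalence relation in `C` admitting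
a coequalizer cofork `c`, and `ε` the canonical functor to sheaves of sets for the canonical
topology of `C`. Then the equivalence relation is effective and universal (`R` is the kernel pair of
the quotient map, which is a coequalizer all of whose base changes are effective epimorphisms) if
and only if `ε` takes `c` to a coequalizer of `ε p₁, ε p₂`. (For a small category every topology has
a small topologically generating family, so both implications of the published statement apply. The
published statement asks only that the quotient map have all base changes; this row assumes that `C`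
has all pullbacks.) -/
theorem result
    {C : Type u} [SmallCategory C] [HasPullbacks C] {R X : C} (p₁ p₂ : R ⟶ X)
    (hR : SGA4.IsEquivRel p₁ p₂) (c : Cofork p₁ p₂) (hc : IsColimit c) :
    SGA4.IsEffectiveUniversalEquivRel p₁ p₂ ↔
      Nonempty (IsColimit ((yoneda ⋙ presheafToSheaf (Sheaf.canonicalTopology C) (Type u)).mapCocone c)) := by
  constructor
  · rintro ⟨B, π, hpb, hpo, heff⟩
    have ht : IsColimit (Cofork.ofπ π hpb.w) :=
      Cofork.IsColimit.mk' _ fun s => ⟨hpo.desc s.π s.π s.condition, hpo.inl_desc _ _ _,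
        fun {m} hm => hpo.hom_ext (hm.trans (hpo.inl_desc s.π s.π s.condition).symm)
          (hm.trans (hpo.inr_desc s.π s.π s.condition).symm)⟩
    refine ⟨IsColimit.ofIsoColimit ?_ ((Cocone.functoriality _ (H6140.ε C)).mapIso (ht.uniqueUpToIso hc))⟩
    refine (isColimitMapCoconeCoforkEquiv (H6140.ε C) hpb.w).symm ?_
    have hS : Sieve.ofArrows (fun _ : PUnit.{u + 1} => X) (fun _ => π) ∈ Sheaf.canonicalTopology C B := by
      refine Sheaf.mem_finestTopology_of_forall_isSheafFor ?_
      rintro _ ⟨T, rfl⟩ Z f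
      have : (Sieve.ofArrows (fun _ : PUnit.{u + 1} => X) (fun _ => π)).pullback f =
          Sieve.ofArrows (fun _ : PUnit.{u + 1} => pullback π f) (fun _ => pullback.snd π f) := by
        ext V v
        simp only [Sieve.pullback_apply, Sieve.mem_ofArrows_iff]
        exact ⟨fun ⟨_, a, ha⟩ => ⟨⟨⟩, pullback.lift a v ha.symm, (pullback.lift_snd _ _ _).symm⟩,
          fun ⟨_, a, ha⟩ => ⟨⟨⟩, a ≫ pullback.fst π f, by
            rw [ha, Category.assoc, Category.assoc, pullback.condition]⟩⟩
      rw [this]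
      refine (Presieve.isSheafFor_iff_generate _).1 ((Presieve.isSheafFor_arrows_iff _ _).2 fun x hx => ?_)
      have := heff Z f
      let t : Z ⟶ T := EffectiveEpi.desc (pullback.snd π f) (x ⟨⟩) fun g₁ g₂ hg => hx ⟨⟩ ⟨⟩ _ g₁ g₂ hg
      refine ⟨t, fun _ => EffectiveEpi.fac _ _ _, fun t' ht' => ?_⟩
      exact EffectiveEpi.uniq _ _ _ t' (ht' ⟨⟩)
    refine Cofork.IsColimit.mk' _ fun s => ?_
    let x := H6140.e X s.pt s.π
    have hx : s.pt.obj.map p₁.op x = s.pt.obj.map p₂.op x := by
      rw [← H6140.e_map, ← H6140.e_map]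
      exact congrArg _ s.condition
    have hex := (Presieve.isSheafFor_arrows_iff _ _).1
      ((Presieve.isSheafFor_iff_generate _).2 ((isSheaf_iff_isSheaf_of_type _ _).1 s.pt.property _ hS))
      (fun _ => x) (fun _ _ W a b hab => by
        obtain ⟨r, h1, h2⟩ := hpb.exists_lift a b hab
        rw [← h1, ← h2, op_comp, op_comp, Functor.map_comp_apply, Functor.map_comp_apply, hx])
    refine ⟨(H6140.e B s.pt).symm hex.choose, ?_, fun {m} hm => ?_⟩
    · apply (H6140.e X s.pt).injective
      rw [Cofork.π_ofπ]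
      erw [H6140.e_map, Equiv.apply_symm_apply]
      exact hex.choose_spec.1 ⟨⟩
    · apply (H6140.e B s.pt).injective
      rw [Equiv.apply_symm_apply]
      refine hex.choose_spec.2 _ fun _ => ?_
      erw [← H6140.e_map, hm]
  · rintro ⟨hs⟩
    have hε := isColimitMapCoconeCoforkEquiv (H6140.ε C) c.condition
      (IsColimit.ofIsoColimit hs ((Cocone.functoriality _ (H6140.ε C)).mapIso (Cofork.isoCoforkOfπ c)))
    have hrel : ∀ (W : C) (g h : W ⟶ X), g ≫ c.π = h ≫ c.π →
        ∃ r : W ⟶ R, r ≫ p₁ = g ∧ r ≫ p₂ = h := by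
      intro W g h hgh
      let J := Sheaf.canonicalTopology C
      let qa : (H6140.ε C).obj X ⟶ (presheafToSheaf J (Type u)).obj (H6140.Q p₁ p₂) :=
        (presheafToSheaf J (Type u)).map (H6140.q p₁ p₂)
      have hmap : ∀ {V : C} (v : V ⟶ X), (H6140.ε C).map v ≫ qa =
          (presheafToSheaf J (Type u)).map (yoneda.map v ≫ H6140.q p₁ p₂) := fun v =>
        ((presheafToSheaf J (Type u)).map_comp (yoneda.map v) (H6140.q p₁ p₂)).symm
      have hq : (H6140.ε C).map p₁ ≫ qa = (H6140.ε C).map p₂ ≫ qa := by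
        rw [hmap, hmap]
        congr 1
        ext V a
        exact Quot.sound ⟨a, rfl, rfl⟩
      obtain ⟨l, hl⟩ := Cofork.IsColimit.desc' hε qa hq
      rw [Cofork.π_ofπ] at hl
      have e1 : (H6140.ε C).map g ≫ qa = (H6140.ε C).map h ≫ qa := by
        rw [← hl, ← Category.assoc, ← Category.assoc, ← Functor.map_comp, ← Functor.map_comp, hgh]
      rw [hmap, hmap] at e1
      have e1' : (yoneda.map g ≫ H6140.q p₁ p₂) ≫ toSheafify J (H6140.Q p₁ p₂) =
          (yoneda.map h ≫ H6140.q p₁ p₂) ≫ toSheafify J (H6140.Q p₁ p₂) := by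
        rw [toSheafify_naturality, toSheafify_naturality]
        exact congrArg (toSheafify J (yoneda.obj W) ≫ ·) (congrArg (fun z => z.hom) e1)
      have e2 := congrArg yonedaEquiv e1'
      rw [Category.assoc, Category.assoc, yonedaEquiv_comp, yonedaEquiv_comp, yonedaEquiv_yoneda_map,
        yonedaEquiv_yoneda_map, NatTrans.comp_app, ConcreteCategory.comp_apply, ConcreteCategory.comp_apply] at e2
      have hS := Presheaf.equalizerSieve_mem J (toSheafify J (H6140.Q p₁ p₂)) _ _ e2
      have hS' : ∀ V (v : V ⟶ W), Presheaf.equalizerSieve (F := H6140.Q p₁ p₂) (X := op W)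
          ((H6140.q p₁ p₂).app _ g) ((H6140.q p₁ p₂).app _ h) v →
          ∃ r : V ⟶ R, r ≫ p₁ = v ≫ g ∧ r ≫ p₂ = v ≫ h := fun V v hv =>
        (((hR V).2).eqvGen_iff).1 (Quot.eqvGen_exact hv)
      obtain ⟨r, hr, -⟩ := Sheaf.isSheaf_yoneda_obj R _ hS (fun V v hv => (hS' V v hv).choose)
        (fun V₁ V₂ Z g₁ g₂ f₁ f₂ h₁ h₂ hh => (hR Z).1 (by
          obtain ⟨a1, b1⟩ := (hS' V₁ f₁ h₁).choose_spec
          obtain ⟨a2, b2⟩ := (hS' V₂ f₂ h₂).choose_spec
          change ((g₁ ≫ (hS' V₁ f₁ h₁).choose) ≫ p₁, (g₁ ≫ (hS' V₁ f₁ h₁).choose) ≫ p₂) =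
            ((g₂ ≫ (hS' V₂ f₂ h₂).choose) ≫ p₁, (g₂ ≫ (hS' V₂ f₂ h₂).choose) ≫ p₂)
          simp only [Category.assoc, a1, b1, a2, b2, reassoc_of% hh]))
      have hr' : ∀ V v hv, v ≫ r = (hS' V v hv).choose := fun V v hv => hr v hv
      refine ⟨r, ?_, ?_⟩
      · exact ((Sheaf.isSheaf_yoneda_obj X).isSeparated _ hS).ext fun V v hv => by
          change v ≫ r ≫ p₁ = v ≫ g
          rw [← Category.assoc, hr' V v hv, (hS' V v hv).choose_spec.1]
      · exact ((Sheaf.isSheaf_yoneda_obj X).isSeparated _ hS).ext fun V v hv => by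
          change v ≫ r ≫ p₂ = v ≫ h
          rw [← Category.assoc, hr' V v hv, (hS' V v hv).choose_spec.2]
    refine ⟨c.pt, c.π, ⟨⟨c.condition⟩, ⟨PullbackCone.IsLimit.mk _
      (fun s => (hrel _ s.fst s.snd s.condition).choose)
      (fun s => (hrel _ s.fst s.snd s.condition).choose_spec.1)
      (fun s => (hrel _ s.fst s.snd s.condition).choose_spec.2)
      (fun s m h1 h2 => (hR s.pt).1 (by
        change (m ≫ p₁, m ≫ p₂) = (_ ≫ p₁, _ ≫ p₂)
        rw [h1, h2, (hrel _ s.fst s.snd s.condition).choose_spec.1,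
          (hrel _ s.fst s.snd s.condition).choose_spec.2]))⟩⟩, ?_, fun B' g => ?_⟩
    · refine IsPushout.of_isColimit (c := PushoutCocone.mk c.π c.π c.condition) ?_
      have same : ∀ s : PushoutCocone p₁ p₂, s.inl = s.inr := fun s => by
        obtain ⟨r, h1, h2⟩ := ((hR X).2).refl (𝟙 X)
        calc s.inl = (r ≫ p₁) ≫ s.inl := by rw [h1, Category.id_comp]
          _ = (r ≫ p₂) ≫ s.inr := by rw [Category.assoc, s.condition, Category.assoc]
          _ = s.inr := by rw [h2, Category.id_comp]
      refine PushoutCocone.IsColimit.mk _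
        (fun s => (Cofork.IsColimit.desc' hc s.inl (by rw [s.condition, same s])).1)
        (fun s => (Cofork.IsColimit.desc' hc s.inl _).2)
        (fun s => (Cofork.IsColimit.desc' hc s.inl _).2.trans (same s))
        (fun s m h1 _ => Cofork.IsColimit.hom_ext hc (h1.trans (Cofork.IsColimit.desc' hc s.inl _).2.symm))
    · have : Epi ((H6140.ε C).map c.π) := Cofork.IsColimit.epi hε
      have hS := (Sheaf.canonicalTopology C).pullback_stable g (H6140.covering_of_epi c.π)
      have : (Sieve.ofArrows (fun _ : PUnit.{u + 1} => X) (fun _ => c.π)).pullback g =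
          Sieve.ofArrows (fun _ : PUnit.{u + 1} => pullback c.π g) (fun _ => pullback.snd c.π g) := by
        ext V v
        simp only [Sieve.pullback_apply, Sieve.mem_ofArrows_iff]
        exact ⟨fun ⟨_, a, ha⟩ => ⟨⟨⟩, pullback.lift a v ha.symm, (pullback.lift_snd _ _ _).symm⟩,
          fun ⟨_, a, ha⟩ => ⟨⟨⟩, a ≫ pullback.fst c.π g, by
            rw [ha, Category.assoc, Category.assoc, pullback.condition]⟩⟩
      rw [this] at hS
      have key : ∀ (W : C) (x : pullback c.π g ⟶ W),
          (∀ {Z : C} (g₁ g₂ : Z ⟶ pullback c.π g), g₁ ≫ pullback.snd c.π g = g₂ ≫ pullback.snd c.π g →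
            g₁ ≫ x = g₂ ≫ x) → ∃! t : B' ⟶ W, ∀ _ : PUnit.{u + 1}, pullback.snd c.π g ≫ t = x :=
        fun W x hx => (Presieve.isSheafFor_arrows_iff _ _).1
          ((Presieve.isSheafFor_iff_generate _).2 (Sheaf.isSheaf_yoneda_obj W _ hS)) (fun _ => x)
          fun _ _ Z a b hab => hx a b hab
      exact ⟨⟨{ desc := fun x hx => (key _ x hx).choose
                fac := fun x hx => (key _ x hx).choose_spec.1 ⟨⟩
                uniq := fun x hx m hm => (key _ x hx).choose_spec.2 m fun _ => hm }⟩⟩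

end Groth.Agent.S6140
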