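import Groth.Statements.S6141
import Mathlib

set_option autoImplicit false
open CategoryTheory
universe u
open SGA4

namespace Groth.Agent.S6141

/-- Let `u : C ⥤ C'` be a functor between small sites which is continuous and cocontinuous. If `u` is
full and faithful, then the left adjoint `u_!` of the restriction functor `u^*` on sheaves of sets
is full and faithful. -/
theorem result
    {C : Type u} [SmallCategory C] {C' : Type u} [SmallCategory C']
    (J : GrothendieckTopology C) (K : GrothendieckTopology C') (u : C ⥤ C')
    [u.IsContinuous J K] [u.IsCocontinuous J K] [u.Full] [u.Faithful] :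
    (u.sheafPullback (Type u) J K).Full ∧ (u.sheafPullback (Type u) J K).Faithful := by
  have hff : IsIso (u.op.ranAdjunction (Type u)).counit := by
    rw [Functor.ranAdjunction_counit]
    infer_instance
  have : IsIso (u.sheafAdjunctionCocontinuous (Type u) J K).counit := by
    haveI : ∀ F, IsIso ((u.sheafAdjunctionCocontinuous (Type u) J K).counit.app F) := fun F => by
      haveI : IsIso ((sheafToPresheaf J (Type u)).map ((u.sheafAdjunctionCocontinuous (Type u) J K).counit.app F)) := by
        change IsIso ((u.sheafAdjunctionCocontinuous (Type u) J K).counit.app F).hom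
        rw [u.sheafAdjunctionCocontinuous_counit_app_hom]
        exact NatIso.isIso_app_of_isIso (u.op.ranAdjunction (Type u)).counit F.obj
      exact isIso_of_reflects_iso _ (sheafToPresheaf J (Type u))
    exact NatIso.isIso_of_isIso_app _
  have hR := (u.sheafAdjunctionCocontinuous (Type u) J K).fullyFaithfulROfIsIsoCounit
  have hL := (Adjunction.Triple.mk (u.sheafAdjunctionContinuous (Type u) J K)
    (u.sheafAdjunctionCocontinuous (Type u) J K)).fullyFaithfulEquiv.symm hR
  exact ⟨hL.full, hL.faithful⟩

end Groth.Agent.S6141
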