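import Groth.Statements.S6142
import Mathlib

set_option autoImplicit false
open CategoryTheory
universe u
open SGA4

namespace Groth.Agent.S6142

/-- Let `u : C ⥤ C'` be a continuous and cocontinuous functor between small sites whose topologies are
subcanonical. If the left adjoint `u_!` of the restriction functor `u^*` on sheaves of sets is full
and faithful, then `u` is full and faithful. -/
theorem result
    {C : Type u} [SmallCategory C] {C' : Type u} [SmallCategory C']
    (J : GrothendieckTopology C) (K : GrothendieckTopology C') [J.Subcanonical] [K.Subcanonical]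
    (u : C ⥤ C') [u.IsContinuous J K] [u.IsCocontinuous J K]
    (h : (u.sheafPullback (Type u) J K).Full ∧ (u.sheafPullback (Type u) J K).Faithful) :
    u.Full ∧ u.Faithful := by
  obtain ⟨hfull, hfaith⟩ := h
  let adj := u.sheafAdjunctionContinuous (Type u) J K
  let act : ∀ X : C, J.yoneda.obj X ⟶ (u.sheafPushforwardContinuous (Type u) J K).obj (K.yoneda.obj (u.obj X)) :=
    fun X => ⟨{ app := fun a => TypeCat.ofHom fun f => u.map f
                naturality := fun a a' g => by ext f; exact u.map_comp _ _ }⟩
  let θ : ∀ X, (u.sheafPullback (Type u) J K).obj (J.yoneda.obj X) ⟶ K.yoneda.obj (u.obj X) :=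
    fun X => (adj.homEquiv _ _).symm (act X)
  have key : ∀ X (a : Cᵒᵖ) (f : ((J.yoneda.obj X).obj).obj a),
      (θ X).hom.app (Opposite.op (u.obj a.unop)) ((adj.unit.app (J.yoneda.obj X)).hom.app a f) = u.map f :=
    fun X a f => by
      have := (adj.homEquiv _ _).apply_symm_apply (act X)
      rw [Adjunction.homEquiv_unit] at this
      exact ConcreteCategory.congr_hom (NatTrans.congr_app (congrArg (fun z => z.hom) this) a) f
  have hiso : ∀ X, IsIso (θ X) := fun X => by
    let w : ((u.sheafPullback (Type u) J K).obj (J.yoneda.obj X)).obj.obj (Opposite.op (u.obj X)) :=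
      (adj.unit.app (J.yoneda.obj X)).hom.app (Opposite.op X) (𝟙 X)
    let inv : K.yoneda.obj (u.obj X) ⟶ (u.sheafPullback (Type u) J K).obj (J.yoneda.obj X) :=
      ⟨yonedaEquiv.symm w⟩
    have h1 : inv ≫ θ X = 𝟙 _ := by
      refine Sheaf.hom_ext (yonedaEquiv.injective ?_)
      refine (yonedaEquiv_comp _ _).trans ((congrArg ((θ X).hom.app _) (yonedaEquiv.apply_symm_apply w)).trans ?_)
      exact (key X (Opposite.op X) (𝟙 X)).trans (u.map_id X)
    refine ⟨inv, (adj.homEquiv _ _).injective ?_, h1⟩
    rw [Adjunction.homEquiv_unit, Adjunction.homEquiv_unit]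
    refine Sheaf.hom_ext (yonedaEquiv.injective ?_)
    refine (yonedaEquiv_comp _ _).trans (Eq.trans ?_ (yonedaEquiv_comp _ _).symm)
    change inv.hom.app _ ((θ X).hom.app _ w) = w
    rw [show (θ X).hom.app _ w = 𝟙 (u.obj X) from (key X (Opposite.op X) (𝟙 X)).trans (u.map_id X)]
    exact yonedaEquiv.apply_symm_apply _
  have nat : ∀ {X Y : C} (f : X ⟶ Y), (u.sheafPullback (Type u) J K).map (J.yoneda.map f) ≫ θ Y =
      θ X ≫ K.yoneda.map (u.map f) := fun {X Y} f => by
    rw [← Adjunction.homEquiv_naturality_left_symm, ← Adjunction.homEquiv_naturality_right_symm]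
    congr 1
    refine Sheaf.hom_ext (NatTrans.ext (funext fun a => ?_))
    ext g
    exact u.map_comp _ _
  haveI : (J.yoneda).Full := J.yonedaFullyFaithful.full
  haveI : (J.yoneda).Faithful := J.yonedaFullyFaithful.faithful
  haveI : (K.yoneda).Full := K.yonedaFullyFaithful.full
  haveI : (K.yoneda).Faithful := K.yonedaFullyFaithful.faithful
  constructor
  · refine ⟨fun {X Y} g => ?_⟩
    haveI := hiso Y
    obtain ⟨φ, hφ⟩ := (J.yoneda ⋙ u.sheafPullback (Type u) J K).map_surjective
      (θ X ≫ K.yoneda.map g ≫ inv (θ Y))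
    refine ⟨φ, K.yoneda.map_injective ?_⟩
    haveI := hiso X
    rw [← cancel_epi (θ X), ← nat]
    rw [show (u.sheafPullback (Type u) J K).map (J.yoneda.map φ) = _ from hφ]
    simp
  · refine ⟨fun {X Y} f g e => ?_⟩
    haveI := hiso Y
    apply (J.yoneda ⋙ u.sheafPullback (Type u) J K).map_injective
    rw [Functor.comp_map, Functor.comp_map, ← cancel_mono (θ Y), nat, nat, e]

end Groth.Agent.S6142
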