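import Groth.Statements.S6143
import Mathlib
import Groth.Agent.Lib.CofanSheaf.Basic

set_option autoImplicit false
open CategoryTheory CategoryTheory.Limits Opposite Groth
universe u
open SGA4

namespace Groth.Agent.S6143

/-- Let `C` be a small category, `X` an object and `s i : Y i ⟶ X` a family of morphisms all of whose
base changes exist. Then the associated sheaf of `h_X` for the canonical topology, with the maps
induced by the `s i`, is a coproduct of the associated sheaves of the `h_{Y i}` (in sheaves of sets
for the canonical topology) if and only if `X` is a disjoint universal coproduct of the `Y i` in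
`C`: the cofan `(X, s)` is a colimit, the injections of a coproduct of the family are monomorphisms
with pairwise pullbacks initial, and the colimit is stable under base change. (The source asks for
the coproduct decomposition after sheafification for some topology coarser than the canonical one;
this is equivalent to asking it for the canonical topology itself.) -/
theorem result
    {C : Type u} [SmallCategory C] {X : C} {ι : Type u} (Y : ι → C) (s : ∀ i, Y i ⟶ X)
    [∀ (i : ι) (Z : C) (g : Z ⟶ X), HasPullback (s i) g] :
    Nonempty (IsColimit (Cofan.mk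
        ((presheafToSheaf (Sheaf.canonicalTopology C) (Type u)).obj (yoneda.obj X))
        (fun i => (presheafToSheaf (Sheaf.canonicalTopology C) (Type u)).map (yoneda.map (s i))))) ↔
      (Nonempty (IsColimit (Cofan.mk X s)) ∧ CoproductDisjoint Y ∧
        IsUniversalColimit (Cofan.mk X s)) := by
    rw [CofanSheaf.isColimit_iff_W, CofanSheaf.inj_iff, CofanSheaf.surj_iff]
    constructor
    · rintro ⟨⟨hd, hb⟩, hc⟩
      have hy : ∀ T : C, Presieve.IsSheaf (Sheaf.canonicalTopology C) (yoneda.obj T) := Sheaf.isSheaf_yoneda_obj
      have hmono : ∀ i, Mono (s i) := fun i => ⟨fun {W} g h e =>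
        ((hy (Y i)).isSeparated _ (hd i W g h e)).ext fun V v hv => hv⟩
      have hbot : ∀ (W T : C), (⊥ : Sieve W) ∈ Sheaf.canonicalTopology C W → ∃! t : W ⟶ T, True := fun W T hW => by
        obtain ⟨t, -, ht⟩ := hy T _ hW (fun V f hf => hf.elim) (fun _ _ _ _ _ _ _ h => h.elim)
        exact ⟨t, trivial, fun y _ => ht y fun V f hf => hf.elim⟩
      have hini : ∀ i j, i ≠ j → Nonempty (IsInitial (pullback (s i) (s j))) := fun i j hne => by
        have hW := hb i j _ _ _ hne (pullback.condition (f := s i) (g := s j))
        exact ⟨IsInitial.ofUniqueHom (fun T => (hbot _ T hW).choose) fun T m => (hbot _ T hW).unique trivial (hbot _ T hW).choose_spec.1⟩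
      have huniv : IsUniversalColimit (Cofan.mk X s) := by
        intro F c α f hw _ H
        have H' : ∀ i, IsPullback (c.ι.app ⟨i⟩) (α.app ⟨i⟩) f (s i) := fun i => H ⟨i⟩
        have hS : Sieve.ofArrows (fun i => F.obj ⟨i⟩) (fun i => c.ι.app ⟨i⟩) ∈ Sheaf.canonicalTopology C c.pt := by
          refine (Sheaf.canonicalTopology C).superset_covering ?_ ((Sheaf.canonicalTopology C).pullback_stable f hc)
          intro V v hv
          rw [Sieve.pullback_apply, Sieve.mem_ofArrows_iff] at hv
          obtain ⟨i, a, ha⟩ := hv
          rw [Sieve.mem_ofArrows_iff]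
          exact ⟨i, (H' i).lift v a ha, ((H' i).lift_fst v a ha).symm⟩
        have key : ∀ t : Cocone F, ∃! m : c.pt ⟶ t.pt, ∀ i, c.ι.app ⟨i⟩ ≫ m = t.ι.app ⟨i⟩ := fun t => by
          refine (Presieve.isSheafFor_arrows_iff _ _).1 ((Presieve.isSheafFor_iff_generate _).2 (hy t.pt _ hS))
            (fun i => t.ι.app ⟨i⟩) fun i j W a b e => ?_
          rcases eq_or_ne i j with rfl | hne
          · have : Mono (c.ι.app ⟨i⟩) := by
              have := hmono i
              exact (H' i).flip.mono_snd_of_mono
            rw [cancel_mono] at e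
            rw [e]
          · refine (hbot W t.pt (hb i j W (a ≫ α.app ⟨i⟩) (b ≫ α.app ⟨j⟩) hne ?_)).unique trivial trivial
            rw [Category.assoc, Category.assoc, ← (H' i).w, ← (H' j).w, reassoc_of% e]
        exact ⟨{ desc := fun t => (key t).choose
                 fac := fun t j => (key t).choose_spec.1 j.as
                 uniq := fun t m hm => (key t).choose_spec.2 m fun i => hm ⟨i⟩ }⟩
      refine ⟨⟨huniv.isColimit⟩, ?_, huniv⟩
      have : ∀ i, Mono ((Cofan.mk X s).inj i) := hmono
      exact CoproductDisjoint.of_cofan huniv.isColimit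
        (fun {i j} _ => PullbackCone.mk _ _ (pullback.condition (f := s i) (g := s j)))
        (fun {i j} _ => pullbackIsPullback (s i) (s j)) (fun {i j} h => (hini i j h).some)
    · rintro ⟨⟨hcol⟩, hdis, huniv⟩
      have hpiece : ∀ (Z : C) (p : Z ⟶ X),
          Nonempty (IsColimit (Cofan.mk Z fun k => pullback.snd (s k) p)) := fun Z p => by
        refine huniv (Cofan.mk Z fun k => pullback.snd (s k) p)
          (Discrete.natTrans fun k => pullback.fst (s k.as) p) p ?_ (NatTrans.equifibered_of_discrete _) ?_
        · ext ⟨k⟩
          exact pullback.condition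
        · rintro ⟨k⟩
          exact (IsPullback.of_hasPullback (s k) p).flip
      refine ⟨⟨fun i W g h e => ?_, fun i j W g h hne e => ?_⟩, ?_⟩
      · have : Mono (s i) := CoproductDisjoint.mono_inj hcol i
        rw [cancel_mono] at e
        subst e
        convert (Sheaf.canonicalTopology C).top_mem W
        ext V v
        simp [CofanSheaf.eqSieve]
      · refine Sheaf.mem_finestTopology_of_forall_isSheafFor ?_
        rintro _ ⟨T, rfl⟩ Z f
        have hI := IsInitial.ofCoproductDisjointOfIsColimit (X := Y) hne hcol (f := s)
        intro x _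
        refine ⟨f ≫ pullback.lift g h e ≫ hI.to T, fun V v hv => absurd hv (by simp), fun t _ => ?_⟩
        classical
        let a : Z ⟶ T := t
        let b := f ≫ pullback.lift g h e ≫ hI.to T
        obtain ⟨hc⟩ := hpiece Z (f ≫ g ≫ s i)
        let m : Z ⟶ T := Cofan.IsColimit.desc hc fun k => if k = i then pullback.snd (s k) _ ≫ a else pullback.snd (s k) _ ≫ b
        have hm : ∀ k, pullback.snd (s k) (f ≫ g ≫ s i) ≫ m =
            if k = i then pullback.snd (s k) _ ≫ a else pullback.snd (s k) _ ≫ b := fun k =>
          Cofan.IsColimit.fac hc _ k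
        have sect : ∀ (k : ι) (w : Z ⟶ Y k) (hw : w ≫ s k = 𝟙 Z ≫ f ≫ g ≫ s i) (c : Z ⟶ T),
            pullback.snd (s k) (f ≫ g ≫ s i) ≫ m = pullback.snd (s k) (f ≫ g ≫ s i) ≫ c → m = c :=
          fun k w hw c hkc => by
            have hl : pullback.lift w (𝟙 Z) hw ≫ pullback.snd (s k) (f ≫ g ≫ s i) = 𝟙 Z :=
              pullback.lift_snd _ _ _
            rw [← Category.id_comp m, ← Category.id_comp c, ← hl, Category.assoc, Category.assoc, hkc]
        have ha : m = a := sect i (f ≫ g) (by simp) a ((hm i).trans (if_pos rfl))
        have hb : m = b := sect j (f ≫ h) (by simp [e]) b ((hm j).trans (if_neg hne.symm))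
        exact ha.symm.trans hb
      · refine Sheaf.mem_finestTopology_of_forall_isSheafFor ?_
        rintro _ ⟨T, rfl⟩ Z f
        have : (Sieve.ofArrows Y s).pullback f = Sieve.ofArrows _ (fun k => pullback.snd (s k) f) := by
          ext V v
          simp only [Sieve.pullback_apply, Sieve.mem_ofArrows_iff]
          exact ⟨fun ⟨k, a, ha⟩ => ⟨k, pullback.lift a v ha.symm, (pullback.lift_snd _ _ _).symm⟩,
            fun ⟨k, a, ha⟩ => ⟨k, a ≫ pullback.fst (s k) f, by rw [ha, Category.assoc, Category.assoc, pullback.condition]⟩⟩
        rw [this]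
        refine (Presieve.isSheafFor_iff_generate _).1 ((Presieve.isSheafFor_arrows_iff _ _).2 fun x _ => ?_)
        obtain ⟨hc⟩ := hpiece Z f
        exact ⟨Cofan.IsColimit.desc hc x, fun k => Cofan.IsColimit.fac hc x k,
          fun t ht => Cofan.IsColimit.hom_ext hc _ _ fun k => (ht k).trans (Cofan.IsColimit.fac hc x k).symm⟩

end Groth.Agent.S6143
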