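import Groth.Statements.S6144
import Mathlib.CategoryTheory.Generator.Basic
import Mathlib.Logic.Small.Set
import Mathlib.CategoryTheory.Subobject.Basic
import Mathlib.CategoryTheory.Limits.Shapes.Diagonal

set_option autoImplicit false
open CategoryTheory CategoryTheory.Limits
universe w v u
open SGA4

namespace Groth.Agent.S6144

/-- Let `E` be a category with `v`-small hom-sets and pullbacks, admitting a detecting family of objects
indexed by a `v`-small type (maps out of the family jointly reflect isomorphisms). Then every
detecting family `Y : I → E`, indexed by an arbitrary type, contains a detecting subfamily indexed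
by a `v`-small subset of `I`. -/
theorem result
    {E : Type u} [Category.{v} E] [HasPullbacks E] {κ : Type v} (G : κ → E)
    (hG : (ObjectProperty.ofObj G).IsDetecting) {I : Type w} (Y : I → E)
    (hY : (ObjectProperty.ofObj Y).IsDetecting) :
    ∃ J : Set I, Small.{v} J ∧ (ObjectProperty.ofObj (fun j : J => Y j)).IsDetecting := by
  classical
  -- subobjects are determined by the maps from the small detecting family factoring through them
  have hle : ∀ (X : E) (A B : Subobject X),
      (∀ (k : κ) (x : G k ⟶ X), A.Factors x → B.Factors x) → A ≤ B := by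
    intro X A B h
    haveI : IsIso (pullback.fst A.arrow B.arrow) := by
      refine hG _ ?_
      rintro _ ⟨k⟩ x
      obtain ⟨z, hz⟩ := (B.factors_iff _).1 (h k (x ≫ A.arrow) ((A.factors_iff _).2 ⟨x, rfl⟩))
      refine ⟨pullback.lift x z hz.symm, pullback.lift_fst _ _ _, fun y hy => ?_⟩
      exact (cancel_mono (pullback.fst A.arrow B.arrow)).1 (hy.trans (pullback.lift_fst _ _ hz.symm).symm)
    exact Subobject.le_of_comm (inv (pullback.fst A.arrow B.arrow) ≫ pullback.snd A.arrow B.arrow)
      (by rw [Category.assoc, ← pullback.condition, IsIso.inv_hom_id_assoc])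
  haveI hsmall : ∀ k : κ, Small.{v} (Subobject (G k)) := by
    intro k
    refine small_of_injective (β := Set (Σ k' : κ, G k' ⟶ G k))
      (f := fun A => {x | A.Factors x.2}) ?_
    intro A B h
    have h' : ∀ (k' : κ) (x : G k' ⟶ G k), A.Factors x ↔ B.Factors x := fun k' x =>
      Set.ext_iff.1 h ⟨k', x⟩
    exact le_antisymm (hle _ A B fun k' x => (h' k' x).1) (hle _ B A fun k' x => (h' k' x).2)
  -- choose witnesses in `Y` for the proper subobjects
  have hw : ∀ (q : Σ k : κ, {A : Subobject (G k) // ¬ IsIso A.arrow}),
      ∃ (j : I) (y : Y j ⟶ G q.1), ¬ q.2.1.Factors y := by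
    rintro ⟨k, A, hA⟩
    by_contra hne
    push_neg at hne
    refine hA (hY _ ?_)
    rintro _ ⟨j⟩ y
    obtain ⟨z, hz⟩ := (A.factors_iff _).1 (hne j y)
    exact ⟨z, hz, fun z' hz' => (cancel_mono A.arrow).1 (hz'.trans hz.symm)⟩
  choose jw yw hyw using hw
  refine ⟨Set.range jw, small_range jw, ?_⟩
  -- monomorphisms that are surjective on maps from the subfamily are isomorphisms
  have hmono : ∀ {X Z : E} (m : X ⟶ Z) [Mono m],
      (∀ q (y : Y (jw q) ⟶ Z), ∃ y', y' ≫ m = y) → IsIso m := by
    intro X Z m _ hm
    refine hG _ ?_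
    rintro _ ⟨k⟩ g
    have hiso : IsIso (Subobject.mk (pullback.snd m g)).arrow := by
      by_contra hne
      apply hyw ⟨k, _, hne⟩
      obtain ⟨y', hy'⟩ := hm ⟨k, _, hne⟩ (yw ⟨k, _, hne⟩ ≫ g)
      exact (Subobject.mk_factors_iff _ _).2
        ⟨pullback.lift y' (yw ⟨k, _, hne⟩) hy', pullback.lift_snd _ _ _⟩
    haveI : IsIso (pullback.snd m g) := by
      rw [← Subobject.underlyingIso_arrow (pullback.snd m g)]
      infer_instance
    exact ⟨inv (pullback.snd m g) ≫ pullback.fst m g,
      by simp only [Category.assoc, pullback.condition, IsIso.inv_hom_id_assoc],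
      fun z hz => (cancel_mono m).1 (by
        simp only [Category.assoc, pullback.condition, IsIso.inv_hom_id_assoc]
        exact hz)⟩
  intro X Z f hf
  have hbij : ∀ q (y : Y (jw q) ⟶ Z), ∃! y', y' ≫ f = y := fun q y =>
    hf (Y (jw q)) (ObjectProperty.ofObj_apply (fun j : Set.range jw => Y j) ⟨jw q, q, rfl⟩) y
  haveI : IsIso (pullback.diagonal f) := by
    refine hmono _ ?_
    intro q y
    refine ⟨y ≫ pullback.fst f f, ?_⟩
    have : y ≫ pullback.fst f f = y ≫ pullback.snd f f :=
      (hbij q (y ≫ pullback.fst f f ≫ f)).unique (Category.assoc _ _ _)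
        (by rw [Category.assoc, pullback.condition])
    apply pullback.hom_ext
    · rw [Category.assoc, pullback.diagonal_fst, Category.comp_id]
    · rw [Category.assoc, pullback.diagonal_snd, Category.comp_id, this]
  haveI : Mono f := (pullback.isIso_diagonal_iff f).1 inferInstance
  exact hmono f fun q y => (hbij q y).exists

end Groth.Agent.S6144
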