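import Groth.Statements.S6164
import Groth.Agent.Lib.SiteCoh.CechFam
import Groth.Agent.Lib.SiteCoh.SieveSh
import Groth.Agent.S12105
-- import your own Groth.Agent.* helpers here

set_option autoImplicit false
universe u
open CategoryTheory
open CohSite

namespace Groth.Agent.S6164
open Groth.Agent.Lib.SiteCoh Groth.Agent.Lib.SpecSeq

open CategoryTheory.Limits in
/-- Existence form of the spectral sequence of a covering; abelian sheaves on a small site with fibre
products: for a covering family (U_i -> X) and an abelian sheaf M there is a bounded E_2 spectral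
sequence of abelian groups with E_2^{p,q} isomorphic to the Cech cohomology group H^p((U_i -> X),
H^q(M)) of the family with coefficients in the presheaf V |-> H^q(V, M), for p, q >= 0 and zero
otherwise, with abutment data whose filtrations are finite on H^n(X, M) (n >= 0; zero for n < 0).
The E_2 identifications and abutment isomorphisms are asserted to exist only, not pinned to the
canonical maps, so edge maps are not part of this statement. -/
theorem result {C : Type u} [SmallCategory C] [HasPullbacks C]
    (J : GrothendieckTopology C) (M : Sheaf J AddCommGrpCat.{u}) {X : C} {ι : Type u} (Y : ι → Over X)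
    (hY : Sieve.ofArrows (fun i => (Y i).left) (fun i => (Y i).hom) ∈ J X) :
    ∃ (E : E₂CohomologicalSpectralSequence AddCommGrpCat.{u})
      (a : SpSeq.Abutment E (fun n : ℤ =>
        if 0 ≤ n then AddCommGrpCat.of (CohSite.HU M n.toNat X) else AddCommGrpCat.of PUnit.{u + 1})),
      (∀ n, a.IsFinite n) ∧ SpSeq.IsBounded E ∧
      ∀ p q : ℤ, Nonempty ((E.page 2 le_rfl).X (p, q) ≅
        (if 0 ≤ p ∧ 0 ≤ q then CohCx.cechH (M.cohomologyPresheaf q.toNat) Y p.toNat
         else AddCommGrpCat.of PUnit.{u + 1})) := by
  classical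
  obtain ⟨E, a, ha, hb, hE⟩ := Groth.Agent.S12105.result J
    (Sieve.ofArrows (fun i => (Y i).left) (fun i => (Y i).hom)).functor M
  refine ⟨E, Grothendieck.abutmentOfIso a (fun n => ?_),
    fun n => Grothendieck.abutmentOfIso_isFinite _ _ _ (ha n), hb, fun p q => ?_⟩
  · exact if h : 0 ≤ n then
        eqToIso (if_pos h) ≪≫ SieveSh.hkSieveIso hY M n.toNat ≪≫ eqToIso (if_pos h).symm
      else eqToIso (if_neg h) ≪≫ eqToIso (if_neg h).symm
  · obtain ⟨e⟩ := hE p q
    by_cases h : 0 ≤ p ∧ 0 ≤ q
    · rw [if_pos h] at e ⊢
      obtain ⟨e'⟩ := CechFam.nonempty_cechH_iso_ext Y (X := X)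
        ⟨M.cohomologyPresheaf q.toNat, Presheaf.isSheaf_bot _⟩ p.toNat
      exact ⟨e ≪≫ e'.symm⟩
    · rw [if_neg h] at e ⊢
      exact ⟨e⟩

end Groth.Agent.S6164
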