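import Groth.Statements.S6172
import Mathlib

set_option autoImplicit false
universe u
open CategoryTheory
open SGA4

namespace Groth.Agent.S6172

open CategoryTheory.Limits MonoidalCategory in
/-- Topos E of sheaves of sets on a small site, localised at an object Z: with j_Z : E/Z -> E the
localisation morphism, j_Z^* X = Z x X over Z, and j_{Z*} its right adjoint (taken as an instance
hypothesis, which holds in any topos), j_{Z*} j_Z^* Y is isomorphic to the internal hom Hom(Z, Y)
for every object Y. Existence of an isomorphism only (the source's is canonical). -/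
theorem result {C : Type u} [SmallCategory C] (J : GrothendieckTopology C)
    (Z Y : Sheaf J (Type u)) [(Over.star Z).IsLeftAdjoint] :
    Nonempty (((Over.star Z).rightAdjoint).obj ((Over.star Z).obj Y) ≅ (ihom Z).obj Y) := by
    let a₁ : Over.star Z ⋙ Over.forget Z ⊣ Over.star Z ⋙ (Over.star Z).rightAdjoint :=
      (Adjunction.ofIsLeftAdjoint (Over.star Z)).comp (Over.forgetAdjStar Z)
    let i := fun X : Sheaf J (Type u) => IsLimit.conePointUniqueUpToIso (prodIsProd Z X)
        (CartesianMonoidalCategory.tensorProductIsBinaryProduct Z X)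
    have h1 : ∀ X, (i X).hom ≫ SemiCartesianMonoidalCategory.fst Z X = prod.fst := fun X =>
      IsLimit.conePointUniqueUpToIso_hom_comp _ _ (Discrete.mk WalkingPair.left)
    have h2 : ∀ X, (i X).hom ≫ SemiCartesianMonoidalCategory.snd Z X = prod.snd := fun X =>
      IsLimit.conePointUniqueUpToIso_hom_comp _ _ (Discrete.mk WalkingPair.right)
    let e : Over.star Z ⋙ Over.forget Z ≅ tensorLeft Z :=
      NatIso.ofComponents i (fun {X X'} g => by
        change prod.map (𝟙 Z) g ≫ (i X').hom = (i X).hom ≫ Z ◁ g
        apply CartesianMonoidalCategory.hom_ext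
        · rw [Category.assoc, Category.assoc, h1]; erw [CartesianMonoidalCategory.whiskerLeft_fst, h1]; simp
        · rw [Category.assoc, Category.assoc, h2]; erw [CartesianMonoidalCategory.whiskerLeft_snd]; rw [← Category.assoc (i X).hom]; erw [h2]; simp)
    exact ⟨((a₁.ofNatIsoLeft e).rightAdjointUniq (ihom.adjunction Z)).app Y⟩

end Groth.Agent.S6172
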