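import Groth.Statements.S6173
import Mathlib

set_option autoImplicit false
universe u
open CategoryTheory CategoryTheory.Limits Opposite
open SGA4

namespace Groth.Agent.S6173

/-- Second assertion (topos of sheaves on a small site (C, J); E/X_i the induced topoi, modelled by the
sites (C/X_i, J/X_i); 'enough points' = a small conservative family of points, equivalently all
fibre functors together are conservative): if (X_i) is a family of objects covering the final object
and every E/X_i has enough points, then E has enough points. (The first assertion, that E/X inherits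
enough points from E, is Mathlib's instance.) -/
theorem result {C : Type u} [SmallCategory C] (J : GrothendieckTopology C) {ι : Type u}
    (X : ι → C) (hX : J.CoversTop X) (h : ∀ i, GrothendieckTopology.HasEnoughPoints.{u} (J.over (X i))) :
    GrothendieckTopology.HasEnoughPoints.{u} J := by
    choose P hsmall hP using fun i => (h i).exists_objectProperty
    let idx := fun (ψ : Σ i, Subtype (P i)) => ψ.2.1.map (Over.forget (X ψ.1)) J
    have hsig : Small.{u} (Σ i, Subtype (P i)) := by
      have := hsmall
      infer_instance
    refine ⟨⟨ObjectProperty.ofObj idx, inferInstance, ⟨⟨fun {F G} φ _ => ?_⟩⟩⟩⟩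
    have hψ : ∀ i, IsIso (((Over.forget (X i)).sheafPushforwardContinuous (Type u) (J.over (X i)) J).map φ) := fun i => by
      rw [(hP i).jointlyReflectIsomorphisms_type.isIso_iff]
      intro Φ
      have : IsIso ((idx ⟨i, Φ.obj, Φ.property⟩).sheafFiber.map φ) :=
        (inferInstance : IsIso ((fun Φ : (ObjectProperty.ofObj idx).FullSubcategory => Φ.obj.sheafFiber (A := Type u)) ⟨_, ObjectProperty.ofObj_apply idx ⟨i, Φ.obj, Φ.property⟩⟩ |>.map φ))
      exact ((MorphismProperty.isomorphisms (Type u)).arrow_mk_iso_iff
        (((Functor.mapArrowFunctor _ _).mapIso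
          (Φ.obj.sheafFiberMapIso (Over.forget (X i)) J (Type u))).app (Arrow.mk φ))).1 this
    have push : ∀ {i : ι} {V : C} (g : V ⟶ X i) (S : Sieve (Over.mk g)) (T : Sieve V),
        S ∈ J.over (X i) (Over.mk g) → (∀ Z (a : Z ⟶ Over.mk g), S a → T a.left) → T ∈ J V := by
      intro i V g S T hS hST
      refine J.superset_covering ?_ ((J.mem_over_iff S).1 hS)
      rintro Z z ⟨W, a, b, ha, rfl⟩
      exact T.downward_closed (hST W a ha) b
    rw [← Sheaf.isLocallyBijective_iff_isIso φ]
    refine ⟨⟨fun {U} x y hxy => ?_⟩, ⟨fun {U} s => ?_⟩⟩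
    · refine J.transitive (hX U.unop) _ fun V v ⟨i, ⟨g⟩⟩ => ?_
      have hl := ((Sheaf.isLocallyBijective_iff_isIso _).2 (hψ i)).1
      refine push g _ _ (hl.equalizerSieve_mem (X := op (Over.mk g)) (F.obj.map v.op x) (F.obj.map v.op y)
        ((NatTrans.naturality_apply φ.hom v.op x).trans ((congrArg (G.obj.map v.op) hxy).trans
          (NatTrans.naturality_apply φ.hom v.op y).symm))) fun Z a ha => ?_
      change F.obj.map (a.left ≫ v).op x = F.obj.map (a.left ≫ v).op y
      rw [op_comp, Functor.map_comp_apply, Functor.map_comp_apply]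
      exact ha
    · refine J.transitive (hX U) _ fun V v ⟨i, ⟨g⟩⟩ => ?_
      have hl := ((Sheaf.isLocallyBijective_iff_isIso _).2 (hψ i)).2
      refine push g _ _ (hl.imageSieve_mem (U := Over.mk g) (G.obj.map v.op s)) fun Z a ha => ?_
      obtain ⟨t, ht⟩ := ha
      refine ⟨t, ht.trans ?_⟩
      rw [op_comp, Functor.map_comp_apply]
      rfl

end Groth.Agent.S6173
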