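import Groth.Statements.S6180
import Groth.Agent.Lib.EtSite.StrictHens
import Groth.Agent.Lib.EtSite.Pull

set_option autoImplicit false
open CategoryTheory CategoryTheory.Limits AlgebraicGeometry Opposite
universe u
open EtDesc

namespace Groth.Agent.S6180

open Groth.Agent.Lib.EtSite

/-- Let X be a scheme, x a point of X, R a strict henselisation of O_{X,x} with strict localisation X̄ =
Spec R -> X and attached geometric point ξ : Spec κ(R) -> X. The fibre functor F ↦ F_ξ on etale
sheaves of sets on X is isomorphic to the functor F ↦ Γ(X̄, F̄), F̄ the inverse image of F on X̄.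
(The published statement gives a canonical isomorphism — global sections of F̄ identified with its
stalk at the closed point of X̄, then with F_ξ; this row asserts only that an isomorphism of
functors exists.) -/
theorem result (X : Scheme.{u}) (x : X)
    (R : Type u) [CommRing R] [IsLocalRing R] [Algebra (X.presheaf.stalk x) R]
    [IsLocalHom (algebraMap (X.presheaf.stalk x) R)] [Hensel.IsStrictHenselization (X.presheaf.stalk x) R]
    [IsSepClosed (IsLocalRing.ResidueField R)] :
    Nonempty ((Scheme.pointSmallEtale (Hens2.geomPt X x R)).sheafFiber (A := Type (u + 1)) ≅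
      EtDesc.pullSh (Hens2.specOf X x R) ⋙
        (sheafSections (Spec (CommRingCat.of R)).smallEtaleTopology (Type (u + 1))).obj
          (op (EtCoh.top (Spec (CommRingCat.of R))))) := by
  haveI : HenselianLocalRing R := Hensel.IsStrictHenselization.henselian (X.presheaf.stalk x)
  have hb := fun F : EtDesc.Sh (Spec (CommRingCat.of R)) =>
    (ConcreteCategory.isIso_iff_bijective
      ((Scheme.pointSmallEtale (StrictHens.cpt R)).toPresheafFiber (EtCoh.top _) (StrictHens.topPt R) F.obj)).2
      (StrictHens.toPresheafFiber_top_bijective R F.obj)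
  let e : (sheafSections (Spec (CommRingCat.of R)).smallEtaleTopology (Type (u + 1))).obj
      (op (EtCoh.top (Spec (CommRingCat.of R)))) ≅
      (Scheme.pointSmallEtale (StrictHens.cpt R)).sheafFiber (A := Type (u + 1)) :=
    NatIso.ofComponents
      (fun F => @asIso _ _ _ _
        ((Scheme.pointSmallEtale (StrictHens.cpt R)).toPresheafFiber (EtCoh.top _) (StrictHens.topPt R) F.obj)
        (hb F))
      (fun φ => ((Scheme.pointSmallEtale (StrictHens.cpt R)).toPresheafFiber_naturality φ.hom _ _).symm)
  exact ⟨(Pull.stalkPullSh (Hens2.specOf X x R) (StrictHens.cpt R)).symm ≪≫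
    Functor.isoWhiskerLeft (EtDesc.pullSh (Hens2.specOf X x R)) e.symm⟩

end Groth.Agent.S6180
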