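import Groth.Statements.S6181
import Groth.Agent.Lib.EtSite.FiniteStalk
import Mathlib.CategoryTheory.Limits.FunctorCategory.Shapes.Products

set_option autoImplicit false
open CategoryTheory CategoryTheory.Limits AlgebraicGeometry Opposite
universe u
open EtDesc

namespace Groth.Agent.S6181

/-- Let f : X -> Y be a finite morphism of schemes, Ω an algebraically closed field and η : Spec Ω -> Y
a geometric point. The functor F ↦ (f_* F)_η on etale sheaves of sets on X is isomorphic to the
product, over the geometric points ξ : Spec Ω -> X lying over η, of the fibre functors F ↦ F_ξ. (The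
published statement gives a canonical isomorphism and indexes the product by the points of the
geometric fibre over a separable closure of the residue field; this row asserts only that an
isomorphism of functors exists and indexes the product by the Ω-valued points of X over η, which for
Ω algebraically closed correspond to those points.) -/
theorem result {X Y : Scheme.{u}} (f : X ⟶ Y) [IsFinite f]
    {Ω : Type u} [Field Ω] [IsAlgClosed Ω] (η : Spec (CommRingCat.of Ω) ⟶ Y) :
    Nonempty (EtDesc.pushSh f ⋙ (Scheme.pointSmallEtale η).sheafFiber (A := Type (u + 1)) ≅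
      ∏ᶜ fun ξ : {ξ : Spec (CommRingCat.of Ω) ⟶ X // ξ ≫ f = η} =>
        ((Scheme.pointSmallEtale ξ.1).sheafFiber (A := Type (u + 1)) : EtDesc.Sh X ⥤ Type (u + 1))) := by
  let M : {ξ : Spec (CommRingCat.of Ω) ⟶ X // ξ ≫ f = η} → (EtDesc.Sh X ⥤ Type (u + 1)) := fun ξ =>
    (Scheme.pointSmallEtale ξ.1).sheafFiber
  let g : ∀ ξ, EtDesc.pushSh f ⋙ (Scheme.pointSmallEtale η).sheafFiber (A := Type (u + 1)) ⟶ M ξ :=
    fun ξ => Groth.Agent.Lib.EtSite.PushStalk.germTo f (Type (u + 1)) ξ.2
  have : ∀ F, IsIso ((Pi.lift g).app F) := fun F => by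
    have e : (Pi.lift g).app F ≫ (piObjIso M F).hom = Pi.lift fun ξ => (g ξ).app F := by
      refine limit.hom_ext fun ⟨ξ⟩ => ?_
      change ((Pi.lift g).app F ≫ (piObjIso M F).hom) ≫ Pi.π _ ξ = (Pi.lift fun ξ => (g ξ).app F) ≫ Pi.π _ ξ
      rw [Pi.lift_π, Category.assoc, piObjIso_hom_comp_π, ← NatTrans.comp_app, Pi.lift_π]
    have : IsIso ((Pi.lift g).app F ≫ (piObjIso M F).hom) := by
      rw [e]
      exact Groth.Agent.Lib.EtSite.FiniteStalk.isIso_pi_lift _ _
        (Groth.Agent.Lib.EtSite.PushStalk.germTo_bijective f η F)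
    exact IsIso.of_isIso_comp_right _ (piObjIso M F).hom
  have := NatIso.isIso_of_isIso_app (Pi.lift g)
  exact ⟨asIso (Pi.lift g)⟩

end Groth.Agent.S6181
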