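import Groth.Statements.S6182
import Mathlib
import Groth.Agent.Lib.ToposFin.Site

set_option autoImplicit false
open CategoryTheory CategoryTheory.Limits Opposite
universe u
open ToposFin

open Groth
namespace Groth.Agent.S6182

/-- Let (C, J) and (D, K) be small sites with fibre products in which every object is quasi-compact, and
G : C -> D a continuous functor whose inverse-image functor on sheaves of sets f^* (the sheaf
pullback along G, from sheaves on C to sheaves on D) preserves finite limits, so that G is a
morphism of sites and f a morphism of topoi. Then f is coherent: f^* sends quasi-compact objects to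
quasi-compact objects and quasi-separated objects to quasi-separated objects. -/
theorem result {C D : Type u} [SmallCategory C] [SmallCategory D]
    [HasPullbacks C] [HasPullbacks D] (J : GrothendieckTopology C) (K : GrothendieckTopology D)
    (hC : ∀ X : C, ToposFin.IsQCSite J X) (hD : ∀ Y : D, ToposFin.IsQCSite K Y)
    (G : C ⥤ D) [Functor.IsContinuous G J K] [PreservesFiniteLimits (G.sheafPullback (Type u) J K)] :
    (∀ X : ToposFin.Sh J, ToposFin.IsQC X → ToposFin.IsQC ((G.sheafPullback (Type u) J K).obj X)) ∧
      (∀ X : ToposFin.Sh J, ToposFin.IsQS X → ToposFin.IsQS ((G.sheafPullback (Type u) J K).obj X)) := by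
    let F := G.sheafPullback (Type u) J K
    let R := G.sheafPushforwardContinuous (Type u) J K
    let adj := G.sheafAdjunctionContinuous (Type u) J K
    have key : ∀ X : C, Nonempty (ToposFin.eps K (G.obj X) ≅ F.obj (ToposFin.eps J X)) := fun X => by
      refine ⟨Coyoneda.ext _ _
        (fun {Z} z => (adj.homEquiv _ _).symm (CanonSheaf.hat (R.obj Z) (CanonSheaf.pt (G.obj X) Z z)))
        (fun {Z} φ => CanonSheaf.hat Z (CanonSheaf.pt X (R.obj Z) (adj.homEquiv _ _ φ)))
        (fun {Z} f => ?_) (fun {Z} f => ?_) (fun {Z Z'} f g => ?_)⟩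
      · erw [Equiv.apply_symm_apply, CanonSheaf.pt_hat, CanonSheaf.hat_pt]
      · erw [CanonSheaf.pt_hat, CanonSheaf.hat_pt, Equiv.symm_apply_apply]
      · rw [Adjunction.homEquiv_naturality_right, CanonSheaf.pt_comp]; erw [CanonSheaf.hat_comp]
        rfl
    refine TFin.coherent_pullback F adj (TFin.hasQC_of_gen (TFin.gen_eps hD)) (TFin.epsSet J) ?_ TFin.generating_eps ?_
    · rintro _ ⟨X, rfl⟩; exact TFin.coherent_eps hC X
    · rintro _ ⟨X, rfl⟩; exact TFin.coherent_of_iso (key X).some (TFin.coherent_eps hD _)

end Groth.Agent.S6182
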