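import Groth.Statements.S6184
import Groth.Agent.Lib.BigEt.Unit

set_option autoImplicit false
open CategoryTheory CategoryTheory.Limits AlgebraicGeometry Opposite
universe u
open BigSite

namespace Groth.Agent.S6184

/-- Let X be a scheme, u the inclusion of the small etale site of X into the big etale site (X-schemes
with the etale topology), u_* restriction of sheaves along it and u^* its left adjoint. For every
sheaf of sets G and every abelian sheaf G on the small etale site, the unit G -> u_* u^* G is an
isomorphism (so u^* is fully faithful). Stated for sheaves of sets (first conjunct, with Mathlib's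
sheaf pullback along the inclusion) and for abelian sheaves (second conjunct, the prelude's
adjunction on the big etale site). -/
theorem result (X : Scheme.{u}) :
    (∀ G : EtDesc.Sh X, IsIso (((EtFppf.a X).sheafAdjunctionContinuous (Type (u + 1)) X.smallEtaleTopology
      (QuotSh.J Scheme.etalePrecoverage X)).unit.app G)) ∧
    (∀ G : EtCoh.Ab X, IsIso ((BigSite.piEtAdj Scheme.etalePrecoverage X).unit.app G)) := by
  haveI : (EtFppf.a X).IsCocontinuous X.smallEtaleTopology (QuotSh.J Scheme.etalePrecoverage X) :=
    BigSite.aEtCocont_etale X
  haveI : (EtFppf.a X).Full := inferInstanceAs (Scheme.Etale.forget X).Full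
  haveI : (EtFppf.a X).Faithful := inferInstanceAs (Scheme.Etale.forget X).Faithful
  exact ⟨fun G => Groth.Agent.Lib.BigEt.Unit.isIso_unit (EtFppf.a X) (Type (u + 1)) _ _ G,
    fun G => Groth.Agent.Lib.BigEt.Unit.isIso_unit (EtFppf.a X) AddCommGrpCat.{u + 1} _ _ G⟩

end Groth.Agent.S6184
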