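import Groth.Statements.S6192
import Groth.Agent.H56.TorPush.Global
import Groth.Agent.H56.AmpNhd.Rel
import Groth.Agent.Lib.WayOut.Bounded

set_option autoImplicit false
universe u
open CategoryTheory CategoryTheory.Limits AlgebraicGeometry
attribute [local instance] HasDerivedCategory.standard
open KSix

namespace Groth.Agent.S6192

/-- Let S be a quasi-compact scheme, p : X ⟶ S and q : Y ⟶ S with q quasi-compact (Y quasi-compact over
S), f : X ⟶ Y a quasi-compact and quasi-separated morphism with f ≫ q = p (so X too is quasi-compact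
over S), and N a natural number such that R^i f_* M = 0 for all i > N and all quasi-coherent
O_X-modules M. If F is a cochain complex of O_X-modules whose image in D(O_X) has bounded
quasi-coherent cohomology and which has tor amplitude in [a, b] relative to p (stalkwise flat models
placed in [a, b] over the local rings of S), then Rf_* F (the derived direct image being assumed to
exist) has tor amplitude in [a, b + N] relative to q: every cochain complex representing it has
stalkwise flat models placed in [a, b + N] over the local rings of S. -/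
theorem result {X Y S : Scheme.{u}} (p : X ⟶ S) (q : Y ⟶ S)
    (f : X ⟶ Y) (w : f ≫ q = p) [QuasiCompact f] [QuasiSeparated f] [QuasiCompact q] [CompactSpace S]
    [DCoh.HasRpush f] (N : ℕ)
    (hN : ∀ M : X.Modules, Coh.IsQCoh M → ∀ i : ℤ, (N : ℤ) < i → IsZero (DCoh.HD ((DCoh.Rpush f).obj (DCoh.inD X M)) i))
    (F : CochainComplex X.Modules ℤ) (hqc : DCoh.IsQCohD (DCoh.toD X F)) (c d : ℤ)
    [(DCoh.toD X F).IsGE c] [(DCoh.toD X F).IsLE d] (a b : ℤ) (hF : DerSch.HasTorAmplitude p a b F) :
    DerSch.HasTorAmplitudeD q a (b + N) ((DCoh.Rpush f).obj (DCoh.toD X F)) := by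
  subst w
  haveI : ((DCoh.Rpush f).obj (DCoh.toD X F)).IsLE (b + N) := (DerivedCategory.isLE_iff _ _).2 fun i hi => by
    haveI : (DCoh.toD X F).IsLE b := (DerivedCategory.isLE_iff _ _).2 fun j hj =>
      Groth.Agent.H56.AmpNhd.isZero_HD_of_hasTorAmplitude (f ≫ q) F hF (Or.inr hj)
    have hV : Groth.Agent.Lib.WayOut.Bounded.Van (Groth.Agent.Lib.DerivedOX.RpushQCoh.P f)
        (fun M => Coh.IsQCoh M) ((N : ℤ) + 1) := fun M hM n hn =>
      (hN M hM n (by omega)).of_iso
        (Groth.Agent.Lib.DerivedOX.RpushQCoh.nonempty_HD_Rpush f (DCoh.inD X M) n).some.symm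
    exact (Groth.Agent.Lib.WayOut.Bounded.isZero_RH_of_bounded hV (DCoh.toD X F) hqc c b i
      (by omega)).of_iso (Groth.Agent.Lib.DerivedOX.RpushQCoh.nonempty_HD_Rpush f (DCoh.toD X F) i).some
  rintro G ⟨e⟩ y
  obtain ⟨V, hV, hyV, -⟩ := exists_isAffineOpen_mem_and_subset (X := S) (x := q y) (U := ⊤) trivial
  obtain ⟨W, hW, hyW, hWV⟩ := exists_isAffineOpen_mem_and_subset (X := Y) (x := y) (U := q ⁻¹ᵁ V) hyV
  obtain ⟨b', hb'⟩ := Groth.Agent.H56.TorPush.exists_T_chart q f hV hW hWV (DCoh.toD X F) hqc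
    (a := a) (b := b) fun x _ => (Groth.Agent.H56.TorPush.T_iff _ a b x (Iso.refl _)).2 (hF x)
  exact Groth.Agent.H56.AmpNhd.torAmpAt_trim q G
    (Groth.Agent.Lib.DR.Basic.isLE_of_iso' e.symm inferInstance) y
    ((Groth.Agent.H56.TorPush.T_iff q a b' y e).1 (hb' y hyW))

end Groth.Agent.S6192
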