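import Groth.Statements.S6193
import Groth.Agent.H56.TorPush.TorDim

set_option autoImplicit false
universe u
open CategoryTheory CategoryTheory.Limits AlgebraicGeometry
attribute [local instance] HasDerivedCategory.standard
open KSix

namespace Groth.Agent.S6193

/-- Let f : X ⟶ Y be quasi-compact, quasi-separated and locally of finite tor dimension (the structure
sheaf of X is locally of finite tor amplitude relative to f, stalkwise), the derived direct image
being assumed to exist, and let E ∈ D(O_X), given by a cochain complex F, have bounded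
quasi-coherent cohomology. If E is locally of finite tor dimension in the absolute sense on X, then
Rf_* E is locally of finite tor dimension in the absolute sense on Y. -/
theorem result {X Y : Scheme.{u}} (f : X ⟶ Y) [QuasiCompact f] [QuasiSeparated f]
    [DCoh.HasRpush f] (hf : DerSch.LocFiniteTorDim f) (F : CochainComplex X.Modules ℤ)
    (hqc : DCoh.IsQCohD (DCoh.toD X F)) (c d : ℤ) [(DCoh.toD X F).IsGE c] [(DCoh.toD X F).IsLE d]
    (hE : DCoh.LocHasFiniteTorDim (DCoh.toD X F)) :
    DCoh.LocHasFiniteTorDim ((DCoh.Rpush f).obj (DCoh.toD X F)) := by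
  intro y
  have h := Groth.Agent.H56.TorPush.locFinite_Rpush (𝟙 Y) f f (Category.comp_id f) F hqc
    (Groth.Agent.H56.TorPush.locFinite_of_torDim f hf hE)
  let G := DerivedCategory.Q.objPreimage ((DCoh.Rpush f).obj (DCoh.toD X F))
  obtain ⟨V, a, b, hyV, hV⟩ := h G ⟨DerivedCategory.Q.objObjPreimageIso _⟩ y
  refine ⟨V, a, b, hyV, fun G' ⟨e⟩ => ?_⟩
  exact Groth.Agent.H56.SmoothAmp.flatAmp_restrict_of_torAmp V G' fun y' hy' =>
    Groth.Agent.Lib.BettiExact.TorPull.torAmpAt_of_iso (𝟙 Y) y'
      (DerivedCategory.Q.objObjPreimageIso _ ≪≫ e.symm) (hV y' hy')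

end Groth.Agent.S6193
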