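import Groth.Statements.S6209
import Groth.Agent.H56.RelPC.LevelRing

set_option autoImplicit false
universe u
open CategoryTheory CategoryTheory.Limits AlgebraicGeometry
attribute [local instance] HasDerivedCategory.standard
open KSix

namespace Groth.Agent.S6209

/-- Let f : X ⟶ Y and g : Y ⟶ Z be locally of finite type, with f r-pseudo-coherent and g
s-pseudo-coherent (O_X, resp. O_Y, placed in degree 0 is r-, resp. s-pseudo-coherent relative to f,
resp. g, in chart form). Then f ≫ g is max(r, s)-pseudo-coherent. -/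
theorem result {X Y Z : Scheme.{u}} (f : X ⟶ Y) (g : Y ⟶ Z)
    [LocallyOfFiniteType f] [LocallyOfFiniteType g] (r s : ℤ)
    (hf : DerSch.IsNPseudoCoherent f r) (hg : DerSch.IsNPseudoCoherent g s) :
    DerSch.IsNPseudoCoherent (f ≫ g) (max r s) := by
  have : (DCoh.toD X (DerSch.unitCx X)).IsLE 0 :=
    (DerivedCategory.isLE_iff _ 0).2 fun i hi => (DerivedCategory.isZero_of_isLE
      (DCoh.inD X (Coh.structureModule X)) 0 i hi).of_iso
        ((DerivedCategory.homologyFunctor X.Modules i).mapIso
          ((DerivedCategory.singleFunctorIsoCompQ X.Modules 0).app (Coh.structureModule X)).symm)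
  exact Groth.Agent.H56.RelPC.isPseudoCoherentRel_comp_of_level (b := 0)
    (fun W V hW hV h =>
      (Groth.Agent.H56.RelPC.pcBaseAt_of_isNPseudoCoherent hg W V hW hV h).imp fun _ ⟨ψ, hC, hψ⟩ =>
        ⟨ψ, hC, hψ.1, Groth.Agent.H56.RelPC.PCStrAt.mono _ hψ.2 (by simp)⟩)
    (Groth.Agent.H56.RelPC.isPseudoCoherentRel_mono (le_max_left r s) hf)

end Groth.Agent.S6209
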