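import Groth.Statements.S6225
import Groth.Agent.H56.RelPC.Single
import Groth.Agent.H56.RelPC.Transport

set_option autoImplicit false
universe u
open CategoryTheory CategoryTheory.Limits AlgebraicGeometry
attribute [local instance] HasDerivedCategory.standard
open KSix

namespace Groth.Agent.S6225

/-- Last assertion: a morphism f : X ⟶ Y locally of finite type is (-1)-pseudo-coherent (O_X placed in
degree 0 is (-1)-pseudo-coherent relative to f, in chart form) if and only if f is locally of finite
presentation. -/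
theorem result {X Y : Scheme.{u}} (f : X ⟶ Y) [LocallyOfFiniteType f] :
    DerSch.IsNPseudoCoherent f (-1) ↔ LocallyOfFinitePresentation f := by
  have hq : (Coh.structureModule X).IsQuasicoherent :=
    Groth.Agent.Lib.TensorMod.QCohInv.isQCoh_structureModule X
  have hi : DCoh.inD X (Coh.structureModule X) ≅ DCoh.toD X (DerSch.unitCx X) :=
    (DerivedCategory.singleFunctorIsoCompQ X.Modules 0).app (Coh.structureModule X)
  open Groth.Agent.H56 in
  calc DerSch.IsNPseudoCoherent f (-1)
      ↔ DerSch.IsPseudoCoherentRel f (-1) (DCoh.inD X (Coh.structureModule X)) :=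
        ⟨fun h => RelPC.isPseudoCoherentRel_of_iso hi.symm h,
          fun h => RelPC.isPseudoCoherentRel_of_iso hi h⟩
    _ ↔ (Coh.IsQCoh (Coh.structureModule X) ∧ Flatn.IsRelFP f (Coh.structureModule X)) :=
        RelPC.isPseudoCoherentRel_inD_negOne_iff _
    _ ↔ LocallyOfFinitePresentation f := by
      rw [and_iff_right (show Coh.IsQCoh (Coh.structureModule X) from hq)]
      refine ⟨fun h => ⟨fun {V} hV {U} hU e => ?_⟩, fun hf =>
        @RelFP.Scheme.isRelFP_of_forall_exists _ _ f _ hq fun x => ?_⟩
      · have h' := @RelFP.Scheme.relFPOn_of_isRelFP _ _ f _ _ hq h ⟨U, hU⟩ ⟨V, hV⟩ e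
        algebraize [(f.appLE V U e).hom]
        obtain ⟨n, φ, hφ, hfp⟩ := h'
        show Algebra.FinitePresentation Γ(Y, V) Γ(X, U)
        refine Algebra.FinitePresentation.of_surjective hφ ?_
        letI := φ.toRingHom.toAlgebra
        haveI : Module.FinitePresentation (MvPolynomial (Fin n) Γ(Y, V)) Γ(X, U) :=
          (RelFP.Core.via_iff φ.toRingHom (N := Γ(X, U)) fun _ _ => rfl).1 hfp
        exact Module.FinitePresentation.fg_ker
          (Algebra.linearMap (MvPolynomial (Fin n) Γ(Y, V)) Γ(X, U)) hφ
      · obtain ⟨V, hV, hxV, -⟩ :=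
          exists_isAffineOpen_mem_and_subset (X := Y) (x := f x) (U := ⊤) trivial
        obtain ⟨U, hU, hxU, hUV⟩ := exists_isAffineOpen_mem_and_subset (X := X) (x := x)
          (U := f ⁻¹ᵁ V) hxV
        refine ⟨⟨U, hU⟩, ⟨V, hV⟩, hUV, hxU, ?_⟩
        have := f.finitePresentation_appLE hV hU hUV
        algebraize [(f.appLE V U hUV).hom]
        obtain ⟨n, π, hπ, hk⟩ := Algebra.FinitePresentation.out (R := Γ(Y, V)) (A := Γ(X, U))
        refine ⟨n, π, hπ, ?_⟩
        exact (RelFP.Core.via_comp_surjective_iff (N := Γ(X, U)) π.toRingHom (RingHom.id _) hπ hk).2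
          ((RelFP.Core.via_iff (RingHom.id Γ(X, U)) fun _ _ => rfl).2 inferInstance)

end Groth.Agent.S6225
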