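import Groth.Statements.S6214
import Groth.Agent.H56.RelPC.FlatAmp
import Groth.Agent.S6225
import Groth.Agent.Lib.SurfInt.Stalk

set_option autoImplicit false
universe u
open CategoryTheory CategoryTheory.Limits AlgebraicGeometry
attribute [local instance] HasDerivedCategory.standard
open KSix

namespace Groth.Agent.S6214

/-- A morphism f : X ⟶ Y locally of finite type has perfect dimension at most 0 (O_X placed in degree 0
is pseudo-coherent relative to f in chart form and has stalkwise tor amplitude in [0, 0] over the
local rings of Y) if and only if f is flat and locally of finite presentation. -/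
theorem result {X Y : Scheme.{u}} (f : X ⟶ Y) [LocallyOfFiniteType f] :
    DerSch.HasPerfDimLE f 0 ↔ (Flat f ∧ LocallyOfFinitePresentation f) := by
  have h0 : (-((0 : ℕ) : ℤ)) = 0 := by simp
  unfold DerSch.HasPerfDimLE
  rw [h0]
  refine (Groth.Agent.H56.RelPC.hasPerfAmplitudeRel_zero_iff f (Coh.structureModule X)).trans
    (and_congr ?_ (Groth.Agent.S6225.result f))
  rw [Flat.iff_flat_stalkMap]
  refine forall_congr' fun x => ?_
  letI := (f.stalkMap x).hom.toAlgebra
  letI := FlatMod.moduleStalkOver f (Coh.structureModule X) x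
  let e : (Coh.structureModule X).presheaf.stalk x ≃ₗ[Y.presheaf.stalk (f x)] X.presheaf.stalk x :=
    { (Groth.Agent.Lib.SurfInt.Stalk.oStalk x).toAddEquiv with
      map_smul' := fun a m => map_smul (Groth.Agent.Lib.SurfInt.Stalk.oStalk x) (f.stalkMap x a) m }
  exact ⟨fun h => @Module.Flat.of_linearEquiv _ _ _ _ _ _ _ _ h e.symm,
    fun h => @Module.Flat.of_linearEquiv _ _ _ _ _ _ _ _ h e⟩

end Groth.Agent.S6214
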