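import Groth.Statements.S6217
import Groth.Agent.H56.SmoothAmp.Push

set_option autoImplicit false
universe u
open CategoryTheory CategoryTheory.Limits AlgebraicGeometry
attribute [local instance] HasDerivedCategory.standard
open KSix

namespace Groth.Agent.S6217

/-- Let i : X ⟶ Y be a closed immersion, g : Y ⟶ S smooth, and F a cochain complex of O_X-modules. Then
F is perfect relative to i ≫ g (pseudo-coherent relative to it in chart form, and locally on X of
finite stalkwise tor amplitude over the local rings of S) if and only if the termwise direct image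
i_* F, which computes Ri_* F, is perfect on Y in the absolute sense. -/
theorem result {X Y S : Scheme.{u}} (i : X ⟶ Y) [IsClosedImmersion i]
    (g : Y ⟶ S) [Smooth g] (F : CochainComplex X.Modules ℤ) :
    DerSch.IsPerfectRel (i ≫ g) F ↔ DCoh.IsPerfect (DCoh.toD Y (((Scheme.Modules.pushforward i).mapHomologicalComplex (ComplexShape.up ℤ)).obj F)) := by
  have h1 : DerSch.IsPseudoCoherentRelAll (i ≫ g) (DCoh.toD X F) ↔ ∀ m : ℤ, DCoh.IsPseudoCoherentD m
      (DCoh.toD Y ((DerSch.pushCx i).obj F)) := forall_congr' fun m => (Groth.Agent.S7211.result i g m F).1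
  exact (and_congr h1 (Groth.Agent.H56.SmoothAmp.locFinite_iff i g F)).trans
    (Groth.Agent.Lib.Perfect.FlatPerfect.isPerfect_iff_pc_tor _).symm

end Groth.Agent.S6217
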