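import Groth.Statements.S6218
import Groth.Agent.H56.SmoothAmp.Push

set_option autoImplicit false
universe u
open CategoryTheory CategoryTheory.Limits AlgebraicGeometry
attribute [local instance] HasDerivedCategory.standard
open KSix

namespace Groth.Agent.S6218

/-- Let i : X ⟶ Y be a closed immersion, g : Y ⟶ S smooth, a and b integers, and F a cochain complex of
O_X-modules such that the termwise direct image i_* F has perfect amplitude in [a, b] on Y in the
absolute sense (locally isomorphic in D to a complex of finite locally free modules placed in [a,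
b]). Then F has perfect amplitude in [a, b] relative to i ≫ g (pseudo-coherent relative to it in
chart form, with stalkwise tor amplitude in [a, b] over the local rings of S). -/
theorem result {X Y S : Scheme.{u}} (i : X ⟶ Y) [IsClosedImmersion i]
    (g : Y ⟶ S) [Smooth g] (a b : ℤ) (F : CochainComplex X.Modules ℤ)
    (hF : KSix.HasPerfectAmplitudeIn a b (DCoh.toD Y (((Scheme.Modules.pushforward i).mapHomologicalComplex (ComplexShape.up ℤ)).obj F))) :
    DerSch.HasPerfAmplitudeRel (i ≫ g) a b F := by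
  let G := (DerSch.pushCx i).obj F
  have hP : DCoh.IsPerfect (DCoh.toD Y G) := fun y => by
    obtain ⟨V, hy, hV⟩ := hF y
    refine ⟨V, hy, fun F' hF' => ?_⟩
    obtain ⟨E, hv, hlf, he⟩ := hV F' hF'
    exact ⟨E, ⟨⟨a, b, hv⟩, hlf⟩, he⟩
  refine ⟨fun m => (Groth.Agent.S7211.result i g m F).1.2
    ((Groth.Agent.Lib.Perfect.FlatPerfect.isPerfect_iff_pc_tor _).1 hP |>.1 m), fun x => ?_⟩
  obtain ⟨V, hy, hV⟩ := hF (i x)
  obtain ⟨E, hv, hlf, ⟨e⟩⟩ := hV G ⟨Iso.refl _⟩
  refine (Groth.Agent.H56.AmpNhd.torAmpAt_push_iff i g F x a b).1 ?_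
  exact Groth.Agent.H56.SmoothAmp.torAmpAt_of_local g V G ⟨i x, hy⟩
    (Groth.Agent.Lib.BettiExact.TorAmpStalk.torAmp_of_flatAmp
      ⟨E, hv, fun k => Groth.Agent.Lib.TensorMod.FPConv.isFlat_of_isFinLocFree (hlf k), ⟨e.symm⟩⟩ _)

end Groth.Agent.S6218
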