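import Groth.Statements.S6219
import Groth.Agent.H56.SmoothAmp.Push

set_option autoImplicit false
universe u
open CategoryTheory CategoryTheory.Limits AlgebraicGeometry
attribute [local instance] HasDerivedCategory.standard
open KSix

namespace Groth.Agent.S6219

/-- Let i : X ⟶ Y be a closed immersion, g : Y ⟶ S smooth of relative dimension at most d (every point
of Y has an open neighbourhood on which g is smooth of some relative dimension n ≤ d), a and b
integers, and F a cochain complex of O_X-modules with perfect amplitude in [a, b] relative to i ≫ g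
(pseudo-coherent relative to it in chart form, with stalkwise tor amplitude in [a, b] over the local
rings of S). Then the termwise direct image i_* F has perfect amplitude in [a - d, b] on Y in the
absolute sense (locally isomorphic in D to a complex of finite locally free modules placed in [a -
d, b]). -/
theorem result {X Y S : Scheme.{u}} (i : X ⟶ Y) [IsClosedImmersion i]
    (g : Y ⟶ S) [Smooth g] (d : ℕ)
    (hd : ∀ y : Y, ∃ (n : ℕ) (V : Y.Opens), n ≤ d ∧ y ∈ V ∧ SmoothOfRelativeDimension n (V.ι ≫ g))
    (a b : ℤ) (F : CochainComplex X.Modules ℤ) (hF : DerSch.HasPerfAmplitudeRel (i ≫ g) a b F) :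
    KSix.HasPerfectAmplitudeIn (a - d) b (DCoh.toD Y (((Scheme.Modules.pushforward i).mapHomologicalComplex (ComplexShape.up ℤ)).obj F)) := by
  refine Groth.Agent.H56.SmoothAmp.hasPerfectAmplitudeIn_of
    (fun m => (Groth.Agent.S7211.result i g m F).1.1 (hF.1 m)) fun y => ?_
  by_cases hy : y ∈ Set.range i
  · obtain ⟨x, rfl⟩ := hy
    obtain ⟨n, V, hn, hyV, _⟩ := hd (i x)
    exact Groth.Agent.H56.RelPC.RelTorAffine.torAmpAt_mono _ _ _ (by lia) le_rfl
      (Groth.Agent.H56.SmoothAmp.torAmpAt_id_of_relDim g V n _ hyV
        ((Groth.Agent.H56.AmpNhd.torAmpAt_push_iff i g F x a b).2 (hF.2 x)))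
  · exact Groth.Agent.H56.SmoothAmp.torAmpAt_push_off i _ F hy _ _

end Groth.Agent.S6219
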