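import Groth.Statements.S6227
import Groth.Agent.H52.FpqcDescPC
import Groth.Agent.H56.PCSingle.Basic

set_option autoImplicit false
universe u
open CategoryTheory CategoryTheory.Limits AlgebraicGeometry
attribute [local instance] HasDerivedCategory.standard
open KSix

namespace Groth.Agent.S6227

set_option linter.style.haveILetI false

open Groth.Agent.Lib Groth.Agent.H56.RelPC

noncomputable def unitIso (X : Scheme.{u}) :
    DCoh.inD X (Coh.structureModule X) ≅ DCoh.toD X (DerSch.unitCx X) :=
  (DerivedCategory.singleFunctorIsoCompQ X.Modules 0).app (Coh.structureModule X)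

theorem isQCohD_unit (X : Scheme.{u}) : DCoh.IsQCohD (DCoh.inD X (Coh.structureModule X)) := by
  intro i
  by_cases hi : i = 0
  · subst hi
    exact @Groth.Agent.Lib.CohBasics.Closure.isQCoh_of_iso _ _ _
      (Groth.Agent.H56.PCSingle.HDInD (Coh.structureModule X)).symm
      (Groth.Agent.Lib.TensorMod.QCohInv.isQCoh_structureModule X)
  · haveI : (Coh.structureModule X).IsQuasicoherent :=
      Groth.Agent.Lib.TensorMod.QCohInv.isQCoh_structureModule X
    exact @Groth.Agent.Lib.CohBasics.Closure.isQCoh_of_iso _ _ _
      (IsZero.iso (isZero_cokernel_of_epi (𝟙 (Coh.structureModule X)))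
        (Groth.Agent.H56.PCSingle.isZero_HD_inD (Coh.structureModule X) i hi))
      (Groth.Agent.Lib.QCoh.Closure.isQCoh_cokernel _)


/-- Last clause: sufficiency: let f : X ⟶ Y be locally of finite type and h : Y' ⟶ Y flat, surjective
and quasi-compact. If the base change X ×_Y Y' ⟶ Y' of f is n-pseudo-coherent (structure sheaf
placed in degree 0 n-pseudo-coherent relative to it, chart form), then f is n-pseudo-coherent. (The
published statement takes h faithfully flat, that is flat and surjective; this row also takes h
quasi-compact: for A an infinite product of copies of the field with two elements and I its ideal of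
finitely supported sequences, the closed immersion Spec A/I ⟶ Spec A is not locally of finite
presentation, hence not (-1)-pseudo-coherent, while its base change along the flat, surjective,
non-quasi-compact disjoint union of the spectra of all local rings of A is an open and closed
immersion, so descent fails without quasi-compactness.) -/
theorem result {X Y Y' : Scheme.{u}} (f : X ⟶ Y) [LocallyOfFiniteType f] (n : ℤ)
    (h : Y' ⟶ Y) [Flat h] [Surjective h] [QuasiCompact h] (hf' : DerSch.IsNPseudoCoherent (pullback.snd f h) n) :
    DerSch.IsNPseudoCoherent f n := by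
  haveI : Flat (pullback.fst f h) := flat_of_isPullback (IsPullback.of_hasPullback f h)
  refine isPseudoCoherentRel_of_iso (unitIso X) (isPseudoCoherentRel_of_fpqc_base h _ _
    (IsPullback.of_hasPullback f h) (isQCohD_unit X) ?_)
  exact isPseudoCoherentRel_of_iso ((unitIso (pullback f h)).symm ≪≫
    (DerivedCategory.singleFunctor _ 0).mapIso (PicLoc.pullbackStructureIso _).symm ≪≫
    (FDinD (Scheme.Modules.pullback (pullback.fst f h)) (Coh.structureModule X)).symm) hf'

end Groth.Agent.S6227
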