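import Groth.Statements.S8663
import Groth.Agent.H54.KoszulPerf
-- import your own Groth.Agent.* helpers here

set_option autoImplicit false
universe u
open CategoryTheory CategoryTheory.Limits AlgebraicGeometry
open Synt

namespace Groth.Agent.S8663

open AlgebraicGeometry CategoryTheory CategoryTheory.Limits in
theorem mor_of_smooth {X S : Scheme.{u}} (f : X ⟶ S) [Smooth f] : MoreMor.IsPerfectMor f := by
  intro U V hU hV e
  let _ := (f.appLE V U e).hom.toAlgebra
  have : Module.Flat Γ(S, V) Γ(X, U) := f.flat_appLE hV hU e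
  exact ⟨Groth.Agent.H54.SmoothPerf.mor_of_smooth f U V hU hV e, 0,
    Groth.Agent.H54.PerfMor.hasTorDimLE_zero_of_flat _ _⟩

open AlgebraicGeometry CategoryTheory CategoryTheory.Limits in
theorem mor_of_koszulImmersion {Z P : Scheme.{u}} (i : Z ⟶ P)
    (hi : RegImm.IsRegularImmersion .koszul i) : MoreMor.IsPerfectMor i := by
  rw [Groth.Agent.H54.PerfMor.iff_exists]
  intro z
  obtain ⟨U, hzU, hci, rs, hrs, hker⟩ := hi.2 z
  have : IsAffine U.1.toScheme := U.2
  have hW : IsAffineOpen (i ⁻¹ᵁ U.1) := isAffine_of_isAffineHom (i ∣_ U.1)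
  refine ⟨i ⁻¹ᵁ U.1, U.1, le_rfl, hW, U.2, hzU, ?_⟩
  rw [← Scheme.Hom.app_eq_appLE]
  refine Groth.Agent.H54.KoszulPerf.Qp_of_koszulRegular _ ?_ rs hrs hker
  have h1 := (i ∣_ U.1).app_surjective ⊤ (isAffineOpen_top _)
  rw [morphismRestrict_app] at h1
  have e : U.1.ι ''ᵁ ⊤ = U.1 := U.1.ι_image_top
  have h2 : Function.Surjective (i.app (U.1.ι ''ᵁ ⊤)) := fun b => by
    obtain ⟨a, ha⟩ := h1 (Z.presheaf.map (eqToHom _).op b)
    exact ⟨a, (ConcreteCategory.bijective_of_isIso (Z.presheaf.map (eqToHom _).op)).1 ha⟩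
  rwa [e] at h2

/-- Let f : X ⟶ Y be a local complete intersection morphism in the factorisation sense (around each
point of X, f is locally of finite type and factors as a Koszul-regular immersion followed by a
smooth morphism). Then f is a perfect morphism: for all affine opens U ⊆ f⁻¹(V), the ring map O_Y(V)
→ O_X(U) is pseudo-coherent and of finite tor-dimension. -/
theorem result {X Y : Scheme.{u}} (f : X ⟶ Y) (hf : ∀ x : X, Synt.IsKoszulAt f x) :
    MoreMor.IsPerfectMor f := by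
  rw [Groth.Agent.H54.PerfMor.iff_exists]
  intro x
  obtain ⟨U, P, i, π, hxU, -, hi, hπ, hf'⟩ := hf x
  have h : MoreMor.IsPerfectMor (U.ι ≫ f) := hf' ▸
    Groth.Agent.H54.PerfMor.comp i π (mor_of_koszulImmersion i hi) (mor_of_smooth π)
  obtain ⟨V, W, e, hV, hW, hx, hQ⟩ := (Groth.Agent.H54.PerfMor.iff_exists _).1 h ⟨x, hxU⟩
  refine ⟨U.ι ''ᵁ V, W, ?_, hV.image_of_isOpenImmersion U.ι, hW, ⟨⟨x, hxU⟩, hx, rfl⟩, ?_⟩
  · rintro _ ⟨y, hy, rfl⟩
    exact e hy
  · rw [Scheme.Hom.comp_appLE] at hQ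
    rw [Scheme.Opens.ι_appLE] at hQ
    exact hQ

end Groth.Agent.S8663
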