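import Groth.Statements.S6238
import Groth.Agent.H41.KoszulTorDim
import Groth.Agent.H56.RelPC.Closed
import Groth.Agent.Lib.BettiExact.TorComp
import Groth.Agent.S6214
import Groth.Agent.S8663

set_option autoImplicit false
universe u
open CategoryTheory CategoryTheory.Limits AlgebraicGeometry
attribute [local instance] HasDerivedCategory.standard
open KSix

namespace Groth.Agent.S6238

open Groth.Agent.Lib Groth.Agent.Lib.DR Groth.Agent.Lib.DR.FiniteComplex HomologicalComplex in
theorem torAmp_of_stalks {Y Z : Scheme.{u}} (g : Y ⟶ Z) (n : ℕ)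
    (h : ∀ y : Y,
      letI := (g.stalkMap y).hom.toAlgebra
      DRing.HasTorDimLE (Z.presheaf.stalk (g y)) n (Y.presheaf.stalk y)) :
    DerSch.HasTorAmplitude g (-(n : ℤ)) 0 (DerSch.unitCx Y) := fun y => by
  letI : Algebra (Z.presheaf.stalk (g y)) (Y.presheaf.stalk y) := (g.stalkMap y).hom.toAlgebra
  let e : (DerSch.stalkOver g y).obj (Coh.structureModule Y) ≅
      ModuleCat.of (Z.presheaf.stalk (g y)) (Y.presheaf.stalk y) :=
    LinearEquiv.toModuleIso <|
      @AddEquiv.toLinearEquiv _ _ _ _ _ _ (((DerSch.stalkOver g y).obj (Coh.structureModule Y)).isModule) _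
        (BettiExact.TorComp.stalkUnitEquiv Y y).toAddEquiv
        (fun c (v : (Coh.structureModule Y).presheaf.stalk y) =>
          (BettiExact.TorComp.stalkUnitEquiv Y y).map_smul ((g.stalkMap y).hom c) v)
  exact Bdd.of_iso ((TorDim.hasTorDimLE_iff (Y.presheaf.stalk y) n).1 (h y))
    (DerivedCategory.Q.mapIso
    (((singleMapHomologicalComplex (DerSch.stalkOver g y) (ComplexShape.up ℤ) 0).app _) ≪≫
      (single (ModuleCat.{u} (Z.presheaf.stalk (g y))) (ComplexShape.up ℤ) 0).mapIso e) ≪≫
    ((DerivedCategory.singleFunctorIsoCompQ _ 0).app _).symm).symm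

open Groth.Agent.H56 in
theorem pcBase_of_perfectMor {Z X : Scheme.{u}} (i : Z ⟶ X) (h : MoreMor.IsPerfectMor i) :
    RelPC.PCBase i := by
  intro W V hW hV e
  letI := (i.appLE V W e).hom.toAlgebra
  obtain ⟨n, φ, hφ, hk⟩ := Groth.Agent.H54.RelPC.hom_iff.1 (h W V hW hV e).1
  exact ⟨Fin n, inferInstance, φ.toRingHom, RingHom.ext fun r => φ.commutes r,
    (RelPC.pcRing_iff _).2 ⟨hφ, hk⟩⟩

/-- An immersion i : Z ⟶ X which is Koszul-regular of codimension d (around every point, over an affine
open of X on which i is a closed immersion, the ideal is generated by d sections whose Koszul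
complex is acyclic in positive degrees) has perfect dimension at most d: O_Z placed in degree 0 is
pseudo-coherent relative to i (chart form) with stalkwise tor amplitude in [-d, 0] over the local
rings of X. -/
theorem result {Z X : Scheme.{u}} (i : Z ⟶ X) (d : ℕ)
    (hi : RegImm.IsRegularImmersionOfCodim RegImm.Kind.koszul d i) :
    DerSch.HasPerfDimLE i d := by
  haveI : IsImmersion i := hi.1
  have hk : RegImm.IsRegularImmersion RegImm.Kind.koszul i :=
    ⟨hi.1, fun z => by
      obtain ⟨U, h1, h2, rs, -, h3, h4⟩ := hi.2 z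
      exact ⟨U, h1, h2, rs, h3, h4⟩⟩
  refine ⟨fun m => ?_, torAmp_of_stalks i d (Groth.Agent.H41.KoszulTorDim.stalk_hasTorDimLE i d hi)⟩
  have hid : DerSch.IsPseudoCoherentRel (𝟙 Z) m (DCoh.toD Z (DerSch.unitCx Z)) :=
    ((Groth.Agent.S6214.result (𝟙 Z)).2 ⟨inferInstance, inferInstance⟩).1 m
  have := (Groth.Agent.H56.RelPC.isPseudoCoherentRel_comp_iff (f := 𝟙 Z)
    (pcBase_of_perfectMor i (Groth.Agent.S8663.mor_of_koszulImmersion i hk))).2 hid
  rwa [Category.id_comp] at this

end Groth.Agent.S6238
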