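import Groth.Statements.S6247
import Groth.Agent.Lib.SiteExact.FlatAmp

set_option autoImplicit false
universe u
open CategoryTheory CategoryTheory.Limits AlgebraicGeometry
attribute [local instance] HasDerivedCategory.standard
open KSix

namespace Groth.Agent.S6247

/-- One ringed site: let (C, J, O) be a small site with a sheaf of commutative rings O, let E be a
cochain complex of O-modules isomorphic in D(O) to a complex P of flat O-modules which vanishes
outside [m, n] (E has flat amplitude in [m, n]), and let F be a cochain complex of flat O-modules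
which vanishes outside [m', n']. Then, the derived tensor product − ⊗^L_O F being assumed to exist,
E ⊗^L_O F is isomorphic in D(O) to a complex of flat O-modules vanishing outside [m + m', n + n']:
flat amplitudes add, and in particular the derived tensor product of two objects of finite flat
amplitude has finite flat amplitude. (The published statement is for a morphism of ringed topoi f
from S' to S and the external derived tensor product of an object over S' with an object over S,
flatness meaning exactness of the tensor product functor; this row is the case S' = S with f the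
identity, on the topos of sheaves on a small site, with the second factor given by its own flat
model.) -/
theorem result {C : Type u} [SmallCategory C]
    {J : GrothendieckTopology C} (O : Sheaf J CommRingCat.{u}) (E P : CochainComplex (ModSite.Mod O) ℤ)
    (m n : ℤ) (hP : ∀ i : ℤ, ModSite.IsFlat (P.X i)) (hPb : ∀ i : ℤ, i < m ∨ n < i → IsZero (P.X i))
    (eP : DerivedCategory.Q.obj P ≅ DerivedCategory.Q.obj E) (F : CochainComplex (ModSite.Mod O) ℤ)
    (m' n' : ℤ) (hF : ∀ i : ℤ, ModSite.IsFlat (F.X i)) (hFb : ∀ i : ℤ, i < m' ∨ n' < i → IsZero (F.X i))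
    [ModSite.HasLTensorCx F] :
    ∃ G : CochainComplex (ModSite.Mod O) ℤ, (∀ i : ℤ, ModSite.IsFlat (G.X i)) ∧
      (∀ i : ℤ, i < m + m' ∨ n + n' < i → IsZero (G.X i)) ∧
      Nonempty (DerivedCategory.Q.obj G ≅ (ModSite.LTensorCx F).obj (DerivedCategory.Q.obj E)) := by
  haveI : F.IsStrictlyLE n' := (F.isStrictlyLE_iff n').2 fun i hi => hFb i (Or.inr hi)
  obtain ⟨e⟩ := Groth.Agent.Lib.SiteExact.FlatAmp.nonempty_LTensor_iso F P
    (Groth.Agent.Lib.SiteKFlat.Thms.isKFlat_of_bounded_above F n' hF)
  refine ⟨((ModSite.tensorCx O).obj P).obj F,
    Groth.Agent.Lib.SiteExact.FlatAmp.isFlat_tensorCx_X hP hF, fun i hi => ?_,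
    ⟨e.symm ≪≫ (ModSite.LTensorCx F).mapIso eP⟩⟩
  refine Groth.Agent.Lib.SiteExact.FlatAmp.isZero_tensorCx_X P F i fun r q hrq => ?_
  by_cases h1 : r < m ∨ n < r
  · exact Or.inl (hPb r h1)
  · exact Or.inr (hFb q (by omega))

end Groth.Agent.S6247
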