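import Groth.Statements.S6254
import Groth.Agent.Lib.SiteExact.Derived

set_option autoImplicit false
universe u
open CategoryTheory CategoryTheory.Limits AlgebraicGeometry
attribute [local instance] HasDerivedCategory.standard
open KSix

namespace Groth.Agent.S6254

/-- Let (C, J, O) be a small site with a sheaf of commutative rings O, p an integer, and E a bounded
above cochain complex of FLAT O-modules (termwise zero above some degree). Then, the derived tensor
product − ⊗^L_O E being assumed to exist, the functor M ↦ H^p(M ⊗^L E) from Mod(O) to Mod(O) is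
right exact if and only if the cokernel of the differential E^p ⟶ E^{p+1} is a flat O-module. (The
published statement is for a commutative ringed topos and writes E ⊗^L M; this row is the topos of
sheaves on a small site, with the derived tensor product taken with E as the fixed right-hand
factor.) -/
theorem result {C : Type u} [SmallCategory C]
    {J : GrothendieckTopology C} (O : Sheaf J CommRingCat.{u}) (E : CochainComplex (ModSite.Mod O) ℤ)
    (e : ℤ) (hEb : ∀ i : ℤ, e < i → IsZero (E.X i)) (hEf : ∀ i : ℤ, ModSite.IsFlat (E.X i)) (p : ℤ)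
    [ModSite.HasLTensorCx E] :
    PreservesFiniteColimits (DerivedCategory.singleFunctor (ModSite.Mod O) 0 ⋙ ModSite.LTensorCx E ⋙ DerivedCategory.homologyFunctor (ModSite.Mod O) p) ↔ ModSite.IsFlat (cokernel (E.d p (p + 1))) := by
  haveI : QuasiIso (𝟙 E) := inferInstance
  have hP : ModSite.IsKFlat E :=
    haveI : E.IsStrictlyLE e := (E.isStrictlyLE_iff e).2 hEb
    Groth.Agent.Lib.SiteKFlat.Thms.isKFlat_of_bounded_above E e hEf
  obtain ⟨i⟩ := Groth.Agent.Lib.SiteExact.Derived.nonempty_iso E (𝟙 E) hP p
  have key := (Groth.Agent.Lib.SiteExact.Abstract.rightExact_iff_leftExact_succ _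
    (Groth.Agent.Lib.SiteExact.Derived.shortExact_map_FP hEf) p).trans
      (Groth.Agent.Lib.SiteExact.Derived.leftExact_iff_isFlat_opcycles hEf (p + 1))
  let c : cokernel (E.d p (p + 1)) ≅ E.opcycles (p + 1) :=
    (cokernelIsCokernel (E.d p (p + 1))).coconePointUniqueUpToIso
      (E.opcyclesIsCokernel p (p + 1) ((ComplexShape.up ℤ).prev_eq' rfl))
  refine ⟨fun _ => ?_, fun h => ?_⟩
  · exact Groth.Agent.Lib.ModTensor.Flat.isFlat_of_iso O c.symm
      (key.1 (preservesFiniteColimits_of_natIso i))
  · haveI := key.2 (Groth.Agent.Lib.ModTensor.Flat.isFlat_of_iso O c h)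
    exact preservesFiniteColimits_of_natIso i.symm

end Groth.Agent.S6254
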