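import Groth.Statements.S6260
import Groth.Agent.H52.TorIndepScheme
import Groth.Agent.S6209

set_option autoImplicit false
universe u
open CategoryTheory CategoryTheory.Limits AlgebraicGeometry
attribute [local instance] HasDerivedCategory.standard
open KSix

namespace Groth.Agent.S6260

/-- Let S be a scheme and, for i = 1, 2, f_i : X_i ⟶ Y_i a morphism of S-schemes (structure morphisms
q_i : Y_i ⟶ S), with X₂ and Y₂ flat over S; let X = X₁ ×_S X₂ and Y = Y₁ ×_S Y₂ be given by pullback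
squares, with projections p₁ : X ⟶ X₁, p₂ : X ⟶ X₂, and f : X ⟶ Y the morphism compatible with the
projections. If f₁ and f₂ are locally of finite type and pseudo-coherent (their structure sheaves in
degree 0 are n-pseudo-coherent relative to them for every n, in chart form), then f = f₁ ×_S f₂ is
pseudo-coherent. (The published statement assumes only that X₁, X₂ and Y₁, Y₂ are tor-independent
over S; this row takes X₂ and Y₂ flat over S, which implies both conditions.) -/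
theorem result {S X₁ Y₁ X₂ Y₂ X Y : Scheme.{u}} (f₁ : X₁ ⟶ Y₁) (q₁ : Y₁ ⟶ S)
    (f₂ : X₂ ⟶ Y₂) (q₂ : Y₂ ⟶ S) [Flat q₂] [Flat (f₂ ≫ q₂)]
    (pX₁ : X ⟶ X₁) (pX₂ : X ⟶ X₂) (hX : IsPullback pX₁ pX₂ (f₁ ≫ q₁) (f₂ ≫ q₂))
    (pY₁ : Y ⟶ Y₁) (pY₂ : Y ⟶ Y₂) (hY : IsPullback pY₁ pY₂ q₁ q₂)
    (f : X ⟶ Y) (hf₁ : f ≫ pY₁ = pX₁ ≫ f₁) (hf₂ : f ≫ pY₂ = pX₂ ≫ f₂)
    [LocallyOfFiniteType f₁] [LocallyOfFiniteType f₂]
    (h₁ : ∀ n : ℤ, DerSch.IsNPseudoCoherent f₁ n) (h₂ : ∀ n : ℤ, DerSch.IsNPseudoCoherent f₂ n) (n : ℤ) :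
    DerSch.IsNPseudoCoherent f n := by
  haveI : Flat (pullback.fst q₁ (f₂ ≫ q₂)) := inferInstance
  let a : X ⟶ pullback q₁ (f₂ ≫ q₂) := pullback.lift (pX₁ ≫ f₁) pX₂ (by rw [Category.assoc]; exact hX.w)
  let b : pullback q₁ (f₂ ≫ q₂) ⟶ Y :=
    hY.lift (pullback.fst _ _) (pullback.snd _ _ ≫ f₂) (by rw [Category.assoc]; exact pullback.condition)
  have hb₁ : b ≫ pY₁ = pullback.fst _ _ := hY.lift_fst _ _ _
  have hb₂ : b ≫ pY₂ = pullback.snd _ _ ≫ f₂ := hY.lift_snd _ _ _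
  have ha₁ : a ≫ pullback.fst _ _ = pX₁ ≫ f₁ := pullback.lift_fst _ _ _
  have ha₂ : a ≫ pullback.snd _ _ = pX₂ := pullback.lift_snd _ _ _
  have hca : IsPullback pX₁ a f₁ (pullback.fst q₁ (f₂ ≫ q₂)) :=
    IsPullback.of_bot (by rw [ha₂]; exact hX) ha₁.symm (IsPullback.of_hasPullback q₁ (f₂ ≫ q₂))
  have hcb : IsPullback (pullback.snd q₁ (f₂ ≫ q₂)) b f₂ pY₂ :=
    IsPullback.of_bot (by rw [hb₁]; exact (IsPullback.of_hasPullback q₁ (f₂ ≫ q₂)).flip) hb₂.symm hY.flip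
  haveI : LocallyOfFiniteType a := MorphismProperty.of_isPullback (P := @LocallyOfFiniteType) hca inferInstance
  haveI : LocallyOfFiniteType b := MorphismProperty.of_isPullback (P := @LocallyOfFiniteType) hcb inferInstance
  have hf : f = a ≫ b := hY.hom_ext
    (by rw [hf₁, Category.assoc, hb₁, ha₁]) (by rw [hf₂, Category.assoc, hb₂, ← Category.assoc, ha₂])
  have ha := Groth.Agent.H56.RelPC.isNPseudoCoherent_baseChange hca (h₁ n)
  have hb := Groth.Agent.H52.TorIndepPC.isNPseudoCoherent_baseChange hY hcb (h₂ n)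
  subst hf
  exact max_self n ▸ Groth.Agent.S6209.result a b n n ha hb

end Groth.Agent.S6260
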