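import Groth.Statements.S6263
import Mathlib.RingTheory.Flat.Basic
import Mathlib.RingTheory.Support
import Mathlib.RingTheory.Ideal.MinimalPrime.Localization
import Mathlib.LinearAlgebra.TensorProduct.Quotient
-- import your own Groth.Agent.* helpers here

set_option autoImplicit false
universe u
open CAlg

namespace Groth.Agent.S6263

/-- For a ring map R → S and a finite S-module N which is flat as an R-module, generalizations lift
along the map from the support of N (a subset of Spec S) to Spec R: if p ≤ p' are primes of R and q'
is a prime of S in the support of N whose inverse image in R is p', then some prime q ≤ q' of S lies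
in the support of N and has inverse image p. -/
theorem result {R S : Type u} [CommRing R] [CommRing S] [Algebra R S] (N : Type u) [AddCommGroup N] [Module S N] [Module R N] [IsScalarTower R S N] [Module.Finite S N] [Module.Flat R N] (p p' : Ideal R) [p.IsPrime] [p'.IsPrime] (hle : p ≤ p') (q' : PrimeSpectrum S) (hq' : q' ∈ Module.support S N) (hover : q'.asIdeal.under R = p') : ∃ q : PrimeSpectrum S, q ≤ q' ∧ q ∈ Module.support S N ∧ q.asIdeal.under R = p := by
  set J := Module.annihilator S N ⊔ p.map (algebraMap R S) with hJ
  rw [Module.support_eq_zeroLocus, PrimeSpectrum.mem_zeroLocus] at hq'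
  have hJle : J ≤ q'.asIdeal :=
    sup_le hq' (Ideal.map_le_iff_le_comap.mpr (hle.trans hover.ge))
  obtain ⟨q, hq, hqle⟩ := Ideal.exists_minimalPrimes_le hJle
  have hqp : q.IsPrime := hq.1.1
  refine ⟨⟨q, hqp⟩, hqle, ?_, ?_⟩
  · rw [Module.support_eq_zeroLocus, PrimeSpectrum.mem_zeroLocus]
    exact (le_sup_left : Module.annihilator S N ≤ J).trans hq.1.2
  · refine le_antisymm (fun r hr => ?_) (Ideal.map_le_iff_le_comap.mp (le_sup_right.trans hq.1.2))
    show r ∈ p
    by_contra hrp
    -- `r` is a non-zero-divisor on `N / pN`
    set W : Submodule R N := p • ⊤ with hW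
    have hinj : ∀ x : N, r • x ∈ W → x ∈ W := by
      intro x hx
      have h1 : Function.Injective (LinearMap.lsmul R (R ⧸ p) r) := by
        intro a b hab
        obtain ⟨a, rfl⟩ := Ideal.Quotient.mk_surjective a
        obtain ⟨b, rfl⟩ := Ideal.Quotient.mk_surjective b
        simp only [LinearMap.lsmul_apply, Algebra.smul_def, Ideal.Quotient.algebraMap_eq, ← map_mul] at hab
        rw [Ideal.Quotient.eq, ← mul_sub] at hab
        exact Ideal.Quotient.eq.mpr (((‹p.IsPrime›).mem_or_mem hab).resolve_left hrp)
      have h2 := Module.Flat.lTensor_preserves_injective_linearMap (M := N) _ h1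
      let e := TensorProduct.tensorQuotEquivQuotSMul N p
      have h3 : e.symm (Submodule.Quotient.mk x) = 0 := by
        apply h2
        rw [map_zero]
        have h4 : ∀ t, LinearMap.lTensor N (LinearMap.lsmul R (R ⧸ p) r) t = r • t := fun t => by
          induction t with
          | zero => simp
          | tmul a b => simp [TensorProduct.tmul_smul]
          | add a b ha hb => rw [map_add, ha, hb, smul_add]
        rw [h4, ← map_smul, ← Submodule.Quotient.mk_smul, (Submodule.Quotient.mk_eq_zero _).mpr hx, map_zero]
      exact (Submodule.Quotient.mk_eq_zero _).mp ((LinearEquiv.map_eq_zero_iff _).mp h3)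
    set r' := algebraMap R S r with hr'
    obtain ⟨T, hT⟩ := Module.Finite.fg_top (R := S) (M := N)
    -- some power of `r'` times an element outside `q` lies in `J`
    obtain ⟨s, hs, m, hsm⟩ : ∃ s ∉ q, ∃ m : ℕ, s * r' ^ m ∈ J := by
      by_contra hno
      push Not at hno
      obtain ⟨Q, hQ, hJQ, hdis⟩ := Ideal.exists_le_prime_disjoint J (q.primeCompl ⊔ Submonoid.powers r') (by
        rw [Set.disjoint_left]
        intro x hxJ hx
        obtain ⟨s, hs, _, ⟨m, rfl⟩, rfl⟩ := Submonoid.mem_sup.mp hx
        exact hno s hs m hxJ)
      have hQq : Q ≤ q := fun x hx => by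
        by_contra hxq
        exact Set.disjoint_left.mp hdis hx (Submonoid.mem_sup_left hxq)
      exact Set.disjoint_left.mp hdis (hq.2 ⟨hQ, hJQ⟩ hQq hr) (Submonoid.mem_sup_right (Submonoid.mem_powers r'))
    have hJN : ∀ j ∈ J, ∀ x : N, j • x ∈ W := by
      intro j hj x
      obtain ⟨a, ha, b, hb, rfl⟩ := Submodule.mem_sup.mp hj
      rw [add_smul, Module.mem_annihilator.mp ha x, zero_add]
      clear ha hq hj
      induction hb using Submodule.span_induction generalizing x with
      | mem y hy =>
        obtain ⟨y, hy, rfl⟩ := hy
        rw [algebraMap_smul]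
        exact Submodule.smul_mem_smul hy Submodule.mem_top
      | zero => rw [zero_smul]; exact W.zero_mem
      | add c d _ _ hc hd => rw [add_smul]; exact W.add_mem (hc x) (hd x)
      | smul c d _ hd => rw [smul_eq_mul, mul_comm, mul_smul]; exact hd (c • x)
    have hsW : ∀ x : N, s • x ∈ W := by
      intro x
      have h := hJN _ hsm x
      rw [mul_comm, mul_smul, ← map_pow, algebraMap_smul] at h
      clear hsm
      induction m with
      | zero => simpa using h
      | succ m ih => exact ih (hinj _ (by rwa [pow_succ', mul_smul] at h))
    -- Nakayama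
    have hsub : LinearMap.range (LinearMap.lsmul S N s) ≤ p.map (algebraMap R S) • (⊤ : Submodule S N) := by
      rintro _ ⟨x, rfl⟩
      show s • x ∈ _
      have key : ∀ y ∈ W, y ∈ p.map (algebraMap R S) • (⊤ : Submodule S N) := fun y hy => by
        refine Submodule.smul_induction_on hy (fun a ha y _ => ?_) fun a b ha hb => add_mem ha hb
        rw [← algebraMap_smul S a y]
        exact Submodule.smul_mem_smul (Ideal.mem_map_of_mem _ ha) Submodule.mem_top
      exact key _ (hsW x)
    have hsN : (Ideal.span {s}) • (⊤ : Submodule S N) ≤ q • ⊤ := by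
      refine Submodule.smul_le.mpr fun a ha y _ => ?_
      obtain ⟨c, rfl⟩ := Ideal.mem_span_singleton'.mp ha
      rw [mul_smul]
      exact Submodule.smul_mem _ c (Submodule.smul_mono (le_sup_right.trans hq.1.2) le_rfl (hsub ⟨y, rfl⟩))
    have hmem : (⟨q, hqp⟩ : PrimeSpectrum S) ∈ Module.support S N := by
      rw [Module.support_eq_zeroLocus, PrimeSpectrum.mem_zeroLocus]
      exact (le_sup_left : Module.annihilator S N ≤ J).trans hq.1.2
    rw [Module.mem_support_iff] at hmem
    refine @not_subsingleton _ hmem ?_
    have hs' : IsUnit (algebraMap S (Localization q.primeCompl) s) :=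
      IsLocalization.map_units (Localization q.primeCompl) (⟨s, hs⟩ : q.primeCompl)
    have hfin : Module.Finite (Localization q.primeCompl) (LocalizedModule q.primeCompl N) :=
      Module.Finite.of_isLocalizedModule q.primeCompl (LocalizedModule.mkLinearMap q.primeCompl N)
    have htop : (⊤ : Submodule (Localization.AtPrime q) (LocalizedModule q.primeCompl N)) ≤
        IsLocalRing.maximalIdeal (Localization.AtPrime q) • ⊤ := by
      intro y _
      induction y using LocalizedModule.induction_on with
      | h x t =>
        have h1 : s • x ∈ q • (⊤ : Submodule S N) :=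
          hsN (Submodule.smul_mem_smul (Ideal.mem_span_singleton_self s) Submodule.mem_top)
        have h2 : LocalizedModule.mk (s • x) (1 : q.primeCompl) ∈
            IsLocalRing.maximalIdeal (Localization.AtPrime q) • (⊤ : Submodule (Localization.AtPrime q) (LocalizedModule q.primeCompl N)) := by
          refine Submodule.smul_induction_on h1 (fun a ha z _ => ?_) fun a b ha hb => ?_
          · rw [← LocalizedModule.smul'_mk, ← algebraMap_smul (Localization.AtPrime q) a]
            exact Submodule.smul_mem_smul ((IsLocalization.AtPrime.to_map_mem_maximal_iff _ q a).mpr ha) Submodule.mem_top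
          · have : LocalizedModule.mk (a + b) (1 : q.primeCompl) = LocalizedModule.mk a 1 + LocalizedModule.mk b 1 := by
              rw [LocalizedModule.mk_add_mk]; simp
            rw [this]
            exact add_mem ha hb
        have h3 : LocalizedModule.mk x t = Localization.mk 1 (⟨s, hs⟩ * t) • LocalizedModule.mk (s • x) (1 : q.primeCompl) := by
          rw [LocalizedModule.mk_smul_mk, one_smul, mul_one, LocalizedModule.mk_eq]
          exact ⟨1, by simp [mul_smul, smul_comm s (t : S) x, Submonoid.smul_def]⟩
        rw [h3]
        exact Submodule.smul_mem _ _ h2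
    refine (Submodule.subsingleton_iff (Localization.AtPrime q)).mp (subsingleton_of_top_le_bot ?_)
    exact (Submodule.eq_bot_of_le_smul_of_le_jacobson_bot _ ⊤ Module.Finite.fg_top htop (IsLocalRing.maximalIdeal_le_jacobson _)).le

end Groth.Agent.S6263
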