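import Groth.Statements.S6264
import Mathlib.RingTheory.Ideal.HasGoingUp
import Mathlib.RingTheory.Localization.Ideal
-- import your own Groth.Agent.* helpers here

set_option autoImplicit false
universe u
open CAlg

namespace Groth.Agent.S6264

theorem aux {R S : Type u} [CommRing R] [CommRing S] [Algebra R S] (p : Ideal R) [p.IsPrime] (q : Ideal S) [q.IsPrime]
    [q.LiesOver p] (h : ∀ Q : Ideal S, Q.IsPrime → Q.under R ≤ p → Q ≤ q) :
    IsLocalization.AtPrime (Localization (Algebra.algebraMapSubmonoid S p.primeCompl)) q := by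
  refine IsLocalization.of_le (Algebra.algebraMapSubmonoid S p.primeCompl) _ ?_ fun x hx => ?_
  · rintro _ ⟨r, hr, rfl⟩ hq
    exact hr ((Ideal.LiesOver.over (p := p) (P := q)) ▸ hq)
  · by_contra hu
    obtain ⟨m, hm, hxm⟩ := exists_max_ideal_of_mem_nonunits hu
    obtain ⟨h1, h2⟩ := (IsLocalization.isPrime_iff_isPrime_disjoint
      (Algebra.algebraMapSubmonoid S p.primeCompl) _ m).mp hm.isPrime
    exact hx (h _ h1 (fun r hr => by_contra fun hrp => Set.disjoint_left.mp h2 ⟨r, hrp, rfl⟩ hr) hxm)

/-- Let R → S be a ring map with the going-up property and p a prime of R such that exactly one prime q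
of S lies over p. Then the localization S_p of S at the image of R - p is a localization of S at q,
i.e. S_p = S_q. -/
theorem result {R S : Type u} [CommRing R] [CommRing S] [Algebra R S] [Algebra.HasGoingUp R S] (p : Ideal R) [p.IsPrime] (q : Ideal S) [q.IsPrime] [q.LiesOver p] (huniq : ∀ q' : Ideal S, q'.IsPrime → q'.under R = p → q' = q) : IsLocalization.AtPrime (Localization (Algebra.algebraMapSubmonoid S p.primeCompl)) q := by
  refine aux p q fun Q hQ hle => ?_
  obtain ⟨q', hle', hq', hover⟩ := Ideal.exists_ideal_ge_liesOver_of_le (p := Q.under R) (q := p) Q hle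
  exact huniq q' hq' hover.over.symm ▸ hle'

end Groth.Agent.S6264
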