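import Groth.Statements.S6265
import Mathlib.RingTheory.Ideal.GoingDown
import Mathlib.RingTheory.Localization.Ideal
-- import your own Groth.Agent.* helpers here

set_option autoImplicit false
universe u
open CAlg

namespace Groth.Agent.S6265

theorem aux {R S : Type u} [CommRing R] [CommRing S] [Algebra R S] (p : Ideal R) [p.IsPrime] (q : Ideal S) [q.IsPrime]
    [q.LiesOver p] (h : ∀ Q : Ideal S, Q.IsPrime → Q.under R ≤ p → Q ≤ q) :
    IsLocalization.AtPrime (Localization (Algebra.algebraMapSubmonoid S p.primeCompl)) q := by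
  refine IsLocalization.of_le (Algebra.algebraMapSubmonoid S p.primeCompl) _ ?_ fun x hx => ?_
  · rintro _ ⟨r, hr, rfl⟩ hq
    exact hr ((Ideal.LiesOver.over (p := p) (P := q)) ▸ hq)
  · by_contra hu
    obtain ⟨m, hm, hxm⟩ := exists_max_ideal_of_mem_nonunits hu
    obtain ⟨h1, h2⟩ := (IsLocalization.isPrime_iff_isPrime_disjoint
      (Algebra.algebraMapSubmonoid S p.primeCompl) _ m).mp hm.isPrime
    exact hx (h _ h1 (fun r hr => by_contra fun hrp => Set.disjoint_left.mp h2 ⟨r, hrp, rfl⟩ hr) hxm)

/-- Let R → S be a ring map with the going-down property such that over every prime of R lies at most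
one prime of S, and let p be a prime of R and q a prime of S above it. Then the localization S_p of
S at the image of R - p is a localization of S at q, i.e. S_p = S_q. -/
theorem result {R S : Type u} [CommRing R] [CommRing S] [Algebra R S] [Algebra.HasGoingDown R S] (hinj : ∀ q₁ q₂ : Ideal S, q₁.IsPrime → q₂.IsPrime → q₁.under R = q₂.under R → q₁ = q₂) (p : Ideal R) [p.IsPrime] (q : Ideal S) [q.IsPrime] [q.LiesOver p] : IsLocalization.AtPrime (Localization (Algebra.algebraMapSubmonoid S p.primeCompl)) q := by
  refine aux p q fun Q hQ hle => ?_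
  obtain ⟨Q', hle', hQ', hover⟩ := Ideal.exists_ideal_le_liesOver_of_le (p := Q.under R) q hle
  exact hinj Q' Q hQ' hQ hover.over.symm ▸ hle'

end Groth.Agent.S6265
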