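import Groth.Statements.S6267
import Groth.Agent.Lib.Pure.UI

set_option autoImplicit false
universe u
open CAlg
open Groth.Agent.Lib.Pure

namespace Groth.Agent.S6267

/-- Let R be a ring and f : M → M' a map of R-modules with M' flat. Then f is universally injective
exactly when, for each finitely generated ideal I of R, the induced map M ⊗ R/I → M' ⊗ R/I (that is,
M/IM → M'/IM') is injective. -/
theorem result {R : Type u} [CommRing R] {M M' : Type u} [AddCommGroup M] [Module R M] [AddCommGroup M'] [Module R M'] [Module.Flat R M'] (f : M →ₗ[R] M') : CAlgX.UniversallyInjective R f ↔ ∀ I : Ideal R, I.FG → Function.Injective (f.rTensor (R ⧸ I)) := by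
  refine ⟨fun h I _ => h _, fun h => ?_⟩
  have hinj : Function.Injective f := by
    have h0 : Function.Injective (f.rTensor (R ⧸ (⊥ : Ideal R))) := h ⊥ Submodule.fg_bot
    intro a b hab
    let e : (R ⧸ (⊥ : Ideal R)) ≃ₗ[R] R := Submodule.quotEquivOfEqBot _ rfl
    have := h0 (a₁ := a ⊗ₜ e.symm 1) (a₂ := b ⊗ₜ e.symm 1) (by simp [hab])
    simpa using congrArg (TensorProduct.rid R M ∘ e.toLinearMap.lTensor M) this
  have hex : Function.Exact f (LinearMap.range f).mkQ := LinearMap.exact_map_mkQ_range f
  have : Module.Flat R (M' ⧸ LinearMap.range f) :=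
    UI.flat_right f _ hex (Submodule.mkQ_surjective _) h
  exact UI.of_flat_right f _ hinj hex (Submodule.mkQ_surjective _)

end Groth.Agent.S6267
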