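import Groth.Statements.S6268
import Groth.Agent.Lib.Pure.UI

set_option autoImplicit false
universe u
open CAlg
open Groth.Agent.Lib.Pure

namespace Groth.Agent.S6268

/-- Suppose the structure map R → S of an R-algebra S is universally injective as an R-linear map. Then
tensoring with S detects injectivity and surjectivity of R-linear maps (and hence reflects
isomorphisms): for an R-linear g : M → N, if S ⊗ g is injective then so is g, and if S ⊗ g is
surjective then so is g. -/
theorem result {R S : Type u} [CommRing R] [CommRing S] [Algebra R S] (hS : CAlgX.UniversallyInjective R (Algebra.linearMap R S)) {M N : Type u} [AddCommGroup M] [Module R M] [AddCommGroup N] [Module R N] (g : M →ₗ[R] N) : (Function.Injective (g.lTensor S) → Function.Injective g) ∧ (Function.Surjective (g.lTensor S) → Function.Surjective g) := by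
  refine ⟨fun h a b hab => ?_, fun h => ?_⟩
  · have e : ∀ (X : Type u) [AddCommGroup X] [Module R X] (x : X),
        TensorProduct.mk R S X 1 x
          = (Algebra.linearMap R S).rTensor X ((TensorProduct.lid R X).symm x) := by
      intro X _ _ x; simp
    have h1 : g.lTensor S (TensorProduct.mk R S M 1 a) = g.lTensor S (TensorProduct.mk R S M 1 b) := by
      simp [hab]
    have h2 := h h1
    rw [e, e] at h2
    exact (TensorProduct.lid R M).symm.injective (hS M h2)
  · rw [← LinearMap.range_eq_top, ← Submodule.Quotient.subsingleton_iff (p := LinearMap.range g)]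
    refine ⟨fun a b => (TensorProduct.lid R _).symm.injective (hS _ ?_)⟩
    have hs : Function.Surjective ((LinearMap.range g).mkQ.lTensor S) :=
      LinearMap.lTensor_surjective S (Submodule.mkQ_surjective _)
    have hz : ∀ z, (LinearMap.range g).mkQ.lTensor S z = 0 := fun z => by
      obtain ⟨w, rfl⟩ := h z
      rw [← LinearMap.lTensor_comp_apply, LinearMap.range_mkQ_comp, LinearMap.lTensor_zero,
        LinearMap.zero_apply]
    obtain ⟨za, hza⟩ := hs ((Algebra.linearMap R S).rTensor _ ((TensorProduct.lid R _).symm a))
    obtain ⟨zb, hzb⟩ := hs ((Algebra.linearMap R S).rTensor _ ((TensorProduct.lid R _).symm b))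
    rw [← hza, ← hzb, hz, hz]

end Groth.Agent.S6268
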