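import Groth.Statements.S6272
import Groth.Agent.H22.ProjMod

set_option autoImplicit false
universe u
open scoped TensorProduct
open CAlg

namespace Groth.Agent.S6272

/-- Over a ring R, take two ideals I and J meeting in zero (I ∩ J = 0) and an R-module P. If the
R/I-module P/IP (that is, R/I ⊗ P) and the R/J-module P/JP (that is, R/J ⊗ P) are both projective,
then P itself is projective over R. -/
theorem result {R : Type u} [CommRing R] (I J : Ideal R) (hIJ : I ⊓ J = ⊥) (P : Type u) [AddCommGroup P] [Module R P] (hI : Module.Projective (R ⧸ I) ((R ⧸ I) ⊗[R] P)) (hJ : Module.Projective (R ⧸ J) ((R ⧸ J) ⊗[R] P)) : Module.Projective R P := by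
  have := hI
  have := hJ
  have : Module.Flat R P := H22.FlatMod.flat_of_flatAt_bot (H22.FlatMod.flatAt_mono hIJ
    (H22.FlatMod.flatAt_inf (H22.FlatMod.flatAt inferInstance) (H22.FlatMod.flatAt inferInstance)))
  refine H22.ProjMod.projective_of_bot (hIJ ▸ ?_)
  exact H22.ProjMod.inf (H22.ProjMod.of_projective I) (H22.ProjMod.of_projective J)

end Groth.Agent.S6272
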