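import Groth.Statements.S6273
import Mathlib.RingTheory.Spectrum.Prime.Topology

set_option autoImplicit false
universe u
open CAlg

namespace Groth.Agent.S6273

/-- Let R be a ring, S ⊆ R a multiplicative subset and A = S⁻¹R. If the image of Spec(A) → Spec(R) is
closed, then the localization map R → A is surjective; in particular A is isomorphic to R/I for the
ideal I = ker(R → A). -/
theorem result {R : Type u} [CommRing R] (S : Submonoid R) (A : Type u) [CommRing A] [Algebra R A] [IsLocalization S A] (hcl : IsClosed (Set.range (PrimeSpectrum.comap (algebraMap R A)))) : Function.Surjective (algebraMap R A) := by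
  rw [← closure_eq_iff_isClosed, PrimeSpectrum.closure_range_comap] at hcl
  intro z
  obtain ⟨a, s, rfl⟩ := IsLocalization.exists_mk'_eq S z
  have htop : Ideal.span {(s : R)} ⊔ RingHom.ker (algebraMap R A) = ⊤ := by
    by_contra h
    obtain ⟨m, hm, hle⟩ := Ideal.exists_le_maximal _ h
    have h1 : (⟨m, hm.isPrime⟩ : PrimeSpectrum R) ∈ Set.range (PrimeSpectrum.comap (algebraMap R A)) := by
      rw [← hcl]
      exact fun x hx => hle (Submodule.mem_sup_right hx)
    rw [PrimeSpectrum.localization_comap_range A S] at h1
    exact Set.disjoint_left.mp h1 s.2 (hle (Submodule.mem_sup_left (Ideal.mem_span_singleton_self _)))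
  obtain ⟨u, hu, c, hc, huc⟩ := Submodule.mem_sup.mp (htop.symm ▸ (Submodule.mem_top : (1 : R) ∈ ⊤))
  obtain ⟨r, rfl⟩ := Ideal.mem_span_singleton'.mp hu
  refine ⟨a * r, ?_⟩
  rw [IsLocalization.eq_mk'_iff_mul_eq, ← map_mul]
  have h := congrArg (algebraMap R A) huc
  rw [map_add, RingHom.mem_ker.mp hc, add_zero, map_one] at h
  rw [mul_assoc, map_mul, h, mul_one]

end Groth.Agent.S6273
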