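import Groth.Statements.S6274
import Groth.Agent.S6273
import Mathlib.RingTheory.Spectrum.Prime.Topology
import Mathlib.Topology.NoetherianSpace
import Mathlib.RingTheory.Ideal.Quotient.Operations
import Mathlib.RingTheory.Spectrum.Prime.Noetherian
import Mathlib.Algebra.Ring.GeomSum

set_option autoImplicit false
universe u
open CAlg

namespace Groth.Agent.S6274

/-- Let R be a ring, S ⊆ R a multiplicative subset and A = S⁻¹R, and assume the image of Spec(A) →
Spec(R) is closed. If Spec(R) is a Noetherian topological space (which holds when R is Noetherian)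
or S is finitely generated as a monoid, then R is isomorphic to A × R' for some ring R', by an
isomorphism whose first component is the localization map R → A. -/
theorem result {R : Type u} [CommRing R] (S : Submonoid R) (A : Type u) [CommRing A] [Algebra R A] [IsLocalization S A] (hcl : IsClosed (Set.range (PrimeSpectrum.comap (algebraMap R A)))) (h : TopologicalSpace.NoetherianSpace (PrimeSpectrum R) ∨ S.FG) : ∃ (R' : Type u) (_ : CommRing R') (e : R ≃+* A × R'), ∀ x : R, (e x).1 = algebraMap R A x := by
  classical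
  have hsurj : Function.Surjective (algebraMap R A) := Groth.Agent.S6273.result S A hcl
  obtain ⟨π, hπ, hdiv⟩ : ∃ π ∈ S, ∀ s ∈ S, ∃ k, s ∣ π ^ k := by
    rcases h with hN | hfg
    · have hfin : (minimalPrimes R).Finite :=
        Set.finite_coe_iff.mp (@Finite.of_equiv _ _
          TopologicalSpace.NoetherianSpace.finite_irreducibleComponents.to_subtype
          ((minimalPrimes.equivIrreducibleComponents R).toEquiv.symm.trans OrderDual.ofDual))
      let g : Ideal R → R := fun p => if hp : ∃ s ∈ S, s ∈ p then hp.choose else 1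
      have hg : ∀ p, g p ∈ S := fun p => by
        simp only [g]
        split
        · next hp => exact hp.choose_spec.1
        · exact S.one_mem
      refine ⟨∏ p ∈ hfin.toFinset, g p, S.prod_mem fun p _ => hg p, fun s hs => ?_⟩
      have hrad : (∏ p ∈ hfin.toFinset, g p) ∈ (Ideal.span {s}).radical := by
        rw [Ideal.radical_eq_sInf, Ideal.mem_sInf]
        rintro Q ⟨hQs, hQ⟩
        obtain ⟨p, hp, hpQ⟩ := Ideal.exists_minimalPrimes_le (I := (⊥ : Ideal R)) (J := Q) bot_le
        have hex : ∃ t ∈ S, t ∈ p := by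
          by_contra hno
          push Not at hno
          have hpr : (⟨p, hp.isPrime⟩ : PrimeSpectrum R) ∈ Set.range (PrimeSpectrum.comap (algebraMap R A)) := by
            rw [PrimeSpectrum.localization_comap_range A S]
            exact Set.disjoint_left.mpr fun t ht => hno t ht
          have hQr : (⟨Q, hQ⟩ : PrimeSpectrum R) ∈ Set.range (PrimeSpectrum.comap (algebraMap R A)) :=
            ((PrimeSpectrum.le_iff_specializes _ _).mp hpQ).mem_closed hcl hpr
          rw [PrimeSpectrum.localization_comap_range A S] at hQr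
          exact Set.disjoint_left.mp hQr hs (hQs (Ideal.mem_span_singleton_self s))
        have hgp : g p ∈ p := by
          simp only [g, dif_pos hex]
          exact hex.choose_spec.2
        exact hpQ (Ideal.IsPrime.prod_mem_iff (hp := hp.isPrime) |>.mpr ⟨p, hfin.mem_toFinset.mpr hp, hgp⟩)
      obtain ⟨k, hk⟩ := hrad
      exact ⟨k, Ideal.mem_span_singleton.mp hk⟩
    · obtain ⟨T, rfl⟩ := hfg
      refine ⟨∏ t ∈ T, t, Submonoid.prod_mem _ fun t ht => Submonoid.subset_closure ht, fun s hs => ?_⟩
      induction hs using Submonoid.closure_induction with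
      | mem t ht => exact ⟨1, by rw [pow_one]; exact Finset.dvd_prod_of_mem _ ht⟩
      | one => exact ⟨0, one_dvd _⟩
      | mul a b _ _ ha hb =>
        obtain ⟨i, hi⟩ := ha
        obtain ⟨j, hj⟩ := hb
        exact ⟨i + j, by rw [pow_add]; exact mul_dvd_mul hi hj⟩
  have hker : ∀ x, algebraMap R A x = 0 → ∃ k, π ^ k * x = 0 := fun x hx => by
    obtain ⟨⟨s, hs⟩, hsx⟩ := (IsLocalization.map_eq_zero_iff S A x).mp hx
    obtain ⟨k, c, hc⟩ := hdiv s hs
    exact ⟨k, by rw [hc, mul_comm s, mul_assoc]; simp [hsx]⟩
  obtain ⟨v, hv⟩ := (IsLocalization.map_units A (⟨π, hπ⟩ : S)).exists_left_inv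
  obtain ⟨r, rfl⟩ := hsurj v
  rw [← map_mul] at hv
  set c := 1 - r * π with hc
  have hcI : algebraMap R A c = 0 := by rw [hc, map_sub, map_one, hv, sub_self]
  obtain ⟨M, hM⟩ := hker c hcI
  have hgeom : c * (∑ i ∈ Finset.range M, (r * π) ^ i) = 1 - (r * π) ^ M := mul_neg_geom_sum _ _
  set e := 1 - (r * π) ^ M with he
  have heI : algebraMap R A e = 0 := by rw [he, map_sub, map_pow, hv, map_one, one_pow, sub_self]
  have hkill : ∀ x, algebraMap R A x = 0 → (r * π) ^ M * x = 0 := by
    intro x hx
    obtain ⟨k, hk⟩ := hker x hx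
    have h0 : (r * π) ^ M * c = 0 := by rw [mul_pow, mul_assoc, hM, mul_zero]
    have hfix : ∀ j, (r * π) ^ (M + j) = (r * π) ^ M := by
      intro j
      induction j with
      | zero => rw [add_zero]
      | succ j ih =>
        rw [← add_assoc, pow_succ, ih, show r * π = 1 - c by rw [hc, sub_sub_cancel], mul_sub, mul_one]
        rw [show (1 - c) ^ M * c = 0 by rw [← h0, hc, sub_sub_cancel], sub_zero]
    rw [← hfix k, pow_add, mul_assoc, mul_pow r π k, mul_assoc, hk, mul_zero, mul_zero]
  refine ⟨R ⧸ Ideal.span {1 - e}, inferInstance, RingEquiv.ofBijective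
    ((algebraMap R A).prod (Ideal.Quotient.mk (Ideal.span {1 - e}))) ⟨?_, ?_⟩, fun x => rfl⟩
  · rw [injective_iff_map_eq_zero]
    intro x hx
    rw [RingHom.prod_apply, Prod.mk_eq_zero] at hx
    obtain ⟨y, rfl⟩ := Ideal.mem_span_singleton'.mp (Ideal.Quotient.eq_zero_iff_mem.mp hx.2)
    have h1 : e * (y * (1 - e)) = 0 := by
      have := hkill e heI
      rw [show (r * π) ^ M = 1 - e by rw [he, sub_sub_cancel]] at this
      rw [show e * (y * (1 - e)) = y * ((1 - e) * e) by ring, this, mul_zero]
    have h2 := hkill _ hx.1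
    rw [show (r * π) ^ M = 1 - e by rw [he, sub_sub_cancel], sub_mul, one_mul, h1, sub_zero] at h2
    exact h2
  · rintro ⟨a, q⟩
    obtain ⟨a, rfl⟩ := hsurj a
    obtain ⟨q, rfl⟩ := Ideal.Quotient.mk_surjective q
    refine ⟨a + e * (q - a), ?_⟩
    rw [RingHom.prod_apply, Prod.mk.injEq]
    refine ⟨by rw [map_add, map_mul, heI, zero_mul, add_zero], ?_⟩
    rw [Ideal.Quotient.eq, Ideal.mem_span_singleton']
    exact ⟨a - q, by ring⟩

end Groth.Agent.S6274
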