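import Groth.Statements.S6275
import Groth.Agent.H25.Basic
-- import your own Groth.Agent.* helpers here

set_option autoImplicit false
universe u
open CAlg

namespace Groth.Agent.S6275

/-- Let R be a Noetherian ring and p ⊆ R a prime. Then there is f ∈ R, f ∉ p, such that R_f → R_p is
injective; equivalently every x ∈ R mapping to zero in R_p maps to zero in R_f. (The cases of a
domain and of a reduced ring with finitely many minimal primes are not included here.) -/
theorem result {R : Type u} [CommRing R] [IsNoetherianRing R] (p : Ideal R) [p.IsPrime] : ∃ f : R, f ∉ p ∧ ∀ x : R, algebraMap R (Localization.AtPrime p) x = 0 → algebraMap R (Localization.Away f) x = 0 := by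
  obtain ⟨f, hf, h⟩ := Groth.Agent.H25.Basic.exists_notMem_mul_eq_zero p
    (IsNoetherian.noetherian (RingHom.ker (algebraMap R (Localization.AtPrime p)))) (fun y hy => by
      obtain ⟨⟨s, hs⟩, h⟩ := (IsLocalization.map_eq_zero_iff p.primeCompl (Localization.AtPrime p) y).mp hy
      exact ⟨s, hs, h⟩)
  refine ⟨f, hf, fun x hx => ?_⟩
  rw [IsLocalization.map_eq_zero_iff (Submonoid.powers f)]
  exact ⟨⟨f, Submonoid.mem_powers f⟩, h x hx⟩

end Groth.Agent.S6275
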