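import Groth.Statements.S6277
import Mathlib.RingTheory.Noetherian.Basic

set_option autoImplicit false
universe u
open CAlg

namespace Groth.Agent.S6277

/-- Any surjective ring endomorphism of a Noetherian ring is an isomorphism (bijective). -/
theorem result {R : Type u} [CommRing R] [IsNoetherianRing R] (f : R →+* R) (hf : Function.Surjective f) : Function.Bijective f := by
  refine ⟨?_, hf⟩
  rw [RingHom.injective_iff_ker_eq_bot, eq_bot_iff]
  intro x hx
  have hmono : Monotone fun n => (RingHom.ker (f ^ n : R →+* R)) := by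
    refine monotone_nat_of_le_succ fun n y hy => ?_
    rw [RingHom.mem_ker] at hy ⊢
    rw [pow_succ']
    show f ((f ^ n) y) = 0
    rw [hy, map_zero]
  obtain ⟨n, hn⟩ := monotone_stabilizes_iff_noetherian.mpr (inferInstance : IsNoetherian R R)
    ⟨_, hmono⟩
  have hsurj : Function.Surjective (f ^ n : R →+* R) := by
    rw [RingHom.coe_pow]
    exact hf.iterate n
  obtain ⟨y, rfl⟩ := hsurj x
  have h1 : y ∈ RingHom.ker (f ^ (n + 1) : R →+* R) := by
    rw [RingHom.mem_ker, pow_succ']
    exact hx
  have h2 : RingHom.ker (f ^ n : R →+* R) = RingHom.ker (f ^ (n + 1) : R →+* R) := hn (n + 1) (Nat.le_succ n)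
  rw [← h2, RingHom.mem_ker] at h1
  rw [Ideal.mem_bot]
  exact h1

end Groth.Agent.S6277
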