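import Groth.Statements.S6281
import Mathlib.RingTheory.Flat.FaithfullyFlat.Basic

set_option autoImplicit false
universe u
open CAlg

namespace Groth.Agent.S6281

/-- For an R-algebra S and an S-module M, flatness of S over R follows once M is both flat over R and
faithfully flat over S. -/
theorem result {R S : Type u} [CommRing R] [CommRing S] [Algebra R S] (M : Type u) [AddCommGroup M] [Module S M] [Module R M] [IsScalarTower R S M] [Module.Flat R M] [Module.FaithfullyFlat S M] : Module.Flat R S := by
  rw [Module.Flat.iff_lTensor_preserves_injective_linearMap]
  intro N P _ _ _ _ f hf
  have h : Function.Injective ((TensorProduct.AlgebraTensorModule.lTensor S S f).lTensor M) := by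
    have hc : (TensorProduct.AlgebraTensorModule.cancelBaseChange R S S M P).toLinearMap ∘ₗ
        (TensorProduct.AlgebraTensorModule.lTensor S S f).lTensor M =
        (TensorProduct.AlgebraTensorModule.lTensor S M f) ∘ₗ
          (TensorProduct.AlgebraTensorModule.cancelBaseChange R S S M N).toLinearMap := by
      ext m n
      simp
    have hi : Function.Injective ((TensorProduct.AlgebraTensorModule.lTensor S M f) ∘ₗ
        (TensorProduct.AlgebraTensorModule.cancelBaseChange R S S M N).toLinearMap) :=
      (Module.Flat.lTensor_preserves_injective_linearMap (M := M) f hf).comp
        (LinearEquiv.injective _)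
    rw [← hc, LinearMap.coe_comp] at hi
    exact hi.of_comp
  exact (Module.FaithfullyFlat.lTensor_injective_iff_injective S M _).1 h

end Groth.Agent.S6281
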