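import Groth.Statements.S6282
import Mathlib.RingTheory.Flat.FaithfullyFlat.Basic

set_option autoImplicit false
universe u
open scoped TensorProduct
open CAlg

namespace Groth.Agent.S6282

/-- Let S → S' be a homomorphism of R-algebras, M an S-module, and M' = S' ⊗_S M with its induced
R-module structure. (1) When S' is flat over S, R-flatness of M passes to M'. (2) When S' is
faithfully flat over S, M is R-flat exactly when M' is. -/
theorem result {R S S' : Type u} [CommRing R] [CommRing S] [CommRing S'] [Algebra R S] [Algebra R S'] [Algebra S S'] [IsScalarTower R S S'] (M : Type u) [AddCommGroup M] [Module S M] [Module R M] [IsScalarTower R S M] : ([Module.Flat S S'] → Module.Flat R M → Module.Flat R (S' ⊗[S] M)) ∧ ([Module.FaithfullyFlat S S'] → (Module.Flat R M ↔ Module.Flat R (S' ⊗[S] M))) := by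
  have key : ∀ {N P : Type u} [AddCommGroup N] [Module R N] [AddCommGroup P] [Module R P]
      (f : N →ₗ[R] P),
      (Function.Injective (f.lTensor (S' ⊗[S] M)) ↔
        Function.Injective ((TensorProduct.AlgebraTensorModule.lTensor S M f).lTensor S')) := by
    intro N P _ _ _ _ f
    let eN := TensorProduct.AlgebraTensorModule.assoc R S S S' M N
    let eP := TensorProduct.AlgebraTensorModule.assoc R S S S' M P
    have : eP.toLinearMap ∘ₗ TensorProduct.AlgebraTensorModule.lTensor S (S' ⊗[S] M) f =
        (TensorProduct.AlgebraTensorModule.lTensor S M f).lTensor S' ∘ₗ eN.toLinearMap := by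
      ext x m y
      simp [eN, eP]
    have hfun : (eP : _ → _) ∘ (f.lTensor (S' ⊗[S] M)) =
        ((TensorProduct.AlgebraTensorModule.lTensor S M f).lTensor S') ∘ (eN : _ → _) :=
      funext fun x => LinearMap.congr_fun this x
    constructor
    · intro h
      have := eP.injective.comp h
      rw [hfun] at this
      exact (Function.Injective.of_comp_iff' _ eN.bijective).1 this
    · intro h
      have := h.comp eN.injective
      rw [← hfun] at this
      exact this.of_comp
  constructor
  · intro _ hM
    rw [Module.Flat.iff_lTensor_preserves_injective_linearMap]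
    intro N P _ _ _ _ f hf
    exact (key f).2 (Module.Flat.lTensor_preserves_injective_linearMap _
      (Module.Flat.lTensor_preserves_injective_linearMap (M := M) f hf))
  · intro _
    simp only [Module.Flat.iff_lTensor_preserves_injective_linearMap]
    constructor
    · intro hM N P _ _ _ _ f hf
      exact (key f).2 (Module.Flat.lTensor_preserves_injective_linearMap _ (hM f hf))
    · intro hM N P _ _ _ _ f hf
      exact (Module.FaithfullyFlat.lTensor_injective_iff_injective S S' _).1 ((key f).1 (hM f hf))

end Groth.Agent.S6282
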