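import Groth.Statements.S6283
import Mathlib.RingTheory.Flat.Basic
import Mathlib.LinearAlgebra.TensorProduct.Pi
import Mathlib.RingTheory.Finiteness.Basic

set_option autoImplicit false
universe u
open scoped TensorProduct
open CAlg

namespace Groth.Agent.S6283

/-- Let R → S be a flat ring map, M an R-module and m ∈ M. Then Ann_R(m)S = Ann_S(1 ⊗ m), the
annihilator in S of the element 1 ⊗ m of S ⊗_R M. If moreover M is a finite R-module then Ann_R(M)S
= Ann_S(S ⊗_R M). -/
theorem result {R S : Type u} [CommRing R] [CommRing S] [Algebra R S] [Module.Flat R S] (M : Type u) [AddCommGroup M] [Module R M] : (∀ m : M, ((Submodule.span R {m}).annihilator).map (algebraMap R S) = (Submodule.span S {(1 : S) ⊗ₜ[R] m}).annihilator) ∧ (Module.Finite R M → (Module.annihilator R M).map (algebraMap R S) = Module.annihilator S (S ⊗[R] M)) := by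
  classical
  have key : ∀ (n : ℕ) (g : Fin n → M),
      ((Submodule.span R (Set.range g)).annihilator).map (algebraMap R S) =
        (Submodule.span S (Set.range fun i => (1 : S) ⊗ₜ[R] g i)).annihilator := by
    intro n g
    let f : R →ₗ[R] (Fin n → M) := LinearMap.pi fun i => LinearMap.toSpanSingleton R M (g i)
    let J := (Submodule.span R (Set.range g)).annihilator
    have hker : LinearMap.ker f = J := by
      ext r
      simp [f, J, Submodule.mem_annihilator_span, funext_iff]
    have hf : ∀ (z : S ⊗[R] R) (i : Fin n),
        TensorProduct.piRight R R S (fun _ : Fin n => M) (f.lTensor S z) i =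
          (TensorProduct.rid R S z) • ((1 : S) ⊗ₜ[R] g i) := by
      intro z i
      induction z using TensorProduct.induction_on with
      | zero => simp
      | tmul s r => simp [f, TensorProduct.smul_tmul', TensorProduct.tmul_smul]
      | add a b ha hb => rw [map_add, map_add, Pi.add_apply, map_add, add_smul, ha, hb]
    refine le_antisymm (Ideal.map_le_iff_le_comap.2 fun r hr => ?_) fun s hs => ?_
    · rw [Ideal.mem_comap, Submodule.mem_annihilator_span]
      rintro ⟨_, i, rfl⟩
      rw [algebraMap_smul, ← TensorProduct.tmul_smul,
        show r • g i = 0 from Submodule.mem_annihilator_span _ _ |>.1 hr ⟨_, i, rfl⟩,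
        TensorProduct.tmul_zero]
    · rw [Submodule.mem_annihilator_span] at hs
      have h0 : f.lTensor S (s ⊗ₜ 1) = 0 := by
        refine (TensorProduct.piRight R R S (fun _ : Fin n => M)).injective (funext fun i => ?_)
        rw [hf]
        simpa using hs ⟨_, i, rfl⟩
      obtain ⟨w, hw⟩ := ((Module.Flat.lTensor_exact S f.exact_subtype_ker_map) _).1 h0
      have hmem : TensorProduct.rid R S ((LinearMap.ker f).subtype.lTensor S w) ∈
          J.map (algebraMap R S) := by
        clear hw
        induction w using TensorProduct.induction_on with
        | zero => simp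
        | tmul a b =>
          simp only [LinearMap.lTensor_tmul, TensorProduct.rid_tmul, Submodule.subtype_apply,
            Algebra.smul_def]
          exact Ideal.mul_mem_right _ _ (Ideal.mem_map_of_mem _ (hker ▸ b.2))
        | add a b ha hb => rw [map_add, map_add]; exact add_mem ha hb
      rw [hw, TensorProduct.rid_tmul, one_smul] at hmem
      exact hmem
  refine ⟨fun m => ?_, fun hM => ?_⟩
  · simpa [Set.range_const] using key 1 fun _ => m
  · obtain ⟨n, g, hg⟩ := Module.Finite.exists_fin (R := R) (M := M)
    have h2 : Submodule.span S (Set.range fun i => (1 : S) ⊗ₜ[R] g i) = ⊤ := by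
      refine top_le_iff.1 fun z _ => ?_
      induction z using TensorProduct.induction_on with
      | zero => exact zero_mem _
      | tmul s m =>
        clear * - hg
        rw [← mul_one s, ← smul_eq_mul, ← TensorProduct.smul_tmul']
        refine Submodule.smul_mem _ _ ?_
        have hm : m ∈ Submodule.span R (Set.range g) := hg ▸ Submodule.mem_top
        induction hm using Submodule.span_induction with
        | mem x hx => obtain ⟨i, rfl⟩ := hx; exact Submodule.subset_span ⟨i, rfl⟩
        | zero => simp
        | add x y _ _ hx hy => rw [TensorProduct.tmul_add]; exact add_mem hx hy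
        | smul r x _ hx =>
          rw [TensorProduct.tmul_smul, ← algebraMap_smul S]
          exact Submodule.smul_mem _ _ hx
      | add a b ha hb => exact add_mem (ha trivial) (hb trivial)
    have h := key n g
    rwa [hg, h2, Submodule.annihilator_top, Submodule.annihilator_top] at h

end Groth.Agent.S6283
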