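import Groth.Statements.S6286
import Mathlib.RingTheory.Flat.Basic
import Mathlib.LinearAlgebra.Basis.VectorSpace
import Mathlib.RingTheory.LocalRing.ResidueField.Ideal
import Mathlib.RingTheory.TensorProduct.Maps
import Mathlib.RingTheory.Nilpotent.Lemmas

set_option autoImplicit false
universe u
open scoped TensorProduct
open CAlg

namespace Groth.Agent.S6286

theorem mem_image_iff {k R T : Type u} [Field k] [CommRing R] [Algebra k R] [CommRing T] [Algebra k T]
    (f : R ⊗[k] T) (p : PrimeSpectrum R) :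
    (∃ q : PrimeSpectrum (R ⊗[k] T), f ∉ q.asIdeal ∧
      q.asIdeal.comap (algebraMap R (R ⊗[k] T)) = p.asIdeal) ↔
    ¬ IsNilpotent (Algebra.TensorProduct.map (IsScalarTower.toAlgHom k R p.asIdeal.ResidueField)
      (AlgHom.id k T) f) := by
  let φ := Algebra.TensorProduct.map (IsScalarTower.toAlgHom k R p.asIdeal.ResidueField)
    (AlgHom.id k T)
  have hφ : ∀ r : R, φ (algebraMap R (R ⊗[k] T) r) =
      algebraMap R p.asIdeal.ResidueField r ⊗ₜ[k] (1 : T) := fun r => rfl
  constructor
  · rintro ⟨q, hfq, hq⟩ ⟨n, hn⟩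
    let g : p.asIdeal.ResidueField →ₐ[k] q.asIdeal.ResidueField :=
      Ideal.ResidueField.mapₐ p.asIdeal q.asIdeal
        (IsScalarTower.toAlgHom k R (R ⊗[k] T)) hq.symm
    let ι : T →ₐ[k] q.asIdeal.ResidueField :=
      (IsScalarTower.toAlgHom k (R ⊗[k] T) q.asIdeal.ResidueField).comp
        Algebra.TensorProduct.includeRight
    have hcomp : (Algebra.TensorProduct.productMap g ι).comp φ =
        IsScalarTower.toAlgHom k (R ⊗[k] T) q.asIdeal.ResidueField := by
      refine Algebra.TensorProduct.ext' fun r t => ?_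
      simp only [AlgHom.comp_apply, φ, Algebra.TensorProduct.map_tmul, AlgHom.coe_id, id_eq,
        Algebra.TensorProduct.productMap_apply_tmul, IsScalarTower.toAlgHom_apply, g,
        Ideal.ResidueField.mapₐ_apply]
      erw [Ideal.ResidueField.map_algebraMap]
      simp only [ι, AlgHom.comp_apply, Algebra.TensorProduct.includeRight_apply,
        IsScalarTower.toAlgHom_apply]
      rw [← map_mul]
      congr 1
      change (r ⊗ₜ[k] (1 : T)) * ((1 : R) ⊗ₜ[k] t) = _
      rw [Algebra.TensorProduct.tmul_mul_tmul, mul_one, one_mul]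
    have h := congrArg (Algebra.TensorProduct.productMap g ι) hn
    rw [map_pow, map_zero] at h
    have h0 := pow_eq_zero_iff'.mp h
    rw [← AlgHom.comp_apply, hcomp, IsScalarTower.toAlgHom_apply,
      Ideal.algebraMap_residueField_eq_zero] at h0
    exact hfq h0.1
  · intro hnil
    obtain ⟨P, hP, hPf⟩ : ∃ P : Ideal (p.asIdeal.ResidueField ⊗[k] T), P.IsPrime ∧ φ f ∉ P := by
      by_contra! hall
      exact hnil (by
        rw [← mem_nilradical, nilradical_eq_sInf, Ideal.mem_sInf]
        exact fun P hP => hall P hP)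
    refine ⟨⟨P.comap φ.toRingHom, Ideal.IsPrime.comap _⟩, hPf, ?_⟩
    ext r
    rw [Ideal.mem_comap]
    change φ (algebraMap R (R ⊗[k] T) r) ∈ P ↔ r ∈ p.asIdeal
    rw [hφ, ← Ideal.algebraMap_residueField_eq_zero (I := p.asIdeal)]
    refine ⟨fun h => by_contra fun hne => hP.ne_top (P.eq_top_of_isUnit_mem h
      (((Ne.isUnit hne).map (Algebra.TensorProduct.includeLeft :
        p.asIdeal.ResidueField →ₐ[k] p.asIdeal.ResidueField ⊗[k] T)))), fun h => ?_⟩
    rw [h, TensorProduct.zero_tmul]
    exact P.zero_mem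

/-- Let k be a field, R and S k-algebras, S' ⊆ S a k-subalgebra and f ∈ R ⊗ₖ S', with image f again in R
⊗ₖ S. Then the images in Spec(R) of Spec((R ⊗ₖ S)_f) and of Spec((R ⊗ₖ S')_f) coincide: a prime p of
R is the contraction of a prime of R ⊗ₖ S not containing f if and only if it is the contraction of a
prime of R ⊗ₖ S' not containing f. -/
theorem result (k : Type u) [Field k] (R S : Type u) [CommRing R] [Algebra k R] [CommRing S] [Algebra k S] (S' : Subalgebra k S) (f : R ⊗[k] S') (p : PrimeSpectrum R) : (∃ q : PrimeSpectrum (R ⊗[k] S), Algebra.TensorProduct.map (AlgHom.id k R) S'.val f ∉ q.asIdeal ∧ q.asIdeal.comap (algebraMap R (R ⊗[k] S)) = p.asIdeal) ↔ (∃ q' : PrimeSpectrum (R ⊗[k] S'), f ∉ q'.asIdeal ∧ q'.asIdeal.comap (algebraMap R (R ⊗[k] S')) = p.asIdeal) := by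
  rw [mem_image_iff, mem_image_iff]
  refine not_congr ?_
  let ψ : p.asIdeal.ResidueField ⊗[k] S' →ₐ[k] p.asIdeal.ResidueField ⊗[k] S :=
    Algebra.TensorProduct.map (AlgHom.id k _) S'.val
  have hψ : Function.Injective ψ :=
    Module.Flat.lTensor_preserves_injective_linearMap (M := p.asIdeal.ResidueField) S'.val.toLinearMap
      Subtype.val_injective
  have heq : Algebra.TensorProduct.map (IsScalarTower.toAlgHom k R p.asIdeal.ResidueField)
      (AlgHom.id k S) (Algebra.TensorProduct.map (AlgHom.id k R) S'.val f) =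
      ψ (Algebra.TensorProduct.map (IsScalarTower.toAlgHom k R p.asIdeal.ResidueField)
        (AlgHom.id k S') f) := by
    simp only [ψ, ← AlgHom.comp_apply, ← Algebra.TensorProduct.map_comp]
    rfl
  rw [heq]
  exact IsNilpotent.map_iff hψ

end Groth.Agent.S6286
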