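import Groth.Statements.S6287
import Mathlib.Algebra.Colimit.Ring

set_option autoImplicit false
universe u
open CAlg

namespace Groth.Agent.S6287

/-- Let (A_i) be a directed system of valuation rings. Then the colimit A = colim A_i is a valuation
ring (in particular a domain). -/
theorem result {ι : Type u} [Preorder ι] [Nonempty ι] [IsDirected ι (· ≤ ·)] (G : ι → Type u) [∀ i, CommRing (G i)] [∀ i, IsDomain (G i)] [∀ i, ValuationRing (G i)] (f : ∀ i j, i ≤ j → G i →+* G j) [DirectedSystem G fun i j h => f i j h] : ∃ _ : IsDomain (Ring.DirectLimit G fun i j h => f i j h), ValuationRing (Ring.DirectLimit G fun i j h => f i j h) := by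
  classical
  have hnt : Nontrivial (Ring.DirectLimit G fun i j h => f i j h) := by
    refine ⟨0, 1, fun h01 => ?_⟩
    have i := Classical.arbitrary ι
    have h0 : Ring.DirectLimit.of G (fun i j h => f i j h) i 1 = 0 := by rw [map_one, h01]
    obtain ⟨j, hij, hj⟩ := Ring.DirectLimit.of.zero_exact h0
    exact one_ne_zero ((map_one _).symm.trans hj)
  have : NoZeroDivisors (Ring.DirectLimit G fun i j h => f i j h) := ⟨fun {a b} hab => by
    obtain ⟨i, x, rfl⟩ := Ring.DirectLimit.exists_of a
    obtain ⟨j, y, rfl⟩ := Ring.DirectLimit.exists_of b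
    obtain ⟨k, hik, hjk⟩ := exists_ge_ge i j
    have h0 : Ring.DirectLimit.of G (fun i j h => f i j h) k (f i k hik x * f j k hjk y) = 0 := by
      rw [map_mul, Ring.DirectLimit.of_f, Ring.DirectLimit.of_f, hab]
    obtain ⟨l, hkl, hl⟩ := Ring.DirectLimit.of.zero_exact h0
    rw [map_mul, mul_eq_zero] at hl
    refine hl.imp (fun h => ?_) (fun h => ?_)
    · rw [← Ring.DirectLimit.of_f hik, ← Ring.DirectLimit.of_f hkl, h, map_zero]
    · rw [← Ring.DirectLimit.of_f hjk, ← Ring.DirectLimit.of_f hkl, h, map_zero]⟩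
  refine ⟨NoZeroDivisors.to_isDomain _, @ValuationRing.mk _ _ (NoZeroDivisors.to_isDomain _) ⟨fun a b => ?_⟩⟩
  obtain ⟨i, x, rfl⟩ := Ring.DirectLimit.exists_of a
  obtain ⟨j, y, rfl⟩ := Ring.DirectLimit.exists_of b
  obtain ⟨k, hik, hjk⟩ := exists_ge_ge i j
  obtain ⟨c, hc⟩ := PreValuationRing.cond (f i k hik x) (f j k hjk y)
  refine ⟨Ring.DirectLimit.of G (fun i j h => f i j h) k c, hc.imp (fun h => ?_) (fun h => ?_)⟩ <;>
  · have := congrArg (Ring.DirectLimit.of G (fun i j h => f i j h) k) h
    rwa [map_mul, Ring.DirectLimit.of_f, Ring.DirectLimit.of_f] at this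

end Groth.Agent.S6287
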