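import Groth.Statements.S6289


set_option autoImplicit false
universe u
open CAlg

namespace Groth.Agent.S6289

/-- Let A' be a valuation ring with residue field K and A ⊆ K a valuation ring with fraction field K.
Then the subring C of A' consisting of the elements whose residue class lies in A is a valuation
ring. -/
theorem result (A' : Type u) [CommRing A'] [IsDomain A'] [ValuationRing A'] (A : ValuationSubring (IsLocalRing.ResidueField A')) : ValuationRing (A.toSubring.comap (IsLocalRing.residue A')) := by
  set C := A.toSubring.comap (IsLocalRing.residue A')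
  have : IsDomain C := inferInstance
  refine { cond' := fun a b => ?_ }
  have key : ∀ (x y : C) (t : A'), (x : A') * t = (y : A') → ∃ c, x * c = y ∨ y * c = x := by
    intro x y t ht
    by_cases htA : IsLocalRing.residue A' t ∈ A
    · exact ⟨⟨t, htA⟩, Or.inl (Subtype.ext ht)⟩
    · have hne : IsLocalRing.residue A' t ≠ 0 := fun h0 => htA (h0 ▸ zero_mem A)
      obtain ⟨u, rfl⟩ := IsLocalRing.residue_ne_zero_iff_isUnit t |>.mp hne
      have hinv := (A.mem_or_inv_mem _).resolve_left htA
      refine ⟨⟨((u⁻¹ : A'ˣ) : A'), ?_⟩, Or.inr (Subtype.ext ?_)⟩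
      · have : IsLocalRing.residue A' ((u⁻¹ : A'ˣ) : A') = (IsLocalRing.residue A' (u : A'))⁻¹ := by
          apply eq_inv_of_mul_eq_one_left
          rw [← map_mul, Units.inv_mul, map_one]
        exact (show IsLocalRing.residue A' _ ∈ A from this ▸ hinv)
      · show (y : A') * _ = x
        rw [← ht, mul_assoc, Units.mul_inv, mul_one]
  obtain ⟨t, ht | ht⟩ := ValuationRing.cond (a : A') (b : A')
  · exact key a b t ht
  · obtain ⟨c, hc⟩ := key b a t ht
    exact ⟨c, hc.symm⟩

end Groth.Agent.S6289
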