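import Groth.Statements.S6290
import Groth.Agent.H25.Basic
import Mathlib.RingTheory.Filtration
-- import your own Groth.Agent.* helpers here

set_option autoImplicit false
universe u
open CAlg

namespace Groth.Agent.S6290

/-- Let R be a Noetherian ring, I ⊆ R an ideal, M a finite R-module and N = ⋂ₙ IⁿM. Then for every prime
p ⊇ I there is f ∈ R, f ∉ p, with N_f = 0, i.e. every element of N is annihilated by some power of
f. -/
theorem result {R : Type u} [CommRing R] [IsNoetherianRing R] (I : Ideal R) (M : Type u) [AddCommGroup M] [Module R M] [Module.Finite R M] (p : Ideal R) [p.IsPrime] (hIp : I ≤ p) : ∃ f : R, f ∉ p ∧ ∀ x ∈ (⨅ n : ℕ, I ^ n • (⊤ : Submodule R M)), ∃ k : ℕ, f ^ k • x = 0 := by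
  obtain ⟨f, hf, h⟩ := Groth.Agent.H25.Basic.exists_notMem_smul_eq_zero p
    (IsNoetherian.noetherian (⨅ n : ℕ, I ^ n • (⊤ : Submodule R M))) (fun y hy => by
      obtain ⟨r, hr⟩ := (I.mem_iInf_smul_pow_eq_bot_iff y).mp hy
      exact ⟨1 - r, fun h => ‹p.IsPrime›.ne_top ((Ideal.eq_top_iff_one p).mpr (by simpa using p.add_mem h (hIp r.2))),
        by simp [sub_smul, hr]⟩)
  exact ⟨f, hf, fun x hx => ⟨1, by rw [pow_one]; exact h x hx⟩⟩

end Groth.Agent.S6290
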