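import Groth.Statements.S6291
import Mathlib.RingTheory.FiniteLength
import Mathlib.RingTheory.LocalRing.MaximalIdeal.Basic
import Mathlib.RingTheory.Nakayama

set_option autoImplicit false
universe u
open CAlg

namespace Groth.Agent.S6291

/-- Let R be a local ring with maximal ideal m and M an R-module of finite length. Then mⁿM = 0 for some
n. -/
theorem result {R : Type u} [CommRing R] [IsLocalRing R] (M : Type u) [AddCommGroup M] [Module R M] (hM : IsFiniteLength R M) : ∃ n : ℕ, (IsLocalRing.maximalIdeal R) ^ n • (⊤ : Submodule R M) = ⊥ := by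
  obtain ⟨h1, h2⟩ := isFiniteLength_iff_isNoetherian_isArtinian.1 hM
  let c : ℕ →o (Submodule R M)ᵒᵈ :=
    ⟨fun n => OrderDual.toDual ((IsLocalRing.maximalIdeal R) ^ n • (⊤ : Submodule R M)),
      fun a b h => Submodule.smul_mono (Ideal.pow_le_pow_right h) le_rfl⟩
  obtain ⟨n, hn⟩ := IsArtinian.monotone_stabilizes c
  refine ⟨n, ?_⟩
  refine Submodule.eq_bot_of_le_smul_of_le_jacobson_bot (IsLocalRing.maximalIdeal R) _
    (IsNoetherian.noetherian _) ?_ (IsLocalRing.maximalIdeal_le_jacobson _)
  rw [← Submodule.smul_assoc, smul_eq_mul, ← pow_succ']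
  exact le_of_eq (congrArg OrderDual.ofDual (hn (n + 1) (Nat.le_succ n)))

end Groth.Agent.S6291
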