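import Groth.Statements.S6292
import Mathlib.RingTheory.FiniteLength
import Mathlib.RingTheory.Finiteness.Ideal
import Mathlib.Algebra.Module.Torsion.Basic
import Mathlib.RingTheory.Ideal.Operations
import Mathlib.RingTheory.Artinian.Module
import Mathlib.LinearAlgebra.Quotient.Basic

set_option autoImplicit false
universe u
open CAlg

namespace Groth.Agent.S6292

/-- Let R be a ring and m ⊆ R a finitely generated maximal ideal (for instance R Noetherian). If M is a
finite R-module with mⁿM = 0 for some n, then M has finite length. -/
theorem result {R : Type u} [CommRing R] (m : Ideal R) [m.IsMaximal] (hm : m.FG) (M : Type u) [AddCommGroup M] [Module R M] [Module.Finite R M] (n : ℕ) (hn : m ^ n • (⊤ : Submodule R M) = ⊥) : IsFiniteLength R M := by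
  rw [isFiniteLength_iff_isNoetherian_isArtinian]
  induction n generalizing M with
  | zero =>
    rw [pow_zero, Ideal.one_eq_top, Submodule.top_smul] at hn
    have : Subsingleton M := (Submodule.subsingleton_iff R).1 (subsingleton_of_bot_eq_top hn.symm)
    exact ⟨inferInstance, inferInstance⟩
  | succ n ih =>
    let N : Submodule R M := m • ⊤
    have hN : N.FG := Submodule.FG.smul hm Module.Finite.fg_top
    have : Module.Finite R N := Module.Finite.iff_fg.2 hN
    have h1 : m ^ n • (⊤ : Submodule R N) = ⊥ := by
      refine Submodule.map_injective_of_injective N.injective_subtype ?_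
      rw [Submodule.map_smul'', Submodule.map_top, Submodule.range_subtype, Submodule.map_bot,
        ← Submodule.smul_assoc, smul_eq_mul, ← pow_succ, hn]
    obtain ⟨hN1, hN2⟩ := ih N h1
    have hX : Module.Finite R (M ⧸ N) := inferInstance
    have : Module.Finite (R ⧸ m) (M ⧸ m • (⊤ : Submodule R M)) :=
      Module.Finite.of_restrictScalars_finite R (R ⧸ m) _
    let := Ideal.Quotient.field m
    have hsur : Function.Surjective (algebraMap R (R ⧸ m)) := Ideal.Quotient.mk_surjective
    have hmono : StrictMono fun L : Submodule R (M ⧸ m • (⊤ : Submodule R M)) =>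
        Submodule.span (R ⧸ m) (L : Set (M ⧸ m • (⊤ : Submodule R M))) := by
      refine Monotone.strictMono_of_injective (fun a b h => Submodule.span_mono h) fun a b h => ?_
      have h' := congrArg (Submodule.restrictScalars R) h
      simpa [Submodule.restrictScalars_span R (R ⧸ m) hsur] using h'
    have hn1 : IsNoetherian R (M ⧸ N) :=
      isNoetherian_iff'.2 hmono.wellFoundedGT
    have hn2 : IsArtinian R (M ⧸ N) := hmono.wellFoundedLT
    exact ⟨isNoetherian_of_range_eq_ker N.subtype N.mkQ (by simp),
      isArtinian_of_range_eq_ker N.subtype N.mkQ (by simp)⟩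

end Groth.Agent.S6292
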