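import Groth.Statements.S6294
import Mathlib.RingTheory.Ideal.MinimalPrime.Localization
import Mathlib.RingTheory.Spectrum.Prime.Basic
import Mathlib.Algebra.Group.Pi.Units
-- import your own Groth.Agent.* helpers here

set_option autoImplicit false
universe u
open CAlg

namespace Groth.Agent.S6294

theorem exists_pow_mul_eq_zero {R : Type u} [CommRing R] {P : Ideal R} [P.IsPrime]
    (hP : P ∈ minimalPrimes R) {e : R} (he : e ∈ P) : ∃ t ∉ P, ∃ n : ℕ, t * e ^ n = 0 := by
  have h : IsNilpotent (algebraMap R (Localization.AtPrime P) e) := by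
    rw [← mem_nilradical, nilradical_eq_sInf, Ideal.mem_sInf]
    intro Q hQ
    have hQ' := ((IsLocalization.isPrime_iff_isPrime_disjoint P.primeCompl (Localization.AtPrime P) Q).mp hQ)
    have h2 : Q.comap (algebraMap R (Localization.AtPrime P)) ≤ P := fun a ha => by
      by_contra hap
      exact Set.disjoint_left.mp hQ'.2 hap ha
    exact hP.2 ⟨hQ'.1, bot_le⟩ h2 he
  obtain ⟨n, hn⟩ := h
  rw [← map_pow, IsLocalization.map_eq_zero_iff P.primeCompl] at hn
  obtain ⟨⟨t, ht⟩, h⟩ := hn
  exact ⟨t, ht, n, h⟩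

/-- Let R be a ring with finitely many minimal primes q₁, …, q_t, and assume that the zerodivisors of R
are precisely the elements of q₁ ∪ … ∪ q_t. Then Q(R), the total ring of fractions of R, equals
R_{q₁} × … × R_{q_t}: the diagonal map R → ∏ R_{q_i} is a localization of R at its non-zerodivisors. -/
theorem result {R : Type u} [CommRing R] {ι : Type} [Fintype ι] (q : ι → Ideal R) [∀ i, (q i).IsPrime] (hinj : Function.Injective q) (hmin : ∀ P : Ideal R, P ∈ minimalPrimes R ↔ P ∈ Set.range q) (hzd : ∀ x : R, x ∈ nonZeroDivisors R ↔ ∀ i, x ∉ q i) : IsLocalization (nonZeroDivisors R) (∀ i, Localization.AtPrime (q i)) := by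
  classical
  have hmem : ∀ i, q i ∈ minimalPrimes R := fun i => (hmin _).mpr ⟨i, rfl⟩
  have havoid : ∀ J : Ideal R, (∀ i, ¬ J ≤ q i) → ∃ x ∈ J, ∀ i, x ∉ q i := by
    intro J hJ
    by_contra hno
    push Not at hno
    rcases isEmpty_or_nonempty ι with _ | ⟨⟨i₀⟩⟩
    · exact IsEmpty.false (hno 0 J.zero_mem).choose
    obtain ⟨i, -, hi⟩ := (Ideal.subset_union_prime (s := (Finset.univ : Finset ι)) (f := q) i₀ i₀
      (fun i _ _ _ => inferInstance) (I := J)).mp (fun x hx => by simpa using hno x hx)
    exact hJ i hi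
  have hne : ∀ i j, i ≠ j → ¬ q i ≤ q j := fun i j hij hle =>
    hij (hinj (le_antisymm hle ((hmem j).2 ⟨inferInstance, bot_le⟩ hle)))
  refine (isLocalization_iff (nonZeroDivisors R) _).mpr ⟨fun ⟨x, hx⟩ => ?_, fun y => ?_, fun {x y} hxy => ?_⟩
  · rw [Pi.isUnit_iff]
    exact fun i => IsLocalization.map_units (Localization.AtPrime (q i)) (⟨x, (hzd x).mp hx i⟩ : (q i).primeCompl)
  · choose a s hy using fun i => IsLocalization.exists_mk'_eq (q i).primeCompl (y i)
    have hsep : ∀ i, ∃ e : R, e ∉ q i ∧ ∀ j, j ≠ i → algebraMap R (Localization.AtPrime (q j)) e = 0 := by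
      intro i
      have hb : ∀ j, ∃ e, e ∉ q i ∧ (j ≠ i → algebraMap R (Localization.AtPrime (q j)) e = 0) := by
        intro j
        by_cases hji : j = i
        · exact ⟨1, fun h => (inferInstance : (q i).IsPrime).ne_top ((Ideal.eq_top_iff_one _).mpr h), fun h => absurd hji h⟩
        obtain ⟨e, he, he'⟩ := SetLike.not_le_iff_exists.mp (hne j i hji)
        obtain ⟨t, ht, n, htn⟩ := exists_pow_mul_eq_zero (hmem j) he
        refine ⟨e ^ n, fun h => he' (Ideal.IsPrime.mem_of_pow_mem inferInstance n h), fun _ => ?_⟩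
        exact (IsLocalization.map_eq_zero_iff (q j).primeCompl _ _).mpr ⟨⟨t, ht⟩, htn⟩
      choose e he he' using hb
      refine ⟨∏ j, e j, fun h => ?_, fun j hj => ?_⟩
      · obtain ⟨j, -, hj⟩ := (Ideal.IsPrime.prod_mem_iff (hp := (inferInstance : (q i).IsPrime))).mp h
        exact he j hj
      · rw [map_prod]
        exact Finset.prod_eq_zero (Finset.mem_univ j) (he' j hj)
    choose e he he0 using hsep
    have hsum : ∀ (f : ι → R) (k : ι), algebraMap R (Localization.AtPrime (q k)) (∑ i, e i * f i) =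
        algebraMap R (Localization.AtPrime (q k)) (e k * f k) := by
      intro f k
      rw [map_sum]
      refine Finset.sum_eq_single k (fun j _ hj => ?_) (fun h => absurd (Finset.mem_univ k) h)
      rw [map_mul, he0 j k (Ne.symm hj), zero_mul]
    have hw : ∑ i, e i * (s i : R) ∈ nonZeroDivisors R := by
      rw [hzd]
      intro k
      refine (IsLocalization.AtPrime.isUnit_to_map_iff (Localization.AtPrime (q k)) (q k) _).mp ?_
      rw [hsum]
      exact IsLocalization.map_units (Localization.AtPrime (q k))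
        (⟨_, fun h => (Ideal.IsPrime.mem_or_mem inferInstance h).elim (he k) (s k).2⟩ : (q k).primeCompl)
    refine ⟨⟨∑ i, e i * a i, ⟨_, hw⟩⟩, funext fun k => ?_⟩
    show y k * algebraMap R (Localization.AtPrime (q k)) (∑ i, e i * (s i : R)) =
      algebraMap R (Localization.AtPrime (q k)) (∑ i, e i * a i)
    rw [hsum, hsum, map_mul, map_mul, ← hy k, mul_left_comm, IsLocalization.mk'_spec]
  · obtain ⟨c, hc, hc'⟩ := havoid (LinearMap.ker (LinearMap.toSpanSingleton R R (x - y))) fun i hle => by
      have hi : algebraMap R (Localization.AtPrime (q i)) x = algebraMap R _ y := congrFun hxy i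
      obtain ⟨u, hu⟩ := (IsLocalization.eq_iff_exists (q i).primeCompl _).mp hi
      exact u.2 (hle (by simp [mul_sub, hu]))
    refine ⟨⟨c, (hzd c).mpr hc'⟩, ?_⟩
    have : c * (x - y) = 0 := by simpa using hc
    exact sub_eq_zero.mp (by rw [← mul_sub]; exact this)

end Groth.Agent.S6294
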