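import Groth.Statements.S6295
import Mathlib.RingTheory.KrullDimension.Zero
import Mathlib.RingTheory.LocalProperties.Reduced
import Mathlib.RingTheory.Ideal.MinimalPrime.Localization

set_option autoImplicit false
universe u
open CAlg

namespace Groth.Agent.S6295

/-- Let R be a reduced ring. Then every localization R_p at a minimal prime p is a field and the map R →
∏_{p minimal} R_p is injective (so R is a subring of a product of fields); moreover the set of
zerodivisors of R is the union of the minimal primes. -/
theorem result (R : Type u) [CommRing R] [IsReduced R] : (∀ p : PrimeSpectrum R, p.asIdeal ∈ minimalPrimes R → IsField (Localization.AtPrime p.asIdeal)) ∧ Function.Injective (algebraMap R (∀ p : {p : PrimeSpectrum R // p.asIdeal ∈ minimalPrimes R}, Localization.AtPrime p.1.asIdeal)) ∧ (∀ x : R, x ∉ nonZeroDivisors R ↔ ∃ p ∈ minimalPrimes R, x ∈ p) := by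
  refine ⟨fun p hp => ?_, ?_, fun x => ?_⟩
  · have := Ring.KrullDimLE.of_isLocalization (S := Localization.AtPrime p.asIdeal) p.asIdeal hp
    exact Ring.KrullDimLE.isField_of_isReduced
  · rw [injective_iff_map_eq_zero]
    intro x hx
    have hnil : x ∈ nilradical R := by
      rw [nilradical_eq_sInf, Ideal.mem_sInf]
      intro q hq
      have hqp : q.IsPrime := hq
      obtain ⟨m, hm, hmq⟩ := Ideal.exists_minimalPrimes_le (J := q) (bot_le (a := q))
      have := congrFun hx ⟨⟨m, hm.1.1⟩, hm⟩
      simp only [Pi.algebraMap_apply, Pi.zero_apply] at this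
      have hmp : m.IsPrime := hm.1.1
      obtain ⟨c, hc⟩ := (IsLocalization.map_eq_zero_iff m.primeCompl _ _).mp this
      exact hmq ((hmp.mem_or_mem (hc ▸ zero_mem m)).resolve_left c.2)
    exact (nilradical_eq_zero R ▸ hnil : x ∈ (0 : Ideal R))
  · constructor
    · intro hx
      rw [mem_nonZeroDivisors_iff_right] at hx
      push Not at hx
      obtain ⟨y, hxy, hy⟩ := hx
      by_contra! hall
      refine hy ?_
      have hnil : y ∈ nilradical R := by
        rw [nilradical_eq_sInf, Ideal.mem_sInf]
        intro q hq
        have hqp : q.IsPrime := hq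
        obtain ⟨m, hm, hmq⟩ := Ideal.exists_minimalPrimes_le (J := q) (bot_le (a := q))
        exact hmq ((hm.1.1.mem_or_mem (hxy ▸ zero_mem m)).resolve_right (hall m hm))
      exact (nilradical_eq_zero R ▸ hnil : y ∈ (0 : Ideal R))
    · rintro ⟨p, hp, hxp⟩ hx
      exact Set.disjoint_left.mp (Ideal.disjoint_nonZeroDivisors_of_mem_minimalPrimes hp) hxp hx

end Groth.Agent.S6295
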