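import Groth.Statements.S6297
import Mathlib.LinearAlgebra.Matrix.Adjugate

set_option autoImplicit false
universe u
open CAlg

namespace Groth.Agent.S6297

/-- Let R be a ring, m ≤ n, A an n × m matrix over R and J the ideal generated by the m × m minors of A.
(1) For every f ∈ J there is an m × n matrix B with BA = f · 1. (2) If BA = f · 1 for some m × n
matrix B, then f^m ∈ J. -/
theorem result {R : Type u} [CommRing R] {n m : ℕ} (hmn : m ≤ n) (A : Matrix (Fin n) (Fin m) R) : (∀ f ∈ CAlgX.minorIdeal A m, ∃ B : Matrix (Fin m) (Fin n) R, B * A = f • (1 : Matrix (Fin m) (Fin m) R)) ∧ (∀ (f : R) (B : Matrix (Fin m) (Fin n) R), B * A = f • (1 : Matrix (Fin m) (Fin m) R) → f ^ m ∈ CAlgX.minorIdeal A m) := by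
  classical
  constructor
  · intro f hf
    refine Submodule.span_induction (p := fun f _ => ∃ B : Matrix (Fin m) (Fin n) R, B * A = f • (1 : Matrix (Fin m) (Fin m) R)) ?_ ?_ ?_ ?_ hf
    · rintro _ ⟨⟨p, q⟩, rfl⟩
      let P : Matrix (Fin m) (Fin n) R := (1 : Matrix (Fin n) (Fin n) R).submatrix p id
      let Q : Matrix (Fin m) (Fin m) R := (1 : Matrix (Fin m) (Fin m) R).submatrix id q
      have hP : P * A = A.submatrix p id := by
        ext i j; simp [P, Matrix.mul_apply, Matrix.one_apply]
      have hQ : A.submatrix p id * Q = A.submatrix p q := by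
        ext i j; simp [Q, Matrix.mul_apply, Matrix.one_apply]
      refine ⟨Q.det • ((A.submatrix p id).adjugate * P), ?_⟩
      rw [Matrix.smul_mul, Matrix.mul_assoc, hP, Matrix.adjugate_mul, smul_smul]
      congr 1
      change Q.det * _ = (A.submatrix p q).det
      rw [← hQ, Matrix.det_mul, mul_comm]
    · exact ⟨0, by simp⟩
    · rintro x y _ _ ⟨B, hB⟩ ⟨C, hC⟩
      exact ⟨B + C, by rw [Matrix.add_mul, hB, hC, add_smul]⟩
    · rintro a x _ ⟨B, hB⟩
      exact ⟨a • B, by rw [Matrix.smul_mul, hB, smul_smul, smul_eq_mul]⟩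
  · intro f B hB
    have h := congrArg Matrix.det hB
    rw [Matrix.det_smul, Matrix.det_one, mul_one, Fintype.card_fin] at h
    rw [← h]
    have hrow : (B * A : Matrix (Fin m) (Fin m) R) = fun i => ∑ l, B i l • A l := by
      ext i j; simp [Matrix.mul_apply]
    change Matrix.detRowAlternating (B * A) ∈ _
    rw [hrow, ← AlternatingMap.coe_multilinearMap, MultilinearMap.map_sum]
    refine Ideal.sum_mem _ fun r _ => ?_
    rw [MultilinearMap.map_smul_univ, smul_eq_mul]
    exact Ideal.mul_mem_left _ _ (Ideal.subset_span ⟨(r, id), rfl⟩)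

end Groth.Agent.S6297
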