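import Groth.Statements.S6298
import Groth.Agent.H25.Basic
import Mathlib.Order.Preorder.Finite
-- import your own Groth.Agent.* helpers here

set_option autoImplicit false
universe u
open CAlg

namespace Groth.Agent.S6298

theorem key {R : Type u} [CommRing R] (x : R) (I : Ideal R) (s : Finset (Ideal R))
    (hs : ∀ P ∈ s, P.IsPrime) (h : ∀ P ∈ s, ∃ y ∈ I, x + y ∉ P) :
    ∃ y ∈ I, ∀ P ∈ s, x + y ∉ P := by
  classical
  induction s using Finset.strongInduction with
  | H s ih =>
    rcases s.eq_empty_or_nonempty with rfl | hne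
    · exact ⟨0, I.zero_mem, by simp⟩
    obtain ⟨P, hP, hPmin⟩ := s.finite_toSet.exists_minimal hne
    obtain ⟨y, hy, hy'⟩ := ih (s.erase P) (Finset.erase_ssubset hP)
      (fun Q hQ => hs Q (Finset.mem_of_mem_erase hQ)) (fun Q hQ => h Q (Finset.mem_of_mem_erase hQ))
    by_cases hmem : x + y ∈ P
    swap
    · refine ⟨y, hy, fun Q hQ => ?_⟩
      rcases eq_or_ne Q P with rfl | hQP
      · exact hmem
      · exact hy' Q (Finset.mem_erase.mpr ⟨hQP, hQ⟩)
    have hPp := hs P hP
    have hI : ¬ I ≤ P := fun hle => by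
      obtain ⟨z, hz, hz'⟩ := h P hP
      apply hz'
      have : x + z = (x + y) + (z - y) := by ring
      rw [this]
      exact P.add_mem hmem (hle (I.sub_mem hz hy))
    have hne' : ¬ I * (s.erase P).prod id ≤ P := fun hle => by
      rcases hPp.mul_le.mp hle with h' | h'
      · exact hI h'
      · obtain ⟨Q, hQ, hQP⟩ := hPp.prod_le.mp h'
        exact (Finset.mem_erase.mp hQ).1
          (le_antisymm hQP (hPmin (Finset.mem_of_mem_erase hQ) hQP))
    obtain ⟨z, hz, hzP⟩ := SetLike.not_le_iff_exists.mp hne'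
    have hzI : z ∈ I := (Ideal.mul_le_left (I := I) (J := (s.erase P).prod id)) hz
    have hzJ : z ∈ (s.erase P).prod id := (Ideal.mul_le_right (I := I) (J := (s.erase P).prod id)) hz
    refine ⟨y + z, I.add_mem hy hzI, fun Q hQ => ?_⟩
    rw [← add_assoc]
    rcases eq_or_ne Q P with rfl | hQP
    · exact fun hc => hzP (by simpa using Q.sub_mem hc hmem)
    · have hQ' := Finset.mem_erase.mpr ⟨hQP, hQ⟩
      have hzQ : z ∈ Q :=
        ((Ideal.prod_le_inf (s := s.erase P) (f := id)).trans
          (Finset.inf_le (f := id) hQ' : (s.erase P).inf id ≤ id Q)) hzJ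
      exact fun hc => hy' Q hQ' (by simpa using Q.sub_mem hc hzQ)

/-- Let R be a ring, x ∈ R, I ⊆ R an ideal and p₁, …, p_r prime ideals such that for each i the coset x
+ I is not contained in p_i. Then there is y ∈ I with x + y ∉ p_i for all i. -/
theorem result {R : Type u} [CommRing R] (x : R) (I : Ideal R) {r : ℕ} (p : Fin r → Ideal R) [∀ i, (p i).IsPrime] (h : ∀ i, ∃ y ∈ I, x + y ∉ p i) : ∃ y ∈ I, ∀ i, x + y ∉ p i := by
  classical
  obtain ⟨y, hy, hy'⟩ := key x I (Finset.univ.image p)
    (by intro P hP; obtain ⟨i, -, rfl⟩ := Finset.mem_image.mp hP; infer_instance)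
    (by intro P hP; obtain ⟨i, -, rfl⟩ := Finset.mem_image.mp hP; exact h i)
  exact ⟨y, hy, fun i => hy' _ (Finset.mem_image_of_mem p (Finset.mem_univ i))⟩

end Groth.Agent.S6298
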