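import Groth.Statements.S6301
import Mathlib.RingTheory.Flat.EquationalCriterion

set_option autoImplicit false
universe u
open CAlg

namespace Groth.Agent.S6301

/-- An R-module M is flat exactly when, for every finitely presented R-module P and every surjective
R-module map N → M, the induced map Hom_R(P, N) → Hom_R(P, M) is surjective (modules P, N taken in
the same universe). -/
theorem result {R : Type u} [CommRing R] (M : Type u) [AddCommGroup M] [Module R M] : Module.Flat R M ↔ ∀ (P : Type u) [AddCommGroup P] [Module R P], Module.FinitePresentation R P → ∀ (N : Type u) [AddCommGroup N] [Module R N] (g : N →ₗ[R] M), Function.Surjective g → ∀ h : P →ₗ[R] M, ∃ h' : P →ₗ[R] N, g.comp h' = h := by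
  classical
  constructor
  · intro hM P _ _ hP N _ _ g hg h
    obtain ⟨k, a, y, rfl⟩ := Module.Flat.exists_factorization_of_isFinitelyPresented h
    obtain ⟨y', hy'⟩ := Module.projective_lifting_property g y hg
    exact ⟨y' ∘ₗ a, by rw [← LinearMap.comp_assoc, hy']⟩
  · intro H
    rw [Module.Flat.iff_forall_exists_factorization]
    intro l f x hfx
    let K := Submodule.span R ({f} : Set (Fin l →₀ R))
    have hP : Module.FinitePresentation R ((Fin l →₀ R) ⧸ K) :=
      Module.finitePresentation_of_surjective K.mkQ K.mkQ_surjective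
        (by rw [Submodule.ker_mkQ]; exact Submodule.fg_span_singleton f)
    have hK : K ≤ LinearMap.ker x := (Submodule.span_singleton_le_iff_mem _ _).2 hfx
    obtain ⟨h', hh'⟩ := H _ hP (M →₀ R) (Finsupp.linearCombination R id)
      (Finsupp.linearCombination_id_surjective R M) (K.liftQ x hK)
    let s : Finset M := Finset.univ.biUnion fun i : Fin l => (h' (K.mkQ (Finsupp.single i 1))).support
    let e : Fin s.card → M := fun j => (s.equivFin.symm j : M)
    have he : Function.Injective e := Subtype.val_injective.comp s.equivFin.symm.injective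
    let r : (M →₀ R) →ₗ[R] (Fin s.card →₀ R) := Finsupp.lcomapDomain e he
    let ι : (Fin s.card →₀ R) →ₗ[R] (M →₀ R) := Finsupp.lmapDomain R R e
    have hr : ∀ i, ι (r (h' (K.mkQ (Finsupp.single i 1)))) = h' (K.mkQ (Finsupp.single i 1)) := by
      intro i
      refine Finsupp.mapDomain_comapDomain e he _ fun z hz => ?_
      have hz' : z ∈ s := Finset.mem_biUnion.2 ⟨i, Finset.mem_univ _, hz⟩
      exact ⟨s.equivFin ⟨z, hz'⟩, by simp [e]⟩
    refine ⟨s.card, r ∘ₗ h' ∘ₗ K.mkQ, Finsupp.linearCombination R id ∘ₗ ι,
      Finsupp.lhom_ext' fun i => LinearMap.ext_ring ?_, ?_⟩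
    · simp only [LinearMap.comp_apply, Finsupp.lsingle_apply]
      rw [hr, ← LinearMap.comp_apply, hh']
      rfl
    · simp only [LinearMap.comp_apply, Submodule.mkQ_apply]
      rw [(Submodule.Quotient.mk_eq_zero K).2 (Submodule.mem_span_singleton_self f), map_zero,
        map_zero]

end Groth.Agent.S6301
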