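import Groth.Statements.S6305
import Groth.Agent.Lib.Pure.UI

set_option autoImplicit false
universe u
open CAlg
open Groth.Agent.Lib.Pure

namespace Groth.Agent.S6305

theorem flat_of_cover {R M F : Type u} [CommRing R] [AddCommGroup M] [Module R M] [AddCommGroup F]
    [Module R F] [Module.Flat R F] (π : F →ₗ[R] M) (hπ : Function.Surjective π)
    (h : ∀ (M₁ : Type u) [AddCommGroup M₁] [Module R M₁] (f : M₁ →ₗ[R] F) (g : F →ₗ[R] M),
      Function.Injective f → Function.Exact f g → Function.Surjective g →
        CAlgX.UniversallyInjective R f) : Module.Flat R M :=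
  UI.flat_right (L₀ := ↥(LinearMap.ker π)) (LinearMap.ker π).subtype π
    (LinearMap.exact_subtype_ker_map π) hπ fun _ _ =>
      h ↥(LinearMap.ker π) (LinearMap.ker π).subtype π Subtype.val_injective
        (LinearMap.exact_subtype_ker_map π) hπ _

/-- An R-module M is flat exactly when every short exact sequence 0 → M₁ → M₂ → M → 0 of R-modules is
universally exact, i.e. its first map M₁ → M₂ is universally injective. -/
theorem result {R : Type u} [CommRing R] (M : Type u) [AddCommGroup M] [Module R M] : Module.Flat R M ↔ ∀ (M₁ M₂ : Type u) [AddCommGroup M₁] [Module R M₁] [AddCommGroup M₂] [Module R M₂] (f : M₁ →ₗ[R] M₂) (g : M₂ →ₗ[R] M), Function.Injective f → Function.Exact f g → Function.Surjective g → CAlgX.UniversallyInjective R f := by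
  refine ⟨fun h M₁ M₂ _ _ _ _ f g hf he hg => UI.of_flat_right f g hf he hg, fun h => ?_⟩
  exact flat_of_cover (Finsupp.linearCombination R (id : M → M))
    (fun m => ⟨Finsupp.single m 1, by simp⟩) fun M₁ _ _ f g hf he hg => h M₁ _ f g hf he hg

end Groth.Agent.S6305
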