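import Groth.Statements.S6306
import Groth.Agent.H25.Basic
-- import your own Groth.Agent.* helpers here

set_option autoImplicit false
universe u
open CAlg

namespace Groth.Agent.S6306

/-- Let R be a nonzero ring such that every nonzero prime ideal of R contains a non-zerodivisor. Then R
is a domain. -/
theorem result (R : Type u) [CommRing R] [Nontrivial R] (h : ∀ p : Ideal R, p.IsPrime → p ≠ ⊥ → ∃ x ∈ p, x ∈ nonZeroDivisors R) : IsDomain R := by
  have hmin : ∀ p ∈ minimalPrimes R, p = ⊥ := by
    intro p hp
    by_contra hne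
    obtain ⟨x, hx, hx'⟩ := h p (Ideal.minimalPrimes_isPrime hp) hne
    exact Set.disjoint_left.mp (Ideal.disjoint_nonZeroDivisors_of_mem_minimalPrimes hp) hx hx'
  obtain ⟨p, hp⟩ := Ideal.nonempty_minimalPrimes (R := R) (I := ⊥) top_ne_bot.symm
  have h0 : (⊥ : Ideal R).IsPrime := hmin p hp ▸ Ideal.minimalPrimes_isPrime hp
  exact IsDomain.of_bot_isPrime R

end Groth.Agent.S6306
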