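import Groth.Statements.S6309
import Groth.Agent.H20.CokerFree

set_option autoImplicit false
universe u
open scoped TensorProduct
open CAlg

namespace Groth.Agent.S6309

/-- Let R be a ring and φ : P₁ → P₂ a map of finite projective R-modules. The set U of primes p of R
such that φ ⊗ κ(p) is injective is open, and for every f ∈ R with D(f) ⊆ U the map (P₁)_f → (P₂)_f
is injective and Coker(φ)_f is a finite projective module over R_f. -/
theorem result {R : Type u} [CommRing R] {P₁ P₂ : Type u} [AddCommGroup P₁] [Module R P₁] [AddCommGroup P₂] [Module R P₂] [Module.Finite R P₁] [Module.Projective R P₁] [Module.Finite R P₂] [Module.Projective R P₂] (φ : P₁ →ₗ[R] P₂) : IsOpen {p : PrimeSpectrum R | Function.Injective (φ.lTensor p.asIdeal.ResidueField)} ∧ ∀ f : R, (↑(PrimeSpectrum.basicOpen f) : Set (PrimeSpectrum R)) ⊆ {p : PrimeSpectrum R | Function.Injective (φ.lTensor p.asIdeal.ResidueField)} → Function.Injective (LocalizedModule.map (Submonoid.powers f) φ) ∧ Module.Finite (Localization.Away f) (LocalizedModule (Submonoid.powers f) (P₂ ⧸ LinearMap.range φ)) ∧ Module.Projective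 (Localization.Away f) (LocalizedModule (Submonoid.powers f) (P₂ ⧸ LinearMap.range φ)) := by
  refine ⟨Groth.Agent.H20.CokerFree.isOpen_injectiveLocus φ, fun f hf => ?_⟩
  have := Groth.Agent.H20.CokerFree.finitePresentation_coker φ
  have hK : Subsingleton (LocalizedModule (Submonoid.powers f) (LinearMap.ker φ)) := by
    rw [LocalizedModule.subsingleton_iff_support_subset]
    intro p hp
    by_contra hpf
    exact ((Groth.Agent.H20.CokerFree.injective_lTensor_iff φ p).mp (hf (by simpa using hpf))).2 hp
  refine ⟨?_, inferInstance, Module.basicOpen_subset_freeLocus_iff.mp fun p hp =>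
    ((Groth.Agent.H20.CokerFree.injective_lTensor_iff φ p).mp (hf hp)).1⟩
  rw [injective_iff_map_eq_zero]
  intro x hx
  have hex : Function.Exact (LocalizedModule.map (Submonoid.powers f) (LinearMap.ker φ).subtype)
      (LocalizedModule.map (Submonoid.powers f) φ) :=
    LocalizedModule.map_exact _ _ _ (LinearMap.exact_subtype_ker_map φ)
  obtain ⟨y, rfl⟩ := (hex x).mp hx
  rw [Subsingleton.elim y 0, map_zero]

end Groth.Agent.S6309
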