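import Groth.Statements.S6310
import Mathlib.LinearAlgebra.Matrix.Charpoly.LinearMap
import Mathlib.RingTheory.Localization.Integer


set_option autoImplicit false
universe u
open CAlg

namespace Groth.Agent.S6310

/-- Let R be a ring, S ⊆ R a multiplicative subset, I ⊆ R an ideal and M a finite R-module. If x₁, …,
x_r ∈ M have images generating S⁻¹(M/IM) as an S⁻¹R-module, then there is f ∈ S + I (f = s + i with
s ∈ S, i ∈ I) such that x₁, …, x_r generate M_f as an R_f-module. -/
theorem result {R : Type u} [CommRing R] (S : Submonoid R) (I : Ideal R) (M : Type u) [AddCommGroup M] [Module R M] [Module.Finite R M] {r : ℕ} (x : Fin r → M) (hx : Submodule.span (Localization S) (Set.range fun j => LocalizedModule.mkLinearMap S (M ⧸ (I • (⊤ : Submodule R M))) (Submodule.Quotient.mk (x j))) = ⊤) : ∃ (s : R) (i : R), s ∈ S ∧ i ∈ I ∧ Submodule.span (Localization.Away (s + i)) (Set.range fun j => LocalizedModule.mkLinearMap (Submonoid.powers (s + i)) M (x j)) = ⊤ := by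
  classical
  let N : Submodule R M := Submodule.span R (Set.range x)
  let Q := M ⧸ (I • (⊤ : Submodule R M))
  have hs : ∀ m : M, ∃ s ∈ S, s • m ∈ N ⊔ I • (⊤ : Submodule R M) := by
    intro m
    have hm : LocalizedModule.mkLinearMap S Q (Submodule.Quotient.mk m) ∈
        Submodule.span (Localization S) (Set.range fun j => LocalizedModule.mkLinearMap S Q
          (Submodule.Quotient.mk (x j))) := hx ▸ Submodule.mem_top
    obtain ⟨c, hc⟩ := (Submodule.mem_span_range_iff_exists_fun (Localization S)).mp hm
    obtain ⟨b, hb⟩ := IsLocalization.exist_integer_multiples_of_finite S c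
    choose c' hc' using hb
    have h1 : LocalizedModule.mkLinearMap S Q (Submodule.Quotient.mk ((b : R) • m)) =
        LocalizedModule.mkLinearMap S Q (Submodule.Quotient.mk (∑ j, c' j • x j)) := by
      rw [Submodule.Quotient.mk_smul, map_smul, ← hc, Finset.smul_sum,
        show Submodule.Quotient.mk (p := I • (⊤ : Submodule R M)) (∑ j, c' j • x j) =
          ∑ j, c' j • Submodule.Quotient.mk (x j) by
          rw [← Submodule.mkQ_apply, map_sum]; simp only [map_smul]; rfl,
        map_sum]
      refine Finset.sum_congr rfl fun j _ => ?_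
      rw [map_smul, ← smul_assoc, ← algebraMap_smul (Localization S) (c' j), hc']
    obtain ⟨t, ht⟩ := (IsLocalizedModule.eq_iff_exists S (LocalizedModule.mkLinearMap S Q)).mp h1
    refine ⟨t * b, S.mul_mem t.2 b.2, ?_⟩
    have ht' : (t : R) • Submodule.Quotient.mk (p := I • (⊤ : Submodule R M)) ((b : R) • m) =
        (t : R) • Submodule.Quotient.mk (∑ j, c' j • x j) := ht
    rw [← Submodule.Quotient.mk_smul, ← Submodule.Quotient.mk_smul, Submodule.Quotient.eq] at ht'
    rw [mul_smul, show (t : R) • (b : R) • m =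
      (t : R) • (∑ j, c' j • x j) + ((t : R) • (b : R) • m - (t : R) • (∑ j, c' j • x j)) by abel]
    exact Submodule.add_mem_sup (N.smul_mem _ (sum_mem fun j _ => N.smul_mem _ (Submodule.subset_span ⟨j, rfl⟩))) ht'
  obtain ⟨G, hG⟩ := Module.Finite.fg_top (R := R) (M := M)
  choose s hsS hsm using hs
  let s₀ := ∏ g ∈ G, s g
  have hs₀ : ∀ m : M, s₀ • m ∈ N ⊔ I • (⊤ : Submodule R M) := by
    intro m
    have hm : m ∈ Submodule.span R (G : Set M) := hG ▸ Submodule.mem_top
    induction hm using Submodule.span_induction with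
    | mem g hg =>
      show (∏ g ∈ G, s g) • g ∈ _
      rw [← Finset.prod_erase_mul G s hg, mul_smul]
      exact Submodule.smul_mem _ _ (hsm g)
    | zero => rw [smul_zero]; exact zero_mem _
    | add a b _ _ ha hb => rw [smul_add]; exact add_mem ha hb
    | smul c a _ ha => rw [smul_comm]; exact Submodule.smul_mem _ _ ha
  let φ : M ⧸ N →ₗ[R] M ⧸ N := s₀ • LinearMap.id
  have hφ : LinearMap.range φ ≤ I • (⊤ : Submodule R (M ⧸ N)) := by
    rintro _ ⟨q, rfl⟩
    obtain ⟨m, rfl⟩ := N.mkQ_surjective q
    obtain ⟨a, ha, b, hb, hab⟩ := Submodule.mem_sup.mp (hs₀ m)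
    show s₀ • N.mkQ m ∈ _
    rw [← map_smul, ← hab, map_add, show N.mkQ a = 0 from (Submodule.Quotient.mk_eq_zero N).mpr ha, zero_add]
    have := Submodule.mem_map_of_mem (f := N.mkQ) hb
    rw [Submodule.map_smul''] at this
    exact Submodule.smul_mono le_rfl le_top this
  obtain ⟨p, hp, hdeg, hpI, hp0⟩ := LinearMap.exists_monic_and_natDegree_eq_and_coeff_mem_pow_and_aeval_eq_zero R φ I hφ
  let s' := s₀ ^ p.natDegree
  let i' := ∑ j ∈ Finset.range p.natDegree, p.coeff j * s₀ ^ j
  refine ⟨s', i', S.pow_mem (prod_mem fun g _ => hsS g) _, sum_mem fun j hj => I.mul_mem_right _ ?_, ?_⟩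
  · exact Ideal.pow_le_self (Nat.sub_ne_zero_of_lt (Finset.mem_range.mp hj)) (hpI j)
  have hkill : ∀ m : M, (s' + i') • m ∈ N := by
    intro m
    have h1 := LinearMap.congr_fun hp0 (N.mkQ m)
    rw [show φ = algebraMap R (Module.End R (M ⧸ N)) s₀ from rfl, Polynomial.aeval_algebraMap_apply_eq_algebraMap_eval,
      Module.algebraMap_end_apply, LinearMap.zero_apply, ← map_smul] at h1
    rw [Polynomial.eval_eq_sum_range,
      Finset.sum_range_succ, hp.coeff_natDegree, one_mul, add_comm] at h1
    exact (Submodule.Quotient.mk_eq_zero N).mp h1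
  rw [eq_top_iff]
  intro z _
  obtain ⟨⟨m, t⟩, rfl⟩ := IsLocalizedModule.mk'_surjective (Submonoid.powers (s' + i'))
    (LocalizedModule.mkLinearMap (Submonoid.powers (s' + i')) M) z
  have hmem : LocalizedModule.mkLinearMap (Submonoid.powers (s' + i')) M ((s' + i') • m) ∈
      Submodule.span R (Set.range fun j => LocalizedModule.mkLinearMap (Submonoid.powers (s' + i')) M (x j)) := by
    rw [show (Set.range fun j => LocalizedModule.mkLinearMap (Submonoid.powers (s' + i')) M (x j)) =
      LocalizedModule.mkLinearMap (Submonoid.powers (s' + i')) M '' Set.range x from Set.range_comp _ x,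
      ← Submodule.map_span]
    exact Submodule.mem_map_of_mem (hkill m)
  have h2 := Submodule.span_le_restrictScalars R (Localization (Submonoid.powers (s' + i'))) _ hmem
  have h3 := Submodule.smul_mem _
    (IsLocalization.mk' (Localization (Submonoid.powers (s' + i'))) 1
      (t * ⟨s' + i', Submonoid.mem_powers _⟩)) h2
  convert h3 using 1
  simp only [map_smul, Function.uncurry_apply_pair]
  rw [← algebraMap_smul (Localization (Submonoid.powers (s' + i'))) (s' + i'), ← mul_smul]
  refine (IsLocalizedModule.mk'_eq_iff).mpr ?_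
  rw [Submonoid.smul_def, ← algebraMap_smul (Localization (Submonoid.powers (s' + i'))) (t : R), ← mul_smul]
  conv_lhs => rw [← one_smul (Localization (Submonoid.powers (s' + i'))) (LocalizedModule.mkLinearMap _ M m)]
  congr 1
  rw [← mul_assoc, mul_comm (algebraMap R _ (t : R)), mul_assoc, ← map_mul]
  exact ((IsLocalization.mk'_spec (Localization (Submonoid.powers (s' + i'))) (1 : R) (t * ⟨s' + i', Submonoid.mem_powers _⟩)).trans (map_one _)).symm

end Groth.Agent.S6310
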