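import Groth.Statements.S6311
import Groth.Agent.Lib.KRes.KSub
import Mathlib.Algebra.Category.ModuleCat.Biproducts
-- import your own Groth.Agent.* helpers here

set_option autoImplicit false
universe u
open CategoryTheory
open CAlg

namespace Groth.Agent.S6311

/-- Let R be a local ring. Then K₀(R), the Grothendieck group of the category of finite projective
R-modules, is isomorphic to ℤ via the rank; precisely, there is an isomorphism K₀(R) ≅ ℤ of abelian
groups sending the class [R] to 1 (such an isomorphism is then unique, K₀(R) being generated by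
[R]). -/
theorem result (R : Type u) [CommRing R] [IsLocalRing R] : ∃ e : KZero.K0sub (fun M : ModuleCat.{u} R => Module.Finite R M ∧ Module.Projective R M) ≃+ ℤ, e (KZero.clSub (fun M : ModuleCat.{u} R => Module.Finite R M ∧ Module.Projective R M) (ModuleCat.of R R)) = 1 := by
  classical
  let P : ObjectProperty (ModuleCat.{u} R) := fun M => Module.Finite R M ∧ Module.Projective R M
  let c := KZero.clSub P (ModuleCat.of R R)
  have hR : P (ModuleCat.of R R) := ⟨inferInstanceAs (Module.Finite R R), inferInstanceAs (Module.Projective R R)⟩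
  have hfree : ∀ M : ModuleCat.{u} R, P M → Module.Free R M := fun M hM => by
    have := hM.1
    have := hM.2
    have : Module.Flat R M := Module.Flat.of_projective
    exact Module.free_of_flat_of_isLocalRing
  let rk := Lib.KRes.KSub.lift (P := P) (fun M : ModuleCat.{u} R => (Module.finrank R M : ℤ))
    (fun S hS h₁ h₂ h₃ => by
      have := h₁.1
      have := h₃.1
      have := hfree _ h₁
      have := hfree _ h₃
      have : Projective S.X₃ := (IsProjective.iff_projective S.X₃).1 h₃.2
      have := hS.mono_f
      have := hS.epi_g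
      let σ := ShortComplex.Splitting.ofExactOfSection S hS.exact
        (Projective.factorThru (𝟙 S.X₃) S.g) (Projective.factorThru_comp _ _) inferInstance
      let e : S.X₂ ≅ ModuleCat.of R (S.X₁ × S.X₃) :=
        σ.isoBinaryBiproduct ≪≫ ModuleCat.biprodIsoProd S.X₁ S.X₃
      rw [e.toLinearEquiv.finrank_eq, ← Nat.cast_add, Module.finrank_prod])
  have hcong : ∀ {M N : ModuleCat.{u} R}, (M ≅ N) → P M → P N → KZero.clSub P N = KZero.clSub P M := by
    intro M N e hM hN
    let Z : ModuleCat.{u} R := ModuleCat.of R PUnit.{u+1}
    have hZ : Limits.IsZero Z := ModuleCat.isZero_of_subsingleton _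
    have hZP : P Z := ⟨inferInstanceAs (Module.Finite R PUnit.{u+1}),
      inferInstanceAs (Module.Projective R PUnit.{u+1})⟩
    have h := Lib.KRes.KSub.rel (Lib.KRes.KSub.shortExact_iso e hZ) hM hN hZP
    rwa [Lib.KRes.KSub.clSub_zero hZ hZP, add_zero] at h
  have hfin : ∀ n : ℕ, P (ModuleCat.of R (Fin n → R)) := fun n =>
    ⟨inferInstanceAs (Module.Finite R (Fin n → R)), inferInstanceAs (Module.Projective R (Fin n → R))⟩
  have hpow : ∀ n : ℕ, KZero.clSub P (ModuleCat.of R (Fin n → R)) = (n : ℤ) • c := by
    intro n
    induction n with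
    | zero =>
      rw [Lib.KRes.KSub.clSub_zero (ModuleCat.isZero_of_subsingleton _) (hfin 0), Nat.cast_zero, zero_smul]
    | succ n ih =>
      let e : (R × (Fin n → R)) ≃ₗ[R] (Fin (n + 1) → R) := Fin.consLinearEquiv R (fun _ => R)
      have hprod : P (ModuleCat.of R (R × (Fin n → R))) :=
        ⟨inferInstanceAs (Module.Finite R (R × (Fin n → R))),
          inferInstanceAs (Module.Projective R (R × (Fin n → R)))⟩
      let S : ShortComplex (ModuleCat.{u} R) :=
        ModuleCat.shortComplexOfCompEqZero (LinearMap.inl R R (Fin n → R)) (LinearMap.snd R R (Fin n → R))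
          (LinearMap.ext fun _ => rfl)
      have hS : S.ShortExact := ModuleCat.shortComplex_shortExact S
        (Function.Exact.inl_snd) LinearMap.inl_injective LinearMap.snd_surjective
      have h := Lib.KRes.KSub.rel hS hR hprod (hfin n)
      rw [hcong e.toModuleIso hprod (hfin _)]
      refine h.trans ?_
      change c + KZero.clSub P (ModuleCat.of R (Fin n → R)) = _
      rw [ih, Nat.cast_succ, add_smul, one_smul, add_comm]
  have hc1 : rk c = 1 := by
    change rk (KZero.clSub P (ModuleCat.of R R)) = 1
    rw [Lib.KRes.KSub.lift_cl (P := P) _ _ hR]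
    change ((Module.finrank R R : ℕ) : ℤ) = 1
    rw [Module.finrank_self, Nat.cast_one]
  refine ⟨AddMonoidHom.toAddEquiv rk (zmultiplesHom _ c) ?_ ?_, hc1⟩
  · refine Lib.KRes.KSub.hom_ext fun M hM => ?_
    simp only [AddMonoidHom.comp_apply, AddMonoidHom.id_apply, zmultiplesHom_apply]
    rw [Lib.KRes.KSub.lift_cl (P := P) _ _ hM, ← hpow]
    have := hM.1
    have := hfree _ hM
    exact (hcong (Module.finBasis R M).equivFun.toModuleIso hM (hfin _))
  · refine AddMonoidHom.ext_int ?_
    simp only [AddMonoidHom.comp_apply, AddMonoidHom.id_apply, zmultiplesHom_apply, one_smul]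
    exact hc1

end Groth.Agent.S6311
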