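import Groth.Statements.S6312
import Mathlib.RingTheory.Length
import Mathlib.Algebra.Module.LocalizedModule.Basic

set_option autoImplicit false
universe u
open CAlg

namespace Groth.Agent.S6312

/-- Let R be a ring, M an R-module and S ⊆ R a multiplicative subset. Then length_{S⁻¹R}(S⁻¹M) ≤
length_R(M). -/
theorem result {R : Type u} [CommRing R] (S : Submonoid R) (M : Type u) [AddCommGroup M] [Module R M] : Module.length (Localization S) (LocalizedModule S M) ≤ Module.length R M := by
  have hmono : StrictMono fun N : Submodule (Localization S) (LocalizedModule S M) =>
      (N.restrictScalars R).comap (LocalizedModule.mkLinearMap S M) := by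
    intro N N' h
    refine lt_of_le_of_ne (Submodule.comap_mono fun x hx => h.le hx) fun heq => h.ne ?_
    ext y
    induction y using LocalizedModule.induction_on with
    | _ m s =>
      have key : ∀ P : Submodule (Localization S) (LocalizedModule S M),
          LocalizedModule.mk m s ∈ P ↔ LocalizedModule.mk m 1 ∈ P := fun P => by
        have e1 : LocalizedModule.mk m (1 : S) = algebraMap R (Localization S) s • LocalizedModule.mk m s := by
          rw [algebraMap_smul, LocalizedModule.smul'_mk, ← Submonoid.smul_def, LocalizedModule.mk_cancel]
        obtain ⟨v, hv⟩ : IsUnit (algebraMap R (Localization S) (s : R)) := IsLocalization.map_units _ s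
        rw [e1, ← hv]
        exact (Submodule.smul_mem_iff_of_isUnit _ v.isUnit).symm
      rw [key, key]
      exact SetLike.ext_iff.mp heq m
  rw [← WithBot.coe_le_coe, Module.coe_length, Module.coe_length]
  exact Order.krullDim_le_of_strictMono _ hmono

end Groth.Agent.S6312
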