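import Groth.Statements.S6317
import Groth.Agent.Lib.Tor.Colim
-- import your own Groth.Agent.* helpers here

set_option autoImplicit false
universe u
open CategoryTheory
open CAlg

namespace Groth.Agent.S6317

/-- Let R be a ring, N an R-module and n ≥ 0. Then M ↦ Tor_nᴿ(M, N) commutes with filtered colimits:
Tor_n(colim Mᵢ, N) = colim Tor_n(Mᵢ, N). -/
theorem result (R : Type u) [CommRing R] (N : ModuleCat.{u} R) (n : ℕ) : Limits.PreservesFilteredColimits ((CategoryTheory.Tor (ModuleCat.{u} R) n).flip.obj N) := by
  exact ⟨fun J _ _ => Groth.Agent.Lib.Tor.Colim.tor_flip_preservesFilteredColimits (J := J) N n⟩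

end Groth.Agent.S6317
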