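import Groth.Statements.S6320
import Groth.Agent.H24.SemilocalLength

set_option autoImplicit false
universe u
open CAlg

namespace Groth.Agent.S6320

/-- Let A be a local ring with maximal ideal m, B a semi-local ring with maximal ideals m₁, …, mₙ and A
→ B a ring map such that each mᵢ lies over m with [κ(mᵢ) : κ(m)] finite. Then for every B-module M
of finite length, length_A(M) = Σᵢ [κ(mᵢ) : κ(m)] · length_{B_{mᵢ}}(M_{mᵢ}); in particular
length_A(M) is finite. -/
theorem result {A B : Type u} [CommRing A] [IsLocalRing A] [CommRing B] [Algebra A B] [Finite (MaximalSpectrum B)] (hover : ∀ n : MaximalSpectrum B, n.asIdeal.comap (algebraMap A B) = IsLocalRing.maximalIdeal A) (hfin : ∀ n : MaximalSpectrum B, Module.Finite (A ⧸ n.asIdeal.comap (algebraMap A B)) (B ⧸ n.asIdeal)) (M : Type u) [AddCommGroup M] [Module B M] [Module A M] [IsScalarTower A B M] (hM : IsFiniteLength B M) : Module.length A M = ∑ᶠ n : MaximalSpectrum B, (Module.finrank (A ⧸ n.asIdeal.comap (algebraMap A B)) (B ⧸ n.asIdeal) : ℕ∞) * Module.length (Localization.AtPrime n.asIdeal) (LocalizedModule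 n.asIdeal.primeCompl M) := by
  exact Groth.Agent.H24.SemilocalLength.length_eq_total hover hfin M hM

end Groth.Agent.S6320
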