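import Groth.Statements.S6321
import Groth.Agent.H20.DirectLim
import Mathlib.RingTheory.Flat.EquationalCriterion

set_option autoImplicit false
universe u
open CAlg

namespace Groth.Agent.S6321

/-- Let R be a ring and (Sᵢ, φᵢⱼ) a directed system of faithfully flat R-algebras whose transition maps
are R-algebra maps. Then S = colim Sᵢ is a faithfully flat R-algebra: for any index i the composite
R → Sᵢ → S is faithfully flat. -/
theorem result {R : Type u} [CommRing R] {ι : Type u} [Preorder ι] [Nonempty ι] [IsDirected ι (· ≤ ·)] (G : ι → Type u) [∀ i, CommRing (G i)] [∀ i, Algebra R (G i)] (f : ∀ i j, i ≤ j → G i →+* G j) [DirectedSystem G fun i j h => f i j h] (hcompat : ∀ i j (h : i ≤ j), (f i j h).comp (algebraMap R (G i)) = algebraMap R (G j)) (hff : ∀ i, (algebraMap R (G i)).FaithfullyFlat) (i : ι) : ((Ring.DirectLimit.of G (fun i j h => f i j h) i).comp (algebraMap R (G i))).FaithfullyFlat := by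
  classical
  let alg : Algebra R (Ring.DirectLimit G fun i j h => f i j h) :=
    ((Ring.DirectLimit.of G (fun i j h => f i j h) i).comp (algebraMap R (G i))).toAlgebra
  have hij : ∀ k (r : R), algebraMap R (Ring.DirectLimit G fun i j h => f i j h) r =
      Ring.DirectLimit.of G (fun i j h => f i j h) k (algebraMap R (G k) r) := fun k r => by
    obtain ⟨l, hil, hkl⟩ := exists_ge_ge i k
    show Ring.DirectLimit.of G (fun i j h => f i j h) i (algebraMap R (G i) r) = _
    rw [← Ring.DirectLimit.of_f hil, ← Ring.DirectLimit.of_f hkl,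
      show f i l hil (algebraMap R (G i) r) = algebraMap R (G l) r from RingHom.congr_fun (hcompat i l hil) r,
      show f k l hkl (algebraMap R (G k) r) = algebraMap R (G l) r from RingHom.congr_fun (hcompat k l hkl) r]
  have hffk : ∀ k, Module.FaithfullyFlat R (G k) := fun k => RingHom.faithfullyFlat_algebraMap_iff.mp (hff k)
  have hflat : Module.Flat R (Ring.DirectLimit G fun i j h => f i j h) := by
    refine Module.Flat.iff_forall_isTrivialRelation.mpr fun {l r x} hrel => ?_
    obtain ⟨k, -, y, hy⟩ := Groth.Agent.H20.DirectLim.exists_stage x (Classical.arbitrary ι)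
    have h0 : Ring.DirectLimit.of G (fun i j h => f i j h) k (∑ a, r a • y a) = 0 := by
      rw [map_sum, ← hrel]
      exact Finset.sum_congr rfl fun a _ => by rw [Algebra.smul_def, map_mul, hy, ← hij, ← Algebra.smul_def]
    obtain ⟨l', hkl, hl⟩ := Ring.DirectLimit.of.zero_exact h0
    have h1 : ∑ a, r a • f k l' hkl (y a) = 0 := by
      rw [← hl, map_sum]
      exact Finset.sum_congr rfl fun a _ => by
        rw [Algebra.smul_def, Algebra.smul_def, map_mul, ← RingHom.comp_apply, hcompat]
    obtain ⟨n, c, z, hxz, hc⟩ := Module.Flat.isTrivialRelation_of_sum_smul_eq_zero (R := R) h1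
    refine ⟨n, c, fun j => Ring.DirectLimit.of G (fun i j h => f i j h) l' (z j), fun a => ?_, hc⟩
    rw [← hy a, ← Ring.DirectLimit.of_f hkl, show f k l' hkl (y a) = ∑ j, c a j • z j from hxz a, map_sum]
    exact Finset.sum_congr rfl fun j _ => by rw [Algebra.smul_def, map_mul, ← hij, ← Algebra.smul_def]
  refine (RingHom.faithfullyFlat_algebraMap_iff
    (R := R) (S := Ring.DirectLimit G fun i j h => f i j h)).mpr ?_
  refine { submodule_ne_top := fun m hm htop => ?_ }
  rw [Ideal.smul_top_eq_map, Submodule.restrictScalars_eq_top_iff, Ideal.eq_top_iff_one] at htop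
  have key : ∀ z ∈ m.map (algebraMap R (Ring.DirectLimit G fun i j h => f i j h)),
      ∃ k, ∃ y ∈ m.map (algebraMap R (G k)), Ring.DirectLimit.of G (fun i j h => f i j h) k y = z := by
    intro z hz
    induction hz using Submodule.span_induction with
    | mem z hz =>
      obtain ⟨r, hr, rfl⟩ := hz
      exact ⟨i, _, Ideal.mem_map_of_mem _ hr, (hij i r).symm⟩
    | zero => exact ⟨i, 0, zero_mem _, map_zero _⟩
    | add a b _ _ ha hb =>
      obtain ⟨ka, ya, hya, rfl⟩ := ha
      obtain ⟨kb, yb, hyb, rfl⟩ := hb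
      obtain ⟨l, hal, hbl⟩ := exists_ge_ge ka kb
      refine ⟨l, f ka l hal ya + f kb l hbl yb, add_mem ?_ ?_, by
        rw [map_add, Ring.DirectLimit.of_f, Ring.DirectLimit.of_f]⟩
      · have := Ideal.mem_map_of_mem (f ka l hal) hya
        rwa [Ideal.map_map, hcompat] at this
      · have := Ideal.mem_map_of_mem (f kb l hbl) hyb
        rwa [Ideal.map_map, hcompat] at this
    | smul c z _ hz =>
      obtain ⟨kz, yz, hyz, rfl⟩ := hz
      obtain ⟨kc, yc, rfl⟩ := Ring.DirectLimit.exists_of c
      obtain ⟨l, hzl, hcl⟩ := exists_ge_ge kz kc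
      refine ⟨l, f kc l hcl yc * f kz l hzl yz, Ideal.mul_mem_left _ _ ?_, by
        rw [map_mul, Ring.DirectLimit.of_f, Ring.DirectLimit.of_f, smul_eq_mul]⟩
      have := Ideal.mem_map_of_mem (f kz l hzl) hyz
      rwa [Ideal.map_map, hcompat] at this
  obtain ⟨k, y, hy, hyz⟩ := key 1 htop
  obtain ⟨l, hkl, hl⟩ := Ring.DirectLimit.of.zero_exact (x := y - 1) (by rw [map_sub, map_one, hyz, sub_self])
  rw [map_sub, map_one, sub_eq_zero] at hl
  have h1 := Ideal.mem_map_of_mem (f k l hkl) hy
  rw [Ideal.map_map, hcompat, hl] at h1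
  refine Module.FaithfullyFlat.submodule_ne_top (R := R) (M := G l) hm ?_
  rw [Ideal.smul_top_eq_map, Submodule.restrictScalars_eq_top_iff, Ideal.eq_top_iff_one]
  exact h1

end Groth.Agent.S6321
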