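import Groth.Statements.S6322
import Mathlib
import Groth.Agent.H83.KProj.Lift

set_option autoImplicit false
universe u
open CategoryTheory
open CAlg

namespace Groth.Agent.S6322

/-- Let R be a ring, M → N a map of R-modules, N• → N a resolution (a chain complex with a
quasi-isomorphism onto N placed in degree 0) and … → F₁ → F₀ → M a complex with every Fᵢ free (F• a
chain complex with an augmentation to M in degree 0, exactness not required). Then (1) there is a
map of complexes F• → N• compatible with M → N through the augmentations, and (2) any two such maps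
are homotopic. -/
theorem result (R : Type u) [CommRing R] (M N : ModuleCat.{u} R) (g : M ⟶ N) (F Nc : ChainComplex (ModuleCat.{u} R) ℕ) (hF : ∀ i, Module.Free R (F.X i)) (εF : F ⟶ (ChainComplex.single₀ (ModuleCat.{u} R)).obj M) (εN : Nc ⟶ (ChainComplex.single₀ (ModuleCat.{u} R)).obj N) [QuasiIso εN] : (∃ φ : F ⟶ Nc, φ ≫ εN = εF ≫ (ChainComplex.single₀ (ModuleCat.{u} R)).map g) ∧ ∀ α β : F ⟶ Nc, α ≫ εN = εF ≫ (ChainComplex.single₀ (ModuleCat.{u} R)).map g → β ≫ εN = εF ≫ (ChainComplex.single₀ (ModuleCat.{u} R)).map g → Nonempty (Homotopy α β) := by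
  haveI : ∀ i, Projective (F.X i) := fun i => ModuleCat.projective_of_free (Module.Free.chooseBasis R (F.X i))
  let e := ComplexShape.embeddingDownNat
  haveI : QuasiIso (HomologicalComplex.extendMap εN e) := (HomologicalComplex.quasiIso_extendMap_iff _ _).mpr inferInstance
  refine ⟨?_, fun α β hα hβ => ?_⟩
  · let t := εF ≫ (ChainComplex.single₀ (ModuleCat.{u} R)).map g
    obtain ⟨q, hq⟩ := (Groth.Agent.H83.KProj.quotient_comp_bijective (P := F.extend e) (HomologicalComplex.extendMap εN e)).surjective
      ((HomotopyCategory.quotient _ _).map (HomologicalComplex.extendMap t e))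
    obtain ⟨ψ', rfl⟩ := (HomotopyCategory.quotient _ _).map_surjective q
    obtain ⟨ψ, rfl⟩ := (e.extendFunctor (ModuleCat.{u} R)).map_surjective ψ'
    dsimp only [ComplexShape.Embedding.extendFunctor_map] at hq
    have hq' : (HomotopyCategory.quotient _ _).map (HomologicalComplex.extendMap (ψ ≫ εN) e) =
        (HomotopyCategory.quotient _ _).map (HomologicalComplex.extendMap t e) := by
      rw [HomologicalComplex.extendMap_comp, Functor.map_comp]
      exact hq
    let h := Homotopy.ofExtend (HomotopyCategory.homotopyOfEq _ _ hq')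
    have h0 : h.hom = fun _ _ => 0 := by
      funext i j
      by_cases hij : (ComplexShape.down ℕ).Rel j i
      · have hj : j ≠ 0 := by simp only [ComplexShape.down_Rel] at hij; omega
        exact (HomologicalComplex.isZero_single_obj_X _ _ _ _ hj).eq_of_tgt _ _
      · exact h.zero i j hij
    refine ⟨ψ, HomologicalComplex.hom_ext _ _ fun i => ?_⟩
    have hc := h.comm i
    rw [h0] at hc
    simpa [t, dNext, prevD] using hc
  · obtain ⟨h⟩ := Groth.Agent.H83.KProj.homotopic_of_comp_eq (P := F.extend e) (HomologicalComplex.extendMap εN e)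
      (HomologicalComplex.extendMap α e) (HomologicalComplex.extendMap β e)
      (by rw [← HomologicalComplex.extendMap_comp, ← HomologicalComplex.extendMap_comp, hα, hβ])
    exact ⟨h.ofExtend⟩

end Groth.Agent.S6322
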