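import Groth.Statements.S6324
import Mathlib

set_option autoImplicit false
universe u
open CAlg

namespace Groth.Agent.S6324

/-- Let R → S be a ring map, I ⊆ R an ideal and A = Σ Iⁿtⁿ ⊆ R[t] the Rees algebra of I. For s ∈ S,
being integral over I is equivalent to s·t ∈ S[t] being integral over A (via A ⊆ R[t] → S[t]). -/
theorem result {R S : Type u} [CommRing R] [CommRing S] [Algebra R S] (I : Ideal R) (s : S) : W4stkalgebra1.IsIntegralOverIdeal I s ↔ ((Polynomial.mapRingHom (algebraMap R S)).comp (reesAlgebra I).val.toRingHom).IsIntegralElem (Polynomial.C s * Polynomial.X) := by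
  classical
  set ψ := ((Polynomial.mapRingHom (algebraMap R S)).comp (reesAlgebra I).val.toRingHom) with hψ
  have hψC : ∀ (x : reesAlgebra I), ψ x = (x : Polynomial R).map (algebraMap R S) := fun x => rfl
  have hterm : ∀ (a : S) (m j : ℕ), Polynomial.C a * Polynomial.X ^ m * (Polynomial.C s * Polynomial.X) ^ j =
      Polynomial.C (a * s ^ j) * Polynomial.X ^ (m + j) := fun a m j => by
    rw [mul_pow, ← Polynomial.C_pow, map_mul, pow_add]; ring
  constructor
  · rintro ⟨P, hP, hcoef, h0⟩
    set n := P.natDegree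
    have hmem : ∀ j : ℕ, Polynomial.monomial (n - j) (P.coeff j) ∈ reesAlgebra I := fun j =>
      reesAlgebra.monomial_mem.mpr (by
        by_cases hj : j < n
        · exact hcoef j hj
        · rw [Nat.sub_eq_zero_of_le (not_lt.mp hj), pow_zero, Ideal.one_eq_top]; trivial)
    refine ⟨Polynomial.X ^ n + ∑ j ∈ Finset.range n, Polynomial.C ⟨_, hmem j⟩ * Polynomial.X ^ j, ?_, ?_⟩
    · refine Polynomial.monic_X_pow_add (lt_of_le_of_lt (Polynomial.degree_sum_le _ _) ?_)
      rw [Finset.sup_lt_iff (WithBot.bot_lt_coe _)]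
      exact fun j hj => (Polynomial.degree_C_mul_X_pow_le _ _).trans_lt (WithBot.coe_lt_coe.mpr (Finset.mem_range.mp hj))
    · rw [Polynomial.eval₂_add, Polynomial.eval₂_X_pow, Polynomial.eval₂_finsetSum]
      have he : ∀ j ∈ Finset.range n, Polynomial.eval₂ ψ (Polynomial.C s * Polynomial.X)
          (Polynomial.C (⟨_, hmem j⟩ : reesAlgebra I) * Polynomial.X ^ j) =
            Polynomial.C (algebraMap R S (P.coeff j) * s ^ j) * Polynomial.X ^ n := fun j hj => by
        rw [Polynomial.eval₂_mul, Polynomial.eval₂_C, Polynomial.eval₂_X_pow, hψC, Polynomial.map_monomial,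
          ← Polynomial.C_mul_X_pow_eq_monomial, hterm, Nat.sub_add_cancel (Finset.mem_range.mp hj).le]
      rw [Finset.sum_congr rfl he, ← Finset.sum_mul, mul_pow, ← Polynomial.C_pow, ← map_sum, ← add_mul, ← map_add]
      rw [Polynomial.eval₂_eq_sum_range, Finset.sum_range_succ, hP.coeff_natDegree, map_one, one_mul, add_comm] at h0
      rw [h0, map_zero, zero_mul]
  · rintro ⟨Q, hQ, h0⟩
    rcases subsingleton_or_nontrivial R with hR | hR
    · haveI : Subsingleton S := (algebraMap R S).codomain_trivial
      exact ⟨1, Polynomial.monic_one, fun j hj => absurd hj (by simp), Subsingleton.elim _ _⟩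
    set n := Q.natDegree
    let c : ℕ → R := fun j => (Q.coeff j : Polynomial R).coeff (n - j)
    have hdeg : (∑ j ∈ Finset.range n, Polynomial.C (c j) * Polynomial.X ^ j).degree < (n : WithBot ℕ) := by
      refine lt_of_le_of_lt (Polynomial.degree_sum_le _ _) ?_
      rw [Finset.sup_lt_iff (WithBot.bot_lt_coe _)]
      exact fun j hj => (Polynomial.degree_C_mul_X_pow_le _ _).trans_lt (WithBot.coe_lt_coe.mpr (Finset.mem_range.mp hj))
    set P := Polynomial.X ^ n + ∑ j ∈ Finset.range n, Polynomial.C (c j) * Polynomial.X ^ j with hP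
    have hnd : P.natDegree = n := by
      refine Polynomial.natDegree_eq_of_degree_eq_some ?_
      rw [hP, Polynomial.degree_add_eq_left_of_degree_lt (by rwa [Polynomial.degree_X_pow]), Polynomial.degree_X_pow]
    refine ⟨P, Polynomial.monic_X_pow_add hdeg, fun j hj => ?_, ?_⟩
    · rw [hnd] at hj ⊢
      rw [hP, Polynomial.coeff_add, Polynomial.coeff_X_pow, if_neg hj.ne, zero_add, Polynomial.finsetSum_coeff]
      simp only [Polynomial.coeff_C_mul_X_pow]
      rw [Finset.sum_ite_eq, if_pos (Finset.mem_range.mpr hj)]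
      exact (mem_reesAlgebra_iff I _).mp (Q.coeff j).2 (n - j)
    · have h1 := congrArg (fun G : Polynomial S => G.coeff n) h0
      simp only [Polynomial.coeff_zero] at h1
      rw [Polynomial.eval₂_eq_sum_range, Finset.sum_range_succ, hQ.coeff_natDegree, map_one, one_mul,
        Polynomial.coeff_add, Polynomial.finsetSum_coeff, mul_pow, ← Polynomial.C_pow, Polynomial.coeff_C_mul_X_pow,
        if_pos rfl, add_comm] at h1
      rw [hP, Polynomial.eval₂_add, Polynomial.eval₂_X_pow, Polynomial.eval₂_finsetSum]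
      refine Eq.trans ?_ h1
      congr 1
      refine Finset.sum_congr rfl fun j hj => ?_
      rw [Polynomial.eval₂_mul, Polynomial.eval₂_C, Polynomial.eval₂_X_pow, hψC, mul_pow, ← mul_assoc, ← Polynomial.C_pow,
        Polynomial.coeff_mul_X_pow', if_pos (Finset.mem_range.mp hj).le, Polynomial.coeff_mul_C, Polynomial.coeff_map]

end Groth.Agent.S6324
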