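import Groth.Statements.S6325
import Groth.Agent.S6324

set_option autoImplicit false
universe u
open CAlg

namespace Groth.Agent.S6325

/-- Let R → S be a ring map and I ⊆ R an ideal. The elements of S integral over I form an R-submodule of
S; moreover, the product s s' is integral over I for any s ∈ S integral over R and any s' ∈ S
integral over I. -/
theorem result {R S : Type u} [CommRing R] [CommRing S] [Algebra R S] (I : Ideal R) : (∃ N : Submodule R S, ∀ s : S, s ∈ N ↔ W4stkalgebra1.IsIntegralOverIdeal I s) ∧ (∀ s s' : S, IsIntegral R s → W4stkalgebra1.IsIntegralOverIdeal I s' → W4stkalgebra1.IsIntegralOverIdeal I (s * s')) := by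
  set ψ := (Polynomial.mapRingHom (algebraMap R S)).comp (reesAlgebra I).val.toRingHom
  have iff' : ∀ s : S, W4stkalgebra1.IsIntegralOverIdeal I s ↔ ψ.IsIntegralElem (Polynomial.C s * Polynomial.X) :=
    fun s => Groth.Agent.S6324.result I s
  have hC : ∀ r : R, ψ.IsIntegralElem (Polynomial.C (algebraMap R S r)) := fun r => by
    have : (Polynomial.C r : Polynomial R) ∈ reesAlgebra I := (reesAlgebra I).algebraMap_mem r
    have h := ψ.isIntegralElem_map (x := ⟨_, this⟩)
    simpa [ψ] using h
  have hmul : ∀ s s' : S, IsIntegral R s → W4stkalgebra1.IsIntegralOverIdeal I s' → W4stkalgebra1.IsIntegralOverIdeal I (s * s') := by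
    intro s s' hs hs'
    rw [iff'] at hs' ⊢
    rw [map_mul, mul_assoc]
    refine RingHom.IsIntegralElem.mul ψ ?_ hs'
    obtain ⟨p, hp, hp0⟩ := hs
    let ι : R →+* reesAlgebra I := algebraMap R (reesAlgebra I)
    refine ⟨p.map ι, hp.map _, ?_⟩
    rw [Polynomial.eval₂_map, show ψ.comp ι = (Polynomial.C : S →+* Polynomial S).comp (algebraMap R S) by
      ext r; simp [ψ, ι], ← Polynomial.hom_eval₂, hp0, map_zero]
  refine ⟨⟨{ carrier := {s | W4stkalgebra1.IsIntegralOverIdeal I s}, add_mem' := ?_, zero_mem' := ?_, smul_mem' := ?_ }, fun s => Iff.rfl⟩, hmul⟩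
  · intro s t hs ht
    rw [Set.mem_setOf_eq, iff'] at *
    rw [map_add, add_mul]
    exact RingHom.IsIntegralElem.add ψ hs ht
  · rw [Set.mem_setOf_eq, iff', map_zero, zero_mul]
    exact ψ.isIntegralElem_zero
  · intro r s hs
    rw [Set.mem_setOf_eq] at *
    rw [Algebra.smul_def]
    exact hmul _ _ isIntegral_algebraMap hs

end Groth.Agent.S6325
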