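import Groth.Statements.S6326
import Mathlib.Algebra.Category.ModuleCat.Colimits
import Mathlib.CategoryTheory.Limits.Types.Filtered
import Mathlib.CategoryTheory.Filtered.Basic
-- import your own Groth.Agent.* helpers here

set_option autoImplicit false
universe u
open CategoryTheory CategoryTheory.Limits
open CAlg

namespace Groth.Agent.S6326

/-- Finitely generated submodules. -/
abbrev J (R : Type u) [CommRing R] (N : Type u) [AddCommGroup N] [Module R N] : Type u :=
  {P : Submodule R N // P.FG}

instance isDirectedJ (R : Type u) [CommRing R] (N : Type u) [AddCommGroup N] [Module R N] :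
    IsDirectedOrder (J R N) :=
  ⟨fun a b => ⟨⟨a.1 ⊔ b.1, Submodule.FG.sup a.2 b.2⟩, (le_sup_left : a.1 ≤ a.1 ⊔ b.1), (le_sup_right : b.1 ≤ a.1 ⊔ b.1)⟩⟩

instance nonemptyJ (R : Type u) [CommRing R] (N : Type u) [AddCommGroup N] [Module R N] :
    Nonempty (J R N) := ⟨⟨⊥, Submodule.fg_bot⟩⟩

/-- The diagram `P ↦ N ⧸ P`. -/
def quotDiag (R : Type u) [CommRing R] (N : Type u) [AddCommGroup N] [Module R N] :
    J R N ⥤ ModuleCat.{u} R where
  obj P := ModuleCat.of R (N ⧸ P.1)
  map {P Q} f := ModuleCat.ofHom (Submodule.mapQ P.1 Q.1 LinearMap.id (leOfHom f))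
  map_id P := by ext x; rfl
  map_comp {P Q T} f g := by ext x; rfl

/-- Let R be a ring and N an R-module such that whenever M is the colimit of a filtered diagram (Mᵢ) of
R-modules (indexed by a filtered category in the same universe), the comparison map colim Hom_R(N,
Mᵢ) → Hom_R(N, M) is injective. Then N is finitely generated. (The implication from finite
generation back to this injectivity also holds; only the characterizing direction is stated here.) -/
theorem result (R : Type u) [CommRing R] (N : Type u) [AddCommGroup N] [Module R N] (h : ∀ (J : Type u) [SmallCategory J] [IsFiltered J] (F : J ⥤ ModuleCat.{u} R), Function.Injective (colimit.post F (coyoneda.obj (Opposite.op (ModuleCat.of R N))))) : Module.Finite R N := by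
  let F := quotDiag R N
  let G := coyoneda.obj (Opposite.op (ModuleCat.of R N))
  let P₀ : J R N := ⟨⊥, Submodule.fg_bot⟩
  let a : (F ⋙ G).obj P₀ := ModuleCat.ofHom (Submodule.mkQ P₀.1)
  let b : (F ⋙ G).obj P₀ := ModuleCat.ofHom 0
  have key : ∀ x : N, (colimit.ι F P₀).hom (Submodule.Quotient.mk x) = 0 := by
    intro x
    let Q : J R N := ⟨Submodule.span R {x}, Submodule.fg_span_singleton x⟩
    have hle : P₀ ⟶ Q := homOfLE (show P₀.1 ≤ Q.1 from bot_le)
    have h1 : (Submodule.mapQ P₀.1 Q.1 LinearMap.id (leOfHom hle)) (Submodule.Quotient.mk x) = 0 := by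
      rw [Submodule.mapQ_apply, Submodule.Quotient.mk_eq_zero]
      exact Submodule.mem_span_singleton_self x
    rw [← colimit.w F hle]
    show (colimit.ι F Q).hom ((Submodule.mapQ P₀.1 Q.1 LinearMap.id (leOfHom hle)) (Submodule.Quotient.mk x)) = 0
    rw [h1]; exact map_zero _
  have hab : colimit.ι (F ⋙ G) P₀ a = colimit.ι (F ⋙ G) P₀ b := by
    apply h (J R N) F
    have e1 := ConcreteCategory.congr_hom (colimit.ι_post F G P₀) a
    have e2 := ConcreteCategory.congr_hom (colimit.ι_post F G P₀) b
    refine e1.trans (Eq.trans ?_ e2.symm)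
    show a ≫ colimit.ι F P₀ = b ≫ colimit.ι F P₀
    ext x
    show (colimit.ι F P₀).hom (Submodule.Quotient.mk x) = (colimit.ι F P₀).hom 0
    rw [key]; exact (map_zero _).symm
  obtain ⟨Q, f, g, hfg⟩ := (Types.FilteredColimit.colimit_eq_iff (F ⋙ G)).mp hab
  refine ⟨?_⟩
  have htop : Q.1 = ⊤ := by
    rw [Submodule.eq_top_iff']
    intro x
    have h2 := congrArg (fun φ => (ModuleCat.Hom.hom φ) x) hfg
    rw [← Submodule.Quotient.mk_eq_zero]
    exact h2
  exact htop ▸ Q.2

end Groth.Agent.S6326
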