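import Groth.Statements.S6327
import Mathlib.Algebra.Category.ModuleCat.FilteredColimits
import Mathlib.Algebra.Category.ModuleCat.Colimits
import Mathlib.Algebra.Module.FinitePresentation
import Mathlib.CategoryTheory.Limits.Types.Filtered
import Mathlib.CategoryTheory.Limits.ConcreteCategory.Basic
import Mathlib.CategoryTheory.Filtered.Basic
import Groth.Agent.S6326
-- import your own Groth.Agent.* helpers here

set_option autoImplicit false
universe u
open CategoryTheory CategoryTheory.Limits
open CAlg

namespace Groth.Agent.S6327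

variable {R : Type u} [CommRing R] {F : Type u} [AddCommGroup F] [Module R F]

/-- Finitely generated submodules of `K`. -/
abbrev J (K : Submodule R F) : Type u := {P : Submodule R F // P.FG ∧ P ≤ K}

instance isDirectedJ (K : Submodule R F) : IsDirectedOrder (J K) :=
  ⟨fun a b => ⟨⟨a.1 ⊔ b.1, Submodule.FG.sup a.2.1 b.2.1, sup_le a.2.2 b.2.2⟩, (le_sup_left : a.1 ≤ a.1 ⊔ b.1), (le_sup_right : b.1 ≤ a.1 ⊔ b.1)⟩⟩

instance nonemptyJ (K : Submodule R F) : Nonempty (J K) := ⟨⟨⊥, Submodule.fg_bot, bot_le⟩⟩

/-- The diagram `P ↦ F ⧸ P`. -/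
def quotDiag (K : Submodule R F) : J K ⥤ ModuleCat.{u} R where
  obj P := ModuleCat.of R (F ⧸ P.1)
  map {P Q} f := ModuleCat.ofHom (Submodule.mapQ P.1 Q.1 LinearMap.id (leOfHom f))
  map_id P := by ext x; rfl
  map_comp {P Q T} f g := by ext x; rfl

/-- Let R be a ring and N an R-module such that whenever M is the colimit of a filtered diagram (Mᵢ) of
R-modules (indexed by a filtered category in the same universe), the comparison map colim Hom_R(N,
Mᵢ) → Hom_R(N, M) is bijective. Then N is finitely presented. (The implication from finite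
presentation back to this bijectivity also holds; only the characterizing direction is stated here.) -/
theorem result (R : Type u) [CommRing R] (N : Type u) [AddCommGroup N] [Module R N] (h : ∀ (J : Type u) [SmallCategory J] [IsFiltered J] (F : J ⥤ ModuleCat.{u} R), Function.Bijective (colimit.post F (coyoneda.obj (Opposite.op (ModuleCat.of R N))))) : Module.FinitePresentation R N := by
  have hfin : Module.Finite R N := Groth.Agent.S6326.result R N fun J _ _ F => (h J F).1
  obtain ⟨n, π, hπ⟩ := Module.Finite.exists_fin' R N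
  let K := LinearMap.ker π
  let D := quotDiag K
  let G := coyoneda.obj (Opposite.op (ModuleCat.of R N))
  let P₀ : J K := ⟨⊥, Submodule.fg_bot, bot_le⟩
  let ι₀ : (Fin n → R) →ₗ[R] (colimit D : ModuleCat.{u} R) := (colimit.ι D P₀).hom.comp P₀.1.mkQ
  have hι : ∀ (Q : J K) (x : Fin n → R), (colimit.ι D Q).hom (Submodule.Quotient.mk x) = ι₀ x := by
    intro Q x
    have hle : P₀ ⟶ Q := homOfLE (show P₀.1 ≤ Q.1 from bot_le)
    show _ = (colimit.ι D P₀).hom (Submodule.Quotient.mk x)
    rw [← colimit.w D hle]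
    rfl
  have hker : LinearMap.ker π ≤ LinearMap.ker ι₀ := by
    intro x hx
    let Q : J K := ⟨Submodule.span R {x}, Submodule.fg_span_singleton x, (Submodule.span_singleton_le_iff_mem x K).mpr hx⟩
    rw [LinearMap.mem_ker, ← hι Q x,
      (Submodule.Quotient.mk_eq_zero Q.1).mpr (Submodule.mem_span_singleton_self x)]
    exact map_zero _
  let φ : N →ₗ[R] (colimit D : ModuleCat.{u} R) :=
    ((LinearMap.ker π).liftQ ι₀ hker).comp (π.quotKerEquivOfSurjective hπ).symm.toLinearMap
  have hφ : ∀ x, φ (π x) = ι₀ x := by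
    intro x
    show ((LinearMap.ker π).liftQ ι₀ hker) ((π.quotKerEquivOfSurjective hπ).symm (π x)) = ι₀ x
    rw [show (π.quotKerEquivOfSurjective hπ).symm (π x) = Submodule.Quotient.mk x from
      (LinearEquiv.symm_apply_eq _).mpr (by simp)]
    rfl
  obtain ⟨t, ht⟩ := (h (J K) D).2 (ModuleCat.ofHom φ)
  obtain ⟨Q, s, rfl⟩ := Types.jointly_surjective' t
  have hs : ∀ y : N, (colimit.ι D Q).hom ((ModuleCat.Hom.hom s) y) = φ y := by
    intro y
    have e := (ConcreteCategory.congr_hom (colimit.ι_post D G Q) s).symm.trans ht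
    exact congrArg (fun ψ => (ModuleCat.Hom.hom ψ) y) e
  -- two maps `R^n → D Q` agreeing in the colimit
  let e : Fin n → (Fin n → R) := fun i => Pi.single i 1
  have hev : ∀ i, ∃ (k : J K) (f : Q ⟶ k),
      (D.map f).hom ((ModuleCat.Hom.hom s) (π (e i))) = (D.map f).hom (Submodule.Quotient.mk (e i)) := by
    intro i
    obtain ⟨k, f, g, hk⟩ := Concrete.colimit_exists_of_rep_eq D (i := Q) (j := Q)
      ((ModuleCat.Hom.hom s) (π (e i))) (Submodule.Quotient.mk (e i)) (by
        show (colimit.ι D Q).hom _ = (colimit.ι D Q).hom _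
        rw [hs, hφ, hι])
    exact ⟨k, f, hk.trans (by rw [Subsingleton.elim g f])⟩
  choose k f hk using hev
  obtain ⟨m, hm⟩ := (Finset.univ.image k ∪ {Q}).exists_le
  have hQm : Q ≤ m := hm Q (by simp)
  let s' : N →ₗ[R] (Fin n → R) ⧸ m.1 := (D.map (homOfLE hQm)).hom.comp (ModuleCat.Hom.hom s)
  have hcomp : s'.comp π = m.1.mkQ := by
    refine (Pi.basisFun R (Fin n)).ext fun i => ?_
    rw [Pi.basisFun_apply]
    have hki : k i ≤ m := hm (k i) (by simp)
    have h1 := congrArg (D.map (homOfLE hki)).hom (hk i)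
    have h2 : ∀ z, (D.map (homOfLE hki)).hom ((D.map (f i)).hom z) = (D.map (homOfLE hQm)).hom z := fun z => by
      rw [show homOfLE hQm = f i ≫ homOfLE hki from Subsingleton.elim _ _, D.map_comp]
      rfl
    rw [h2, h2] at h1
    exact h1
  refine Module.finitePresentation_of_surjective π hπ ?_
  have : LinearMap.ker π = m.1 := le_antisymm (fun x hx => by
    have h3 := LinearMap.congr_fun hcomp x
    rw [LinearMap.comp_apply, LinearMap.mem_ker.mp hx, map_zero] at h3
    exact (Submodule.Quotient.mk_eq_zero _).mp h3.symm) m.2.2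
  rw [this]
  exact m.2.1

end Groth.Agent.S6327
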