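import Groth.Statements.S6328
import Mathlib.Algebra.Colimit.Module
import Mathlib.LinearAlgebra.Quotient.Basic
import Mathlib.Algebra.Module.FinitePresentation
import Mathlib.RingTheory.Finiteness.Finsupp
import Mathlib.LinearAlgebra.Finsupp.LinearCombination
import Mathlib.LinearAlgebra.Finsupp.Supported

set_option autoImplicit false
universe u
open CAlg

namespace Groth.Agent.S6328

theorem aux (R : Type u) [CommRing R] (M : Type u) [AddCommGroup M] [Module R M] (V : Type u)
    [AddCommGroup V] [Module R V] (π : V →ₗ[R] M) (σ : Finset M → Submodule R V) (hσ : Monotone σ)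
    (hfree : ∀ t, Module.Free R (σ t)) (hfinite : ∀ t, Module.Finite R (σ t))
    (hsurj : ∀ m, ∃ t, ∃ v ∈ σ t, π v = m) : ∃ (ι : Type u) (_ : Preorder ι) (_ : IsDirected ι (· ≤ ·)) (_ : Nonempty ι) (_ : DecidableEq ι) (G : ι → Type u) (_ : ∀ i, AddCommGroup (G i)) (_ : ∀ i, Module R (G i)) (f : ∀ i j, i ≤ j → G i →ₗ[R] G j) (_ : DirectedSystem G fun i j h => f i j h), (∀ i, Module.FinitePresentation R (G i)) ∧ Nonempty (Module.DirectLimit G f ≃ₗ[R] M) := by
  classical
  let ι := {p : Finset M × Finset V //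
    ∀ t ∈ p.2, t ∈ σ p.1 ∧ π t = 0}
  letI : DecidableEq ι := Classical.decEq ι
  let F : ι → Submodule R V := fun i => σ i.1.1
  let K : ∀ i : ι, Submodule R (F i) := fun i =>
    (Submodule.span R (i.1.2 : Set V)).comap (F i).subtype
  let G : ι → Type u := fun i => F i ⧸ K i
  have hmono : ∀ i j : ι, i ≤ j → F i ≤ F j := fun i j h => hσ h.1
  let f : ∀ i j : ι, i ≤ j → (F i ⧸ K i) →ₗ[R] (F j ⧸ K j) := fun i j h =>
    Submodule.mapQ _ _ (Submodule.inclusion (hmono i j h)) fun x hx =>
      Submodule.span_mono (Finset.coe_subset.mpr h.2) (show (x : V) ∈ _ from hx)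
  have hdir : IsDirected ι (· ≤ ·) := ⟨fun i j => ⟨⟨(i.1.1 ∪ j.1.1, i.1.2 ∪ j.1.2), fun t ht => by
      rcases Finset.mem_union.mp ht with h | h
      · exact ⟨hσ Finset.subset_union_left (i.2 t h).1, (i.2 t h).2⟩
      · exact ⟨hσ Finset.subset_union_right (j.2 t h).1, (j.2 t h).2⟩⟩,
    ⟨Finset.subset_union_left, Finset.subset_union_left⟩,
    ⟨Finset.subset_union_right, Finset.subset_union_right⟩⟩⟩
  have hne : Nonempty ι := ⟨⟨(∅, ∅), by simp⟩⟩
  have hds : DirectedSystem (fun i => F i ⧸ K i) fun i j h => f i j h :=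
    ⟨fun i x => by obtain ⟨x, rfl⟩ := Submodule.Quotient.mk_surjective _ x; rfl,
     fun i j k hij hjk x => by obtain ⟨x, rfl⟩ := Submodule.Quotient.mk_surjective _ x; rfl⟩
  have hfp : ∀ i, Module.FinitePresentation R (F i ⧸ K i) := fun i => by
    haveI := hfree i.1.1
    haveI := hfinite i.1.1
    have : Module.FinitePresentation R (F i) := Module.finitePresentation_of_projective R _
    refine Module.finitePresentation_of_surjective (K i).mkQ (Submodule.mkQ_surjective _) ?_
    rw [Submodule.ker_mkQ]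
    refine (Submodule.fg_map_iff _ (F i).subtype_injective).mp ?_
    rw [Submodule.map_comap_subtype, inf_eq_right.mpr (Submodule.span_le.mpr fun t ht => (i.2 t ht).1)]
    exact Submodule.fg_span i.1.2.finite_toSet
  refine ⟨ι, inferInstance, hdir, hne, inferInstance, fun i => F i ⧸ K i, inferInstance,
    inferInstance, f, hds, hfp, ?_⟩
  let g : ∀ i : ι, (F i ⧸ K i) →ₗ[R] M := fun i => (K i).liftQ (π.comp (F i).subtype) fun x hx => by
    have : Submodule.span R (i.1.2 : Set V) ≤ LinearMap.ker π :=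
      Submodule.span_le.mpr fun t ht => (i.2 t ht).2
    exact this hx
  haveI := hdir
  haveI := hne
  haveI := hds
  let L := Module.DirectLimit.lift R ι (fun i => F i ⧸ K i) f g fun i j hij x => by
    obtain ⟨x, rfl⟩ := Submodule.Quotient.mk_surjective _ x; rfl
  refine ⟨LinearEquiv.ofBijective L ⟨?_, fun m => ?_⟩⟩
  · rw [injective_iff_map_eq_zero]
    intro z hz
    obtain ⟨i, x, rfl⟩ := Module.DirectLimit.exists_of z
    obtain ⟨x, rfl⟩ := Submodule.Quotient.mk_surjective _ x
    rw [Module.DirectLimit.lift_of] at hz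
    let j : ι := ⟨(i.1.1, insert (x : V) i.1.2), fun t ht => by
      rcases Finset.mem_insert.mp ht with rfl | h
      · exact ⟨x.2, hz⟩
      · exact i.2 t h⟩
    have hij : i ≤ j := ⟨subset_rfl, Finset.subset_insert _ _⟩
    rw [← Module.DirectLimit.of_f (hij := hij)]
    have : f i j hij (Submodule.Quotient.mk x) = 0 := by
      refine (Submodule.Quotient.mk_eq_zero _).mpr ?_
      exact Submodule.subset_span (Finset.mem_insert_self _ _)
    rw [this, map_zero]
  · obtain ⟨t, v, hv, hvm⟩ := hsurj m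
    refine ⟨Module.DirectLimit.of R ι (fun i => F i ⧸ K i) f ⟨(t, ∅), by simp⟩
      (Submodule.Quotient.mk ⟨v, hv⟩), ?_⟩
    rw [Module.DirectLimit.lift_of]
    exact hvm

/-- Every module M over a ring R can be written as the direct limit of a directed system (Mᵢ, μᵢⱼ) of
finitely presented R-modules. -/
theorem result (R : Type u) [CommRing R] (M : Type u) [AddCommGroup M] [Module R M] : ∃ (ι : Type u) (_ : Preorder ι) (_ : IsDirected ι (· ≤ ·)) (_ : Nonempty ι) (_ : DecidableEq ι) (G : ι → Type u) (_ : ∀ i, AddCommGroup (G i)) (_ : ∀ i, Module R (G i)) (f : ∀ i j, i ≤ j → G i →ₗ[R] G j) (_ : DirectedSystem G fun i j h => f i j h), (∀ i, Module.FinitePresentation R (G i)) ∧ Nonempty (Module.DirectLimit G f ≃ₗ[R] M) := by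
  classical
  refine aux R M (M →₀ R) (Finsupp.linearCombination R (id : M → M))
    (fun t => Finsupp.supported R R (t : Set M))
    (fun s t h => Finsupp.supported_mono (Finset.coe_subset.mpr h))
    (fun t => Module.Free.of_equiv (Finsupp.supportedEquivFinsupp _).symm)
    (fun t => Module.Finite.equiv (Finsupp.supportedEquivFinsupp _).symm) fun m => ?_
  exact ⟨{m}, Finsupp.single m 1, Finsupp.single_mem_supported R 1 (by simp),
    (Finsupp.linearCombination_single R (1 : R) m).trans (one_smul R m)⟩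

end Groth.Agent.S6328
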