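import Groth.Statements.S6329
import Groth.Agent.Lib.ModelFibre.CutModule

set_option autoImplicit false
universe u
open CAlg

namespace Groth.Agent.S6329

/-- Let R be a ring, M an R-module and 0 = M₀ ⊂ M₁ ⊂ … ⊂ Mₙ = M a maximal chain of submodules (a
composition series; each Mᵢ/Mᵢ₋₁ is simple, of the form R/mᵢ with mᵢ = (Mᵢ₋₁ : Mᵢ) maximal). Then
for every maximal ideal m of R the number of indices i with mᵢ = m equals length_{R_m}(M_m). -/
theorem result {R : Type u} [CommRing R] (M : Type u) [AddCommGroup M] [Module R M] (s : CompositionSeries (Submodule R M)) (h0 : s.head = ⊥) (h1 : s.last = ⊤) (m : Ideal R) [m.IsMaximal] : ((Finset.univ.filter fun i : Fin s.length => (s i.castSucc).colon (s i.succ : Set M) = m).card : ℕ∞) = Module.length (Localization.AtPrime m) (LocalizedModule m.primeCompl M) := by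
  classical
  let S := m.primeCompl
  let Rm := Localization.AtPrime m
  let ln : Submodule R M → ℕ∞ := fun N => Module.length Rm (LocalizedModule S N)
  have hone : ∀ i : Fin s.length, ln (s i.succ) = ln (s i.castSucc) + (if (s i.castSucc).colon (s i.succ : Set M) = m then 1 else 0) := by
    intro i
    have hcov : s i.castSucc ⋖ s i.succ := s.step i
    set N := s i.castSucc
    set N' := s i.succ
    have hle : N ≤ N' := hcov.le
    have hsimple := (covBy_iff_quot_is_simple hle).1 hcov
    let f : N →ₗ[R] N' := Submodule.inclusion hle
    let g := (Submodule.comap N'.subtype N).mkQ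
    have hex : Function.Exact f g := by
      rw [LinearMap.exact_iff, Submodule.ker_mkQ, Submodule.range_inclusion]
    show Module.length Rm (LocalizedModule S N') = Module.length Rm (LocalizedModule S N) + _
    rw [Module.length_eq_add_of_exact (LocalizedModule.map S f) (LocalizedModule.map S g) (LocalizedModule.map_injective S f (Submodule.inclusion_injective hle))
      (LocalizedModule.map_surjective S g (Submodule.mkQ_surjective _)) (LocalizedModule.map_exact S f g hex)]
    congr 1
    obtain ⟨J, hJ, ⟨e⟩⟩ := isSimpleModule_iff_quot_maximal.1 hsimple
    have hcol : N.colon (N' : Set M) = J := by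
      have : Module.annihilator R (N' ⧸ Submodule.comap N'.subtype N) = J := by
        rw [e.annihilator_eq, Ideal.annihilator_quotient]
      rw [← this, Submodule.annihilator_quotient]
      ext r
      simp [Submodule.mem_colon]
    let eL := Groth.Agent.Lib.ModelFibre.CutModule.locEquiv S e
    rw [eL.length_eq, hcol]
    split_ifs with hJm
    · subst hJm
      exact Groth.Agent.Lib.ModelFibre.CutModule.length_localized_self J
    · have : Subsingleton (LocalizedModule S (R ⧸ J)) := by
        have hns : (⟨m, inferInstance⟩ : PrimeSpectrum R) ∉ Module.support R (R ⧸ J) := fun hmem =>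
          hJm (hJ.eq_of_le (Ideal.IsPrime.ne_top inferInstance) (Ideal.annihilator_quotient.ge.trans (Module.annihilator_le_of_mem_support hmem)))
        exact Module.notMem_support_iff.1 hns
      exact Module.length_eq_zero
  have tot : ∀ j : Fin (s.length + 1), ln (s j) = ∑ i ∈ Finset.univ.filter (fun i : Fin s.length => i.castSucc < j),
      (if (s i.castSucc).colon (s i.succ : Set M) = m then 1 else 0) := by
    intro j
    induction j using Fin.induction with
    | zero =>
      have hb : s 0 = ⊥ := h0
      have : Subsingleton (LocalizedModule S (s 0)) := by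
        rw [hb]
        refine ⟨fun a b => ?_⟩
        induction a using LocalizedModule.induction_on with
        | _ a t =>
          induction b using LocalizedModule.induction_on with
          | _ b t' => rw [Subsingleton.elim a 0, Subsingleton.elim b 0, LocalizedModule.zero_mk, LocalizedModule.zero_mk]
      simp [ln, Module.length_eq_zero]
    | succ i ih =>
      rw [hone i, ih, show Finset.univ.filter (fun l : Fin s.length => l.castSucc < i.succ) = insert i (Finset.univ.filter fun l : Fin s.length => l.castSucc < i.castSucc) by
        ext l; simp [Fin.castSucc_lt_succ_iff, le_iff_eq_or_lt], Finset.sum_insert (by simp), add_comm]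
  have hlast := tot (Fin.last _)
  have htop : s (Fin.last _) = ⊤ := h1
  let eT := Groth.Agent.Lib.ModelFibre.CutModule.locEquiv S ((LinearEquiv.ofTop _ htop))
  simp only [ln] at hlast
  rw [eT.length_eq] at hlast
  rw [hlast, Finset.natCast_card_filter]
  simp [Fin.castSucc_lt_last]

end Groth.Agent.S6329
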