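import Groth.Statements.S6331
import Mathlib.Dynamics.Newton
import Mathlib.RingTheory.Ideal.Quotient.Operations
import Mathlib.Algebra.Ring.GeomSum

set_option autoImplicit false
universe u
open CAlg

namespace Groth.Agent.S6331

/-- Let R be a ring, I ⊆ R an ideal all of whose elements are nilpotent, and n ≥ 1 an integer whose
image in R/I is invertible. Then (1) raising to the n-th power is a bijection of the subset 1 + I of
R onto itself: for every y ∈ I there is exactly one x ∈ I with (1 + x)ⁿ = 1 + y; (2) a unit u of R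
has an n-th root in R exactly when the residue class of u has an n-th root in R/I. -/
theorem result {R : Type u} [CommRing R] (I : Ideal R) (hI : ∀ x ∈ I, IsNilpotent x) (n : ℕ) (hn : 1 ≤ n) (hinv : IsUnit ((n : ℕ) : R ⧸ I)) : (∀ y ∈ I, ∃! x : R, x ∈ I ∧ (1 + x) ^ n = 1 + y) ∧ (∀ u : Rˣ, (∃ v : R, v ^ n = (u : R)) ↔ ∃ w : R ⧸ I, w ^ n = Ideal.Quotient.mk I (u : R)) := by
  have hn' : IsUnit (n : R) := by
    obtain ⟨b, hb⟩ := isUnit_iff_exists_inv.mp hinv
    obtain ⟨b, rfl⟩ := Ideal.Quotient.mk_surjective b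
    rw [← map_natCast (Ideal.Quotient.mk I), ← map_mul, ← map_one (Ideal.Quotient.mk I), Ideal.Quotient.eq] at hb
    have := (hI _ hb).isUnit_add_one
    rw [sub_add_cancel] at this
    exact isUnit_of_mul_isUnit_left this
  have hd : ∀ v : R, IsUnit v → ∀ c : R,
      IsUnit (Polynomial.aeval v (Polynomial.derivative (Polynomial.X ^ n - Polynomial.C c))) := by
    intro v hv c
    simpa [Polynomial.derivative_X_pow] using hn'.mul (hv.pow (n - 1))
  refine ⟨fun y hy => ?_, fun u => ⟨fun ⟨v, hv⟩ => ⟨Ideal.Quotient.mk I v, by rw [← map_pow, hv]⟩, ?_⟩⟩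
  · obtain ⟨r, ⟨hr1, hr2⟩, hr3⟩ := Polynomial.existsUnique_nilpotent_sub_and_aeval_eq_zero
      (x := (1 : R)) (P := Polynomial.X ^ n - Polynomial.C (1 + y)) (by simpa using (hI y hy).neg) (hd 1 isUnit_one _)
    have hrn : r ^ n = 1 + y := by simpa [sub_eq_zero] using hr2
    have hrI : r - 1 ∈ I := by
      have hN : IsNilpotent (Ideal.Quotient.mk I r - 1) := by
        rw [← map_one (Ideal.Quotient.mk I), ← map_sub]
        exact ((neg_sub (1 : R) r) ▸ hr1.neg).map _
      have hgeom : (∑ i ∈ Finset.range n, Ideal.Quotient.mk I r ^ i) * (Ideal.Quotient.mk I r - 1) = 0 := by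
        rw [geom_sum_mul, ← map_pow, hrn, map_add, map_one, Ideal.Quotient.eq_zero_iff_mem.mpr hy, add_zero, sub_self]
      have hu : IsUnit (∑ i ∈ Finset.range n, Ideal.Quotient.mk I r ^ i) := by
        have : IsNilpotent ((∑ i ∈ Finset.range n, Ideal.Quotient.mk I r ^ i) - (n : R ⧸ I)) := by
          rw [show ((n : R ⧸ I)) = ∑ _i ∈ Finset.range n, (1 : R ⧸ I) by simp, ← Finset.sum_sub_distrib]
          refine isNilpotent_sum fun i _ => ?_
          rw [← one_pow i (M := R ⧸ I)]
          obtain ⟨c, hc⟩ : (Ideal.Quotient.mk I r - 1) ∣ (Ideal.Quotient.mk I r ^ i - 1 ^ i) := sub_dvd_pow_sub_pow _ _ i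
          simp only [one_pow] at hc ⊢
          rw [hc]
          exact (Commute.all _ _).isNilpotent_mul_right hN
        have h2 := this.isUnit_add_right_of_commute hinv (Commute.all _ _)
        rwa [sub_add_cancel] at h2
      rw [hu.mul_right_eq_zero, ← map_one (Ideal.Quotient.mk I), ← map_sub, Ideal.Quotient.eq_zero_iff_mem] at hgeom
      exact hgeom
    refine ⟨r - 1, ⟨hrI, by rw [add_sub_cancel, hrn]⟩, ?_⟩
    rintro x ⟨hx, hx'⟩
    have := hr3 (1 + x) ⟨by simpa using (hI x hx).neg, by simp [hx']⟩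
    rw [← this, add_sub_cancel_left]
  · rintro ⟨w, hw⟩
    obtain ⟨v, rfl⟩ := Ideal.Quotient.mk_surjective w
    rw [← map_pow, Ideal.Quotient.eq] at hw
    have hv : IsUnit v := by
      have h2 := (hI _ hw).isUnit_add_right_of_commute u.isUnit (Commute.all _ _)
      rw [sub_add_cancel] at h2
      exact (isUnit_pow_iff (by omega)).mp h2
    obtain ⟨r, ⟨-, hr2⟩, -⟩ := Polynomial.existsUnique_nilpotent_sub_and_aeval_eq_zero
      (x := v) (P := Polynomial.X ^ n - Polynomial.C (u : R)) (by simpa using hI _ hw) (hd v hv _)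
    exact ⟨r, by simpa [sub_eq_zero] using hr2⟩

end Groth.Agent.S6331
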