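import Groth.Statements.S6332
import Mathlib.FieldTheory.Galois.Basic
import Mathlib.RingTheory.Trace.Basic
import Mathlib.GroupTheory.SpecificGroups.Cyclic

set_option autoImplicit false
universe u
open Fields

namespace Groth.Agent.S6332

open IntermediateField in
/-- Let L/K be a finite Galois extension of fields of characteristic p > 0 whose degree equals the prime
p (equivalently, the Galois group is cyclic of order p). Then there is an element z of L with z ^ p
- z in K which generates L over K. -/
theorem result {K L : Type u} [Field K] [Field L] [Algebra K L] (p : ℕ)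
    [Fact p.Prime] [CharP K p] [FiniteDimensional K L] [IsGalois K L]
    (hdeg : Module.finrank K L = p) :
    ∃ z : L, z ^ p - z ∈ Set.range (algebraMap K L) ∧ K⟮z⟯ = ⊤ := by
  classical
  have hp : p.Prime := Fact.out
  have hcard : Nat.card (L ≃ₐ[K] L) = p := by rw [IsGalois.card_aut_eq_finrank, hdeg]
  haveI : Nontrivial (L ≃ₐ[K] L) := by
    haveI : Finite (L ≃ₐ[K] L) := Finite.of_fintype _
    rw [← Finite.one_lt_card_iff_nontrivial, hcard]
    exact hp.one_lt
  obtain ⟨σ, hσ⟩ := exists_ne (1 : L ≃ₐ[K] L)
  have hgen : ∀ τ : L ≃ₐ[K] L, τ ∈ Subgroup.zpowers σ := fun τ => by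
    rw [zpowers_eq_top_of_prime_card hcard hσ]
    exact Subgroup.mem_top _
  have hfix : ∀ x : L, σ x = x → x ∈ Set.range (algebraMap K L) := fun x hx => by
    rw [← IntermediateField.mem_bot, IsGalois.mem_bot_iff_fixed]
    intro τ
    obtain ⟨i, rfl⟩ := Subgroup.mem_zpowers_iff.mp (hgen τ)
    have hs : σ ∈ MulAction.stabilizer (L ≃ₐ[K] L) x := hx
    exact (Subgroup.zpow_mem _ hs i : σ ^ i ∈ MulAction.stabilizer (L ≃ₐ[K] L) x)
  let d : L →ₗ[K] L := σ.toLinearMap - LinearMap.id
  have hker : LinearMap.ker d = Submodule.span K {(1 : L)} := by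
    ext x
    simp only [LinearMap.mem_ker, Submodule.mem_span_singleton]
    constructor
    · intro h
      obtain ⟨c, hc⟩ := hfix x (sub_eq_zero.mp h)
      exact ⟨c, by rw [← Algebra.algebraMap_eq_smul_one, hc]⟩
    · rintro ⟨c, rfl⟩
      simp [d]
  have hker1 : Module.finrank K (LinearMap.ker d) = 1 := by
    rw [hker]; exact finrank_span_singleton one_ne_zero
  have hle : LinearMap.range d ≤ LinearMap.ker (Algebra.trace K L) := by
    rintro _ ⟨x, rfl⟩
    simp [d, Algebra.trace_eq_of_algEquiv]
  have htr : Module.finrank K (LinearMap.ker (Algebra.trace K L)) + 1 = p := by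
    have h := (Algebra.trace K L).finrank_range_add_finrank_ker
    rw [LinearMap.range_eq_top.mpr (Algebra.trace_surjective K L), finrank_top,
      Module.finrank_self, hdeg] at h
    omega
  have hrk := d.finrank_range_add_finrank_ker
  have heq : LinearMap.range d = LinearMap.ker (Algebra.trace K L) :=
    Submodule.eq_of_le_of_finrank_eq hle (by omega)
  have h1 : (1 : L) ∈ LinearMap.range d := by
    rw [heq, LinearMap.mem_ker, ← map_one (algebraMap K L), Algebra.trace_algebraMap, hdeg,
      nsmul_eq_mul, mul_one]
    exact CharP.cast_eq_zero K p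
  obtain ⟨z, hz⟩ := h1
  have hz' : σ z = z + 1 := by
    simp [d] at hz
    linear_combination hz
  haveI : CharP L p := charP_of_injective_algebraMap (algebraMap K L).injective p
  refine ⟨z, hfix _ ?_, ?_⟩
  · rw [map_sub, map_pow, hz', add_pow_char, one_pow]
    ring
  · have hprime : (Module.finrank K L).Prime := hdeg ▸ hp
    haveI := IntermediateField.isSimpleOrder_of_finrank_prime K L hprime
    refine (IsSimpleOrder.eq_bot_or_eq_top _).resolve_left fun h => ?_
    obtain ⟨c, hc⟩ := IntermediateField.mem_bot.mp
      (h ▸ IntermediateField.mem_adjoin_simple_self K z)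
    rw [← hc, AlgEquiv.commutes] at hz'
    simpa using hz'

end Groth.Agent.S6332
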