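import Groth.Statements.S6334
import Mathlib.FieldTheory.PurelyInseparable.Basic
import Mathlib.FieldTheory.IntermediateField.Adjoin.Basic
import Mathlib.FieldTheory.KummerPolynomial

set_option autoImplicit false
universe u
open Fields

namespace Groth.Agent.S6334

open IntermediateField in
/-- Let E/F be a finite purely inseparable extension of fields of characteristic p > 0. Then there are
elements a_1, ..., a_n of E generating E over F such that for each i the p-th power of a_i lies in
F(a_1, ..., a_{i-1}) while a_i itself does not (so each step adjoins a p-th root and has degree p);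
in particular [E : F] = p ^ n. -/
theorem result {F E : Type u} [Field F] [Field E] [Algebra F E] (p : ℕ)
    [Fact p.Prime] [CharP F p] [FiniteDimensional F E] [IsPurelyInseparable F E] :
    ∃ (n : ℕ) (a : Fin n → E), adjoin F (Set.range a) = ⊤ ∧
      (∀ i : Fin n, a i ^ p ∈ adjoin F (a '' {j | j < i}) ∧ a i ∉ adjoin F (a '' {j | j < i})) ∧
      Module.finrank F E = p ^ n := by
  classical
  haveI : ExpChar F p := ExpChar.prime Fact.out
  have step : ∀ M : IntermediateField F E, M ≠ ⊤ →
      ∃ b : E, b ∉ M ∧ b ^ p ∈ M ∧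
        Module.finrank F (M⟮b⟯.restrictScalars F) = Module.finrank F M * p := by
    intro M hM
    obtain ⟨x, hx⟩ : ∃ x, x ∉ M := by
      by_contra h
      push Not at h
      exact hM (eq_top_iff.mpr fun x _ => h x)
    obtain ⟨n, hn⟩ := IsPurelyInseparable.pow_mem F p x
    have hnM : x ^ p ^ n ∈ M := by
      obtain ⟨c, hc⟩ := hn
      exact hc ▸ M.algebraMap_mem c
    have hex : ∃ j, x ^ p ^ j ∈ M := ⟨n, hnM⟩
    have hpos : 0 < Nat.find hex := Nat.pos_of_ne_zero fun h => hx (by
      have := Nat.find_spec hex; rwa [h, pow_zero, pow_one] at this)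
    have hb : x ^ p ^ (Nat.find hex - 1) ∉ M := Nat.find_min hex (by omega)
    have hbp : (x ^ p ^ (Nat.find hex - 1)) ^ p ∈ M := by
      rw [← pow_mul, ← pow_succ, Nat.sub_add_cancel hpos]; exact Nat.find_spec hex
    refine ⟨_, hb, hbp, ?_⟩
    set b := x ^ p ^ (Nat.find hex - 1)
    have hint : IsIntegral M b := Algebra.IsIntegral.isIntegral b
    have hirr : Irreducible (Polynomial.X ^ p - Polynomial.C (⟨b ^ p, hbp⟩ : M)) :=
      X_pow_sub_C_irreducible_of_prime Fact.out fun z hz => by
        haveI : CharP E p := charP_of_injective_algebraMap (algebraMap F E).injective p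
        have h1 : (z : E) ^ p = b ^ p := congrArg Subtype.val hz
        exact hb (frobenius_inj E p h1 ▸ z.2)
    have hmin : minpoly M b = Polynomial.X ^ p - Polynomial.C (⟨b ^ p, hbp⟩ : M) :=
      (minpoly.eq_of_irreducible_of_monic hirr (by simp)
        (Polynomial.monic_X_pow_sub_C _ (Fact.out : p.Prime).ne_zero)).symm
    have h := Module.finrank_mul_finrank F M M⟮b⟯
    rw [adjoin.finrank hint, hmin, Polynomial.natDegree_X_pow_sub_C] at h
    exact h.symm
  have build : ∀ m, (∃ (n : ℕ) (a : Fin n → E), adjoin F (Set.range a) = ⊤ ∧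
      (∀ i : Fin n, a i ^ p ∈ adjoin F (a '' {j | j < i}) ∧ a i ∉ adjoin F (a '' {j | j < i})) ∧
      Module.finrank F E = p ^ n) ∨ ∃ a : Fin m → E,
      (∀ i : Fin m, a i ^ p ∈ adjoin F (a '' {j | j < i}) ∧ a i ∉ adjoin F (a '' {j | j < i})) ∧
      Module.finrank F (adjoin F (Set.range a)) = p ^ m := by
    intro m
    induction m with
    | zero =>
      refine Or.inr ⟨Fin.elim0, fun i => i.elim0, ?_⟩
      rw [Set.range_eq_empty, adjoin_empty, pow_zero]
      exact IntermediateField.finrank_bot
    | succ m ih =>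
      rcases ih with h | ⟨a, ha, hfr⟩
      · exact Or.inl h
      by_cases htop : adjoin F (Set.range a) = ⊤
      · refine Or.inl ⟨m, a, htop, ha, ?_⟩
        rw [← hfr, htop, IntermediateField.finrank_top']
      obtain ⟨b, hb, hbp, hfb⟩ := step _ htop
      refine Or.inr ⟨Fin.snoc a b, fun i => ?_, ?_⟩
      · refine Fin.lastCases ?_ (fun j => ?_) i
        · rw [show Fin.snoc a b '' {j : Fin (m + 1) | j < Fin.last m} = Set.range a from ?_,
            Fin.snoc_last]
          · exact ⟨hbp, hb⟩
          ext y
          constructor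
          · rintro ⟨j, hj, rfl⟩
            obtain ⟨j', rfl⟩ := Fin.eq_castSucc_of_ne_last (ne_of_lt hj)
            exact ⟨j', (Fin.snoc_castSucc (α := fun _ => E) (i := j') ..).symm⟩
          · rintro ⟨j, rfl⟩
            exact ⟨j.castSucc, Fin.castSucc_lt_last j, Fin.snoc_castSucc (α := fun _ => E) ..⟩
        · rw [show Fin.snoc a b '' {i : Fin (m + 1) | i < j.castSucc} = a '' {i | i < j} from ?_,
            Fin.snoc_castSucc]
          · exact ha j
          ext y
          constructor
          · rintro ⟨l, hl, rfl⟩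
            obtain ⟨l', rfl⟩ := Fin.eq_castSucc_of_ne_last (ne_of_lt (lt_of_lt_of_le hl (Fin.le_last _)))
            exact ⟨l', Fin.castSucc_lt_castSucc_iff.mp hl,
              (Fin.snoc_castSucc (α := fun _ => E) (i := l') ..).symm⟩
          · rintro ⟨l, hl, rfl⟩
            exact ⟨l.castSucc, Fin.castSucc_lt_castSucc_iff.mpr hl, Fin.snoc_castSucc (α := fun _ => E) ..⟩
      · rw [Fin.range_snoc, Set.insert_eq, Set.union_comm, ← adjoin_adjoin_left, hfb, hfr, ← pow_succ]
  rcases build (Module.finrank F E) with h | ⟨a, -, hfr⟩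
  · exact h
  · exfalso
    have h1 : Module.finrank F (adjoin F (Set.range a)) ≤ Module.finrank F E :=
      (adjoin F (Set.range a)).toSubalgebra.toSubmodule.finrank_le
    have h2 := (Fact.out : p.Prime).one_lt
    have h3 := Nat.lt_pow_self (n := Module.finrank F E) h2
    omega

end Groth.Agent.S6334
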