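import Groth.Statements.S6335
import Mathlib.FieldTheory.PurelyInseparable.Basic
import Mathlib.FieldTheory.PurelyInseparable.PerfectClosure
import Mathlib.FieldTheory.IsAlgClosed.AlgebraicClosure
import Mathlib.Algebra.CharP.Frobenius

set_option autoImplicit false
universe u
open Fields

namespace Groth.Agent.S6335

/-- Let K be a field of characteristic p > 0, L/K a separable algebraic extension and a an element of L.
If a is a root of a polynomial P over K which is separable (pairwise distinct roots in an algebraic
closure) and all of whose coefficients are p-th powers in K, then a is a p-th power in L. (Part (1),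
the case where P is the minimal polynomial of a, is a special case.) -/
theorem result {K L : Type u} [Field K] [Field L] [Algebra K L]
    (p : ℕ) [Fact p.Prime] [CharP K p] [Algebra.IsSeparable K L] (a : L) (P : Polynomial K)
    (hroot : Polynomial.aeval a P = 0) (hsep : P.Separable) (hcoeff : ∀ i : ℕ, ∃ b : K, b ^ p = P.coeff i) :
    ∃ c : L, c ^ p = a := by
  classical
  choose b hb using hcoeff
  haveI : CharP L p := charP_of_injective_algebraMap (algebraMap K L).injective p
  haveI : CharP (AlgebraicClosure L) p := charP_of_injective_algebraMap (algebraMap L _).injective p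
  let Q : Polynomial K := ∑ i ∈ Finset.range (P.natDegree + 1), Polynomial.monomial i (b i)
  have hQ : Q.map (frobenius K p) = P := by
    conv_rhs => rw [P.as_sum_range]
    simp [Q, Polynomial.map_sum, frobenius_def, hb]
  have hQsep : Q.Separable := by
    rw [← Polynomial.separable_map (f := frobenius K p), hQ]; exact hsep
  obtain ⟨c, hc⟩ := IsAlgClosed.exists_pow_nat_eq (algebraMap L (AlgebraicClosure L) a)
    (Fact.out : p.Prime).pos
  have hcQ : Polynomial.aeval c Q = 0 := by
    have h0 : Polynomial.aeval (algebraMap L (AlgebraicClosure L) a) P = 0 := by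
      rw [Polynomial.aeval_algebraMap_apply, hroot, map_zero]
    rw [← hQ, ← hc, Polynomial.aeval_def, Polynomial.eval₂_map] at h0
    have hcomm : (algebraMap K (AlgebraicClosure L)).comp (frobenius K p) =
        (frobenius (AlgebraicClosure L) p).comp (algebraMap K (AlgebraicClosure L)) := by
      ext x; simp [frobenius_def]
    rw [hcomm, show c ^ p = frobenius (AlgebraicClosure L) p c from rfl, ← Polynomial.hom_eval₂] at h0
    exact (map_eq_zero_iff _ (frobenius_inj _ p)).mp h0
  have hsepc : IsSeparable K c := hQsep.of_dvd (minpoly.dvd K c hcQ)
  have h1 := hsepc.tower_top (L := L)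
  haveI : ExpChar L p := ExpChar.prime (Fact.out : p.Prime)
  have hmem : c ∈ IntermediateField.adjoin L {c ^ p ^ 1} := by
    rw [← IntermediateField.adjoin_simple_eq_adjoin_pow_expChar_pow_of_isSeparable L _ h1 p 1]
    exact IntermediateField.mem_adjoin_simple_self L c
  rw [pow_one, hc] at hmem
  have hbot : IntermediateField.adjoin L {algebraMap L (AlgebraicClosure L) a} = ⊥ := by
    rw [IntermediateField.adjoin_simple_eq_bot_iff]; exact IntermediateField.mem_bot.mpr ⟨a, rfl⟩
  rw [hbot, IntermediateField.mem_bot] at hmem
  obtain ⟨d, hd⟩ := hmem
  refine ⟨d, (algebraMap L (AlgebraicClosure L)).injective ?_⟩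
  rw [map_pow, hd, hc]

end Groth.Agent.S6335
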