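import Groth.Statements.S6336
import Mathlib.FieldTheory.IntermediateField.Adjoin.Basic
import Mathlib.FieldTheory.IsAlgClosed.AlgebraicClosure
import Mathlib.Algebra.Polynomial.Splits

set_option autoImplicit false
universe u
open Fields

namespace Groth.Agent.S6336

open IntermediateField Polynomial in
/-- With an added hypothesis: let L/K be a finite extension of degree e generated by a single element a
whose e-th power lies in K, and assume that the polynomial X ^ e - 1 splits into linear factors over
K (so every e-th root of unity of any extension of K already lies in K; this holds when K contains a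
primitive e-th root of unity, and when e is a power of the characteristic). Then every intermediate
field of L/K is generated by a ^ d for some divisor d of e. (The published statement has no
hypothesis on roots of unity; for K the rationals and a a primitive 8-th root of unity, e = 4 and a
^ 4 = -1, the intermediate field generated by a + a⁻¹, a square root of 2, is none of K(a), K(a ^
2), K(a ^ 4); the published proof uses that the e-th roots of unity met are fixed by the
automorphisms it constructs, which the splitting hypothesis guarantees.) -/
theorem result {K L : Type u} [Field K] [Field L] [Algebra K L]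
    [FiniteDimensional K L] (a : L) (ha : K⟮a⟯ = ⊤)
    (hpow : a ^ Module.finrank K L ∈ Set.range (algebraMap K L))
    (hroots : (X ^ Module.finrank K L - 1 : K[X]).Splits) (L' : IntermediateField K L) :
    ∃ d : ℕ, d ∣ Module.finrank K L ∧ L' = K⟮a ^ d⟯ := by
  classical
  set e := Module.finrank K L with he
  obtain ⟨c, hc⟩ := hpow
  have hint : IsIntegral L' a := Algebra.IsIntegral.isIntegral a
  set P := minpoly L' a with hP
  have hd : P.natDegree = Module.finrank L' L := by
    rw [← IntermediateField.adjoin.finrank hint]
    have : IntermediateField.adjoin L' ({a} : Set L) = ⊤ := by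
      apply IntermediateField.restrictScalars_injective K
      rw [IntermediateField.restrictScalars_top, eq_top_iff, ← ha, IntermediateField.adjoin_le_iff]
      exact IntermediateField.subset_adjoin L' _
    rw [this, IntermediateField.finrank_top']
  have hmul : Module.finrank K L' * Module.finrank L' L = e := Module.finrank_mul_finrank K L' L
  have hepos : 0 < e := Module.finrank_pos
  have hdpos : 0 < P.natDegree := minpoly.natDegree_pos hint
  refine ⟨P.natDegree, ⟨Module.finrank K L', by rw [hd, mul_comm, hmul]⟩, ?_⟩
  let A := AlgebraicClosure L
  have hspl : (P.map (algebraMap L' A)).Splits := IsAlgClosed.splits _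
  have hmonic : (P.map (algebraMap L' A)).Monic := (minpoly.monic hint).map _
  have hrt : ∀ r ∈ (P.map (algebraMap L' A)).roots, ∃ z : K,
      r = algebraMap K A z * algebraMap L A a := fun r hr => by
    have hdvd : P ∣ X ^ e - C (algebraMap K L' c) := by
      refine minpoly.dvd L' a ?_
      simp [← IsScalarTower.algebraMap_apply, hc]
    obtain ⟨q, hq⟩ := hdvd
    have hr0 : (P.map (algebraMap L' A)).IsRoot r := (Polynomial.mem_roots'.mp hr).2
    have hre : r ^ e = (algebraMap L A a) ^ e := by
      have h := congrArg (fun F => (F.map (algebraMap L' A)).eval r) hq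
      simp only [Polynomial.map_sub, Polynomial.map_pow, map_X, map_C, Polynomial.map_mul, eval_sub,
        eval_pow, eval_X, eval_C, eval_mul, hr0.eq_zero, zero_mul, sub_eq_zero] at h
      rw [h, ← IsScalarTower.algebraMap_apply, IsScalarTower.algebraMap_apply K L A, hc, map_pow]
    by_cases ha0 : algebraMap L A a = 0
    · refine ⟨1, ?_⟩
      rw [ha0, zero_pow hepos.ne'] at hre
      rw [ha0, mul_zero]
      exact pow_eq_zero_iff hepos.ne' |>.mp hre
    have hz : (r / algebraMap L A a) ^ e = 1 := by rw [div_pow, hre, div_self (pow_ne_zero _ ha0)]
    obtain ⟨z, hz'⟩ := hroots.mem_range_of_isRoot (by simpa using X_pow_sub_C_ne_zero hepos (1 : K))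
      (i := algebraMap K A) (x := r / algebraMap L A a) (by simp [hz])
    exact ⟨z, by rw [hz', div_mul_cancel₀ _ ha0]⟩
  have hprod : ∀ s : Multiset A, (∀ r ∈ s, ∃ z : K, r = algebraMap K A z * algebraMap L A a) →
      ∃ z : K, s.prod = algebraMap K A z * algebraMap L A a ^ Multiset.card s := by
    intro s
    induction s using Multiset.induction with
    | empty => exact fun _ => ⟨1, by simp⟩
    | cons r s ih =>
      intro h
      obtain ⟨z, hz⟩ := h r (Multiset.mem_cons_self _ _)
      obtain ⟨w, hw⟩ := ih fun x hx => h x (Multiset.mem_cons_of_mem hx)
      exact ⟨z * w, by rw [Multiset.prod_cons, hz, hw, Multiset.card_cons, map_mul]; ring⟩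
  obtain ⟨z, hz⟩ := hprod _ hrt
  have hcoeff := hspl.coeff_zero_eq_prod_roots_of_monic hmonic
  rw [hz, Polynomial.coeff_map, ← hspl.natDegree_eq_card_roots,
    Polynomial.natDegree_map] at hcoeff
  have hadL : ((-1) ^ P.natDegree * algebraMap K L z) * a ^ P.natDegree = (P.coeff 0 : L) := by
    apply (algebraMap L A).injective
    rw [map_mul, map_mul, map_pow, map_pow, map_neg, map_one, ← IsScalarTower.algebraMap_apply,
      mul_assoc]
    exact hcoeff.symm.trans (IsScalarTower.algebraMap_apply L' L A _)
  have hmem : a ^ P.natDegree ∈ L' := by
    by_cases hz0 : ((-1) ^ P.natDegree * algebraMap K L z : L) = 0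
    · have h0 : P.coeff 0 = 0 := by
        apply Subtype.ext
        rw [← hadL, hz0, zero_mul]
        rfl
      rw [(minpoly.coeff_zero_eq_zero hint).mp h0, zero_pow hdpos.ne']
      exact zero_mem _
    · rw [show a ^ P.natDegree = ((-1) ^ P.natDegree * algebraMap K L z)⁻¹ * (P.coeff 0 : L) by
        rw [← hadL, inv_mul_cancel_left₀ hz0]]
      exact mul_mem (inv_mem (mul_mem (pow_mem (neg_mem (one_mem _)) _) (L'.algebraMap_mem z)))
        (P.coeff 0).2
  symm
  refine IntermediateField.eq_of_le_of_finrank_le' (IntermediateField.adjoin_simple_le_iff.mpr hmem) ?_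
  rw [← hd]
  set F := IntermediateField.adjoin K ({a ^ P.natDegree} : Set L) with hF
  have hintF : IsIntegral F a := Algebra.IsIntegral.isIntegral a
  have htop : IntermediateField.adjoin F ({a} : Set L) = ⊤ := by
    apply IntermediateField.restrictScalars_injective K
    rw [IntermediateField.restrictScalars_top, eq_top_iff, ← ha, IntermediateField.adjoin_le_iff]
    exact IntermediateField.subset_adjoin F _
  rw [← IntermediateField.finrank_top' (F := F), ← htop, IntermediateField.adjoin.finrank hintF]
  have hq : (minpoly F a) ∣ X ^ P.natDegree - C (⟨a ^ P.natDegree,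
      IntermediateField.mem_adjoin_simple_self K _⟩ : F) := by
    refine minpoly.dvd F a ?_
    simp
  exact (Polynomial.natDegree_le_of_dvd hq (X_pow_sub_C_ne_zero hdpos _)).trans
    (natDegree_X_pow_sub_C).le

end Groth.Agent.S6336
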