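import Groth.Statements.S6341
import Groth.Agent.Lib.Pure.UI
import Groth.Agent.Lib.Pure.ML
import Mathlib.LinearAlgebra.TensorProduct.DirectLimit

set_option autoImplicit false
universe u
open CAlg
open Groth.Agent.Lib.Pure

namespace Groth.Agent.S6341

/-- The colimit of a directed system of Mittag-Leffler modules with universally injective transition
maps is Mittag-Leffler. -/
theorem result (R : Type u) [CommRing R] {ι : Type u}
    [Preorder ι] [IsDirected ι (· ≤ ·)] [DecidableEq ι] (G : ι → Type u) [∀ i, AddCommGroup (G i)]
    [∀ i, Module R (G i)] (f : ∀ i j, i ≤ j → G i →ₗ[R] G j) [DirectedSystem G fun i j h => f i j h]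
    (hf : ∀ i j (h : i ≤ j), CAlgX.UniversallyInjective R (f i j h))
    (hG : ∀ i, CAlg.IsMittagLeffler R (G i)) :
    CAlg.IsMittagLeffler R (Module.DirectLimit G f) := by
  intro α Q _ _
  rw [injective_iff_map_eq_zero]
  intro x hx
  rcases isEmpty_or_nonempty ι with hι | hι
  · have : Subsingleton (Module.DirectLimit G f) := inferInstance
    induction x using TensorProduct.induction_on with
    | zero => rfl
    | tmul a b => rw [Subsingleton.elim a 0, TensorProduct.zero_tmul]
    | add a b ha hb => exact Subsingleton.elim (α := _) (a + b) 0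
  have hlift : ∀ y : TensorProduct R (Module.DirectLimit G f) (∀ a, Q a),
      ∃ i z, (Module.DirectLimit.of R ι G f i).rTensor _ z = y := by
    intro y
    induction y using TensorProduct.induction_on with
    | zero => exact ⟨hι.some, 0, map_zero _⟩
    | tmul m q =>
      obtain ⟨i, m, rfl⟩ := Module.DirectLimit.exists_of m
      exact ⟨i, m ⊗ₜ q, rfl⟩
    | add a b ha hb =>
      obtain ⟨i, z, rfl⟩ := ha
      obtain ⟨j, w, rfl⟩ := hb
      obtain ⟨k, hik, hjk⟩ := exists_ge_ge i j
      refine ⟨k, (f i k hik).rTensor _ z + (f j k hjk).rTensor _ w, ?_⟩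
      rw [map_add, ← LinearMap.rTensor_comp_apply, ← LinearMap.rTensor_comp_apply]
      congr 3 <;> ext <;> simp
  obtain ⟨i, z, rfl⟩ := hlift x
  have hof : ∀ (X : Type u) [AddCommGroup X] [Module R X],
      Function.Injective ((Module.DirectLimit.of R ι G f i).rTensor X) := by
    intro X _ _
    rw [injective_iff_map_eq_zero]
    intro w hw
    have h0 := congrArg (TensorProduct.directLimitLeft f X) hw
    have e : ∀ w, TensorProduct.directLimitLeft f X ((Module.DirectLimit.of R ι G f i).rTensor X w)
        = Module.DirectLimit.of R ι (fun i => TensorProduct R (G i) X)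
            (fun i j h => (f i j h).rTensor X) i w := by
      intro w
      induction w using TensorProduct.induction_on with
      | zero => simp
      | tmul a b => simp
      | add a b ha hb => simp only [map_add, ha, hb]
    rw [e, map_zero] at h0
    obtain ⟨j, hij, hj⟩ := Module.DirectLimit.of.zero_exact h0
    exact (injective_iff_map_eq_zero _).1 (hf i j hij X) w hj
  have hz : z = 0 := (injective_iff_map_eq_zero _).1 (hG i α Q) z (funext fun a => by
    apply hof (Q a)
    rw [← ML.piRightHom_natural, hx]
    simp)
  rw [hz, map_zero]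

end Groth.Agent.S6341
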