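import Groth.Statements.S6342
import Groth.Agent.Lib.Pure.UI
import Groth.Agent.Lib.Pure.FlatML

set_option autoImplicit false
universe u
open CAlg
open Groth.Agent.Lib.Pure

namespace Groth.Agent.S6342

/-- Let R → S be a ring map such that S is Mittag-Leffler as an R-module, and let M be an S-module which
is flat and Mittag-Leffler over S. Then M is Mittag-Leffler as an R-module. -/
theorem result (R S : Type u) [CommRing R] [CommRing S] [Algebra R S]
    (M : Type u) [AddCommGroup M] [Module S M] [Module R M] [IsScalarTower R S M]
    (hS : CAlg.IsMittagLeffler R S) [Module.Flat S M] (hM : CAlg.IsMittagLeffler S M) :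
    CAlg.IsMittagLeffler R M := by
  exact FlatML.restrict_of_flat hS hM

end Groth.Agent.S6342
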