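import Groth.Statements.S6345
import Groth.Agent.Lib.Pure.UI
import Groth.Agent.Lib.Pure.FlatML

set_option autoImplicit false
universe u
open CAlg
open Groth.Agent.Lib.Pure

namespace Groth.Agent.S6345

/-- Let I be a finitely generated ideal of a commutative ring R and M an R/I-module. Then M is
Mittag-Leffler over R if and only if it is Mittag-Leffler over R/I. -/
theorem result (R : Type u) [CommRing R] (I : Ideal R) (hI : I.FG)
    (M : Type u) [AddCommGroup M] [Module (R ⧸ I) M] [Module R M] [IsScalarTower R (R ⧸ I) M] :
    CAlg.IsMittagLeffler R M ↔ CAlg.IsMittagLeffler (R ⧸ I) M := by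
  have : Algebra.FinitePresentation R (R ⧸ I) := Algebra.FinitePresentation.quotient hI
  exact ⟨FlatML.of_restrict Ideal.Quotient.mk_surjective, FlatML.restrict_of_finite (R := R)⟩

end Groth.Agent.S6345
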