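import Groth.Statements.S6349
import Groth.Agent.H22.FlatMod

set_option autoImplicit false
universe u
open scoped TensorProduct
open CAlg

namespace Groth.Agent.S6349

/-- Let I be an ideal of a commutative ring R and M an R-module such that M/IM is flat over R/I and
Tor_1^R(R/I, M) = 0, i.e. the map I ⊗_R M → M is injective. Then M/IⁿM is flat over R/Iⁿ for every n
≥ 1. (When I is nilpotent this yields flatness of M itself, a standard companion statement.) -/
theorem result (R : Type u) [CommRing R] (I : Ideal R) (M : Type u)
    [AddCommGroup M] [Module R M] [Module.Flat (R ⧸ I) ((R ⧸ I) ⊗[R] M)]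
    (htor : Function.Injective ((Submodule.subtype I).rTensor M)) (n : ℕ) (hn : 1 ≤ n) :
    Module.Flat (R ⧸ I ^ n) ((R ⧸ I ^ n) ⊗[R] M) := by
  refine H22.FlatMod.flat_quotient (H22.FlatMod.flatAt_pow (H22.FlatMod.flatAt inferInstance) ?_ n)
  have e : (Submodule.subtype I).lTensor M = (TensorProduct.comm R R M).toLinearMap ∘ₗ
      (Submodule.subtype I).rTensor M ∘ₗ (TensorProduct.comm R M I).toLinearMap := by
    ext; simp
  rw [e, LinearMap.coe_comp, LinearMap.coe_comp, LinearEquiv.coe_coe, LinearEquiv.coe_coe]
  exact (LinearEquiv.injective _).comp (htor.comp (LinearEquiv.injective _))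

end Groth.Agent.S6349
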