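import Groth.Statements.S6351
import Mathlib.LinearAlgebra.TensorProduct.Quotient


set_option autoImplicit false
universe u
open scoped TensorProduct
open CAlg

namespace Groth.Agent.S6351

/-- Let I be a nilpotent ideal of a commutative ring R and M an R-module with Tor_1^R(R/I, M) = 0, i.e.
I ⊗_R M → M injective. If a family of elements of M maps to a basis of the R/I-module M/IM = R/I ⊗
M, then it is a basis of M over R. -/
theorem result (R : Type u) [CommRing R] (I : Ideal R)
    (hI : IsNilpotent I) (M : Type u) [AddCommGroup M] [Module R M]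
    (htor : Function.Injective ((Submodule.subtype I).rTensor M)) {A : Type u} (x : A → M)
    (hli : LinearIndependent (R ⧸ I) (fun a => (1 : R ⧸ I) ⊗ₜ[R] x a))
    (hsp : Submodule.span (R ⧸ I) (Set.range fun a => (1 : R ⧸ I) ⊗ₜ[R] x a) = ⊤) :
    LinearIndependent R x ∧ Submodule.span R (Set.range x) = ⊤ := by
  classical
  obtain ⟨N, hN⟩ := hI
  have hsup : ∀ m : M, m ∈ Submodule.span R (Set.range x) ⊔ I • (⊤ : Submodule R M) := by
    intro m
    let T : Submodule R ((R ⧸ I) ⊗[R] M) :=
      (Submodule.span R (Set.range x)).map (TensorProduct.mk R (R ⧸ I) M 1)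
    have hall : ∀ z : (R ⧸ I) ⊗[R] M, z ∈ T := by
      intro z
      have hz : z ∈ Submodule.span (R ⧸ I) (Set.range fun a => (1 : R ⧸ I) ⊗ₜ[R] x a) := hsp ▸ Submodule.mem_top
      induction hz using Submodule.span_induction with
      | mem y hy => obtain ⟨a, rfl⟩ := hy; exact ⟨x a, Submodule.subset_span ⟨a, rfl⟩, rfl⟩
      | zero => exact zero_mem _
      | add a b _ _ ha hb => exact add_mem ha hb
      | smul c a _ ha =>
        obtain ⟨c, rfl⟩ := Ideal.Quotient.mk_surjective c
        show algebraMap R (R ⧸ I) c • a ∈ T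
        rw [algebraMap_smul]
        exact T.smul_mem c ha
    obtain ⟨y, hy, hy'⟩ := hall (1 ⊗ₜ m)
    have h1 := congrArg (TensorProduct.quotTensorEquivQuotSMul M I) hy'
    rw [TensorProduct.mk_apply, ← map_one (Ideal.Quotient.mk I), TensorProduct.quotTensorEquivQuotSMul_mk_tmul,
      TensorProduct.quotTensorEquivQuotSMul_mk_tmul, one_smul, one_smul] at h1
    rw [Submodule.Quotient.eq] at h1
    rw [show m = y + -(y - m) by abel]
    exact Submodule.add_mem_sup hy (neg_mem h1)
  have hspan : Submodule.span R (Set.range x) = ⊤ := by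
    have key : ∀ n, (⊤ : Submodule R M) ≤ Submodule.span R (Set.range x) ⊔ (I ^ n) • (⊤ : Submodule R M) := by
      intro n
      induction n with
      | zero => exact fun m _ => Submodule.mem_sup_right (by simp)
      | succ n ih =>
        refine ih.trans (sup_le le_sup_left ?_)
        have h2 : (I ^ n) • (⊤ : Submodule R M) ≤
            (I ^ n) • (Submodule.span R (Set.range x) ⊔ I • (⊤ : Submodule R M)) :=
          Submodule.smul_mono le_rfl fun m _ => hsup m
        rw [Submodule.smul_sup, ← Submodule.mul_smul, ← pow_succ] at h2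
        exact h2.trans (sup_le_sup_right Submodule.smul_le_right _)
    refine eq_top_iff.mpr ((key N).trans ?_)
    rw [hN, Ideal.zero_eq_bot, Submodule.bot_smul, sup_bot_eq]
  refine ⟨?_, hspan⟩
  let π : (A →₀ R) →ₗ[R] M := Finsupp.linearCombination R x
  have hπ : Function.Surjective π := LinearMap.range_eq_top.mp (by
    rw [Finsupp.range_linearCombination, hspan])
  have hstep : LinearMap.ker π ≤ I • LinearMap.ker π := by
    intro c hc
    have hcI : ∀ a, c a ∈ I := by
      intro a
      have h1 := linearIndependent_iff'.mp hli c.support (fun a => Ideal.Quotient.mk I (c a)) (by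
        have : (1 : R ⧸ I) ⊗ₜ[R] π c = 0 := by rw [LinearMap.mem_ker.mp hc, TensorProduct.tmul_zero]
        rw [← this, Finsupp.linearCombination_apply, Finsupp.sum, TensorProduct.tmul_sum]
        refine Finset.sum_congr rfl fun a _ => ?_
        show algebraMap R (R ⧸ I) (c a) • _ = _
        rw [algebraMap_smul, TensorProduct.tmul_smul])
      by_cases ha : a ∈ c.support
      · exact Ideal.Quotient.eq_zero_iff_mem.mp (h1 a ha)
      · rw [Finsupp.notMem_support_iff.mp ha]; exact I.zero_mem
    let z : ↥I ⊗[R] (A →₀ R) := ∑ a ∈ c.support, (⟨c a, hcI a⟩ : I) ⊗ₜ Finsupp.single a 1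
    have h0 : π.lTensor I z = 0 := by
      apply htor
      apply (TensorProduct.lid R M).injective
      simp only [z, map_sum, map_zero, LinearMap.lTensor_tmul, LinearMap.rTensor_tmul, TensorProduct.lid_tmul]
      refine (Finset.sum_congr rfl fun a _ => ?_).trans (LinearMap.mem_ker.mp hc)
      simp [π]
    obtain ⟨w, hw⟩ := ((lTensor_exact ↥I (M := ↥(LinearMap.ker π)) (N := A →₀ R) (P := M) (f := (LinearMap.ker π).subtype) (g := π) (LinearMap.exact_subtype_ker_map π) hπ) z).mp h0
    let μ : ↥I ⊗[R] (A →₀ R) →ₗ[R] (A →₀ R) :=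
      (TensorProduct.lid R _).toLinearMap.comp (I.subtype.rTensor _)
    have hμ : μ z = c := by
      simp only [z, μ, map_sum, LinearMap.comp_apply, LinearMap.rTensor_tmul, LinearEquiv.coe_coe,
        TensorProduct.lid_tmul, Submodule.subtype_apply, Finsupp.smul_single, smul_eq_mul, mul_one]
      exact c.sum_single
    rw [← hμ, ← hw]
    clear hw hμ
    induction w with
    | zero => simp
    | add a b ha hb => simp only [map_add]; exact add_mem ha hb
    | tmul i k =>
      simp only [μ, LinearMap.lTensor_tmul, LinearMap.comp_apply, LinearMap.rTensor_tmul, LinearEquiv.coe_coe,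
        TensorProduct.lid_tmul, Submodule.subtype_apply]
      exact Submodule.smul_mem_smul i.2 k.2
  have key : ∀ n, LinearMap.ker π ≤ (I ^ n) • LinearMap.ker π := by
    intro n
    induction n with
    | zero => simp
    | succ n ih =>
      refine ih.trans ?_
      rw [pow_succ, Submodule.mul_smul]
      exact Submodule.smul_mono le_rfl hstep
  show Function.Injective (Finsupp.linearCombination R x)
  rw [← LinearMap.ker_eq_bot, eq_bot_iff]
  refine (key N).trans ?_
  rw [hN, Ideal.zero_eq_bot, Submodule.bot_smul]

end Groth.Agent.S6351
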