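import Groth.Statements.S6353
import Mathlib.RingTheory.Ideal.Pure
import Mathlib.RingTheory.Spectrum.Prime.Topology

set_option autoImplicit false
universe u
open CAlg

namespace Groth.Agent.S6353

theorem stableUnderGeneralization_of_pure {R : Type u} [CommRing R] (I : Ideal R) (hI : I.Pure) :
    StableUnderGeneralization (PrimeSpectrum.zeroLocus (I : Set R)) := by
  intro p q hqp hp
  rw [← PrimeSpectrum.le_iff_specializes] at hqp
  rw [PrimeSpectrum.mem_zeroLocus, SetLike.coe_subset_coe] at hp ⊢
  intro x hx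
  obtain ⟨e, he, hxe⟩ := Ideal.exists_eq_mul_of_pure hx
  refine (q.2.mem_or_mem (show x * (1 - e) ∈ q.asIdeal by
    rw [mul_sub, mul_one, ← hxe, sub_self]; exact q.asIdeal.zero_mem)).resolve_right fun h => ?_
  exact p.2.ne_top ((Ideal.eq_top_iff_one _).mpr (by simpa using add_mem (hqp h) (hp he)))

open PrimeSpectrum in
/-- For a commutative ring R, I ↦ V(I) is a bijection between pure ideals (R/I flat over R) and closed
subsets of Spec R stable under generalization. Stated here as: V(I) is stable under generalization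
for I pure, and every closed generalization-stable subset is V(I) for some pure I (injectivity on
pure ideals being the standard fact that pure ideals with the same zero locus coincide). -/
theorem result (R : Type u) [CommRing R] :
    (∀ I : Ideal R, I.Pure → StableUnderGeneralization (zeroLocus (I : Set R))) ∧
      ∀ Z : Set (PrimeSpectrum R), IsClosed Z → StableUnderGeneralization Z →
        ∃ I : Ideal R, I.Pure ∧ zeroLocus (I : Set R) = Z := by
  refine ⟨fun I hI => stableUnderGeneralization_of_pure I hI, fun Z hZ hgen => ?_⟩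
  classical
  let I : Ideal R :=
    { carrier := {x | ∀ z ∈ Z, ∃ s, s ∉ z.asIdeal ∧ s * x = 0}
      zero_mem' := fun z _ => ⟨1, z.asIdeal.ne_top_iff_one.mp z.2.ne_top, mul_zero _⟩
      add_mem' := fun {a b} ha hb z hz => by
        obtain ⟨s, hs, hsa⟩ := ha z hz
        obtain ⟨t, ht, htb⟩ := hb z hz
        exact ⟨s * t, z.2.mul_notMem hs ht, by linear_combination t * hsa + s * htb⟩
      smul_mem' := fun c a ha z hz => by
        obtain ⟨s, hs, hsa⟩ := ha z hz
        exact ⟨s, hs, by rw [smul_eq_mul, mul_left_comm, hsa, mul_zero]⟩ }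
  have hout : ∀ p : PrimeSpectrum R, p ∉ Z → ¬ I ≤ p.asIdeal := by
    intro p hp hle
    have h2 : ∀ z ∈ Z, ∃ s t, s ∉ z.asIdeal ∧ t ∉ p.asIdeal ∧ s * t = 0 := by
      intro z hz
      by_contra hno
      push_neg at hno
      let M : Submonoid R := z.asIdeal.primeCompl ⊔ p.asIdeal.primeCompl
      have hd : Disjoint ((⊥ : Ideal R) : Set R) M := Set.disjoint_left.mpr fun x hx hxM => by
        obtain ⟨s, hs, t, ht, rfl⟩ := Submonoid.mem_sup.mp hxM
        exact hno s t hs ht (Ideal.mem_bot.mp hx)
      obtain ⟨q, hq, -, hqd⟩ := Ideal.exists_le_prime_disjoint ⊥ M hd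
      have hqz : q ≤ z.asIdeal := fun x hx => by_contra fun h =>
        Set.disjoint_left.mp hqd hx ((le_sup_left : _ ≤ M) h)
      have hqp : q ≤ p.asIdeal := fun x hx => by_contra fun h =>
        Set.disjoint_left.mp hqd hx ((le_sup_right : _ ≤ M) h)
      have hqZ : (⟨q, hq⟩ : PrimeSpectrum R) ∈ Z :=
        hgen ((PrimeSpectrum.le_iff_specializes _ _).mp hqz) hz
      exact hp (((PrimeSpectrum.le_iff_specializes _ _).mp
        (show (⟨q, hq⟩ : PrimeSpectrum R) ≤ p from hqp)).mem_closed hZ hqZ)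
    choose! s t hs ht hst using h2
    obtain ⟨F, hF⟩ := hZ.isCompact.elim_finite_subcover
      (fun z : Z => (PrimeSpectrum.basicOpen (s z) : Set (PrimeSpectrum R)))
      (fun z => (PrimeSpectrum.basicOpen (s z)).isOpen)
      fun z hz => Set.mem_iUnion.mpr ⟨⟨z, hz⟩, hs z hz⟩
    have hmem : (∏ z ∈ F, t z) ∈ I := fun w hw => by
      obtain ⟨z, hzF, hwz⟩ := Set.mem_iUnion₂.mp (hF hw)
      refine ⟨s z, hwz, ?_⟩
      rw [← Finset.mul_prod_erase F _ hzF, ← mul_assoc, hst z z.2, zero_mul]
    obtain ⟨z, -, hz⟩ := (p.2.prod_mem_iff).mp (hle hmem)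
    exact ht z z.2 hz
  have hone : ∀ x ∈ I, ∃ e ∈ I, x = x * e := by
    intro x hx
    let A : Ideal R := Ideal.span {a | a * x = 0}
    have hA : ∀ a ∈ A, a * x = 0 := fun a ha => by
      induction ha using Submodule.span_induction with
      | mem a ha => exact ha
      | zero => exact zero_mul x
      | add a b _ _ ha hb => rw [add_mul, ha, hb, add_zero]
      | smul c a _ ha => rw [smul_eq_mul, mul_assoc, ha, mul_zero]
    have htop : A ⊔ I = ⊤ := by
      by_contra hne
      obtain ⟨m, hm, hle⟩ := Ideal.exists_le_maximal _ hne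
      by_cases hz : (⟨m, hm.isPrime⟩ : PrimeSpectrum R) ∈ Z
      · obtain ⟨s, hs, hsx⟩ := hx _ hz
        exact hs (hle (Ideal.mem_sup_left (Ideal.subset_span hsx)))
      · exact hout _ hz (le_sup_right.trans hle)
    obtain ⟨a, ha, e, he, hae⟩ := Submodule.mem_sup.mp ((Ideal.eq_top_iff_one _).mp htop)
    exact ⟨e, he, by linear_combination x * (-hae) + hA a ha⟩
  refine ⟨I, Ideal.Pure.of_inf_eq_mul I fun J _ => le_antisymm (fun x hx => ?_) Ideal.mul_le_inf, ?_⟩
  · obtain ⟨e, he, hxe⟩ := hone x hx.1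
    rw [hxe, mul_comm x e]
    exact Ideal.mul_mem_mul he hx.2
  · refine Set.ext fun p => ⟨fun hp => by_contra fun h => hout p h hp, fun hp x hx => ?_⟩
    obtain ⟨s, hs, hsx⟩ := hx p hp
    exact (p.2.mem_or_mem (hsx ▸ p.asIdeal.zero_mem)).resolve_left hs

end Groth.Agent.S6353
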