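import Groth.Statements.S6354
import Mathlib.RingTheory.Ideal.Pure
import Mathlib.RingTheory.Ideal.IdempotentFG
import Mathlib.RingTheory.Spectrum.Prime.Topology
import Mathlib.Tactic.TFAE

set_option autoImplicit false
universe u
open CAlg

namespace Groth.Agent.S6354

theorem pure_span {R : Type u} [CommRing R] {e : R} (he : IsIdempotentElem e) :
    (Ideal.span {e}).Pure :=
  Ideal.Pure.of_isIdempotentElem ⟨{e}, by simp⟩
    (by rw [IsIdempotentElem, Ideal.span_singleton_mul_span_singleton, he.eq])

theorem projective_quotient {R : Type u} [CommRing R] {e : R} (he : IsIdempotentElem e) :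
    Module.Projective R (R ⧸ Ideal.span {e}) := by
  have hle : Ideal.span {e} ≤ LinearMap.ker (LinearMap.mulLeft R (1 - e)) := by
    rw [Ideal.span_singleton_le_iff_mem, LinearMap.mem_ker, LinearMap.mulLeft_apply, sub_mul,
      one_mul, he.eq, sub_self]
  refine Module.Projective.of_split (Submodule.liftQ _ (LinearMap.mulLeft R (1 - e)) hle)
    (Submodule.mkQ (Ideal.span {e})) (Submodule.linearMap_qext _ (LinearMap.ext fun x => ?_))
  simp only [LinearMap.comp_apply, Submodule.mkQ_apply, Submodule.liftQ_apply,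
    LinearMap.mulLeft_apply, LinearMap.id_apply]
  refine (Submodule.Quotient.eq _).mpr (Ideal.mem_span_singleton.mpr ⟨-x, by ring⟩)

theorem isOpen_zeroLocus_span {R : Type u} [CommRing R] {e : R} (he : IsIdempotentElem e) :
    IsOpen (PrimeSpectrum.zeroLocus (Ideal.span {e} : Set R)) := by
  rw [PrimeSpectrum.zeroLocus_span]
  have : PrimeSpectrum.zeroLocus ({e} : Set R) =
      (PrimeSpectrum.basicOpen (1 - e) : Set (PrimeSpectrum R)) := by
    ext p
    simp only [PrimeSpectrum.mem_zeroLocus, Set.singleton_subset_iff, SetLike.mem_coe,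
      PrimeSpectrum.mem_basicOpen]
    constructor
    · exact fun h h' => p.2.ne_top ((Ideal.eq_top_iff_one _).mpr (by simpa using add_mem h' h))
    · exact fun h => (p.2.mem_or_mem (show e * (1 - e) ∈ p.asIdeal by
        rw [mul_sub, mul_one, he.eq, sub_self]; exact p.asIdeal.zero_mem)).resolve_right h
  rw [this]
  exact (PrimeSpectrum.basicOpen _).isOpen

open PrimeSpectrum in
/-- For an ideal I of a commutative ring R these four conditions are equivalent: (1) I is finitely
generated and pure; (2) I = (e) for some idempotent e; (3) I is pure with V(I) open in Spec R; (4)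
R/I is projective as an R-module. -/
theorem result (R : Type u) [CommRing R] (I : Ideal R) :
    List.TFAE [I.Pure ∧ I.FG, ∃ e : R, IsIdempotentElem e ∧ I = Ideal.span {e},
      I.Pure ∧ IsOpen (zeroLocus (I : Set R)), Module.Projective R (R ⧸ I)] := by
  classical
  tfae_have 1 → 2 := fun ⟨h, hfg⟩ => by
    have := h
    obtain ⟨e, he, hI⟩ := (Ideal.isIdempotentElem_iff_of_fg I hfg).mp (Ideal.isIdempotentElem_of_pure I)
    exact ⟨e, he, hI⟩
  tfae_have 2 → 4 := fun ⟨e, he, hI⟩ => hI ▸ projective_quotient he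
  tfae_have 2 → 3 := fun ⟨e, he, hI⟩ => hI ▸ ⟨pure_span he, isOpen_zeroLocus_span he⟩
  tfae_have 3 → 2 := fun ⟨h, ho⟩ => by
    obtain ⟨e, he, hs⟩ := PrimeSpectrum.exists_idempotent_basicOpen_eq_of_isClopen
      (⟨PrimeSpectrum.isClosed_zeroLocus _, ho⟩ : IsClopen (PrimeSpectrum.zeroLocus (I : Set R)))
    refine ⟨1 - e, he.one_sub, ?_⟩
    have := h
    have := pure_span he.one_sub
    rw [← Ideal.zeroLocus_inj_of_pure, hs]
    ext p
    simp only [PrimeSpectrum.zeroLocus_span, PrimeSpectrum.mem_zeroLocus, Set.singleton_subset_iff,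
      SetLike.mem_coe, PrimeSpectrum.mem_basicOpen]
    constructor
    · exact fun hp => (p.2.mem_or_mem (show e * (1 - e) ∈ p.asIdeal by
        rw [mul_sub, mul_one, he.eq, sub_self]; exact p.asIdeal.zero_mem)).resolve_left hp
    · exact fun hp hp' => p.2.ne_top ((Ideal.eq_top_iff_one _).mpr (by simpa using add_mem hp hp'))
  tfae_have 4 → 1 := fun h => by
    refine ⟨inferInstance, ?_⟩
    obtain ⟨s, hs⟩ := Module.projective_lifting_property I.mkQ LinearMap.id (Submodule.mkQ_surjective I)
    let e := s (Submodule.Quotient.mk 1)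
    have he : 1 - e ∈ I := (Submodule.Quotient.eq I).mp (DFunLike.congr_fun hs _).symm
    refine ⟨{1 - e}, ?_⟩
    rw [Finset.coe_singleton]
    refine le_antisymm ((Ideal.span_singleton_le_iff_mem _).mpr he) fun x hx => ?_
    have hxe : x * e = 0 := by
      rw [← smul_eq_mul, ← map_smul, ← Submodule.Quotient.mk_smul, smul_eq_mul, mul_one,
        (Submodule.Quotient.mk_eq_zero I).mpr hx, map_zero]
    exact Ideal.mem_span_singleton.mpr ⟨x, by linear_combination hxe⟩
  tfae_finish

end Groth.Agent.S6354
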