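import Groth.Statements.S6357
import Groth.Agent.Lib.Pure.UI
import Groth.Agent.Lib.Pure.ColimML

set_option autoImplicit false
universe u
open CAlg
open Groth.Agent.Lib.Pure

namespace Groth.Agent.S6357

/-- Given finitely presented R-modules G_i forming a directed system over a nonempty directed index set,
with transition maps f_ij and colimit M, the module M is Mittag-Leffler exactly when every index i
admits some j ≥ i for which f_ij factors through f_ik whenever k ≥ i. -/
theorem result (R : Type u) [CommRing R] {ι : Type u}
    [Preorder ι] [IsDirected ι (· ≤ ·)] [Nonempty ι] [DecidableEq ι] (G : ι → Type u)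
    [∀ i, AddCommGroup (G i)] [∀ i, Module R (G i)] [∀ i, Module.FinitePresentation R (G i)]
    (f : ∀ i j, i ≤ j → G i →ₗ[R] G j) [DirectedSystem G fun i j h => f i j h] :
    CAlg.IsMittagLeffler R (Module.DirectLimit G f) ↔
      ∀ i, ∃ (j : ι) (hij : i ≤ j), ∀ (k : ι) (hik : i ≤ k),
        ∃ h : G k →ₗ[R] G j, f i j hij = h ∘ₗ f i k hik := by
  exact ⟨ColimML.exists_stationary, ColimML.isMittagLeffler_of_stationary⟩

end Groth.Agent.S6357
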