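import Groth.Statements.S6362
import Mathlib.RingTheory.Discriminant
import Mathlib.FieldTheory.PrimitiveElement
import Mathlib.LinearAlgebra.TensorProduct.Basis
import Mathlib.LinearAlgebra.Matrix.NonsingularInverse

set_option autoImplicit false
universe u
open scoped TensorProduct
open Fields

namespace Groth.Agent.S6362

/-- Let K/F be a finite separable extension and L/F an extension with L algebraically closed. Then the
L-algebra map K ⊗_F L → ∏_σ L, indexed by the F-algebra maps σ : K → L and sending a ⊗ b to (σ(a)
b)_σ, is an isomorphism; stated as bijectivity of that map. -/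
theorem result {F K L : Type u} [Field F] [Field K] [Field L]
    [Algebra F K] [Algebra F L] [FiniteDimensional F K] [Algebra.IsSeparable F K] [IsAlgClosed L] :
    Function.Bijective (fun x : K ⊗[F] L => fun σ : K →ₐ[F] L =>
      Algebra.TensorProduct.lift σ (AlgHom.id F L) (fun a b => Commute.all (σ a) b) x) := by
  classical
  let b := Module.finBasis F K
  have hcard : Fintype.card (K →ₐ[F] L) = Module.finrank F K := by
    exact AlgHom.card F K L
  let e : Fin (Module.finrank F K) ≃ (K →ₐ[F] L) :=
    (Fintype.equivFinOfCardEq hcard).symm
  have hdet : (Algebra.embeddingsMatrixReindex F L b e).det ≠ 0 := fun h => by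
    have := Algebra.discr_eq_det_embeddingsMatrixReindex_pow_two F L b e
    rw [h, zero_pow (by norm_num), map_eq_zero] at this
    exact Algebra.discr_not_zero_of_basis F b this
  have hU := (Matrix.isUnit_iff_isUnit_det _).mpr (isUnit_iff_ne_zero.mpr hdet)
  have hbij : Function.Bijective (fun v => Matrix.vecMul v (Algebra.embeddingsMatrixReindex F L b e)) :=
    ⟨Matrix.vecMul_injective_iff_isUnit.mpr hU, Matrix.vecMul_surjective_iff_isUnit.mpr hU⟩
  let E : (K ⊗[F] L) ≃ₗ[F] (Fin (Module.finrank F K) → L) :=
    (TensorProduct.equivFinsuppOfBasisLeft b).trans (Finsupp.linearEquivFunOnFinite F L _)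
  have key : (fun x : K ⊗[F] L => fun σ : K →ₐ[F] L =>
      Algebra.TensorProduct.lift σ (AlgHom.id F L) (fun a b => Commute.all (σ a) b) x) =
      (fun g : Fin (Module.finrank F K) → L => g ∘ e.symm) ∘
        (fun v => Matrix.vecMul v (Algebra.embeddingsMatrixReindex F L b e)) ∘ E := by
    funext x σ
    simp only [Function.comp_apply, Matrix.vecMul, dotProduct]
    induction x using TensorProduct.induction_on with
    | zero => simp
    | add x y hx hy => simp [hx, hy, add_mul, Finset.sum_add_distrib]
    | tmul a l =>
      show σ a * l = _
      conv_lhs => rw [← b.sum_repr a, map_sum, Finset.sum_mul]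
      refine Finset.sum_congr rfl fun i _ => ?_
      simp [E, Algebra.embeddingsMatrixReindex, Algebra.embeddingsMatrix, Algebra.smul_def]
      ring
  rw [key]
  exact (e.arrowCongr (Equiv.refl L)).bijective.comp (hbij.comp E.bijective)

end Groth.Agent.S6362
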