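import Groth.Statements.S6363
import Mathlib.RingTheory.PiTensorProduct
import Mathlib.FieldTheory.Normal.Closure
import Mathlib.FieldTheory.SeparableDegree
import Mathlib.LinearAlgebra.Multilinear.Basic

set_option autoImplicit false
universe u
open scoped TensorProduct
open Fields

namespace Groth.Agent.S6363

/-- For a finite field extension L/K and a normal closure M of L/K, some K-algebra homomorphism from the
n-fold tensor power L ⊗_K ⋯ ⊗_K L to M is surjective, where n = [L : K]_s is the separable degree
(so n ≤ [L : K]). -/
theorem result {K L M : Type u} [Field K] [Field L] [Field M]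
    [Algebra K L] [Algebra K M] [Algebra L M] [IsScalarTower K L M] [FiniteDimensional K L]
    [IsNormalClosure K L M] :
    ∃ f : (⨂[K] _ : Fin (Field.finSepDegree K L), L) →ₐ[K] M, Function.Surjective f := by
  classical
  have hnc : IntermediateField.normalClosure K L M = ⊤ :=
    (Algebra.IsAlgebraic.isNormalClosure_iff.mp inferInstance).2
  haveI hnorm : Normal K M := IsNormalClosure.normal (K := L)
  have hcard : Field.finSepDegree K L = Nat.card (L →ₐ[K] M) :=
    Field.finSepDegree_eq_of_adjoin_splits K L M (IntermediateField.adjoin_univ K L)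
      fun s _ => ⟨Algebra.IsIntegral.isIntegral s, IsNormalClosure.splits s⟩
  let e : Fin (Field.finSepDegree K L) ≃ (L →ₐ[K] M) :=
    (finCongr (hcard.trans Nat.card_eq_fintype_card)).trans (Fintype.equivFin _).symm
  let m : MultilinearMap K (fun _ : Fin (Field.finSepDegree K L) => L) M :=
    (MultilinearMap.mkPiAlgebra K (Fin (Field.finSepDegree K L)) M).compLinearMap
      fun i => (e i).toLinearMap
  let f := PiTensorProduct.liftAlgHom m (by simp [m]) (fun x y => by simp [m, Finset.prod_mul_distrib])
  refine ⟨f, ?_⟩
  haveI : Algebra.IsAlgebraic K M := Normal.toIsAlgebraic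
  have hle : IntermediateField.normalClosure K L M ≤ f.range.toIntermediateField' (by
      exact Subalgebra.isField_of_algebraic _) := by
    refine normalClosure_le_iff.mpr fun σ => ?_
    rintro _ ⟨x, rfl⟩
    refine ⟨PiTensorProduct.tprod K (Pi.mulSingle (e.symm σ) x), ?_⟩
    show f (PiTensorProduct.tprod K (Pi.mulSingle (e.symm σ) x)) = σ x
    have hf : ∀ v, f (PiTensorProduct.tprod K v) = ∏ i, e i (v i) := fun v =>
      PiTensorProduct.lift.tprod (φ := m) v
    rw [hf]
    rw [Finset.prod_eq_single (e.symm σ)]
    · simp
    · intro i _ hi; simp [Pi.mulSingle_eq_of_ne hi]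
    · simp
  rw [hnc] at hle
  exact fun x => hle IntermediateField.mem_top

end Groth.Agent.S6363
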