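import Groth.Statements.S6364
import Mathlib.FieldTheory.IntermediateField.Adjoin.Basic
import Mathlib.LinearAlgebra.Matrix.Charpoly.Minpoly
import Mathlib.LinearAlgebra.Charpoly.ToMatrix
import Mathlib.RingTheory.AlgebraTower

set_option autoImplicit false
universe u
open Fields

namespace Groth.Agent.S6364

open IntermediateField in
/-- Let L/K be a finite extension and a ∈ L with minimal polynomial P over K. Then P ^ e, with e = [L :
K(a)], is the characteristic polynomial of multiplication by a (the K-linear map x ↦ a x on L), and
e · deg P = [L : K]. -/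
theorem result {K L : Type u} [Field K] [Field L] [Algebra K L] [FiniteDimensional K L]
    (a : L) :
    (Algebra.lmul K L a).charpoly = minpoly K a ^ Module.finrank K⟮a⟯ L ∧
      Module.finrank K⟮a⟯ L * (minpoly K a).natDegree = Module.finrank K L := by
  classical
  have hint : IsIntegral K a := Algebra.IsIntegral.isIntegral a
  let pb := IntermediateField.adjoin.powerBasis hint
  let c := Module.finBasis K⟮a⟯ L
  refine ⟨?_, ?_⟩
  · rw [← LinearMap.charpoly_toMatrix _ (pb.basis.smulTower c)]
    have h : LinearMap.toMatrix (pb.basis.smulTower c) (pb.basis.smulTower c) (Algebra.lmul K L a) =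
        Matrix.blockDiagonal fun _ => Algebra.leftMulMatrix pb.basis pb.gen := by
      rw [← Algebra.smulTower_leftMulMatrix_algebraMap pb.basis c pb.gen, Algebra.leftMulMatrix_apply]
      rfl
    rw [h, Matrix.charpoly]
    have hb : ∀ {n o : Type} [Fintype n] [DecidableEq n] [Fintype o] [DecidableEq o]
        (A : o → Matrix n n K), (Matrix.blockDiagonal A).charmatrix =
          Matrix.blockDiagonal fun i => (A i).charmatrix := by
      intro n o _ _ _ _ A
      ext ⟨i, k⟩ ⟨j, l⟩
      by_cases hij : i = j <;> by_cases hkl : k = l <;>
        simp [Matrix.charmatrix_apply, Matrix.blockDiagonal_apply, Matrix.diagonal_apply, hij, hkl]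
    rw [hb, Matrix.det_blockDiagonal, Finset.prod_const, Finset.card_univ, Fintype.card_fin]
    congr 1
    rw [← Matrix.charpoly, charpoly_leftMulMatrix]
    simp [pb, IntermediateField.minpoly_gen]
  · rw [← IntermediateField.adjoin.finrank hint, mul_comm, Module.finrank_mul_finrank]

end Groth.Agent.S6364
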