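import Groth.Statements.S6367
import Mathlib

set_option autoImplicit false
universe u
open CAlg

namespace Groth.Agent.S6367

/-- Let 0 → M₁ → M₂ → M₃ → 0 be a short exact sequence of R-modules (f injective, g surjective, image of
f = kernel of g). If M₁ and M₃ are coherent — finitely generated with every finitely generated
submodule finitely presented — then so is M₂. -/
theorem result (R : Type u) [CommRing R] {M₁ M₂ M₃ : Type u}
    [AddCommGroup M₁] [Module R M₁] [AddCommGroup M₂] [Module R M₂] [AddCommGroup M₃] [Module R M₃]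
    (f : M₁ →ₗ[R] M₂) (g : M₂ →ₗ[R] M₃) (hf : Function.Injective f) (hg : Function.Surjective g)
    (hfg : LinearMap.range f = LinearMap.ker g)
    (h₁ : (Module.Finite R M₁ ∧ ∀ N : Submodule R M₁, N.FG → Module.FinitePresentation R N))
    (h₃ : (Module.Finite R M₃ ∧ ∀ N : Submodule R M₃, N.FG → Module.FinitePresentation R N)) :
    (Module.Finite R M₂ ∧ ∀ N : Submodule R M₂, N.FG → Module.FinitePresentation R N) := by
  obtain ⟨hF1, h1⟩ := h₁
  obtain ⟨hF3, h3⟩ := h₃
  refine ⟨?_, fun N hN => ?_⟩
  · refine ⟨Submodule.fg_of_fg_map_of_fg_inf_ker g ?_ ?_⟩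
    · rw [Submodule.map_top, LinearMap.range_eq_top.2 hg]; exact hF3.fg_top
    · rw [top_inf_eq, ← hfg, LinearMap.range_eq_map]; exact hF1.fg_top.map f
  · haveI := Module.Finite.iff_fg.2 hN
    let l : N →ₗ[R] N.map g := g.submoduleMap N
    have hl : Function.Surjective l := g.submoduleMap_surjective N
    haveI := h3 _ (hN.map g)
    have hk := Module.FinitePresentation.fg_ker l hl
    have e1 : (LinearMap.ker l).map N.subtype = (N.comap f).map f := by
      rw [Submodule.map_comap_eq, hfg]
      ext x
      constructor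
      · rintro ⟨y, hy, rfl⟩
        exact ⟨congrArg Subtype.val hy, y.2⟩
      · rintro ⟨hx, hxN⟩
        exact ⟨⟨x, hxN⟩, Subtype.ext hx, rfl⟩
    have hc : (N.comap f).FG := by
      refine Submodule.fg_of_fg_map_injective f hf ?_
      rw [← e1]; exact hk.map _
    haveI := h1 _ hc
    let e : LinearMap.ker l ≃ₗ[R] N.comap f :=
      (Submodule.equivMapOfInjective N.subtype N.injective_subtype (LinearMap.ker l)) ≪≫ₗ LinearEquiv.ofEq _ _ e1 ≪≫ₗ
        (Submodule.equivMapOfInjective f hf (N.comap f)).symm
    haveI : Module.FinitePresentation R (LinearMap.ker l) := Module.FinitePresentation.of_equiv e.symm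
    exact Module.finitePresentation_of_ker l hl

end Groth.Agent.S6367
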