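import Groth.Statements.S6368
import Groth.Agent.Lib.Pure.UI
import Groth.Agent.Lib.Pure.ProjDescent

set_option autoImplicit false
universe u
open scoped TensorProduct
open CAlg
open Groth.Agent.Lib.Pure

namespace Groth.Agent.S6368

/-- Let R → S be faithfully flat and M an R-module. If the S-module S ⊗_R M is countably generated then
M is countably generated. -/
theorem result (R S : Type u) [CommRing R] [CommRing S] [Algebra R S]
    [Module.FaithfullyFlat R S] (M : Type u) [AddCommGroup M] [Module R M]
    (h : CAlg.IsCountablyGenerated S (S ⊗[R] M)) : CAlg.IsCountablyGenerated R M := by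
  classical
  obtain ⟨t, ht, htspan⟩ := h
  choose F hF using fun z : TensorProduct R S M => TensorProduct.exists_finset z
  let A : Set M := ⋃ z ∈ t, Prod.snd '' (↑(F z) : Set (S × M))
  refine ⟨A, ht.biUnion fun z _ => (F z).finite_toSet.countable.image _, ?_⟩
  refine ProjDescent.eq_top_of_bc S _ (eq_top_iff.2 ?_)
  rw [← htspan, Submodule.span_le]
  intro z hz
  rw [SetLike.mem_coe, hF z]
  refine Submodule.sum_mem _ fun p hp => ?_
  have h1 : TensorProduct.mk R S M 1 p.2 ∈ ProjDescent.bc S (Submodule.span R A) :=
    Submodule.subset_span ⟨p.2, Submodule.subset_span (Set.mem_biUnion hz ⟨p, hp, rfl⟩), rfl⟩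
  have := Submodule.smul_mem _ p.1 h1
  simpa [TensorProduct.smul_tmul'] using this

end Groth.Agent.S6368
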