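import Groth.Statements.S6369
import Mathlib.RingTheory.DedekindDomain.Ideal.Basic
import Mathlib.Tactic.LinearCombination

set_option autoImplicit false
universe u
open CAlg

namespace Groth.Agent.S6369

theorem sup_sq_mul {R : Type u} [CommRing R] (x y : Ideal R) :
    (x ⊔ y) * ((x ⊔ y) * (x ⊔ y)) = (x ⊔ y) * (x * x ⊔ y * y) := by
  have idem : ∀ z : Ideal R, z + z = z := fun z => sup_idem z
  have h1 : (x + y) * ((x + y) * (x + y)) =
      x * x * x + (x * x * y + (x * x * y + x * x * y)) + (x * y * y + (x * y * y + x * y * y)) + y * y * y := by ring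
  have h2 : (x + y) * (x * x + y * y) = x * x * x + x * x * y + x * y * y + y * y * y := by ring
  rw [idem, idem, idem, idem] at h1
  exact h1.trans h2.symm

/-- (1) ⇒ (3): let R be a domain such that every nonzero ideal is a product of nonzero prime ideals,
uniquely up to permutation of the factors. Then R is Noetherian, integrally closed and of dimension
at most one, i.e. a Dedekind domain in the Noetherian sense. (The converse and the description by
discrete valuation rings at maximal ideals are the standard equivalences.) -/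
theorem result (R : Type u) [CommRing R] [IsDomain R]
    (h : ∀ I : Ideal R, I ≠ ⊥ → ∃! s : Multiset (Ideal R), (∀ p ∈ s, p.IsPrime ∧ p ≠ ⊥) ∧ s.prod = I) :
    IsDedekindDomain R := by
    classical
    have hprod : ∀ s : Multiset (Ideal R), (∀ p ∈ s, p.IsPrime ∧ p ≠ ⊥) → s.prod ≠ ⊥ := fun s hs h0 => by
      rw [Ideal.multiset_prod_eq_bot] at h0
      exact (hs ⊥ h0).2 rfl
    -- the monoid of nonzero ideals is cancellative
    have cancel : ∀ I J K : Ideal R, I ≠ ⊥ → J ≠ ⊥ → K ≠ ⊥ → I * J = I * K → J = K := by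
      intro I J K hI hJ hK he
      obtain ⟨sI, ⟨hsI, rfl⟩, -⟩ := h I hI
      obtain ⟨sJ, ⟨hsJ, rfl⟩, -⟩ := h J hJ
      obtain ⟨sK, ⟨hsK, rfl⟩, -⟩ := h K hK
      obtain ⟨t, -, hu⟩ := h (sI.prod * sJ.prod) (by
        rw [← Ideal.zero_eq_bot] at hI hJ ⊢
        exact mul_ne_zero hI hJ)
      have h1 := hu (sI + sJ) ⟨fun p hp => (Multiset.mem_add.mp hp).elim (hsI p) (hsJ p),
        Multiset.prod_add sI sJ⟩
      have h2 := hu (sI + sK) ⟨fun p hp => (Multiset.mem_add.mp hp).elim (hsI p) (hsK p),
        (Multiset.prod_add sI sK).trans he.symm⟩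
      rw [add_left_cancel (h1.trans h2.symm)]
    -- nonzero primes are maximal
    have hmax : ∀ P : Ideal R, P.IsPrime → P ≠ ⊥ → P.IsMaximal := by
      intro P hP hP0
      refine Ideal.isMaximal_iff.mpr ⟨fun h1 => hP.ne_top ((Ideal.eq_top_iff_one P).mpr h1),
        fun J a hPJ haP haJ => ?_⟩
      have ha0 : a ≠ 0 := fun h0 => haP (h0 ▸ P.zero_mem)
      set A := P ⊔ Ideal.span {a}
      set B := P * P ⊔ Ideal.span {a} * Ideal.span {a}
      have hA : A ≠ ⊥ := fun h0 => hP0 (le_bot_iff.mp (h0 ▸ le_sup_left))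
      have hB : B ≠ ⊥ := fun h0 => by
        have : P * P = 0 := Ideal.zero_eq_bot (R := R) ▸ le_bot_iff.mp (h0 ▸ le_sup_left)
        exact hP0 (Ideal.zero_eq_bot (R := R) ▸ (mul_self_eq_zero.mp this))
      have hAA : A * A = B := by
        refine cancel A _ _ hA (by rw [← Ideal.zero_eq_bot] at hA ⊢; exact mul_ne_zero hA hA) hB ?_
        exact sup_sq_mul P (Ideal.span {a})
      have h2 : P * Ideal.span {a} ≤ P * (P ⊔ Ideal.span {a} * Ideal.span {a}) := by
        intro z hz
        have hzB : z ∈ B := by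
          rw [← hAA]
          exact Ideal.mul_mono le_sup_left le_sup_right hz
        obtain ⟨c, hc, d, hd, rfl⟩ := Submodule.mem_sup.mp hzB
        rw [Ideal.mul_sup]
        refine Submodule.add_mem_sup hc ?_
        have hdP : d ∈ P := by
          have h5 := P.sub_mem (Ideal.mul_le_left (I := P) (J := Ideal.span {a}) hz)
            (Ideal.mul_le_left (I := P) (J := P) hc)
          rw [add_sub_cancel_left] at h5
          exact h5
        rw [Ideal.span_singleton_mul_span_singleton] at hd ⊢
        obtain ⟨r, rfl⟩ := Ideal.mem_span_singleton'.mp hd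
        exact Ideal.mul_mem_mul ((hP.mem_or_mem hdP).resolve_right
          (fun h => (hP.mem_or_mem h).elim haP haP)) (Ideal.mem_span_singleton_self _)
      have h3 : Ideal.span {a} ≤ P ⊔ Ideal.span {a} * Ideal.span {a} := by
        have hY : P ⊔ Ideal.span {a} * Ideal.span {a} ≠ ⊥ := fun h0 => hP0 (le_bot_iff.mp (h0 ▸ le_sup_left))
        have hXY : Ideal.span {a} ⊔ (P ⊔ Ideal.span {a} * Ideal.span {a}) ≠ ⊥ := fun h0 =>
          hY (le_bot_iff.mp (h0 ▸ le_sup_right))
        exact sup_eq_right.mp (cancel P _ _ hP0 hXY hY ((Ideal.mul_sup P _ _).trans (sup_eq_right.mpr h2)))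
      obtain ⟨c, hc, d, hd, hcd⟩ := Submodule.mem_sup.mp (h3 (Ideal.mem_span_singleton_self a))
      rw [Ideal.span_singleton_mul_span_singleton] at hd
      obtain ⟨r, rfl⟩ := Ideal.mem_span_singleton'.mp hd
      have h4 : 1 - r * a ∈ P := (hP.mem_or_mem (show a * (1 - r * a) ∈ P by
        have : a * (1 - r * a) = c := by linear_combination (-1 : R) * hcd
        rwa [this])).resolve_left haP
      have := J.add_mem (hPJ h4) (J.mul_mem_left r haJ)
      simpa using this
    -- nonzero primes are invertible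
    have hinvP : ∀ P : Ideal R, P.IsPrime → P ≠ ⊥ →
        IsUnit (P : FractionalIdeal (nonZeroDivisors R) (FractionRing R)) := by
      intro P hP hP0
      obtain ⟨a, ha, ha0⟩ := Submodule.exists_mem_ne_zero_of_ne_bot hP0
      obtain ⟨s, ⟨hs, hse⟩, -⟩ := h (Ideal.span {a}) (by simpa using ha0)
      obtain ⟨Q, hQ, hQP⟩ := (hP.multiset_prod_le).mp
        (hse ▸ (Ideal.span_singleton_le_iff_mem P).mpr ha : s.prod ≤ P)
      obtain rfl : Q = P := (hmax Q (hs Q hQ).1 (hs Q hQ).2).eq_of_le hP.ne_top hQP
      obtain ⟨t, ht⟩ := Multiset.exists_cons_of_mem hQ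
      rw [ht, Multiset.prod_cons] at hse
      have hu : IsUnit ((Ideal.span {a} : Ideal R) :
          FractionalIdeal (nonZeroDivisors R) (FractionRing R)) := by
        rw [FractionalIdeal.coeIdeal_span_singleton, ← FractionalIdeal.mul_inv_cancel_iff_isUnit,
          FractionalIdeal.spanSingleton_inv, FractionalIdeal.spanSingleton_mul_spanSingleton,
          mul_inv_cancel₀ ((map_ne_zero_iff _ (IsFractionRing.injective R (FractionRing R))).mpr ha0),
          FractionalIdeal.spanSingleton_one]
      rw [← hse, FractionalIdeal.coeIdeal_mul] at hu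
      exact (IsUnit.mul_iff.mp hu).1
    refine (isDedekindDomain_iff_mul_inv_cancel (K := FractionRing R)).mpr fun I hI => ?_
    rw [FractionalIdeal.mul_inv_cancel_iff_isUnit]
    obtain ⟨a, J, ha, rfl⟩ := FractionalIdeal.exists_eq_spanSingleton_mul I
    refine IsUnit.mul ?_ ?_
    · rw [← FractionalIdeal.mul_inv_cancel_iff_isUnit, FractionalIdeal.spanSingleton_inv,
        FractionalIdeal.spanSingleton_mul_spanSingleton, mul_inv_cancel₀
          (inv_ne_zero ((map_ne_zero_iff _ (IsFractionRing.injective R (FractionRing R))).mpr ha)),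
        FractionalIdeal.spanSingleton_one]
    · have hJ : J ≠ ⊥ := fun h0 => hI (by rw [h0]; simp)
      obtain ⟨s, ⟨hs, rfl⟩, -⟩ := h J hJ
      clear hI hJ
      induction s using Multiset.induction_on with
      | empty => simp
      | cons p t ih =>
        rw [Multiset.prod_cons, FractionalIdeal.coeIdeal_mul]
        exact (hinvP p (hs p (Multiset.mem_cons_self p t)).1 (hs p (Multiset.mem_cons_self p t)).2).mul
          (ih fun q hq => hs q (Multiset.mem_cons_of_mem hq))

end Groth.Agent.S6369
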