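import Groth.Statements.S6370
import Groth.Agent.Lib.Normalization.DimOne
import Mathlib.RingTheory.Localization.Integral
import Mathlib.RingTheory.DedekindDomain.IntegralClosure

set_option autoImplicit false
set_option linter.style.haveILetI false
universe u
open CAlg

namespace Groth.Agent.S6370

/-- For a one-dimensional Noetherian domain A with fraction field K, a finite field extension L of K
(separable or not) and B the integral closure of A in L: B is a Dedekind domain, Spec B → Spec A is
surjective and has finite fibres, and at every maximal ideal Q of B the residue field B/Q is finite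
over A/(Q ∩ A). -/
theorem result (A K L B : Type u) [CommRing A] [IsDomain A]
    [IsNoetherianRing A] (hdim : ringKrullDim A = 1) [Field K] [Algebra A K] [IsFractionRing A K]
    [Field L] [Algebra K L] [FiniteDimensional K L] [Algebra A L] [IsScalarTower A K L]
    [CommRing B] [IsDomain B] [Algebra A B] [Algebra B L] [IsScalarTower A B L] [IsIntegralClosure B A L] :
    IsDedekindDomain B ∧ Function.Surjective (PrimeSpectrum.comap (algebraMap A B)) ∧
      (∀ p : PrimeSpectrum A, (PrimeSpectrum.comap (algebraMap A B) ⁻¹' {p}).Finite) ∧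
      ∀ Q : Ideal B, Q.IsMaximal → Module.Finite (A ⧸ Q.comap (algebraMap A B)) (B ⧸ Q) := by
  classical
  haveI : Ring.KrullDimLE 1 A := Ring.krullDimLE_iff.2 hdim.le
  obtain ⟨s, b, hb⟩ := FiniteDimensional.exists_is_basis_integral A K L
  let A' : Subalgebra A L := Algebra.adjoin A (Set.range b)
  haveI : Module.Finite A A' :=
    Module.Finite.iff_fg.2 (fg_adjoin_of_finite (Set.finite_range b) (Set.forall_mem_range.2 hb))
  haveI : Algebra.IsIntegral A A' := inferInstance
  haveI : IsNoetherianRing A' := isNoetherianRing_iff.mpr (isNoetherian_of_tower A inferInstance)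
  haveI : Ring.KrullDimLE 1 A' := by
    refine Ring.krullDimLE_one_iff_of_noZeroDivisors.2 fun P hP0 hP => ?_
    haveI := hP
    haveI : (P.comap (algebraMap A A')).IsMaximal :=
      Ring.krullDimLE_one_iff_of_noZeroDivisors.1 ‹Ring.KrullDimLE 1 A› _
        (Ideal.IsIntegral.comap_ne_bot (R := A) hP0) inferInstance
    exact Ideal.isMaximal_of_isIntegral_of_isMaximal_comap P this
  haveI : IsFractionRing A' L := IsFractionRing.of_field _ _ fun z => by
    obtain ⟨a, ha⟩ := IsLocalization.exist_integer_multiples (nonZeroDivisors A) Finset.univ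
      (fun i => b.repr z i)
    have ha0 : algebraMap A L (a : A) ≠ 0 := by
      rw [IsScalarTower.algebraMap_apply A K L, map_ne_zero_iff _ (algebraMap K L).injective,
        map_ne_zero_iff _ (IsFractionRing.injective A K)]
      exact nonZeroDivisors.ne_zero a.2
    have hmem : algebraMap A L (a : A) * z ∈ A' := by
      rw [← b.sum_repr z, Finset.mul_sum]
      refine A'.sum_mem fun i _ => ?_
      obtain ⟨n, hn⟩ := ha i (Finset.mem_univ i)
      rw [Algebra.smul_def] at hn
      rw [Algebra.smul_def, ← mul_assoc, IsScalarTower.algebraMap_apply A K L, ← map_mul, ← hn,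
        ← IsScalarTower.algebraMap_apply]
      exact A'.mul_mem (A'.algebraMap_mem n) (Algebra.subset_adjoin ⟨i, rfl⟩)
    exact ⟨⟨_, hmem⟩, algebraMap A A' a, (mul_div_cancel_left₀ z ha0).symm⟩
  have hC : IsIntegralClosure (integralClosure A' L) A L :=
    { algebraMap_injective := Subtype.val_injective
      isIntegral_iff := fun {x} => ⟨fun hx => ⟨⟨x, hx.tower_top⟩, rfl⟩, by
        rintro ⟨y, rfl⟩; exact isIntegral_trans (R := A) (A := A') _ y.2⟩ }
  let e : B ≃ₐ[A] integralClosure A' L := IsIntegralClosure.equiv A B L (integralClosure A' L)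
  have hD := Groth.Agent.Lib.SemiLocalDimOne.KrullAkizuki.isDedekindDomain_integralClosure (R := A') (K := L)
  haveI : IsNoetherianRing B := isNoetherianRing_of_ringEquiv _ e.symm.toRingEquiv
  haveI : IsIntegrallyClosed B := IsIntegrallyClosed.of_equiv e.symm.toRingEquiv
  haveI : Ring.DimensionLEOne B := ⟨fun {P} hP0 hP => by
    haveI := hP
    have hne : P.comap e.symm ≠ ⊥ := fun h => hP0 (by
      rw [← Ideal.map_comap_of_surjective _ e.symm.surjective P, h, Ideal.map_bot])
    haveI : (P.comap e.symm).IsMaximal := Ring.DimensionLEOne.maximalOfPrime hne inferInstance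
    rw [← Ideal.map_comap_of_surjective _ e.symm.surjective P]
    exact Ideal.IsMaximal.map_bijective e.symm e.symm.bijective this⟩
  haveI hBD : IsDedekindDomain B := { }
  haveI : Algebra.IsIntegral A B := IsIntegralClosure.isIntegral_algebra A L
  have hinj : Function.Injective (algebraMap A B) := by
    intro x y hxy
    have := congrArg (algebraMap B L) hxy
    rw [← IsScalarTower.algebraMap_apply, ← IsScalarTower.algebraMap_apply,
      IsScalarTower.algebraMap_apply A K L, IsScalarTower.algebraMap_apply A K L] at this
    exact IsFractionRing.injective A K ((algebraMap K L).injective this)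
  haveI : FaithfulSMul A B := (faithfulSMul_iff_algebraMap_injective A B).2 hinj
  have hfacts := Groth.Agent.Lib.Normalization.DimOne.closure_prime_facts (A := A') (K := L)
  refine ⟨hBD, fun p => ?_, fun p => ?_, fun Q hQ => ?_⟩
  · obtain ⟨Q, -, hQ, hQp⟩ := Ideal.exists_ideal_over_prime_of_isIntegral p.asIdeal (⊥ : Ideal B)
      (by rw [← RingHom.ker_eq_comap_bot, (RingHom.injective_iff_ker_eq_bot _).1 hinj]; exact bot_le)
    exact ⟨⟨Q, hQ⟩, PrimeSpectrum.ext hQp⟩
  · have hP' : {P : Ideal A' | P.IsPrime ∧ P.comap (algebraMap A A') = p.asIdeal}.Finite := by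
      refine (Algebra.QuasiFinite.finite_primesOver p.asIdeal).subset fun P hP => ?_
      exact ⟨hP.1, ⟨hP.2.symm⟩⟩
    have hfin : {Q : Ideal (integralClosure A' L) | Q.IsPrime ∧
        Q.comap (algebraMap A (integralClosure A' L)) = p.asIdeal}.Finite := by
      refine (hP'.biUnion fun P hP => hfacts.2 P hP.1).subset fun Q hQ => ?_
      refine Set.mem_iUnion₂.2 ⟨Q.comap (algebraMap A' _), ⟨hQ.1.comap _, ?_⟩, hQ.1, rfl⟩
      rw [Ideal.comap_comap, ← IsScalarTower.algebraMap_eq]
      exact hQ.2
    refine Set.Finite.of_finite_image (f := fun q : PrimeSpectrum B => q.asIdeal.comap e.symm)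
      (hfin.subset ?_) fun q _ q' _ h => PrimeSpectrum.ext
        (Ideal.comap_injective_of_surjective _ e.symm.surjective h)
    rintro _ ⟨q, hq, rfl⟩
    refine ⟨inferInstance, ?_⟩
    ext a
    simp only [Ideal.mem_comap, AlgEquiv.commutes]
    exact SetLike.ext_iff.1 (congrArg PrimeSpectrum.asIdeal hq) a
  · have hQ0 : Q.comap e.symm ≠ ⊥ := by
      intro h
      have h' : Q.comap (algebraMap A B) = ⊥ := eq_bot_iff.2 fun a ha => by
        have : algebraMap A (integralClosure A' L) a ∈ Q.comap e.symm := by
          rw [Ideal.mem_comap, AlgEquiv.commutes]; exact ha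
        rw [h, Submodule.mem_bot] at this
        exact (Submodule.mem_bot A).2 (hinj (e.injective (by
          rw [AlgEquiv.commutes, map_zero, this, map_zero])))
      have hm : (Q.comap (algebraMap A B)).IsMaximal := Ideal.isMaximal_comap_of_isIntegral_of_isMaximal Q
      rw [h'] at hm
      have h0 : ringKrullDim A = 0 :=
        ringKrullDim_eq_zero_of_isField (Ring.isField_iff_maximal_bot.2 hm)
      rw [hdim] at h0
      exact one_ne_zero h0
    haveI := hfacts.1 (Q.comap e.symm) inferInstance hQ0
    haveI : Module.Finite A (integralClosure A' L ⧸ Q.comap e.symm) := Module.Finite.trans A' _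
    haveI : Module.Finite A (B ⧸ Q) :=
      Module.Finite.equiv (Ideal.quotientEquivAlg (Q.comap e.symm) Q e.symm
        (Ideal.map_comap_of_surjective _ e.symm.surjective Q).symm).toLinearEquiv
    exact Module.Finite.of_restrictScalars_finite A _ _

end Groth.Agent.S6370
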