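import Groth.Statements.S6371
import Mathlib.Algebra.Algebra.Epi
import Mathlib.RingTheory.Localization.BaseChange
import Mathlib.Algebra.Module.LocalizedModule.IsLocalization


set_option autoImplicit false
universe u
open CAlg

open TensorProduct

namespace Groth.Agent.S6371

/-- A ring map R → S is an epimorphism of rings if and only if for every prime p of R the localized map
R_p → S_p is an epimorphism, where S_p is S localized at the image of R ∖ p. -/
theorem result (R S : Type u) [CommRing R] [CommRing S] [Algebra R S] :
    Algebra.IsEpi R S ↔ ∀ (p : Ideal R) [p.IsPrime],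
      Algebra.IsEpi (Localization.AtPrime p) (Localization (Algebra.algebraMapSubmonoid S p.primeCompl)) := by
  constructor
  · intro h p hp
    let Rp := Localization.AtPrime p
    let Sp := Localization (Algebra.algebraMapSubmonoid S p.primeCompl)
    refine (Algebra.isEpi_iff_forall_one_tmul_eq Rp Sp).mpr fun a => ?_
    obtain ⟨⟨s, u⟩, hsu⟩ := IsLocalizedModule.surj p.primeCompl
      (IsScalarTower.toAlgHom R S Sp).toLinearMap a
    obtain ⟨v, hv⟩ := IsLocalization.map_units Rp u
    have ha : a = (↑v⁻¹ : Rp) • algebraMap S Sp s := by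
      have h1 : (v : Rp) • a = algebraMap S Sp s := by
        rw [hv, algebraMap_smul]; exact hsu
      rw [← h1, smul_smul, Units.inv_mul, one_smul]
    have key : (1 : Sp) ⊗ₜ[Rp] algebraMap S Sp s = algebraMap S Sp s ⊗ₜ[Rp] (1 : Sp) := by
      have h2 := (Algebra.isEpi_iff_forall_one_tmul_eq R S).mp h s
      have hsm : ∀ (r : R) (x : S), algebraMap S Sp (r • x) = r • algebraMap S Sp x := fun r x =>
        map_smul (IsScalarTower.toAlgHom R S Sp) r x
      let φ : S ⊗[R] S →ₗ[R] Sp ⊗[Rp] Sp :=
        TensorProduct.lift (LinearMap.mk₂ R (fun x y => algebraMap S Sp x ⊗ₜ[Rp] algebraMap S Sp y)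
          (fun x x' y => by rw [map_add, TensorProduct.add_tmul])
          (fun r x y => by rw [hsm, TensorProduct.smul_tmul'])
          (fun x y y' => by rw [map_add, TensorProduct.tmul_add])
          (fun r x y => by rw [hsm, TensorProduct.tmul_smul]))
      have h3 := congrArg φ h2
      simpa [φ, LinearMap.mk₂_apply] using h3
    rw [ha, TensorProduct.tmul_smul, key, TensorProduct.smul_tmul']
  · intro h
    refine (Algebra.isEpi_iff_forall_one_tmul_eq R S).mpr fun s => ?_
    set z : S ⊗[R] S := 1 ⊗ₜ[R] s - s ⊗ₜ[R] 1
    rw [← sub_eq_zero]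
    refine Submodule.mem_bot (R := R) |>.mp ?_
    have hann : (Submodule.span R {z}).annihilator = ⊤ := by
      by_contra hne
      obtain ⟨p, hp, hle⟩ := Ideal.exists_le_maximal _ hne
      let Rp := Localization.AtPrime p
      let Sp := Localization (Algebra.algebraMapSubmonoid S p.primeCompl)
      let f := (IsScalarTower.toAlgHom R S Sp).toLinearMap
      have h1 := (Algebra.isEpi_iff_forall_one_tmul_eq Rp Sp).mp (h p) (algebraMap S Sp s)
      have h2 : TensorProduct.map f f z = 0 := by
        apply (IsLocalization.moduleTensorEquiv p.primeCompl Rp Sp Sp).symm.injective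
        rw [map_zero]
        simp only [z, map_sub, TensorProduct.map_tmul]
        simp only [f, AlgHom.toLinearMap_apply, IsScalarTower.coe_toAlgHom', map_one]
        exact sub_eq_zero.mpr h1
      obtain ⟨m, hm⟩ := (IsLocalizedModule.eq_zero_iff p.primeCompl (TensorProduct.map f f)).mp h2
      exact m.2 (hle ((Submodule.mem_annihilator_span_singleton z (m : R)).mpr hm))
    have := Submodule.mem_annihilator_span_singleton z (1 : R)
    rw [hann] at this
    simpa using this

end Groth.Agent.S6371
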