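import Groth.Statements.S6372
import Groth.Agent.H21.EpiFlat

set_option autoImplicit false
universe u
open CAlg

namespace Groth.Agent.S6372

/-- A faithfully flat epimorphism of rings is an isomorphism: if R → S is faithfully flat and an
epimorphism in the category of rings then it is bijective. -/
theorem result (R S : Type u) [CommRing R] [CommRing S] [Algebra R S]
    [Module.FaithfullyFlat R S] [Algebra.IsEpi R S] : Function.Bijective (algebraMap R S) := by
  exact Groth.Agent.H21.EpiFlat.bijective_of_faithfullyFlat_of_isEpi

end Groth.Agent.S6372
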