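import Groth.Statements.S6374
import Mathlib.RingTheory.LocalRing.ResidueField.Fiber
-- import your own Groth.Agent.* helpers here

set_option autoImplicit false
universe u
open CAlg

namespace Groth.Agent.S6374

open TensorProduct in
theorem key (R S : Type u) [CommRing R] [CommRing S] [Algebra R S] [Algebra.IsEpi R S]
    (p : Ideal R) [p.IsPrime] :
    Subsingleton (p.Fiber S) ∨ Function.Bijective (algebraMap p.ResidueField (p.Fiber S)) := by
  rcases subsingleton_or_nontrivial (p.Fiber S) with h | h
  · exact Or.inl h
  have hF : Algebra.IsEpi p.ResidueField (p.Fiber S) := by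
    rw [Algebra.isEpi_iff_forall_one_tmul_eq]
    intro a
    induction a using TensorProduct.induction_on with
    | zero => simp
    | add x y hx hy => rw [tmul_add, add_tmul, hx, hy]
    | tmul c s =>
      let ι : S →ₗ[R] p.Fiber S := TensorProduct.mk R p.ResidueField S 1
      let φ : S ⊗[R] S →ₗ[R] p.Fiber S ⊗[p.ResidueField] p.Fiber S :=
        TensorProduct.lift (((TensorProduct.mk p.ResidueField (p.Fiber S) (p.Fiber S)).restrictScalars₁₂ R R).compl₁₂ ι ι)
      have h1 : φ (1 ⊗ₜ s) = φ (s ⊗ₜ 1) :=
        congrArg φ ((Algebra.isEpi_iff_forall_one_tmul_eq R S).mp inferInstance s)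
      simp only [φ, ι, lift.tmul, LinearMap.compl₁₂_apply, mk_apply, LinearMap.restrictScalars₁₂_apply_apply] at h1
      have hc : c ⊗ₜ[R] s = c • (1 : p.ResidueField) ⊗ₜ[R] s := by rw [smul_tmul', smul_eq_mul, mul_one]
      rw [hc, tmul_smul, Algebra.TensorProduct.one_def, h1, smul_tmul']
  refine Or.inr ⟨RingHom.injective _, fun a => ?_⟩
  by_contra ha
  have hli : LinearIndependent p.ResidueField ![(1 : p.Fiber S), a] := by
    rw [LinearIndependent.pair_iff' one_ne_zero]
    intro c hc
    exact ha ⟨c, by rw [Algebra.algebraMap_eq_smul_one]; exact hc⟩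
  let b := (LinearMap.exists_leftInverse_of_injective (Finsupp.linearCombination p.ResidueField ![(1 : p.Fiber S), a])
    (LinearMap.ker_eq_bot.mpr hli))
  obtain ⟨g, hg⟩ := b
  have hg0 : g 1 = Finsupp.single 0 1 := by
    simpa using LinearMap.congr_fun hg (Finsupp.single 0 1)
  have hg1 : g a = Finsupp.single 1 1 := by
    simpa using LinearMap.congr_fun hg (Finsupp.single 1 1)
  let ψ : p.Fiber S ⊗[p.ResidueField] p.Fiber S →ₗ[p.ResidueField] p.ResidueField :=
    TensorProduct.lift ((LinearMap.mul p.ResidueField p.ResidueField).compl₁₂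
      ((Finsupp.lapply 0).comp g) ((Finsupp.lapply 1).comp g))
  have := congrArg ψ ((Algebra.isEpi_iff_forall_one_tmul_eq p.ResidueField (p.Fiber S)).mp hF a)
  simp [ψ, hg0, hg1] at this

/-- For an epimorphism of rings R → S, the induced map Spec S → Spec R is injective and induces trivial
residue field extensions; stated in the form the proof gives: for every prime p of R the fibre ring
S ⊗_R κ(p) is either zero or κ(p) → S ⊗_R κ(p) is bijective, together with injectivity of Spec S →
Spec R. -/
theorem result (R S : Type u) [CommRing R] [CommRing S] [Algebra R S]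
    [Algebra.IsEpi R S] :
    Function.Injective (PrimeSpectrum.comap (algebraMap R S)) ∧
      ∀ (p : Ideal R) [p.IsPrime],
        Subsingleton (p.Fiber S) ∨ Function.Bijective (algebraMap p.ResidueField (p.Fiber S)) := by
  refine ⟨fun x y hxy => ?_, fun p _ => key R S p⟩
  set p := PrimeSpectrum.comap (algebraMap R S) x with hp
  have hx : x ∈ PrimeSpectrum.comap (algebraMap R S) ⁻¹' {p} := by simp [hp]
  have hy : y ∈ PrimeSpectrum.comap (algebraMap R S) ⁻¹' {p} := by simp [hxy]
  have : Subsingleton (PrimeSpectrum (p.asIdeal.Fiber S)) := by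
    rcases key R S p.asIdeal with h | h
    · exact ⟨fun a => absurd (Subsingleton.elim (1 : p.asIdeal.Fiber S) 0 ▸ a.asIdeal.zero_mem)
        ((Ideal.ne_top_iff_one _).mp a.isPrime.ne_top)⟩
    · let e := RingEquiv.ofBijective _ h
      exact (PrimeSpectrum.comap_injective_of_surjective e.toRingHom e.surjective).subsingleton
  exact congrArg Subtype.val ((PrimeSpectrum.preimageEquivFiber R S p).injective
    (Subsingleton.elim (PrimeSpectrum.preimageEquivFiber R S p ⟨x, hx⟩) (PrimeSpectrum.preimageEquivFiber R S p ⟨y, hy⟩)))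

end Groth.Agent.S6374
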