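import Groth.Statements.S6375
import Mathlib.Algebra.Algebra.Epi
import Mathlib.Algebra.MvPolynomial.Cardinal
import Mathlib.LinearAlgebra.TensorProduct.RightExactness
import Mathlib.Algebra.MvPolynomial.Variables
import Mathlib.SetTheory.Cardinal.Finsupp

set_option autoImplicit false
universe u
open CAlg

namespace Groth.Agent.S6375

/-- For an infinite source ring: if R → S is an epimorphism of rings with R infinite, then |S| ≤ |R| as
cardinals. (For finite R the published statement also asserts |S| ≤ |R|, but its proof only gives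
that S is countable and omits the rest, so that case is not included.) -/
theorem result (R S : Type u) [CommRing R] [CommRing S] [Algebra R S] [Algebra.IsEpi R S]
    [Infinite R] : Cardinal.mk S ≤ Cardinal.mk R := by
  classical
  let P := MvPolynomial ℕ R
  let inl : P →ₐ[R] TensorProduct R P P := Algebra.TensorProduct.includeLeft
  let inr : P →ₐ[R] TensorProduct R P P := Algebra.TensorProduct.includeRight
  let Data : S → Finset P → Prop := fun g F =>
    (∃ φ : P →ₐ[R] S, φ (MvPolynomial.X 0) = g ∧ ∀ p ∈ F, φ p = 0) ∧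
      inl (MvPolynomial.X 0) - inr (MvPolynomial.X 0) ∈ Ideal.span (inl '' F ∪ inr '' F)
  have hex : ∀ g : S, ∃ F, Data g F := by
    intro g
    let PS := MvPolynomial S R
    let π : PS →ₐ[R] S := MvPolynomial.aeval id
    have hπ : Function.Surjective π := fun s => ⟨MvPolynomial.X s, MvPolynomial.aeval_X _ _⟩
    let il : PS →ₐ[R] TensorProduct R PS PS := Algebra.TensorProduct.includeLeft
    let ir : PS →ₐ[R] TensorProduct R PS PS := Algebra.TensorProduct.includeRight
    let f : Bool × PS → TensorProduct R PS PS := fun p => cond p.1 (il p.2) (ir p.2)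
    have hker : il (MvPolynomial.X g) - ir (MvPolynomial.X g) ∈
        Ideal.span (f '' {p | π p.2 = 0}) := by
      have hmem : il (MvPolynomial.X g) - ir (MvPolynomial.X g) ∈
          RingHom.ker (Algebra.TensorProduct.map π π) := by
        rw [RingHom.mem_ker, map_sub]
        simp only [il, ir, Algebra.TensorProduct.includeLeft_apply,
          Algebra.TensorProduct.includeRight_apply, Algebra.TensorProduct.map_tmul, map_one,
          show π (MvPolynomial.X g) = g from MvPolynomial.aeval_X id g]
        rw [(Algebra.isEpi_iff_forall_one_tmul_eq R S).1 ‹_› g, sub_self]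
      rw [Algebra.TensorProduct.map_ker π π hπ hπ] at hmem
      refine SetLike.le_def.1 (sup_le ?_ ?_) hmem
      · exact Ideal.map_le_iff_le_comap.2 fun p hp => Ideal.subset_span ⟨(true, p), hp, rfl⟩
      · exact Ideal.map_le_iff_le_comap.2 fun p hp => Ideal.subset_span ⟨(false, p), hp, rfl⟩
    obtain ⟨T, hT, hmemT⟩ := Submodule.mem_span_finite_of_mem_span hker
    obtain ⟨F', hF', rfl⟩ := Finset.subset_set_image_iff.1 hT
    let V : Finset S := insert g (F'.biUnion fun p => p.2.vars)
    obtain ⟨e, he⟩ : ∃ e : S → ℕ, Set.InjOn e V ∧ e g = 0 := by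
      obtain ⟨n, ⟨a⟩⟩ := Finite.exists_equiv_fin V
      let e0 : S → ℕ := fun s => if h : s ∈ V then (a ⟨s, h⟩ : ℕ) + 1 else 0
      have he0 : Set.InjOn e0 V := by
        intro x hx y hy hxy
        simp only [e0, dif_pos (Finset.mem_coe.1 hx), dif_pos (Finset.mem_coe.1 hy),
          Nat.add_right_cancel_iff] at hxy
        exact Subtype.ext_iff.1 (a.injective (Fin.ext hxy))
      refine ⟨Equiv.swap (e0 g) 0 ∘ e0, (Equiv.injective _).comp_injOn he0, ?_⟩
      simp
    let ρ : PS →ₐ[R] P := MvPolynomial.rename e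
    let φ : P →ₐ[R] S := MvPolynomial.aeval fun i =>
      if h : ∃ s ∈ V, e s = i then h.choose else 0
    have hφe : ∀ s ∈ V, φ (MvPolynomial.X (e s)) = s := by
      intro s hs
      have h : ∃ t ∈ V, e t = e s := ⟨s, hs, rfl⟩
      refine (MvPolynomial.aeval_X _ _).trans ?_
      rw [dif_pos h]
      exact he.1 h.choose_spec.1 hs h.choose_spec.2
    have hgV : g ∈ V := Finset.mem_insert_self _ _
    have hρg : ρ (MvPolynomial.X g) = MvPolynomial.X 0 := by
      refine (MvPolynomial.rename_X _ _).trans ?_
      rw [he.2]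
    refine ⟨F'.image (fun p => ρ p.2), ⟨φ, ?_, ?_⟩, ?_⟩
    · rw [← he.2]; exact hφe g hgV
    · intro q hq
      obtain ⟨p, hp, rfl⟩ := Finset.mem_image.1 hq
      have hv : ∀ i ∈ p.2.vars, i ∈ V := fun i hi =>
        Finset.mem_insert_of_mem (Finset.mem_biUnion.2 ⟨p, hp, hi⟩)
      have := MvPolynomial.hom_congr_vars (f₁ := ((φ.comp ρ : PS →ₐ[R] S) : PS →+* S))
        (f₂ := (π : PS →+* S)) (p₁ := p.2) (p₂ := p.2)
        (RingHom.ext fun r => by
          show φ (ρ (algebraMap R PS r)) = π (algebraMap R PS r)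
          simp only [AlgHom.commutes])
        (fun i hi _ => by
          show φ (ρ (MvPolynomial.X i)) = π (MvPolynomial.X i)
          rw [show ρ (MvPolynomial.X i) = MvPolynomial.X (e i) from MvPolynomial.rename_X e i,
            hφe i (hv i hi), show π (MvPolynomial.X i) = i from MvPolynomial.aeval_X _ i]) rfl
      exact this.trans (hF' hp)
    · let θ := Algebra.TensorProduct.map ρ ρ
      have key := Ideal.mem_map_of_mem θ hmemT
      rw [map_sub, Ideal.map_span] at key
      have h1 : θ (il (MvPolynomial.X g)) = inl (MvPolynomial.X 0) := by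
        simp only [θ, il, inl, Algebra.TensorProduct.includeLeft_apply,
          Algebra.TensorProduct.map_tmul, map_one, hρg]
      have h2 : θ (ir (MvPolynomial.X g)) = inr (MvPolynomial.X 0) := by
        simp only [θ, ir, inr, Algebra.TensorProduct.includeRight_apply,
          Algebra.TensorProduct.map_tmul, map_one, hρg]
      rw [h1, h2] at key
      refine SetLike.le_def.1 (Ideal.span_mono ?_) key
      rintro _ ⟨_, hy, rfl⟩
      obtain ⟨⟨b, p⟩, hp, rfl⟩ := Finset.mem_image.1 (Finset.mem_coe.1 hy)
      have hm : ρ p ∈ (↑(F'.image fun p => ρ p.2) : Set P) :=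
        Finset.mem_coe.2 (Finset.mem_image.2 ⟨(b, p), hp, rfl⟩)
      cases b
      · exact Or.inr ⟨ρ p, hm, by simp [θ, f, ir, inr]⟩
      · exact Or.inl ⟨ρ p, hm, by simp [θ, f, il, inl]⟩
  choose d hd using hex
  have hinj : Function.Injective d := by
    intro g g' hgg'
    obtain ⟨⟨φ, hφg, hφ0⟩, hF⟩ := hd g
    obtain ⟨⟨φ', hφg', hφ0'⟩, -⟩ := hd g'
    let μ := Algebra.TensorProduct.lift φ φ' (fun _ _ => Commute.all _ _)
    have hle : Ideal.span (inl '' (d g : Set P) ∪ inr '' (d g : Set P)) ≤ RingHom.ker μ := by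
      rw [Ideal.span_le]
      rintro _ (⟨p, hp, rfl⟩ | ⟨p, hp, rfl⟩)
      · simp [μ, inl, hφ0 p hp]
      · simp [μ, inr, hφ0' p (hgg' ▸ hp)]
    have := hle hF
    rw [RingHom.mem_ker, map_sub, sub_eq_zero] at this
    simpa [μ, inl, inr, hφg, hφg'] using this
  calc Cardinal.mk S ≤ Cardinal.mk (Finset P) := Cardinal.mk_le_of_injective hinj
    _ = Cardinal.mk P := Cardinal.mk_finset_of_infinite P
    _ ≤ Cardinal.mk R := by
      rw [MvPolynomial.cardinalMk_eq_max_lift]
      simp [Cardinal.aleph0_le_mk]

end Groth.Agent.S6375
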