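import Groth.Statements.S6378
import Groth.Agent.H25.TorBridge
import Mathlib.RingTheory.SimpleModule.Basic
import Mathlib.RingTheory.Length
-- import your own Groth.Agent.* helpers here

set_option autoImplicit false
universe u
open CategoryTheory
open CAlg

namespace Groth.Agent.S6378

/-- Let (R, m, κ) be a local ring and M an R-module with Tor_1^R(κ, M) = 0. Then Tor_1^R(N, M) = 0 for
every finite length R-module N. -/
theorem result (R : Type u) [CommRing R] [IsLocalRing R]
    (M : Type u) [AddCommGroup M] [Module R M]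
    (h : Limits.IsZero (((CategoryTheory.Tor (ModuleCat.{u} R) 1).obj (ModuleCat.of R (IsLocalRing.ResidueField R))).obj (ModuleCat.of R M)))
    (N : Type u) [AddCommGroup N] [Module R N] (hN : IsFiniteLength R N) :
    Limits.IsZero (((CategoryTheory.Tor (ModuleCat.{u} R) 1).obj (ModuleCat.of R N)).obj (ModuleCat.of R M)) := by
  have h1 : Groth.Agent.Lib.LocalFlat.Basic.Tor1Zero R M (IsLocalRing.ResidueField R) :=
    (Groth.Agent.H25.TorBridge.isZero_iff (M := ModuleCat.of R M) (IsLocalRing.ResidueField R)).mp
      (h.of_iso (Groth.Agent.Lib.Tor.Balance.torFlipIso _ _ 1))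
  suffices h2 : Groth.Agent.Lib.LocalFlat.Basic.Tor1Zero R M N from
    ((Groth.Agent.H25.TorBridge.isZero_iff (M := ModuleCat.of R M) N).mpr h2).of_iso
      (Groth.Agent.Lib.Tor.Balance.torFlipIso _ _ 1)
  clear h
  induction hN with
  | @of_subsingleton N _ _ _ =>
    intro A B _ _ _ _ f g hf hfg hg
    have : Function.Surjective f := fun b => (hfg b).mp (Subsingleton.elim _ _)
    exact ((LinearEquiv.ofBijective f ⟨hf, this⟩).lTensor M).injective
  | @of_simple_quotient N _ _ N' _ _ ih =>
    obtain ⟨I, hI, ⟨e⟩⟩ := isSimpleModule_iff_quot_maximal.mp (inferInstance : IsSimpleModule R (N ⧸ N'))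
    obtain rfl := IsLocalRing.eq_maximalIdeal hI
    exact Groth.Agent.Lib.LocalFlat.Basic.Tor1Zero.extension N'.subtype N'.mkQ N'.injective_subtype
      (LinearMap.exact_subtype_mkQ N') N'.mkQ_surjective ih (h1.of_equiv e.symm)

end Groth.Agent.S6378
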