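import Groth.Statements.S6381
import Mathlib
-- import your own Groth.Agent.* helpers here

set_option autoImplicit false
universe u
open CAlg

namespace Groth.Agent.S6381

/-- A finite free algebra `S` with a map to `L` whose kernel is the extension of `p`. -/
theorem step {R : Type u} [CommRing R] (p : Ideal R) {L : Type u} [Field L] [Algebra R L]
    (S : Type u) [CommRing S] [Algebra R S] [Module.Finite R S] [Module.Free R S] (φ : S →ₐ[R] L)
    (hφ : RingHom.ker φ = p.map (algebraMap R S)) (α : L) (hα : IsIntegral (Subfield.closure (φ.range : Set L)) α) :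
    ∃ (S' : Type u) (_ : CommRing S') (_ : Algebra R S') (_ : Module.Finite R S') (_ : Module.Free R S')
      (φ' : S' →ₐ[R] L), RingHom.ker φ' = p.map (algebraMap R S') ∧
        (φ.range : Set L) ⊆ φ'.range ∧ α ∈ Subfield.closure (φ'.range : Set L) := by
  classical
  letI : Algebra S L := φ.toRingHom.toAlgebra
  set F := Subfield.closure (φ.range : Set L) with hF
  set P := minpoly F α with hP
  have hmem : ∀ z : F, ∃ a b : S, φ b ≠ 0 ∧ (z : L) * φ b = φ a := by
    intro z
    obtain ⟨x, hx, y, hy, hxy⟩ := Subfield.mem_closure_iff.1 z.2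
    have hcl : Subring.closure (φ.range : Set L) = φ.range.toSubring :=
      le_antisymm (Subring.closure_le.2 fun w hw => hw) fun w hw => Subring.subset_closure hw
    rw [hcl] at hx hy
    obtain ⟨a, rfl⟩ := hx
    obtain ⟨b, rfl⟩ := hy
    by_cases hb : φ b = 0
    · refine ⟨0, 1, by simp, ?_⟩
      rw [← hxy]; change φ a / φ b * _ = _; rw [hb]; simp
    · exact ⟨a, b, hb, by rw [← hxy]; exact div_mul_cancel₀ _ hb⟩
  choose a b hb hab using fun i => hmem (P.coeff i)
  set d : S := ∏ i ∈ Finset.range P.natDegree, b i with hd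
  have hd0 : φ d ≠ 0 := by
    rw [hd, map_prod]; exact Finset.prod_ne_zero_iff.2 fun i _ => hb i
  set δ : F := ⟨φ d, Subfield.subset_closure ⟨d, rfl⟩⟩ with hδ
  set Q := P.scaleRoots δ with hQdef
  have hl : Q.map (algebraMap F L) ∈ Polynomial.lifts (φ : S →+* L) := by
    rw [Polynomial.lifts_iff_coeff_lifts]
    intro i
    rw [Polynomial.coeff_map, hQdef, Polynomial.coeff_scaleRoots]
    rcases lt_trichotomy i P.natDegree with hi | rfl | hi
    · obtain ⟨e, he⟩ : b i ∣ d := Finset.dvd_prod_of_mem b (Finset.mem_range.2 hi)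
      refine ⟨a i * e * d ^ (P.natDegree - i - 1), ?_⟩
      show φ _ = ((P.coeff i : F) : L) * (φ d) ^ (P.natDegree - i)
      rw [map_mul, map_mul, map_pow, ← hab i,
        show (φ d) ^ (P.natDegree - i) = φ d * φ d ^ (P.natDegree - i - 1) by rw [← pow_succ', show P.natDegree - i - 1 + 1 = P.natDegree - i by omega]]
      rw [show φ d = φ (b i) * φ e by rw [← map_mul, ← he]]
      ring
    · exact ⟨1, by simp [(minpoly.monic hα).coeff_natDegree, hP]⟩
    · exact ⟨0, by simp [Polynomial.coeff_eq_zero_of_natDegree_lt hi]⟩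
  have hQm : Q.Monic := (Polynomial.monic_scaleRoots_iff δ).2 (minpoly.monic hα)
  obtain ⟨P', hP', hdeg, hP'm⟩ := Polynomial.lifts_and_natDegree_eq_and_monic hl (hQm.map _)
  rw [Polynomial.natDegree_map, hQdef, Polynomial.natDegree_scaleRoots] at hdeg
  haveI := hP'm.finite_adjoinRoot
  haveI := hP'm.free_adjoinRoot
  haveI : Module.Finite R (AdjoinRoot P') := Module.Finite.trans S _
  haveI : Module.Free R (AdjoinRoot P') := Module.Free.trans (S := S)
  set α' : L := φ d * α with hα'
  have hroot : P'.eval₂ (φ : S →+* L) α' = 0 := by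
    rw [← Polynomial.eval_map, hP', Polynomial.eval_map]
    show (P.scaleRoots δ).eval₂ (algebraMap F L) ((algebraMap F L δ) * α) = 0
    rw [Polynomial.scaleRoots_eval₂_mul]
    exact mul_eq_zero_of_right _ (minpoly.aeval F α)
  let g : AdjoinRoot P' →+* L := AdjoinRoot.lift (φ : S →+* L) α' hroot
  let φ' : AdjoinRoot P' →ₐ[R] L :=
    { g with
      commutes' := fun r => by
        show g (algebraMap R (AdjoinRoot P') r) = _
        rw [IsScalarTower.algebraMap_apply R S (AdjoinRoot P'), AdjoinRoot.algebraMap_eq]
        exact (AdjoinRoot.lift_of hroot).trans (φ.commutes r) }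
  have hφ'of : ∀ s, φ' (AdjoinRoot.of P' s) = φ s := fun s => AdjoinRoot.lift_of hroot
  have hφ'root : φ' (AdjoinRoot.root P') = α' := AdjoinRoot.lift_root hroot
  refine ⟨AdjoinRoot P', inferInstance, inferInstance, inferInstance, inferInstance, φ', ?_, ?_, ?_⟩
  · refine le_antisymm (fun x hx => ?_) (Ideal.map_le_of_le_comap fun r hr => ?_)
    · obtain ⟨h, rfl⟩ := AdjoinRoot.mk_surjective x
      have e : AdjoinRoot.mk P' h = AdjoinRoot.mk P' (h %ₘ P') := by
        rw [AdjoinRoot.mk_eq_mk]
        exact ⟨h /ₘ P', by linear_combination (-1 : Polynomial S) * Polynomial.modByMonic_add_div h P'⟩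
      rw [e] at hx ⊢
      rw [RingHom.mem_ker] at hx
      have hx' : (h %ₘ P').eval₂ (φ : S →+* L) α' = 0 := (AdjoinRoot.lift_mk hroot _).symm.trans hx
      let ψ : S →+* F := (φ : S →+* L).codRestrict F fun s => Subfield.subset_closure ⟨s, rfl⟩
      set Qs := (h %ₘ P').map ψ with hQs
      have hQ0 : Polynomial.aeval α' Qs = 0 := by
        rw [Polynomial.aeval_def, hQs, Polynomial.eval₂_map]; exact hx'
      have hQs0 : Qs = 0 := by
        by_contra hne
        set Qt := Qs.comp (Polynomial.C δ * Polynomial.X) with hQt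
        have hδ0 : δ ≠ 0 := fun h0 => hd0 (congrArg Subtype.val h0)
        have hQt' : Polynomial.aeval α Qt = 0 := by
          rw [hQt, Polynomial.aeval_comp, map_mul, Polynomial.aeval_C, Polynomial.aeval_X]
          exact hQ0
        have hQtdeg : Qt.natDegree = Qs.natDegree := by
          rw [hQt, Polynomial.natDegree_comp, Polynomial.natDegree_C_mul_X δ hδ0, mul_one]
        have hQtne : Qt ≠ 0 := fun h0 => by
          rcases Polynomial.comp_eq_zero_iff.1 (hQt ▸ h0) with h1 | ⟨-, h1⟩
          · exact hne h1
          · have := congrArg (fun q => Polynomial.coeff q 1) h1; simp [hδ0] at this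
        have h2 : P.natDegree ≤ Qt.natDegree := Polynomial.natDegree_le_of_dvd (minpoly.dvd F α hQt') hQtne
        have h3 : Qs.natDegree < P.natDegree := by
          have hne' : h %ₘ P' ≠ 0 := fun h0 => hne (by rw [hQs, h0, Polynomial.map_zero])
          have h1' : P' ≠ 1 := fun h1 => by
            rw [h1, Polynomial.natDegree_one] at hdeg
            exact (minpoly.natDegree_pos hα).ne hdeg
          exact Polynomial.natDegree_map_le.trans_lt (hdeg ▸ Polynomial.natDegree_modByMonic_lt h hP'm h1')
        omega
      rw [← Polynomial.sum_monomial_eq (h %ₘ P'), Polynomial.sum, map_sum]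
      refine Ideal.sum_mem _ fun i _ => ?_
      rw [← Polynomial.C_mul_X_pow_eq_monomial, map_mul]
      refine Ideal.mul_mem_right _ _ ?_
      have hc : (h %ₘ P').coeff i ∈ p.map (algebraMap R S) := by
        rw [← hφ, RingHom.mem_ker]
        have := congrArg (fun q => Polynomial.coeff q i) hQs0
        simp only [hQs, Polynomial.coeff_map, Polynomial.coeff_zero] at this
        exact congrArg Subtype.val this
      rw [AdjoinRoot.mk_C, IsScalarTower.algebraMap_eq R S (AdjoinRoot P'), ← Ideal.map_map]
      exact Ideal.mem_map_of_mem _ hc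
    · rw [Ideal.mem_comap, RingHom.mem_ker, IsScalarTower.algebraMap_apply R S (AdjoinRoot P'), AdjoinRoot.algebraMap_eq, hφ'of]
      have : algebraMap R S r ∈ RingHom.ker φ := hφ ▸ Ideal.mem_map_of_mem _ hr
      exact this
  · rintro _ ⟨s, rfl⟩
    exact ⟨_, hφ'of s⟩
  · have h1 : α' ∈ Subfield.closure (φ'.range : Set L) := Subfield.subset_closure ⟨_, hφ'root⟩
    have h2 : φ d ∈ Subfield.closure (φ'.range : Set L) := Subfield.subset_closure ⟨_, hφ'of d⟩
    have := div_mem h1 h2
    rwa [hα', mul_div_cancel_left₀ _ hd0] at this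


/-- Let R be a ring, p ⊆ R a prime and L a finite extension of the residue field κ(p). Then one can find
a ring map R → S, with S finite free over R, for which q = pS is a prime of S and the residue field
κ(q) is isomorphic to L over κ(p) (stated as a ring isomorphism κ(q) ≅ L compatible with the maps
from R, which determines compatibility with κ(p)). -/
theorem result (R : Type u) [CommRing R] (p : Ideal R) [p.IsPrime]
    (L : Type u) [Field L] [Algebra p.ResidueField L] [FiniteDimensional p.ResidueField L]
    [Algebra R L] [IsScalarTower R p.ResidueField L] :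
    ∃ (S : Type u) (_ : CommRing S) (_ : Algebra R S) (_ : Module.Finite R S) (_ : Module.Free R S)
      (_ : (p.map (algebraMap R S)).IsPrime)
      (e : (p.map (algebraMap R S)).ResidueField ≃+* L),
      ∀ r : R, e (algebraMap R (p.map (algebraMap R S)).ResidueField r) = algebraMap R L r := by
  classical
  have hbot : RingHom.ker (Algebra.ofId R L) = p.map (algebraMap R R) := by
    rw [Algebra.algebraMap_self, Ideal.map_id]
    ext r
    rw [RingHom.mem_ker]
    show algebraMap R L r = 0 ↔ _
    rw [IsScalarTower.algebraMap_apply R p.ResidueField L, map_eq_zero, Ideal.algebraMap_residueField_eq_zero]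
  have hκ : ∀ (F : Subfield L), (Set.range (algebraMap R L)) ⊆ F → ∀ c : p.ResidueField, algebraMap p.ResidueField L c ∈ F := by
    intro F hF c
    obtain ⟨x, y, -, rfl⟩ := IsFractionRing.div_surjective (A := R ⧸ p) c
    obtain ⟨x, rfl⟩ := Ideal.Quotient.mk_surjective x
    obtain ⟨y, rfl⟩ := Ideal.Quotient.mk_surjective y
    rw [map_div₀]
    exact div_mem (hF ⟨x, IsScalarTower.algebraMap_apply R p.ResidueField L x⟩) (hF ⟨y, IsScalarTower.algebraMap_apply R p.ResidueField L y⟩)
  have key : ∀ G : Finset L, ∃ (S : Type u) (_ : CommRing S) (_ : Algebra R S) (_ : Module.Finite R S) (_ : Module.Free R S)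
      (φ : S →ₐ[R] L), RingHom.ker φ = p.map (algebraMap R S) ∧ ∀ g ∈ G, g ∈ Subfield.closure (φ.range : Set L) := by
    intro G
    induction G using Finset.induction_on with
    | empty => exact ⟨R, inferInstance, inferInstance, inferInstance, inferInstance, Algebra.ofId R L, hbot, by simp⟩
    | insert α G _ ih =>
      obtain ⟨S, _, _, _, _, φ, hφ, hG⟩ := ih
      have hint : IsIntegral (Subfield.closure (φ.range : Set L)) α := by
        letI : Algebra p.ResidueField (Subfield.closure (φ.range : Set L)) :=
          ((algebraMap p.ResidueField L).codRestrict _ (hκ _ (by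
            rintro _ ⟨r, rfl⟩; exact Subfield.subset_closure ⟨algebraMap R S r, φ.commutes r⟩))).toAlgebra
        haveI : IsScalarTower p.ResidueField (Subfield.closure (φ.range : Set L)) L :=
          IsScalarTower.of_algebraMap_eq fun _ => rfl
        exact (Algebra.IsIntegral.isIntegral (R := p.ResidueField) α).tower_top
      obtain ⟨S', _, _, _, _, φ', hφ', hsub, hα⟩ := step p S φ hφ α hint
      refine ⟨S', inferInstance, inferInstance, inferInstance, inferInstance, φ', hφ', fun g hg => ?_⟩
      rcases Finset.mem_insert.1 hg with rfl | hg'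
      · exact hα
      · exact Subfield.closure_mono hsub (hG g hg')
  let bs := Module.finBasis p.ResidueField L
  obtain ⟨S, _, _, hfin, hfree, φ, hφ, hG⟩ := key (Finset.univ.image bs)
  haveI hq : (p.map (algebraMap R S)).IsPrime := hφ ▸ RingHom.ker_isPrime _
  let ψ : (p.map (algebraMap R S)).ResidueField →ₐ[R] L :=
    Ideal.ResidueField.liftₐ _ φ hφ.ge fun s hs => by
      rw [Submonoid.mem_comap, IsUnit.mem_submonoid_iff, isUnit_iff_ne_zero]
      exact fun h0 => hs (hφ ▸ RingHom.mem_ker.2 h0)
  have hsurj : Function.Surjective ψ := by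
    intro z
    have hle : Subfield.closure (φ.range : Set L) ≤ (ψ : (p.map (algebraMap R S)).ResidueField →+* L).fieldRange :=
      Subfield.closure_le.2 (by rintro _ ⟨s, rfl⟩; exact ⟨algebraMap S _ s, show ψ _ = φ s by simp [ψ]⟩)
    have hκ' := hκ (ψ : (p.map (algebraMap R S)).ResidueField →+* L).fieldRange (by rintro _ ⟨r, rfl⟩; exact ⟨algebraMap R _ r, ψ.commutes r⟩)
    have hz : z ∈ (ψ : (p.map (algebraMap R S)).ResidueField →+* L).fieldRange := by
      rw [← bs.sum_repr z]
      refine sum_mem fun i _ => ?_
      rw [Algebra.smul_def]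
      exact mul_mem (hκ' _) (hle (hG _ (Finset.mem_image_of_mem _ (Finset.mem_univ i))))
    exact hz
  exact ⟨S, inferInstance, inferInstance, hfin, hfree, hq,
    RingEquiv.ofBijective (ψ : (p.map (algebraMap R S)).ResidueField →+* L) ⟨RingHom.injective _, hsurj⟩, fun r => ψ.commutes r⟩

end Groth.Agent.S6381
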