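import Groth.Statements.S6382
import Groth.Agent.Lib.LocalFlat.Criterion
import Mathlib.LinearAlgebra.Basis.VectorSpace

set_option autoImplicit false
universe u
open CAlg
open scoped TensorProduct

namespace Groth.Agent.S6382

theorem flat_tensor (R S M N : Type u) [CommRing R] [CommRing S] [Algebra R S] [AddCommGroup M]
    [Module R M] [Module S M] [IsScalarTower R S M] [AddCommGroup N] [Module S N] [Module.Flat R M]
    [Module.Flat S N] : Module.Flat R (M ⊗[S] N) := by
  refine Module.Flat.iff_lTensor_preserves_injective_linearMap.mpr fun P Q _ _ _ _ f hf => ?_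
  let eP := TensorProduct.AlgebraTensorModule.rightComm R S S M N P
  let eQ := TensorProduct.AlgebraTensorModule.rightComm R S S M N Q
  have key : ∀ z, eQ (f.lTensor (M ⊗[S] N) z) =
      (TensorProduct.AlgebraTensorModule.lTensor S M f).rTensor N (eP z) := by
    intro z
    induction z using TensorProduct.induction_on with
    | zero => simp
    | tmul mn p =>
      induction mn using TensorProduct.induction_on with
      | zero => simp
      | tmul a b => rfl
      | add a b ha hb => simp only [TensorProduct.add_tmul, map_add, ha, hb]
    | add a b ha hb => simp only [map_add, ha, hb]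
  have h1 : Function.Injective ((TensorProduct.AlgebraTensorModule.lTensor S M f).rTensor N) :=
    Module.Flat.rTensor_preserves_injective_linearMap _
      (Module.Flat.lTensor_preserves_injective_linearMap (M := M) f hf)
  intro a b hab
  exact eP.injective (h1 (by rw [← key, ← key, hab]))


/-- Consider a commutative square of local rings and local homomorphisms R → S, R → R', S → S', R' → S',
and a finite S-module M. Assume the maps R → R' and S → S' are flat, M is flat over R, the maximal
ideal of R generates the maximal ideal of R', and R', S' are Noetherian. Then M' = M ⊗_S S' (any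
base change of M along S → S') is flat over R'. -/
theorem result (R S R' S' : Type u) [CommRing R] [CommRing S]
    [CommRing R'] [CommRing S'] [IsLocalRing R] [IsLocalRing S] [IsLocalRing R'] [IsLocalRing S']
    [Algebra R S] [Algebra R R'] [Algebra S S'] [Algebra R' S'] [Algebra R S']
    [IsScalarTower R S S'] [IsScalarTower R R' S']
    [IsLocalHom (algebraMap R S)] [IsLocalHom (algebraMap R R')] [IsLocalHom (algebraMap S S')]
    [IsLocalHom (algebraMap R' S')] [Module.Flat R R'] [Module.Flat S S']
    [IsNoetherianRing R'] [IsNoetherianRing S']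
    (hm : (IsLocalRing.maximalIdeal R).map (algebraMap R R') = IsLocalRing.maximalIdeal R')
    (M : Type u) [AddCommGroup M] [Module S M] [Module R M] [IsScalarTower R S M] [Module.Finite S M]
    [Module.Flat R M]
    (M' : Type u) [AddCommGroup M'] [Module S' M'] [Module S M'] [IsScalarTower S S' M'] [Module R' M']
    [IsScalarTower R' S' M'] (j : M →ₗ[S] M') (hj : IsBaseChange S' j) :
    Module.Flat R' M' := by
    classical
    letI : Module R M' := Module.compHom M' (algebraMap R R')
    haveI : IsScalarTower R R' M' := IsScalarTower.of_algebraMap_smul fun r x => rfl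
    haveI : IsScalarTower R S' M' := IsScalarTower.of_algebraMap_smul fun r x => by
      rw [IsScalarTower.algebraMap_apply R R' S', IsScalarTower.algebraMap_smul]; rfl
    haveI : IsScalarTower R S M' := IsScalarTower.of_algebraMap_smul fun r x => by
      rw [← IsScalarTower.algebraMap_smul S' (algebraMap R S r) x, ← IsScalarTower.algebraMap_apply R S S',
        IsScalarTower.algebraMap_smul]
    haveI : Module.Finite S' M' :=
      Module.Finite.equiv hj.equiv
    haveI : Module.Flat R M' := by
      haveI : Module.Flat R (M ⊗[S] S') := flat_tensor R S M S'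
      let e : (M ⊗[S] S') ≃ₗ[S] M' := (TensorProduct.comm S M S').trans (hj.equiv.restrictScalars S)
      exact Module.Flat.of_linearEquiv (e.restrictScalars R).symm
    let m := IsLocalRing.maximalIdeal R
    let m' := IsLocalRing.maximalIdeal R'
    let φ : m →ₗ[R] m' :=
      { toFun := fun r => ⟨algebraMap R R' r, hm.le (Ideal.mem_map_of_mem _ r.2)⟩
        map_add' := fun a b => Subtype.ext (map_add _ _ _)
        map_smul' := fun c a => Subtype.ext (by
          show algebraMap R R' (c * a) = (c • algebraMap R R' a)
          rw [map_mul, Algebra.smul_def]) }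
    let β : m ⊗[R] M' →ₗ[R] m' ⊗[R'] M' := TensorProduct.lift
      (((TensorProduct.mk R' m' M').restrictScalars₁₂ R R).comp φ)
    have hβ : Function.Surjective β := by
      intro z
      induction z using TensorProduct.induction_on with
      | zero => exact ⟨0, map_zero _⟩
      | add x y hx hy =>
        obtain ⟨a, rfl⟩ := hx
        obtain ⟨b, rfl⟩ := hy
        exact ⟨a + b, map_add _ _ _⟩
      | tmul c x =>
        obtain ⟨c, hc⟩ := c
        suffices ∀ c ∈ m.map (algebraMap R R'), ∃ hc : c ∈ m', ∀ x : M', ∃ w, β w = (⟨c, hc⟩ : m') ⊗ₜ x by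
          obtain ⟨_, hw⟩ := this c (hm.symm ▸ hc)
          exact hw x
        intro c hc
        induction hc using Submodule.span_induction with
        | mem c hc =>
          obtain ⟨r, hr, rfl⟩ := hc
          exact ⟨(φ ⟨r, hr⟩).2, fun x => ⟨(⟨r, hr⟩ : m) ⊗ₜ x, rfl⟩⟩
        | zero => exact ⟨m'.zero_mem, fun x => ⟨0, by rw [map_zero]; exact (TensorProduct.zero_tmul _ x).symm⟩⟩
        | add a b _ _ ha hb =>
          obtain ⟨ha', ha⟩ := ha
          obtain ⟨hb', hb⟩ := hb
          refine ⟨m'.add_mem ha' hb', fun x => ?_⟩
          obtain ⟨wa, hwa⟩ := ha x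
          obtain ⟨wb, hwb⟩ := hb x
          exact ⟨wa + wb, by rw [map_add, hwa, hwb, ← TensorProduct.add_tmul]; rfl⟩
        | smul t a _ ha =>
          obtain ⟨ha', ha⟩ := ha
          refine ⟨m'.mul_mem_left t ha', fun x => ?_⟩
          obtain ⟨w, hw⟩ := ha (t • x)
          exact ⟨w, hw.trans (TensorProduct.smul_tmul t (⟨a, ha'⟩ : m') x).symm⟩
    let _ : Field (R' ⧸ m') := Ideal.Quotient.field _
    refine Groth.Agent.Lib.LocalFlat.Criterion.flat_of_injective_of_flat_quotient S' m'
      (Groth.Agent.Lib.LocalFlat.Criterion.map_le_jacobson_bot_of_isLocalHom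
        (IsLocalRing.maximalIdeal.isMaximal R').ne_top)
      ((LinearMap.lTensor_inj_iff_rTensor_inj _ _).2 ((injective_iff_map_eq_zero _).mpr fun z hz => ?_))
    obtain ⟨w, rfl⟩ := hβ z
    have key : ∀ w, TensorProduct.lid R' M' (LinearMap.rTensor M' m'.subtype (β w)) =
        TensorProduct.lid R M' (LinearMap.rTensor M' m.subtype w) := by
      intro w
      induction w using TensorProduct.induction_on with
      | zero => simp
      | tmul r x => exact algebraMap_smul R' (r : R) x
      | add a b ha hb => rw [map_add, map_add, map_add, ha, hb, map_add, map_add]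
    have h0 := key w
    rw [hz, map_zero] at h0
    have h1 : LinearMap.rTensor M' m.subtype w = 0 := (TensorProduct.lid R M').map_eq_zero_iff.mp h0.symm
    have h2 : w = 0 := Module.Flat.rTensor_preserves_injective_linearMap (M := M') m.subtype m.injective_subtype
      (h1.trans (map_zero _).symm)
    rw [h2, map_zero]

end Groth.Agent.S6382
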