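import Groth.Statements.S6385
import Mathlib
import Mathlib.RingTheory.KrullDimension.Polynomial
import Groth.Agent.Lib.Dim.Integral

set_option autoImplicit false
set_option backward.isDefEq.respectTransparency false
universe u
open CAlg

namespace Groth.Agent.S6385

theorem exists_noether (k R : Type u) [Field k] [CommRing R] [Nontrivial R] [Algebra k R]
    [Algebra.FiniteType k R] :
    ∃ (d : ℕ) (g : MvPolynomial (Fin d) k →ₐ[k] R), ringKrullDim R = d ∧ Function.Injective g ∧
      g.toRingHom.Finite := by
  obtain ⟨s, g, hgi, hgf⟩ := exists_finite_inj_algHom_of_fg k R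
  refine ⟨s, g, ?_, hgi, hgf⟩
  letI := g.toRingHom.toAlgebra
  haveI : Module.Finite (MvPolynomial (Fin s) k) R := hgf
  haveI : FaithfulSMul (MvPolynomial (Fin s) k) R :=
    (faithfulSMul_iff_algebraMap_injective _ _).mpr hgi
  haveI : Algebra.IsIntegral (MvPolynomial (Fin s) k) R := Algebra.IsIntegral.of_finite _ _
  rw [Groth.Agent.Lib.Dim.Integral.ringKrullDim_eq_of_isIntegral (R := MvPolynomial (Fin s) k),
    MvPolynomial.ringKrullDim_of_isNoetherianRing, ringKrullDim_eq_zero_of_field, zero_add,
    Nat.card_eq_fintype_card, Fintype.card_fin]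


/-- Let k be a field, S a finite type k-algebra, q a prime of S and x the corresponding point of X =
Spec S. Then there is g ∈ S, g ∉ q, such that dim S_g equals dim_x X — the minimum of dim S_{g'}
over all g' ∉ q — and, writing d for this dimension, a finite injective k-algebra map from the
polynomial ring k[y_1, ..., y_d] to S_g. -/
theorem result (k S : Type u) [Field k] [CommRing S] [Algebra k S]
    [Algebra.FiniteType k S] (q : Ideal S) [q.IsPrime] :
    ∃ (g : S) (d : ℕ), g ∉ q ∧ ringKrullDim (Localization.Away g) = d ∧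
      (∀ g' : S, g' ∉ q → ringKrullDim (Localization.Away g) ≤ ringKrullDim (Localization.Away g')) ∧
      ∃ φ : MvPolynomial (Fin d) k →ₐ[k] Localization.Away g, Function.Injective φ ∧ φ.toRingHom.Finite := by
  have hne : ∀ g : S, g ∉ q → Nontrivial (Localization.Away g) := fun g hg => by
    by_contra h
    rw [not_nontrivial_iff_subsingleton, IsLocalization.subsingleton_iff (M := Submonoid.powers g)] at h
    obtain ⟨n, hn⟩ := h
    exact hg (Ideal.IsPrime.mem_of_pow_mem ‹q.IsPrime› n ((show g ^ n = 0 from hn) ▸ q.zero_mem))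
  classical
  have hex : ∃ d : ℕ, ∃ g ∉ q, ringKrullDim (Localization.Away g) = d := by
    haveI := hne 1 (fun h => Ideal.IsPrime.ne_top' ((Ideal.eq_top_iff_one q).mpr h))
    obtain ⟨d, -, hd, -⟩ := exists_noether k (Localization.Away (1 : S))
    exact ⟨d, 1, fun h => Ideal.IsPrime.ne_top' ((Ideal.eq_top_iff_one q).mpr h), hd⟩
  obtain ⟨g, hg, hd⟩ := Nat.find_spec hex
  haveI := hne g hg
  obtain ⟨d, φ, hd', hφ⟩ := exists_noether k (Localization.Away g)
  refine ⟨g, d, hg, hd', fun g' hg' => ?_, φ, hφ⟩
  haveI := hne g' hg'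
  obtain ⟨d', -, hd'', -⟩ := exists_noether k (Localization.Away g')
  rw [hd, hd'']
  exact_mod_cast Nat.find_le (h := hex) ⟨g', hg', hd''⟩

end Groth.Agent.S6385
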