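import Groth.Statements.S6386
import Mathlib.RingTheory.Flat.EquationalCriterion
import Mathlib.Algebra.FreeAlgebra.Cardinality

set_option autoImplicit false
universe u
open CAlg

namespace Groth.Agent.S6386

/-- The key step of its proof: let A be a ring, κ = max(|A|, ℵ₀), and B a flat A-algebra. Then every
A-subalgebra E ⊆ B with at most κ elements lies inside a flat A-subalgebra B' ⊆ B with at most κ
elements. Consequently B is the filtered colimit (union) of its flat A-subalgebras of cardinality at
most κ. -/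
theorem result (A B : Type u) [CommRing A] [CommRing B] [Algebra A B]
    [Module.Flat A B] (E : Subalgebra A B) (hE : Cardinal.mk E ≤ max (Cardinal.mk A) Cardinal.aleph0) :
    ∃ B' : Subalgebra A B, E ≤ B' ∧ Module.Flat A B' ∧ Cardinal.mk B' ≤ max (Cardinal.mk A) Cardinal.aleph0 := by
  classical
  set κ := max (Cardinal.mk A) Cardinal.aleph0 with hκ
  have hA : Cardinal.mk A ≤ κ := le_max_left _ _
  have h0 : Cardinal.aleph0 ≤ κ := le_max_right _ _
  let Rel : Subalgebra A B → Type u := fun C =>
    Σ l : ULift.{u} ℕ, {p : (Fin l.down → A) × (Fin l.down → C) // ∑ i, p.1 i • (p.2 i : B) = 0}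
  have hrel : ∀ (C : Subalgebra A B) (r : Rel C),
      Module.IsTrivialRelation r.2.1.1 (fun i => (r.2.1.2 i : B)) :=
    fun C r => Module.Flat.isTrivialRelation_of_sum_smul_eq_zero r.2.2
  choose k a y hy using hrel
  let next : Subalgebra A B → Subalgebra A B := fun C =>
    Algebra.adjoin A ((C : Set B) ∪ ⋃ r : Rel C, Set.range (y C r))
  have hnext : ∀ C : Subalgebra A B, Cardinal.mk C ≤ κ → Cardinal.mk (next C) ≤ κ := by
    intro C hC
    refine (Algebra.cardinalMk_adjoin_le A _).trans (max_le (max_le hA ?_) h0)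
    refine (Cardinal.mk_union_le _ _).trans (Cardinal.add_le_of_le h0 hC ?_)
    refine (Cardinal.mk_iUnion_le _).trans ((mul_le_mul' ?_ (ciSup_le' fun r => ?_)).trans (Cardinal.mul_eq_self h0).le)
    · show Cardinal.mk (Rel C) ≤ κ
      rw [Cardinal.mk_sigma]
      refine (Cardinal.sum_le_mk_mul_iSup _).trans ((mul_le_mul' ?_ (ciSup_le' fun l => ?_)).trans (Cardinal.mul_eq_self h0).le)
      · exact (Cardinal.mk_le_aleph0).trans h0
      · refine (Cardinal.mk_subtype_le _).trans ?_
        rw [Cardinal.mk_prod, Cardinal.lift_id, Cardinal.lift_id]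
        refine (mul_le_mul' ?_ ?_).trans (Cardinal.mul_eq_self h0).le
        · rw [Cardinal.mk_arrow, Cardinal.mk_fin, Cardinal.lift_natCast, Cardinal.lift_uzero]
          exact (Cardinal.power_nat_le_max).trans (max_le hA h0)
        · rw [Cardinal.mk_arrow, Cardinal.mk_fin, Cardinal.lift_natCast, Cardinal.lift_uzero]
          exact (Cardinal.power_nat_le_max).trans (max_le hC h0)
    · exact (Cardinal.mk_le_aleph0).trans h0
  let s : ℕ → Subalgebra A B := fun n => next^[n] E
  have hs : ∀ n, Cardinal.mk (s n) ≤ κ := by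
    intro n
    induction n with
    | zero => exact hE
    | succ n ih => simpa only [s, Function.iterate_succ_apply'] using hnext _ ih
  have hmono : Monotone s := monotone_nat_of_le_succ fun n => by
    simp only [s, Function.iterate_succ_apply']
    exact fun x hx => Algebra.subset_adjoin (Or.inl hx)
  have hcoe : ((⨆ n, s n : Subalgebra A B) : Set B) = ⋃ n, (s n : Set B) :=
    Subalgebra.coe_iSup_of_directed hmono.directed_le
  refine ⟨⨆ n, s n, le_iSup s 0, ?_, ?_⟩
  · refine Module.Flat.of_forall_isTrivialRelation fun {l f x} hfx => ?_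
    have hx : ∀ i, ∃ n, (x i : B) ∈ s n := fun i => by
      have : (x i : B) ∈ ((⨆ n, s n : Subalgebra A B) : Set B) := (x i).2
      rw [hcoe, Set.mem_iUnion] at this
      exact this
    choose n hn using hx
    let N := Finset.univ.sup n
    let x' : Fin l → s N := fun i => ⟨x i, hmono (Finset.le_sup (Finset.mem_univ i)) (hn i)⟩
    let r : Rel (s N) := ⟨⟨l⟩, ⟨(f, x'), by
      have := congrArg Subtype.val hfx
      simpa [x'] using this⟩⟩
    have hyN : ∀ j, y (s N) r j ∈ ⨆ n, s n := fun j => by
      refine le_iSup s (N + 1) ?_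
      simp only [s, Function.iterate_succ_apply']
      exact Algebra.subset_adjoin (Or.inr (Set.mem_iUnion.2 ⟨r, j, rfl⟩))
    refine ⟨k (s N) r, a (s N) r, fun j => ⟨y (s N) r j, hyN j⟩, fun i => Subtype.ext ?_, (hy (s N) r).2⟩
    simpa [r, x'] using (hy (s N) r).1 i
  · show Cardinal.mk ((⨆ n, s n : Subalgebra A B) : Set B) ≤ κ
    rw [hcoe, ← Cardinal.lift_uzero (Cardinal.mk ↥(⋃ n, (s n : Set B)))]
    refine (Cardinal.mk_iUnion_le_lift (fun n => (s n : Set B))).trans
      ((mul_le_mul' ?_ (ciSup_le' fun n => ?_)).trans (Cardinal.mul_eq_self h0).le)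
    · simpa using h0
    · simpa using hs n

end Groth.Agent.S6386
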