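import Groth.Statements.S6387
import Groth.Agent.H95.FibreExactCx

set_option autoImplicit false
universe u
open CategoryTheory
open CAlg

namespace Groth.Agent.S6387

/-- Let R and S be Noetherian local rings, R → S a local ring map, and m the maximal ideal of R. Take a
bounded complex F_e → … → F_1 → F_0 of finitely generated S-modules, zero to the left of F_e (a
chain complex C with C_j = 0 for j > e) such that every F_j is flat over R and the complex 0 →
F_e/mF_e → … → F_0/mF_0 (C tensored over S with S/mS) is exact at F_e, …, F_1. Then 0 → F_e → … →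
F_0 is exact at F_e, …, F_1 and the cokernel of F_1 → F_0 (the homology of C in degree 0) is flat
over R. -/
theorem result {R S : Type u} [CommRing R] [CommRing S]
    [IsLocalRing R] [IsLocalRing S] [IsNoetherianRing R] [IsNoetherianRing S] [Algebra R S]
    [IsLocalHom (algebraMap R S)] (C : ChainComplex (ModuleCat.{u} S) ℕ) (e : ℕ)
    (hzero : ∀ j, e < j → Limits.IsZero (C.X j)) (hfin : ∀ j, Module.Finite S (C.X j))
    (hflat : ∀ j, Module.Flat R ((ModuleCat.restrictScalars (algebraMap R S)).obj (C.X j)))
    (hex : ∀ j, 1 ≤ j → j ≤ e →
      (((MonoidalCategory.tensorLeft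
          (ModuleCat.of S (S ⧸ (IsLocalRing.maximalIdeal R).map (algebraMap R S)))).mapHomologicalComplex
          (ComplexShape.down ℕ)).obj C).ExactAt j) :
    (∀ j, 1 ≤ j → j ≤ e → C.ExactAt j) ∧
      Module.Flat R ((ModuleCat.restrictScalars (algebraMap R S)).obj (C.homology 0)) := by
  exact Groth.Agent.H95.FibreExactCx.main C e hzero hfin hflat hex

end Groth.Agent.S6387
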