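import Groth.Statements.S6390
import Groth.Agent.H18.Devissage
import Mathlib.Order.WithBot
import Mathlib.SetTheory.Cardinal.Order

set_option autoImplicit false
universe u
open scoped Classical
open CAlg

namespace Groth.Agent.S6390

/-- An R-module M is a direct sum of countably generated modules if and only if it admits a Kaplansky
dévissage, i.e. an increasing family of submodules (M_s) indexed by a well-ordered set S with M_s =
⋃_{t<s} M_t at non-successor indices (so the first term is 0), ⋃_s M_s = M, and, whenever t is the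
successor of s, M_s a direct summand of M_t with M_t/M_s countably generated. -/
theorem result (R : Type u) [CommRing R] (M : Type u)
    [AddCommGroup M] [Module R M] :
    (∃ (ι : Type u) (N : ι → Submodule R M), DirectSum.IsInternal N ∧ ∀ i, CAlg.IsCountablyGenerated R (N i)) ↔
      ∃ (S : Type u) (_ : LinearOrder S) (_ : WellFoundedLT S) (Mf : S → Submodule R M), Monotone Mf ∧
        (∀ s : S, Order.IsSuccPrelimit s → Mf s = ⨆ t : {t : S // t < s}, Mf t.1) ∧
        (⨆ s, Mf s) = ⊤ ∧
        (∀ s t : S, s ⋖ t → ∃ C : Submodule R M, Mf s ⊓ C = ⊥ ∧ Mf s ⊔ C = Mf t ∧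
          CAlg.IsCountablyGenerated R (↥(Mf t) ⧸ Submodule.comap (Mf t).subtype (Mf s))) := by
  classical
  constructor
  · rintro ⟨ι, N, hN, hcg⟩
    have hind := hN.submodule_iSupIndep
    have htop' := hN.submodule_iSup_eq_top
    obtain ⟨_, _⟩ := exists_wellFoundedLT ι
    refine ⟨WithTop ι, inferInstance, inferInstance, fun s => ⨆ i : {i : ι // (i : WithTop ι) < s}, N i.1,
      fun s t hst => iSup_le fun i => le_iSup_of_le ⟨i.1, i.2.trans_le hst⟩ le_rfl, fun s hs => ?_, ?_, ?_⟩
    · refine le_antisymm (iSup_le fun i => ?_) (iSup_le fun t => iSup_le fun i =>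
        le_iSup_of_le ⟨i.1, i.2.trans t.2⟩ le_rfl)
      have h := hs (i.1 : WithTop ι)
      rw [not_covBy_iff i.2] at h
      obtain ⟨t, h1, h2⟩ := h
      exact le_iSup_of_le ⟨t, h2⟩ (le_iSup_of_le ⟨i.1, h1⟩ le_rfl)
    · refine top_unique (htop'.ge.trans (iSup_le fun i => ?_))
      exact le_iSup_of_le ⊤ (le_iSup_of_le ⟨i, WithTop.coe_lt_top i⟩ le_rfl)
    · intro s t hst
      obtain ⟨a, rfl⟩ := WithTop.ne_top_iff_exists.1 hst.lt.ne_top
      have h1 : (⨆ i : {i : ι // (i : WithTop ι) < (a : WithTop ι)}, N i.1) ⊔ N a =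
          ⨆ i : {i : ι // (i : WithTop ι) < t}, N i.1 := by
        refine le_antisymm (sup_le (iSup_le fun i => le_iSup_of_le ⟨i.1, i.2.trans hst.lt⟩ le_rfl)
          (le_iSup_of_le ⟨a, hst.lt⟩ le_rfl)) (iSup_le fun i => ?_)
        rcases lt_trichotomy (i.1 : WithTop ι) a with hlt | he | hlt
        · exact le_sup_of_le_left (le_iSup_of_le ⟨i.1, hlt⟩ le_rfl)
        · exact le_sup_of_le_right (le_of_eq (congrArg N (WithTop.coe_injective he)))
        · exact absurd i.2 (hst.2 hlt)
      have h2 : (⨆ i : {i : ι // (i : WithTop ι) < (a : WithTop ι)}, N i.1) ⊓ N a = ⊥ := by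
        refine ((hind a).symm.mono_left (iSup_le fun i => ?_)).eq_bot
        exact le_iSup₂_of_le i.1 (fun he => (lt_irrefl _ (he ▸ i.2))) le_rfl
      obtain ⟨e⟩ := H18.Devissage.exists_equiv _ _ _ h2 h1
      exact ⟨N a, h2, h1, H18.Devissage.countablyGenerated_of_equiv e (hcg a)⟩
  · rintro ⟨S, _, _, Mf, hmono, hlim, htop, hC⟩
    choose C hinf hsup hcg using fun p : {p : S × S // p.1 ⋖ p.2} => hC p.1.1 p.1.2 p.2
    refine ⟨{p : S × S // p.1 ⋖ p.2}, C, by convert H18.Devissage.isInternal hmono hlim htop C hinf hsup, fun p => ?_⟩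
    obtain ⟨e⟩ := H18.Devissage.exists_equiv _ _ (C p) (hinf p) (hsup p)
    exact H18.Devissage.countablyGenerated_of_equiv e.symm (hcg p)

end Groth.Agent.S6390
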