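import Groth.Statements.S6391
import Mathlib
import Groth.Agent.Lib.IndEtale.Basic
import Groth.Agent.Lib.Henselian.Etale
import Groth.Agent.Lib.Henselian.LocalRing

set_option autoImplicit false
universe u
open CAlg

namespace Groth.Agent.S6391

open Groth.Agent.Lib.IndEtale Groth.Agent.Lib.Henselian TensorProduct

variable {R S T K : Type u} [CommRing R] [CommRing S] [CommRing T] [Field K] [HenselianLocalRing T]
  [Algebra R S] [Algebra R T] [Algebra R K]

lemma isLocalHom_of_ker (π : T →ₐ[R] K) (hk : RingHom.ker π.toRingHom = IsLocalRing.maximalIdeal T) :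
    IsLocalHom (π : T →+* K) := by
  refine ⟨fun x hx => by_contra fun hn => ?_⟩
  have hm : x ∈ RingHom.ker π.toRingHom := hk ▸ (IsLocalRing.mem_maximalIdeal x).mpr hn
  exact hx.ne_zero hm

lemma etale_ext (π : T →ₐ[R] K) (hk : RingHom.ker π.toRingHom = IsLocalRing.maximalIdeal T)
    {E : Type u} [CommRing E] [Algebra R E] [Algebra.Etale R E] (w w' : E →ₐ[R] T)
    (h : π.comp w = π.comp w') : w = w' :=
  haveI := isLocalHom_of_ker π hk
  Groth.Agent.Lib.Henselian.Etale.algHom_ext_of_isLocalHom (π : T →+* K) w w' fun x => AlgHom.congr_fun h x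

lemma etale_lift (π : T →ₐ[R] K) (hπ : Function.Surjective π)
    (hk : RingHom.ker π.toRingHom = IsLocalRing.maximalIdeal T)
    {E : Type u} [CommRing E] [Algebra R E] [Algebra.Etale R E] (σ : E →ₐ[R] K) :
    ∃ w : E →ₐ[R] T, π.comp w = σ := by
  haveI : HenselianRing T (IsLocalRing.maximalIdeal T) :=
    LocalRing.henselianLocalRing_iff_henselianRing.mp inferInstance
  let e : (T ⧸ IsLocalRing.maximalIdeal T) ≃ₐ[R] K :=
    (Ideal.quotientEquivAlgOfEq R hk.symm).trans (Ideal.quotientKerAlgEquivOfSurjective (f := π) hπ)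
  obtain ⟨w, hw⟩ := Groth.Agent.Lib.Henselian.Etale.exists_algHom_lift (IsLocalRing.maximalIdeal T)
    (e.symm.toAlgHom.comp σ)
  refine ⟨w, AlgHom.ext fun x => ?_⟩
  have := congrArg e (AlgHom.congr_fun hw x)
  simp only [AlgHom.comp_apply, AlgEquiv.toAlgHom_apply, AlgEquiv.apply_symm_apply] at this
  exact this

lemma hom_ext (hS : EtPBC.IsIndEtale R S) (π : T →ₐ[R] K)
    (hk : RingHom.ker π.toRingHom = IsLocalRing.maximalIdeal T) (f f' : S →ₐ[R] T)
    (h : π.comp f = π.comp f') : f = f' := by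
  refine AlgHom.ext fun x => ?_
  obtain ⟨E, _, _, hE, v, hv⟩ := Basic.exists_lift (Basic.factors hS) {x}
  haveI := hE
  obtain ⟨e, he⟩ := hv (Finset.mem_coe.mpr (Finset.mem_singleton_self x))
  have h1 := etale_ext π hk (f.comp v) (f'.comp v) (by rw [← AlgHom.comp_assoc, h, AlgHom.comp_assoc])
  rw [← he]
  exact AlgHom.congr_fun h1 e

lemma exists_hom (hS : EtPBC.IsIndEtale R S) (σ : S →ₐ[R] K) (π : T →ₐ[R] K) (hπ : Function.Surjective π)
    (hk : RingHom.ker π.toRingHom = IsLocalRing.maximalIdeal T) : ∃ g : S →ₐ[R] T, π.comp g = σ := by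
  classical
  have hF := Basic.factors hS
  have key : ∀ x : S, ∃ t : T, ∀ (E : Type u) [CommRing E] [Algebra R E] [Algebra.Etale R E]
      (v : E →ₐ[R] S) (w : E →ₐ[R] T) (e : E), π.comp w = σ.comp v → v e = x → w e = t := by
    intro x
    obtain ⟨E₁, _, _, hE₁, v₁, hv₁⟩ := Basic.exists_lift hF {x}
    haveI := hE₁
    obtain ⟨e₁, he₁⟩ := hv₁ (Finset.mem_coe.mpr (Finset.mem_singleton_self x))
    obtain ⟨w₁, hw₁⟩ := etale_lift π hπ hk (σ.comp v₁)
    refine ⟨w₁ e₁, fun E _ _ _ v w e hw he => ?_⟩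
    let r : E ⊗[R] E₁ := e ⊗ₜ 1 - 1 ⊗ₜ e₁
    let m : E ⊗[R] E₁ →ₐ[R] S := Algebra.TensorProduct.productMap v v₁
    have hr : ∀ a ∈ Ideal.span {r}, m a = 0 := by
      intro a ha
      obtain ⟨c, rfl⟩ := Ideal.mem_span_singleton'.mp ha
      simp [m, r, he, he₁]
    haveI : Algebra.Etale R (E ⊗[R] E₁) := Algebra.Etale.comp R E _
    haveI : Algebra.FinitePresentation R ((E ⊗[R] E₁) ⧸ Ideal.span {r}) := .quotient ⟨{r}, by simp⟩
    obtain ⟨E₃, _, _, hE₃, q, v₃, hq⟩ := hF _ this (Ideal.Quotient.liftₐ _ m hr)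
    haveI : Algebra.Etale R E₃ := hE₃
    obtain ⟨w₃, hw₃⟩ := etale_lift π hπ hk (σ.comp v₃)
    let p : E ⊗[R] E₁ →ₐ[R] E₃ := q.comp (Ideal.Quotient.mkₐ R _)
    have hp : ∀ a, v₃ (p a) = m a := fun a => AlgHom.congr_fun hq (Ideal.Quotient.mk _ a)
    have hA : w = (w₃.comp p).comp Algebra.TensorProduct.includeLeft := etale_ext π hk _ _ (by
      rw [hw]
      refine AlgHom.ext fun a => ?_
      simp only [AlgHom.comp_apply]
      rw [← AlgHom.comp_apply π w₃, hw₃, AlgHom.comp_apply, hp]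
      simp [m])
    have hB : w₁ = (w₃.comp p).comp Algebra.TensorProduct.includeRight := etale_ext π hk _ _ (by
      rw [hw₁]
      refine AlgHom.ext fun a => ?_
      simp only [AlgHom.comp_apply]
      rw [← AlgHom.comp_apply π w₃, hw₃, AlgHom.comp_apply, hp]
      simp [m])
    have h0 : p r = 0 := by
      show q (Ideal.Quotient.mk _ r) = 0
      rw [Ideal.Quotient.eq_zero_iff_mem.mpr (Ideal.mem_span_singleton_self r), map_zero]
    rw [map_sub, sub_eq_zero] at h0
    rw [hA, hB]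
    exact congrArg w₃ h0
  choose g hg using key
  have hpt : ∀ s : Finset S, ∃ (E : Type u) (_ : CommRing E) (_ : Algebra R E) (_ : Algebra.Etale R E)
      (v : E →ₐ[R] S) (w : E →ₐ[R] T), π.comp w = σ.comp v ∧ ↑s ⊆ Set.range v ∧ ∀ e, g (v e) = w e := by
    intro s
    obtain ⟨E, _, _, hE, v, hv⟩ := Basic.exists_lift hF s
    haveI := hE
    obtain ⟨w, hw⟩ := etale_lift π hπ hk (σ.comp v)
    exact ⟨E, _, _, hE, v, w, hw, hv, fun e => (hg _ E v w e hw rfl).symm⟩
  have hadd : ∀ x y, g (x + y) = g x + g y ∧ g (x * y) = g x * g y := by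
    intro x y
    obtain ⟨E, _, _, _, v, w, hw, hv, hgv⟩ := hpt {x, y}
    obtain ⟨a, rfl⟩ := hv (by simp : x ∈ (↑({x, y} : Finset S) : Set S))
    obtain ⟨b, rfl⟩ := hv (by simp : y ∈ (↑({v a, y} : Finset S) : Set S))
    simp only [← map_add, ← map_mul, hgv, and_self]
  have halg : ∀ r : R, g (algebraMap R S r) = algebraMap R T r := by
    intro r
    obtain ⟨E, _, _, _, v, w, hw, hv, hgv⟩ := hpt ∅
    rw [← v.commutes r, hgv, w.commutes]
  let G : S →ₐ[R] T :=
    { toFun := g
      map_one' := by rw [← (algebraMap R S).map_one, halg, map_one]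
      map_mul' := fun x y => (hadd x y).2
      map_zero' := by rw [← (algebraMap R S).map_zero, halg, map_zero]
      map_add' := fun x y => (hadd x y).1
      commutes' := halg }
  refine ⟨G, AlgHom.ext fun x => ?_⟩
  obtain ⟨E, _, _, _, v, w, hw, hv, hgv⟩ := hpt {x}
  obtain ⟨e, rfl⟩ := hv (Finset.mem_coe.mpr (Finset.mem_singleton_self x))
  show π (g (v e)) = σ (v e)
  rw [hgv]
  exact AlgHom.congr_fun hw e


/-- Let R be a ring, S and S' henselian local rings which are filtered colimits of étale R-algebras, and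
K a field together with R-algebra maps S → K and S' → K identifying K with the residue field of each
(surjective with kernel the maximal ideal). Then exactly one isomorphism of R-algebras S → S'
commutes with the two maps to K. -/
theorem result (R S S' K : Type u) [CommRing R]
    [CommRing S] [CommRing S'] [Field K] [HenselianLocalRing S] [HenselianLocalRing S']
    [Algebra R S] [Algebra R S'] [Algebra R K] (hS : EtPBC.IsIndEtale R S) (hS' : EtPBC.IsIndEtale R S')
    (u : S →ₐ[R] K) (u' : S' →ₐ[R] K) (hu : Function.Surjective u) (hu' : Function.Surjective u')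
    (hku : RingHom.ker u.toRingHom = IsLocalRing.maximalIdeal S)
    (hku' : RingHom.ker u'.toRingHom = IsLocalRing.maximalIdeal S') :
    ∃! e : S ≃ₐ[R] S', u'.comp (e : S →ₐ[R] S') = u := by
  obtain ⟨g, hg⟩ := exists_hom hS u u' hu' hku'
  obtain ⟨g', hg'⟩ := exists_hom hS' u' u hu hku
  have h1 : g'.comp g = AlgHom.id R S := hom_ext hS u hku _ _ (by
    rw [← AlgHom.comp_assoc, hg', hg, AlgHom.comp_id])
  have h2 : g.comp g' = AlgHom.id R S' := hom_ext hS' u' hku' _ _ (by
    rw [← AlgHom.comp_assoc, hg, hg', AlgHom.comp_id])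
  refine ⟨AlgEquiv.ofAlgHom g g' h2 h1, ?_, fun e he => ?_⟩
  · exact hg
  · have h3 : (e : S →ₐ[R] S') = g := hom_ext hS u' hku' _ _ (he.trans hg.symm)
    exact AlgEquiv.ext fun x => AlgHom.congr_fun h3 x

end Groth.Agent.S6391
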