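import Groth.Statements.S6392
import Groth.Agent.Lib.Pure.UI
import Groth.Agent.Lib.Pure.ColimML

set_option autoImplicit false
universe u
open CAlg
open Groth.Agent.Lib.Pure

namespace Groth.Agent.S6392

/-- Suppose M is the colimit of finitely presented R-modules G_i along a directed system over a nonempty
directed index set (transition maps f_ij), and M is both Mittag-Leffler and countably generated.
Then some countable directed subset I' of the indices already computes M: the canonical map from the
colimit of the G_i with i ∈ I' to M is bijective. -/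
theorem result (R : Type u) [CommRing R]
    {ι : Type u} [Preorder ι] [IsDirected ι (· ≤ ·)] [Nonempty ι] [DecidableEq ι] (G : ι → Type u)
    [∀ i, AddCommGroup (G i)] [∀ i, Module R (G i)] [∀ i, Module.FinitePresentation R (G i)]
    (f : ∀ i j, i ≤ j → G i →ₗ[R] G j) [DirectedSystem G fun i j h => f i j h]
    (hML : CAlg.IsMittagLeffler R (Module.DirectLimit G f))
    (hc : CAlg.IsCountablyGenerated R (Module.DirectLimit G f)) :
    ∃ I' : Set ι, I'.Countable ∧ DirectedOn (· ≤ ·) I' ∧
      Function.Bijective (Module.DirectLimit.lift R I' (fun i : I' => G i.1)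
        (fun (i j : I') (h : i ≤ j) => f i.1 j.1 h)
        (fun i : I' => Module.DirectLimit.of R ι G f i.1)
        (fun (i j : I') (h : i ≤ j) (x : G i.1) => Module.DirectLimit.of_f)) := by
  obtain ⟨s, hs, hspan⟩ := hc
  obtain ⟨e, he⟩ : ∃ e : ℕ → Module.DirectLimit G f, s ⊆ Set.range e := by
    obtain ⟨e, he⟩ := Set.Countable.exists_eq_range (hs.insert 0) (Set.insert_nonempty 0 s)
    exact ⟨e, he ▸ Set.subset_insert 0 s⟩
  choose r x hx using fun n => Module.DirectLimit.exists_of (e n)
  choose j hij hj using ColimML.exists_stationary hML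
  choose up hup₁ hup₂ hup₃ using fun a b c : ι =>
    ((exists_ge_ge a b).elim fun d hd => (exists_ge_ge d c).elim fun d' hd' =>
      ⟨d', hd.1.trans hd'.1, hd.2.trans hd'.1, hd'.2⟩ : ∃ d, a ≤ d ∧ b ≤ d ∧ c ≤ d)
  let a : ℕ → ι := fun n => Nat.rec (motive := fun _ => ι) (r 0) (fun n an => up an (r n) (j an)) n
  have hamono : Monotone a := monotone_nat_of_le_succ fun n => hup₁ _ _ _
  refine ⟨Set.range a, Set.countable_range a,
    (directedOn_range (r := (· ≤ ·))).2 hamono.directed_le, ?_, ?_⟩
  · have hdir : IsDirected (Set.range a) (· ≤ ·) := ⟨fun p q => by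
      obtain ⟨_, n, rfl⟩ := p
      obtain ⟨_, m, rfl⟩ := q
      exact ⟨⟨a (max n m), _, rfl⟩, hamono (le_max_left n m), hamono (le_max_right n m)⟩⟩
    have hne : Nonempty (Set.range a) := ⟨⟨a 0, 0, rfl⟩⟩
    have hsys : DirectedSystem (fun i : Set.range a => G i.1)
        (fun (p q : Set.range a) (h : p ≤ q) => f p.1 q.1 h) :=
      ⟨fun p x => DirectedSystem.map_self (f := fun i j h => f i j h) x,
        fun _ _ _ h h' x => DirectedSystem.map_map (f := fun i j h => f i j h) h h' x⟩
    rw [injective_iff_map_eq_zero]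
    intro z hz
    obtain ⟨⟨_, n, rfl⟩, z, rfl⟩ := Module.DirectLimit.exists_of z
    rw [Module.DirectLimit.lift_of] at hz
    obtain ⟨k, hk, hkz⟩ := Module.DirectLimit.of.zero_exact hz
    obtain ⟨h, hh⟩ := hj (a n) k hk
    have h1 : f (a n) (j (a n)) (hij (a n)) z = 0 := by
      rw [hh, LinearMap.comp_apply, hkz, map_zero]
    have hle : j (a n) ≤ a (n + 1) := hup₃ _ _ _
    have h2 : f (a n) (a (n + 1)) (hamono n.le_succ) z = 0 := by
      rw [← DirectedSystem.map_map (f := fun i j h => f i j h) (hij (a n)) hle z, h1, map_zero]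
    rw [← Module.DirectLimit.of_f (j := (⟨a (n + 1), n + 1, rfl⟩ : Set.range a))
      (hij := hamono n.le_succ), h2, map_zero]
  · rw [← LinearMap.range_eq_top, eq_top_iff, ← hspan, Submodule.span_le]
    intro y hy
    obtain ⟨n, rfl⟩ := he hy
    rw [← hx n]
    refine ⟨Module.DirectLimit.of R _ _ _ ⟨a (n + 1), n + 1, rfl⟩ (f (r n) (a (n + 1)) (hup₂ _ _ _) (x n)), ?_⟩
    rw [Module.DirectLimit.lift_of, Module.DirectLimit.of_f]

end Groth.Agent.S6392
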