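import Groth.Statements.S6394
import Groth.Agent.Lib.Fibred.EquivOver

set_option autoImplicit false
set_option backward.isDefEq.respectTransparency false
set_option backward.isDefEq.respectTransparency.types false
open CategoryTheory
universe v u
open FibCat

namespace Groth.Agent.S6394

/-- If `F : 𝒳 ⟶ 𝒴` is an equivalence in the 2-category of categories over `C`, then `𝒳` is fibred over
`C` if and only if `𝒴` is. -/
theorem result {C : Type u} [Category.{v} C] {𝒳 𝒴 : BasedCategory.{v, max u v} C} (F : 𝒳 ⥤ᵇ 𝒴) (hF : FibCat.IsEquivOver F) :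
    𝒳.p.IsFibered ↔ 𝒴.p.IsFibered := by
  obtain ⟨G, hG, -⟩ := Groth.Agent.Lib.Fibred.EquivOver.isEquivOver_inverse hF
  exact ⟨fun _ => Groth.Agent.Lib.Fibred.EquivOver.isFibered_target hF, fun _ => Groth.Agent.Lib.Fibred.EquivOver.isFibered_target hG⟩

end Groth.Agent.S6394
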