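import Groth.Statements.S6398
import Groth.Agent.Lib.Fibred.FiberFunctor

set_option autoImplicit false
set_option backward.isDefEq.respectTransparency false
set_option backward.isDefEq.respectTransparency.types false
open CategoryTheory
universe v u
open FibCat

namespace Groth.Agent.S6398

/-- A functor `G` over `C` between categories fibred in groupoids is an equivalence of categories if and
only if each induced functor of fibre categories `𝒳_U ⥤ 𝒴_U` is an equivalence of categories. -/
theorem result {C : Type u} [Category.{v} C] {𝒳 𝒴 : BasedCategory.{v, max u v} C} (G : 𝒳 ⥤ᵇ 𝒴) (h𝒳 : FibCat.IsFibGrpd 𝒳.p) (h𝒴 : FibCat.IsFibGrpd 𝒴.p) :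
    G.toFunctor.IsEquivalence ↔ ∀ U : C, (FibCat.fiberFunctor G U).IsEquivalence := by
  have := Groth.Agent.Lib.Fibred.Basic.isFibered_of_grpd h𝒳
  refine ⟨fun _ => ?_, fun h => ?_⟩
  · exact fun U => Groth.Agent.Lib.Fibred.FiberFunctor.fiberFunctor_isEquivalence
      (Groth.Agent.Lib.Fibred.FiberFunctor.isEquivOver_of_isEquivalence G Groth.Agent.Lib.Fibred.FiberFunctor.transportable_of_isFibered) U
  · exact Groth.Agent.Lib.Fibred.EquivOver.isEquivalence_of_isEquivOver
      (Groth.Agent.Lib.Fibred.FiberFunctor.isEquivOver_of_fibers G (Groth.Agent.Lib.Fibred.FiberFunctor.preserves_of_grpd G h𝒴) h)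

end Groth.Agent.S6398
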