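import Groth.Statements.S6399
import Groth.Agent.Lib.Fibred.FiberFunctor
import Groth.Agent.Lib.Fibred.Fp

set_option autoImplicit false
set_option backward.isDefEq.respectTransparency false
set_option backward.isDefEq.respectTransparency.types false
open CategoryTheory
universe v u
open FibCat

namespace Groth.Agent.S6399

/-- A functor `G : 𝒳 ⟶ 𝒴` over `C` between categories fibred in groupoids is fully faithful if and only
if the diagonal `𝒳 ⟶ 𝒳 ×_𝒴 𝒳` is an equivalence over `C`. -/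
theorem result {C : Type u} [Category.{v} C] {𝒳 𝒴 : BasedCategory.{v, max u v} C} (G : 𝒳 ⥤ᵇ 𝒴) (h𝒳 : FibCat.IsFibGrpd 𝒳.p) (h𝒴 : FibCat.IsFibGrpd 𝒴.p) :
    (G.toFunctor.Full ∧ G.toFunctor.Faithful) ↔ FibCat.IsEquivOver (FibCat.diag G) := by
  constructor
  · rintro ⟨_, _⟩
    have : (FibCat.diag G).toFunctor.Faithful := ⟨fun {a b φ ψ} h =>
      congrArg (fun t : (FibCat.diag G).obj a ⟶ (FibCat.diag G).obj b => t.hom.fst) h⟩
    have : (FibCat.diag G).toFunctor.Full := by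
      refine ⟨fun {a b} m => ?_⟩
      let φ : a ⟶ b := m.hom.fst
      let ψ : a ⟶ b := m.hom.snd
      have h : G.map φ ≫ 𝟙 _ = 𝟙 _ ≫ G.map ψ := Groth.Agent.Lib.Fibred.Fp.w m
      have h' : φ = ψ := G.toFunctor.map_injective (by simpa using h)
      exact ⟨φ, Groth.Agent.Lib.Fibred.Fp.hom_ext rfl h'⟩
    refine Groth.Agent.Lib.Fibred.EquivOver.isEquivOver_of_ff_essSurj _ fun η => ?_
    let k := G.toFunctor.preimageIso η.obj.iso
    refine ⟨η.obj.fst, Groth.Agent.Lib.Fibred.Fp.isoMk (z := (FibCat.diag G).obj η.obj.fst) (w := η) (Iso.refl _) k ?_,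
      (Groth.Agent.Lib.Fibred.Fp.isHomLift_iff _ _).mpr (IsHomLift.id rfl)⟩
    change G.map (𝟙 _) ≫ η.obj.iso.hom = 𝟙 _ ≫ G.map (G.toFunctor.preimage η.obj.iso.hom)
    simp
  · intro h
    have := Groth.Agent.Lib.Fibred.EquivOver.full_of_isEquivOver h
    have hfa : G.toFunctor.Faithful := by
      refine ⟨fun {a b φ ψ} he => ?_⟩
      obtain ⟨χ, hχ⟩ := (FibCat.diag G).toFunctor.map_surjective (X := a) (Y := b)
        (Groth.Agent.Lib.Fibred.Fp.mkHom (z := (FibCat.diag G).obj a) (w := (FibCat.diag G).obj b) φ ψ (by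
          change G.map φ ≫ 𝟙 _ = 𝟙 _ ≫ G.map ψ
          simp [he]))
      have h₁ : χ = φ := congrArg (fun t : (FibCat.diag G).obj a ⟶ (FibCat.diag G).obj b => t.hom.fst) hχ
      have h₂ : χ = ψ := congrArg (fun t : (FibCat.diag G).obj a ⟶ (FibCat.diag G).obj b => t.hom.snd) hχ
      exact h₁.symm.trans h₂
    refine ⟨?_, hfa⟩
    have := Groth.Agent.Lib.Fibred.Basic.isFibered_of_grpd h𝒳
    refine Groth.Agent.Lib.Fibred.FiberFunctor.full_of_fibers G (Groth.Agent.Lib.Fibred.FiberFunctor.preserves_of_grpd G h𝒴) fun U => ⟨fun {a b} g => ?_⟩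
    have hg : 𝒴.p.IsHomLift (𝟙 U) g.1 := g.2
    have := Groth.Agent.Lib.Fibred.Basic.isIso_of_grpd_lift h𝒴 U g.1
    let gi : G.obj a.1 ≅ G.obj b.1 := asIso (g.1 : G.obj a.1 ⟶ G.obj b.1)
    have hgi : 𝒴.p.IsHomLift (𝟙 (𝒳.p.obj a.1)) gi.hom := a.2.symm ▸ hg
    let η : (FibCat.fp G G).obj := Groth.Agent.Lib.Fibred.Fp.mkObj a.1 b.1 gi hgi
    obtain ⟨x, i, hi⟩ := Groth.Agent.Lib.Fibred.EquivOver.essSurjOver_of_isEquivOver h η
    let i₁ : x ≅ a.1 := (FibCat.fpFst G G).toFunctor.mapIso i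
    let i₂ : x ≅ b.1 := (FibCat.fpSnd G G).toFunctor.mapIso i
    have hi' : (FibCat.fp G G).p.IsHomLift (𝟙 U) i.hom := a.2 ▸ hi
    have h₁ : 𝒳.p.IsHomLift (𝟙 U) i₁.hom := (Groth.Agent.Lib.Fibred.Fp.isHomLift_iff i.hom _).mp hi'
    have h₂ : 𝒳.p.IsHomLift (𝟙 U) i₂.hom := Groth.Agent.Lib.Fibred.Fp.isHomLift_snd i.hom _
    refine ⟨⟨i₁.inv ≫ i₂.hom, inferInstance⟩, Subtype.ext ?_⟩
    change G.map (i₁.inv ≫ i₂.hom) = gi.hom
    have hw : G.map i₁.hom ≫ gi.hom = 𝟙 _ ≫ G.map i₂.hom := Groth.Agent.Lib.Fibred.Fp.w i.hom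
    rw [Category.id_comp] at hw
    rw [Functor.map_comp, ← hw, ← Category.assoc, ← Functor.map_comp, Iso.inv_hom_id, Functor.map_id]
    exact Category.id_comp _

end Groth.Agent.S6399
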