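import Groth.Statements.S6402
import Groth.Agent.Lib.Fibred.SelfOver
import Groth.Agent.Lib.Fibred.Slice

set_option autoImplicit false
set_option backward.isDefEq.respectTransparency false
set_option backward.isDefEq.respectTransparency.types false
open CategoryTheory
universe v u
open FibCat

namespace Groth.Agent.S6402

/-- For a functor `F : 𝒳 ⟶ 𝒴` of fibred categories over `C` preserving strongly cartesian morphisms, the
relative inertia `I_{𝒳/𝒴}` (pairs `(x, α)` with `α` an automorphism of `x` sent to the identity by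
`F`) is equivalent over `C` to `𝒳 ×_{Δ, 𝒳 ×_𝒴 𝒳, Δ} 𝒳`, by a functor over `C` whose composite with
either projection is the forgetful functor `(x, α) ↦ x`. (Only the two projections of the
equivalence are pinned here; its 2-cell component at `(x, α)` is `(α, 𝟙)`.) -/
theorem result {C : Type u} [Category.{v} C] {𝒳 𝒴 : BasedCategory.{v, max u v} C} [𝒳.p.IsFibered] [𝒴.p.IsFibered] (F : 𝒳 ⥤ᵇ 𝒴) (hF : FibCat.PreservesStronglyCartesian F) :
    ∃ E : FibCat.inertia F ⥤ᵇ FibCat.fp (FibCat.diag F) (FibCat.diag F),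
      FibCat.IsEquivOver E ∧ BasedFunctor.comp E (FibCat.fpFst _ _) = FibCat.inertiaToBase F ∧
        BasedFunctor.comp E (FibCat.fpSnd _ _) = FibCat.inertiaToBase F := by
  let α : FibCat.inertiaToBase F ≅ FibCat.inertiaToBase F :=
    BasedNatIso.mkNatIso (NatIso.ofComponents (fun x => x.aut) (fun {x y} φ => φ.comm.symm))
      (fun x => Groth.Agent.Lib.Fibred.SelfOver.aut_isHomLift x rfl)
  let e : BasedFunctor.comp (FibCat.inertiaToBase F) (FibCat.diag F) ≅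
      BasedFunctor.comp (FibCat.inertiaToBase F) (FibCat.diag F) :=
    Groth.Agent.Lib.Fibred.Slice.fpIsoMk (F := F) (G := F) α (Iso.refl _) (fun x => by
      change F.map x.aut.hom ≫ 𝟙 _ = 𝟙 _ ≫ F.map (𝟙 _)
      rw [x.map_aut]
      simp)
  let E := FibCat.fpLift (FibCat.inertiaToBase F) (FibCat.inertiaToBase F) e
  refine ⟨E, ?_, rfl, rfl⟩
  have : E.toFunctor.Faithful := ⟨fun {z w φ ψ} h =>
    FibCat.InertiaObj.hom_ext (congrArg (fun t : E.obj z ⟶ E.obj w => t.hom.fst) h)⟩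
  have : E.toFunctor.Full := by
    refine ⟨fun {z w} m => ?_⟩
    let a : z.pt ⟶ w.pt := m.hom.fst
    let b : z.pt ⟶ w.pt := m.hom.snd
    have h₁ : a ≫ w.aut.hom = z.aut.hom ≫ b := congrArg (fun t => t.hom.fst) (Groth.Agent.Lib.Fibred.Fp.w m)
    have h₂ : a ≫ 𝟙 _ = 𝟙 _ ≫ b := congrArg (fun t => t.hom.snd) (Groth.Agent.Lib.Fibred.Fp.w m)
    have hab : a = b := by simpa using h₂
    exact ⟨⟨a, hab ▸ h₁.symm⟩, Groth.Agent.Lib.Fibred.Fp.hom_ext rfl hab⟩
  refine Groth.Agent.Lib.Fibred.EquivOver.isEquivOver_of_ff_essSurj _ fun η => ?_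
  let R := 𝒳.p.obj η.obj.fst
  let d₁ : η.obj.fst ≅ η.obj.snd := (FibCat.fpFst F F).toFunctor.mapIso η.obj.iso
  let d₂ : η.obj.fst ≅ η.obj.snd := (FibCat.fpSnd F F).toFunctor.mapIso η.obj.iso
  have hη : (FibCat.fp F F).p.IsHomLift (𝟙 R) η.obj.iso.hom := η.property
  have hd₂ : 𝒳.p.IsHomLift (𝟙 R) d₂.hom := Groth.Agent.Lib.Fibred.Fp.isHomLift_snd η.obj.iso.hom _
  have hw : F.map d₁.hom ≫ 𝟙 _ = 𝟙 _ ≫ F.map d₂.hom := Groth.Agent.Lib.Fibred.Fp.w η.obj.iso.hom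
  have hw' : F.map d₁.hom = F.map d₂.hom := by simpa using hw
  let z : (FibCat.inertia F).obj := ⟨η.obj.fst, d₁ ≪≫ d₂.symm, by
    rw [Iso.trans_hom, Iso.symm_hom, F.toFunctor.map_comp, hw', ← F.toFunctor.map_comp, Iso.hom_inv_id,
      F.toFunctor.map_id]⟩
  refine ⟨z, Groth.Agent.Lib.Fibred.Fp.isoMk (z := E.obj z) (w := η) (Iso.refl _) d₂ ?_,
    (Groth.Agent.Lib.Fibred.Fp.isHomLift_iff _ _).mpr (IsHomLift.id rfl)⟩
  apply Groth.Agent.Lib.Fibred.Fp.hom_ext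
  · change 𝟙 _ ≫ d₁.hom = (d₁.hom ≫ d₂.inv) ≫ d₂.hom
    simp
  · change 𝟙 _ ≫ d₂.hom = 𝟙 _ ≫ d₂.hom
    rfl

end Groth.Agent.S6402
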