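import Groth.Statements.S6405
import Groth.Agent.Lib.Fibred.SelfOver

set_option autoImplicit false
set_option backward.isDefEq.respectTransparency false
set_option backward.isDefEq.respectTransparency.types false
open CategoryTheory
universe v u
open FibCat

namespace Groth.Agent.S6405

/-- (2) ⇒ (1): if `𝒳` is fibred in groupoids over `C` and the canonical functor `I_𝒳 ⟶ 𝒳` from its
inertia is an equivalence over `C`, then `𝒳` is fibred in setoids. (The published statement is an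
equivalence; this row states only that the inertia condition implies that `𝒳` is fibred in setoids.) -/
theorem result {C : Type u} [Category.{v} C] {𝒳 : BasedCategory.{v, max u v} C} (h𝒳 : FibCat.IsFibGrpd 𝒳.p)
    (h : FibCat.IsEquivOver (FibCat.inertiaToBase (FibCat.toSelf 𝒳))) : FibCat.IsFibSetoid 𝒳.p := by
  refine ⟨h𝒳, fun U a b => ⟨fun φ ψ => ?_⟩⟩
  have := Groth.Agent.Lib.Fibred.EquivOver.full_of_isEquivOver h
  have := (Groth.Agent.Lib.Fibred.Basic.isGroupoid_fiber_of_grpd h𝒳 U).all_isIso ψ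
  have := (Groth.Agent.Lib.Fibred.Basic.isGroupoid_fiber_of_grpd h𝒳 U).all_isIso φ
  let α : a ≅ a := asIso φ ≪≫ (asIso ψ).symm
  let α' : a.1 ≅ a.1 := Functor.Fiber.fiberInclusion.mapIso α
  have hl : 𝒳.p.IsHomLift (𝟙 U) α'.hom := α.hom.2
  have hα : (FibCat.toSelf 𝒳).toFunctor.map α'.hom = 𝟙 _ := by
    have : 𝒳.p.IsHomLift (𝟙 U) (𝟙 a.1) := IsHomLift.id a.2
    change 𝒳.p.map α'.hom = 𝟙 (𝒳.p.obj a.1)
    rw [← 𝒳.p.map_id]
    exact Groth.Agent.Lib.Fibred.Basic.map_eq_of_isHomLift 𝒳.p (𝟙 U) _ _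
  let x₀ : FibCat.InertiaObj (FibCat.toSelf 𝒳) := ⟨a.1, Iso.refl _, (FibCat.toSelf 𝒳).toFunctor.map_id _⟩
  let x₁ : FibCat.InertiaObj (FibCat.toSelf 𝒳) := ⟨a.1, α', hα⟩
  obtain ⟨m, hm⟩ := (FibCat.inertiaToBase (FibCat.toSelf 𝒳)).toFunctor.map_surjective
    (X := x₀) (Y := x₁) (𝟙 a.1)
  have hm' : m.hom = 𝟙 a.1 := hm
  have hc : 𝟙 a.1 ≫ m.hom = m.hom ≫ α'.hom := m.comm
  rw [hm', Category.id_comp, Category.id_comp] at hc
  have hα' : α.hom = 𝟙 a := Functor.Fiber.hom_ext (by rw [CategoryTheory.Functor.map_id]; exact hc.symm)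
  calc φ = α.hom ≫ ψ := by simp [α]
    _ = ψ := by rw [hα', Category.id_comp]

end Groth.Agent.S6405
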