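import Groth.Statements.S6407
import Groth.Agent.Lib.Fibred.FiberFunctor

set_option autoImplicit false
set_option backward.isDefEq.respectTransparency false
set_option backward.isDefEq.respectTransparency.types false
open CategoryTheory
universe v u
open FibCat

namespace Groth.Agent.S6407

/-- For categories `𝒳, 𝒴` fibred in setoids over `C` and functors `f, g : 𝒳 ⟶ 𝒴` over `C` that agree on
isomorphism classes of objects of each fibre category, there is a unique 2-isomorphism `f ≅ g` over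
`C`. -/
theorem result {C : Type u} [Category.{v} C] {𝒳 𝒴 : BasedCategory.{v, max u v} C} (h𝒳 : FibCat.IsFibSetoid 𝒳.p) (h𝒴 : FibCat.IsFibSetoid 𝒴.p) (f g : 𝒳 ⥤ᵇ 𝒴)
    (hfg : ∀ (U : C) (x : 𝒳.p.Fiber U), Nonempty ((FibCat.fiberFunctor f U).obj x ≅ (FibCat.fiberFunctor g U).obj x)) :
    Nonempty (Unique (f ≅ g)) := by
  have := Groth.Agent.Lib.Fibred.Basic.faithful_of_setoid h𝒴
  have hc : ∀ x : 𝒳.obj, ∃ e : f.obj x ≅ g.obj x, 𝒴.p.IsHomLift (𝟙 (𝒳.p.obj x)) e.hom := fun x => by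
    obtain ⟨e⟩ := hfg (𝒳.p.obj x) ⟨x, rfl⟩
    exact ⟨Functor.Fiber.fiberInclusion.mapIso e, e.hom.2⟩
  choose e he using hc
  have hu : ∀ α β : f ≅ g, α = β := fun α β => by
    apply Iso.ext
    apply BasedNatTrans.homCategory.ext
    apply NatTrans.ext
    funext x
    exact 𝒴.p.map_injective (Groth.Agent.Lib.Fibred.Basic.map_eq_of_isHomLift 𝒴.p (𝟙 (𝒳.p.obj x)) _ _)
  refine ⟨⟨⟨BasedNatIso.mkNatIso (NatIso.ofComponents e fun {x y} φ => ?_) he⟩, fun α => hu _ _⟩⟩
  apply 𝒴.p.map_injective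
  have := he x
  have := he y
  exact Groth.Agent.Lib.Fibred.Basic.map_eq_of_isHomLift 𝒴.p (𝒳.p.map φ) _ _

end Groth.Agent.S6407
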