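import Groth.Statements.S6408
import Groth.Agent.Lib.Fibred.EquivOver

set_option autoImplicit false
set_option backward.isDefEq.respectTransparency false
set_option backward.isDefEq.respectTransparency.types false
open CategoryTheory
universe v u
open FibCat

namespace Groth.Agent.S6408

/-- Between categories fibred in sets over `C` the only 2-morphisms over `C` are identities. -/
theorem result {C : Type u} [Category.{v} C] {𝒳 𝒴 : BasedCategory.{v, max u v} C} (h𝒳 : FibCat.IsFibSet 𝒳.p) (h𝒴 : FibCat.IsFibSet 𝒴.p) {F G : 𝒳 ⥤ᵇ 𝒴} (α : F ⟶ G) :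
    ∃ h : F = G, α = eqToHom h := by
  have := Groth.Agent.Lib.Fibred.Basic.faithful_of_setoid (Groth.Agent.Lib.Fibred.Basic.setoid_of_set h𝒴)
  have ho : ∀ x, F.obj x = G.obj x := fun x =>
    Groth.Agent.Lib.Fibred.Basic.obj_eq_of_set h𝒴 (α.toNatTrans.app x) (U := 𝒳.p.obj x)
  have hl : ∀ x, 𝒴.p.IsHomLift (𝟙 (𝒳.p.obj x)) (eqToHom (ho x)) := fun x =>
    IsHomLift.eqToHom_domain_lift_id (ho x) (F.w_obj x)
  have hfun : F.toFunctor = G.toFunctor := CategoryTheory.Functor.ext ho fun x y φ => by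
    apply 𝒴.p.map_injective
    have : 𝒴.p.IsHomLift (𝒳.p.map φ) (eqToHom (ho x) ≫ G.map φ ≫ eqToHom (ho y).symm) := inferInstance
    exact Groth.Agent.Lib.Fibred.Basic.map_eq_of_isHomLift 𝒴.p (𝒳.p.map φ) _ _
  obtain ⟨F₀, wF⟩ := F
  obtain ⟨G₀, wG⟩ := G
  obtain rfl : F₀ = G₀ := hfun
  refine ⟨rfl, ?_⟩
  apply BasedNatTrans.homCategory.ext
  apply NatTrans.ext
  funext x
  apply 𝒴.p.map_injective
  exact Groth.Agent.Lib.Fibred.Basic.map_eq_of_isHomLift 𝒴.p (𝟙 (𝒳.p.obj x)) _ _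

end Groth.Agent.S6408
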