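import Groth.Statements.S6409
import Groth.Agent.Lib.Fibred.Yoneda

set_option autoImplicit false
set_option backward.isDefEq.respectTransparency false
set_option backward.isDefEq.respectTransparency.types false
open CategoryTheory
universe v u
open FibCat

namespace Groth.Agent.S6409

/-- For `𝒳` fibred in groupoids over `C`, evaluation at `𝟙_U` is an equivalence of categories from the
category of functors `C/U ⟶ 𝒳` over `C` to the fibre category `𝒳_U`. -/
theorem result {C : Type u} [Category.{v} C] {𝒳 : BasedCategory.{v, max u v} C} (h𝒳 : FibCat.IsFibGrpd 𝒳.p) (U : C) :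
    (FibCat.evalAtId 𝒳 U).IsEquivalence := by
  have := Groth.Agent.Lib.Fibred.Basic.isFibered_of_grpd h𝒳
  have hc := fun G : FibCat.overCat U ⥤ᵇ 𝒳 => Groth.Agent.Lib.Fibred.Yoneda.cartAt_of_grpd h𝒳 G
  refine { faithful := ⟨fun {G H α β} h => ?_⟩, full := ⟨fun {G H} a => ?_⟩, essSurj := ⟨fun ξ => ?_⟩ }
  · exact Groth.Agent.Lib.Fibred.Yoneda.app_ext (hc H) α β (congrArg Subtype.val h)
  · exact ⟨Groth.Agent.Lib.Fibred.Yoneda.extend (hc H) a.1 a.2, Subtype.ext (Groth.Agent.Lib.Fibred.Yoneda.extend_app_id (hc H) a.1 a.2)⟩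
  · obtain ⟨e, he⟩ := Groth.Agent.Lib.Fibred.Yoneda.fromFiber_id_iso ξ
    exact ⟨Groth.Agent.Lib.Fibred.Yoneda.fromFiber ξ, ⟨Groth.Agent.Lib.Fibred.Basic.fiberIso e he⟩⟩

end Groth.Agent.S6409
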