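import Groth.Statements.S6410
import Groth.Agent.Lib.Fibred.Yoneda

set_option autoImplicit false
set_option backward.isDefEq.respectTransparency false
set_option backward.isDefEq.respectTransparency.types false
open CategoryTheory
universe v u
open FibCat

namespace Groth.Agent.S6410

/-- For `𝒳` fibred over `C`, evaluation at `𝟙_U` restricted to the functors `C/U ⟶ 𝒳` over `C` that
preserve strongly cartesian morphisms is an equivalence of categories onto the fibre category `𝒳_U`. -/
theorem result {C : Type u} [Category.{v} C] {𝒳 : BasedCategory.{v, max u v} C} [𝒳.p.IsFibered] (U : C) :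
    ((ObjectProperty.ι (FibCat.PreservesStronglyCartesian (𝒳 := FibCat.overCat U) (𝒴 := 𝒳))) ⋙ FibCat.evalAtId 𝒳 U).IsEquivalence := by
  refine { faithful := ⟨fun {G H α β} h => ?_⟩, full := ⟨fun {G H} a => ?_⟩, essSurj := ⟨fun ξ => ?_⟩ }
  · exact ObjectProperty.hom_ext _ (Groth.Agent.Lib.Fibred.Yoneda.app_ext (Groth.Agent.Lib.Fibred.Yoneda.cartAt_of_preserves H.property) α.hom β.hom
      (congrArg Subtype.val h))
  · have hc := Groth.Agent.Lib.Fibred.Yoneda.cartAt_of_preserves H.property
    exact ⟨ObjectProperty.homMk (Groth.Agent.Lib.Fibred.Yoneda.extend hc a.1 a.2),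
      Subtype.ext (Groth.Agent.Lib.Fibred.Yoneda.extend_app_id hc a.1 a.2)⟩
  · obtain ⟨e, he⟩ := Groth.Agent.Lib.Fibred.Yoneda.fromFiber_id_iso ξ
    exact ⟨⟨Groth.Agent.Lib.Fibred.Yoneda.fromFiber ξ, Groth.Agent.Lib.Fibred.Yoneda.fromFiber_preserves ξ⟩, ⟨Groth.Agent.Lib.Fibred.Basic.fiberIso e he⟩⟩

end Groth.Agent.S6410
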