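import Groth.Statements.S6413
import Groth.Agent.Lib.Fibred.Graph

set_option autoImplicit false
set_option backward.isDefEq.respectTransparency false
set_option backward.isDefEq.respectTransparency.types false
open CategoryTheory
universe v u
open FibCat

namespace Groth.Agent.S6413

/-- For `𝒳, 𝒴` fibred in groupoids over `C` and `F : 𝒳 ⟶ 𝒴` over `C`, the projection `𝒳 ×_{F, 𝒴, id} 𝒴 ⟶
𝒴` is a category fibred in groupoids over `𝒴`. -/
theorem result {C : Type u} [Category.{v} C] {𝒳 𝒴 : BasedCategory.{v, max u v} C} (h𝒳 : FibCat.IsFibGrpd 𝒳.p) (h𝒴 : FibCat.IsFibGrpd 𝒴.p) (F : 𝒳 ⥤ᵇ 𝒴) :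
    FibCat.IsFibGrpd (FibCat.fpSnd F (BasedFunctor.id 𝒴)).toFunctor := by
  exact Groth.Agent.Lib.Fibred.Graph.fpSnd_grpd h𝒴 h𝒳

end Groth.Agent.S6413
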