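import Groth.Statements.S6417
import Groth.Agent.Lib.Fibred.Basic

set_option autoImplicit false
set_option backward.isDefEq.respectTransparency false
set_option backward.isDefEq.respectTransparency.types false
open CategoryTheory CategoryTheory.Limits
universe v₁ u₁ v₂ u₂
open FibCat

namespace Groth.Agent.S6417

/-- For `p : 𝒮 ⥤ C`, a strongly cartesian `φ : x ⟶ y`, any `ψ : z ⟶ y`, and a strongly cartesian `a : w
⟶ z` lying over the second projection of `p x ×_{p y} p z`, the object `w` is a fibre product `x ×_y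
z`: there is `b : w ⟶ x` over the first projection with `(b, a)` a pullback square. -/
theorem result {𝒮 : Type u₁} [Category.{v₁} 𝒮] {C : Type u₂} [Category.{v₂} C] (p : 𝒮 ⥤ C) {x y z w : 𝒮} (φ : x ⟶ y) (ψ : z ⟶ y)
    [p.IsStronglyCartesian (p.map φ) φ] [HasPullback (p.map φ) (p.map ψ)] (a : w ⟶ z)
    [p.IsStronglyCartesian (pullback.snd (p.map φ) (p.map ψ)) a] :
    ∃ b : w ⟶ x, p.IsHomLift (pullback.fst (p.map φ) (p.map ψ)) b ∧ IsPullback b a φ ψ := by
  have hf : p.IsHomLift (pullback.snd (p.map φ) (p.map ψ) ≫ p.map ψ) (a ≫ ψ) := inferInstance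
  rw [← pullback.condition] at hf
  let b : w ⟶ x := Functor.IsStronglyCartesian.map p (p.map φ) φ
    (g := pullback.fst (p.map φ) (p.map ψ)) rfl (a ≫ ψ)
  have hb : p.IsHomLift (pullback.fst (p.map φ) (p.map ψ)) b :=
    Functor.IsStronglyCartesian.map_isHomLift p (p.map φ) φ rfl (a ≫ ψ)
  have hsq : b ≫ φ = a ≫ ψ := Functor.IsStronglyCartesian.fac p (p.map φ) φ rfl (a ≫ ψ)
  refine ⟨b, hb, ⟨hsq⟩, ⟨?_⟩⟩
  have lift : ∀ s : PullbackCone φ ψ, ∃! m : s.pt ⟶ w, m ≫ b = s.fst ∧ m ≫ a = s.snd := by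
    intro s
    let k := pullback.lift (f := p.map φ) (g := p.map ψ) (p.map s.fst) (p.map s.snd)
      (by rw [← p.map_comp, ← p.map_comp, s.condition])
    have hk₂ : k ≫ pullback.snd (p.map φ) (p.map ψ) = p.map s.snd := pullback.lift_snd _ _ _
    have hk₁ : k ≫ pullback.fst (p.map φ) (p.map ψ) = p.map s.fst := pullback.lift_fst _ _ _
    obtain ⟨m, ⟨hm, hm'⟩, hu⟩ := Functor.IsStronglyCartesian.universal_property p
      (pullback.snd (p.map φ) (p.map ψ)) a k (p.map s.snd) hk₂.symm s.snd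
    refine ⟨m, ⟨?_, hm'⟩, ?_⟩
    · have : p.IsHomLift (p.map s.fst) (m ≫ b) := hk₁ ▸ inferInstance
      apply Functor.IsStronglyCartesian.ext p (p.map φ) φ (p.map s.fst)
      rw [Category.assoc, hsq, ← Category.assoc, hm', s.condition]
    · rintro m' ⟨h₁, h₂⟩
      refine hu m' ⟨?_, h₂⟩
      have hwP : p.obj w = pullback (p.map φ) (p.map ψ) :=
        IsHomLift.domain_eq p (pullback.snd (p.map φ) (p.map ψ)) a
      refine IsHomLift.of_fac' p _ _ rfl hwP ?_
      rw [← cancel_mono (eqToHom hwP)]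
      simp only [eqToHom_refl, Category.id_comp, Category.assoc, eqToHom_trans, Category.comp_id]
      have ea := IsHomLift.fac' p (pullback.snd (p.map φ) (p.map ψ)) a
      have eb := IsHomLift.fac' p (pullback.fst (p.map φ) (p.map ψ)) b
      simp only [eqToHom_refl, Category.comp_id] at ea eb
      apply pullback.hom_ext
      · rw [Category.assoc, ← eb, hk₁, ← p.map_comp, h₁]
      · rw [Category.assoc, ← ea, hk₂, ← p.map_comp, h₂]
  choose m hm hmu using lift
  exact PullbackCone.isLimitAux' _ fun s => ⟨m s, (hm s).1, (hm s).2, fun {n} h₁ h₂ => hmu s n ⟨h₁, h₂⟩⟩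

end Groth.Agent.S6417
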