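import Groth.Statements.S6418
import Groth.Agent.Lib.Fibred.FibSet

set_option autoImplicit false
set_option backward.isDefEq.respectTransparency false
set_option backward.isDefEq.respectTransparency.types false
open CategoryTheory
universe v₁ u₁ v₂ u₂
open FibCat

namespace Groth.Agent.S6418

/-- If `p' : 𝒮 ⥤ C/U` composed with the forgetful functor `C/U ⥤ C` is a fibred category, then so is
`p'`. -/
theorem result {𝒮 : Type u₁} [Category.{v₁} 𝒮] {C : Type u₂} [Category.{v₂} C] {U : C} (p' : 𝒮 ⥤ Over U) [(p' ⋙ Over.forget U).IsFibered] : p'.IsFibered := by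
  exact (Groth.Agent.Lib.Fibred.FibSet.isFibered_iff_comp (Groth.Agent.Lib.Fibred.FibSet.overForget_isFibSet U)).mpr inferInstance

end Groth.Agent.S6418
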