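import Groth.Statements.S6422

set_option autoImplicit false
set_option backward.isDefEq.respectTransparency false
set_option backward.isDefEq.respectTransparency.types false
open CategoryTheory CategoryTheory.Limits
universe v u
open FibCat

namespace Groth.Agent.S6422

/-- For a 2-commutative morphism of cospans of categories whose outer functors `X ⥤ A`, `Y ⥤ B` are
equivalences and whose middle functor `Z ⥤ C` is fully faithful, the induced functor `X ×_Z Y ⥤ A
×_C B` is an equivalence of categories. -/
theorem result {X Y Z A B C : Type u} [Category.{v} X] [Category.{v} Y] [Category.{v} Z] [Category.{v} A] [Category.{v} B] [Category.{v} C] {H : X ⥤ Z} {I : Y ⥤ Z} {F : A ⥤ C} {G : B ⥤ C} (ψ : CatCospanTransform H I F G) [ψ.left.IsEquivalence] [ψ.right.IsEquivalence] [ψ.base.Full] [ψ.base.Faithful] :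
    (FibCat.categoricalPullbackMap ψ).IsEquivalence := by
  have hiso : ∀ z : CategoricalPullback H I, ((FibCat.categoricalPullbackMap ψ).obj z).iso.hom =
      ψ.squareLeft.iso.inv.app z.fst ≫ ψ.base.map z.iso.hom ≫ ψ.squareRight.iso.hom.app z.snd := by
    intro z
    simp [FibCat.categoricalPullbackMap]
    rfl
  have hfull : (FibCat.categoricalPullbackMap ψ).Full := by
    refine ⟨fun {x y} g => ?_⟩
    have hw := g.w
    let a : x.fst ⟶ y.fst := ψ.left.preimage g.fst
    let b : x.snd ⟶ y.snd := ψ.right.preimage g.snd
    have key : ψ.base.map (H.map a) ≫ ψ.base.map y.iso.hom = ψ.base.map x.iso.hom ≫ ψ.base.map (I.map b) := by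
      rw [hiso, hiso] at hw
      have hl : F.map g.fst ≫ ψ.squareLeft.iso.inv.app y.fst = ψ.squareLeft.iso.inv.app x.fst ≫ ψ.base.map (H.map a) := by
        have := ψ.squareLeft.iso.inv.naturality a
        simpa [a] using this
      have hr : ψ.base.map (I.map b) ≫ ψ.squareRight.iso.hom.app y.snd = ψ.squareRight.iso.hom.app x.snd ≫ G.map g.snd := by
        have := ψ.squareRight.iso.hom.naturality b
        simpa [b] using this
      rw [← cancel_epi (ψ.squareLeft.iso.inv.app x.fst), ← cancel_mono (ψ.squareRight.iso.hom.app y.snd)]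
      simp only [Category.assoc, hr]
      rw [← reassoc_of% hl]
      simpa using hw
    have key' : H.map a ≫ y.iso.hom = x.iso.hom ≫ I.map b :=
      ψ.base.map_injective (by simpa using key)
    refine ⟨{ fst := a, snd := b, w := key' }, CategoricalPullback.hom_ext ?_ ?_⟩
    · exact ψ.left.map_preimage g.fst
    · exact ψ.right.map_preimage g.snd
  have hfaith : (FibCat.categoricalPullbackMap ψ).Faithful := by
    refine ⟨fun {x y} {φ φ'} h => ?_⟩
    exact CategoricalPullback.hom_ext
      (ψ.left.map_injective (congrArg CategoricalPullback.Hom.fst h))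
      (ψ.right.map_injective (congrArg CategoricalPullback.Hom.snd h))
  refine { faithful := hfaith, full := hfull, essSurj := ⟨fun t => ?_⟩ }
  let a := ψ.left.objPreimage t.fst
  let b := ψ.right.objPreimage t.snd
  let ea : ψ.left.obj a ≅ t.fst := ψ.left.objObjPreimageIso t.fst
  let eb : ψ.right.obj b ≅ t.snd := ψ.right.objObjPreimageIso t.snd
  let e : ψ.base.obj (H.obj a) ≅ ψ.base.obj (I.obj b) :=
    ψ.squareLeft.iso.app a ≪≫ F.mapIso ea ≪≫ t.iso ≪≫ (G.mapIso eb).symm ≪≫ (ψ.squareRight.iso.app b).symm
  let z : CategoricalPullback H I := { fst := a, snd := b, iso := ψ.base.preimageIso e }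
  refine ⟨z, ⟨CategoricalPullback.mkIso ea eb ?_⟩⟩
  rw [hiso z]
  simp [z, e]

end Groth.Agent.S6422
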