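import Groth.Statements.S6425
import Mathlib.CategoryTheory.Limits.Types.Colimits
import Mathlib.CategoryTheory.Limits.FunctorCategory.Basic
import Mathlib.CategoryTheory.Limits.Types.Products
import Mathlib.CategoryTheory.Limits.Preserves.Shapes.BinaryProducts


set_option autoImplicit false
open CategoryTheory CategoryTheory.Limits
universe v
open CatLim

namespace Groth.Agent.S6425

/-- Over an index category in which any two objects map to a common object, the comparison map `colim (M
× N) → colim M × colim N` for diagrams of sets is surjective. -/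
theorem result {I : Type v} [SmallCategory I]
    (hI : ∀ x y : I, ∃ (z : I) (_ : x ⟶ z) (_ : y ⟶ z), True) (M N : I ⥤ Type v) :
    Function.Surjective (prodComparison (colim : (I ⥤ Type v) ⥤ Type v) M N) := by
  intro x
  obtain ⟨i, a, ha⟩ := Types.jointly_surjective' ((prod.fst : colim.obj M ⨯ colim.obj N ⟶ _) x)
  obtain ⟨j, b, hb⟩ := Types.jointly_surjective' ((prod.snd : colim.obj M ⨯ colim.obj N ⟶ _) x)
  obtain ⟨z, f, g, -⟩ := hI i j
  let e := (asIso (prodComparison ((evaluation I (Type v)).obj z) M N)) ≪≫ Types.binaryProductIso (M.obj z) (N.obj z)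
  refine ⟨colimit.ι (M ⨯ N) z (e.inv (M.map f a, N.map g b)), ?_⟩
  have e1 : (prod.fst : M ⨯ N ⟶ M).app z (e.inv (M.map f a, N.map g b)) = M.map f a := by
    have h : e.inv ≫ (prod.fst : M ⨯ N ⟶ M).app z = ↾Prod.fst := by
      rw [Iso.inv_comp_eq]; simp [e]; exact (prodComparison_fst ((evaluation I (Type v)).obj z) M N).symm
    exact ConcreteCategory.congr_hom h ((M.map f a, N.map g b) : M.obj z × N.obj z)
  have e2 : (prod.snd : M ⨯ N ⟶ N).app z (e.inv (M.map f a, N.map g b)) = N.map g b := by
    have h : e.inv ≫ (prod.snd : M ⨯ N ⟶ N).app z = ↾Prod.snd := by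
      rw [Iso.inv_comp_eq]; simp [e]; exact (prodComparison_snd ((evaluation I (Type v)).obj z) M N).symm
    exact ConcreteCategory.congr_hom h ((M.map f a, N.map g b) : M.obj z × N.obj z)
  apply (Types.binaryProductIso _ _).toEquiv.injective
  apply Prod.ext
  · simp only [Types.binaryProductIso_hom_comp_fst_apply, Iso.toEquiv_fun]
    have h1 := ConcreteCategory.congr_hom (prodComparison_fst (colim : (I ⥤ Type v) ⥤ Type v) M N)
      (colimit.ι (M ⨯ N) z (e.inv (M.map f a, N.map g b)))
    refine h1.trans (Eq.trans ?_ ha)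
    have h2 := ConcreteCategory.congr_hom (colimit.ι_map (prod.fst : M ⨯ N ⟶ M) z) (e.inv (M.map f a, N.map g b))
    refine h2.trans ?_
    simp [e1]
  · simp only [Types.binaryProductIso_hom_comp_snd_apply, Iso.toEquiv_fun]
    have h1 := ConcreteCategory.congr_hom (prodComparison_snd (colim : (I ⥤ Type v) ⥤ Type v) M N)
      (colimit.ι (M ⨯ N) z (e.inv (M.map f a, N.map g b)))
    refine h1.trans (Eq.trans ?_ hb)
    have h2 := ConcreteCategory.congr_hom (colimit.ι_map (prod.snd : M ⨯ N ⟶ N) z) (e.inv (M.map f a, N.map g b))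
    refine h2.trans ?_
    simp [e2]

end Groth.Agent.S6425
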