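import Groth.Statements.S6426
import Mathlib.Algebra.Category.Grp.Colimits
import Mathlib.Algebra.Category.Grp.EpiMono
import Mathlib.CategoryTheory.Limits.Types.Colimits


set_option autoImplicit false
open CategoryTheory CategoryTheory.Limits
universe v
open CatLim

namespace Groth.Agent.S6426

/-- Over a nonempty index category in which any two objects map to a common object, the set-theoretic
colimit of a diagram of abelian groups surjects onto its colimit in abelian groups. (The published
statement does not require the index category to be nonempty; this row assumes it, because for the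
empty index category the colimit of sets is empty while the colimit of abelian groups is the zero
group.) -/
theorem result {I : Type v} [SmallCategory I] [Nonempty I]
    (hI : ∀ x y : I, ∃ (z : I) (_ : x ⟶ z) (_ : y ⟶ z), True) (M : I ⥤ AddCommGrpCat.{v}) :
    Function.Surjective (colimit.post M (forget AddCommGrpCat.{v})) := by
  let S : AddSubgroup ↑(colimit M) :=
    { carrier := {x | ∃ (i : I) (y : M.obj i), colimit.ι M i y = x}
      zero_mem' := ⟨Classical.arbitrary I, 0, map_zero _⟩
      add_mem' := by
        rintro _ _ ⟨i, a, rfl⟩ ⟨j, b, rfl⟩
        obtain ⟨z, f, g, -⟩ := hI i j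
        refine ⟨z, M.map f a + M.map g b, ?_⟩
        rw [map_add]
        congr 1
        · exact ConcreteCategory.congr_hom (colimit.w M f) a
        · exact ConcreteCategory.congr_hom (colimit.w M g) b
      neg_mem' := by
        rintro _ ⟨i, a, rfl⟩
        exact ⟨i, -a, map_neg _ _⟩ }
  have hS : S = ⊤ := by
    let q : colimit M ⟶ AddCommGrpCat.of (↑(colimit M) ⧸ S) := AddCommGrpCat.ofHom (QuotientAddGroup.mk' S)
    have h0 : q = 0 := colimit.hom_ext fun i => by
      ext y
      exact (QuotientAddGroup.eq_zero_iff _).2 ⟨i, y, rfl⟩
    refine eq_top_iff.2 fun x _ => (QuotientAddGroup.eq_zero_iff x).1 ?_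
    exact ConcreteCategory.congr_hom h0 x
  intro x
  obtain ⟨i, y, rfl⟩ : x ∈ S := hS ▸ trivial
  exact ⟨colimit.ι (M ⋙ forget AddCommGrpCat) i y, ConcreteCategory.congr_hom (colimit.ι_post M (forget AddCommGrpCat) i) y⟩

end Groth.Agent.S6426
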