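import Groth.Statements.S6427
import Mathlib.CategoryTheory.Limits.Types.Colimits


set_option autoImplicit false
open CategoryTheory CategoryTheory.Limits
universe v
open CatLim

namespace Groth.Agent.S6427

/-- Over an index category in which every pair of morphisms with common source can be completed to a
commutative square, colimits of sets preserve injective morphisms of diagrams. -/
theorem result {I : Type v} [SmallCategory I]
    (hI : ∀ ⦃x y z : I⦄ (f : x ⟶ y) (g : x ⟶ z), ∃ (w : I) (f' : y ⟶ w) (g' : z ⟶ w), f ≫ f' = g ≫ g')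
    {M N : I ⥤ Type v} (φ : M ⟶ N) (hφ : ∀ i, Function.Injective (φ.app i)) :
    Function.Injective (colimMap φ) := by
  let R : (Σ i, N.obj i) → (Σ i, N.obj i) → Prop := fun p q =>
    ∃ (k : I) (f : p.1 ⟶ k) (g : q.1 ⟶ k), N.map f p.2 = N.map g q.2
  have htr : ∀ p q r, R p q → R q r → R p r := by
    rintro p q r ⟨k, f, g, h⟩ ⟨k', f', g', h'⟩
    obtain ⟨w, a, b, hab⟩ := hI g f'
    refine ⟨w, f ≫ a, g' ≫ b, ?_⟩
    rw [Functor.map_comp, Functor.map_comp]
    dsimp
    rw [h, ← h']
    have := congr_arg (fun t => N.map t q.2) hab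
    simpa using this
  have key : ∀ p q, Relation.EqvGen N.ColimitTypeRel p q → R p q := by
    intro p q h
    induction h with
    | rel p q h =>
      obtain ⟨f, hf⟩ := h
      exact ⟨q.1, f, 𝟙 _, by simp [hf]⟩
    | refl p => exact ⟨p.1, 𝟙 _, 𝟙 _, rfl⟩
    | symm p q _ ih => exact ⟨ih.choose, ih.choose_spec.choose_spec.choose, ih.choose_spec.choose, ih.choose_spec.choose_spec.choose_spec.symm⟩
    | trans p q r _ _ ih ih' => exact htr p q r ih ih'
  intro x y hxy
  obtain ⟨i, a, rfl⟩ := Types.jointly_surjective' x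
  obtain ⟨j, b, rfl⟩ := Types.jointly_surjective' y
  have h' : colimit.ι N i (φ.app i a) = colimit.ι N j (φ.app j b) := by
    simpa using hxy
  obtain ⟨k, f, g, h⟩ := key _ _ (Types.colimit_eq h')
  dsimp at f g h
  refine Types.colimit_sound' f g (hφ k ?_)
  rw [NatTrans.naturality_apply φ f a, NatTrans.naturality_apply φ g b, h]

end Groth.Agent.S6427
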