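import Groth.Statements.S6428
import Mathlib

set_option autoImplicit false
open CategoryTheory CategoryTheory.Limits
universe v₁ u₁ v₂ u₂ v₃ u₃
open CatLim

namespace Groth.Agent.S6428

/-- If `F : I ⥤ I'` has connected fibre categories and is surjective on morphisms, then for every
diagram `M : I' ⥤ C` the colimit of `F ⋙ M` exists if and only if that of `M` does, and the
canonical comparison between them is then an isomorphism. -/
theorem result {I : Type u₁} [Category.{v₁} I] {I' : Type u₂} [Category.{v₂} I'] {C : Type u₃} [Category.{v₃} C] (F : I ⥤ I')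
    (h1 : ∀ x' : I', IsConnected (F.Fiber x'))
    (h2 : ∀ ⦃x' y' : I'⦄ (α' : x' ⟶ y'), ∃ (x y : I) (hx : F.obj x = x') (hy : F.obj y = y') (α : x ⟶ y), F.map α = eqToHom hx ≫ α' ≫ eqToHom hy.symm)
    (M : I' ⥤ C) :
    (HasColimit (F ⋙ M) ↔ HasColimit M) ∧ ∀ [HasColimit (F ⋙ M)] [HasColimit M], IsIso (colimit.pre M F) := by
  haveI : F.Final := ⟨fun d => by
    let Φ : ∀ (e : I') (_ : d ⟶ e), F.Fiber e ⥤ StructuredArrow d F := fun e α =>
      { obj := fun z => StructuredArrow.mk (Y := z.1) (α ≫ eqToHom z.2.symm)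
        map := fun {a b} φ => StructuredArrow.homMk φ.1 (by
          haveI := φ.2
          simp [IsHomLift.fac' F (𝟙 e) φ.1])
        map_id := fun z => StructuredArrow.hom_ext _ _ rfl
        map_comp := fun φ ψ => StructuredArrow.hom_ext _ _ rfl }
    obtain ⟨z₀⟩ := (h1 d).is_nonempty
    haveI : Nonempty (StructuredArrow d F) := ⟨(Φ d (𝟙 d)).obj z₀⟩
    have key : ∀ o : StructuredArrow d F, Zigzag ((Φ d (𝟙 d)).obj z₀) o := fun o => by
      obtain ⟨x, y, hx, hy, a, ha⟩ := h2 o.hom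
      haveI := h1 d
      haveI := h1 (F.obj o.right)
      have z1 : Zigzag ((Φ d (𝟙 d)).obj z₀) ((Φ d (𝟙 d)).obj ⟨x, hx⟩) :=
        zigzag_obj_of_zigzag _ (isPreconnected_zigzag z₀ ⟨x, hx⟩)
      have z2 : Zigzag ((Φ d (𝟙 d)).obj ⟨x, hx⟩) ((Φ _ o.hom).obj ⟨y, hy⟩) :=
        Zigzag.of_hom (StructuredArrow.homMk a (by simp [Φ, ha]))
      have z3 : Zigzag ((Φ _ o.hom).obj ⟨y, hy⟩) ((Φ _ o.hom).obj ⟨o.right, rfl⟩) :=
        zigzag_obj_of_zigzag _ (isPreconnected_zigzag _ _)
      have z4 : Zigzag ((Φ _ o.hom).obj ⟨o.right, rfl⟩) o :=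
        Zigzag.of_hom (StructuredArrow.homMk (𝟙 o.right) (by simp [Φ]))
      exact ((z1.trans z2).trans z3).trans z4
    exact zigzag_isConnected fun a b => (Zigzag.symm (key a)).trans (key b)⟩
  exact ⟨Functor.Final.hasColimit_comp_iff F, fun {_ _} => inferInstance⟩

end Groth.Agent.S6428
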