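import Groth.Statements.S6429
import Mathlib.CategoryTheory.Monoidal.Category


set_option autoImplicit false
open CategoryTheory CategoryTheory.MonoidalCategory
universe v u
open MonCat

namespace Groth.Agent.S6429

/-- An object `X` of a monoidal category is invertible (some `X'` has `X ⊗ X' ≅ 𝟙` and `X' ⊗ X ≅ 𝟙`) if
and only if tensoring on the left by `X` is an equivalence, if and only if tensoring on the right by
`X` is an equivalence. -/
theorem result {C : Type u} [Category.{v} C] [MonoidalCategory C] (X : C) :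
    ((tensorLeft X).IsEquivalence ↔ ∃ X' : C, Nonempty (X ⊗ X' ≅ 𝟙_ C) ∧ Nonempty (X' ⊗ X ≅ 𝟙_ C)) ∧
      ((tensorRight X).IsEquivalence ↔ ∃ X' : C, Nonempty (X ⊗ X' ≅ 𝟙_ C) ∧ Nonempty (X' ⊗ X ≅ 𝟙_ C)) := by
  constructor
  · constructor
    · intro h
      let E := (tensorLeft X).asEquivalence
      let a : X ⊗ E.inverse.obj (𝟙_ C) ≅ 𝟙_ C := E.counitIso.app (𝟙_ C)
      refine ⟨E.inverse.obj (𝟙_ C), ⟨a⟩, ⟨(tensorLeft X).preimageIso ?_⟩⟩
      exact (α_ X (E.inverse.obj (𝟙_ C)) X).symm ≪≫ whiskerRightIso a X ≪≫ λ_ X ≪≫ (ρ_ X).symm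
    · rintro ⟨X', ⟨a⟩, ⟨b⟩⟩
      exact (CategoryTheory.Equivalence.mk (tensorLeft X) (tensorLeft X')
        ((leftUnitorNatIso C).symm ≪≫ (tensoringLeft C).mapIso b.symm ≪≫ tensorLeftTensor X' X)
        ((tensorLeftTensor X X').symm ≪≫ (tensoringLeft C).mapIso a ≪≫ leftUnitorNatIso C)).isEquivalence_functor
  · constructor
    · intro h
      let E := (tensorRight X).asEquivalence
      let a : E.inverse.obj (𝟙_ C) ⊗ X ≅ 𝟙_ C := E.counitIso.app (𝟙_ C)
      refine ⟨E.inverse.obj (𝟙_ C), ⟨(tensorRight X).preimageIso ?_⟩, ⟨a⟩⟩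
      exact α_ X (E.inverse.obj (𝟙_ C)) X ≪≫ whiskerLeftIso X a ≪≫ ρ_ X ≪≫ (λ_ X).symm
    · rintro ⟨X', ⟨a⟩, ⟨b⟩⟩
      exact (CategoryTheory.Equivalence.mk (tensorRight X) (tensorRight X')
        ((rightUnitorNatIso C).symm ≪≫ (tensoringRight C).mapIso a.symm ≪≫ tensorRightTensor X X')
        ((tensorRightTensor X' X).symm ≪≫ (tensoringRight C).mapIso b ≪≫ rightUnitorNatIso C)).isEquivalence_functor

end Groth.Agent.S6429
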