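import Groth.Statements.S6430
import Groth.Agent.Lib.Fibred.Basic

set_option autoImplicit false
set_option backward.isDefEq.respectTransparency false
set_option backward.isDefEq.respectTransparency.types false
open CategoryTheory
universe v₂ u₂ v u
open FibCat

namespace Groth.Agent.S6430

/-- For a fibred category `p : 𝒮 ⥤ C`, the wide subcategory of `𝒮` on the strongly cartesian morphisms
is fibred in groupoids over `C`. -/
theorem result {C : Type u} [Category.{v} C] {𝒮 : Type u₂} [Category.{v₂} 𝒮] (p : 𝒮 ⥤ C) [p.IsFibered] :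
    FibCat.IsFibGrpd (FibCat.cartSubProj p) := by
  refine ⟨fun {x V} f => ?_, fun {y x} φ => ?_⟩
  · obtain ⟨z, ψ, hψ⟩ := IsPreFibered.exists_isCartesian p (rfl : p.obj x.obj = _) f
    let z' : FibCat.cartSub p := ⟨z⟩
    let ψ' : z' ⟶ x := ⟨ψ, Groth.Agent.Lib.Fibred.Basic.isStronglyCartesian_self_of_isCartesian p f ψ⟩
    exact ⟨z', ψ', IsHomLift.of_fac' _ _ _ (IsHomLift.domain_eq p f ψ) rfl (IsHomLift.fac' p f ψ)⟩
  · have hφ : p.IsStronglyCartesian (p.map φ.hom) φ.hom := φ.property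
    have hl : ∀ {a b : FibCat.cartSub p} {R S : C} (f : R ⟶ S) (g : a ⟶ b),
        (FibCat.cartSubProj p).IsHomLift f g ↔ p.IsHomLift f g.hom := fun f g =>
      ⟨fun h => IsHomLift.of_fac' _ _ _ (IsHomLift.domain_eq (FibCat.cartSubProj p) f g)
          (IsHomLift.codomain_eq (FibCat.cartSubProj p) f g) (IsHomLift.fac' (FibCat.cartSubProj p) f g),
        fun h => IsHomLift.of_fac' _ _ _ (IsHomLift.domain_eq p f g.hom)
          (IsHomLift.codomain_eq p f g.hom) (IsHomLift.fac' p f g.hom)⟩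
    refine { universal_property' := fun {c} g ψ hψ => ?_ }
    have hψ' : p.IsHomLift (g ≫ p.map φ.hom) ψ.hom := (hl _ _).mp hψ
    have : p.IsStronglyCartesian (p.map ψ.hom) ψ.hom := ψ.property
    obtain ⟨χ, ⟨hχ, hχ'⟩, hu⟩ := Functor.IsStronglyCartesian.universal_property p
      (p.map φ.hom) φ.hom g _ rfl ψ.hom
    have h1 : p.IsStronglyCartesian (g ≫ p.map φ.hom) (χ ≫ φ.hom) := by
      rw [hχ']; exact Groth.Agent.Lib.Fibred.Basic.isStronglyCartesian_of_self p _ _
    have h2 : p.IsStronglyCartesian g χ :=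
      Functor.IsStronglyCartesian.of_comp p (g := p.map φ.hom) (ψ := φ.hom)
    have h3 : FibCat.cartMor p χ := Groth.Agent.Lib.Fibred.Basic.isStronglyCartesian_self p g χ
    refine ⟨⟨χ, h3⟩, ⟨(hl _ _).mpr hχ, WideSubcategory.hom_ext _ hχ'⟩, ?_⟩
    rintro χ' ⟨hχ'₁, rfl⟩
    exact WideSubcategory.hom_ext _ (hu _ ⟨(hl _ _).mp hχ'₁, rfl⟩)

end Groth.Agent.S6430
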