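import Groth.Statements.S6434
import Groth.Agent.S6433
import Mathlib.Data.Fintype.Sigma
import Mathlib.CategoryTheory.Limits.Preserves.Finite


set_option autoImplicit false
open CategoryTheory
universe v u v' u'
open CatLoc

namespace Groth.Agent.S6434

/-- The localization functor at a left multiplicative system commutes with finite colimits. -/
theorem result {C : Type u} [Category.{v} C] {D : Type u'} [Category.{v'} D] (W : MorphismProperty C) (L : C ⥤ D) [L.IsLocalization W] [W.HasLeftCalculusOfFractions] :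
    Limits.PreservesFiniteColimits L := by
  classical
  have heq : ∀ {ι : Type} (S : Finset ι) (X : ι → C) (Y : C) (a b : ∀ i, X i ⟶ Y),
      (∀ i, L.map (a i) = L.map (b i)) →
      ∃ (Z : C) (u : Y ⟶ Z) (_ : W u), ∀ i ∈ S, a i ≫ u = b i ≫ u := by
    intro ι S X Y a b hab
    induction S using Finset.induction with
    | empty => exact ⟨Y, 𝟙 Y, W.id_mem Y, by simp⟩
    | insert k S hk ih =>
      obtain ⟨Z, u', hu, he⟩ := ih
      have h0 : L.map (a k ≫ u') = L.map (b k ≫ u') := by rw [L.map_comp, L.map_comp, hab k]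
      obtain ⟨Z', v', hv, hk'⟩ := (MorphismProperty.map_eq_iff_postcomp L W _ _).1 h0
      refine ⟨Z', u' ≫ v', W.comp_mem _ _ hu hv, fun i hi => ?_⟩
      rcases Finset.mem_insert.1 hi with rfl | hi
      · simpa using hk'
      · rw [reassoc_of% (he i hi)]
  refine ⟨fun J _ _ => ⟨fun {K} => ⟨fun {c} hc => ⟨?_⟩⟩⟩⟩
  have : L.EssSurj := Localization.essSurj L W
  have hdesc : ∀ t : Limits.Cocone (K ⋙ L), ∃ m : L.obj c.pt ⟶ t.pt, ∀ j, L.map (c.ι.app j) ≫ m = t.ι.app j := by
    intro t
    let e := L.objObjPreimageIso t.pt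
    obtain ⟨Y', s, hs, f, hf⟩ := Groth.Agent.S6433.result W L (fun j => K.obj j) (L.objPreimage t.pt)
      (fun j => t.ι.app j ≫ e.inv)
    obtain ⟨Z, u', hu, he⟩ := heq (ι := Σ (j : J) (j' : J), (j ⟶ j')) Finset.univ (fun p => K.obj p.1) Y'
      (fun p => K.map p.2.2 ≫ f p.2.1) (fun p => f p.1) (fun p => by
        rw [L.map_comp, ← hf, ← hf, ← Category.assoc, ← Category.assoc]
        exact congrArg (fun z => (z ≫ e.inv) ≫ L.map s) (t.w p.2.2))
    let d : Limits.Cocone K :=
      { pt := Z
        ι := { app := fun j => f j ≫ u'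
               naturality := fun j j' α => by
                 simpa using he ⟨j, j', α⟩ (Finset.mem_univ _) } }
    have := Localization.inverts L W _ (W.comp_mem _ _ hs hu)
    refine ⟨L.map (hc.desc d) ≫ inv (L.map (s ≫ u')) ≫ e.hom, fun j => ?_⟩
    rw [← L.map_comp_assoc, hc.fac]
    change L.map (f j ≫ u') ≫ inv (L.map (s ≫ u')) ≫ e.hom = _
    rw [L.map_comp (f j), ← hf j]
    simp only [Category.assoc, ← L.map_comp_assoc s u', IsIso.hom_inv_id_assoc, Iso.inv_hom_id, Category.comp_id]
  have huniq : ∀ {T : D} (p q : L.obj c.pt ⟶ T),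
      (∀ j, L.map (c.ι.app j) ≫ p = L.map (c.ι.app j) ≫ q) → p = q := by
    intro T p q hpq
    let e := L.objObjPreimageIso T
    obtain ⟨Y', s, hs, f, hf⟩ := Groth.Agent.S6433.result W L (fun _ : Bool => c.pt) (L.objPreimage T)
      (fun b => (bif b then p else q) ≫ e.inv)
    obtain ⟨Z, u', hu, he⟩ := heq (ι := J) Finset.univ (fun j => K.obj j) Y'
      (fun j => c.ι.app j ≫ f true) (fun j => c.ι.app j ≫ f false) (fun j => by
        rw [L.map_comp, L.map_comp, ← hf, ← hf]
        simp only [cond_true, cond_false, ← Category.assoc, hpq j])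
    have hfu : f true ≫ u' = f false ≫ u' := hc.hom_ext fun j => by
      simpa using he j (Finset.mem_univ _)
    have := Localization.inverts L W _ (W.comp_mem _ _ hs hu)
    rw [← cancel_mono e.inv, ← cancel_mono (L.map (s ≫ u')), L.map_comp s u', ← Category.assoc _ (L.map s),
      ← Category.assoc _ (L.map s)]
    rw [show (p ≫ e.inv) ≫ L.map s = L.map (f true) from hf true,
      show (q ≫ e.inv) ≫ L.map s = L.map (f false) from hf false, ← L.map_comp, ← L.map_comp, hfu]
  exact
    { desc := fun t => (hdesc t).choose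
      fac := fun t j => (hdesc t).choose_spec j
      uniq := fun t mm hm => huniq _ _ fun j => (hm j).trans ((hdesc t).choose_spec j).symm }

end Groth.Agent.S6434
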