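import Groth.Statements.S6435
import Mathlib.CategoryTheory.Localization.CalculusOfFractions


set_option autoImplicit false
open CategoryTheory
universe v u v' u'
open CatLoc

namespace Groth.Agent.S6435

/-- For a multiplicative system `W` (left and right calculus of fractions) with localization functor
`L`, a morphism `f` becomes an isomorphism under `L` if and only if `g ∘ f ∈ W` and `f ∘ h ∈ W` for
some `g, h`. -/
theorem result {C : Type u} [Category.{v} C] {D : Type u'} [Category.{v'} D] (W : MorphismProperty C) (L : C ⥤ D) [L.IsLocalization W] [W.HasLeftCalculusOfFractions] [W.HasRightCalculusOfFractions]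
    {X Y : C} (f : X ⟶ Y) :
    IsIso (L.map f) ↔ ∃ (Z Z' : C) (g : Y ⟶ Z) (h : Z' ⟶ X), W (f ≫ g) ∧ W (h ≫ f) := by
  constructor
  · intro hi
    obtain ⟨φ, hφ⟩ := Localization.exists_leftFraction L W (inv (L.map f))
    have h1 : inv (L.map f) ≫ L.map φ.s = L.map φ.f := by rw [hφ, φ.map_comp_map_s]
    rw [IsIso.inv_comp_eq, ← L.map_comp, MorphismProperty.map_eq_iff_postcomp L W] at h1
    obtain ⟨Z, u', hu, he⟩ := h1
    obtain ⟨ψ, hψ⟩ := Localization.exists_rightFraction L W (inv (L.map f))
    have h2 : L.map ψ.s ≫ inv (L.map f) = L.map ψ.f := by rw [hψ, ψ.map_s_comp_map]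
    rw [IsIso.comp_inv_eq, ← L.map_comp, MorphismProperty.map_eq_iff_precomp L W] at h2
    obtain ⟨Z', v', hv, he'⟩ := h2
    refine ⟨Z, Z', φ.f ≫ u', v' ≫ ψ.f, ?_, ?_⟩
    · rw [← Category.assoc, ← he]
      exact W.comp_mem _ _ φ.hs hu
    · rw [Category.assoc, ← he']
      exact W.comp_mem _ _ hv ψ.hs
  · rintro ⟨Z, Z', g, h, hg, hh⟩
    have := Localization.inverts L W _ hg
    have := Localization.inverts L W _ hh
    rw [L.map_comp] at *
    have : IsSplitMono (L.map f) := ⟨⟨⟨L.map g ≫ inv (L.map f ≫ L.map g), by rw [← Category.assoc, IsIso.hom_inv_id]⟩⟩⟩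
    have : Epi (L.map f) := epi_of_epi (L.map h) (L.map f)
    exact isIso_of_epi_of_isSplitMono _

end Groth.Agent.S6435
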