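import Groth.Statements.S6437
import Groth.Agent.Lib.CatLim.Commute


set_option autoImplicit false
open CategoryTheory CategoryTheory.Limits
universe v
open CatLim

namespace Groth.Agent.S6437

/-- Over an index category in which spans can be completed to commutative squares and parallel pairs can
be coequalized (a disjoint union of filtered categories), colimits of sets commute with finite
connected limits. -/
theorem result {I : Type v} [SmallCategory I]
    (h1 : ∀ ⦃w x y : I⦄ (a : w ⟶ x) (b : w ⟶ y), ∃ (z : I) (c : x ⟶ z) (d : y ⟶ z), a ≫ c = b ≫ d)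
    (h2 : ∀ ⦃x y : I⦄ (a b : x ⟶ y), ∃ (z : I) (c : y ⟶ z), a ≫ c = b ≫ c)
    (J : Type) [SmallCategory J] [FinCategory J] [IsConnected J] :
    PreservesLimitsOfShape J (colim : (I ⥤ Type v) ⥤ Type v) := by
  exact ⟨fun {D} => Groth.Agent.Lib.CatLim.Commute.preservesLimit h1 h2 D⟩

end Groth.Agent.S6437
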