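import Groth.Statements.S6438
import Groth.Agent.Lib.CatLim.Bipartite


set_option autoImplicit false
open CategoryTheory
universe v u
open CatLim

namespace Groth.Agent.S6438

/-- A category with finitely many objects whose morphisms are generated under composition by finitely
many of them receives a functor from a finite category which is both final and initial, the finite
category being connected (resp. nonempty) exactly when the given one is. (The published statement
says that limits and colimits of every diagram are computed after restriction along the functor;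
this is expressed here through finality and initiality.) -/
theorem result {I : Type u} [Category.{v} I] [Finite I]
    (gen : Finset (Σ x y : I, x ⟶ y))
    (hgen : ∀ P : MorphismProperty I, P.IsMultiplicative → (∀ a ∈ gen, P a.2.2) → P = ⊤) :
    ∃ (J : Type) (_ : SmallCategory J) (_ : FinCategory J) (F : J ⥤ I),
      F.Final ∧ F.Initial ∧ (IsConnected J ↔ IsConnected I) ∧ (Nonempty J ↔ Nonempty I) := by
  obtain ⟨n, ⟨e₀⟩⟩ := Finite.exists_equiv_fin I
  let e := e₀.symm
  let g : Fin gen.card ≃ {a // a ∈ gen} := gen.equivFin.symm
  let s : Fin gen.card → Fin n := fun k => e.symm (g k).1.1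
  let t : Fin gen.card → Fin n := fun k => e.symm (g k).1.2.1
  let φ : ∀ k, e (s k) ⟶ e (t k) := fun k =>
    eqToHom (e.apply_symm_apply _) ≫ (g k).1.2.2 ≫ eqToHom (e.apply_symm_apply _).symm
  have hg : ∀ P : MorphismProperty I, P.IsMultiplicative → (∀ k, P (φ k)) → P = ⊤ := by
    intro P hP hk
    refine hgen P hP fun a ha => ?_
    obtain ⟨k, hk'⟩ := g.surjective ⟨a, ha⟩
    have h := hk k
    have hid : ∀ {x y : I} (h : x = y), P (eqToHom h) := fun {x y} h => by
      subst h; exact hP.id_mem _
    have heq : (g k).1.2.2 = eqToHom (e.apply_symm_apply (g k).1.1).symm ≫ φ k ≫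
        eqToHom (e.apply_symm_apply (g k).1.2.1) := by simp [φ, s, t]
    have : P (g k).1.2.2 := by
      rw [heq]
      exact hP.comp_mem _ _ (hid _) (hP.comp_mem _ _ h (hid _))
    rw [show a = (g k).1 by rw [hk']]
    exact this
  exact ⟨_, Groth.Agent.Lib.CatLim.Bipartite.category, Groth.Agent.Lib.CatLim.Bipartite.finCategory,
    Groth.Agent.Lib.CatLim.Bipartite.F e φ, Groth.Agent.Lib.CatLim.Bipartite.final e φ hg,
    Groth.Agent.Lib.CatLim.Bipartite.initial e φ hg, Groth.Agent.Lib.CatLim.Bipartite.connected_iff e φ hg,
    Groth.Agent.Lib.CatLim.Bipartite.nonempty_iff e⟩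

end Groth.Agent.S6438
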