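import Groth.Statements.S6439
import Groth.Agent.Lib.Fibred.FpEquiv

set_option autoImplicit false
set_option backward.isDefEq.respectTransparency false
set_option backward.isDefEq.respectTransparency.types false
open CategoryTheory
universe v u
open FibCat

namespace Groth.Agent.S6439

/-- For categories fibred in groupoids over `C` and equivalences `φ : 𝒮₁ ⟶ 𝒮₂`, `ψ : 𝒮₃ ⟶ 𝒮₄` over `C`,
the functor `α ↦ ψ ∘ α ∘ φ` between the categories of functors over `C` is an equivalence of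
categories. -/
theorem result {C : Type u} [Category.{v} C] {𝒮₁ 𝒮₂ 𝒮₃ 𝒮₄ : BasedCategory.{v, max u v} C}
    (h₁ : FibCat.IsFibGrpd 𝒮₁.p) (h₂ : FibCat.IsFibGrpd 𝒮₂.p) (h₃ : FibCat.IsFibGrpd 𝒮₃.p) (h₄ : FibCat.IsFibGrpd 𝒮₄.p)
    (φ : 𝒮₁ ⟶ 𝒮₂) (ψ : 𝒮₃ ⟶ 𝒮₄) (hφ : FibCat.IsEquivOver φ) (hψ : FibCat.IsEquivOver ψ) :
    (Bicategory.precomp 𝒮₃ φ ⋙ Bicategory.postcomp 𝒮₁ ψ).IsEquivalence := by
  obtain ⟨φ', -, ⟨e₁⟩, ⟨e₂⟩⟩ := Groth.Agent.Lib.Fibred.EquivOver.isEquivOver_inverse hφ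
  obtain ⟨ψ', -, ⟨d₁⟩, ⟨d₂⟩⟩ := Groth.Agent.Lib.Fibred.EquivOver.isEquivOver_inverse hψ
  refine (CategoryTheory.Equivalence.mk (Bicategory.precomp 𝒮₃ φ ⋙ Bicategory.postcomp 𝒮₁ ψ)
    (Bicategory.precomp 𝒮₄ φ' ⋙ Bicategory.postcomp 𝒮₂ ψ')
    (NatIso.ofComponents (fun G => (Groth.Agent.Lib.Fibred.FpEquiv.wr e₂ (BasedFunctor.comp G (BasedFunctor.comp ψ ψ')) ≪≫
      Groth.Agent.Lib.Fibred.FpEquiv.wl G d₁).symm) ?_)
    (NatIso.ofComponents (fun G => Groth.Agent.Lib.Fibred.FpEquiv.wr e₁ (BasedFunctor.comp G (BasedFunctor.comp ψ' ψ)) ≪≫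
      Groth.Agent.Lib.Fibred.FpEquiv.wl G d₂) ?_)).isEquivalence_functor
  · intro G H α
    rw [Iso.symm_hom, Iso.symm_hom, Iso.eq_inv_comp, ← Category.assoc, Iso.comp_inv_eq]
    apply BasedNatTrans.homCategory.ext
    apply NatTrans.ext
    funext x
    let p := Groth.Agent.Lib.Fibred.EquivOver.appIso e₂ x
    let d := fun z => Groth.Agent.Lib.Fibred.EquivOver.appIso d₁ z
    change (ψ'.map (ψ.map (G.map p.hom)) ≫ (d (G.obj x)).hom) ≫ α.toNatTrans.app x =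
      ψ'.map (ψ.map (α.toNatTrans.app _)) ≫ ψ'.map (ψ.map (H.map p.hom)) ≫ (d (H.obj x)).hom
    rw [Category.assoc, ← reassoc_of% (show ψ'.map (ψ.map (G.map p.hom)) ≫ ψ'.map (ψ.map (α.toNatTrans.app x)) =
        ψ'.map (ψ.map (α.toNatTrans.app _)) ≫ ψ'.map (ψ.map (H.map p.hom)) by
      simp only [← Functor.map_comp]; exact congrArg _ (congrArg _ (α.toNatTrans.naturality p.hom)))]
    congr 1
    exact (Groth.Agent.Lib.Fibred.EquivOver.appIso_naturality d₁ (α.toNatTrans.app x)).symm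
  · intro G H α
    apply BasedNatTrans.homCategory.ext
    apply NatTrans.ext
    funext x
    let p := Groth.Agent.Lib.Fibred.EquivOver.appIso e₁ x
    let d := fun z => Groth.Agent.Lib.Fibred.EquivOver.appIso d₂ z
    change ψ.map (ψ'.map (α.toNatTrans.app _)) ≫ ψ.map (ψ'.map (H.map p.hom)) ≫ (d (H.obj x)).hom =
      (ψ.map (ψ'.map (G.map p.hom)) ≫ (d (G.obj x)).hom) ≫ α.toNatTrans.app x
    rw [Category.assoc, ← reassoc_of% (show ψ.map (ψ'.map (G.map p.hom)) ≫ ψ.map (ψ'.map (α.toNatTrans.app x)) =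
        ψ.map (ψ'.map (α.toNatTrans.app _)) ≫ ψ.map (ψ'.map (H.map p.hom)) by
      simp only [← Functor.map_comp]; exact congrArg _ (congrArg _ (α.toNatTrans.naturality p.hom)))]
    congr 1
    exact Groth.Agent.Lib.Fibred.EquivOver.appIso_naturality d₂ (α.toNatTrans.app x)

end Groth.Agent.S6439
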