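import Groth.Statements.S6442
import Mathlib

set_option autoImplicit false
open CategoryTheory CategoryTheory.Limits Opposite
universe u
open SiteMisc

namespace Groth.Agent.S6442

/-- An object `U` of a site is weakly contractible, i.e. for every covering sieve `S` the sheafified map
`(∐_{V → U ∈ S} h_V)^# ⟶ h_U^#` has a section, if and only if taking sections over `U` turns
epimorphisms of sheaves of sets into surjections. (Coverings are taken as covering sieves; the
coproduct is formed in presheaves and then sheafified.) -/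
theorem result {C : Type u} [SmallCategory C] (J : GrothendieckTopology C) (U : C) :
    (∀ S : Sieve U, S ∈ J U →
      IsSplitEpi ((presheafToSheaf J (Type u)).map
        (Sigma.desc (fun i : (Σ V : C, {f : V ⟶ U // S f}) => yoneda.map i.2.1) :
          (∐ fun i : (Σ V : C, {f : V ⟶ U // S f}) => yoneda.obj i.1) ⟶ yoneda.obj U))) ↔
    ∀ (F G : Sheaf J (Type u)) (φ : F ⟶ G), Epi φ → Function.Surjective (φ.hom.app (op U)) := by
  classical
  let a := presheafToSheaf J (Type u)
  let adj := sheafificationAdjunction J (Type u)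
  constructor
  · intro h F G φ hφ t
    haveI : Presheaf.IsLocallySurjective J φ.hom := (Sheaf.isLocallySurjective_iff_epi φ).2 hφ
    let S := Presheaf.imageSieve φ.hom t
    haveI := h S (Presheaf.imageSieve_mem J φ.hom t)
    let d : (∐ fun i : (Σ V : C, {f : V ⟶ U // S f}) => yoneda.obj i.1) ⟶ yoneda.obj U :=
      Sigma.desc (fun i : (Σ V : C, {f : V ⟶ U // S f}) => yoneda.map i.2.1)
    let l : (∐ fun i : (Σ V : C, {f : V ⟶ U // S f}) => yoneda.obj i.1) ⟶ F.obj :=
      Sigma.desc fun i => yonedaEquiv.symm (i.2.2.choose)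
    have hl : l ≫ φ.hom = d ≫ yonedaEquiv.symm t := Sigma.hom_ext _ _ fun i => by
      rw [Sigma.ι_desc_assoc, Sigma.ι_desc_assoc]
      apply yonedaEquiv.injective
      rw [← yonedaEquiv_naturality, Equiv.apply_symm_apply, yonedaEquiv_comp, Equiv.apply_symm_apply]
      exact i.2.2.choose_spec
    have he : (adj.homEquiv _ _).symm l ≫ φ = a.map d ≫ (adj.homEquiv _ _).symm (yonedaEquiv.symm t) :=
      (adj.homEquiv_naturality_right_symm l φ).symm.trans
        ((congrArg _ hl).trans (adj.homEquiv_naturality_left_symm d _))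
    let s : a.obj (yoneda.obj U) ⟶ F := section_ (a.map d) ≫ (adj.homEquiv _ _).symm l
    have hs : s ≫ φ = (adj.homEquiv _ _).symm (yonedaEquiv.symm t) := by
      rw [Category.assoc, he, IsSplitEpi.id_assoc]
    refine ⟨yonedaEquiv (adj.homEquiv _ _ s), ?_⟩
    change _ = t
    have h1 : adj.homEquiv _ _ s ≫ φ.hom = yonedaEquiv.symm t := by
      refine (adj.homEquiv_naturality_right s φ).symm.trans ?_
      rw [hs, Equiv.apply_symm_apply]
    exact ((yonedaEquiv_comp _ _).symm.trans (congrArg yonedaEquiv h1)).trans (Equiv.apply_symm_apply _ _)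
  · intro h S hS
    let d : (∐ fun i : (Σ V : C, {f : V ⟶ U // S f}) => yoneda.obj i.1) ⟶ yoneda.obj U :=
      Sigma.desc (fun i : (Σ V : C, {f : V ⟶ U // S f}) => yoneda.map i.2.1)
    haveI : Presheaf.IsLocallySurjective J d := ⟨fun {V} s => by
      refine J.superset_covering (fun W g hg => ?_) (J.pullback_stable s hS)
      refine ⟨(Sigma.ι (fun i : (Σ V : C, {f : V ⟶ U // S f}) => yoneda.obj i.1) ⟨W, g ≫ s, hg⟩).app (op W) (𝟙 W), ?_⟩
      have := ConcreteCategory.congr_hom (NatTrans.congr_app (Sigma.ι_desc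
        (fun i : (Σ V : C, {f : V ⟶ U // S f}) => yoneda.map i.2.1) ⟨W, g ≫ s, hg⟩) (op W)) (𝟙 W)
      refine this.trans ?_
      exact Category.id_comp _⟩
    haveI hd : Epi (a.map d) := (Sheaf.isLocallySurjective_iff_epi _).1
      ((Presheaf.isLocallySurjective_presheafToSheaf_map_iff J d).2 inferInstance)
    obtain ⟨x, hx⟩ := h _ _ (a.map d) hd (yonedaEquiv (adj.homEquiv _ _ (𝟙 (a.obj (yoneda.obj U)))))
    let s : a.obj (yoneda.obj U) ⟶ a.obj _ := (adj.homEquiv _ _).symm (yonedaEquiv.symm x)
    refine IsSplitEpi.mk' ⟨s, (adj.homEquiv _ _).injective ?_⟩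
    rw [adj.homEquiv_naturality_right, Equiv.apply_symm_apply]
    apply yonedaEquiv.injective
    refine (yonedaEquiv_comp _ _).trans ?_
    rw [Equiv.apply_symm_apply]
    exact hx

end Groth.Agent.S6442
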