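import Groth.Statements.S6443
import Groth.Agent.Lib.Fibred.Slice

set_option autoImplicit false
set_option backward.isDefEq.respectTransparency false
set_option backward.isDefEq.respectTransparency.types false
open CategoryTheory
universe v u
open FibCat

namespace Groth.Agent.S6443

/-- If a category `𝒮` fibred in groupoids over `C` is represented by `X` via `j : 𝒮 ⟶ C/X` and by `X'`
via `j' : 𝒮 ⟶ C/X'` (equivalences over `C`), then there is an isomorphism `X' ≅ X` under which `j'`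
becomes 2-isomorphic to `j` over `C`. -/
theorem result {C : Type u} [Category.{v} C] {𝒮 : BasedCategory.{v, max u v} C} (h𝒮 : FibCat.IsFibGrpd 𝒮.p)
    {X X' : C} (j : 𝒮 ⥤ᵇ FibCat.overCat X) (j' : 𝒮 ⥤ᵇ FibCat.overCat X') (hj : FibCat.IsEquivOver j) (hj' : FibCat.IsEquivOver j') :
    ∃ e : X' ≅ X, Nonempty (BasedFunctor.comp j' (⟨Over.map e.hom, Over.mapForget_eq e.hom⟩ : FibCat.overCat X' ⥤ᵇ FibCat.overCat X) ≅ j) := by
  obtain ⟨k, hk, ⟨e₁⟩, -⟩ := Groth.Agent.Lib.Fibred.EquivOver.isEquivOver_inverse hj'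
  obtain ⟨L, -, ⟨e₃⟩, ⟨e₄⟩⟩ := Groth.Agent.Lib.Fibred.EquivOver.isEquivOver_inverse (Groth.Agent.Lib.Fibred.EquivOver.isEquivOver_comp hk hj)
  obtain ⟨φ, ⟨eK⟩⟩ := Groth.Agent.Lib.Fibred.Slice.exists_overFun (BasedFunctor.comp k j)
  obtain ⟨ψ, ⟨eL⟩⟩ := Groth.Agent.Lib.Fibred.Slice.exists_overFun L
  have h₁ : φ ≫ ψ = 𝟙 X' := by
    obtain ⟨c⟩ := Groth.Agent.Lib.Fibred.Slice.overFun_comp φ ψ
    obtain ⟨i⟩ := Groth.Agent.Lib.Fibred.Slice.overFun_id X'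
    exact Groth.Agent.Lib.Fibred.Slice.eq_of_iso (c.symm ≪≫ Groth.Agent.Lib.Fibred.FpEquiv.wr eK.symm _ ≪≫ Groth.Agent.Lib.Fibred.FpEquiv.wl _ eL.symm ≪≫ e₃ ≪≫ i.symm)
  have h₂ : ψ ≫ φ = 𝟙 X := by
    obtain ⟨c⟩ := Groth.Agent.Lib.Fibred.Slice.overFun_comp ψ φ
    obtain ⟨i⟩ := Groth.Agent.Lib.Fibred.Slice.overFun_id X
    exact Groth.Agent.Lib.Fibred.Slice.eq_of_iso (c.symm ≪≫ Groth.Agent.Lib.Fibred.FpEquiv.wr eL.symm _ ≪≫ Groth.Agent.Lib.Fibred.FpEquiv.wl _ eK.symm ≪≫ e₄ ≪≫ i.symm)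
  refine ⟨⟨φ, ψ, h₁, h₂⟩, ⟨?_⟩⟩
  exact Groth.Agent.Lib.Fibred.FpEquiv.wl j' eK.symm ≪≫ Groth.Agent.Lib.Fibred.FpEquiv.wr e₁ j

end Groth.Agent.S6443
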