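import Groth.Statements.S6447

set_option autoImplicit false
set_option backward.isDefEq.respectTransparency false
set_option backward.isDefEq.respectTransparency.types false
open CategoryTheory CategoryTheory.Limits
universe v u
open FibCat

namespace Groth.Agent.S6447

/-- For a 2-fibre product `U = X ×_Y V` of categories, the square formed by `U ⟶ X`, the diagonals `U ⟶
U ×_V U`, `X ⟶ X ×_Y X` and the induced functor `U ×_V U ⟶ X ×_Y X` is 2-cartesian. (The filling
2-isomorphism is the one whose two components at every object are identities; it exists and is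
unique with that property.) -/
theorem result {X Y V : Type u} [Category.{v} X] [Category.{v} Y] [Category.{v} V] (p : X ⥤ Y) (q : V ⥤ Y) :
    ∃ e, (∀ u, (e.hom.app u).fst = 𝟙 _ ∧ (e.hom.app u).snd = 𝟙 _) ∧ FibCat.IsTwoCart
      (CategoricalPullback.π₁ p q)
      ((CategoricalPullback.CatCommSqOver.toFunctorToCategoricalPullback (CategoricalPullback.π₂ p q) (CategoricalPullback.π₂ p q) (CategoricalPullback p q)).obj ⟨𝟭 _, 𝟭 _, Iso.refl _⟩)
      ((CategoricalPullback.CatCommSqOver.toFunctorToCategoricalPullback p p X).obj ⟨𝟭 _, 𝟭 _, Iso.refl _⟩)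
      (FibCat.categoricalPullbackMap (⟨CategoricalPullback.π₁ p q, q, CategoricalPullback.π₁ p q, ⟨(CatCommSq.iso (CategoricalPullback.π₁ p q) (CategoricalPullback.π₂ p q) p q).symm⟩, ⟨(CatCommSq.iso (CategoricalPullback.π₁ p q) (CategoricalPullback.π₂ p q) p q).symm⟩⟩ : CatCospanTransform (CategoricalPullback.π₂ p q) (CategoricalPullback.π₂ p q) p p))
      e := by
  let ψ : CatCospanTransform (CategoricalPullback.π₂ p q) (CategoricalPullback.π₂ p q) p p :=
    ⟨CategoricalPullback.π₁ p q, q, CategoricalPullback.π₁ p q, ⟨(CatCommSq.iso (CategoricalPullback.π₁ p q) (CategoricalPullback.π₂ p q) p q).symm⟩, ⟨(CatCommSq.iso (CategoricalPullback.π₁ p q) (CategoricalPullback.π₂ p q) p q).symm⟩⟩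
  have hiso : ∀ z : CategoricalPullback (CategoricalPullback.π₂ p q) (CategoricalPullback.π₂ p q),
      ((FibCat.categoricalPullbackMap ψ).obj z).iso.hom = z.fst.iso.hom ≫ q.map z.iso.hom ≫ z.snd.iso.inv := by
    intro z
    simp [FibCat.categoricalPullbackMap, ψ]
    rfl
  refine ⟨NatIso.ofComponents (fun u => CategoricalPullback.mkIso (Iso.refl _) (Iso.refl _) (by
      erw [hiso]
      simp
      erw [Functor.map_id, Category.id_comp, Iso.hom_inv_id]
      rfl))
    (fun {u u'} f => by ext <;> simp [FibCat.categoricalPullbackMap]), fun u => ⟨rfl, rfl⟩, ?_⟩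
  refine { faithful := ⟨fun {u u'} {f g} h => ?_⟩, full := ⟨fun {u u'} m => ?_⟩, essSurj := ⟨fun t => ?_⟩ }
  · exact congrArg (fun s => s.snd.fst) h
  · let a : u.fst ⟶ u'.fst := m.fst
    let m₁ : u ⟶ u' := m.snd.fst
    let m₂ : u ⟶ u' := m.snd.snd
    have h₁ : a ≫ 𝟙 _ = 𝟙 _ ≫ m₁.fst := congrArg CategoricalPullback.Hom.fst m.w
    have h₂ : a ≫ 𝟙 _ = 𝟙 _ ≫ m₂.fst := congrArg CategoricalPullback.Hom.snd m.w
    have h₃ : m₁.snd ≫ 𝟙 _ = 𝟙 _ ≫ m₂.snd := m.snd.w
    have e₁ : m₁.fst = a := by simpa using h₁.symm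
    have e₂ : m₂.fst = a := by simpa using h₂.symm
    have e₃ : m₁.snd = m₂.snd := by simpa using h₃
    refine ⟨m₁, CategoricalPullback.hom_ext e₁ (CategoricalPullback.hom_ext rfl ?_)⟩
    exact CategoricalPullback.hom_ext (e₁.trans e₂.symm) e₃
  · let u₁ := t.snd.fst
    let u₂ := t.snd.snd
    let θ : u₁.snd ≅ u₂.snd := t.snd.iso
    let d₁ : t.fst ≅ u₁.fst := (CategoricalPullback.π₁ p p).mapIso t.iso
    let d₂ : t.fst ≅ u₂.fst := (CategoricalPullback.π₂ p p).mapIso t.iso
    have hd : p.map d₁.hom ≫ (u₁.iso.hom ≫ q.map θ.hom ≫ u₂.iso.inv) = 𝟙 _ ≫ p.map d₂.hom :=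
      (congrArg (fun s => p.map d₁.hom ≫ s) (hiso t.snd)).symm.trans t.iso.hom.w
    let k : u₁ ≅ u₂ := CategoricalPullback.mkIso (d₁.symm ≪≫ d₂) θ (by
      rw [Category.id_comp] at hd
      rw [Iso.trans_hom, Functor.map_comp, ← hd]
      simp [← Functor.map_comp_assoc])
    refine ⟨u₁, ⟨CategoricalPullback.mkIso d₁.symm
      (CategoricalPullback.mkIso (Iso.refl u₁) k ?_) ?_⟩⟩
    · simp [k, θ]
      rfl
    · ext
      · change d₁.inv ≫ d₁.hom = 𝟙 _ ≫ 𝟙 _
        simp
      · change d₁.inv ≫ d₂.hom = 𝟙 _ ≫ (d₁.inv ≫ d₂.hom)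
        simp

end Groth.Agent.S6447
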