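import Groth.Statements.S6448
import Mathlib.CategoryTheory.ConnectedComponents


set_option autoImplicit false
open CategoryTheory
universe v u
open CatLim

namespace Groth.Agent.S6448

/-- In a category where spans complete to commutative squares and parallel pairs are coequalized by a
later arrow, every connected component is filtered (so the category is a disjoint union of filtered
categories). -/
theorem result {I : Type u} [Category.{v} I]
    (h1 : ∀ ⦃w x y : I⦄ (a : w ⟶ x) (b : w ⟶ y), ∃ (z : I) (c : x ⟶ z) (d : y ⟶ z), a ≫ c = b ≫ d)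
    (h2 : ∀ ⦃x y : I⦄ (a b : x ⟶ y), ∃ (z : I) (c : y ⟶ z), a ≫ c = b ≫ c)
    (j : ConnectedComponents I) : IsFiltered j.Component := by
  have key : ∀ x y : I, Zigzag x y → ∃ z : I, Nonempty (x ⟶ z) ∧ Nonempty (y ⟶ z) := by
    intro x y hz
    induction hz with
    | refl => exact ⟨x, ⟨𝟙 x⟩, ⟨𝟙 x⟩⟩
    | @tail b c _ hbc ih =>
      obtain ⟨z, ⟨f⟩, ⟨g⟩⟩ := ih
      rcases hbc with ⟨⟨k⟩⟩ | ⟨⟨k⟩⟩
      · obtain ⟨w, a, a', _⟩ := h1 g k
        exact ⟨w, ⟨f ≫ a⟩, ⟨a'⟩⟩
      · exact ⟨z, ⟨f⟩, ⟨k ≫ g⟩⟩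
  have : IsFilteredOrEmpty j.Component :=
    { cocone_objs := by
        rintro ⟨x, hx⟩ ⟨y, hy⟩
        obtain ⟨z, ⟨f⟩, ⟨g⟩⟩ := key x y (Quotient.exact' (hx.trans hy.symm))
        exact ⟨⟨z, (Quotient.sound' (Zigzag.of_inv f)).trans hx⟩, ObjectProperty.homMk f, ObjectProperty.homMk g, trivial⟩
      cocone_maps := by
        intro x y a b
        obtain ⟨z, c, hc⟩ := h2 a.hom b.hom
        exact ⟨⟨z, (Quotient.sound' (Zigzag.of_inv c)).trans y.property⟩, ObjectProperty.homMk c, ObjectProperty.hom_ext _ hc⟩ }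
  exact { }

end Groth.Agent.S6448
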