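import Groth.Statements.S6453
import Groth.Agent.H19.IntMult.RegSeq


set_option autoImplicit false
universe u
open CategoryTheory AlgebraicGeometry
attribute [local instance] HasDerivedCategory.standard
open IntMult

namespace Groth.Agent.S6453

/-- Suppose the ideal of V in O_{X,ξ} is generated by a single nonzerodivisor g (c = 1: V is an
effective Cartier divisor at ξ). Then e(X, V·W, Z) = length_{O_{X,ξ}}(O_{W,ξ}/g O_{W,ξ}), i.e. the
length of O_{X,ξ}/(I_{W,ξ} + (g)). Here X is a nonsingular variety over an algebraically closed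
field K (smooth, separated, quasi-compact, integral), V and W are closed subvarieties given by
quasi-coherent ideal sheaves with integral subschemes, of dimensions r and s with dim X = n,
intersecting properly, and ξ is the generic point of an irreducible component Z of V ∩ W (a point of
V ∩ W maximal under specialization); e(X, V·W, Z) = IntMult.mult is the alternating sum of lengths
of Tor over O_{X,ξ}, and O_{W,ξ} = O_{X,ξ}/I_{W,ξ}. -/
theorem result (K : Type u) [Field K] [IsAlgClosed K] (X : Scheme.{u}) (f : X ⟶ Spec (CommRingCat.of K)) [Smooth f] [IsSeparated f] [QuasiCompact f] [IsIntegral X] (IV IW : X.IdealSheafData) [IsIntegral IV.subscheme] [IsIntegral IW.subscheme] (n r s : ℕ) (hn : topologicalKrullDim X = n) (hr : topologicalKrullDim IV.support = r) (hs : topologicalKrullDim IW.support = s) (hprop : IntMult.ProperInt (IV.support : Set X) (IW.support : Set X) n r s) (ξ : X) (hξV : ξ ∈ IV.support) (hξW : ξ ∈ IW.support) (hmax : ∀ ξ' : X, ξ' ∈ IV.support → ξ' ∈ IW.support → ξ' ⤳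 ξ → ξ' = ξ) (g : ↑(X.presheaf.stalk ξ)) (hg : IntMult.stalkIdeal IV ξ = Ideal.span {g}) (hreg : IsSMulRegular (↑(X.presheaf.stalk ξ)) g) : (IntMult.mult IV IW ξ : ℤ) = (Module.length (X.presheaf.stalk ξ) (↑(X.presheaf.stalk ξ) ⧸ (IntMult.stalkIdeal IW ξ ⊔ Ideal.span {g}))).toNat := by
  obtain ⟨_, hP, hQ, hfin, d, a, b, hd, ha, hb, hle⟩ :=
    Groth.Agent.H19.IntMult.Dims.dims f IV IW n r s hn hr hs hprop ξ hξV hξW hmax
  have hr1 : Set.range ![g] = {g} := by simp
  have hg' : IntMult.stalkIdeal IV ξ = Ideal.span (Set.range ![g]) := by rw [hr1]; exact hg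
  rw [hg'] at hfin
  rw [ringKrullDim_eq_of_ringEquiv (Ideal.quotEquivOfEq hg')] at ha
  have hl : List.ofFn ![g] = [g] := by simp
  have hgm : g ∈ IsLocalRing.maximalIdeal (X.presheaf.stalk ξ) :=
    IsLocalRing.le_maximalIdeal hP.ne_top (hg ▸ Ideal.mem_span_singleton_self g)
  have hreg' : RingTheory.Sequence.IsRegular (X.presheaf.stalk ξ) (List.ofFn ![g]) := by
    rw [hl]
    refine ⟨(RingTheory.Sequence.isWeaklyRegular_cons_iff _ _ _).mpr
      ⟨hreg, RingTheory.Sequence.IsWeaklyRegular.nil _ _⟩, fun h => ?_⟩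
    rw [Ideal.smul_eq_mul, Ideal.mul_top, Ideal.ofList_singleton] at h
    exact hP.ne_top (hg.trans h.symm)
  have hbc := Groth.Agent.H19.IntMult.RegSeq.b_eq ![g] hreg' (IntMult.stalkIdeal IW ξ) hfin hd ha hb hle
  have hgQ : g ∉ IntMult.stalkIdeal IW ξ := fun hmem => by
    haveI := hQ
    have hQm := hfin _ hQ (by rw [hr1, Ideal.span_le, Set.singleton_subset_iff]; exact hmem) le_rfl
    rw [ringKrullDim_eq_of_ringEquiv (Ideal.quotEquivOfEq hQm),
      show ringKrullDim (X.presheaf.stalk ξ ⧸ IsLocalRing.maximalIdeal (X.presheaf.stalk ξ)) = 0 from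
        ringKrullDim_eq_zero_of_isField (((Ideal.Quotient.maximal_ideal_iff_isField_quotient _).mp (IsLocalRing.maximalIdeal.isMaximal _)))] at hb
    have hb0 : (0 : ℕ) = b := by exact_mod_cast hb
    omega
  rw [IntMult.mult, hg', ← hr1]
  refine Groth.Agent.H19.IntMult.RegSeq.chi_eq_length_of_regular ![g] hreg' _ ?_
  rw [hl]
  refine (RingTheory.Sequence.isWeaklyRegular_cons_iff _ _ _).mpr
    ⟨isSMulRegular_iff_right_eq_zero_of_smul.mpr fun x hx => ?_, RingTheory.Sequence.IsWeaklyRegular.nil _ _⟩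
  haveI := hQ
  rw [Algebra.smul_def, mul_eq_zero] at hx
  exact hx.resolve_left fun h0 => hgQ (Ideal.Quotient.eq_zero_iff_mem.mp h0)


end Groth.Agent.S6453
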