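import Groth.Statements.S6458
import Groth.Agent.Lib.Cyc.DimFun
import Mathlib.RingTheory.Ideal.KrullsHeightTheorem
import Mathlib.AlgebraicGeometry.FunctionField

set_option autoImplicit false
universe u
open CategoryTheory AlgebraicGeometry
open Cyc

namespace Groth.Agent.S6458

/-- Let X be integral with generic point η and ξ the generic point of an irreducible component of an
effective Cartier divisor on X; locally: g ∈ 𝔪_ξ ⊂ O_{X,ξ} is nonzero and O_{X,ξ}/(g) is
zero-dimensional. Then dim_δ of the closure of ξ is dim_δ(X) − 1, i.e. δ(ξ) = δ(η) − 1. Here a pair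
(X, δ) with Cyc.IsSetup plays the role of a scheme locally of finite type over the base (S, δ) (X
locally Noetherian with universally catenary local rings, δ a dimension function). -/
theorem result (X : Scheme.{u}) [IsIntegral X] (δ : X → ℤ) (hX : Cyc.IsSetup X δ) (ξ : X) (g : ↑(X.presheaf.stalk ξ)) (hg0 : g ≠ 0) (hgm : g ∈ IsLocalRing.maximalIdeal (X.presheaf.stalk ξ)) (hdim : ringKrullDim (↑(X.presheaf.stalk ξ) ⧸ Ideal.span {g}) = 0) : δ ξ = δ (genericPoint X) - 1 := by
  have hnoeth := hX.1
  have h := Groth.Agent.Lib.Cyc.DimFun.ringKrullDim_stalk hX.2.2 ξ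
  have h2 := Groth.Agent.Lib.Cyc.DimFun.le_of_specializes hX.2.2 (genericPoint_specializes ξ)
  let R := X.presheaf.stalk ξ
  have hmin : IsLocalRing.maximalIdeal R ∈ (Ideal.span {g}).minimalPrimes := by
    refine ⟨⟨inferInstance, (Ideal.span_singleton_le_iff_mem _).mpr hgm⟩, fun q hq _ => ?_⟩
    have := hq.1
    rw [ringKrullDim_quotient] at hdim
    have hle : (⟨q, hq.1⟩ : PrimeSpectrum R) ≤ IsLocalRing.closedPoint R :=
      IsLocalRing.le_maximalIdeal hq.1.ne_top
    exact (Order.krullDim_nonpos_iff_forall_isMax.mp hdim.le) ⟨⟨q, hq.1⟩, hq.2⟩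
      (b := ⟨IsLocalRing.closedPoint R, (Ideal.span_singleton_le_iff_mem _).mpr hgm⟩) hle
  have h3 := Ideal.height_le_one_of_isPrincipal_of_mem_minimalPrimes _ _ hmin
  have hle1 : ringKrullDim R ≤ 1 := by
    rw [← IsLocalRing.maximalIdeal_height_eq_ringKrullDim]
    exact_mod_cast h3
  have h0 : ringKrullDim R ≠ 0 := by
    intro h0
    have : IsDomain R := inferInstanceAs (IsDomain (X.presheaf.stalk ξ))
    have hF : IsField R := by
      have : Ring.KrullDimLE 0 R := Ring.krullDimLE_iff.mpr (by exact_mod_cast h0.le)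
      exact Ring.KrullDimLE.isField_of_isDomain
    exact hg0 (by
      have := IsLocalRing.isField_iff_maximalIdeal_eq.mp hF
      rw [this] at hgm
      exact hgm)
  rw [h] at hle1 h0
  have a : (δ (genericPoint X) - δ ξ).toNat ≤ 1 := by exact_mod_cast hle1
  have b : (δ (genericPoint X) - δ ξ).toNat ≠ 0 := fun e => h0 (by exact_mod_cast e)
  omega

end Groth.Agent.S6458
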