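import Groth.Statements.S6460
import Groth.Agent.Lib.Cyc.DimFun

set_option autoImplicit false
universe u
open CategoryTheory AlgebraicGeometry
open Cyc

namespace Groth.Agent.S6460

/-- (3) ⇒ (1): suppose that for every x ∈ X there is an integer n_x with δ(ξ) = n_x for every generic
point ξ of an irreducible component of X containing x. Then X decomposes into open and closed
subschemes X_n (n ∈ ℤ) such that every irreducible component of X_n has δ-dimension n; stated as the
existence of a locally constant c : X → ℤ with δ(ξ) = c(ξ) for every point ξ that is maximal under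
specialization. (The converse implications are immediate and not stated.) Here a pair (X, δ) with
Cyc.IsSetup plays the role of a scheme locally of finite type over the base (S, δ) (X locally
Noetherian with universally catenary local rings, δ a dimension function). -/
theorem result (X : Scheme.{u}) (δ : X → ℤ) (hX : Cyc.IsSetup X δ) (h3 : ∀ x : X, ∃ n : ℤ, ∀ ξ : X, (∀ ξ' : X, ξ' ⤳ ξ → ξ' = ξ) → ξ ⤳ x → δ ξ = n) : ∃ c : X → ℤ, IsLocallyConstant c ∧ ∀ ξ : X, (∀ ξ' : X, ξ' ⤳ ξ → ξ' = ξ) → δ ξ = c ξ := by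
  have := hX.1
  choose n hn using h3
  refine ⟨n, ?_, fun ξ hξ => hn ξ ξ hξ specializes_rfl⟩
  refine IsLocallyConstant.iff_exists_open _ |>.mpr fun x => ?_
  obtain ⟨V, hV, hxV, hfin⟩ :=
    Groth.Agent.Lib.Cyc.DimFun.exists_open_finite_maxPts (X := X) isClosed_univ x
  let B : Set X := ⋃ η ∈ {η | η ∈ V ∧ (∀ y, y ⤳ η → y = η) ∧ ¬ η ⤳ x}, closure {η}
  have hB : IsClosed B := Set.Finite.isClosed_biUnion
    (hfin.subset fun η hη => ⟨hη.1, trivial, fun y _ => hη.2.1 y⟩) fun η _ => isClosed_closure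
  refine ⟨V ∩ Bᶜ, hV.inter hB.isOpen_compl, ⟨hxV, ?_⟩, ?_⟩
  · simp only [B, Set.mem_compl_iff, Set.mem_iUnion, not_exists]
    exact fun η hη hc => hη.2.2 (specializes_iff_mem_closure.mpr hc)
  rintro z ⟨hzV, hzB⟩
  obtain ⟨ξ, hξz, hξ⟩ := Groth.Agent.Lib.Cyc.DimFun.exists_isMaxPt_specializes z
  have hξx : ξ ⤳ x := by
    by_contra hc
    exact hzB (Set.mem_biUnion (⟨hξz.mem_open hV hzV, hξ, hc⟩ : ξ ∈ {η | η ∈ V ∧
      (∀ y, y ⤳ η → y = η) ∧ ¬ η ⤳ x}) (specializes_iff_mem_closure.mp hξz))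
  rw [← hn z ξ hξ hξz, hn x ξ hξ hξx]

end Groth.Agent.S6460
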