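import Groth.Statements.S6461
import Groth.Agent.Lib.Cyc.DimFun
import Groth.Agent.Lib.Depth.CM
import Mathlib.RingTheory.Ideal.AssociatedPrime.Localization

set_option autoImplicit false
universe u
open CategoryTheory AlgebraicGeometry
open Cyc

namespace Groth.Agent.S6461

/-- If all local rings of X are Cohen–Macaulay then every x ∈ X has an open neighbourhood U and an
integer n with δ(ξ) = n for every generic point ξ of an irreducible component of U (every point of U
maximal under specialization). Here a pair (X, δ) with Cyc.IsSetup plays the role of a scheme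
locally of finite type over the base (S, δ) (X locally Noetherian with universally catenary local
rings, δ a dimension function). -/
theorem result (X : Scheme.{u}) (δ : X → ℤ) (hX : Cyc.IsSetup X δ) (hCM : ∀ x : X, LocCoh.IsCohenMacaulayLocalRing ↑(X.presheaf.stalk x)) (x : X) : ∃ (U : X.Opens) (n : ℤ), x ∈ U ∧ ∀ ξ : X, ξ ∈ U → (∀ ξ' : X, ξ' ⤳ ξ → ξ' = ξ) → δ ξ = n := by
  classical
  have := hX.1
  have hδ := hX.2.2
  obtain ⟨V, hV, hxV, hfin⟩ := Lib.Cyc.DimFun.exists_open_finite_maxPts (X := X) isClosed_univ x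
  let S : Set X := (V ∩ {z ∈ (Set.univ : Set X) | ∀ y ∈ (Set.univ : Set X), y ⤳ z → y = z}) ∩ {z | ¬ z ⤳ x}
  have hS : S.Finite := hfin.subset Set.inter_subset_left
  have hC : IsClosed (⋃ z ∈ S, closure ({z} : Set X)) :=
    hS.isClosed_biUnion fun _ _ => isClosed_closure
  let R := X.presheaf.stalk x
  have hR : LocCoh.IsCohenMacaulayLocalRing R := hCM x
  obtain ⟨d, hd⟩ := Lib.Depth.CM.supportDim_eq_nat (R := R) R
  refine ⟨⟨V ∩ (⋃ z ∈ S, closure ({z} : Set X))ᶜ, hV.inter hC.isOpen_compl⟩, δ x + d,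
    ⟨hxV, ?_⟩, ?_⟩
  · intro h
    obtain ⟨z, hz, hzx⟩ := Set.mem_iUnion₂.mp h
    exact hz.2 (specializes_iff_mem_closure.mpr hzx)
  rintro ξ ⟨hξV, hξ⟩ hmax
  have hξx : ξ ⤳ x := by
    by_contra h
    exact hξ (Set.mem_iUnion₂.mpr ⟨ξ, ⟨⟨hξV, trivial, fun y _ hy => hmax y hy⟩, h⟩, subset_closure rfl⟩)
  let P := Lib.Cyc.DimFun.genPrime x ξ hξx
  have hmin : P.asIdeal ∈ (Module.annihilator R R).minimalPrimes := by
    rw [(Module.annihilator_eq_bot).mpr (inferInstance : FaithfulSMul R R)]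
    refine ⟨⟨P.isPrime, bot_le⟩, fun Q hQ hle => ?_⟩
    have hQ' : (⟨Q, hQ.1⟩ : PrimeSpectrum R) ≤ P := hle
    have h1 := (Lib.Cyc.DimFun.fromSpecStalk_specializes_iff x _ _).mpr hQ'
    rw [Lib.Cyc.DimFun.fromSpecStalk_genPrime] at h1
    have h2 : (⟨Q, hQ.1⟩ : PrimeSpectrum R) = P :=
      Lib.Cyc.DimFun.fromSpecStalk_injective x
        ((hmax _ h1).trans (Lib.Cyc.DimFun.fromSpecStalk_genPrime x ξ hξx).symm)
    exact (congrArg PrimeSpectrum.asIdeal h2).ge
  have hass := Module.associatedPrimes.minimalPrimes_annihilator_subset_associatedPrimes R R hmin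
  have h := Lib.Depth.CM.ringKrullDim_quotient_eq Lib.Depth.CM.isCohenMacaulayModule_self hass
  rw [hd] at h
  have h' : ringKrullDim (Cyc.LocQuot x ξ hξx) = ((d : ℕ∞) : WithBot ℕ∞) := h
  rw [Lib.Cyc.DimFun.ringKrullDim_locQuot hδ x ξ hξx] at h'
  have e : (δ ξ - δ x).toNat = d := by exact_mod_cast h'
  have := Lib.Cyc.DimFun.le_of_specializes hδ hξx
  omega

end Groth.Agent.S6461
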