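import Groth.Statements.S6463
import Groth.Agent.H2.Rigid.PushFlat
import Groth.Agent.H2.Rigid.Smooth
import Groth.Agent.Lib.GrpSch.ConnFibre

set_option autoImplicit false
universe u
open CategoryTheory CategoryTheory.Limits AlgebraicGeometry
open PicF

namespace Groth.Agent.S6463

/-- For a field k and a smooth projective curve X over k that has a k-rational point σ, the conditions
under which the Picard functor is computed through the section are met: f : X → Spec k is flat,
proper and of finite presentation with a section, and O_T → f_{T,*} O_{X_T} is an isomorphism for
every scheme T over k. Only the last assertion is stated (the others are part of the hypotheses or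
immediate): for every t : T → Spec k, the sheaf map of the base change X ×_k T → T is an
isomorphism. Proper replaces projective (they agree for curves over a field). -/
theorem result (k : Type u) [Field k] (X : Scheme.{u}) (f : X ⟶ Spec (CommRingCat.of k)) (hX : Curve.IsSmoothProperCurve k X f) (σ : Spec (CommRingCat.of k) ⟶ X) (hσ : σ ≫ f = 𝟙 (Spec (CommRingCat.of k))) (T : Scheme.{u}) (t : T ⟶ Spec (CommRingCat.of k)) : IsIso (pullback.snd f t).c := by
  obtain ⟨hp, hs, hi, -⟩ := hX
  haveI := hp; haveI := hs; haveI := hi
  haveI : GeometricallyReduced f := Groth.Agent.H2.Rigid.geometricallyReduced_of_smooth f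
  haveI : ConnectedSpace X := inferInstance
  haveI : GeometricallyConnected f := Groth.Agent.Lib.GrpSch.geometricallyConnected_of_rationalPoint f σ hσ
  have h := Groth.Agent.H2.Rigid.PushFlat.push_of_flat_fp (pullback.snd f t)
    (Groth.Agent.H2.Rigid.H0.of_geometrically (pullback.snd f t))
  haveI : ∀ U, IsIso ((pullback.snd f t).c.app U) := fun U =>
    (ConcreteCategory.isIso_iff_bijective _).2 (h U.unop)
  exact NatIso.isIso_of_isIso_app _

end Groth.Agent.S6463
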