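import Groth.Statements.S6468
import Groth.Agent.Lib.Cyc.Retr.Main
import Groth.Agent.Lib.Cyc.K0.Sum

set_option autoImplicit false
universe u
open CategoryTheory AlgebraicGeometry
open Cyc

namespace Groth.Agent.S6468

/-- The map CH_k(X) → K_0(Coh_{≤k+1}(X)/Coh_{≤k−1}(X)) is a bijection onto its image B_k(X); the content
beyond well-definedness is: if a k-cycle α = Σ n_Z [Z] has [⊕_{n_Z>0} O_Z^{n_Z}] = [⊕_{n_Z<0}
O_Z^{−n_Z}] in K_0(Coh_{≤k+1}(X)/Coh_{≤k−1}(X)) then α ∼_rat 0. K_0 of the Serre quotient is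
modelled as K_0(Coh_{≤k+1}) modulo the classes of Coh_{≤k−1} (Cyc.K0CohQuot), O_Z is the
pushed-forward structure sheaf of the reduced closure of the generic point (Cyc.cycleSheafPos/Neg).
Here a pair (X, δ) with Cyc.IsSetup plays the role of a scheme locally of finite type over the base
(S, δ) (X locally Noetherian with universally catenary local rings, δ a dimension function). -/
theorem result (X : Scheme.{u}) (δ : X → ℤ) (hX : Cyc.IsSetup X δ) (k : ℤ) (α : AlgebraicCycle X ℤ) (hα : α ∈ Cyc.Zk X δ k) (h : Cyc.toK0CohQuot δ (k + 1) (k - 1) (Cyc.cycleSheafPos ⇑α) = Cyc.toK0CohQuot δ (k + 1) (k - 1) (Cyc.cycleSheafNeg ⇑α)) : Cyc.RatEquivZero δ k α := by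
  haveI := hX.1

  have hfin : ∀ a : X → ℤ, (∀ x, a x ≠ 0 → α x ≠ 0) →
      ∀ x : X, ∃ U : X.Opens, x ∈ U ∧ ((U : Set X) ∩ a.support).Finite := by
    intro a ha x
    obtain ⟨t, ht, hfin⟩ := α.supportLocallyFiniteWithinDomain' x (Set.mem_univ x)
    obtain ⟨V, hVt, hV, hxV⟩ := mem_nhds_iff.mp ht
    exact ⟨⟨V, hV⟩, hxV, hfin.subset fun y hy => ⟨hVt hy.1, ha y hy.2⟩⟩
  have hk : ∀ x, α x ≠ 0 → δ x = k := fun x hx => by
    by_contra hne; exact hx (hα x hne)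
  have hsp : ∀ a : X → ℤ, (∀ x, a x ≠ 0 → α x ≠ 0) →
      Cyc.CohLe δ k (Cyc.cycleSheafPos a) ∧ ∀ x, Cyc.sheafFun δ k (Cyc.cycleSheafPos a) x = max (a x) 0 := by
    intro a ha
    obtain ⟨h1, h2⟩ := Groth.Agent.Lib.Cyc.K0.Sum.cycleSheaf_spec hX.2.2 k a
      (fun x hx => hk x (ha x hx)) (hfin a ha)
    refine ⟨h1, fun x => ?_⟩
    simp only [Cyc.sheafFun]
    split_ifs with hx
    · rw [(h2 x hx).1]; simp
    · have : a x = 0 := by
        by_contra hne; exact hx (hk x (ha x hne))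
      simp [this]
  obtain ⟨hP, hPf⟩ := hsp ⇑α fun x hx => hx
  obtain ⟨hN, hNf⟩ := hsp (-⇑α) fun x hx => by simpa using hx
  let mkc : (Q : X.Modules) → (∀ x, Cyc.sheafFun δ k Q x ≠ 0 → α x ≠ 0) → AlgebraicCycle X ℤ :=
    fun Q hQ =>
    { toFun := Cyc.sheafFun δ k Q
      supportWithinDomain' := Set.subset_univ _
      supportLocallyFiniteWithinDomain' := fun z hz => by
        obtain ⟨t, ht, hf⟩ := α.supportLocallyFiniteWithinDomain' z hz
        exact ⟨t, ht, hf.subset fun y hy => ⟨hy.1, hQ y hy.2⟩⟩ }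
  let γP := mkc (Cyc.cycleSheafPos ⇑α) fun x hx h0 => hx (by rw [hPf, h0]; rfl)
  let γN := mkc (Cyc.cycleSheafPos (-⇑α)) fun x hx h0 => hx (by rw [hNf, Pi.neg_apply, h0]; rfl)
  have := Groth.Agent.Lib.Cyc.Retr.Main.ratEquiv_of_cl_eq hX.2.2 hP hN h γP γN rfl rfl
  have e : γP - γN = α := by
    refine Function.locallyFinsuppWithin.ext fun x => ?_
    rw [Function.locallyFinsuppWithin.coe_sub, Pi.sub_apply]
    show Cyc.sheafFun δ k (Cyc.cycleSheafPos ⇑α) x - Cyc.sheafFun δ k (Cyc.cycleSheafPos (-⇑α)) x = α x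
    rw [hPf, hNf, Pi.neg_apply]
    omega
  rwa [Cyc.RatEquiv, e] at this

end Groth.Agent.S6468
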