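import Groth.Statements.S6473
import Groth.Agent.H75.VarDimX.Basic

set_option autoImplicit false
universe u
open CategoryTheory CategoryTheory.Limits AlgebraicGeometry
open IntMult

namespace Groth.Agent.S6473

open Groth.Agent.H75 Groth.Agent.Lib.VarDim.Basic


/-- Let f : X → Y be a morphism of varieties over K which is a regular immersion of codimension c, and Z
⊂ Y a closed subvariety of dimension d. Then each irreducible component T of f⁻¹(Z) = X ×_Y Z
satisfies dim T ≥ d − c; stated as d ≤ dim T + c. Varieties: integral, separated, of finite type
over the algebraically closed field K. (The published statement takes f to be a closed immersion,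
regular immersions being closed there; this row allows any immersion cut out, locally on Y where it
is closed, by a regular sequence of length c, the bound being local on Y. The published statement
also has a second part, for local complete intersection morphisms of a given relative dimension,
which this row does not state.) -/
theorem result (K : Type u) [Field K] [IsAlgClosed K] (X Y Z : Scheme.{u}) (gX : X ⟶ Spec (CommRingCat.of K)) (gY : Y ⟶ Spec (CommRingCat.of K)) [IsSeparated gX] [LocallyOfFiniteType gX] [QuasiCompact gX] [IsIntegral X] [IsSeparated gY] [LocallyOfFiniteType gY] [QuasiCompact gY] [IsIntegral Y] (f : X ⟶ Y) (hf : f ≫ gY = gX) (c : ℕ) (hreg : RegImm.IsRegularImmersionOfCodim RegImm.Kind.regular c f) (ι : Z ⟶ Y) [IsClosedImmersion ι] [IsIntegral Z] (d : ℕ) (hd : topologicalKrullDim Z = d) (T : Set ↥(pullback f ι)) (hT : T ∈ irreducibleComponents ↥(pullback f ι)) : ((d : ℕ) : WithBot ℕ∞) ≤ topologicalKrullDim ↥T + c := by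
  haveI : IsImmersion f := hreg.1
  haveI : LocallyOfFiniteType (ι ≫ gY) := inferInstance
  let qC := ι ≫ gY
  let S : Set Z := ι.base ⁻¹' Set.range f.base
  have hS : IsLocallyClosed S := (Scheme.Hom.isLocallyClosed_range f).preimage ι.continuous
  have hr : Set.range (pullback.snd f ι).base = S := Scheme.Pullback.range_snd f ι
  let e : ↥(pullback f ι) ≃ₜ ↥S :=
    (pullback.snd f ι).isEmbedding.toHomeomorph.trans (Homeomorph.setCongr hr)
  have hQ : e '' T ∈ irreducibleComponents ↥S := by
    exact image_mem_irreducibleComponents_of_isPreirreducible_fiber e e.continuous e.isOpenMap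
      (fun _ => (Set.subsingleton_singleton.preimage e.injective).isPreirreducible) e.surjective hT
  obtain ⟨ζ, hζ, hmax, -, hdim⟩ := VarDimX.exists_component qC hS hQ
  have hTQ : topologicalKrullDim ↥T = topologicalKrullDim ↥(e '' T) :=
    IsHomeomorph.topologicalKrullDim_eq _ (e.image T).isHomeomorph
  have hξ : (pdim qC (genericPoint Z) : WithBot ℕ∞) = d :=
    (topologicalKrullDim_irreducibleSpace qC).symm.trans hd
  rw [hTQ, hdim, ← hξ]
  exact_mod_cast VarDimX.pdim_le_add_of_maximal qC ι f hreg (genericPoint_specializes ζ) hζ
    (fun z _ hz hzr => hmax z hzr hz)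


end Groth.Agent.S6473
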