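import Groth.Statements.S6476
import Groth.Agent.Lib.CycAlg.Endo
import Groth.Agent.Lib.CycAlg.Per

set_option autoImplicit false
universe u v
open CycAlg

namespace Groth.Agent.S6476

/-- Let A be a Noetherian local ring, M a finite A-module of dimension 1, and φ, ψ : M → M injective
with φ(ψ(M)) = ψ(φ(M)) (e.g. φ, ψ commute). Then length_A(M/φψM) is finite and (M/φψM, φ, ψ) is an
exact (2, 1)-periodic complex; here φ', ψ' denote the endomorphisms of M/φψM induced by φ and ψ, and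
exactness says both cohomology modules (CycAlg.perH) are trivial. -/
theorem result {A : Type u} [CommRing A] [IsNoetherianRing A] [IsLocalRing A] {M : Type v} [AddCommGroup M] [Module A M] [Module.Finite A M] (hdim : Module.supportDim A M = 1) (φ ψ : M →ₗ[A] M) (hφ : Function.Injective φ) (hψ : Function.Injective ψ) (hcomm : Submodule.map φ (LinearMap.range ψ) = Submodule.map ψ (LinearMap.range φ)) (φ' ψ' : (M ⧸ LinearMap.range (φ ∘ₗ ψ)) →ₗ[A] (M ⧸ LinearMap.range (φ ∘ₗ ψ))) (hφ' : φ' ∘ₗ (LinearMap.range (φ ∘ₗ ψ)).mkQ = (LinearMap.range (φ ∘ₗ ψ)).mkQ ∘ₗ φ) (hψ' : ψ' ∘ₗ (LinearMap.range (φ ∘ₗ ψ)).mkQ = (LinearMap.range (φ ∘ₗ ψ)).mkQ ∘ₗ ψ) : Module.length A (M ⧸ LinearMap.range (φ ∘ₗ ψ)) < ⊤ ∧ CycAlg.IsPeriodic φ' ψ' ∧ Subsingleton (CycAlg.perH φ' ψ') ∧ Subsingleton (CycAlg.perH ψ' φ') := by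
  have hlen := Groth.Agent.Lib.CycAlg.Endo.length_coker_lt_top hdim.le (φ ∘ₗ ψ)
    (by simpa using hφ.comp hψ)
  have eφ : ∀ z, φ' (Submodule.Quotient.mk z) = Submodule.Quotient.mk (φ z) :=
    LinearMap.congr_fun hφ'
  have eψ : ∀ z, ψ' (Submodule.Quotient.mk z) = Submodule.Quotient.mk (ψ z) :=
    LinearMap.congr_fun hψ'
  have hswap : ∀ y, ∃ y', φ (ψ y') = ψ (φ y) := fun y => by
    obtain ⟨_, ⟨y', rfl⟩, h⟩ := hcomm.ge ⟨φ y, ⟨y, rfl⟩, rfl⟩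
    exact ⟨y', h⟩
  have hswap' : ∀ y, ∃ y', ψ (φ y') = φ (ψ y) := fun y => by
    obtain ⟨_, ⟨y', rfl⟩, h⟩ := hcomm.le ⟨ψ y, ⟨y, rfl⟩, rfl⟩
    exact ⟨y', h⟩
  refine ⟨hlen, ⟨?_, ?_⟩, ⟨fun a b => ?_⟩, ⟨fun a b => ?_⟩⟩
  · refine LinearMap.ext fun z => ?_
    obtain ⟨z, rfl⟩ := Submodule.Quotient.mk_surjective _ z
    rw [LinearMap.comp_apply, eψ, eφ]
    exact (Submodule.Quotient.mk_eq_zero _).2 ⟨z, rfl⟩
  · refine LinearMap.ext fun z => ?_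
    obtain ⟨z, rfl⟩ := Submodule.Quotient.mk_surjective _ z
    rw [LinearMap.comp_apply, eφ, eψ]
    exact (Submodule.Quotient.mk_eq_zero _).2 (hswap z)
  · suffices h : ∀ c : CycAlg.perH φ' ψ', c = 0 by rw [h a, h b]
    intro c
    obtain ⟨⟨z, hz⟩, rfl⟩ := Groth.Agent.Lib.CycAlg.Per.cls_surjective c
    obtain ⟨z, rfl⟩ := Submodule.Quotient.mk_surjective _ z
    rw [LinearMap.mem_ker, eφ] at hz
    obtain ⟨y, hy⟩ := (Submodule.Quotient.mk_eq_zero _).1 hz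
    exact (Groth.Agent.Lib.CycAlg.Per.cls_eq_zero _).2
      ⟨Submodule.Quotient.mk y, (eψ y).trans (congrArg _ (hφ hy))⟩
  · suffices h : ∀ c : CycAlg.perH ψ' φ', c = 0 by rw [h a, h b]
    intro c
    obtain ⟨⟨z, hz⟩, rfl⟩ := Groth.Agent.Lib.CycAlg.Per.cls_surjective c
    obtain ⟨z, rfl⟩ := Submodule.Quotient.mk_surjective _ z
    rw [LinearMap.mem_ker, eψ] at hz
    obtain ⟨y, hy⟩ := (Submodule.Quotient.mk_eq_zero _).1 hz
    obtain ⟨y', hy'⟩ := hswap' y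
    exact (Groth.Agent.Lib.CycAlg.Per.cls_eq_zero _).2
      ⟨Submodule.Quotient.mk y', (eφ y').trans (congrArg _ (hψ (hy'.trans hy)))⟩

end Groth.Agent.S6476
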