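import Groth.Statements.S6480
import Groth.Agent.Lib.CycAlg.OrdSum

set_option autoImplicit false
universe u
open CycAlg
open Pointwise

namespace Groth.Agent.S6480

/-- Let A be a Noetherian local ring of dimension 1, a, b ∈ A nonzerodivisors, A without embedded
primes, M a finite A-module without embedded associated primes and with Supp(M) = Spec(A). Put I =
{x ∈ A | x·(a/b) ∈ A}, and write 𝔮_1, …, 𝔮_t for the minimal prime ideals of A. The conclusion is
that M contains (a/b)IM, and that the difference length_A(M/(a/b)IM) minus length_A(M/IM) equals the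
sum over i of length_{A_{𝔮_i}}(M_{𝔮_i}) multiplied by ord_{A/𝔮_i}(a/b). Encoding: I is the ideal
quotient (bA : aA); '(a/b)IM ⊂ M' is aIM ⊆ bM; (a/b)IM is the submodule of m with bm ∈ aIM (b acts
injectively on M); ord_{A/𝔮}(a/b) is CycAlg.ordFrac on κ(𝔮) = Frac(A/𝔮); lengths are truncated to ℕ
(they are finite here). -/
theorem result {A : Type u} [CommRing A] [IsNoetherianRing A] [IsLocalRing A] (hA : ringKrullDim A = 1) {M : Type u} [AddCommGroup M] [Module A M] [Module.Finite A M] (a b : A) (ha : a ∈ nonZeroDivisors A) (hb : b ∈ nonZeroDivisors A) (hAemb : ∀ p ∈ associatedPrimes A A, p ∈ minimalPrimes A) (hMemb : ∀ p ∈ associatedPrimes A M, p ∈ minimalPrimes A) (hsupp : Module.support A M = Set.univ) (I : Ideal A) (hI : I = (Ideal.span {b}).colon (Ideal.span {a})) (P : Submodule A M) (hP : P = Submodule.comap (LinearMap.lsmul A M b) ((Ideal.span {a} * I) • (⊤ : Submodule A M))) : (Ideal.span {a} * I) • (⊤ : Submodule A M) ≤ LinearMap.range (LinearMap.lsmul A M b) ∧ ((Module.length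 A (M ⧸ P)).toNat : ℤ) - ((Module.length A (M ⧸ I • (⊤ : Submodule A M))).toNat : ℤ) = ∑ᶠ (q : PrimeSpectrum A) (_ : q.asIdeal ∈ minimalPrimes A), ((Module.length (Localization.AtPrime q.asIdeal) (LocalizedModule q.asIdeal.primeCompl M)).toNat : ℤ) * CycAlg.ordFrac (A ⧸ q.asIdeal) q.asIdeal.ResidueField (algebraMap A q.asIdeal.ResidueField a / algebraMap A q.asIdeal.ResidueField b) := by
  have hnmem : ∀ {x : A}, x ∈ nonZeroDivisors A → ∀ q ∈ minimalPrimes A, x ∉ q := fun {x} hx q hq h =>
    Set.disjoint_left.1 (Ideal.disjoint_nonZeroDivisors_of_mem_minimalPrimes hq) h hx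
  have hreg : ∀ {x : A}, x ∈ nonZeroDivisors A → Function.Injective (LinearMap.lsmul A M x) := by
    intro x hx
    rw [← LinearMap.ker_eq_bot, eq_bot_iff]
    intro m hm
    by_contra hm0
    have hmem : x ∈ ⋃ p ∈ associatedPrimes A M, (p : Set A) := by
      rw [biUnion_associatedPrimes_eq_zero_divisors]
      exact ⟨m, fun h => hm0 (by simp [h]), hm⟩
    simp only [Set.mem_iUnion] at hmem
    obtain ⟨p, hp, hxp⟩ := hmem
    exact hnmem hx p (hMemb p hp) hxp
  have hrange : ∀ x : A, LinearMap.range (LinearMap.lsmul A M x) = x • (⊤ : Submodule A M) := fun x => by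
    ext y
    simp [Submodule.mem_smul_pointwise_iff_exists]
  have hQ : (Ideal.span {a} * I) • (⊤ : Submodule A M) = a • (I • (⊤ : Submodule A M)) := by
    rw [Submodule.mul_smul, Submodule.ideal_span_singleton_smul]
  have hQa : (Ideal.span {a} * I) • (⊤ : Submodule A M) ≤ LinearMap.range (LinearMap.lsmul A M a) := by
    rw [hQ, hrange]
    exact smul_mono_right _ le_top
  have hQb : (Ideal.span {a} * I) • (⊤ : Submodule A M) ≤ LinearMap.range (LinearMap.lsmul A M b) := by
    rw [hrange, ← Submodule.ideal_span_singleton_smul]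
    refine Submodule.smul_mono ?_ le_rfl
    rw [Ideal.mul_le]
    intro r hr s hs
    rw [hI, Submodule.mem_colon] at hs
    obtain ⟨c, rfl⟩ := Ideal.mem_span_singleton'.1 hr
    rw [mul_assoc]
    refine Ideal.mul_mem_left _ c ?_
    rw [mul_comm]
    exact hs a (Ideal.mem_span_singleton_self a)
  refine ⟨hQb, ?_⟩
  have hJ : Submodule.comap (LinearMap.lsmul A M a) ((Ideal.span {a} * I) • (⊤ : Submodule A M)) =
      I • (⊤ : Submodule A M) := by
    rw [hQ]
    exact Submodule.comap_map_eq_of_injective (hreg ha) _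
  have e1 := Groth.Agent.Lib.CycAlg.OrdSum.length_quot_comap a ((Ideal.span {a} * I) • (⊤ : Submodule A M)) hQa
  have e2 := Groth.Agent.Lib.CycAlg.OrdSum.length_quot_comap b ((Ideal.span {a} * I) • (⊤ : Submodule A M)) hQb
  rw [hJ] at e1
  rw [← hP] at e2
  obtain ⟨hta, hsa⟩ := Groth.Agent.Lib.CycAlg.OrdSum.length_quot_smul hA (hnmem ha) (hreg ha) hsupp
  obtain ⟨htb, hsb⟩ := Groth.Agent.Lib.CycAlg.OrdSum.length_quot_smul hA (hnmem hb) (hreg hb) hsupp
  have htI : Module.length A (M ⧸ I • (⊤ : Submodule A M)) < ⊤ := by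
    refine lt_of_le_of_lt (Module.length_le_of_surjective (Submodule.factor (?_ : b • (⊤ : Submodule A M) ≤ I • ⊤))
      (Submodule.factor_surjective _)) htb
    rw [← Submodule.ideal_span_singleton_smul]
    refine Submodule.smul_mono ?_ le_rfl
    rw [Ideal.span_le, Set.singleton_subset_iff, SetLike.mem_coe, hI, Submodule.mem_colon]
    exact fun y _ => Ideal.mem_span_singleton'.2 ⟨y, mul_comm y b⟩
  have htP : Module.length A (M ⧸ P) < ⊤ := by
    have : Module.length A (M ⧸ P) + Module.length A (M ⧸ b • (⊤ : Submodule A M)) < ⊤ := by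
      rw [← e2, e1]
      exact WithTop.add_lt_top.2 ⟨htI, hta⟩
    exact (WithTop.add_lt_top.1 this).1
  have key := congrArg (fun n : ℕ∞ => (n.toNat : ℤ)) (e2.symm.trans e1)
  simp only [ENat.toNat_add htP.ne htb.ne, ENat.toNat_add htI.ne hta.ne, Nat.cast_add, hsa, hsb] at key
  have hfin : {q : PrimeSpectrum A | q.asIdeal ∈ minimalPrimes A}.Finite :=
    Set.Finite.preimage (fun p _ p' _ h => PrimeSpectrum.ext h) (minimalPrimes.finite_of_isNoetherianRing A)
  erw [finsum_mem_eq_finite_toFinset_sum _ hfin, finsum_mem_eq_finite_toFinset_sum _ hfin] at key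
  erw [finsum_mem_eq_finite_toFinset_sum _ hfin]
  rw [eq_sub_of_add_eq key, add_sub_assoc, add_sub_cancel_left, ← Finset.sum_sub_distrib]
  refine Finset.sum_congr rfl fun q hq => ?_
  rw [Set.Finite.mem_toFinset] at hq
  have : Ring.KrullDimLE 1 (A ⧸ q.asIdeal) :=
    Ring.krullDimLE_iff.2 ((ringKrullDim_quotient_le q.asIdeal).trans hA.le)
  have hne : ∀ {x : A}, x ∈ nonZeroDivisors A → Ideal.Quotient.mk q.asIdeal x ≠ 0 := fun {x} hx h =>
    hnmem hx _ hq (Ideal.Quotient.eq_zero_iff_mem.1 h)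
  have hne' : ∀ {x : A}, x ∈ nonZeroDivisors A → algebraMap A q.asIdeal.ResidueField x ≠ 0 := fun {x} hx h =>
    hnmem hx _ hq (Ideal.algebraMap_residueField_eq_zero.1 h)
  rw [div_eq_mul_inv, Groth.Agent.Lib.Cyc.Ord.ordFrac_mul _ _ _ (hne' ha) (inv_ne_zero (hne' hb)),
    Groth.Agent.Lib.Cyc.Ord.ordFrac_inv _ _ (hne' hb),
    IsScalarTower.algebraMap_apply A (A ⧸ q.asIdeal) q.asIdeal.ResidueField a,
    IsScalarTower.algebraMap_apply A (A ⧸ q.asIdeal) q.asIdeal.ResidueField b,
    Ideal.Quotient.algebraMap_eq,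
    Groth.Agent.Lib.Cyc.Ord.ordFrac_algebraMap _ (mem_nonZeroDivisors_of_ne_zero (hne ha)),
    Groth.Agent.Lib.Cyc.Ord.ordFrac_algebraMap _ (mem_nonZeroDivisors_of_ne_zero (hne hb))]
  ring

end Groth.Agent.S6480
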