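import Groth.Statements.S6483
import Groth.Agent.Lib.Cyc.PP.Norm
import Groth.Agent.Lib.Cyc.PP.Main
import Groth.Agent.Lib.Cyc.Push
import Groth.Agent.Lib.Cyc.FieldDim

set_option autoImplicit false
universe u
open CategoryTheory AlgebraicGeometry
open CategoryTheory.Limits
open Cyc

namespace Groth.Agent.S6483

/-- Let f : Y → X be an envelope and p, q : Y ×_X Y → Y the two projections. If a k-cycle β on Y has
f_*β ∼_rat 0 on X, then β ∼_rat p_*γ − q_*γ for some k-cycle γ on Y ×_X Y. Together with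
surjectivity of f_* and f_* p_* = f_* q_*, this is the exact sequence CH_k(Y ×_X Y) → CH_k(Y) →
CH_k(X) → 0. An envelope is a proper, completely decomposed morphism (every point of the target has
a point over it with trivial residue field extension; this prelude's Cyc.IsCompletelyDecomposed).
Here a pair (X, δ) with Cyc.IsSetup plays the role of a scheme locally of finite type over the base
(S, δ) (X locally Noetherian with universally catenary local rings, δ a dimension function), and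
Cyc.DeltaCompat records that the dimension function upstairs is the induced one. -/
theorem result (X Y : Scheme.{u}) (δ : X → ℤ) (δY : Y → ℤ) (hX : Cyc.IsSetup X δ) (hY : Cyc.IsSetup Y δY) (f : Y ⟶ X) [IsProper f] (hcd : Cyc.IsCompletelyDecomposed f) (hδ : Cyc.DeltaCompat f δY δ) (δ2 : ↥(pullback f f) → ℤ) (h2 : Cyc.IsSetup (pullback f f) δ2) (hδ2 : Cyc.DeltaCompat (pullback.fst f f) δ2 δY) (k : ℤ) (β : AlgebraicCycle Y ℤ) (hβ : β ∈ Cyc.Zk Y δY k) (h0 : Cyc.RatEquivZero δ k (AlgebraicCycle.map f δY δ β)) : ∃ γ : AlgebraicCycle (pullback f f) ℤ, γ ∈ Cyc.Zk (pullback f f) δ2 k ∧ Cyc.RatEquiv δY k β (AlgebraicCycle.map (pullback.fst f f) δ2 δY γ - AlgebraicCycle.map (pullback.snd f f) δ2 δY γ) := by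
  classical
  have := hX.1
  have := hY.1
  have := h2.1
  choose sec hsec hsurj using hcd
  have hdeg := fun x => Lib.Cyc.Residue.residueDegree_eq_one_of_surjective (sec x) (hsurj x)
  have hδs : ∀ x, δY (sec x) = δ x := fun x => by
    have := (Lib.Cyc.Residue.trdegAt_eq_zero_iff_eq hδ (sec x)).mp
      (Lib.Cyc.Residue.trdegAt_eq_zero_of_finite (sec x)
        (Lib.Cyc.Residue.residueFieldMap_finite_of_surjective (sec x) (hsurj x)))
    rwa [hsec] at this
  -- lift the rational equivalence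
  obtain ⟨ι, ξ, g, hξ, hg, hlf, hsum⟩ := h0
  let g' : ∀ n, Y.residueField (sec (ξ n)) := fun n =>
    f.residueFieldMap (sec (ξ n)) ((X.residueFieldCongr (hsec (ξ n))).inv (g n))
  have hg' : ∀ n, g' n ≠ 0 := fun n h => hg n
    ((X.residueFieldCongr (hsec (ξ n))).inv.hom.injective
      (((f.residueFieldMap (sec (ξ n))).hom.injective (h.trans (map_zero _).symm)).trans
        (map_zero _).symm))
  have hη : ∀ n, δY (sec (ξ n)) = k + 1 := fun n => (hδs _).trans (hξ n)
  have hlf' : ∀ y : Y, ∃ U : Set Y, IsOpen U ∧ y ∈ U ∧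
      {n | (closure {sec (ξ n)} ∩ U).Nonempty}.Finite := fun y => by
    obtain ⟨U, hU, hyU, hfin⟩ := hlf (f y)
    refine ⟨⇑f ⁻¹' U, hU.preimage f.continuous, hyU, hfin.subset ?_⟩
    rintro n ⟨w, hw, hwU⟩
    refine ⟨f w, specializes_iff_mem_closure.1 ?_, hwU⟩
    have := (specializes_iff_mem_closure.2 hw).map f.continuous
    rwa [hsec] at this
  let d : Y → ℤ := fun y => ∑ᶠ n, Cyc.divFun δY (sec (ξ n)) (g' n) y
  have hd : LocallyFiniteSupport d := fun z => by
    obtain ⟨W, hW, hzW, hfin⟩ := hlf' z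
    choose V hV hxV hVfin using fun n =>
      Lib.Cyc.Ord.exists_open_finite_divFun hY.2.2 (sec (ξ n)) (g' n) z
    refine ⟨W ∩ ⋂ n ∈ {n | (closure {sec (ξ n)} ∩ W).Nonempty}, V n,
      (hW.inter (hfin.isOpen_biInter fun n _ => hV n)).mem_nhds
        ⟨hzW, Set.mem_iInter₂.2 fun n _ => hxV n⟩, (hfin.biUnion fun n _ => hVfin n).subset ?_⟩
    rintro w ⟨⟨hwW, hwV⟩, hw⟩
    obtain ⟨n, -, hn⟩ := exists_ne_zero_of_finsum_mem_ne_zero (s := Set.univ)
      (f := fun n => Cyc.divFun δY (sec (ξ n)) (g' n) w) (by rw [finsum_mem_univ]; exact hw)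
    have hmem : (closure {sec (ξ n)} ∩ W).Nonempty := ⟨w, specializes_iff_mem_closure.1 (by
      by_contra hs
      exact hn (Lib.Cyc.Ord.divFun_eq_zero_of_not_specializes δY _ _ _ hs)), hwW⟩
    exact Set.mem_biUnion hmem ⟨Set.mem_iInter₂.1 hwV n hmem, hn⟩
  let ρ : AlgebraicCycle Y ℤ := ⟨d, fun _ _ => trivial, fun z _ => hd z⟩
  have hρ : Cyc.RatEquivZero δY k ρ :=
    ⟨ι, fun n => sec (ξ n), g', hη, hg', hlf', fun _ => rfl⟩
  have hρk : ρ ∈ Cyc.Zk Y δY k := fun y hy => finsum_eq_zero_of_forall_eq_zero fun n =>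
    dif_neg fun hc => hy (by have := hc.2; have := hη n; omega)
  have hpush : AlgebraicCycle.map f δY δ ρ = AlgebraicCycle.map f δY δ β := by
    refine Function.locallyFinsuppWithin.ext fun x => ?_
    rw [hsum x, Lib.Cyc.Push.map_apply]
    choose W hW hxW hWfin using hlf'
    obtain ⟨t, ht⟩ := (Scheme.Hom.isCompact_preimage_singleton f x).elim_finite_subcover
      W hW fun y _ => Set.mem_iUnion.2 ⟨y, hxW y⟩
    have hN : {n | ∃ y, f y = x ∧ sec (ξ n) ⤳ y}.Finite := by
      refine (t.finite_toSet.biUnion fun i _ => hWfin i).subset fun n hn => ?_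
      obtain ⟨y, hy, hsp⟩ := hn
      obtain ⟨i, hi, hyi⟩ := Set.mem_iUnion₂.1 (ht hy)
      exact Set.mem_biUnion hi ⟨y, specializes_iff_mem_closure.1 hsp, hyi⟩
    have h1 : ∀ y ∈ ⇑f ⁻¹' {x}, ρ y * (AlgebraicCycle.mapCoeff f δY δ y : ℤ) =
        ∑ n ∈ hN.toFinset, Cyc.divFun δY (sec (ξ n)) (g' n) y *
          (AlgebraicCycle.mapCoeff f δY δ y : ℤ) := fun y hy => by
      show (∑ᶠ n, Cyc.divFun δY (sec (ξ n)) (g' n) y) * _ = _
      rw [finsum_eq_sum_of_support_subset (s := hN.toFinset) _ fun n hn =>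
        hN.mem_toFinset.2 ⟨y, hy, by_contra fun h =>
          hn (Lib.Cyc.Ord.divFun_eq_zero_of_not_specializes δY _ _ _ h)⟩, Finset.sum_mul]
    rw [finsum_mem_congr rfl h1, Lib.Cyc.PP.Main.finsum_mem_finset_comm]
    swap
    · intro n _
      choose U' hU' hyU' hfin' using Lib.Cyc.Ord.exists_open_finite_divFun hY.2.2 (sec (ξ n)) (g' n)
      obtain ⟨t', ht'⟩ := (Scheme.Hom.isCompact_preimage_singleton f x).elim_finite_subcover
        U' hU' fun y _ => Set.mem_iUnion.2 ⟨y, hyU' y⟩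
      refine (t'.finite_toSet.biUnion fun i _ => hfin' i).subset fun y hy => ?_
      obtain ⟨i, hi, hyi⟩ := Set.mem_iUnion₂.1 (ht' hy.1)
      exact Set.mem_biUnion hi ⟨hyi, left_ne_zero_of_mul hy.2⟩
    have hterm : ∀ n, ∑ᶠ y ∈ ⇑f ⁻¹' {x}, Cyc.divFun δY (sec (ξ n)) (g' n) y *
        (AlgebraicCycle.mapCoeff f δY δ y : ℤ) = Cyc.divFun δ (ξ n) (g n) x := fun n => by
      rw [Lib.Cyc.PP.Norm.map_divFun f hY.2.2 hX.2.2 hδ (hη n) (by rw [hsec]; exact hξ n) _ (hg' n) x]
      have hnorm : Cyc.normGen f (sec (ξ n)) (g' n) = (X.residueFieldCongr (hsec (ξ n))).inv (g n) := by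
        have h' : Cyc.normGen f (sec (ξ n)) (g' n) =
            (X.residueFieldCongr (hsec (ξ n))).inv (g n) ^ f.residueDegree (sec (ξ n)) := by
          letI := (f.residueFieldMap (sec (ξ n))).hom.toAlgebra
          exact Algebra.norm_algebraMap (S := Y.residueField (sec (ξ n))) _
        rw [h', hdeg, pow_one]
      rw [hnorm]
      exact (fun {a b : X} (e : a = b) (c : X.residueField b) => by subst e; rfl :
        ∀ {a b : X} (e : a = b) (c : X.residueField b),
          Cyc.divFun δ a ((X.residueFieldCongr e).inv c) x = Cyc.divFun δ b c x) (hsec (ξ n)) (g n)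
    rw [Finset.sum_congr rfl fun n _ => hterm n]
    refine (finsum_eq_sum_of_support_subset _ fun n hn => ?_).symm
    rw [Finset.mem_coe, hN.mem_toFinset]
    by_contra hne
    exact hn ((hterm n).symm.trans (finsum_mem_eq_zero_of_forall_eq_zero fun y hy => by
      rw [Lib.Cyc.Ord.divFun_eq_zero_of_not_specializes δY _ _ _ fun hs => hne ⟨y, hy, hs⟩, zero_mul]))
  -- the points on the fibre square
  have hz : ∀ y : Y, ∃ z : ↥(pullback f f), pullback.fst f f z = y ∧
      pullback.snd f f z = sec (f y) ∧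
      Function.Surjective ((pullback.fst f f).residueFieldMap z).hom := by
    intro y
    haveI : IsIso (f.residueFieldMap (sec (f y))) :=
      (ConcreteCategory.isIso_iff_bijective _).mpr ⟨RingHom.injective _, hsurj (f y)⟩
    let φ : Y.residueField (sec (f y)) ⟶ Y.residueField y :=
      inv (f.residueFieldMap (sec (f y))) ≫ (X.residueFieldCongr (hsec (f y))).hom ≫ f.residueFieldMap y
    have hcomm : Y.fromSpecResidueField y ≫ f =
        (Spec.map φ ≫ Y.fromSpecResidueField (sec (f y))) ≫ f := by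
      rw [Category.assoc, ← Scheme.Hom.SpecMap_residueFieldMap_fromSpecResidueField,
        ← Scheme.Hom.SpecMap_residueFieldMap_fromSpecResidueField f (sec (f y)), ← Spec.map_comp_assoc]
      simp only [φ, IsIso.hom_inv_id_assoc, Spec.map_comp, Category.assoc,
        Scheme.residueFieldCongr_fromSpecResidueField]
    let l := pullback.lift _ _ hcomm
    let p₀ := IsLocalRing.closedPoint (Y.residueField y)
    have h1 : l ≫ pullback.fst f f = Y.fromSpecResidueField y := pullback.lift_fst _ _ _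
    refine ⟨l p₀, ?_, ?_, fun a => ?_⟩
    · rw [← Scheme.Hom.comp_apply, h1, Scheme.fromSpecResidueField_apply]
    · rw [← Scheme.Hom.comp_apply, pullback.lift_snd, Scheme.Hom.comp_apply,
        Scheme.fromSpecResidueField_apply]
    · haveI : IsPreimmersion (l ≫ pullback.fst f f) := h1 ▸ inferInstance
      obtain ⟨b, hb⟩ := Lib.Cyc.FieldDim.residueFieldMap_surjective (f := l ≫ pullback.fst f f) p₀
        (l.residueFieldMap p₀ a)
      exact ⟨b, (l.residueFieldMap p₀).hom.injective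
        ((ConcreteCategory.congr_hom (Scheme.residueFieldMap_comp l (pullback.fst f f) p₀) b).symm.trans hb)⟩
  choose z hz1 hz2 hz3 using hz
  have hδz : ∀ y, δ2 (z y) = δY y := fun y => by
    have := (Lib.Cyc.Residue.trdegAt_eq_zero_iff_eq hδ2 (z y)).mp
      (Lib.Cyc.Residue.trdegAt_eq_zero_of_finite (z y)
        (Lib.Cyc.Residue.residueFieldMap_finite_of_surjective (z y) (hz3 y)))
    rwa [hz1] at this
  obtain ⟨γ, hγ, hmap⟩ := Lib.Cyc.Push.exists_map_eq_of_section (pullback.fst f f) δ2 δY z hz1 hδz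
    (fun y => Lib.Cyc.Residue.residueDegree_eq_one_of_surjective (z y) (hz3 y)) (β - ρ)
  have hq : Cyc.DeltaCompat (pullback.snd f f) δ2 δY := fun w => by
    obtain ⟨n₁, hn₁, hn₁'⟩ := Lib.Cyc.Residue.exists_trdegAt hδ2 w
    obtain ⟨n₂, hn₂, hn₂'⟩ := Lib.Cyc.Residue.exists_trdegAt hδ (pullback.fst f f w)
    obtain ⟨m, hm, hm'⟩ := Lib.Cyc.Residue.exists_trdegAt hδ (pullback.snd f f w)
    have h := Lib.Cyc.FieldDim.trdegAt_congr (pullback.condition (f := f) (g := f)) w
    rw [Lib.Cyc.Residue.trdegAt_comp, Lib.Cyc.Residue.trdegAt_comp, hn₁, hn₂, hm, ← Nat.cast_add] at h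
    obtain ⟨n₃, hn₃⟩ : ∃ n : ℕ, Lib.Cyc.Residue.trdegAt (pullback.snd f f) w = n :=
      Cardinal.lt_aleph0.1 ((self_le_add_left _ _).trans_lt (h ▸ Cardinal.natCast_lt_aleph0))
    rw [hn₃, ← Nat.cast_add, Nat.cast_inj] at h
    have hx : δ (f (pullback.fst f f w)) = δ (f (pullback.snd f f w)) := by
      rw [← Scheme.Hom.comp_apply, pullback.condition, Scheme.Hom.comp_apply]
    exact ⟨n₃, hn₃, by omega⟩
  refine ⟨γ, fun w hw => ?_, ?_⟩
  · by_contra hne
    obtain ⟨hwz, hβw⟩ := hγ w hne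
    refine hβw ?_
    show β _ - ρ _ = 0
    have hy : δY (pullback.fst f f w) ≠ k := by
      rw [← hδz, ← hwz]; exact hw
    rw [hβ _ hy, hρk _ hy, sub_zero]
  have hq0 : AlgebraicCycle.map (pullback.snd f f) δ2 δY γ = 0 := by
    set w := AlgebraicCycle.map (pullback.snd f f) δ2 δY γ with hw
    have hsupp : ∀ v, w v ≠ 0 → v = sec (f v) := fun v hv => by
      rw [hw, Lib.Cyc.Push.map_apply] at hv
      obtain ⟨u, hu, hne⟩ := exists_ne_zero_of_finsum_mem_ne_zero hv
      obtain ⟨he, -⟩ := hγ u (left_ne_zero_of_mul hne)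
      rw [← (show pullback.snd f f u = v from hu), he, hz2, hsec]
    have h0 : AlgebraicCycle.map f δY δ w = 0 := by
      rw [hw, Lib.Cyc.Push.map_map_apply _ _ _ _ _ hq hδ]
      have e : ∀ (q : pullback f f ⟶ X) [QuasiCompact q], q = pullback.fst f f ≫ f →
          AlgebraicCycle.map q δ2 δ γ = AlgebraicCycle.map f δY δ (β - ρ) := by
        intro q _ hq'
        subst hq'
        rw [← hmap, Lib.Cyc.Push.map_map_apply _ _ _ _ _ hδ2 hδ]
      rw [e _ pullback.condition.symm]
      refine Function.locallyFinsuppWithin.ext fun x => ?_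
      rw [Lib.Cyc.PP.Div.map_sub_apply, hpush]
      exact sub_self _
    refine Function.locallyFinsuppWithin.ext fun v => ?_
    by_contra hv
    have hv' : w v ≠ 0 := fun h => hv h
    have h1 := DFunLike.congr_fun h0 (f v)
    rw [Lib.Cyc.Push.map_apply, finsum_mem_eq_sum_of_inter_support_eq (t := {v}) _ (by
      ext u
      simp only [Set.mem_inter_iff, Set.mem_preimage, Set.mem_singleton_iff, Function.mem_support,
        Finset.coe_singleton]
      refine ⟨fun hu => ⟨?_, hu.2⟩, fun hu => ⟨by rw [hu.1], hu.2⟩⟩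
      rw [hsupp v hv', hsupp u (left_ne_zero_of_mul hu.2), hu.1]), Finset.sum_singleton,
      AlgebraicCycle.mapCoeff, if_pos (by
        conv_lhs => rw [hsupp v hv']
        exact hδs _), hsupp v hv', hdeg, Nat.cast_one, mul_one, ← hsupp v hv'] at h1
    exact hv' h1
  rw [hmap, hq0, sub_zero]
  show Cyc.RatEquivZero δY k (β - (β - ρ))
  rwa [sub_sub_cancel]

end Groth.Agent.S6483
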