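import Groth.Statements.S6485
import Mathlib.RingTheory.Polynomial.Basic
import Mathlib.RingTheory.Polynomial.UniqueFactorization
import Mathlib.LinearAlgebra.Matrix.Permutation
import Mathlib.Algebra.MvPolynomial.Equiv
import Mathlib.Algebra.MvPolynomial.Division
import Mathlib.Algebra.Polynomial.RingDivision
import Mathlib.Algebra.MvPolynomial.Nilpotent

set_option autoImplicit false
universe u
open IntMult

namespace Groth.Agent.S6485

/-- Let k be a field and n ≥ 1. Then the determinant of the generic matrix (x_{ij})_{1 ≤ i, j ≤ n} is an
irreducible element of the polynomial ring k[x_{ij}] (Mathlib's Matrix.mvPolynomialX is the generic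
matrix over MvPolynomial (Fin n × Fin n) k). -/
theorem result (k : Type u) [Field k] (n : ℕ) (hn : 1 ≤ n) : Irreducible (Matrix.mvPolynomialX (Fin n) (Fin n) k).det := by
  classical
  -- irreducibility is preserved by renaming variables along an injection
  have hren : ∀ {σ τ : Type} (f : σ → τ) (hf : Function.Injective f) (p : MvPolynomial σ k),
      Irreducible p → Irreducible (MvPolynomial.rename f p) := by
    intro σ τ f hf p hp
    let e : σ ≃ Set.range f := Equiv.ofInjective f hf
    have h1 : Prime (MvPolynomial.renameEquiv k e p) :=
      (MulEquiv.prime_iff (MvPolynomial.renameEquiv k e).toMulEquiv).mpr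
        (UniqueFactorizationMonoid.irreducible_iff_prime.mp hp)
    have h2 := (MvPolynomial.prime_rename_iff (Set.range f)
      (p := MvPolynomial.renameEquiv k e p)).mpr h1
    rw [MvPolynomial.renameEquiv_apply, MvPolynomial.rename_rename] at h2
    exact h2.irreducible
  induction n with
  | zero => omega
  | succ n ih =>
    rcases Nat.eq_zero_or_pos n with rfl | hn'
    · rw [Matrix.det_fin_one, Matrix.mvPolynomialX_apply]
      exact MvPolynomial.X_prime.irreducible
    · have hM := ih hn'
      let i0 : Fin (n+1) × Fin (n+1) := (0, 0)
      let τ := {p : Fin (n+1) × Fin (n+1) // p ≠ i0}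
      let e : MvPolynomial (Fin (n+1) × Fin (n+1)) k ≃ₐ[k] Polynomial (MvPolynomial τ k) :=
        (MvPolynomial.renameEquiv k (Equiv.optionSubtypeNe i0).symm).trans
          (MvPolynomial.optionEquivLeft k τ)
      have e0 : e (MvPolynomial.X i0) = Polynomial.X := by
        simp [e, τ, MvPolynomial.optionEquivLeft_X_none]
      have e1 : ∀ p (h : p ≠ i0),
          e (MvPolynomial.X p) = Polynomial.C (MvPolynomial.X (⟨p, h⟩ : τ)) := by
        intro p h
        simp [e, τ, Equiv.optionSubtypeNe_symm_of_ne h, MvPolynomial.optionEquivLeft_X_some]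
      have hne : ∀ (i : Fin n) (j : Fin (n+1)), ((i.succ, j) : Fin (n+1) × Fin (n+1)) ≠ i0 :=
        fun i j h => Fin.succ_ne_zero i (congrArg Prod.fst h)
      have hne' : ∀ (j : Fin n), (((0 : Fin (n+1)), j.succ) : Fin (n+1) × Fin (n+1)) ≠ i0 :=
        fun j h => Fin.succ_ne_zero j (congrArg Prod.snd h)
      let minor : Fin (n+1) → Matrix (Fin n) (Fin n) (MvPolynomial τ k) := fun j =>
        fun a b => MvPolynomial.X (⟨(a.succ, j.succAbove b), hne _ _⟩ : τ)
      let M : MvPolynomial τ k := (minor 0).det
      let R0 : MvPolynomial τ k := ∑ j : Fin n,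
        (-1) ^ ((j.succ : Fin (n+1)) : ℕ) * MvPolynomial.X (⟨(0, j.succ), hne' j⟩ : τ) * (minor j.succ).det
      have hsub : ∀ j : Fin (n+1), e (((Matrix.mvPolynomialX (Fin (n+1)) (Fin (n+1)) k).submatrix
          Fin.succ j.succAbove).det) = Polynomial.C ((minor j).det) := by
        intro j
        rw [AlgEquiv.map_det, RingHom.map_det]
        congr 1
        refine Matrix.ext fun a b => ?_
        simp only [AlgEquiv.mapMatrix_apply, RingHom.mapMatrix_apply, Matrix.map_apply,
          Matrix.submatrix_apply, Matrix.mvPolynomialX_apply, minor]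
        exact e1 _ (hne _ _)
      have hdet : e (Matrix.mvPolynomialX (Fin (n+1)) (Fin (n+1)) k).det =
          Polynomial.C M * Polynomial.X + Polynomial.C R0 := by
        rw [Matrix.det_succ_row_zero, map_sum, Fin.sum_univ_succ]
        congr 1
        · simp only [map_mul, map_pow, map_neg, map_one, hsub, Matrix.mvPolynomialX_apply,
            Fin.val_zero, pow_zero, one_mul]
          rw [e0, mul_comm]
        · rw [map_sum]
          refine Finset.sum_congr rfl fun j _ => ?_
          simp only [map_mul, map_pow, map_neg, map_one, hsub, Matrix.mvPolynomialX_apply,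
            e1 _ (hne' j)]
      have hMirr : Irreducible M := by
        have := hren (fun p : Fin n × Fin n => (⟨(p.1.succ, (0 : Fin (n+1)).succAbove p.2),
          hne _ _⟩ : τ)) (by
            intro p q h
            have h' := congrArg Subtype.val h
            simp only [Prod.mk.injEq, Fin.succ_inj, Fin.succAbove_right_inj] at h'
            exact Prod.ext h'.1 h'.2) _ hM
        convert this using 1
        rw [AlgHom.map_det]
        simp only [M]
        congr 1
        refine Matrix.ext fun a b => ?_
        simp [minor, Matrix.mvPolynomialX_apply]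
      have hndvd : ¬ M ∣ R0 := by
        rintro ⟨q, hq⟩
        obtain ⟨m, rfl⟩ : ∃ m, n = m + 1 := ⟨n - 1, by omega⟩
        let s : Equiv.Perm (Fin (m+2)) := Equiv.swap 0 1
        let A : Matrix (Fin (m+2)) (Fin (m+2)) k := s.permMatrix k
        have hA0 : A 0 0 = 0 := by
          simp [A, s, Equiv.Perm.permMatrix, PEquiv.toMatrix_apply]
        have hA1 : ∀ b : Fin (m+1), A 1 b.succ = 0 := by
          intro b
          simp [A, s, Equiv.Perm.permMatrix, PEquiv.toMatrix_apply, (Fin.succ_ne_zero b).symm]
        let v : τ → k := fun p => A p.1.1 p.1.2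
        have hv : ∀ j, MvPolynomial.eval v (minor j).det = (A.submatrix Fin.succ j.succAbove).det := by
          intro j
          rw [RingHom.map_det]
          congr 1
          refine Matrix.ext fun a b => ?_
          simp [minor, v]
        have hM0 : MvPolynomial.eval v M = 0 := by
          simp only [M]
          rw [hv]
          refine Matrix.det_eq_zero_of_row_eq_zero 0 fun b => ?_
          rw [Matrix.submatrix_apply, Fin.succAbove_zero]
          simpa using hA1 b
        have hR : MvPolynomial.eval v R0 = 0 := by rw [hq, map_mul, hM0, zero_mul]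
        have hRsum : MvPolynomial.eval v R0 = ∑ j : Fin (m+1), (-1 : k) ^ ((j.succ : Fin (m+2)) : ℕ) *
            A 0 j.succ * (A.submatrix Fin.succ j.succ.succAbove).det := by
          simp only [R0, map_sum, map_mul, map_pow, map_neg, map_one, hv, MvPolynomial.eval_X]
          rfl
        have hA : A.det = 0 := by
          rw [Matrix.det_succ_row_zero, Fin.sum_univ_succ, hA0, mul_zero, zero_mul, zero_add,
            ← hRsum, hR]
        have hs : A.det = ((Equiv.Perm.sign s : ℤ) : k) := Matrix.det_permutation s
        rw [hA] at hs
        rcases Int.units_eq_one_or (Equiv.Perm.sign s) with h | h <;> rw [h] at hs <;> simp at hs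
      have hP : Irreducible (Polynomial.C M * Polynomial.X + Polynomial.C R0) :=
        Polynomial.irreducible_C_mul_X_add_C hMirr.ne_zero
          (hMirr.isRelPrime_iff_not_dvd.mpr hndvd)
      rw [← hdet] at hP
      exact (MulEquiv.irreducible_iff e.toMulEquiv).mp hP

end Groth.Agent.S6485
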