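import Groth.Statements.S6487
import Groth.Agent.Lib.Curves.BaseChange
import Groth.Agent.Lib.Curves.GenusZero
import Groth.Agent.Lib.Curves.RationalPoint
import Groth.Agent.Lib.Curves.Clifford
import Groth.Agent.Lib.CurveBundle.SmoothField
import Groth.Agent.Lib.GrpSch.SepPoints
import Groth.Agent.Lib.ModelFibre.IdealPull
import Groth.Agent.Lib.ModelFibre.TorsGen
import Groth.Agent.Lib.Ideal.EffCartier
import Groth.Agent.Lib.HilbD.FlatKer
import Groth.Agent.Lib.SurfInt.AmpleVanish
import Groth.Agent.Lib.Ample.GG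
import Groth.Agent.Lib.Ample.Pullback
import Groth.Agent.Lib.AffineCompl.Basic
import Groth.Agent.H97.CurveProj
import Groth.Agent.H56.DimBaseChange
import Groth.Agent.H34.Stein.HenselianEtale

/-!
# Twisting an invertible sheaf on a base-changed curve down to one section and no `H¹`
-/

set_option autoImplicit false
set_option linter.style.haveILetI false
set_option linter.unusedSectionVars false
universe u
open CategoryTheory CategoryTheory.Limits AlgebraicGeometry
open PicF

namespace Groth.Agent.S6487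

open Opposite TopologicalSpace Groth.Agent.Lib Groth.Agent.Lib.TensorMod.Basic

section Step

variable {K : Type u} [Field K] {Y : Scheme.{u}} [Y.Over (Spec (CommRingCat.of K))]
  [IsProper (Y ↘ Spec (CommRingCat.of K))] [IsIntegral Y]

/-- A nonzero section of an invertible module misses all but finitely many points: there is a finite
closed set off which every point of residue degree one drops `h⁰`. -/
theorem exists_bad_set (hdim : topologicalKrullDim Y = 1) {L : Y.Modules}
    (hL : PicF.IsInvertible L) (h0 : 0 < Curves.Euler.hdim K Y L 0) :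
    ∃ Z : Set Y, Z.Finite ∧ ∀ (y : Y) (hy : IsClosed ({y} : Set Y)), y ∉ Z →
      Curves.Euler.hdim K Y (CohB1.tensorMod (ClSub.idealMod (Curves.PointIdeal.ptI hy)) L) 0 <
        Curves.Euler.hdim K Y L 0 := by
  haveI := Curves.Clifford.nontrivial_sections (L := L) (Module.nontrivial_of_finrank_pos h0)
  obtain ⟨t, ht⟩ := exists_ne (0 : (L.val.obj (op ⊤) : Type u))
  obtain ⟨hm, hT⟩ := Curves.Clifford.section_good hL (𝟙 L) (t := (t : Γ(L, ⊤))) ht
  set σ := Curves.Clifford.σ L (t : Γ(L, ⊤))
  have hOc : Coh.IsCoh (Coh.structureModule Y) := Curves.Degree.isCoh_structureModule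
  haveI := Curves.GlobalSections.isNoetherian_of_proper K Y
  have hQ := CohBasics.Closure.isCoh_cokernel σ hOc.1 (Curves.Degree.isCoh_of_isInvertible hL)
  have := hQ.2
  have hcl := Modules.Support.isClosed_support (cokernel σ)
  have hgen : genericPoint Y ∉ CohB1.support (cokernel σ) :=
    Modules.Support.not_mem_support_iff.mpr (hT _ (show closure ({genericPoint Y} : Set Y) ∈
      irreducibleComponents Y by rw [genericPoint_closure, irreducibleComponents_eq_singleton]; rfl))
  refine ⟨CohB1.support (cokernel σ), ?_, fun y hy hyZ =>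
    lt_of_le_of_ne (Curves.PointIdeal.hdim_twist_ideal_point hy hdim.le hL).1 fun he => ?_⟩
  · obtain ⟨S, hSf, hSc, hSi, hS⟩ := NoetherianSpace.exists_finite_set_isClosed_irreducible hcl
    rw [hS] at hgen ⊢
    refine hSf.sUnion fun T hT => ?_
    have hTg := (hSi T hT).isGenericPoint_genericPoint (hSc T hT)
    have hmem : (hSi T hT).genericPoint ∈ ⋃₀ S := ⟨T, hT, hTg.mem⟩
    rcases SmoothCurve.Curve.eq_genericPoint_or_isClosed hdim (hSi T hT).genericPoint with h | h
    · exact absurd (h ▸ hmem) hgen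
    · rw [← hTg.def, h.closure_eq]
      exact Set.finite_singleton _
  · have hz : σ ≫ Curves.PointIdeal.evQ hy L = 0 := Modules.Free.unitHom_ext (by
      rw [Scheme.Modules.Hom.comp_app]
      change (Curves.PointIdeal.evQ hy L).app ⊤ (σ.app ⊤ (1 : Γ(Y, ⊤))) = _
      refine (congrArg _ (Curves.Clifford.σ_one L _)).trans ?_
      exact ((Curves.PointIdeal.hdim_eq_iff hy hdim.le hL).mp he t).trans rfl)
    have := Curves.PointIdeal.epi_evQ hy hL
    have : Epi (cokernel.desc σ _ hz) := epi_of_epi_fac (cokernel.π_desc σ _ hz)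
    refine hyZ (Modules.Support.support_subset_of_epi (cokernel.desc σ _ hz) ?_)
    rw [Curves.PointIdeal.support_twist_quot hy hL]
    rfl

/-- Removing a degree-one point at which some section does not vanish lowers `h⁰` by one and keeps
`H¹ = 0`. -/
theorem drop_one (hdim : topologicalKrullDim Y ≤ 1) {y : Y} (hy : IsClosed ({y} : Set Y))
    (hq : Curves.Euler.hdim K Y (ClSub.quotMod (Curves.PointIdeal.ptI hy)) 0 = 1)
    {L : Y.Modules} (hL : PicF.IsInvertible L) (h1 : Subsingleton (Coh.HH Y L 1))
    (hlt : Curves.Euler.hdim K Y (CohB1.tensorMod (ClSub.idealMod (Curves.PointIdeal.ptI hy)) L) 0 <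
      Curves.Euler.hdim K Y L 0) :
    Curves.Euler.hdim K Y (CohB1.tensorMod (ClSub.idealMod (Curves.PointIdeal.ptI hy)) L) 0 + 1 =
        Curves.Euler.hdim K Y L 0 ∧
      Subsingleton
        (Coh.HH Y (CohB1.tensorMod (ClSub.idealMod (Curves.PointIdeal.ptI hy)) L) 1) := by
  haveI := Curves.GlobalSections.isNoetherian_of_proper K Y
  set I := Curves.PointIdeal.ptI hy
  have gA := Curves.Finiteness.isGood_of_isCoh (k := K) hdim
    (CurveBundle.Twist.isCoh hL (Curves.IdealTwist.isCoh_ideal I))
  have gB := Curves.Finiteness.isGood_of_isCoh (k := K) hdim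
    (CurveBundle.Twist.isCoh hL (Curves.Degree.isCoh_structureModule (X := Y)))
  have gC := Curves.Finiteness.isGood_of_isCoh (k := K) hdim
    (CurveBundle.Twist.isCoh hL (Curves.IdealTwist.isCoh_quot I))
  have hS := CurveBundle.Twist.shortExact hL (ClSub.Quot.idealSeq_shortExact I)
  have hadd := Curves.Euler.euler_add (k := K) hS gA gB gC
  have hb0 := Curves.Euler.hdim_eq_of_iso (k := K) (leftUnit L) 0
  have hb1 : Subsingleton (Coh.HH Y (CohB1.tensorMod (Coh.structureModule Y) L) 1) :=
    haveI := h1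
    (Curves.LES.isoK K (leftUnit L) 1).toEquiv.subsingleton
  have hc1 : Subsingleton (Coh.HH Y (CohB1.tensorMod (ClSub.quotMod I) L) 1) :=
    Curves.Euler.subsingleton_h1_of_quotient (k := K) hS hb1 (gA.vanish 2 le_rfl)
  have hc0 := (Curves.PointIdeal.hdim_twist_point (k := K) hy hL).trans hq
  have eA := gA.euler
  have eB := gB.euler
  have eC := gC.euler
  have zB : Curves.Euler.hdim K Y (CohB1.tensorMod (Coh.structureModule Y) L) 1 = 0 :=
    Module.finrank_zero_of_subsingleton
  have zC : Curves.Euler.hdim K Y (CohB1.tensorMod (ClSub.quotMod I) L) 1 = 0 :=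
    Module.finrank_zero_of_subsingleton
  change Curv2.euler K Y (CohB1.tensorMod (Coh.structureModule Y) L) =
    Curv2.euler K Y (CohB1.tensorMod (ClSub.idealMod I) L) +
      Curv2.euler K Y (CohB1.tensorMod (ClSub.quotMod I) L) at hadd
  rw [eA, eB, eC, zB, zC, hb0, hc0] at hadd
  haveI := gA.fin₁
  exact ⟨by omega, Module.finrank_zero_iff.mp
    (show Curves.Euler.hdim K Y (CohB1.tensorMod (ClSub.idealMod I) L) 1 = 0 by omega)⟩

end Step

section Points

variable {k : Type u} [Field k] [IsSepClosed k] {X : Scheme.{u}} [X.Over (Spec (CommRingCat.of k))]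
  [Smooth (X ↘ Spec (CommRingCat.of k))] [IsProper (X ↘ Spec (CommRingCat.of k))] [IsIntegral X]

/-- A finite set of closed points misses some rational point. -/
theorem exists_section_avoiding (hdim : topologicalKrullDim X = 1) {F : Set X} (hF : F.Finite) :
    ∃ (s : Spec (CommRingCat.of k) ⟶ X), s ≫ (X ↘ Spec (CommRingCat.of k)) = 𝟙 _ ∧
      Curves.RationalPoint.pt s ∉ F := by
  set F' := {x | x ∈ F ∧ IsClosed ({x} : Set X)}
  have hF' : F'.Finite := hF.subset fun x hx => hx.1
  have hcl : IsClosed F' := by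
    rw [← Set.biUnion_of_singleton F']
    exact hF'.isClosed_biUnion fun x hx => hx.2
  let U : X.Opens := ⟨F'ᶜ, hcl.isOpen_compl⟩
  have hη : genericPoint X ∈ U := fun h => by
    refine Curves.IdealTwist.genericPoint_not_mem hdim (Z := Curves.PointIdeal.ptI h.2) ?_ ?_
    · rw [Curves.PointIdeal.support_ptI]
      exact topologicalKrullDim_zero_of_discreteTopology ({genericPoint X} : Set X)
    · rw [Curves.PointIdeal.support_ptI]; rfl
  haveI : Nonempty U := ⟨⟨_, hη⟩⟩
  obtain ⟨s, hs⟩ := GrpSch.exists_section_of_smooth (U.ι ≫ (X ↘ Spec (CommRingCat.of k)))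
  have hs' : (s ≫ U.ι) ≫ (X ↘ Spec (CommRingCat.of k)) = 𝟙 _ := by rw [Category.assoc, hs]
  refine ⟨s ≫ U.ι, hs', fun h => ?_⟩
  exact (s (default : PrimeSpectrum k)).2 ⟨h, Curves.RationalPoint.isClosed_pt _ hs'⟩

end Points

section Pull

variable {k : Type u} [Field k] {X : Scheme.{u}} [X.Over (Spec (CommRingCat.of k))]
  [Smooth (X ↘ Spec (CommRingCat.of k))] [IsProper (X ↘ Spec (CommRingCat.of k))] [IsIntegral X]
  {K : Type u} [Field K] [Algebra k K] {XK : Scheme.{u}} [XK.Over (Spec (CommRingCat.of K))]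
  [IsProper (XK ↘ Spec (CommRingCat.of K))] [IsIntegral XK] {g : XK ⟶ X}
  (hpb : IsPullback g (XK ↘ Spec (CommRingCat.of K)) (X ↘ Spec (CommRingCat.of k))
    (Spec.map (CommRingCat.ofHom (algebraMap k K))))

include hpb in
/-- The point of `X_K` over a rational point and the pullback of its ideal. -/
theorem exists_point_over (hdim : topologicalKrullDim X = 1) (s : Spec (CommRingCat.of k) ⟶ X)
    (hs : s ≫ (X ↘ Spec (CommRingCat.of k)) = 𝟙 _) :
    ∃ (y : XK) (hy : IsClosed ({y} : Set XK)) (I : X.Modules), PicF.IsInvertible I ∧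
      g y = Curves.RationalPoint.pt s ∧
      Curves.Euler.hdim K XK (ClSub.quotMod (Curves.PointIdeal.ptI hy)) 0 = 1 ∧
      Nonempty ((Scheme.Modules.pullback g).obj I ≅
        ClSub.idealMod (Curves.PointIdeal.ptI hy)) := by
  let b := Spec.map (CommRingCat.ofHom (algebraMap k K))
  haveI : Flat b := inferInstance
  haveI : Flat g := MorphismProperty.of_isPullback hpb.flip inferInstance
  let sK : Spec (CommRingCat.of K) ⟶ XK := hpb.lift (b ≫ s) (𝟙 _) (by
    rw [Category.assoc, hs, Category.comp_id, Category.id_comp])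
  have hg : sK ≫ g = b ≫ s := hpb.lift_fst _ _ _
  have hsK : sK ≫ (XK ↘ Spec (CommRingCat.of K)) = 𝟙 _ := hpb.lift_snd _ _ _
  have hy := Curves.RationalPoint.isClosed_pt sK hsK
  have hx := Curves.RationalPoint.isClosed_pt s hs
  have hgy : g (Curves.RationalPoint.pt sK) = Curves.RationalPoint.pt s := by
    change (sK ≫ g) (default : PrimeSpectrum K) = _
    rw [hg]
    exact congrArg (fun p => s p) (Subsingleton.elim (α := PrimeSpectrum k) _ _)
  have sq : IsPullback b sK s g := by
    refine IsPullback.of_bot (v₂₁ := XK ↘ Spec (CommRingCat.of K))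
      (v₂₂ := X ↘ Spec (CommRingCat.of k)) (h₃₁ := b) ?_ hg.symm hpb
    rw [hs, hsK]
    exact IsPullback.of_vert_isIso ⟨by rw [Category.comp_id, Category.id_comp]⟩
  haveI : IsClosedImmersion (s ≫ (X ↘ Spec (CommRingCat.of k))) := by rw [hs]; infer_instance
  haveI : IsClosedImmersion s := IsClosedImmersion.of_comp s (X ↘ Spec (CommRingCat.of k))
  have hker := HilbD.FlatKer.ker_comap sq
  rw [Curves.RationalPoint.ker_eq s hs hx, Curves.RationalPoint.ker_eq sK hsK hy] at hker
  haveI := Curves.GlobalSections.isNoetherian_of_proper k X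
  have hE : BlowUp.IsEffCartierIdeal (Curves.PointIdeal.ptI hx) := by
    have hP := CurveBundle.SmoothField.isPrincipal_stalk k hdim (Curves.RationalPoint.pt s)
    have hmem : ∀ z ∈ (Curves.PointIdeal.ptI hx).support, z = Curves.RationalPoint.pt s :=
      fun z hz => by
        have : z ∈ ((Curves.PointIdeal.ptI hx).support : Set X) := hz
        rwa [Curves.PointIdeal.support_ptI] at this
    refine H4.CartierUFD.isEffCartier_of_assoc _ (fun z hz _ => ?_) fun z hz => ?_
    · obtain rfl := hmem z hz
      exact Curves.GenusZero.one_le_dim_stalk hdim hx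
    · obtain rfl := hmem z hz
      exact ⟨inferInstance, inferInstance⟩
  obtain ⟨e⟩ := ModelFibre.IdealPull.nonempty_pullback_idealMod g hE fun U r hr _ x hxU =>
    Ideal.EffCartier.germ_app_mem_nonZeroDivisors_of_flat g r x hxU (Flat.stalkMap g x)
      (Ideal.EffCartier.germ_mem_nonZeroDivisors U.2 hr (g x) hxU)
  rw [hker] at e
  exact ⟨_, hy, _, ClSub.Cartier.isInvertible_idealMod hE, hgy,
    (Curves.PointIdeal.hdim_quot_point (k := K) hy).trans
      (Curves.RationalPoint.finrank_residueField sK hsK), ⟨e⟩⟩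

variable [IsSepClosed k]

include hpb in
/-- Descending induction on `h⁰`. -/
theorem descend (hdim : topologicalKrullDim X = 1) (hdimK : topologicalKrullDim XK = 1)
    {L : XK.Modules} (hL : PicF.IsInvertible L) (n : ℕ) :
    ∀ L₀ : X.Modules, PicF.IsInvertible L₀ →
      Curves.Euler.hdim K XK (CohB1.tensorMod L ((Scheme.Modules.pullback g).obj L₀)) 0 = n + 1 →
      Subsingleton (Coh.HH XK (CohB1.tensorMod L ((Scheme.Modules.pullback g).obj L₀)) 1) →
      ∃ L₀ : X.Modules, PicF.IsInvertible L₀ ∧
        Module.finrank K (Coh.HH XK (CohB1.tensorMod L ((Scheme.Modules.pullback g).obj L₀)) 0) = 1 ∧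
        Subsingleton (Coh.HH XK (CohB1.tensorMod L ((Scheme.Modules.pullback g).obj L₀)) 1) := by
  induction n with
  | zero => exact fun L₀ hL₀ h0 h1 => ⟨L₀, hL₀, h0, h1⟩
  | succ n ih =>
    intro L₀ hL₀ h0 h1
    have hM := TensorMod.Invertible.isInvertible_tensorMod hL (PicLoc.isInvertible_pullback g hL₀)
    obtain ⟨Z, hZ, hdrop⟩ := exists_bad_set (K := K) hdimK hM (by rw [h0]; omega)
    obtain ⟨s, hs, hsF⟩ := exists_section_avoiding (k := k) hdim (hZ.image fun z => g z)
    obtain ⟨y, hy, I, hI, hgy, hq, ⟨e⟩⟩ := exists_point_over hpb hdim s hs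
    have hlt := hdrop y hy fun h => hsF ⟨y, h, hgy⟩
    obtain ⟨hn, hv⟩ := drop_one hdimK.le hy hq hM h1 hlt
    let ε : CohB1.tensorMod L ((Scheme.Modules.pullback g).obj (CohB1.tensorMod I L₀)) ≅
        CohB1.tensorMod (ClSub.idealMod (Curves.PointIdeal.ptI hy))
          (CohB1.tensorMod L ((Scheme.Modules.pullback g).obj L₀)) :=
      tensorIso (Iso.refl L) (TensorMod.Pullback.pullbackTensorIso g I L₀ ≪≫
          tensorIso e (Iso.refl _)) ≪≫
        (assoc L _ _).symm ≪≫ tensorIso (comm L _) (Iso.refl _) ≪≫ assoc _ L _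
    refine ih _ (TensorMod.Invertible.isInvertible_tensorMod hI hL₀) ?_ ?_
    · rw [Curves.Euler.hdim_eq_of_iso ε 0]
      omega
    · exact (Curves.LES.isoK K ε 1).toEquiv.subsingleton

end Pull

end Groth.Agent.S6487

namespace Groth.Agent.S6487

open Groth.Agent.Lib Groth.Agent.Lib.TensorMod.Basic

/-- Let k be a separably closed field, X a smooth projective curve over k, K/k a field extension and L
an invertible sheaf on X_K. Then there is an invertible sheaf L_0 on X with dim_K H^0(X_K, L ⊗
L_0|_{X_K}) = 1 and H^1(X_K, L ⊗ L_0|_{X_K}) = 0. The base change X_K is given as any pullback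
square over Spec K → Spec k with its K-structure; L_0|_{X_K} is the pullback module and ⊗ is
CohB1.tensorMod; proper replaces projective (equivalent for curves over a field). -/
theorem result (k : Type u) [Field k] [IsSepClosed k] (X : Scheme.{u}) [X.Over (Spec (CommRingCat.of k))] (hX : Curve.IsSmoothProperCurve k X (X ↘ Spec (CommRingCat.of k))) (K : Type u) [Field K] [Algebra k K] (XK : Scheme.{u}) [XK.Over (Spec (CommRingCat.of K))] (g : XK ⟶ X) (hpb : IsPullback g (XK ↘ Spec (CommRingCat.of K)) (X ↘ Spec (CommRingCat.of k)) (Spec.map (CommRingCat.ofHom (algebraMap k K)))) (L : XK.Modules) (hL : PicF.IsInvertible L) : ∃ L₀ : X.Modules, PicF.IsInvertible L₀ ∧ Module.finrank K (Coh.HH XK (CohB1.tensorMod L ((Scheme.Modules.pullback g).obj L₀)) 0) = 1 ∧ Subsingleton (Coh.HH XK (CohB1.tensorMod L ((Scheme.Modules.pullback g).obj L₀)) 1) := by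
  obtain ⟨hp, hsm, hint, hdim⟩ := hX
  haveI := hp; haveI := hsm; haveI := hint
  let b := Spec.map (CommRingCat.ofHom (algebraMap k K))
  haveI := Curves.BaseChange.isProper hpb
  haveI : Smooth (XK ↘ Spec (CommRingCat.of K)) := MorphismProperty.of_isPullback hpb inferInstance
  haveI : IsAffineHom g := MorphismProperty.of_isPullback hpb.flip (inferInstanceAs (IsAffineHom b))
  have hdimK : topologicalKrullDim XK = 1 :=
    (H56.DimBaseChange.topologicalKrullDim_baseChange b (X ↘ Spec (CommRingCat.of k))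
      (XK ↘ Spec (CommRingCat.of K)) g hpb).trans hdim
  haveI := Groth.Agent.H34.Stein.geometricallyConnected_of_isSepClosed
    (X ↘ Spec (CommRingCat.of k))
  haveI : ConnectedSpace XK :=
    GeometricallyConnected.geometrically_connectedSpace (f := X ↘ Spec (CommRingCat.of k)) b g
      (XK ↘ Spec (CommRingCat.of K)) hpb
  haveI : IsIntegral XK := CurveBundle.SmoothField.isIntegral K hdimK.le
  haveI := Curves.GlobalSections.isNoetherian_of_proper k X
  haveI := Curves.GlobalSections.isNoetherian_of_proper K XK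
  haveI : X.IsSeparated := ⟨by rw [← terminal.comp_from (X ↘ Spec (CommRingCat.of k))]; infer_instance⟩
  obtain ⟨A, hA⟩ := H97.CurveProj.exists_isAmple (X := X) hdim.le
  have hAK := Ample.Pullback.isAmple_pullback g (Ample.Pullback.isQuasiAffine_of_isAffineHom g) hA
  have hLc := Ample.GG.isCoh_of_isInvertible hL
  obtain ⟨n₁, hn₁⟩ := SurfInt.AmpleVanish.exists_subsingleton (k := K) hAK hLc
  obtain ⟨n₂, hn₂⟩ := Ample.GG.eventually_genAt_twist hAK L hLc
  set n := max n₁ n₂
  obtain ⟨e⟩ := ModelFibre.TorsGen.nonempty_pullback_tensorPow g A n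
  have hP := TensorMod.Invertible.isInvertible_tensorPow hA.1 n
  have hM := TensorMod.Invertible.isInvertible_tensorMod hL
    (TensorMod.Invertible.isInvertible_tensorPow hAK.1 n)
  obtain ⟨σ, hσ⟩ := Ample.GG.exists_genLocus_of_genAt hM
    (hn₂ n (le_max_right _ _) (genericPoint XK))
  haveI := AffineCompl.Basic.mono_of_genLocus_nonempty hM σ ⟨_, hσ⟩
  let ε := tensorIso (Iso.refl L) e
  haveI : Subsingleton (Coh.HH XK (CohB1.tensorMod L
      (CohB1.tensorPow ((Scheme.Modules.pullback g).obj A) n)) 1) := hn₁ n (le_max_left _ _) 0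
  haveI := Curves.PointIdeal.finite_h0 (k := K) hdimK.le hM
  have hpos : 0 < Curves.Euler.hdim K XK (CohB1.tensorMod L
      (CohB1.tensorPow ((Scheme.Modules.pullback g).obj A) n)) 0 := by
    refine lt_of_lt_of_le ?_ (Curves.Euler.hdim_zero_le_of_mono (k := K) σ)
    haveI := Curves.GlobalSections.finite_h0_structure K XK
    haveI : Nontrivial (Coh.HH XK (Coh.structureModule XK) 0) :=
      (Curves.GlobalSections.h0Equiv (Coh.structureModule XK)).toEquiv.nontrivial_congr.mpr
        (inferInstanceAs (Nontrivial Γ(XK, ⊤)))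
    exact Module.finrank_pos
  obtain ⟨m, hm⟩ := Nat.exists_eq_succ_of_ne_zero hpos.ne'
  exact descend hpb hdim hdimK hL m _ hP ((Curves.Euler.hdim_eq_of_iso ε 0).trans hm)
    (Curves.LES.isoK K ε 1).toEquiv.subsingleton

end Groth.Agent.S6487
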