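import Groth.Statements.S6488
import Groth.Agent.Lib.Cyc.Deform.Main

set_option autoImplicit false
universe u
open CategoryTheory AlgebraicGeometry
open Cyc

namespace Groth.Agent.S6488

/-- Let (L, s, i : D → X) be a triple defining a Gysin map. There is a commutative diagram with i' : D'
→ X', p : D' → D, g : X' → X (p ≫ i = i' ≫ g) such that (1) p and g are flat, of finite type, with
all fibre components of dimension 1, (2) p^* : CH_k(D) → CH_{k+1}(D') is injective for all k, (3) i'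
identifies D' with the vanishing scheme in X' of a single global function s' ∈ Γ(X', O_{X'}), and
(4) p^* ∘ i^* = (i')^* ∘ g^* : CH_{k+1}(X) → CH_{k+1}(D'). Dimension functions on X', D' are the
induced ones; Gysin maps are computed as c_1 ∩ − with the sections s, s' where nonzero and arbitrary
nonzero fallbacks. (The published statement adds that these properties survive any base change Y → X
locally of finite type; this row omits that addendum.) Here a pair (X, δ) with Cyc.IsSetup plays the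
role of a scheme locally of finite type over the base (S, δ) (X locally Noetherian with universally
catenary local rings, δ a dimension function), and Cyc.DeltaCompat records that the dimension
function upstairs is the induced one. -/
theorem result (X D : Scheme.{u}) (δ : X → ℤ) (hX : Cyc.IsSetup X δ) (L : X.Modules) (hL : PicF.IsInvertible L) (s : L.presheaf.obj (Opposite.op ⊤)) (i : D ⟶ X) [IsClosedImmersion i] (hD : Cyc.IsZeroSchemeOf i L s) : ∃ (X' D' : Scheme.{u}) (i' : D' ⟶ X') (p : D' ⟶ D) (g : X' ⟶ X) (_ : IsClosedImmersion i') (_ : Flat p) (_ : Flat g) (_ : LocallyOfFiniteType p) (_ : LocallyOfFiniteType g) (_ : QuasiCompact p) (_ : QuasiCompact g) (δX' : X' → ℤ) (δD' : D' → ℤ) (s' : (Coh.structureModule X').presheaf.obj (Opposite.op ⊤)), i' ≫ g = p ≫ i ∧ Cyc.IsSetup X' δX' ∧ Cyc.DeltaCompat g δX' δ ∧ (∀ d', δD' d' = δX' (i' d')) ∧ Cyc.HasRelDim p 1 ∧ Cyc.HasRelDim g 1 ∧ Cyc.IsZeroSchemeOf i' (Coh.structureModule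 X') s' ∧ (∀ (k : ℤ) (β : AlgebraicCycle D ℤ), β ∈ Cyc.Zk D (fun d => δ (i d)) k → ∀ β' : AlgebraicCycle D' ℤ, ⇑β' = Cyc.pullFun p δD' (fun d => δ (i d)) 1 ⇑β → Cyc.RatEquivZero δD' (k + 1) β' → Cyc.RatEquivZero (fun d => δ (i d)) k β) ∧ ∀ (k : ℤ) (α : AlgebraicCycle X ℤ), α ∈ Cyc.Zk X δ (k + 1) → ∀ (w : (ξ : X) → Cyc.secFibre L ξ), (∀ ξ, w ξ ≠ 0) → ∀ (w' : (ξ : X') → Cyc.secFibre (Coh.structureModule X') ξ), (∀ ξ, w' ξ ≠ 0) → ∀ ζ₁ ζ₂ : AlgebraicCycle D' ℤ, ⇑ζ₁ = Cyc.pullFun p δD' (fun d => δ (i d)) 1 (fun d => Cyc.c1CapFun δ L ⇑α (Cyc.gysinChoice L s w) (i d)) → (∀ d', ζ₂ d' = Cyc.c1CapFun δX' (Coh.structureModule X') (Cyc.pullFun g δX' δ 1 ⇑α) (Cyc.gysinChoice (Coh.structureModule X') s' w') (i' d')) → Cyc.RatEquiv δD' (k + 1) ζ₁ ζ₂ := by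
  haveI := hX.1
  obtain ⟨M⟩ := Lib.Cyc.Deform.nonempty_model s hL i hD
  haveI := M.closed_i'
  haveI := M.closed_z
  haveI := M.chartsP.flat
  haveI := M.chartsP.lft
  haveI := M.chartsP.quasiCompact
  obtain ⟨δ', hX', hg⟩ := Lib.Cyc.CH.exists_setup (Lib.Cyc.Deform.proj s hL) hX
  haveI := hX'.1
  haveI : IsLocallyNoetherian D := LocallyOfFiniteType.isLocallyNoetherian i
  haveI : IsLocallyNoetherian M.D' := LocallyOfFiniteType.isLocallyNoetherian M.i'
  have hDs : Cyc.IsSetup D (fun d => δ (i d)) :=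
    Lib.Cyc.CH.isSetup_of_deltaCompat i hX (Lib.Cyc.PP.SubSetup.deltaCompat i)
  have hD's : Cyc.IsSetup M.D' (fun d => δ' (M.i' d)) :=
    Lib.Cyc.CH.isSetup_of_deltaCompat M.i' hX' (Lib.Cyc.PP.SubSetup.deltaCompat M.i')
  have hcp : Cyc.DeltaCompat M.p (fun d => δ' (M.i' d)) (fun d => δ (i d)) :=
    Lib.Cyc.CH.deltaCompat_of_comm (π := i) (π' := M.i') (f := Lib.Cyc.Deform.proj s hL) M.wp.symm
      (Lib.Cyc.PP.SubSetup.deltaCompat i) (Lib.Cyc.PP.SubSetup.deltaCompat M.i') hg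
  have hrg := Lib.Cyc.Deform.hasRelDim_proj M hD hX
  have hrp := M.chartsP.hasRelDim hD's
  have hsp : Lib.Cyc.FP.Main.Shift M.p (fun d => δ' (M.i' d)) (fun d => δ (i d)) 1 := by
    exact_mod_cast Lib.Cyc.FP.Main.shift_of_hasRelDim M.p hrp hcp
  have hsg : Lib.Cyc.FP.Main.Shift (Lib.Cyc.Deform.proj s hL) δ' δ 1 := by
    exact_mod_cast Lib.Cyc.FP.Main.shift_of_hasRelDim _ hrg hg
  have hδD := hDs.2.2
  have hδD' := hD's.2.2
  refine ⟨Lib.Cyc.Deform.space s hL, M.D', M.i', M.p, Lib.Cyc.Deform.proj s hL, inferInstance,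
    inferInstance, inferInstance, inferInstance, inferInstance, inferInstance, inferInstance, δ',
    fun d => δ' (M.i' d), M.τ, M.wp, hX', hg, fun _ => rfl, hrp, hrg, M.hi', ?_, ?_⟩
  · intro k β hβ β' hβ' h0
    have hMi := _root_.PicLoc.isInvertible_pullback M.i'
      (_root_.PicLoc.isInvertible_pullback (Lib.Cyc.Deform.proj s hL) hL)
    obtain ⟨w₁, hw₁⟩ := Lib.Cyc.CH.exists_sections hMi
    obtain ⟨β'', hβ'', e⟩ := Lib.Cyc.CH.PullExists.exists_pullFun (δX := fun d => δ' (M.i' d)) M.p 1 hβ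
    obtain rfl : β'' = β' := Function.locallyFinsuppWithin.ext fun x => congrFun (e.trans hβ'.symm) x
    have h1 := Lib.Cyc.CH.pull_cls hδD' hδD M.p hsp hβ rfl hβ'' e
    rw [(Lib.Cyc.CH.cls_eq_zero_iff hδD' hβ'').2 h0] at h1
    have ez : (fun d => δ (i d)) = fun d => δ' (M.i' (M.z d)) := funext fun d => by
      have e : (M.z ≫ M.i') ≫ Lib.Cyc.Deform.proj s hL = i := by
        rw [Category.assoc, M.wp, ← Category.assoc, M.z_p, Category.id_comp]
      obtain ⟨n, hn, hn'⟩ := Lib.Cyc.Residue.exists_trdegAt hg (M.i' (M.z d))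
      have h1 := Lib.Cyc.Deform.trdegAt_closed (M.z ≫ M.i') (Lib.Cyc.Deform.proj s hL) d
      rw [Lib.Cyc.FieldDim.trdegAt_congr e d, Lib.Cyc.FieldDim.trdegAt_eq_zero_of_surjective i _
        (Lib.Cyc.FieldDim.residueFieldMap_surjective (f := i) _), Scheme.Hom.comp_apply, hn] at h1
      have hn0 : n = 0 := by exact_mod_cast h1.symm
      have h2 : Lib.Cyc.Deform.proj s hL (M.i' (M.z d)) = i d := by
        rw [← Scheme.Hom.comp_apply, ← Scheme.Hom.comp_apply, ← Category.assoc, e]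
      rw [h2] at hn'
      omega
    have h2 := Lib.Cyc.Deform.gys_sec M.p M.z M.z_p hMi M.hz hw₁ hδD' hδD hsp ez
      (Lib.Cyc.CH.cls (fun d => δ (i d)) k β hβ)
    rw [h1, map_zero] at h2
    have h3 := Lib.Cyc.Deform.cast_injective ez (h2.symm.trans (map_zero _).symm)
    exact (Lib.Cyc.CH.cls_eq_zero_iff hδD hβ).1 h3
  · intro k α hα w hw w' hw' ζ₁ ζ₂ e₁ e₂
    obtain ⟨a, ha, ea⟩ := Lib.Cyc.CH.PullExists.exists_pullFun (δX := δ') (Lib.Cyc.Deform.proj s hL) 1 hα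
    obtain ⟨b, hb, eb⟩ := Lib.Cyc.CH.exists_gys_cycle M.i' hX'.2.2
      (_root_.PicLoc.isInvertible_structureModule _) (s := M.τ) hw' ha
    obtain ⟨c, hc, ec⟩ := Lib.Cyc.CH.exists_gys_cycle i hX.2.2 hL (s := s) hw hα
    obtain ⟨c', hc', ec'⟩ := Lib.Cyc.CH.PullExists.exists_pullFun (δX := fun d => δ' (M.i' d)) M.p 1 hc
    obtain rfl : c' = ζ₁ := Function.locallyFinsuppWithin.ext fun x => by
      rw [ec', show ⇑c = _ from funext ec]
      exact (congrFun e₁ x).symm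
    obtain rfl : b = ζ₂ := Function.locallyFinsuppWithin.ext fun x => by
      rw [eb, e₂, ea]
    have hb' : b ∈ Cyc.Zk M.D' (fun d => δ' (M.i' d)) (k + 1) := by
      rwa [show k + 1 + 1 - 1 = k + 1 by ring] at hb
    have hc'' : c' ∈ Cyc.Zk M.D' (fun d => δ' (M.i' d)) (k + 1) := by
      rwa [show k + 1 - 1 + 1 = k + 1 by ring] at hc'
    have key := Lib.Cyc.Deform.gys_eq M hX hD hX' hg hsg hsp (M.chartsP.data hD's hcp) hw hw'
      (Lib.Cyc.CH.cls δ (k + 1) α hα)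
    rw [Lib.Cyc.CH.pull_cls hX'.2.2 hX.2.2 _ hsg hα rfl ha ea,
      Lib.Cyc.CH.gys_cls M.i' hX'.2.2 _ M.hi' hw' ha (by ring) hb' eb,
      Lib.Cyc.CH.gys_cls i hX.2.2 hL hD hw hα rfl hc ec,
      Lib.Cyc.CH.pull_cls _ _ M.p hsp hc (by ring) hc'' ec'] at key
    exact (Lib.Cyc.CH.cls_eq_iff hδD' hc'' hb').1 key.symm

end Groth.Agent.S6488
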