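import Groth.Statements.S6494
import Groth.Agent.S6450
import Groth.Agent.S1950
import Groth.Agent.H19.IntMult.SectDiv


set_option autoImplicit false
universe u
open CategoryTheory CategoryTheory.Limits AlgebraicGeometry
attribute [local instance] HasDerivedCategory.standard
open IntMult

namespace Groth.Agent.S6494

open Groth.Agent.Lib Groth.Agent.Lib.Cyc Groth.Agent.H19.IntMult

theorem mult_one_indicator {X : Scheme.{u}} (δ : X → ℤ) (n : ℤ) (a : X) (β : X → ℤ) (ζ : X)
    (h : IntMult.interProd δ n (Set.indicator {a} 1) β ζ ≠ 0) :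
    ∃ b, β b ≠ 0 ∧ a ⤳ ζ ∧ b ⤳ ζ ∧ δ a + δ b - n = δ ζ := by
  obtain ⟨⟨⟨x, b⟩, h1, h2, h3⟩, hne⟩ := not_forall.1 fun h' => h (finsum_eq_zero_of_forall_eq_zero h')
  have e : x = a := by simpa using Set.mem_of_indicator_ne_zero (left_ne_zero_of_mul (left_ne_zero_of_mul hne))
  subst e
  exact ⟨b, right_ne_zero_of_mul (left_ne_zero_of_mul hne), h1, h2, h3⟩

/-- A prime cycle. -/
theorem exists_prime {X : Scheme.{u}} (x : X) : ∃ c : AlgebraicCycle X ℤ, ⇑c = Set.indicator {x} 1 :=
  ⟨{ toFun := Set.indicator {x} 1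
     supportWithinDomain' := Set.subset_univ _
     supportLocallyFiniteWithinDomain' := fun _ _ => ⟨Set.univ, Filter.univ_mem,
       (Set.finite_singleton x).subset fun y hy => by simpa using Set.mem_of_indicator_ne_zero hy.2⟩ }, rfl⟩



/-- Let X → P be a closed immersion of nonsingular varieties and C' ⊂ P × P^1 a closed subvariety of
dimension r + 1 with (1) the fibre C = C'_0 of dimension r (C' → P^1 dominant), (2) C' and X × P^1
intersecting properly, (3) [C]_r and X intersecting properly. Then, with α = [C]_r · X and β = C' ·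
(X × P^1), one has α = pr_{X,*}(β · (X × 0)). Stated on P × P^1: α = pr_*((C' · (X × P^1)) · (P ×
0)) as cycles on P. (The published statement takes the product of β with X × 0 on X × P^1 and pushes
it forward along X × P^1 → X; this row takes the product of C′ · (X × P^1) with P × 0 on P × P^1 and
pushes it forward along P × P^1 → P, which is the same cycle on P.) Encoding: P × P^1 =
CohB1.ProjSpaceOver 1 P with projection pr and zero section P1.sect P 0; dimension functions δP, δ'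
(transcendence degree); C'_0 is the pullback of C' along the zero section and [C]_r its r-cycle
(Cyc.subschemeFun); X × P^1 and P × 0 enter as the prime cycles of their generic points; products
are IntMult.interProd on P (dim N_P) and on P × P^1 (dim N_P + 1). Here P and X are nonsingular
varieties over the algebraically closed field K (smooth, separated, quasi-compact, integral), δP is
the dimension function on P (transcendence degree over K, recorded by Cyc.DeltaCompat to Spec K with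
value 0, together with Cyc.IsSetup), N_P = δP of the generic point of P and n = δP of the generic
point of X; proper intersection is IntMult.IntersectProperly / IntMult.ProperInt and products are
IntMult.interProd. -/
theorem result (K : Type u) [Field K] [IsAlgClosed K] (P : Scheme.{u}) (fP : P ⟶ Spec (CommRingCat.of K)) [Smooth fP] [IsSeparated fP] [QuasiCompact fP] [IsIntegral P] (δP : P → ℤ) (hP : Cyc.IsSetup P δP) (hδP : Cyc.DeltaCompat fP δP (fun _ => 0)) (NP : ℕ) (hNP : δP (genericPoint P) = NP) (δ' : ↥(CohB1.ProjSpaceOver 1 P) → ℤ) (hP' : Cyc.IsSetup (CohB1.ProjSpaceOver 1 P) δ') (hδ' : Cyc.DeltaCompat (CohB1.ProjSpaceOver.toBase 1 P) δ' δP) [QuasiCompact (CohB1.ProjSpaceOver.toBase 1 P)] (X : Scheme.{u}) (fX : X ⟶ Spec (CommRingCat.of K)) [Smooth fX] [IsSeparated fX] [QuasiCompact fX] [IsIntegral X] (ι : X ⟶ P) [IsClosedImmersion ι] (hι : ι ≫ fP = fX) (n : ℕ) (hn : δP (ι (genericPoint X)) = n) (ζX : ↥(CohB1.ProjSpaceOver 1 P)) (hζ1 : CohB1.ProjSpaceOver.toBase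 1 P ζX = ι (genericPoint X)) (hζ2 : δ' ζX = n + 1) (C' : Scheme.{u}) [IsIntegral C'] (ι' : C' ⟶ CohB1.ProjSpaceOver 1 P) [IsClosedImmersion ι'] (r : ℕ) (hr : δ' (ι' (genericPoint C')) = r + 1) (hC0 : ∀ w : ↥(pullback ι' (P1.sect P 0)), δP (pullback.snd ι' (P1.sect P 0) w) ≤ r) (hC0ne : Nonempty ↥(pullback ι' (P1.sect P 0))) (h2 : IntMult.ProperInt (closure {ι' (genericPoint C')}) (⇑(CohB1.ProjSpaceOver.toBase 1 P) ⁻¹' Set.range ⇑ι) (NP + 1) (r + 1) (n + 1)) (h3 : IntMult.IntersectProperly δP NP (Cyc.subschemeFun δP r (pullback.snd ι' (P1.sect P 0))) (Set.indicator {ι (genericPoint X)} 1)) (B : AlgebraicCycle (CohB1.ProjSpaceOver 1 P) ℤ) (hB : ⇑B = IntMult.interProd δ' (NP + 1) (IntMult.interProd δ' (NP + 1) (Set.indicator {ι' (genericPoint C')} 1) (Set.indicator {ζX} 1)) (Set.indicator {P1.sect P 0 (genericPoint P)} 1)) : ⇑(AlgebraicCycle.map (CohB1.ProjSpaceOver.toBase 1 P) δ' δP B) = IntMult.interProd δP NP (Cyc.subschemeFun δP r (pullback.snd ι' (P1.sect P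 0))) (Set.indicator {ι (genericPoint X)} 1) := by
  classical
  haveI := hP.1
  let Q : Scheme.{u} := CohB1.ProjSpaceOver 1 P
  let pr := CohB1.ProjSpaceOver.toBase 1 P
  haveI : IsLocallyNoetherian (CohB1.ProjSpaceOver 1 P) := hP'.1
  haveI : IsIntegral (CohB1.ProjSpaceOver 1 P) := P1Bundle.isIntegral fP
  have dQ := hP'.2.2
  have dP := hP.2.2
  let gQ := CohB1.ProjSpaceOver.toBase 1 P ≫ fP
  have hgQ : Cyc.DeltaCompat gQ δ' (fun _ => 0) := Residue.deltaCompat_comp hδ' hδP
  have hQN : δ' (genericPoint ↥(CohB1.ProjSpaceOver 1 P)) = (NP : ℤ) + 1 := by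
    rw [P1Bundle.delta_genericPoint hδ', hNP]
  set ξC := ι' (genericPoint C') with hξC
  set pX := ι (genericPoint X) with hpX
  set z₀ := P1.sect P 0 (genericPoint P) with hz₀
  have hz₀N : δ' z₀ = NP := by rw [hz₀, P1Bundle.delta_sect hδ', hNP]
  have hprs : ∀ c, pr (P1.sect P 0 c) = c := fun c => by
    rw [← Scheme.Hom.comp_apply, P1Bundle.sect_toBase]; rfl
  have hsect : ∀ ζ, z₀ ⤳ ζ → ∃ c, P1.sect P 0 c = ζ := fun ζ h =>
    ((P1.sect P 0).isClosedEmbedding.isClosed_range.closure_subset_iff.2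
      (Set.singleton_subset_iff.2 ⟨_, rfl⟩) : closure {z₀} ⊆ Set.range (P1.sect P 0)) h.mem_closure
  have hle : ∀ w, δP (pullback.snd ι' (P1.sect P 0) w) ≤ (r : ℤ) := hC0
  -- a point of both C' and the section comes from the fibre
  have hfib : ∀ c, ξC ⤳ P1.sect P 0 c → ∃ w, pullback.snd ι' (P1.sect P 0) w = c := fun c h => by
    obtain ⟨v, hv⟩ := (ι'.isClosedEmbedding.isClosed_range.closure_subset_iff.2
      (Set.singleton_subset_iff.2 ⟨_, rfl⟩) : closure {ξC} ⊆ Set.range ι') h.mem_closure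
    obtain ⟨w, -, hw⟩ := SectDiv.exists_point ι' 0 v c hv
    exact ⟨w, hw⟩
  have hCS : ∀ ζ, ξC ⤳ ζ → z₀ ⤳ ζ → δ' ζ ≤ (r : ℤ) := fun ζ h1 h2' => by
    obtain ⟨c, rfl⟩ := hsect ζ h2'
    obtain ⟨w, rfl⟩ := hfib c h1
    rw [P1Bundle.delta_sect hδ']
    exact hle w
  have hprX : ∀ ζ, ζX ⤳ ζ → pX ⤳ pr ζ := fun ζ h => hζ1 ▸ h.map pr.continuous
  have hCX : ∀ ζ, ξC ⤳ ζ → ζX ⤳ ζ → δ' ζ ≤ (r + 1 : ℤ) + (n + 1) - (NP + 1) := fun ζ h1 h2' => by
    have hmem : ζ ∈ closure {ξC} ∩ ⇑pr ⁻¹' Set.range ⇑ι :=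
      ⟨h1.mem_closure, (ι.isClosedEmbedding.isClosed_range.closure_subset_iff.2
        (Set.singleton_subset_iff.2 ⟨_, rfl⟩) : closure {pX} ⊆ Set.range ι) (hprX ζ h2').mem_closure⟩
    obtain ⟨h3', h4⟩ := h2 ⟨ζ, hmem⟩
    have hsub : closure {ζ} ⊆ closure {ξC} ∩ ⇑pr ⁻¹' Set.range ⇑ι :=
      (isClosed_closure.inter (ι.isClosedEmbedding.isClosed_range.preimage pr.continuous)).closure_subset_iff.2
        (Set.singleton_subset_iff.2 hmem)
    have h5 := (Topology.IsEmbedding.inclusion hsub).isInducing.topologicalKrullDim_le.trans h4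
    rw [FieldDim.topologicalKrullDim_closure gQ ζ] at h5
    have h6 : δ' ζ = FieldDim.fdelta gQ ζ := by
      obtain ⟨k, hk, hk'⟩ := hgQ ζ
      rw [hk', zero_add]
      unfold FieldDim.fdelta
      rw [show Residue.trdegAt gQ ζ = (k : Cardinal.{u}) from hk, Cardinal.toNat_natCast]
    have h7 : (FieldDim.fdelta gQ ζ).toNat ≤ r + 1 + (n + 1) - (NP + 1) := by exact_mod_cast h5
    have h8 := FieldDim.fdelta_nonneg gQ ζ
    omega
  have hXS : ∀ ζ, ζX ⤳ ζ → z₀ ⤳ ζ → δ' ζ ≤ (n : ℤ) := fun ζ h1 h2' => by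
    obtain ⟨c, rfl⟩ := hsect ζ h2'
    rw [P1Bundle.delta_sect hδ']
    have h := hprX _ h1
    rw [hprs] at h
    exact hn ▸ DimFun.le_of_specializes dP h
  have hCXS : ∀ ζ, ξC ⤳ ζ → z₀ ⤳ ζ → ζX ⤳ ζ → δ' ζ ≤ (r : ℤ) + n - NP := fun ζ h1 h2' h4 => by
    obtain ⟨c, rfl⟩ := hsect ζ h2'
    obtain ⟨w, rfl⟩ := hfib c h1
    obtain ⟨w₀, hw₀, hd, hpos⟩ := SectDiv.exists_component ι' hP hδ' hr 0 hle w
    rw [P1Bundle.delta_sect hδ']
    have hsp := hw₀.map (pullback.snd ι' (P1.sect P 0)).continuous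
    have hne : Cyc.subschemeFun δP r (pullback.snd ι' (P1.sect P 0)) (pullback.snd ι' (P1.sect P 0) w₀) ≠ 0 := by
      rw [Cyc.subschemeFun, if_pos hd,
        show {z | pullback.snd ι' (P1.sect P 0) z = pullback.snd ι' (P1.sect P 0) w₀} = {w₀} from
          Set.ext fun z => (pullback.snd ι' (P1.sect P 0)).isClosedEmbedding.injective.eq_iff,
        finsum_mem_singleton]
      exact_mod_cast hpos.ne'
    have hp := hprX _ h4
    rw [hprs] at hp
    have := h3 _ pX _ hne (by simp) hsp hp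
    rw [hd, hn] at this
    exact this
  -- the intersection with the section
  let G := IntMult.interProd δ' (NP + 1) (Set.indicator {ξC} 1) (Set.indicator {z₀} 1)
  have hG := fun ζ => SectDiv.interProd_sect ι' gQ hδ' hNP hr 0 hle ζ
  let A : AlgebraicCycle (CohB1.ProjSpaceOver 1 P) ℤ :=
    { toFun := G
      supportWithinDomain' := Set.subset_univ _
      supportLocallyFiniteWithinDomain' := fun z _ => by
        obtain ⟨U, hU, hzU, hfin⟩ := DimFun.exists_open_finite_maxPts
          (isClosed_closure.inter isClosed_closure : IsClosed (closure {ξC} ∩ closure {z₀})) z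
        refine ⟨U, hU.mem_nhds hzU, hfin.subset fun x hx => ?_⟩
        obtain ⟨h1, h2', h3'⟩ := (hG x).1 hx.2
        refine ⟨hx.1, ⟨h2'.mem_closure, h3'.mem_closure⟩, fun y hy hyx => ?_⟩
        exact DimFun.eq_of_specializes_of_le dQ hyx
          ((hCS y (specializes_iff_mem_closure.2 hy.1) (specializes_iff_mem_closure.2 hy.2)).trans h1.ge) }
  have hA : A ∈ Cyc.Zk _ δ' (r : ℤ) := fun x hx => by_contra fun h => hx ((hG x).1 h).1
  obtain ⟨b, hb⟩ := exists_prime pX
  have hbk : b ∈ Cyc.Zk P δP (n : ℤ) := fun x hx => by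
    rw [congrFun hb x, Set.indicator_of_notMem]
    exact fun h => hx (by rw [show x = pX from h, hn])
  have hpull : Cyc.pullFun pr δ' δP ((1 : ℕ) : ℤ) (Set.indicator {pX} 1) = Set.indicator {ζX} 1 :=
    P1Bundle.pullFun_indicator dQ hδ' pX ζX hζ1 (by rw [hζ2, hn])
  -- associativity
  have hassoc := Groth.Agent.S6450.result K (CohB1.ProjSpaceOver 1 P) gQ δ' hP' hgQ ((NP : ℤ) + 1) hQN ζX ξC z₀
    (fun a c ζ ha hc h1 h2' => by
      rw [show a = ζX by simpa using Set.mem_of_indicator_ne_zero ha] at h1 ⊢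
      rw [show c = ξC by simpa using Set.mem_of_indicator_ne_zero hc] at h2' ⊢
      have := hCX ζ h2' h1; omega)
    (fun a c ζ ha hc h1 h2' => by
      rw [show a = ξC by simpa using Set.mem_of_indicator_ne_zero ha] at h1 ⊢
      rw [show c = z₀ by simpa using Set.mem_of_indicator_ne_zero hc] at h2' ⊢
      have := hCS ζ h1 h2'; omega)
    (fun a c ζ ha hc h1 h2' => by
      rw [show a = ζX by simpa using Set.mem_of_indicator_ne_zero ha] at h1 ⊢
      rw [show c = z₀ by simpa using Set.mem_of_indicator_ne_zero hc] at h2' ⊢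
      have := hXS ζ h1 h2'; omega)
    (fun ζ h1 h2' h3' => by have := hCXS ζ h2' h3' h1; omega)
  rw [Groth.Agent.S6450.interProd_comm δ' _ (Set.indicator {ζX} 1) (Set.indicator {ξC} 1)] at hassoc
  rw [← hassoc] at hB
  have hB' : ⇑B = IntMult.interProd δ' (NP + 1) ⇑A (Cyc.pullFun pr δ' δP ((1 : ℕ) : ℤ) ⇑b) := by
    rw [hB, hb, hpull]
    exact Groth.Agent.S6450.interProd_comm _ _ _ _
  -- the projection formula
  have hproj := Groth.Agent.S1950.result K (CohB1.ProjSpaceOver 1 P) P pr gQ fP rfl δ' δP hP' hP hgQ hδP hδ'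
    ((NP : ℤ) + 1) NP hQN hNP 1 (by omega) P1Bundle.hasRelDim r n A b hA hbk
    (fun a c ζ ha hc h1 h2' => by
      obtain ⟨e1, e2, e3⟩ := (hG a).1 ha
      rw [hb, hpull] at hc
      rw [show c = ζX by simpa using Set.mem_of_indicator_ne_zero hc] at h2' ⊢
      have := hCXS ζ (e2.trans h1) (e3.trans h1) h2'
      omega)
    B hB'
  rw [← hproj.2, hb]
  refine congrArg (fun F => IntMult.interProd δP (NP : ℤ) F (Set.indicator {pX} 1)) (funext fun c => ?_)
  -- the push forward of the intersection with the section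
  rw [Push.map_apply]
  have hval := (hG (P1.sect P 0 c)).2 c rfl
  rw [finsum_mem_eq_sum_of_inter_support_eq (t := {P1.sect P 0 c}), Finset.sum_singleton]
  · show A (P1.sect P 0 c) * _ = _
    rw [show A (P1.sect P 0 c) = G (P1.sect P 0 c) from rfl]
    rw [show G (P1.sect P 0 c) = _ from hval]
    have hdeg : AlgebraicCycle.mapCoeff pr δ' δP (P1.sect P 0 c) = 1 := by
      rw [AlgebraicCycle.mapCoeff, if_pos (show δ' (P1.sect P 0 c) = δP (pr (P1.sect P 0 c)) by
        rw [hprs, P1Bundle.delta_sect hδ'])]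
      have h := Residue.residueDegree_comp (P1.sect P 0) pr c
      rw [show P1.sect P 0 ≫ pr = 𝟙 P from P1Bundle.sect_toBase P 0, Scheme.Hom.residueDegree_id] at h
      first
      | exact Nat.eq_one_of_mul_eq_one_left h.symm
      | exact Nat.eq_one_of_mul_eq_one_right h.symm
    rw [hdeg, Nat.cast_one, mul_one]
  · ext x
    simp only [Set.mem_inter_iff, Set.mem_preimage, Set.mem_singleton_iff, Finset.coe_singleton]
    constructor
    · rintro ⟨hx, h⟩
      obtain ⟨-, -, h3'⟩ := (hG x).1 (left_ne_zero_of_mul h)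
      obtain ⟨c', rfl⟩ := hsect x h3'
      exact ⟨by rw [show c' = c from (hprs c').symm.trans hx], h⟩
    · rintro ⟨rfl, h⟩
      exact ⟨hprs c, h⟩

end Groth.Agent.S6494
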