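import Groth.Statements.S6495
import Groth.Agent.Lib.Cyc.LimCyc

set_option autoImplicit false
universe u
open CategoryTheory AlgebraicGeometry
open Cyc

namespace Groth.Agent.S6495

/-- Surjectivity of colim Z_k(X_i) → Z_k(X'): every k-cycle α' on the limit X' is g_i^*α for some i and
some k-cycle α on X_i, where g_i : X' → X_i is the projection and g_i^* the shift-0 base-change
pullback on coefficient functions. Setting: a directed inverse system (X_i) of quasi-compact schemes
with affine flat transition morphisms and limit X' (a limit cone), each X_i and X' carrying a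
dimension function with Cyc.IsSetup, and every transition map and every projection X' → X_i shifting
the dimension functions by c = 0 at generic points of fibres, so that the base-change pullbacks g^*
are Cyc.pullFun with shift 0. (The published statement takes X_i and X′ to be the base changes of
one quasi-compact scheme of finite type over a base S along S_i → S and lim S_i → S; this row allows
any such inverse system.) -/
theorem result (I : Type u) [Preorder I] [IsDirected I (fun a b => a ≤ b)] [Nonempty I] (D : Iᵒᵖ ⥤ Scheme.{u}) (c : Limits.Cone D) (hc : Limits.IsLimit c) (haff : ∀ (i j : Iᵒᵖ) (f : i ⟶ j), IsAffineHom (D.map f)) (hflat : ∀ (i j : Iᵒᵖ) (f : i ⟶ j), Flat (D.map f)) (hqc : ∀ i, CompactSpace ↥(D.obj i)) (δ : (i : Iᵒᵖ) → ↥(D.obj i) → ℤ) (δ' : ↥c.pt → ℤ) (hset : ∀ i, Cyc.IsSetup (D.obj i) (δ i)) (hset' : Cyc.IsSetup c.pt δ') (hshift : ∀ (i j : Iᵒᵖ) (f : i ⟶ j) (x : ↥(D.obj i)), (∀ y, D.map f y = D.map f x → y ⤳ x → y = x) → δ i x = δ j (D.map f x))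 (hflat' : ∀ i, Flat (c.π.app i)) (hshift' : ∀ (i : Iᵒᵖ) (x : ↥c.pt), (∀ y, c.π.app i y = c.π.app i x → y ⤳ x → y = x) → δ' x = δ i (c.π.app i x)) (k : ℤ) (α' : AlgebraicCycle c.pt ℤ) (hα' : α' ∈ Cyc.Zk c.pt δ' k) : ∃ (i : Iᵒᵖ) (α : AlgebraicCycle (D.obj i) ℤ), α ∈ Cyc.Zk (D.obj i) (δ i) k ∧ Cyc.pullFun (c.π.app i) δ' (δ i) 0 ⇑α = ⇑α' := by
  classical
  have := hset'.1
  have : ∀ {i j : Iᵒᵖ} (f : i ⟶ j), IsAffineHom (D.map f) := fun {i j} f => haff i j f
  have := hqc
  have : CompactSpace ↥c.pt := Lib.Lim.Basic.compactSpace_pt hc (Classical.arbitrary Iᵒᵖ)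
  -- the property of a stage isolating a point
  let P : Iᵒᵖ → c.pt → Prop := fun i x =>
    Ideal.map ((c.π.app i).stalkMap x).hom
      (IsLocalRing.maximalIdeal ((D.obj i).presheaf.stalk (c.π.app i x))) =
        IsLocalRing.maximalIdeal (c.pt.presheaf.stalk x) ∧
      ∀ y, c.π.app i y = c.π.app i x → Lib.Cyc.FibLen.IsMaxFib (c.π.app i) y → y = x
  have hmaxOf : ∀ i x, Ideal.map ((c.π.app i).stalkMap x).hom
      (IsLocalRing.maximalIdeal ((D.obj i).presheaf.stalk (c.π.app i x))) =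
        IsLocalRing.maximalIdeal (c.pt.presheaf.stalk x) →
      Lib.Cyc.FibLen.IsMaxFib (c.π.app i) x := fun i x h =>
    (@Lib.Cyc.FibLen.fibLen_ne_top_iff _ _ hset'.1 (c.π.app i) x).mp
      (by rw [Lib.Cyc.LimCyc.fibLen_eq_one _ x h]; exact ENat.one_ne_top)
  have hmono : ∀ {i j : Iᵒᵖ} (f : j ⟶ i) x, P i x → P j x := by
    intro i j f x hP
    refine ⟨le_antisymm ?_ (hP.1.ge.trans
      (Lib.Cyc.LimCyc.map_maximalIdeal_comp_le (c.π.app j) (D.map f) (c.π.app i) (c.w f) x)), ?_⟩
    · rw [Ideal.map_le_iff_le_comap]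
      intro a ha
      rw [Ideal.mem_comap, IsLocalRing.mem_maximalIdeal] at *
      exact fun hu => ha (isUnit_of_map_unit ((c.π.app j).stalkMap x).hom a hu)
    · intro y hy hymax
      have hflatj := hflat' j
      have h1 := hmaxOf i x hP.1
      have hw : ∀ w, c.π.app i w = D.map f (c.π.app j w) := fun w => by
        rw [← Scheme.Hom.comp_apply, c.w]
      refine hP.2 y (by rw [hw, hw, hy]) fun z hz hzy => hymax z ?_ hzy
      have hmid := (Lib.Cyc.FibLen.isMaxFib_of_comp (c.π.app j) (D.map f) x (by rw [c.w]; exact h1)).2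
      rw [hy]
      refine hmid _ ?_ (hy ▸ hzy.map (c.π.app j).continuous)
      rw [← hw, ← hw, hz, hw, hw, hy]
  have hex : ∀ x : c.pt, ∃ i, P i x := by
    intro x
    obtain ⟨i₀, h₀⟩ := Lib.Cyc.LimCyc.exists_map_maximalIdeal_eq hc x
    have hfin := Lib.Cyc.LimCyc.finite_isMaxFib (A := c.pt) (c.π.app i₀) (c.π.app i₀ x)
    suffices h : ∀ s : Finset c.pt, (∀ y ∈ s, y ≠ x) →
        ∃ (i : Iᵒᵖ) (_ : i ⟶ i₀), ∀ y ∈ s, c.π.app i y ≠ c.π.app i x by
      obtain ⟨i, f, hi⟩ := h (hfin.toFinset.erase x) fun y hy => Finset.ne_of_mem_erase hy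
      have hflati := hflat' i
      have hw : ∀ w, c.π.app i₀ w = D.map f (c.π.app i w) := fun w => by
        rw [← Scheme.Hom.comp_apply, c.w]
      have hmid := (Lib.Cyc.FibLen.isMaxFib_of_comp (c.π.app i) (D.map f) x
        (by rw [c.w]; exact hmaxOf i₀ x h₀)).2
      refine ⟨i, le_antisymm ?_ (h₀.ge.trans
        (Lib.Cyc.LimCyc.map_maximalIdeal_comp_le (c.π.app i) (D.map f) (c.π.app i₀) (c.w f) x)), ?_⟩
      · rw [Ideal.map_le_iff_le_comap]
        intro a ha
        rw [Ideal.mem_comap, IsLocalRing.mem_maximalIdeal] at *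
        exact fun hu => ha (isUnit_of_map_unit ((c.π.app i).stalkMap x).hom a hu)
      intro y hy hymax
      by_contra hne
      refine hi y (Finset.mem_erase.mpr ⟨hne, hfin.mem_toFinset.mpr ⟨by rw [hw, hw, hy],
        fun z hz hzy => hymax z ?_ hzy⟩⟩) hy
      rw [hy]
      refine hmid _ ?_ (hy ▸ hzy.map (c.π.app i).continuous)
      rw [← hw, ← hw, hz, hw, hw, hy]
    intro s
    induction s using Finset.induction_on with
    | empty => exact fun _ => ⟨i₀, 𝟙 i₀, fun y hy => absurd hy (Finset.notMem_empty y)⟩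
    | insert a s _ ih =>
      intro hs
      obtain ⟨i, f, hi⟩ := ih fun y hy => hs y (Finset.mem_insert_of_mem hy)
      obtain ⟨j, hj⟩ : ∃ j, c.π.app j a ≠ c.π.app j x := by
        by_contra! hall
        exact hs a (Finset.mem_insert_self _ _) (Lib.Lim.Topology.point_ext hc hall)
      obtain ⟨k, g, g', -⟩ := IsCofilteredOrEmpty.cone_objs i j
      refine ⟨k, g ≫ f, fun y hy he => ?_⟩
      have he' : ∀ {l : Iᵒᵖ} (u : k ⟶ l), c.π.app l y = c.π.app l x := fun u => by
        rw [← c.w u, Scheme.Hom.comp_apply, Scheme.Hom.comp_apply, he]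
      rcases Finset.mem_insert.mp hy with rfl | hy
      · exact hj (he' g')
      · exact hi y hy (he' g)
  choose ix hix using hex
  have hfin : (Function.support ⇑α').Finite := by
    simpa using (α'.locallyFiniteSupport).finite_inter_support_of_isCompact isCompact_univ
  obtain ⟨i, hi⟩ := IsCofiltered.inf_objs_exists (hfin.toFinset.image ix)
  have hPi : ∀ x, α' x ≠ 0 → P i x := fun x hx =>
    hmono (hi (Finset.mem_image_of_mem _ (hfin.mem_toFinset.mpr hx))).some x (hix x)
  have hmax : ∀ x, α' x ≠ 0 → Lib.Cyc.FibLen.IsMaxFib (c.π.app i) x :=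
    fun x hx => hmaxOf i x (hPi x hx).1
  let a : D.obj i → ℤ := fun ξ => if h : ∃ x, α' x ≠ 0 ∧ c.π.app i x = ξ then α' h.choose else 0
  have ha : ∀ x, α' x ≠ 0 → a (c.π.app i x) = α' x := by
    intro x hx
    have h : ∃ x', α' x' ≠ 0 ∧ c.π.app i x' = c.π.app i x := ⟨x, hx, rfl⟩
    have e : a (c.π.app i x) = α' h.choose := dif_pos h
    rw [e, (hPi x hx).2 h.choose h.choose_spec.2 (hmax _ h.choose_spec.1)]
  have hsupp : (Function.support a).Finite := by
    refine (hfin.image (c.π.app i)).subset fun ξ hξ => ?_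
    obtain ⟨x, hx, hxe⟩ : ∃ x, α' x ≠ 0 ∧ c.π.app i x = ξ := by
      by_contra h
      exact hξ (dif_neg h)
    exact ⟨x, hx, hxe⟩
  refine ⟨i, ⟨a, by simp, fun z _ => ⟨Set.univ, Filter.univ_mem,
    by rw [Set.univ_inter]; exact hsupp⟩⟩, ?_, ?_⟩
  · intro ξ hξ
    by_contra hne
    obtain ⟨x, hx, rfl⟩ : ∃ x, α' x ≠ 0 ∧ c.π.app i x = ξ := by
      by_contra h
      exact hne (dif_neg h)
    refine hξ ?_
    rw [← hshift' i x (hmax x hx)]
    by_contra hk
    exact hx (hα' x hk)
  · funext y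
    rw [Lib.Cyc.FibLen.pullFun_apply]
    by_cases hy : Lib.Cyc.FibLen.IsMaxFib (c.π.app i) y
    · rw [if_pos (by rw [add_zero]; exact hshift' i y hy)]
      by_cases h : ∃ x, α' x ≠ 0 ∧ c.π.app i x = c.π.app i y
      · obtain ⟨x, hx, hxy⟩ := h
        obtain rfl := (hPi x hx).2 y hxy.symm hy
        show a _ * _ = _
        rw [ha y hx, Lib.Cyc.LimCyc.fibLen_eq_one _ y (hPi y hx).1]
        simp
      · show a _ * _ = _
        have h0 : a (c.π.app i y) = 0 := dif_neg h
        rw [h0, zero_mul]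
        by_contra hne
        exact h ⟨y, fun hh => hne hh.symm, rfl⟩
    · rw [@Lib.Cyc.FibLen.toNat_fibLen_eq_zero _ _ hset'.1 _ y hy]
      simp only [Nat.cast_zero, mul_zero, ite_self]
      by_contra hne
      exact hy (hmax y fun hh => hne hh.symm)

end Groth.Agent.S6495
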