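import Groth.Statements.S6497
import Groth.Agent.S6496
import Groth.Agent.Lib.Cyc.FP.Rat
import Groth.Agent.Lib.Cyc.FP.Prime
import Groth.Agent.Lib.Cyc.LimStage

set_option autoImplicit false
universe u
open CategoryTheory AlgebraicGeometry
open Cyc

namespace Groth.Agent.S6497

/-- Injectivity of colim CH_k(X_i) → CH_k(X'): if α ∈ Z_k(X_i) and g_i^*α ∼_rat 0 on X' (for a cycle
with the pulled-back coefficients), then for some stage X_j above X_i the pullback of α to X_j is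
∼_rat 0. Setting: a directed inverse system (X_i) of quasi-compact schemes with affine flat
transition morphisms and limit X' (a limit cone), each X_i and X' carrying a dimension function with
Cyc.IsSetup, and every transition map and every projection X' → X_i shifting the dimension functions
by c = 0 at generic points of fibres, so that the base-change pullbacks g^* are Cyc.pullFun with
shift 0. (The published statement takes X_i and X′ to be the base changes of one quasi-compact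
scheme of finite type over a base S along S_i → S and lim S_i → S; this row allows any such inverse
system.) -/
theorem result (I : Type u) [Preorder I] [IsDirected I (fun a b => a ≤ b)] [Nonempty I] (D : Iᵒᵖ ⥤ Scheme.{u}) (c : Limits.Cone D) (hc : Limits.IsLimit c) (haff : ∀ (i j : Iᵒᵖ) (f : i ⟶ j), IsAffineHom (D.map f)) (hflat : ∀ (i j : Iᵒᵖ) (f : i ⟶ j), Flat (D.map f)) (hqc : ∀ i, CompactSpace ↥(D.obj i)) (δ : (i : Iᵒᵖ) → ↥(D.obj i) → ℤ) (δ' : ↥c.pt → ℤ) (hset : ∀ i, Cyc.IsSetup (D.obj i) (δ i)) (hset' : Cyc.IsSetup c.pt δ') (hshift : ∀ (i j : Iᵒᵖ) (f : i ⟶ j) (x : ↥(D.obj i)), (∀ y, D.map f y = D.map f x → y ⤳ x → y = x) → δ i x = δ j (D.map f x)) (hflat' : ∀ i, Flat (c.π.app i)) (hshift' : ∀ (i : Iᵒᵖ) (x : ↥c.pt), (∀ y, c.π.app i y = c.π.app i x → y ⤳ x → y = x) → δ' x = δ i (c.π.app i x)) (k : ℤ) (i : Iᵒᵖ) (α : AlgebraicCycle (D.obj i) ℤ) (hα : α ∈ Cyc.Zk (D.obj i) (δ i) k) (α' : AlgebraicCycle c.pt ℤ) (hα' : ⇑α' = Cyc.pullFun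 (c.π.app i) δ' (δ i) 0 ⇑α) (h0 : Cyc.RatEquivZero δ' k α') : ∃ (j : Iᵒᵖ) (f : j ⟶ i) (αj : AlgebraicCycle (D.obj j) ℤ), ⇑αj = Cyc.pullFun (D.map f) (δ j) (δ i) 0 ⇑α ∧ Cyc.RatEquivZero (δ j) k αj := by
  classical
  have := hset'.1
  have : ∀ j, IsLocallyNoetherian (D.obj j) := fun j => (hset j).1
  have := hqc
  have haff' : ∀ {a b : Iᵒᵖ} (f : a ⟶ b), IsAffineHom (D.map f) := fun {a b} f => haff a b f
  have := @haff'
  have := hflat'
  haveI : ∀ a : Iᵒᵖ, IsLocallyNoetherian (((Functor.const Iᵒᵖ).obj c.pt).obj a) := fun _ => hset'.1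
  have : CompactSpace ↥c.pt := Lib.Lim.Basic.compactSpace_pt hc (Classical.arbitrary Iᵒᵖ)
  obtain ⟨ι, ξ, g, hξ, hg, hlf, hsum⟩ := h0
  -- finitely many functions
  choose U hU hxU hfin using hlf
  obtain ⟨t, ht⟩ := isCompact_univ.elim_finite_subcover U hU fun x _ => Set.mem_iUnion.2 ⟨x, hxU x⟩
  haveI : Finite ι := Set.finite_univ_iff.1 <| (t.finite_toSet.biUnion fun x _ => hfin x).subset
    fun n _ => by
      obtain ⟨x, hx, hxn⟩ := Set.mem_iUnion₂.1 (ht (Set.mem_univ (ξ n)))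
      exact Set.mem_biUnion hx ⟨ξ n, subset_closure rfl, hxn⟩
  haveI : Fintype ι := Fintype.ofFinite ι
  -- lift the functions
  have hex : ∀ n, ∃ (j : Iᵒᵖ) (b : (D.obj j).residueField (c.π.app j (ξ n))),
      (c.π.app j).residueFieldMap (ξ n) b = g n := fun n => by
    obtain ⟨a, ha⟩ := c.pt.residue_surjective (ξ n) (g n)
    obtain ⟨j, b, hb⟩ := Lib.Cyc.LimCyc.exists_stalkMap_eq hc (ξ n) a
    refine ⟨j, (D.obj j).residue _ b, ?_⟩
    rw [← ha, ← hb]
    exact ConcreteCategory.congr_hom (Scheme.residue_residueFieldMap (c.π.app j) (ξ n)) b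
  choose jn bn hbn using hex
  obtain ⟨i₁, hi₁⟩ := IsCofiltered.inf_objs_exists (insert i (Finset.univ.image jn))
  obtain ⟨j, w, hiso⟩ := Lib.Cyc.LimStage.exists_isolated hc haff' hflat' i₁ (Finset.univ.image ξ)
  let u : j ⟶ i := w ≫ (hi₁ (Finset.mem_insert_self _ _)).some
  have hrange : ∀ {A B C : Scheme.{u}} (p : A ⟶ B) (q : B ⟶ C) (r : A ⟶ C) (_ : p ≫ q = r) (x : A)
      (b : C.residueField (r x)), ∃ b' : B.residueField (p x),
        p.residueFieldMap x b' = r.residueFieldMap x b := by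
    rintro A B C p q r rfl x b
    exact ⟨q.residueFieldMap (p x) b,
      (ConcreteCategory.congr_hom (Scheme.residueFieldMap_comp p q x) b).symm⟩
  choose b hb using fun n => hrange (c.π.app j)
    (D.map (w ≫ (hi₁ (Finset.mem_insert_of_mem (Finset.mem_image_of_mem jn (Finset.mem_univ n)))).some))
    (c.π.app (jn n)) (c.w _) (ξ n) (bn n)
  have hbg : ∀ n, (c.π.app j).residueFieldMap (ξ n) (b n) = g n := fun n => (hb n).trans (hbn n)
  have hb0 : ∀ n, b n ≠ 0 := fun n h => hg n (by rw [← hbg n, h]; exact map_zero _)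
  have hI : ∀ n, Lib.Cyc.LimStage.Isolated j (ξ n) :=
    fun n => hiso _ (Finset.mem_image_of_mem _ (Finset.mem_univ n))
  have hδj : ∀ n, δ j (c.π.app j (ξ n)) = k + 1 := fun n =>
    (hshift' j (ξ n) (Lib.Cyc.LimStage.isMaxFib (hI n))).symm.trans (hξ n)
  -- shifts
  have hS : ∀ (a b : Iᵒᵖ) (f : a ⟶ b), Lib.Cyc.FP.Main.Shift (D.map f) (δ a) (δ b) 0 :=
    fun a b f x hx => by rw [add_zero]; exact hshift a b f x hx
  have hS' : ∀ a : Iᵒᵖ, Lib.Cyc.FP.Main.Shift (c.π.app a) δ' (δ a) 0 :=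
    fun a x hx => by rw [add_zero]; exact hshift' a x hx
  -- pullbacks of cycles
  have mk : ∀ (a b : Iᵒᵖ) (f : a ⟶ b) (β : AlgebraicCycle (D.obj b) ℤ),
      ∃ β' : AlgebraicCycle (D.obj a) ℤ,
        ⇑β' = Cyc.pullFun (D.map f) (δ a) (δ b) 0 ⇑β := fun a b f β => by
    have hfs : (Function.support (Cyc.pullFun (D.map f) (δ a) (δ b) 0 ⇑β)).Finite := by
      have hβ : (Function.support ⇑β).Finite := by
        simpa using (β.locallyFiniteSupport).finite_inter_support_of_isCompact isCompact_univ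
      refine (hβ.biUnion fun η _ => Lib.Cyc.LimCyc.finite_isMaxFib (D.map f) η).subset fun y hy => ?_
      rw [Function.mem_support, Lib.Cyc.FibLen.pullFun_apply] at hy
      by_cases hm : Lib.Cyc.FibLen.IsMaxFib (D.map f) y
      · refine Set.mem_biUnion (x := D.map f y) ?_ ⟨rfl, hm⟩
        rw [Function.mem_support]
        intro h
        simp [h] at hy
      · simp [Lib.Cyc.FibLen.toNat_fibLen_eq_zero _ y hm] at hy
    exact ⟨⟨_, fun _ _ => trivial, fun z _ => ⟨Set.univ, Filter.univ_mem,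
      by rw [Set.univ_inter]; exact hfs⟩⟩, rfl⟩
  obtain ⟨αj, hαj⟩ := mk j i u α
  -- the divisors on the stage
  let d : D.obj j → ℤ := fun x => ∑ n, Cyc.divFun (δ j) (c.π.app j (ξ n)) (b n) x
  have hd : LocallyFiniteSupport d := fun x => by
    choose V hV hxV hVfin using fun n =>
      Lib.Cyc.Ord.exists_open_finite_divFun (hset j).2.2 (c.π.app j (ξ n)) (b n) x
    refine ⟨⋂ n, V n, (isOpen_iInter_of_finite hV).mem_nhds (Set.mem_iInter.2 hxV),
      (Set.finite_iUnion hVfin).subset ?_⟩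
    rintro z ⟨hzV, hz⟩
    obtain ⟨n, -, hn⟩ := Finset.exists_ne_zero_of_sum_ne_zero hz
    exact Set.mem_iUnion.2 ⟨n, Set.mem_iInter.1 hzV n, hn⟩
  let ρ : AlgebraicCycle (D.obj j) ℤ := ⟨d, fun _ _ => trivial, fun z _ => hd z⟩
  have hρ : Cyc.RatEquivZero (δ j) k ρ := ⟨ι, fun n => c.π.app j (ξ n), b, hδj, hb0,
    fun x => ⟨Set.univ, isOpen_univ, trivial, Set.toFinite _⟩,
    fun x => (finsum_eq_sum_of_fintype _).symm⟩
  have hρk : ρ ∈ Cyc.Zk (D.obj j) (δ j) k := fun x hx => Finset.sum_eq_zero fun n _ =>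
    dif_neg fun hc' => hx (by have := hc'.2; have := hδj n; omega)
  have hαjk : αj ∈ Cyc.Zk (D.obj j) (δ j) k := fun x hx => by
    rw [hαj, Lib.Cyc.FibLen.pullFun_apply]
    split_ifs with hs
    · rw [hα _ (fun he => hx (by omega)), zero_mul]
    · rfl
  have hzero : Cyc.pullFun (c.π.app j) δ' (δ j) 0 ⇑(αj - ρ) = 0 := by
    funext x
    rw [show ⇑(αj - ρ) = fun y => αj y - ρ y from rfl, Lib.Cyc.FP.Rat.pullFun_sub, hαj,
      Lib.Cyc.FibLen.pullFun_comp (c.π.app j) (D.map u) δ' (δ j) (δ i) 0 0 (hS' j) (hS j i u),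
      c.w u, add_zero, ← hα', hsum x, finsum_eq_sum_of_fintype, Pi.zero_apply, sub_eq_zero]
    refine Eq.symm ?_
    calc Cyc.pullFun (c.π.app j) δ' (δ j) 0 (fun y => ρ y) x
        = ∑ n, Cyc.pullFun (c.π.app j) δ' (δ j) 0 (Cyc.divFun (δ j) (c.π.app j (ξ n)) (b n)) x := by
          simp only [Lib.Cyc.FibLen.pullFun_apply]
          split_ifs
          · exact Finset.sum_mul _ _ _
          · exact Finset.sum_const_zero.symm
      _ = _ := Finset.sum_congr rfl fun n _ => by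
          rw [Lib.Cyc.FP.Prime.pullFun_divFun (c.π.app j) hset'.2.2 (hset j).2.2 (hS' j) (ξ n)
            (hI n).1 (hI n).2 (b n) (hb0 n) x, hbg n]
  obtain ⟨l, v, hv⟩ := Groth.Agent.S6496.result I D c hc haff hflat hqc δ δ' hset hset' hshift
    hflat' hshift' k j (αj - ρ) (fun x hx => by
      show αj x - ρ x = 0
      rw [hαjk x hx, hρk x hx, sub_zero]) hzero
  obtain ⟨αl, hαl⟩ := mk l j v ρ
  have := hflat l j v
  refine ⟨l, v ≫ u, αl, ?_, ?_⟩
  · funext x
    have h1 := congrFun hv x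
    rw [show ⇑(αj - ρ) = fun y => αj y - ρ y from rfl, Lib.Cyc.FP.Rat.pullFun_sub, Pi.zero_apply,
      sub_eq_zero] at h1
    rw [hαl, ← h1, hαj, Lib.Cyc.FibLen.pullFun_comp (D.map v) (D.map u) (δ l) (δ j) (δ i) 0 0
      (hS l j v) (hS j i u), ← D.map_comp, add_zero]
  · have h2 := Lib.Cyc.FP.Rat.ratEquiv_pull (D.map v) (hset l).2.2 (hset j).2.2 (hS l j v)
      (β := 0) (show Cyc.RatEquiv (δ j) k ρ 0 by rwa [Cyc.RatEquiv, sub_zero]) αl 0 hαl
      (funext fun x => by simp [Lib.Cyc.FibLen.pullFun_apply])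
    rwa [Cyc.RatEquiv, sub_zero, add_zero] at h2

end Groth.Agent.S6497
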