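import Groth.Statements.S6498
import Groth.Agent.Lib.LocalTor.Main

set_option autoImplicit false
universe u
open CategoryTheory CategoryTheory.Limits AlgebraicGeometry
attribute [local instance] HasDerivedCategory.standard
open IntMult

attribute [local instance] HasDerivedCategory.standard
open Groth.Agent.Lib Groth.Agent.Lib.DerivedOX

namespace Groth.Agent.S6498

/-- Let X be a locally Noetherian scheme. If L and K lie in D^-_Coh(O_X) (bounded above with coherent
cohomology sheaves) then so does L ⊗^L_{O_X} K. Here K is presented by a cochain complex E and − ⊗^L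
E is the prelude's total left derived functor DCoh.LTensorCx E, under its existence hypothesis
DCoh.HasLTensorCx E. (Part (1), coherence of the Tor sheaves of two coherent modules, is not
stated.) -/
theorem result (X : Scheme.{u}) [IsLocallyNoetherian X] (E : CochainComplex X.Modules ℤ) [DCoh.HasLTensorCx E] (L : DCoh.D X) (hL : DCoh.IsCohD L) (hLb : ∃ a : ℤ, ∀ i, a < i → IsZero (DCoh.HD L i)) (hE : DCoh.IsCohD (DCoh.toD X E)) (hEb : ∃ b : ℤ, ∀ i, b < i → IsZero (DCoh.HD (DCoh.toD X E) i)) : DCoh.IsCohD ((DCoh.LTensorCx E).obj L) ∧ ∃ n : ℤ, ∀ i, n < i → IsZero (DCoh.HD ((DCoh.LTensorCx E).obj L) i) := by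
  obtain ⟨a, ha⟩ := hLb
  obtain ⟨b, hb⟩ := hEb
  haveI : L.IsLE a := (DerivedCategory.isLE_iff L a).2 ha
  obtain ⟨P, hPs, ⟨eP⟩⟩ := DerivedCategory.exists_iso_Q_obj_of_isLE L a
  have hP0 : ∀ i, a < i → IsZero (P.X i) := fun i hi => P.isZero_of_isStrictlyLE a i hi
  have hPe : ∀ i, a < i → P.ExactAt i := fun i hi => HomologicalComplex.ExactAt.of_isZero (hP0 i hi)
  have hEe : ∀ i, b < i → E.ExactAt i := fun i hi =>
    (HomologicalComplex.exactAt_iff_isZero_homology _ _).2
      ((hb i hi).of_iso ((DerivedCategory.homologyFunctorFactors X.Modules i).app E).symm)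
  obtain ⟨G, s, hG0, hGf, hs⟩ := FlatResolve.exists_flat_resolution P a hPe
  obtain ⟨F, r, hF0, hFf, hr⟩ := FlatResolve.exists_flat_resolution E b hEe
  haveI := hs
  haveI := hr
  have hGk : DCoh.IsKFlat G := Amplitude.isKFlat_of_bounded G a hG0 hGf
  have hFk : DCoh.IsKFlat F := Amplitude.isKFlat_of_bounded F b hF0 hFf
  let eG : L ≅ DerivedCategory.Q.obj G := eP ≪≫ (asIso (DerivedCategory.Q.map s)).symm
  have hGc : ∀ m x, Perfect.PseudoCoh.PCAt m (DerivedCategory.Q.obj G) x := fun m x =>
    Perfect.PseudoCoh.PCAt.of_iso eG (Perfect.PCCoh.pcAt_of_coh m (a + 1 - m).toNat L a (by omega)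
      inferInstance (fun i _ _ => hL i) x)
  have hFc : ∀ m x, Perfect.PseudoCoh.PCAt m (DerivedCategory.Q.obj F) x := fun m x =>
    Perfect.PseudoCoh.PCAt.of_iso (asIso (DerivedCategory.Q.map r)).symm
      (Perfect.PCCoh.pcAt_of_coh m (b + 1 - m).toNat _ b (by omega)
        ((DerivedCategory.isLE_iff _ b).2 hb) (fun i _ _ => hE i) x)
  let α := (DCoh.tensorCxQ E).totalLeftDerivedCounit DerivedCategory.Q
    (HomologicalComplex.quasiIso X.Modules (.up ℤ))
  haveI := TensorCoprod.isIso_counit_app_of_isKFlat E (DCoh.LTensorCx E) α hGk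
  haveI := TensorQis.quasiIso_left hGk r
  let e : (DCoh.LTensorCx E).obj L ≅ DerivedCategory.Q.obj ((DCoh.tensorCx.obj G).obj F) :=
    (DCoh.LTensorCx E).mapIso eG ≪≫ asIso (α.app G) ≪≫
      (asIso (DerivedCategory.Q.map ((DCoh.tensorCx.obj G).map r))).symm
  refine ⟨fun n => CohBasics.Closure.isCoh_of_iso
    (((DerivedCategory.homologyFunctorFactors X.Modules n).app _).symm ≪≫
      (DerivedCategory.homologyFunctor X.Modules n).mapIso e.symm)
    (LocalTor.Coherent.isCoh_homology_tensor G F b hF0 hFk hGc hFc n), a + b, fun n hn => ?_⟩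
  exact ((HomologicalComplex.exactAt_iff_isZero_homology _ _).1 (HomologicalComplex.ExactAt.of_isZero
    (LocalTor.Coherent.isZero_tensorCx_X hG0 hF0 n hn))).of_iso
    ((DerivedCategory.homologyFunctor X.Modules n).mapIso e ≪≫
      (DerivedCategory.homologyFunctorFactors X.Modules n).app _)

end Groth.Agent.S6498
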