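import Groth.Statements.S6499
import Groth.Agent.Lib.Cyc.SheafLen
import Groth.Agent.Lib.QCoh.Pushforward
import Groth.Agent.Lib.CohBasics.Closure
import Groth.Agent.Lib.Cyc.Residue
import Mathlib.AlgebraicGeometry.Morphisms.Finite

set_option autoImplicit false
universe u
open CategoryTheory AlgebraicGeometry
open Cyc

namespace Groth.Agent.S6499

/-- Suppose X and Y are schemes locally of finite type over the base, and π : X → Y is a morphism
between them that is finite. Then π_* sends Coh_{≤k}(X) into Coh_{≤k}(Y): for F coherent on X with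
dim_δ Supp(F) ≤ k, the direct image π_*F is coherent with dim_δ Supp(π_*F) ≤ k (Cyc.CohLe).
(Exactness of π_* and the commutative diagram with the cycle maps are not restated; the latter is
the existing compatibility of [−]_k with π_*.) Here a pair (X, δ) with Cyc.IsSetup plays the role of
a scheme locally of finite type over the base (S, δ) (X locally Noetherian with universally catenary
local rings, δ a dimension function), and Cyc.DeltaCompat records that the dimension function
upstairs is the induced one. -/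
theorem result (X Y : Scheme.{u}) (δX : X → ℤ) (δY : Y → ℤ) (hX : Cyc.IsSetup X δX) (hY : Cyc.IsSetup Y δY) (π : X ⟶ Y) [IsFinite π] (hδ : Cyc.DeltaCompat π δX δY) (k : ℤ) (F : X.Modules) (hF : Cyc.CohLe δX k F) : Cyc.CohLe δY k ((Coh.push π).obj F) := by
  have := hF.1.1
  have hq : ((Coh.push π).obj F).IsQuasicoherent :=
    Groth.Agent.Lib.QCoh.Pushforward.isQCoh_pushforward π
  refine ⟨Groth.Agent.Lib.CohBasics.Closure.isCoh_of_finite_sections fun V hV => ?_, fun y hy => ?_⟩
  · have hfin := Groth.Agent.Lib.CohBasics.Closure.finite_sections hF.1 (hV.preimage π)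
    let := (π.app V).hom.toAlgebra
    have : Module.Finite Γ(Y, V) Γ(X, π ⁻¹ᵁ V) := IsFinite.finite_app π V hV
    let : Module Γ(Y, V) Γ(F, π ⁻¹ᵁ V) := Module.compHom _ (π.app V).hom
    have hT : IsScalarTower Γ(Y, V) Γ(X, π ⁻¹ᵁ V) Γ(F, π ⁻¹ᵁ V) :=
      IsScalarTower.of_algebraMap_smul (R := Γ(Y, V)) (A := Γ(X, π ⁻¹ᵁ V))
        (M := Γ(F, π ⁻¹ᵁ V)) fun r m => rfl
    exact Module.Finite.trans (R := Γ(Y, V)) (A := Γ(X, π ⁻¹ᵁ V)) (M := Γ(F, π ⁻¹ᵁ V))
  · have := hF.1.2
    have hc : IsClosed (π '' CohB1.support F) :=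
      π.isClosedMap _ (Groth.Agent.Lib.Modules.Support.isClosed_support F)
    by_contra hk
    have hy' : y ∉ π '' CohB1.support F := by
      rintro ⟨x, hx, rfl⟩
      have h1 := hF.2 x (not_subsingleton_iff_nontrivial.mp hx)
      have h2 := Groth.Agent.Lib.Cyc.Residue.deltaY_le hδ x
      omega
    have := Groth.Agent.Lib.Cyc.SheafLen.subsingleton_push_stalk π F _ hc
      (fun x hx => ⟨x, not_subsingleton_iff_nontrivial.mpr hx, rfl⟩) y hy'
    exact absurd hy (not_nontrivial_iff_subsingleton.mpr this)

end Groth.Agent.S6499
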