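import Groth.Statements.S6500
import Groth.Agent.Lib.Cyc.SmoothReg
import Groth.Agent.Lib.Cyc.TorPD

set_option autoImplicit false
universe u
open CategoryTheory CategoryTheory.Limits AlgebraicGeometry
attribute [local instance] HasDerivedCategory.standard
open IntMult

namespace Groth.Agent.S6500

/-- Let X be a nonsingular variety of dimension n and F, G coherent O_X-modules. The Tor sheaves
Tor_p^{O_X}(F, G), whose stalks are Tor_p^{O_{X,x}}(F_x, G_x), are nonzero only for p ∈ {0, …, n}:
for every point x and every p > n, Tor_p^{O_{X,x}}(F_x, G_x) = 0. (Coherence of the Tor sheaves and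
the support statement are not restated.) Nonsingular variety: X → Spec K smooth, separated,
quasi-compact, X integral, K algebraically closed; n = dim X. -/
theorem result (K : Type u) [Field K] [IsAlgClosed K] (X : Scheme.{u}) (f : X ⟶ Spec (CommRingCat.of K)) [Smooth f] [IsSeparated f] [QuasiCompact f] [IsIntegral X] (n : ℕ) (hn : topologicalKrullDim X = n) (F G : X.Modules) (hF : Coh.IsCoh F) (hG : Coh.IsCoh G) (x : X) (p : ℕ) (hp : n < p) : Subsingleton (DRing.Tor ↑(X.presheaf.stalk x) p ↑(F.presheaf.stalk x) ↑(G.presheaf.stalk x)) := by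
  have : IsRegularLocalRing (X.presheaf.stalk x) := Lib.Cyc.SmoothReg.isRegularLocalRing_stalk f x
  obtain ⟨d, hd, hdn⟩ : ∃ d : ℕ, ringKrullDim (X.presheaf.stalk x) = d ∧ d ≤ n := by
    refine ⟨(IsLocalRing.maximalIdeal (X.presheaf.stalk x)).spanFinrank, IsRegularLocalRing.spanFinrank_maximalIdeal.symm, ?_⟩
    have := (Lib.Cyc.TorPD.ringKrullDim_stalk_le x).trans_eq hn
    rw [← IsRegularLocalRing.spanFinrank_maximalIdeal] at this
    exact_mod_cast this
  exact ModuleCat.subsingleton_of_isZero (Lib.Cyc.TorPD.isZero_tor _ d _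
    (H22.GlobalDim.hasProjectiveDimensionLT_regular d hd _) p (by omega))

end Groth.Agent.S6500
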