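import Groth.Statements.S6501
import Mathlib.RingTheory.DividedPowers.DPMorphism
import Mathlib.Tactic.Ring
import Mathlib.Data.Nat.Choose.Sum
import Mathlib.Combinatorics.Enumerative.Bell
import Mathlib.Tactic.LinearCombination
-- import your own Groth.Agent.* helpers here

set_option autoImplicit false
universe u
open DPow

namespace Groth.Agent.S6501

/-- Let A be a commutative ring whose additive group is torsion free and I an ideal of A. Then I carries
at most one divided power structure, and it carries one if and only if I is generated by a set S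
such that for every x in S and every n ≥ 1 the power x^n lies in the ideal generated by the products
of n! with elements of I. -/
theorem result {A : Type u} [CommRing A] [IsAddTorsionFree A] (I : Ideal A) :
    Subsingleton (DividedPowers I) ∧
    (Nonempty (DividedPowers I) ↔ ∃ S : Set A, Ideal.span S = I ∧
      ∀ x ∈ S, ∀ n : ℕ, 1 ≤ n → x ^ n ∈ Ideal.span {(Nat.factorial n : A)} * I) := by
  classical
  have cancel : ∀ (k : ℕ) (a b : A), k ≠ 0 → (k : A) * a = k * b → a = b := fun k a b hk h =>
    nsmul_right_injective (M := A) hk (show k • a = k • b by simpa only [nsmul_eq_mul] using h)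
  refine ⟨⟨fun γ γ' => γ.ext γ' fun n x hx => cancel _ _ _ n.factorial_ne_zero (by
    rw [γ.factorial_mul_dpow_eq_pow hx, γ'.factorial_mul_dpow_eq_pow hx])⟩, ?_, ?_⟩
  · rintro ⟨γ⟩
    refine ⟨I, Ideal.span_eq I, fun x hx n hn => ?_⟩
    rw [← γ.factorial_mul_dpow_eq_pow hx]
    exact Ideal.mul_mem_mul (Ideal.mem_span_singleton_self _) (γ.dpow_mem (by omega) hx)
  rintro ⟨S, hS, hS'⟩
  have key : ∀ x ∈ I, ∀ n : ℕ, ∃ z : A, (n ≠ 0 → z ∈ I) ∧ (n.factorial : A) * z = x ^ n := by
    intro x hx
    rw [← hS] at hx
    induction hx using Submodule.span_induction with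
    | mem x hx =>
      intro n
      rcases eq_or_ne n 0 with rfl | hn
      · exact ⟨1, fun h => absurd rfl h, by simp⟩
      · obtain ⟨z, hz, hz'⟩ := Ideal.mem_span_singleton_mul.1 (hS' x hx n (by omega))
        exact ⟨z, fun _ => hz, hz'⟩
    | zero =>
      intro n
      rcases eq_or_ne n 0 with rfl | hn
      · exact ⟨1, fun h => absurd rfl h, by simp⟩
      · exact ⟨0, fun _ => zero_mem _, by simp [hn]⟩
    | add x y _ _ hx hy =>
      intro n
      choose u hu hu' using hx
      choose v hv hv' using hy
      refine ⟨∑ k ∈ Finset.antidiagonal n, u k.1 * v k.2, fun hn => sum_mem fun k hk => ?_, ?_⟩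
      · rw [Finset.mem_antidiagonal] at hk
        rcases eq_or_ne k.1 0 with h | h
        · exact Ideal.mul_mem_left _ _ (hv _ (by omega))
        · exact Ideal.mul_mem_right _ _ (hu _ h)
      · rw [(Commute.all x y).add_pow', Finset.mul_sum]
        refine Finset.sum_congr rfl fun k hk => ?_
        rw [Finset.mem_antidiagonal] at hk
        subst hk
        rw [← hu', ← hv', nsmul_eq_mul, ← Nat.add_choose_mul_factorial_mul_factorial k.1 k.2]
        rw [Nat.choose_symm_add]
        push_cast
        ring
    | smul a x _ hx =>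
      intro n
      obtain ⟨z, hz, hz'⟩ := hx n
      exact ⟨a ^ n * z, fun hn => Ideal.mul_mem_left _ _ (hz hn), by rw [mul_left_comm, hz', smul_eq_mul, mul_pow]⟩
  let d : ℕ → A → A := fun n x => if hx : x ∈ I then (key x hx n).choose else 0
  have hd : ∀ n x, x ∈ I → (n.factorial : A) * d n x = x ^ n := fun n x hx => by
    simp only [d, dif_pos hx]; exact (key x hx n).choose_spec.2
  have hdI : ∀ n x, n ≠ 0 → x ∈ I → d n x ∈ I := fun n x hn hx => by
    simp only [d, dif_pos hx]; exact (key x hx n).choose_spec.1 hn
  refine ⟨{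
    dpow := d
    dpow_null := fun {n x} hx => dif_neg hx
    dpow_zero := fun {x} hx => by simpa using hd 0 x hx
    dpow_one := fun {x} hx => by simpa using hd 1 x hx
    dpow_mem := fun {n x} hn hx => hdI n x hn hx
    dpow_add := fun {n x y} hx hy => cancel _ _ _ n.factorial_ne_zero ?_
    dpow_mul := fun {n a x} hx => cancel _ _ _ n.factorial_ne_zero (by
      rw [hd _ _ (I.mul_mem_left a hx), mul_left_comm, hd _ _ hx, mul_pow])
    mul_dpow := fun {m n x} hx => cancel (m.factorial * n.factorial) _ _
      (mul_ne_zero m.factorial_ne_zero n.factorial_ne_zero) ?_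
    dpow_comp := fun {m n x} hn hx => cancel (m.factorial * n.factorial ^ m) _ _
      (mul_ne_zero m.factorial_ne_zero (pow_ne_zero _ n.factorial_ne_zero)) ?_ }⟩
  · rw [hd _ _ (I.add_mem hx hy), (Commute.all x y).add_pow', Finset.mul_sum]
    refine Finset.sum_congr rfl fun k hk => ?_
    rw [Finset.mem_antidiagonal] at hk
    subst hk
    rw [← hd _ _ hx, ← hd _ _ hy, nsmul_eq_mul, ← Nat.add_choose_mul_factorial_mul_factorial k.1 k.2]
    rw [Nat.choose_symm_add]
    push_cast
    ring
  · have h := hd (m + n) x hx
    rw [← Nat.add_choose_mul_factorial_mul_factorial m n, pow_add, ← hd m x hx, ← hd n x hx] at h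
    rw [Nat.choose_symm_add]
    push_cast at h ⊢
    linear_combination -h
  · have h := hd (m * n) x hx
    rw [← Nat.uniformBell_mul_eq m hn] at h
    push_cast at h ⊢
    calc (m.factorial : A) * (n.factorial : A) ^ m * d m (d n x)
        = (n.factorial : A) ^ m * ((m.factorial : A) * d m (d n x)) := by ring
      _ = x ^ (m * n) := by rw [hd _ _ (hdI n x hn hx), ← mul_pow, hd n x hx, ← pow_mul, mul_comm n]
      _ = _ := by rw [← h]; ring

end Groth.Agent.S6501
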