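import Groth.Statements.S6502
import Groth.Agent.H80.CILocalization

set_option autoImplicit false
set_option backward.isDefEq.respectTransparency false
universe u
open LCI

namespace Groth.Agent.S6502

/-- A Noetherian ring A is a local complete intersection (every localization A_p at a prime is a
complete intersection, that is, its completion is a regular complete local ring modulo a regular
sequence) exactly when, for each maximal ideal m of A, the localization A_m is itself a complete
intersection. -/
theorem result {A : Type u} [CommRing A] [IsNoetherianRing A] :
    (∀ (p : Ideal A) [p.IsPrime], Pi1.IsCompleteIntersection (Localization.AtPrime p)) ↔
    (∀ (m : Ideal A) [m.IsMaximal], Pi1.IsCompleteIntersection (Localization.AtPrime m)) := by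
  exact Groth.Agent.H80.CILocalization.iff_atMaximal

end Groth.Agent.S6502
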