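import Groth.Statements.S6503
import Groth.Agent.H25.DiagTor.Regular
import Groth.Agent.Lib.JacCrit.GeomRegular
import Groth.Agent.Lib.JacCrit.Fiber
import Mathlib.RingTheory.Spectrum.Prime.Topology

set_option autoImplicit false
universe u
open TensorProduct
open LCI

namespace Groth.Agent.S6503

open TensorProduct in
theorem regular_at {A B : Type u} [CommRing A] [CommRing B] [Algebra A B] [Module.Flat A B]
    [IsNoetherianRing (B ⊗[A] B)] [Algebra.EssFiniteType A B] [Algebra (B ⊗[A] B) B]
    (hmul : ∀ x y : B, algebraMap (B ⊗[A] B) B (x ⊗ₜ[A] y) = x * y)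
    (h : DRing.HasFiniteTorDim (B ⊗[A] B) B) {C₀ : Type u} [CommRing C₀] [Algebra A C₀] [Algebra C₀ B]
    [IsScalarTower A C₀ B] (κ k : Type u) [Field κ] [Field k] [Algebra A κ] [Algebra κ k] [Algebra A k]
    [IsScalarTower A κ k] (q : Ideal C₀) [q.IsPrime] [IsLocalization.AtPrime B q]
    (P : Ideal (k ⊗[κ] (κ ⊗[A] C₀))) [P.IsPrime]
    (hP : P.comap ((Algebra.TensorProduct.includeRight (R := κ) (A := k)).toRingHom.comp
      (Algebra.TensorProduct.includeRight (R := A) (A := κ)).toRingHom) = q) :
    IsRegularLocalRing (Localization.AtPrime P) := by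
  let ε := (Algebra.TensorProduct.cancelBaseChange A κ κ k C₀).toRingEquiv
  let P₀ : Ideal (k ⊗[A] C₀) := P.comap ε.symm.toRingHom
  let M := q.primeCompl.map (Algebra.TensorProduct.includeRight (R := A) (A := k) (B := C₀))
  let m : k ⊗[A] C₀ →ₐ[A] k ⊗[A] B :=
    Algebra.TensorProduct.map (AlgHom.id A k) (IsScalarTower.toAlgHom A C₀ B)
  letI : Algebra (k ⊗[A] C₀) (k ⊗[A] B) := m.toRingHom.toAlgebra
  haveI : IsScalarTower k (k ⊗[A] C₀) (k ⊗[A] B) := IsScalarTower.of_algebraMap_eq fun t => by
    change t ⊗ₜ[A] (1 : B) = t ⊗ₜ[A] (algebraMap C₀ B 1)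
    rw [map_one]
  haveI : IsLocalization M (k ⊗[A] B) :=
    IsLocalization.tensorProduct_tensorProduct_right A k q.primeCompl B (RingHom.ext fun c => rfl)
  have hdis : Disjoint (M : Set (k ⊗[A] C₀)) (P₀ : Set (k ⊗[A] C₀)) := by
    rw [Set.disjoint_left]
    rintro _ ⟨c, hc, rfl⟩ hm
    refine hc ?_
    rw [← hP]
    change _ ∈ P
    have e1 : ε.symm ((1 : k) ⊗ₜ[A] c) = (1 : k) ⊗ₜ[κ] ((1 : κ) ⊗ₜ[A] c) := by
      rw [RingEquiv.symm_apply_eq]
      simp [ε]
    rw [SetLike.mem_coe, Ideal.mem_comap] at hm
    rw [← e1] at *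
    exact hm
  haveI : (P₀.map (algebraMap (k ⊗[A] C₀) (k ⊗[A] B))).IsPrime :=
    IsLocalization.isPrime_of_isPrime_disjoint M _ P₀ inferInstance hdis
  have hc := IsLocalization.under_map_of_isPrime_disjoint M (k ⊗[A] B) (I := P₀) inferInstance hdis
  have hreg := H25.DiagTor.regular_fibre hmul h k (P₀.map (algebraMap (k ⊗[A] C₀) (k ⊗[A] B)))
  have h2 := IsLocalization.isLocalization_isLocalization_atPrime_isLocalization M
    (Localization.AtPrime (P₀.map (algebraMap (k ⊗[A] C₀) (k ⊗[A] B))))
    (P₀.map (algebraMap (k ⊗[A] C₀) (k ⊗[A] B)))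
  haveI h3 : IsLocalization P₀.primeCompl
      (Localization.AtPrime (P₀.map (algebraMap (k ⊗[A] C₀) (k ⊗[A] B)))) := by
    have e : ((P₀.map (algebraMap (k ⊗[A] C₀) (k ⊗[A] B))).comap
        (algebraMap (k ⊗[A] C₀) (k ⊗[A] B))).primeCompl = P₀.primeCompl :=
      SetLike.ext fun x => not_congr (SetLike.ext_iff.mp hc x)
    rw [← e]
    exact h2
  haveI : IsRegularLocalRing (Localization.AtPrime P₀) := IsRegularLocalRing.of_ringEquiv
    (IsLocalization.algEquiv P₀.primeCompl
      (Localization.AtPrime (P₀.map (algebraMap (k ⊗[A] C₀) (k ⊗[A] B)))) (Localization.AtPrime P₀)).toRingEquiv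
  exact IsRegularLocalRing.of_ringEquiv (R := Localization.AtPrime P₀)
    (IsLocalization.ringEquivOfRingEquiv (M := P₀.primeCompl) (T := P.primeCompl) (Localization.AtPrime P₀)
      (Localization.AtPrime P) ε.symm (by
        ext x
        simp only [Submonoid.mem_map]
        constructor
        · rintro ⟨y, hy, rfl⟩; exact hy
        · intro hx; exact ⟨ε x, by simpa [P₀, Ideal.primeCompl] using hx, ε.symm_apply_apply x⟩))

/-- Suppose A and B are Noetherian local rings and A → B is a local homomorphism making B a flat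
A-algebra that is essentially of finite type, and regard B as an algebra over B ⊗_A B via the
multiplication map. If B has finite Tor-dimension over B ⊗_A B (the diagonal is a perfect ring map),
then there are a smooth A-algebra C and a prime ideal q of C such that B is an A-algebra
localization of C at q. -/
theorem result {A B : Type u} [CommRing A] [CommRing B]
    [Algebra A B] [IsNoetherianRing A] [IsNoetherianRing B] [IsLocalRing A] [IsLocalRing B]
    [IsLocalHom (algebraMap A B)] [Module.Flat A B] [Algebra.EssFiniteType A B]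
    [Algebra (B ⊗[A] B) B]
    (hmul : ∀ x y : B, algebraMap (B ⊗[A] B) B (x ⊗ₜ[A] y) = x * y)
    (h : DRing.HasFiniteTorDim (B ⊗[A] B) B) :
    ∃ (C : Type u) (_ : CommRing C) (_ : Algebra A C) (_ : Algebra C B) (_ : IsScalarTower A C B)
      (q : Ideal C) (_ : q.IsPrime), Algebra.Smooth A C ∧ IsLocalization.AtPrime B q := by
  haveI : IsNoetherianRing (B ⊗[A] B) := Algebra.EssFiniteType.isNoetherianRing B (B ⊗[A] B)
  let C₀ := Algebra.EssFiniteType.subalgebra A B
  let q : Ideal C₀ := (IsLocalRing.maximalIdeal B).comap (algebraMap C₀ B)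
  haveI hB : IsLocalization.AtPrime B q := by
    have hM : Algebra.EssFiniteType.submonoid A B = q.primeCompl := by
      ext a
      change IsUnit (algebraMap C₀ B a) ↔ ¬ algebraMap C₀ B a ∈ IsLocalRing.maximalIdeal B
      rw [IsLocalRing.mem_maximalIdeal, mem_nonunits_iff, not_not]
    have h' : IsLocalization (Algebra.EssFiniteType.submonoid A B) B := inferInstance
    rwa [hM] at h'
  haveI : Algebra.FinitePresentation A C₀ := Algebra.FinitePresentation.of_finiteType.mp inferInstance
  let p : Ideal A := IsLocalRing.maximalIdeal A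
  haveI : q.LiesOver p := ⟨by
    rw [Ideal.under_def, Ideal.comap_comap, ← IsScalarTower.algebraMap_eq A C₀ B]
    exact (((IsLocalRing.local_hom_TFAE (algebraMap A B)).out 0 4 rfl rfl).mp ‹_›).symm⟩
  letI := Localization.AtPrime.algebraOfLiesOver p q
  haveI : Module.Flat (Localization.AtPrime p) (Localization.AtPrime q) := by
    rw [Module.flat_iff_of_isLocalization (Localization.AtPrime p) p.primeCompl]
    exact Module.Flat.of_linearEquiv
      ((IsLocalization.algEquiv q.primeCompl (Localization.AtPrime q) B).restrictScalars A).toLinearEquiv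
  let e := PrimeSpectrum.preimageEquivFiber A C₀ ⟨p, inferInstance⟩
  let x : (PrimeSpectrum.comap (algebraMap A C₀)) ⁻¹' {⟨p, inferInstance⟩} :=
    ⟨⟨q, inferInstance⟩, PrimeSpectrum.ext (Ideal.over_def q p).symm⟩
  have hqF : (e x).asIdeal.comap
      (Algebra.TensorProduct.includeRight (R := A) (A := p.ResidueField)).toRingHom = q :=
    congrArg (fun y => y.1.asIdeal) (e.symm_apply_apply x)
  have hsm : Algebra.IsSmoothAt A q := by
    refine Lib.JacCrit.Fiber.isSmoothAt p q (e x).asIdeal hqF ?_
    refine Lib.JacCrit.GeomRegular.isSmoothAt_of_forall_regular p.ResidueField _ fun k _ _ _ P _ hP => ?_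
    letI : Algebra A k := ((algebraMap p.ResidueField k).comp (algebraMap A p.ResidueField)).toAlgebra
    haveI : IsScalarTower A p.ResidueField k := IsScalarTower.of_algebraMap_eq fun _ => rfl
    exact regular_at hmul h p.ResidueField k q P (by rw [← hqF, ← hP]; exact (Ideal.comap_comap (I := P) _ _).symm)
  obtain ⟨g, hg, hs⟩ := Algebra.IsSmoothAt.exists_notMem_smooth A q
  let C := Localization.Away g
  have hu : IsUnit (algebraMap C₀ B g) := IsLocalization.map_units B (⟨g, hg⟩ : q.primeCompl)
  letI : Algebra C B := (IsLocalization.Away.lift g hu).toAlgebra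
  haveI hCB : IsScalarTower C₀ C B :=
    IsScalarTower.of_algebraMap_eq fun c => (IsLocalization.Away.lift_eq g hu c).symm
  haveI : IsScalarTower A C B := IsScalarTower.of_algebraMap_eq fun a => by
    rw [IsScalarTower.algebraMap_apply A C₀ B, IsScalarTower.algebraMap_apply A C₀ C,
      ← IsScalarTower.algebraMap_apply C₀ C B]
  have hd : Disjoint ((Submonoid.powers g : Submonoid C₀) : Set C₀) (q : Set C₀) :=
    (Ideal.disjoint_powers_iff_notMem g (Ideal.IsPrime.isRadical inferInstance)).mpr hg
  haveI hp' : (q.map (algebraMap C₀ C)).IsPrime :=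
    IsLocalization.isPrime_of_isPrime_disjoint (Submonoid.powers g) C q inferInstance hd
  have hcomap := IsLocalization.under_map_of_isPrime_disjoint (Submonoid.powers g) C inferInstance hd
  refine ⟨C, inferInstance, inferInstance, inferInstance, inferInstance, q.map (algebraMap C₀ C),
    inferInstance, hs, ?_⟩
  have hle : Submonoid.powers g ≤ q.primeCompl := Submonoid.powers_le.mpr hg
  have h1 := IsLocalization.isLocalization_of_submonoid_le C B (Submonoid.powers g) q.primeCompl hle
  haveI := h1
  refine IsLocalization.isLocalization_of_is_exists_mul_mem B (q.primeCompl.map (algebraMap C₀ C))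
    (q.map (algebraMap C₀ C)).primeCompl ?_ ?_
  · rintro _ ⟨y, hy, rfl⟩
    exact fun hm => hy (by rw [← hcomap]; exact hm)
  · rintro ⟨c, hc⟩
    obtain ⟨y, s, rfl⟩ := IsLocalization.exists_mk'_eq (Submonoid.powers g) c
    refine ⟨algebraMap C₀ C (s : C₀), Submonoid.mem_map.mpr ⟨y, fun hy => hc ?_, ?_⟩⟩
    · exact IsLocalization.mk'_mem_iff.mpr (Ideal.mem_map_of_mem _ hy)
    · rw [mul_comm]; exact (IsLocalization.mk'_spec C y s).symm

end Groth.Agent.S6503
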