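import Groth.Statements.S6511
import Groth.Agent.Lib.DerivedOX.MVTriangle
import Groth.Agent.Lib.DerivedOX.RpushTriangulated
import Groth.Agent.Lib.DerivedOX.PullComp

set_option autoImplicit false
universe u
open CategoryTheory
attribute [local instance] HasDerivedCategory.standard
open DCoh

namespace Groth.Agent.S6511

open AlgebraicGeometry CategoryTheory.Limits in
/-- Let f : X → Y be a morphism of schemes and X = U ∪ V with U, V open; write a, b, c for the
restrictions of f to U, V, U ∩ V. For every E ∈ D(O_X) there is a distinguished triangle Rf_*E →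
Ra_*(E|_U) ⊕ Rb_*(E|_V) → Rc_*(E|_{U∩V}) → Rf_*E[1] in D(O_Y). The objects are the stated ones; the
morphisms are only asserted to exist. (The published statement is for ringed spaces; this row is for
schemes.) -/
theorem result {X Y : Scheme.{u}} (f : X ⟶ Y) (U V : X.Opens) (hUV : U ⊔ V = ⊤)
    [DCoh.HasRpush f] [DCoh.HasRpush (U.ι ≫ f)] [DCoh.HasRpush (V.ι ≫ f)] [DCoh.HasRpush ((U ⊓ V).ι ≫ f)]
    [PreservesFiniteLimits (Scheme.Modules.restrictFunctor U.ι)]
    [PreservesFiniteLimits (Scheme.Modules.restrictFunctor V.ι)]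
    [PreservesFiniteLimits (Scheme.Modules.restrictFunctor (U ⊓ V).ι)] (E : DCoh.D X) :
    ∃ (a : (DCoh.Rpush f).obj E ⟶ ((DCoh.Rpush (U.ι ≫ f)).obj ((DCoh.restrictD U.ι).obj E) ⊞ (DCoh.Rpush (V.ι ≫ f)).obj ((DCoh.restrictD V.ι).obj E))) (b : ((DCoh.Rpush (U.ι ≫ f)).obj ((DCoh.restrictD U.ι).obj E) ⊞ (DCoh.Rpush (V.ι ≫ f)).obj ((DCoh.restrictD V.ι).obj E)) ⟶ (DCoh.Rpush ((U ⊓ V).ι ≫ f)).obj ((DCoh.restrictD (U ⊓ V).ι).obj E)) (c : (DCoh.Rpush ((U ⊓ V).ι ≫ f)).obj ((DCoh.restrictD (U ⊓ V).ι).obj E) ⟶ ((DCoh.Rpush f).obj E)⟦(1 : ℤ)⟧),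
      Pretriangulated.Triangle.mk a b c ∈ Pretriangulated.distinguishedTriangles := by
  haveI := Groth.Agent.Lib.DerivedOX.Exists.hasRpush U.ι
  haveI := Groth.Agent.Lib.DerivedOX.Exists.hasRpush V.ι
  haveI := Groth.Agent.Lib.DerivedOX.Exists.hasRpush (U ⊓ V).ι
  obtain ⟨a, b, c, hT⟩ := Groth.Agent.Lib.DerivedOX.MVTriangle.exists_mv_triangle U V hUV E
  let R := DCoh.Rpush f
  haveI := preservesBinaryBiproducts_of_preservesBiproducts R
  exact Groth.Agent.Lib.DerivedOX.MVTriangle.exists_triangle (R.map_distinguished _ hT) (Iso.refl _)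
    (biprod.mapIso ((Groth.Agent.Lib.DerivedOX.PullComp.rpushCompIso U.ι f).app _).symm
      ((Groth.Agent.Lib.DerivedOX.PullComp.rpushCompIso V.ι f).app _).symm ≪≫ (R.mapBiprod _ _).symm)
    ((Groth.Agent.Lib.DerivedOX.PullComp.rpushCompIso (U ⊓ V).ι f).app _).symm

end Groth.Agent.S6511
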