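import Groth.Statements.S6512
import Groth.Agent.Lib.DerivedOX.MVTriangle
import Groth.Agent.Lib.DerivedOX.RpushTriangulated

set_option autoImplicit false
universe u
open CategoryTheory
attribute [local instance] HasDerivedCategory.standard
open DCoh

namespace Groth.Agent.S6512

open AlgebraicGeometry CategoryTheory.Limits in
/-- If a scheme X is the union of two opens U and V, then for every E ∈ D(O_X) there is a distinguished
triangle RΓ(X, E) → RΓ(U, E) ⊕ RΓ(V, E) → RΓ(U ∩ V, E) → RΓ(X, E)[1] in D(Ab), where RΓ(U, E) means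
RΓ(U, E|_U). The objects are the stated ones; the morphisms are only asserted to exist (the long
exact cohomology sequence follows by applying the homological functor H^0). (The published statement
is for ringed spaces; this row is for schemes.) -/
theorem result {X : Scheme.{u}} (U V : X.Opens) (hUV : U ⊔ V = ⊤)
    [DCoh.HasRΓ X] [DCoh.HasRΓ (U : Scheme.{u})] [DCoh.HasRΓ (V : Scheme.{u})] [DCoh.HasRΓ (U ⊓ V : X.Opens)]
    [PreservesFiniteLimits (Scheme.Modules.restrictFunctor U.ι)]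
    [PreservesFiniteLimits (Scheme.Modules.restrictFunctor V.ι)]
    [PreservesFiniteLimits (Scheme.Modules.restrictFunctor (U ⊓ V).ι)] (E : DCoh.D X) :
    ∃ (a : (DCoh.RΓ X).obj E ⟶ ((DCoh.RΓ (U : Scheme.{u})).obj ((DCoh.restrictD U.ι).obj E) ⊞ (DCoh.RΓ (V : Scheme.{u})).obj ((DCoh.restrictD V.ι).obj E))) (b : ((DCoh.RΓ (U : Scheme.{u})).obj ((DCoh.restrictD U.ι).obj E) ⊞ (DCoh.RΓ (V : Scheme.{u})).obj ((DCoh.restrictD V.ι).obj E)) ⟶ (DCoh.RΓ (U ⊓ V : X.Opens)).obj ((DCoh.restrictD (U ⊓ V).ι).obj E)) (c : (DCoh.RΓ (U ⊓ V : X.Opens)).obj ((DCoh.restrictD (U ⊓ V).ι).obj E) ⟶ ((DCoh.RΓ X).obj E)⟦(1 : ℤ)⟧),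
      Pretriangulated.Triangle.mk a b c ∈ Pretriangulated.distinguishedTriangles := by
  haveI := Groth.Agent.Lib.DerivedOX.Exists.hasRpush U.ι
  haveI := Groth.Agent.Lib.DerivedOX.Exists.hasRpush V.ι
  haveI := Groth.Agent.Lib.DerivedOX.Exists.hasRpush (U ⊓ V).ι
  obtain ⟨a, b, c, hT⟩ := Groth.Agent.Lib.DerivedOX.MVTriangle.exists_mv_triangle U V hUV E
  let R := DCoh.RΓ X
  let e := Groth.Agent.Lib.DerivedOX.RightDerived.totalRightDerivedIso (DCoh.gammaKh X)
  letI : R.CommShift ℤ := Functor.CommShift.ofIso e ℤ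
  haveI : R.IsTriangulated :=
    haveI : NatTrans.CommShift e.hom ℤ := Functor.CommShift.ofIso_compatibility e ℤ
    Functor.isTriangulated_of_iso e
  haveI := preservesBinaryBiproducts_of_preservesBiproducts R
  exact Groth.Agent.Lib.DerivedOX.MVTriangle.exists_triangle (R.map_distinguished _ hT) (Iso.refl _)
    (biprod.mapIso ((Groth.Agent.Lib.DerivedOX.RestrictRpush.RΓ_Rpush_iso U.ι).app _).symm
      ((Groth.Agent.Lib.DerivedOX.RestrictRpush.RΓ_Rpush_iso V.ι).app _).symm ≪≫ (R.mapBiprod _ _).symm)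
    ((Groth.Agent.Lib.DerivedOX.RestrictRpush.RΓ_Rpush_iso (U ⊓ V).ι).app _).symm

end Groth.Agent.S6512
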