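import Groth.Statements.S6519
import Groth.Agent.Lib.DerivedOX.OpenSupport
import Groth.Agent.Lib.Perfect.OfCohomology

set_option autoImplicit false
universe u
open CategoryTheory
attribute [local instance] HasDerivedCategory.standard
open DCoh

namespace Groth.Agent.S6519

open AlgebraicGeometry in
/-- Let j : U → X be the inclusion of an open subscheme, and let T ⊆ U be a closed subset whose image
j(T) is also closed in X. Suppose E in D(O_U) is perfect and every cohomology sheaf of E has support
contained in T. In that case the derived pushforward Rj_*E is perfect as an object of D(O_X). (The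
published statement is for ringed spaces; this row is for schemes.) -/
theorem result {X : Scheme.{u}} (U : X.Opens) [DCoh.HasRpush U.ι]
    (E : DCoh.D (U : Scheme.{u})) (hE : DCoh.IsPerfect E) (T : Set (U : Scheme.{u}))
    (hT : IsClosed T) (hjT : IsClosed ((fun x : (U : Scheme.{u}) => U.ι.base x) '' T))
    (hsupp : ∀ i : ℤ, CohB1.support (DCoh.HD E i) ⊆ T) :
    DCoh.IsPerfect ((DCoh.Rpush U.ι).obj E) := by
  have hTU : (fun x : (U : Scheme.{u}) => U.ι.base x) '' T ⊆ (U : Set X) := by
    rintro _ ⟨w, -, rfl⟩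
    exact w.2
  have hs : ∀ i : ℤ, (fun x : (U : Scheme.{u}) => U.ι.base x) '' CohB1.support (DCoh.HD E i) ⊆
      (fun x : (U : Scheme.{u}) => U.ι.base x) '' T := fun i => Set.image_mono (hsupp i)
  obtain ⟨e⟩ := Groth.Agent.Lib.DerivedOX.OpenSupport.nonempty_extZeroD_iso_Rpush U _ hjT hTU E hs
  obtain ⟨e'⟩ := Groth.Agent.Lib.DerivedOX.OpenSupport.nonempty_restrictD_extZeroD U E
  refine (Groth.Agent.Lib.Perfect.Triangle.isPerfect_iff _).2 fun x => ?_
  by_cases hx : x ∈ U
  · exact Groth.Agent.Lib.Perfect.Triangle.PerfAt.of_restrict (j := U.ι) (y := ⟨x, hx⟩) rfl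
      (((Groth.Agent.Lib.Perfect.Triangle.isPerfect_iff E).1 hE _).of_iso
        (e' ≪≫ (DCoh.restrictD U.ι).mapIso e))
  · exact Groth.Agent.Lib.Perfect.Triangle.PerfAt.of_restrict
      (j := (Groth.Agent.Lib.DerivedOX.OpenSupport.compl _ hjT).ι) (y := ⟨x, fun h => hx (hTU h)⟩) rfl
      ((Groth.Agent.Lib.Perfect.Triangle.isPerfect_iff _).1
        (Groth.Agent.Lib.Perfect.OfCohomology.isPerfect_of_isZero
          (Groth.Agent.Lib.DerivedOX.OpenSupport.isZero_restrictD_compl_Rpush U _ hjT hs)) _)

end Groth.Agent.S6519
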