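import Groth.Statements.S6524
import Groth.Agent.Lib.Baer.Family
import Groth.Agent.Lib.RlimTrunc.AbSheaf


set_option autoImplicit false
universe u
open CategoryTheory
open CohSite

namespace Groth.Agent.S6524

/-- Let (C, J) be a small site and I an abelian sheaf. Suppose that for every object X of C, every
abelian subsheaf S of the free abelian sheaf Z_X^# on X (given as a monomorphism S → Z_X^#) and
every morphism S → I, the morphism extends to Z_X^# → I. Then I is an injective abelian sheaf. -/
theorem result {C : Type u} [SmallCategory C]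
    (J : GrothendieckTopology C) (I : Sheaf J AddCommGrpCat.{u})
    (h : ∀ (X : C) (S : Sheaf J AddCommGrpCat.{u}) (i : S ⟶ CohCx.freeSheaf J X) [Mono i] (φ : S ⟶ I),
      ∃ ψ : CohCx.freeSheaf J X ⟶ I, i ≫ ψ = φ) :
    Injective I := by
  by_cases hC : Nonempty C
  · exact Lib.Baer.Family.injective_of_extends
      (F := fun X : C => CohCx.freeSheaf J X)
      (fun φ hφ => (Lib.RlimTrunc.AbSheaf.isDetecting J).separating φ hφ) I
      (fun X S m _ φ => h X S m φ)
  · have hz : Limits.IsZero I := (Limits.IsZero.iff_id_eq_zero _).2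
      ((Lib.RlimTrunc.AbSheaf.isDetecting J).separating _ fun X => absurd ⟨X⟩ hC)
    exact ⟨fun g f _ => ⟨0, hz.eq_of_tgt _ _⟩⟩

end Groth.Agent.S6524
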