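import Groth.Statements.S6530
import Mathlib.RingTheory.AdicCompletion.Algebra
import Mathlib.RingTheory.DividedPowers.DPMorphism
-- import your own Groth.Agent.* helpers here

set_option autoImplicit false
universe u
open DPow

namespace Groth.Agent.S6530

/-- Let (A, I, γ) be a divided power ring and p a prime number with p^t A ⊆ I for some t ≥ 0, so that p
is nilpotent in A/I. Let A^∧ be the p-adic completion of A and π : A^∧ → A/I the composite of the
evaluation A^∧ → A/p^tA with the projection A/p^tA → A/I. Then π is surjective, and there is a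
divided power structure on Ker(π) (this kernel is the p-adic completion of I) such that the
canonical map A → A^∧ is a homomorphism of divided power rings. -/
theorem result {A : Type u} [CommRing A] {I : Ideal A}
    (γ : DividedPowers I) (p : ℕ) [Fact p.Prime] (t : ℕ) (ht : Ideal.span {(p : A)} ^ t ≤ I) :
    Function.Surjective ((Ideal.Quotient.factor ht).comp
      (AdicCompletion.evalₐ (Ideal.span {(p : A)}) t).toRingHom) ∧
    ∃ δ : DividedPowers (RingHom.ker ((Ideal.Quotient.factor ht).comp
      (AdicCompletion.evalₐ (Ideal.span {(p : A)}) t).toRingHom)),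
      γ.IsDPMorphism δ (algebraMap A (AdicCompletion (Ideal.span {(p : A)}) A)) := by
  classical
  set P := Ideal.span {(p : A)} with hP
  let ev : ∀ k, AdicCompletion P A →ₐ[A] A ⧸ P ^ k := fun k => AdicCompletion.evalₐ P k
  set π : AdicCompletion P A →+* A ⧸ I := (Ideal.Quotient.factor ht).comp (AdicCompletion.evalₐ P t).toRingHom
  refine ⟨(Ideal.Quotient.factor_surjective ht).comp (AdicCompletion.surjective_evalₐ P t), ?_⟩
  have cont : ∀ (n s : ℕ) (x y : A), y ∈ I → x - y ∈ P ^ (s + t) →
      γ.dpow n x - γ.dpow n y ∈ P ^ s := by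
    intro n s x y hy hxy
    rw [pow_add, Ideal.span_singleton_pow, Ideal.mem_span_singleton_mul] at hxy
    obtain ⟨w, hw, hw'⟩ := hxy
    have hwI : w ∈ I := ht hw
    obtain rfl : x = y + (p : A) ^ s * w := by rw [hw']; ring
    rw [γ.dpow_add' hy (I.mul_mem_left _ hwI), Finset.sum_range_succ, Nat.sub_self,
      γ.dpow_zero (I.mul_mem_left _ hwI), mul_one, add_sub_cancel_right]
    refine sum_mem fun i hi => Ideal.mul_mem_left _ _ ?_
    rw [γ.dpow_mul hwI, ← pow_mul, Ideal.span_singleton_pow, Ideal.mem_span_singleton]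
    exact dvd_mul_of_dvd_left (pow_dvd_pow _ (Nat.le_mul_of_pos_right _ (by
      have := Finset.mem_range.1 hi; omega))) _
  have mk_le : ∀ {a b : ℕ}, a ≤ b → ∀ (z : AdicCompletion P A) (r : A), ev b z = Ideal.Quotient.mk _ r →
      ev a z = Ideal.Quotient.mk _ r := by
    intro a b hab z r hr
    obtain ⟨f, rfl⟩ := AdicCompletion.mk_surjective P A z
    rw [show ev b _ = _ from AdicCompletion.evalₐ_mk P b f, Ideal.Quotient.eq] at hr
    rw [show ev a _ = _ from AdicCompletion.evalₐ_mk P a f, Ideal.Quotient.eq]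
    have h1 : f a - f b ∈ P ^ a := by simpa [SModEq.sub_mem] using f.2 hab
    have := Ideal.add_mem _ h1 (Ideal.pow_le_pow_right hab hr)
    rwa [sub_add_sub_cancel] at this
  have memI : ∀ (z : AdicCompletion P A) (b : ℕ) (r : A), t ≤ b → ev b z = Ideal.Quotient.mk _ r →
      (z ∈ RingHom.ker π ↔ r ∈ I) := by
    intro z b r hb hr
    have h1 := mk_le hb z r hr
    show Ideal.Quotient.factor ht (ev t z) = 0 ↔ _
    rw [h1, Ideal.Quotient.factor_mk, Ideal.Quotient.eq_zero_iff_mem]
  have rep : ∀ (z : AdicCompletion P A) (b : ℕ), ∃ r : A, ev b z = Ideal.Quotient.mk _ r := fun z b =>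
    (Ideal.Quotient.mk_surjective (ev b z)).imp fun _ h => h.symm
  choose R hR using rep
  have hcauchy : ∀ (n : ℕ) (z : AdicCompletion P A), z ∈ RingHom.ker π → ∀ k : ℕ,
      γ.dpow n (R z (k + t)) ≡ γ.dpow n (R z (k + 1 + t)) [SMOD (P ^ k • ⊤ : Submodule A A)] := by
    intro n z hz k
    rw [SModEq.sub_mem, smul_eq_mul, Ideal.mul_top]
    refine cont n k _ _ ((memI z _ _ (by omega) (hR z _)).1 hz) ?_
    rw [← Ideal.Quotient.eq, ← hR, mk_le (by omega) z _ (hR z (k + 1 + t))]
  let D : ℕ → AdicCompletion P A → AdicCompletion P A := fun n z =>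
    if hz : z ∈ RingHom.ker π then AdicCompletion.mk P A
      (AdicCompletion.AdicCauchySequence.mk P A (fun k => γ.dpow n (R z (k + t))) (hcauchy n z hz)) else 0
  have key : ∀ (n : ℕ) (z : AdicCompletion P A) (k b : ℕ) (r : A), z ∈ RingHom.ker π → k + t ≤ b →
      ev b z = Ideal.Quotient.mk _ r → ev k (D n z) = Ideal.Quotient.mk _ (γ.dpow n r) := by
    intro n z k b r hz hb hr
    simp only [D, dif_pos hz]
    rw [show ev k _ = _ from AdicCompletion.evalₐ_mk P k _]
    show Ideal.Quotient.mk _ (γ.dpow n (R z (k + t))) = _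
    rw [Ideal.Quotient.eq]
    refine cont n k _ _ ((memI z b r (by omega) hr).1 hz) ?_
    rw [← Ideal.Quotient.eq, ← hR, mk_le hb z r hr]
  let δ : DividedPowers (RingHom.ker π) :=
  { dpow := D
    dpow_null := fun {n z} hz => dif_neg hz
    dpow_zero := fun {z} hz => AdicCompletion.ext_evalₐ fun k => by
      show ev k _ = ev k _
      rw [key 0 z k _ _ hz le_rfl (hR z _), γ.dpow_zero ((memI z _ _ (by omega) (hR z _)).1 hz), map_one, map_one]
    dpow_one := fun {z} hz => AdicCompletion.ext_evalₐ fun k => by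
      show ev k _ = ev k _
      rw [key 1 z k _ _ hz le_rfl (hR z _), γ.dpow_one ((memI z _ _ (by omega) (hR z _)).1 hz),
        mk_le (by omega) z _ (hR z (k + t))]
    dpow_mem := fun {n z} hn hz => by
      rw [memI (D n z) t _ le_rfl (key n z t _ _ hz le_rfl (hR z _))]
      exact γ.dpow_mem hn ((memI z _ _ (by omega) (hR z _)).1 hz)
    dpow_add := fun {n x y} hx hy => AdicCompletion.ext_evalₐ fun k => by
      show ev k _ = ev k _
      have hxy : ev (k + t) (x + y) = Ideal.Quotient.mk _ (R x (k + t) + R y (k + t)) := by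
        rw [map_add, map_add, hR, hR]
      rw [key n (x + y) k _ _ (add_mem hx hy) le_rfl hxy,
        γ.dpow_add ((memI x _ _ (by omega) (hR x _)).1 hx) ((memI y _ _ (by omega) (hR y _)).1 hy), map_sum, map_sum]
      exact Finset.sum_congr rfl fun i _ => by
        rw [map_mul, map_mul, key _ x k _ _ hx le_rfl (hR x _), key _ y k _ _ hy le_rfl (hR y _)]
    dpow_mul := fun {n a x} hx => AdicCompletion.ext_evalₐ fun k => by
      show ev k _ = ev k _
      have hax : ev (k + t) (a * x) = Ideal.Quotient.mk _ (R a (k + t) * R x (k + t)) := by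
        rw [map_mul, map_mul, hR, hR]
      rw [key n (a * x) k _ _ (Ideal.mul_mem_left _ a hx) le_rfl hax,
        γ.dpow_mul ((memI x _ _ (by omega) (hR x _)).1 hx), map_mul, map_mul, map_pow, map_pow,
        key n x k _ _ hx le_rfl (hR x _), mk_le (by omega) a _ (hR a (k + t))]
    mul_dpow := fun {m n x} hx => AdicCompletion.ext_evalₐ fun k => by
      show ev k _ = ev k _
      rw [map_mul, map_mul, key m x k _ _ hx le_rfl (hR x _), key n x k _ _ hx le_rfl (hR x _),
        key (m + n) x k _ _ hx le_rfl (hR x _), ← map_mul, γ.mul_dpow ((memI x _ _ (by omega) (hR x _)).1 hx),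
        map_mul, map_natCast, map_natCast]
    dpow_comp := fun {m n x} hn hx => AdicCompletion.ext_evalₐ fun k => by
      show ev k _ = ev k _
      have h1 : ev (k + t) (D n x) = Ideal.Quotient.mk _ (γ.dpow n (R x (k + t + t))) :=
        key n x _ _ _ hx le_rfl (hR x _)
      have hI : R x (k + t + t) ∈ I := (memI x _ _ (by omega) (hR x _)).1 hx
      have hDx : D n x ∈ RingHom.ker π := (memI (D n x) _ _ (by omega) h1).2 (γ.dpow_mem hn hI)
      rw [key m (D n x) k _ _ hDx le_rfl h1, γ.dpow_comp hn hI, map_mul, map_mul, map_natCast, map_natCast,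
        key (m * n) x k _ _ hx (by omega) (hR x (k + t + t))] }
  have hal : ∀ (a : A) (b : ℕ), ev b (algebraMap A _ a) = Ideal.Quotient.mk _ a := fun a b => (ev b).commutes a
  refine ⟨δ, Ideal.map_le_iff_le_comap.2 fun a ha => (memI _ t a le_rfl (hal a t)).2 ha, fun {n} a ha => ?_⟩
  refine AdicCompletion.ext_evalₐ fun k => ?_
  show ev k (D n _) = ev k _
  rw [key n _ k _ _ ((memI _ t a le_rfl (hal a t)).2 ha) le_rfl (hal a _), hal]

end Groth.Agent.S6530
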