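import Groth.Statements.S6532
import Groth.Agent.Lib.TorObstruction.Main

set_option autoImplicit false
universe u
open LCI

namespace Groth.Agent.S6532

/-- Let R' → R be a surjection of Noetherian rings whose kernel is generated by a single element f and
has square zero; let I ⊆ R be the image of the annihilator of f. Let S = R[x_1, …, x_n]/(f_1, …,
f_m) and let ∑ r_j f_j = 0 be a relation in R[x_1, …, x_n] such that (1) every coefficient of every
r_j lies in I, and (2) there are lifts r'_j, f'_j in R'[x_1, …, x_n] and an element g with ∑ r'_j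
f'_j = f g, where g maps to a non-nilpotent element of S/IS. Under these hypotheses, the
Tor-dimension of S over R is infinite (so S fails to be a perfect R-algebra). -/
theorem result {R' R : Type u} [CommRing R'] [CommRing R]
    [IsNoetherianRing R'] [IsNoetherianRing R] (π : R' →+* R) (hπ : Function.Surjective π)
    (f : R') (hker : RingHom.ker π = Ideal.span {f}) (hf : f * f = 0)
    {n m : ℕ} (fs r : Fin m → MvPolynomial (Fin n) R) (hrel : ∑ j, r j * fs j = 0)
    (h1 : ∀ (j : Fin m) (d : Fin n →₀ ℕ),
      MvPolynomial.coeff d (r j) ∈ ((Ideal.span {f}).annihilator).map π)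
    (r' f' : Fin m → MvPolynomial (Fin n) R') (g : MvPolynomial (Fin n) R')
    (hr' : ∀ j, MvPolynomial.map π (r' j) = r j) (hf' : ∀ j, MvPolynomial.map π (f' j) = fs j)
    (hsum : ∑ j, r' j * f' j = MvPolynomial.C f * g)
    (hg : ¬ IsNilpotent (Ideal.Quotient.mk
      (Ideal.span (Set.range fs) ⊔ (((Ideal.span {f}).annihilator).map π).map MvPolynomial.C)
      (MvPolynomial.map π g))) :
    ¬ DRing.HasFiniteTorDim R (MvPolynomial (Fin n) R ⧸ Ideal.span (Set.range fs)) := by
  intro htor
  obtain ⟨k, hk⟩ := Lib.TorObstruction.Main.exists_pow_mem π hπ hker hf fs r' f' g hf'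
    (fun j d => by rw [← MvPolynomial.coeff_map, hr' j]; exact h1 j d) hsum htor
  exact hg ⟨k, by rw [← map_pow, Ideal.Quotient.eq_zero_iff_mem]; exact hk⟩

end Groth.Agent.S6532
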