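import Groth.Agent.Lib.DerCat.FilRep
-- Template for statement S6534 (row 6533; see the milestone table for weights).
-- Copy to Groth/Agent/S6534.lean and replace the sorry. The statement below is byte-identical to the frozen
-- statement CohDer.GrothFrozen.S6534 (Groth/Statements/S6534.lean; the theorem CohDer.exists_filtered_complex_representing_system);
-- the grader kernel-checks Groth.Agent.S6534.result against that frozen type. Keep the theorem IN THIS FILE
-- (a `result` declared elsewhere and merely imported here is not credited); helpers may live anywhere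
-- under Groth/Agent/.
import Groth.Statements.S6534
-- import your own Groth.Agent.* helpers here

set_option autoImplicit false
universe w v u
open CategoryTheory
open CohDer

namespace Groth.Agent.S6534

open CategoryTheory.Limits in
/-- Let A be a Grothendieck abelian category, E ∈ D(A), and … → E^{i+1} → E^i → … → E an inverse system
in D(A) over ℤ with compatible maps to E. Then there exists a filtered complex K of A such that K
represents E and F^iK represents E^i, compatibly: there are isomorphisms in D(A) from the images of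
K and of the subcomplexes F^iK to E and E^i under which the inclusions F^iK → K and F^{i+1}K → F^iK
correspond to the given maps E^i → E and E^{i+1} → E^i. -/
theorem result {A : Type u} [Category.{v} A] [Abelian A]
    [IsGrothendieckAbelian.{v} A] [HasDerivedCategory.{w} A]
    (E : DerivedCategory A) (Es : ℤ → DerivedCategory A) (t : ∀ i : ℤ, Es (i + 1) ⟶ Es i)
    (a : ∀ i : ℤ, Es i ⟶ E) (hat : ∀ i : ℤ, t i ≫ a i = a (i + 1)) :
    ∃ (K : SpSeq.FilCx A) (e : DerivedCategory.Q.obj K.obj ≅ E)
      (ei : ∀ i : ℤ, DerivedCategory.Q.obj (K.step i) ≅ Es i),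
      (∀ i : ℤ, DerivedCategory.Q.map (K.fil i).arrow ≫ e.hom = (ei i).hom ≫ a i) ∧
      (∀ i : ℤ, DerivedCategory.Q.map (K.stepLE (le_of_lt (Int.lt_succ_self i))) ≫ (ei i).hom =
        (ei (i + 1)).hom ≫ t i) := by
  have := Localization.essSurj (DerivedCategory.Q (C := A))
    (HomologicalComplex.quasiIso A (ComplexShape.up ℤ))
  have key : ∀ X : DerivedCategory A, ∃ (I : CochainComplex A ℤ) (_ : I.IsKInjective),
      (∀ n, Injective (I.X n)) ∧ Nonempty (DerivedCategory.Q.obj I ≅ X) := fun X => by
    obtain ⟨I, f, hI, hf, -, hinj⟩ := Groth.Agent.Lib.DerCat.KInjExists.exists_kInjective_resolution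
      (DerivedCategory.Q.objPreimage X)
    have : IsIso (DerivedCategory.Q.map f) :=
      (DerivedCategory.isIso_Q_map_iff_quasiIso _ f).2 hf
    exact ⟨I, hI, hinj, ⟨(asIso (DerivedCategory.Q.map f)).symm ≪≫
      DerivedCategory.Q.objObjPreimageIso X⟩⟩
  obtain ⟨I, hIk, hI, ⟨eE⟩⟩ := key E
  choose K hKk hKi hK using fun i => key (Es i)
  let ε := fun i => (hK i).some
  have hs : ∀ i j, i + 1 = j → ∃ g : K j ⟶ K i, ∀ (h : i + 1 = j),
      DerivedCategory.Q.map g = (ε j).hom ≫ eqToHom (by rw [h]) ≫ t i ≫ (ε i).inv := fun i j h => by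
    have := hKk i
    obtain ⟨g, hg⟩ := Groth.Agent.Lib.DerCat.FilRep.exists_map
      ((ε j).hom ≫ eqToHom (by rw [h]) ≫ t i ≫ (ε i).inv : _ ⟶ DerivedCategory.Q.obj (K i))
    exact ⟨g, fun _ => hg⟩
  have := hIk
  have hα : ∀ p, ∃ g : K p ⟶ I, DerivedCategory.Q.map g = (ε p).hom ≫ a p ≫ eE.inv := fun p =>
    Groth.Agent.Lib.DerCat.FilRep.exists_map _
  choose α hα using hα
  let s := fun i j h => (hs i j h).choose
  have hs' : ∀ i j (h : i + 1 = j),
      DerivedCategory.Q.map (s i j h) = (ε j).hom ≫ eqToHom (by rw [h]) ≫ t i ≫ (ε i).inv :=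
    fun i j h => (hs i j h).choose_spec h
  obtain ⟨X, e, ei, h₁, h₂⟩ := Groth.Agent.Lib.DerCat.FilRep.exists_fil K s hI α fun i j h => by
    subst h
    rw [Functor.map_comp, hs' i (i + 1) rfl, hα, hα]
    simp [reassoc_of% (hat i)]
  refine ⟨X, e ≪≫ eE, fun i => ei i ≪≫ ε i, fun i => ?_, fun i => ?_⟩
  · rw [Iso.trans_hom, reassoc_of% (h₁ i), hα]
    simp
  · rw [Iso.trans_hom, ← Category.assoc, h₂ i, hs' i (i + 1) rfl]
    refine (Category.assoc _ _ _).trans (Eq.trans (congrArg ((ei (i + 1)).hom ≫ ·) ?_)
      (Category.assoc _ _ _).symm)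
    simp

end Groth.Agent.S6534
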