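import Groth.Statements.S6536
import Groth.Agent.Lib.Curves.MonoSection

set_option autoImplicit false
universe u
open CategoryTheory CategoryTheory.Limits AlgebraicGeometry
open Curves

namespace Groth.Agent.S6536

/-- Let X be proper over the field k, of dimension one, with H^0(X, O_X) = k, and let L be an invertible
O_X-module which has a regular global section (a monomorphism O_X → L), satisfies H^1(X, L) = 0 and
is ample. Then L^{⊗6} is very ample on X over k: there is a closed immersion i : X → P^n_k over k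
with i^* O(1) ≅ L^{⊗6}. -/
theorem result (k : Type u) [Field k] (X : Scheme.{u}) [X.Over (Spec (CommRingCat.of k))]
    [IsProper (X ↘ (Spec (CommRingCat.of k)))] (hdim : topologicalKrullDim X = 1)
    (h0 : Module.finrank k (Coh.HH X (Coh.structureModule X) 0) = 1) (L : X.Modules) (hL : PicF.IsInvertible L)
    (hs : ∃ s : Coh.structureModule X ⟶ L, Mono s) (h1 : Subsingleton (Coh.HH X L 1)) (hample : CohB1.IsAmple L) :
    ∃ (n : ℕ) (i : X ⟶ CohB1.ProjSpace n k), IsClosedImmersion i ∧ i ≫ CohB1.ProjSpace.toSpec n k = X ↘ (Spec (CommRingCat.of k)) ∧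
      Nonempty ((Scheme.Modules.pullback i).obj (Twist.twistProjSpace n k 1) ≅ CohB1.tensorPow L 6) :=  by
  obtain ⟨φ, hφ⟩ := hs
  let s : Γ(L, ⊤) := φ.app ⊤ (Groth.Agent.Lib.TensorMod.Gen.one X ⊤)
  have hr : Groth.Agent.Lib.Curves.MonoSection.IsRegular s := Groth.Agent.Lib.Curves.MonoSection.isRegular_of_mono φ
  have hinv := Groth.Agent.Lib.TensorMod.Invertible.isInvertible_tensorPow hL
  have h11 : Subsingleton (Coh.HH X (CohB1.tensorPow L 1) 1) :=
    (Groth.Agent.Lib.Curves.LES.isoK k (Groth.Agent.Lib.TensorMod.Basic.leftUnit L) 1).toEquiv.subsingleton_congr.mpr h1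
  have h12 : Subsingleton (Coh.HH X (CohB1.tensorPow L 2) 1) :=
    Groth.Agent.Lib.Curves.MonoSection.subsingleton_tensor hL (hinv 1) hr (k := k) hdim.le h11
  have h13 : Subsingleton (Coh.HH X (CohB1.tensorPow L 3) 1) :=
    Groth.Agent.Lib.Curves.MonoSection.subsingleton_tensor hL (hinv 2) hr (k := k) hdim.le h12
  have hgg : Curv2.IsGloballyGenerated (CohB1.tensorPow L 3) := by
    refine Groth.Agent.Lib.Ample.GG.isGloballyGenerated_of_genAt fun x => ?_
    by_cases hx : x ∈ Groth.Agent.Lib.ProjMor.Sec.locus s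
    · have hg := Groth.Agent.Lib.Ample.Extend.isGen_powSec (Groth.Agent.Lib.ProjMor.Sec.isGen_locus s) 3
      refine Groth.Agent.Lib.Ample.GG.GenAt.of_gens hx (fun _ : Unit => Groth.Agent.Lib.Ample.Extend.powSec
        (Groth.Agent.Lib.ProjMor.Sec.gl s (Groth.Agent.Lib.ProjMor.Sec.locus s)) 3) ?_
        (fun _ => Groth.Agent.Lib.Ample.Extend.powSec s 3) fun _ => ?_
      · refine eq_top_iff.2 fun v _ => ?_
        obtain ⟨a, rfl⟩ := (Groth.Agent.H34.UFDExt.Gen.IsGen.stalk_bijective
          (M := CohB1.tensorPow L 3) (fun W h => hg W h) hx).2 v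
        exact Submodule.smul_mem _ _ (Submodule.subset_span ⟨(), rfl⟩)
      · exact Groth.Agent.Lib.Ample.Extend.rs_powSec _ s 3
    · exact Groth.Agent.Lib.Curves.MonoSection.genAt hL (hinv 2) hr (k := k) hdim.le h12 x hx
  have hA : CohB1.IsAmple (CohB1.tensorPow L 3) :=
    (Groth.Agent.Lib.Ample.Pow.isAmple_tensorPow_iff hL (by norm_num : 0 < 3)).1 hample
  obtain ⟨n, i, hi, hq, ⟨τ⟩⟩ := Groth.Agent.Lib.Curves.GGEmbed.exists_closedImmersion_sq (k := k) hdim.le hA hgg h13
  exact ⟨n, i, hi, hq, ⟨τ ≪≫ Groth.Agent.Lib.Ample.Pow.powMul L 3 2⟩⟩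

end Groth.Agent.S6536
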