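import Groth.Statements.S6537
import Groth.Agent.Lib.Curves.GGEmbed

set_option autoImplicit false
universe u
open CategoryTheory CategoryTheory.Limits AlgebraicGeometry
open Curves

namespace Groth.Agent.S6537

/-- Let X be proper over the field k, of dimension one, with H^0(X, O_X) = k, and let L be an invertible
O_X-module generated by its global sections, with H^1(X, L) = 0 and L ample. Then the tensor square
L^{⊗2} is very ample on X over k: some closed immersion i : X → P^n_k over k has i^* O(1) ≅ L^{⊗2}. -/
theorem result (k : Type u) [Field k] (X : Scheme.{u}) [X.Over (Spec (CommRingCat.of k))]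
    [IsProper (X ↘ (Spec (CommRingCat.of k)))] (hdim : topologicalKrullDim X = 1)
    (h0 : Module.finrank k (Coh.HH X (Coh.structureModule X) 0) = 1) (L : X.Modules) (hL : PicF.IsInvertible L)
    (hgg : Curv2.IsGloballyGenerated L) (h1 : Subsingleton (Coh.HH X L 1)) (hample : CohB1.IsAmple L) :
    ∃ (n : ℕ) (i : X ⟶ CohB1.ProjSpace n k), IsClosedImmersion i ∧ i ≫ CohB1.ProjSpace.toSpec n k = X ↘ (Spec (CommRingCat.of k)) ∧
      Nonempty ((Scheme.Modules.pullback i).obj (Twist.twistProjSpace n k 1) ≅ CohB1.tensorPow L 2) :=  by
  exact Groth.Agent.Lib.Curves.GGEmbed.exists_closedImmersion_sq (k := k) hdim.le hample hgg h1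

end Groth.Agent.S6537
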