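import Groth.Statements.S6538
import Groth.Agent.H60.GGDual.Main
-- import your own Groth.Agent.* helpers here

set_option autoImplicit false
universe u
open CategoryTheory CategoryTheory.Limits AlgebraicGeometry
attribute [local instance] HasDerivedCategory.standard
open Curves

namespace Groth.Agent.S6538

/-- Let X be proper over the field k, of dimension one, with H^0(X, O_X) = k, and let ω_X be its
dualizing module (the degree -1 cohomology sheaf of f^! O for the structure morphism f, assuming
Rf_* on D_QCoh and its right adjoint exist). If L is an invertible O_X-module generated by its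
global sections and L is not isomorphic to O_X, then ω_X ⊗ L has no first cohomology: H^1(X, ω_X ⊗
L) = 0. -/
theorem result (k : Type u) [Field k] (X : Scheme.{u}) [X.Over (Spec (CommRingCat.of k))] [IsProper (X ↘ (Spec (CommRingCat.of k)))] (hdim : topologicalKrullDim X = 1)
    (h0 : Module.finrank k (Coh.HH X (Coh.structureModule X) 0) = 1)
    [DCoh.HasRpush (X ↘ (Spec (CommRingCat.of k)))] (h : DCoh.RpushPreservesQCoh (X ↘ (Spec (CommRingCat.of k)))) [DCoh.HasShriek (X ↘ (Spec (CommRingCat.of k))) h]
    (OY : DCoh.DQCoh (Spec (CommRingCat.of k))) (hOY : Nonempty (OY.obj ≅ DCoh.inD (Spec (CommRingCat.of k)) (Coh.structureModule (Spec (CommRingCat.of k)))))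
    (L : X.Modules) (hL : PicF.IsInvertible L) (hgg : Curv2.IsGloballyGenerated L) (hnt : IsEmpty (L ≅ Coh.structureModule X)) :
    Subsingleton (Coh.HH X (CohB1.tensorMod (DCoh.dualizingMod (X ↘ (Spec (CommRingCat.of k))) h OY 1) L) 1) := by
  obtain ⟨eO⟩ := hOY
  exact Groth.Agent.H60.GGDual.Main.subsingleton_HH_one X h (DCoh.shriek _ h) (DCoh.shriekAdj _ h) OY eO hdim
    (Groth.Agent.H56.CurveDual.Consts.isIso_appTop X h0) L hL hgg hnt

end Groth.Agent.S6538
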