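import Groth.Statements.S6541
import Groth.Agent.Lib.Curves.DegreeOne

set_option autoImplicit false
universe u
open CategoryTheory CategoryTheory.Limits AlgebraicGeometry
open Curves

namespace Groth.Agent.S6541

/-- Let X be a proper curve over the field k (proper, integral, of dimension one). If the first
cohomology of O_X vanishes and some invertible O_X-module has degree 1, then X is isomorphic to
P^1_k over k. -/
theorem result (k : Type u) [Field k] (X : Scheme.{u}) [X.Over (Spec (CommRingCat.of k))]
    [IsIntegral X] [IsProper (X ↘ (Spec (CommRingCat.of k)))] (hdim : topologicalKrullDim X = 1)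
    (h1 : Subsingleton (Coh.HH X (Coh.structureModule X) 1))
    (L : X.Modules) (hL : PicF.IsInvertible L) (hdeg : Curv2.deg k X L 1 = 1) :
    ∃ e : X ≅ CohB1.ProjSpace 1 k, e.hom ≫ CohB1.ProjSpace.toSpec 1 k = X ↘ (Spec (CommRingCat.of k)) := by
  open Groth.Agent.Lib.Curves in
  refine DegreeOne.exists_iso_line hdim hL hdeg ?_
  have h0 := Groth.Agent.Lib.Curves.DegreeOne.h0_eq_one hdim.le hL hdeg
  have hr := Groth.Agent.Lib.Curves.Degree.riemann_roch hdim.le h0 hL
  have hg : Curv2.genus k X = 0 := Module.finrank_zero_of_subsingleton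
  rw [hg, hdeg] at hr
  omega

end Groth.Agent.S6541
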