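import Groth.Statements.S6542
import Groth.Agent.Lib.Curves.DegreeOne

set_option autoImplicit false
universe u
open CategoryTheory CategoryTheory.Limits AlgebraicGeometry
attribute [local instance] Curv2.resAlgebra
open Curves

namespace Groth.Agent.S6542

/-- Let X be a proper curve over the field k (proper, integral, of dimension one). If H^1(X, O_X) = 0
and there are closed points x_1, ..., x_n of X whose local rings are normal and whose residue-field
degrees over k have greatest common divisor 1, then X is isomorphic to P^1_k over k. -/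
theorem result (k : Type u) [Field k] (X : Scheme.{u}) [X.Over (Spec (CommRingCat.of k))]
    [IsIntegral X] [IsProper (X ↘ (Spec (CommRingCat.of k)))] (hdim : topologicalKrullDim X = 1)
    (h1 : Subsingleton (Coh.HH X (Coh.structureModule X) 1))
    (s : Finset X) (hcl : ∀ x ∈ s, IsClosed ({x} : Set X)) (hn : ∀ x ∈ s, IsIntegrallyClosed (X.presheaf.stalk x))
    (hgcd : s.gcd (fun x => Module.finrank k (X.residueField x)) = 1) :
    ∃ e : X ≅ CohB1.ProjSpace 1 k, e.hom ≫ CohB1.ProjSpace.toSpec 1 k = X ↘ (Spec (CommRingCat.of k)) := by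
  classical
  have hd1 : topologicalKrullDim X ≤ 1 := hdim.le
  haveI := Groth.Agent.Lib.Curves.GlobalSections.isNoetherian_of_proper k X
  have key : ∀ t : Finset X, t ⊆ s → ∃ L : X.Modules, PicF.IsInvertible L ∧
      Curv2.deg k X L 1 = ((t.gcd fun x => Module.finrank k (X.residueField x) : ℕ) : ℤ) := by
    have hpow : ∀ (L : X.Modules), PicF.IsInvertible L → ∀ n : ℤ, ∃ M : X.Modules,
        PicF.IsInvertible M ∧ Curv2.deg k X M 1 = n * Curv2.deg k X L 1 := by
      intro L hL n
      induction n with
      | zero => exact ⟨_, PicLoc.isInvertible_structureModule X, by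
          rw [Groth.Agent.Lib.Curves.Degree.deg_structureModule, zero_mul]⟩
      | succ i ih =>
        obtain ⟨M, hM, hd⟩ := ih
        exact ⟨_, Groth.Agent.Lib.TensorMod.Invertible.isInvertible_tensorMod hM hL, by
          rw [Groth.Agent.Lib.Curves.Degree.deg_tensor hd1 hM hL, hd]; ring⟩
      | pred i ih =>
        obtain ⟨M, hM, hd⟩ := ih
        obtain ⟨N, hN, hNd⟩ := Groth.Agent.Lib.TensorMod.Invertible.exists_inverse hL
        exact ⟨_, Groth.Agent.Lib.TensorMod.Invertible.isInvertible_tensorMod hM hN, by
          rw [Groth.Agent.Lib.Curves.Degree.deg_tensor hd1 hM hN, hd,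
            Groth.Agent.Lib.Curves.Degree.deg_of_isInverseOf hd1 hL hN hNd]; ring⟩
    intro t
    induction t using Finset.induction with
    | empty => exact fun _ => ⟨_, PicLoc.isInvertible_structureModule X, by
        rw [Groth.Agent.Lib.Curves.Degree.deg_structureModule]; simp⟩
    | insert a t ha ih =>
      intro hsub
      obtain ⟨L, hL, hd⟩ := ih ((Finset.subset_insert a t).trans hsub)
      have has : a ∈ s := hsub (Finset.mem_insert_self a t)
      haveI := hn a has
      have hdimA := Groth.Agent.Lib.Curves.GenusZero.one_le_dim_stalk hdim (hcl a has)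
      haveI : Ring.KrullDimLE 1 (X.presheaf.stalk a) := Ring.krullDimLE_iff.mpr hdimA.le
      have hP : IsPrincipalIdealRing (X.presheaf.stalk a) := by
        exact ((tfae_of_isNoetherianRing_of_isLocalRing_of_isDomain (X.presheaf.stalk a)).out 3 0).mp
          (⟨inferInstance, fun P hP0 hPp => IsLocalRing.eq_maximalIdeal (hPp.isMaximal_of_ne_bot hP0)⟩ :
            IsIntegrallyClosed (X.presheaf.stalk a) ∧ ∀ P : Ideal (X.presheaf.stalk a), P ≠ ⊥ →
              P.IsPrime → P = IsLocalRing.maximalIdeal (X.presheaf.stalk a))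
      obtain ⟨M, hM, hMd⟩ := Groth.Agent.Lib.Curves.DegreeOne.exists_deg_of_point (k := k) hdim (hcl a has) hP
      rw [Groth.Agent.Lib.Curves.PointIdeal.hdim_quot_point] at hMd
      obtain ⟨A, hA, hAd⟩ := hpow M hM ((Nat.gcdA (Module.finrank k (X.residueField a))
        (t.gcd fun x => Module.finrank k (X.residueField x))))
      obtain ⟨B, hB, hBd⟩ := hpow L hL ((Nat.gcdB (Module.finrank k (X.residueField a))
        (t.gcd fun x => Module.finrank k (X.residueField x))))
      refine ⟨_, Groth.Agent.Lib.TensorMod.Invertible.isInvertible_tensorMod hA hB, ?_⟩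
      rw [Groth.Agent.Lib.Curves.Degree.deg_tensor hd1 hA hB, hAd, hBd, hMd, hd, Finset.gcd_insert,
        gcd_eq_nat_gcd, Nat.gcd_eq_gcd_ab]
      ring
  obtain ⟨L, hL, hd⟩ := key s subset_rfl
  rw [hgcd, Nat.cast_one] at hd
  refine Groth.Agent.Lib.Curves.DegreeOne.exists_iso_line hdim hL hd ?_
  have h0 := Groth.Agent.Lib.Curves.DegreeOne.h0_eq_one hd1 hL hd
  have hr := Groth.Agent.Lib.Curves.Degree.riemann_roch hd1 h0 hL
  have hg : Curv2.genus k X = 0 := Module.finrank_zero_of_subsingleton
  rw [hg, hd] at hr
  omega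

end Groth.Agent.S6542
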