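import Groth.Statements.S6548
import Groth.Agent.H34.Elliptic.Torsion
import Groth.Agent.Lib.GrpSch.BaseChange

set_option autoImplicit false
universe u
open CategoryTheory CategoryTheory.Limits AlgebraicGeometry
open scoped CategoryTheory.MonObj
open Curves

namespace Groth.Agent.S6548

/-- Let k be a field, n a natural number invertible in k, and X a smooth proper curve over k (proper,
smooth, integral, of dimension one) with H^0(X, O_X) = k and genus 1. Then over some finite
separable field extension k′ of k the base change X_{k′} acquires a point rational over k′ (a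
section of X_{k′} → Spec k′) and has exactly n^2 isomorphism classes of invertible modules M with
M^{⊗n} ≅ O. (The published statement gives Pic(X_{k′})[n] ≅ (Z/nZ)^2; this row states the number of
classes, which is equivalent because pullback embeds Pic(X_{k′}) into the Picard group over an
algebraic closure.) -/
theorem result (k : Type u) [Field k] (X : Scheme.{u}) [X.Over (Spec (CommRingCat.of k))]
    [IsIntegral X] [IsProper (X ↘ (Spec (CommRingCat.of k)))] [Smooth (X ↘ (Spec (CommRingCat.of k)))] (hdim : topologicalKrullDim X = 1)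
    (h0 : Module.finrank k (Coh.HH X (Coh.structureModule X) 0) = 1) (hg : Curv2.genus k X = 1)
    (n : ℕ) (hn : IsUnit (n : k)) :
    ∃ (k' : Type u) (_ : Field k') (_ : Algebra k k'), FiniteDimensional k k' ∧ Algebra.IsSeparable k k' ∧
      (∃ x : Spec (CommRingCat.of k') ⟶ Curv2.bc k X k', x ≫ Curv2.bcSnd k X k' = 𝟙 _) ∧
      Nat.card {c : PicF.Cl (Curv2.bc k X k') | ∃ M : Scheme.Modules (Curv2.bc k X k'), PicF.cl M = c ∧ PicF.IsInvertible M ∧ Nonempty (CohB1.tensorPow M (n) ≅ Coh.structureModule (Curv2.bc k X k'))} = n ^ 2 := by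
  open Groth.Agent Groth.Agent.Lib Groth.Agent.H34.Elliptic MonoidalCategory CartesianMonoidalCategory in
  classical
  let c := X ↘ Spec (CommRingCat.of k)
  haveI hgc : GeometricallyConnected c := Torsion.geometricallyConnected_of_h0 h0
  have hFam : Point.Fam c := OverField.fam c hdim hg
  obtain ⟨x₀⟩ : Nonempty X := inferInstance
  obtain ⟨U, hU, hxU, -⟩ := exists_isAffineOpen_mem_and_subset (U := (⊤ : X.Opens)) (x := x₀) trivial
  let C : Over (Spec (CommRingCat.of k)) := Over.mk (U.ι ≫ c)
  haveI : IsAffine C.left := hU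
  haveI : Smooth C.hom := inferInstanceAs (Smooth (U.ι ≫ c))
  haveI : Nonempty C.left := ⟨⟨x₀, hxU⟩⟩
  obtain ⟨L, _, _, hLfin, hLsep, ⟨p⟩⟩ := Groth.Agent.H1.Classical.TorusTransporter.exists_separable_point C
  haveI := hLfin
  haveI := hLsep
  let σL := GrpSch.extBase k L
  have hp : (p.left ≫ U.ι) ≫ c = σL := (Category.assoc _ _ _).trans (Over.w p)
  let x : Spec (CommRingCat.of L) ⟶ pullback c σL :=
    pullback.lift (p.left ≫ U.ι) (𝟙 _) (hp.trans (Category.id_comp _).symm)
  have hx : x ≫ pullback.snd c σL = 𝟙 _ := pullback.lift_snd _ _ _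
  have hY : Point.Fam (pullback.snd c σL) := hFam.pull (IsPullback.of_hasPullback c σL)
  let E : Over (Spec (CommRingCat.of L)) := Over.mk (pullback.snd c σL)
  letI : GrpObj E := Group.grpObj hY x hx
  haveI : IsCommMonObj E := Group.grpObj_comm hY x hx
  haveI : IsProper E.hom := hY.proper
  haveI : Smooth E.hom := hY.smooth
  haveI : GeometricallyConnected E.hom := hY.conn
  haveI : GeometricallyIntegral E.hom := H4.GeomInt.geometricallyIntegral E
  have hdimY : topologicalKrullDim E.left = ((1 : ℕ) : WithBot ℕ∞) :=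
    (@H56.DimBaseChange.topologicalKrullDim_baseChange _ _ _ _ _ _ σL c (pullback.snd c σL)
      (pullback.fst c σL) (IsPullback.of_hasPullback c σL) inferInstance).trans (hdim.trans Nat.cast_one.symm)
  let Ω := AlgebraicClosure L
  have hnk : (n : k) ≠ 0 := hn.ne_zero
  have hn0 : n ≠ 0 := fun h => hnk (by rw [h, Nat.cast_zero])
  have hnL : IsUnit (n : L) := by simpa using hn.map (algebraMap k L)
  have hnΩ : (n : Ω) ≠ 0 := by simpa using (hnL.map (algebraMap L Ω)).ne_zero
  have hcardΩ : Nat.card {P : SGA7.pt (K := L) Ω ⟶ E // P ^ n = 1} = n ^ 2 := by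
    haveI := H63.AVBaseChange.isProper_bc Ω E
    haveI := H63.AVBaseChange.geometricallyIntegral_bc Ω E
    haveI := H63.AVBaseChange.isCommMonObj_bc Ω E
    have h2 := S12396.result Ω (H63.AVBaseChange.bc Ω E) 1
      (H63.AVBaseChange.topologicalKrullDim_bc Ω E hdimY) n hnΩ
    rw [mul_one] at h2
    rw [← h2]
    refine Nat.card_congr ((H63.AVBaseChange.ptsEquiv Ω E).toEquiv.subtypeEquiv fun P => ?_)
    rw [AbDual.mem_torsPts]
    exact ((H63.AVBaseChange.ptsEquiv Ω E).map_eq_one_iff (x := P ^ n)).symm.trans (by rw [map_pow]; rfl)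
  have hnΓ : IsUnit (n : Γ(Spec (CommRingCat.of L), ⊤)) := by
    simpa using hnL.map (Scheme.ΓSpecIso (CommRingCat.of L)).inv.hom
  haveI := (S16248.tor_finite_etale E n hnΓ).1
  haveI := (S16248.tor_finite_etale E n hnΓ).2
  obtain ⟨L', hL'fin, hL'sep, hsplit⟩ := Torsion.exists_split (S16248.torι E n ≫ E.hom)
  haveI := hL'fin
  haveI := hL'sep
  haveI : FiniteDimensional k L' := Module.Finite.trans L L'
  haveI : Algebra.IsSeparable k L' := Algebra.IsSeparable.trans k L L'
  let σ' := GrpSch.extBase L L'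
  have hσ : σ' ≫ σL = Spec.map (CommRingCat.ofHom (algebraMap k L')) := by
    rw [show σ' = Spec.map _ from rfl, show σL = Spec.map _ from rfl, ← Spec.map_comp,
      IsScalarTower.algebraMap_eq k L L', CommRingCat.ofHom_comp]
  refine ⟨L', inferInstance, inferInstance, inferInstance, inferInstance,
    ⟨pullback.lift (σ' ≫ p.left ≫ U.ι) (𝟙 _)
      ((Category.assoc _ _ _).trans ((congrArg (σ' ≫ ·) hp).trans (hσ.trans (Category.id_comp _).symm))),
      pullback.lift_snd _ _ _⟩, ?_⟩
  let T : Over (Spec (CommRingCat.of L)) := Over.mk σ'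
  let e : PicF.XT (pullback.snd c σL) T ≅ Curv2.bc k X L' :=
    pullbackLeftPullbackSndIso c σL σ' ≪≫ pullback.congrHom rfl hσ
  show Nat.card (Torsion.torsCl (Curv2.bc k X L') n) = n ^ 2
  rw [← Torsion.card_torsCl_iso e, Torsion.card_torsCl_eq_pts hY x hx σ' hn0, ← hcardΩ]
  let res : SGA7.pt (K := L) Ω ⟶ T := Over.homMk (Spec.map (CommRingCat.ofHom (algebraMap L' Ω))) (by
    show Spec.map _ ≫ Spec.map _ = Spec.map _
    rw [← Spec.map_comp]
    rfl)
  haveI : Flat res.left := by
    show Flat (Spec.map (CommRingCat.ofHom (algebraMap L' Ω)))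
    rw [HasRingHomProperty.Spec_iff (P := @Flat)]
    exact RingHom.flat_algebraMap_iff.2 (inferInstance : Module.Flat L' Ω)
  haveI : Surjective res.left := ⟨fun z => ⟨IsLocalRing.closedPoint Ω, Subsingleton.elim (α := PrimeSpectrum L') _ _⟩⟩
  haveI : QuasiCompact res.left := inferInstanceAs (QuasiCompact (Spec.map (CommRingCat.ofHom (algebraMap L' Ω))))
  haveI := Flat.epi_of_flat_of_surjective res.left
  refine Nat.card_congr (Equiv.ofBijective
    (fun P => ⟨res ≫ P.1, by rw [← MonObj.comp_pow, P.2, MonObj.comp_one]⟩) ⟨fun P P' h => ?_, fun P => ?_⟩)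
  · exact Subtype.ext (Over.OverMorphism.ext ((cancel_epi res.left).1
      (congrArg (fun Q => Q.1.left) h)))
  · obtain ⟨w, hw⟩ := (S16248.factor_iff E n P.1).2 P.2
    obtain ⟨w', hw'1, hw'2⟩ := hsplit w (by
      rw [← Category.assoc, hw]
      exact Over.w P.1)
    let Q : T ⟶ E := Over.homMk (w' ≫ S16248.torι E n) ((Category.assoc _ _ _).trans hw'1)
    refine ⟨⟨Q, (S16248.factor_iff E n Q).1 ⟨w', rfl⟩⟩, Subtype.ext (Over.OverMorphism.ext ?_)⟩
    show Spec.map _ ≫ w' ≫ S16248.torι E n = P.1.left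
    rw [← Category.assoc, hw'2, hw]

end Groth.Agent.S6548
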