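import Groth.Statements.S6554
import Groth.Agent.H34.EtaleAt
import Mathlib.RingTheory.Etale.Field

set_option autoImplicit false
universe u
open CategoryTheory CategoryTheory.Limits AlgebraicGeometry
open Curves

namespace Groth.Agent.S6554

/-- (3) ⇔ (4) ⇔ (5): let k be a field and f : X → Y a morphism over k of smooth curves over k (integral,
separated, of finite type and smooth over k, of dimension one) which is nonconstant: f(ξ_X) = ξ_Y
for the generic points ξ_X of X and ξ_Y of Y (hypothesis e), so that the function field k(Y) maps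
into k(X). Then: some nonempty open U ⊆ X has f|_U unramified if and only if some nonempty open U ⊆
X has f|_U étale; and the latter holds if and only if k(X)/k(Y) is a finite separable extension.
(The published statement also lists two further equivalent conditions, that df : f^*Ω_{Y/k} →
Ω_{X/k} is nonzero and that Ω_{X/Y} is supported on a proper closed subset; this row omits them. For
a constant f every condition stated here fails, so assuming f nonconstant loses nothing.) -/
theorem result (k : Type u) [Field k]
    (X Y : Scheme.{u}) [X.Over (Spec (CommRingCat.of k))] [Y.Over (Spec (CommRingCat.of k))]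
    [IsIntegral X] [IsSeparated (X ↘ (Spec (CommRingCat.of k)))] [LocallyOfFiniteType (X ↘ (Spec (CommRingCat.of k)))] [QuasiCompact (X ↘ (Spec (CommRingCat.of k)))] (hdX : topologicalKrullDim X = 1) [Smooth (X ↘ (Spec (CommRingCat.of k)))]
    [IsIntegral Y] [IsSeparated (Y ↘ (Spec (CommRingCat.of k)))] [LocallyOfFiniteType (Y ↘ (Spec (CommRingCat.of k)))] [QuasiCompact (Y ↘ (Spec (CommRingCat.of k)))] (hdY : topologicalKrullDim Y = 1) [Smooth (Y ↘ (Spec (CommRingCat.of k)))]
    (f : X ⟶ Y) (hf : f ≫ (Y ↘ (Spec (CommRingCat.of k))) = X ↘ (Spec (CommRingCat.of k))) (e : f (genericPoint X) = genericPoint Y) :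
    letI := ((Y.presheaf.stalkSpecializes (specializes_of_eq e) ≫ f.stalkMap (genericPoint X)).hom).toAlgebra
    ((∃ U : X.Opens, (U : Set X).Nonempty ∧ FormallyUnramified (U.ι ≫ f)) ↔
      (∃ U : X.Opens, (U : Set X).Nonempty ∧ Etale (U.ι ≫ f))) ∧
    ((∃ U : X.Opens, (U : Set X).Nonempty ∧ Etale (U.ι ≫ f)) ↔
      (FiniteDimensional Y.functionField X.functionField ∧ Algebra.IsSeparable Y.functionField X.functionField)) := by
  let φ := Y.presheaf.stalkSpecializes (specializes_of_eq e) ≫ f.stalkMap (genericPoint X)
  letI : Algebra Y.functionField X.functionField := φ.hom.toAlgebra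
  have : IsIso (Y.presheaf.stalkSpecializes (specializes_of_eq e)) :=
    ⟨Y.presheaf.stalkSpecializes (specializes_of_eq e.symm), by simp, by simp⟩
  have : LocallyOfFiniteType f := by
    have : LocallyOfFiniteType (f ≫ (Y ↘ Spec (CommRingCat.of k))) := by rw [hf]; infer_instance
    exact locallyOfFiniteType_of_comp f (Y ↘ Spec (CommRingCat.of k))
  have : IsLocallyNoetherian Y :=
    LocallyOfFiniteType.isLocallyNoetherian (Y ↘ Spec (CommRingCat.of k))
  have := H34.EtaleAt.locallyOfFinitePresentation f
  have hess : Algebra.EssFiniteType Y.functionField X.functionField := by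
    rw [← RingHom.essFiniteType_algebraMap]
    exact (RingHom.EssFiniteType.respectsIso.cancel_left_isIso _ _).2
      (LocallyOfFiniteType.stalkMap f (genericPoint X))
  have key : (∃ U : X.Opens, (U : Set X).Nonempty ∧ FormallyUnramified (U.ι ≫ f)) →
      FiniteDimensional Y.functionField X.functionField ∧
        Algebra.IsSeparable Y.functionField X.functionField := by
    rintro ⟨U, hU, _⟩
    have hξ : genericPoint X ∈ U :=
      ((genericPoint_spec X).mem_open_set_iff U.2).2 (by simpa using hU)
    let ξ' : (U : Scheme.{u}) := ⟨genericPoint X, hξ⟩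
    have h1 : (f.stalkMap (U.ι ξ') ≫ U.ι.stalkMap ξ').hom.FormallyUnramified :=
      (Scheme.Hom.stalkMap_comp U.ι f ξ') ▸ FormallyUnramified.stalkMap (U.ι ≫ f) ξ'
    have : IsIso (U.ι.stalkMap ξ') := inferInstance
    have h2 : φ.hom.FormallyUnramified :=
      (RingHom.FormallyUnramified.respectsIso.cancel_left_isIso _ _).2
        ((RingHom.FormallyUnramified.respectsIso.cancel_right_isIso _ (U.ι.stalkMap ξ')).1 h1)
    have : Algebra.FormallyUnramified Y.functionField X.functionField := h2
    exact ⟨Algebra.FormallyUnramified.finite_of_free _ _,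
      Algebra.FormallyUnramified.isSeparable _ _⟩
  have key2 : FiniteDimensional Y.functionField X.functionField ∧
      Algebra.IsSeparable Y.functionField X.functionField →
      ∃ U : X.Opens, (U : Set X).Nonempty ∧ Etale (U.ι ≫ f) := by
    rintro ⟨_, _⟩
    have := Algebra.FormallyEtale.of_isSeparable Y.functionField X.functionField
    have h1 : φ.hom.FormallySmooth :=
      (inferInstance : Algebra.FormallySmooth Y.functionField X.functionField)
    have h2 : φ.hom.FormallyUnramified :=
      (inferInstance : Algebra.FormallyUnramified Y.functionField X.functionField)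
    obtain ⟨W, hW, hWe⟩ := H34.EtaleAt.exists_etale_nhd f (genericPoint X)
      ((RingHom.FormallySmooth.respectsIso.cancel_left_isIso _ _).1 h1)
      ((RingHom.FormallyUnramified.respectsIso.cancel_left_isIso _ _).1 h2)
    exact ⟨W, ⟨_, hW⟩, hWe⟩
  have key3 : (∃ U : X.Opens, (U : Set X).Nonempty ∧ Etale (U.ι ≫ f)) →
      ∃ U : X.Opens, (U : Set X).Nonempty ∧ FormallyUnramified (U.ι ≫ f) :=
    fun ⟨U, hU, _⟩ => ⟨U, hU, inferInstance⟩
  exact ⟨⟨fun h => key2 (key h), key3⟩, ⟨fun h => key (key3 h), key2⟩⟩

end Groth.Agent.S6554
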