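import Groth.Statements.S6555
import Groth.Agent.H34.SmoothCurveStalk
import Groth.Agent.H34.KaehlerRankOne

set_option autoImplicit false
universe u
open CategoryTheory CategoryTheory.Limits AlgebraicGeometry
attribute [local instance] Curv2.resAlgebra Curv2.stalkAlgebra
open Curves

namespace Groth.Agent.S6555

/-- Let X be a scheme over the field k and x ∈ X a closed point near which X → Spec k is smooth of
relative dimension 1 (on some open neighbourhood of x), with κ(x)/k separable. If s is an
irreducible element of the local ring O_{X,x} (a discrete valuation ring, so s generates its maximal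
ideal), then Ω_{O_{X,x}/k}, which is the stalk of Ω_{X/k} at x, is free of rank one with basis d s:
the map a ↦ a · d s from O_{X,x} to Ω_{O_{X,x}/k} is bijective. -/
theorem result (k : Type u) [Field k] (X : Scheme.{u}) [X.Over (Spec (CommRingCat.of k))]
    (x : X) (hx : IsClosed ({x} : Set X))
    (hsm : ∃ U : X.Opens, x ∈ U ∧ SmoothOfRelativeDimension 1 (U.ι ≫ (X ↘ (Spec (CommRingCat.of k)))))
    (hsep : Algebra.IsSeparable k (X.residueField x))
    (s : X.presheaf.stalk x) (hs : Irreducible s) :
    Function.Bijective (fun a : X.presheaf.stalk x => a • KaehlerDifferential.D k (X.presheaf.stalk x) s) := by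
  obtain ⟨_, ⟨e⟩, hdom, hdvr⟩ := Groth.Agent.H34.SmoothCurveStalk.closedPoint_facts k X x hx hsm
  have := hdvr
  have hres : Algebra.IsSeparable k (IsLocalRing.ResidueField (X.presheaf.stalk x)) := hsep
  have : Algebra.FormallyUnramified k (IsLocalRing.ResidueField (X.presheaf.stalk x)) :=
    Algebra.FormallyUnramified.of_isSeparable _ _
  have hu := Groth.Agent.H34.KaehlerRankOne.isUnit_D_of_maximalIdeal_eq e s hs.maximalIdeal_eq
  constructor
  · intro a b hab
    have := congrArg e hab
    simp only [map_smul, smul_eq_mul] at this
    exact hu.mul_left_injective this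
  · intro w
    refine ⟨e w * hu.unit⁻¹, e.injective ?_⟩
    simp only [map_smul, smul_eq_mul, mul_assoc, IsUnit.val_inv_mul, mul_one]

end Groth.Agent.S6555
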