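import Groth.Statements.S6556
import Groth.Agent.Lib.InsepFibre.Basic
import Groth.Agent.Lib.Cyc.PurInsepFibre
import Groth.Agent.Lib.GeomConn.Residue
import Groth.Agent.Lib.Curves.HurwitzLocal

set_option autoImplicit false
universe u
open CategoryTheory CategoryTheory.Limits AlgebraicGeometry
attribute [local instance] Curv2.resAlgebra
open Curves

namespace Groth.Agent.S6556

open TensorProduct IsLocalRing Groth.Agent.Lib

theorem ramificationIdx_maximalIdeal (A B : Type u) [CommRing A] [CommRing B] [IsLocalRing A]
    [IsLocalRing B] [Algebra A B] [IsLocalHom (algebraMap A B)] :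
    Ideal.ramificationIdx (maximalIdeal B) A =
      (Module.length B (B ⧸ (maximalIdeal A).map (algebraMap A B))).toNat := by
  have hm : (maximalIdeal B).under A = maximalIdeal A := by
    have h4 := (IsLocalRing.local_hom_TFAE (algebraMap A B)).out 0 4
    exact h4.1 inferInstance
  rw [Ideal.ramificationIdx_def, hm]
  congr 1
  let S := Localization.AtPrime (maximalIdeal B)
  let e : B ≃ₐ[B] S := IsLocalization.atUnits B (maximalIdeal B).primeCompl
    (fun y hy => by
      show IsUnit y
      simpa [Ideal.primeCompl, mem_nonunits_iff] using hy)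
  have hJ : (maximalIdeal A).map (algebraMap A S) =
      ((maximalIdeal A).map (algebraMap A B)).map e.toRingEquiv.toRingHom := by
    rw [Ideal.map_map]
    congr 1
  rw [Module.length_eq_of_surjective (R := S ⧸ (maximalIdeal A).map (algebraMap A S)) (S := S)
      (M := S ⧸ (maximalIdeal A).map (algebraMap A S)) Ideal.Quotient.mk_surjective,
    Module.length_eq_of_surjective (R := B ⧸ (maximalIdeal A).map (algebraMap A B)) (S := B)
      (M := B ⧸ (maximalIdeal A).map (algebraMap A B)) Ideal.Quotient.mk_surjective]
  exact (Cyc.PurInsepFibre.length_self_congr (Ideal.quotientEquiv _ _ e.toRingEquiv hJ)).symm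

/-- The ramification index is the length of the local ring of the fibre. -/
theorem ramificationIdx_eq_fibLen {X Y : Scheme.{u}} (f : X ⟶ Y) (x : X) :
    letI := (f.stalkMap x).hom.toAlgebra
    Ideal.ramificationIdx (maximalIdeal (X.presheaf.stalk x)) (Y.presheaf.stalk (f x)) =
      (Cyc.FibLen.fibLen f x).toNat := by
  letI := (f.stalkMap x).hom.toAlgebra
  haveI : IsLocalHom (algebraMap (Y.presheaf.stalk (f x)) (X.presheaf.stalk x)) :=
    inferInstanceAs (IsLocalHom (f.stalkMap x).hom)
  exact ramificationIdx_maximalIdeal _ _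

theorem resMap_eq (k : Type u) [Field k] (X : Scheme.{u}) [X.Over (Spec (CommRingCat.of k))] (x : X) :
    Spec.map (CommRingCat.ofHom (Curv2.resMap k X x)) =
      X.fromSpecResidueField x ≫ (X ↘ Spec (CommRingCat.of k)) :=
  Lib.GeomConn.Residue.specMap_resMap k X x

theorem key (k : Type u) [Field k] (X : Scheme.{u}) [X.Over (Spec (CommRingCat.of k))]
    (K : Type u) [Field K] [Algebra k K] [IsAlgClosed K] [Algebra.IsAlgebraic k K]
    (xb : Curv2.bc k X K) [Module.Finite k (X.residueField (Curv2.bcFst k X K xb))] :
    letI := ((Curv2.bcFst k X K).stalkMap xb).hom.toAlgebra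
    Ideal.ramificationIdx (maximalIdeal ((Curv2.bc k X K).presheaf.stalk xb))
        (X.presheaf.stalk (Curv2.bcFst k X K xb)) =
      Field.finInsepDegree k (X.residueField (Curv2.bcFst k X K xb)) := by
  set f := Curv2.bcFst k X K
  set x := f xb
  refine (ramificationIdx_eq_fibLen f xb).trans ?_
  suffices Cyc.FibLen.fibLen f xb = (Field.finInsepDegree k (X.residueField x) : ℕ∞) by
    rw [this]; rfl
  have h1 : IsPullback (f.fiberι x) (f.fiberToSpecResidueField x) f (X.fromSpecResidueField x) :=
    IsPullback.of_hasPullback _ _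
  have h2 : IsPullback (pullback.snd (X ↘ Spec (CommRingCat.of k))
      (Spec.map (CommRingCat.ofHom (algebraMap k K)))) f
      (Spec.map (CommRingCat.ofHom (algebraMap k K))) (X ↘ Spec (CommRingCat.of k)) :=
    (IsPullback.of_hasPullback _ _).flip
  have h3 := h1.paste_horiz h2
  rw [← resMap_eq k X x] at h3
  let e : f.fiber x ≅ Spec (CommRingCat.of (K ⊗[k] (X.residueField x))) :=
    h3.isoPullback ≪≫ pullbackSpecIso k K (X.residueField x)
  set z := f.asFiber xb
  set B := CommRingCat.of (K ⊗[k] (X.residueField x))
  haveI : (PrimeSpectrum.asIdeal (R := B) (e.hom z)).IsPrime := PrimeSpectrum.isPrime (R := B) (e.hom z)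
  letI : Algebra B ((Spec B).presheaf.stalk (e.hom z)) := StructureSheaf.stalkAlgebra _ _
  haveI : IsLocalization.AtPrime ((Spec B).presheaf.stalk (e.hom z)) (PrimeSpectrum.asIdeal (R := B) (e.hom z)) :=
    StructureSheaf.IsLocalization.to_stalk _ _
  let E := ((H46.FiberStalk.quotientEquiv f xb).trans
      (asIso (e.hom.stalkMap z)).symm.commRingCatIsoToRingEquiv).trans
    (IsLocalization.algEquiv (PrimeSpectrum.asIdeal (R := B) (e.hom z)).primeCompl
      ((Spec B).presheaf.stalk (e.hom z))
      (Localization.AtPrime (PrimeSpectrum.asIdeal (R := B) (e.hom z)))).toRingEquiv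
  refine (Module.length_eq_of_surjective
    (R := (Curv2.bc k X K).presheaf.stalk xb ⧸
      Ideal.map (f.stalkMap xb).hom (maximalIdeal (X.presheaf.stalk (f xb))))
    Ideal.Quotient.mk_surjective).trans ?_
  rw [Cyc.PurInsepFibre.length_self_congr E]
  exact InsepFibre.length_localization k K (X.residueField x) _

/-- Let X be a smooth curve over the field k (integral, separated, of finite type and smooth over k, of
dimension one), k̄ an algebraic closure of k, x̄ ∈ X_{k̄} a closed point and x ∈ X its image. Then
the ramification index of the extension of discrete valuation rings O_{X,x} → O_{X_{k̄}, x̄} (the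
length of O_{X_{k̄},x̄} modulo the ideal generated by the maximal ideal of O_{X,x}) equals the
inseparable degree [κ(x) : k]_i. -/
theorem result (k : Type u) [Field k] (X : Scheme.{u}) [X.Over (Spec (CommRingCat.of k))]
    [IsIntegral X] [IsSeparated (X ↘ (Spec (CommRingCat.of k)))] [LocallyOfFiniteType (X ↘ (Spec (CommRingCat.of k)))] [QuasiCompact (X ↘ (Spec (CommRingCat.of k)))] (hdX : topologicalKrullDim X = 1) [Smooth (X ↘ (Spec (CommRingCat.of k)))]
    (xb : Curv2.bc k X (AlgebraicClosure k)) (hxb : IsClosed ({xb} : Set (Curv2.bc k X (AlgebraicClosure k)))) :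
    letI := ((Curv2.bcFst k X (AlgebraicClosure k)).stalkMap xb).hom.toAlgebra
    Ideal.ramificationIdx (IsLocalRing.maximalIdeal ((Curv2.bc k X (AlgebraicClosure k)).presheaf.stalk xb))
        (X.presheaf.stalk (Curv2.bcFst k X (AlgebraicClosure k) xb)) =
      Field.finInsepDegree k (X.residueField (Curv2.bcFst k X (AlgebraicClosure k) xb)) :=  by
  set f := Curv2.bcFst k X (AlgebraicClosure k) with hf
  set x := f xb with hx
  have hxc : IsClosed ({x} : Set X) := by
    haveI : IsIntegralHom (Spec.map (CommRingCat.ofHom (algebraMap k (AlgebraicClosure k)))) :=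
      IsIntegralHom.SpecMap_iff.2 (algebraMap_isIntegral_iff.2 inferInstance)
    haveI : IsIntegralHom f :=
      MorphismProperty.of_isPullback (P := @IsIntegralHom) (IsPullback.of_hasPullback _ _).flip inferInstance
    simpa [Set.image_singleton] using f.isClosedMap _ hxb
  obtain ⟨U, hU, hxU, -⟩ := exists_isAffineOpen_mem_and_subset (x := x) (U := ⊤) trivial
  haveI := Lib.Curves.HurwitzLocal.finite_residueField (k := k) hU hxU hxc
  exact key k X (AlgebraicClosure k) xb

end Groth.Agent.S6556
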