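import Groth.Statements.S6559
import Mathlib.AlgebraicGeometry.ValuativeCriterion
import Mathlib.AlgebraicGeometry.SpreadingOut
import Mathlib.AlgebraicGeometry.FunctionField

set_option autoImplicit false
universe u
open CategoryTheory CategoryTheory.Limits AlgebraicGeometry
open Curves

namespace Groth.Agent.S6559

/-- Let k be a field, X a curve over k (integral, separated and of finite type over k, of dimension
one), Y a proper variety over k (integral, proper over k), U ⊆ X a nonempty open and f : U → Y a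
morphism over k. If the local ring of X at a closed point x is a discrete valuation ring, then f
extends to a k-morphism U' → Y on some open U' ⊇ U of X containing x. -/
theorem result (k : Type u) [Field k]
    (X Y : Scheme.{u}) [X.Over (Spec (CommRingCat.of k))] [Y.Over (Spec (CommRingCat.of k))]
    [IsIntegral X] [IsSeparated (X ↘ (Spec (CommRingCat.of k)))] [LocallyOfFiniteType (X ↘ (Spec (CommRingCat.of k)))] [QuasiCompact (X ↘ (Spec (CommRingCat.of k)))] (hdX : topologicalKrullDim X = 1)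
    [IsIntegral Y] [IsProper (Y ↘ (Spec (CommRingCat.of k)))]
    (U : X.Opens) (hU : (U : Set X).Nonempty) (f : (U : Scheme.{u}) ⟶ Y) (hf : f ≫ (Y ↘ (Spec (CommRingCat.of k))) = U.ι ≫ (X ↘ (Spec (CommRingCat.of k))))
    (x : X) (hx : IsClosed ({x} : Set X)) (hdvr : IsDiscreteValuationRing (X.presheaf.stalk x)) :
    ∃ (U' : X.Opens) (hUU' : U ≤ U') (f' : (U' : Scheme.{u}) ⟶ Y), x ∈ U' ∧
      f' ≫ (Y ↘ (Spec (CommRingCat.of k))) = U'.ι ≫ (X ↘ (Spec (CommRingCat.of k))) ∧ X.homOfLE hUU' ≫ f' = f := by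
  by_cases hxU : x ∈ U
  · exact ⟨U, le_rfl, f, hxU, hf, by simp⟩
  have := hdvr
  have hη : genericPoint X ∈ U :=
    ((genericPoint_spec X).mem_open_set_iff U.2).2 (by simpa using hU)
  let iK : Spec X.functionField ⟶ Y := U.fromSpecStalkOfMem (genericPoint X) hη ≫ f
  have hsp : X.presheaf.stalkSpecializes (genericPoint_specializes x) =
      CommRingCat.ofHom (algebraMap (X.presheaf.stalk x) X.functionField) := rfl
  have hdom : IsDomain (X.presheaf.stalk x) := inferInstance
  have hval : ValuationRing (X.presheaf.stalk x) := inferInstance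
  have hfr : IsFractionRing (X.presheaf.stalk x) X.functionField := inferInstance
  let j : Spec X.functionField ⟶ Spec (X.presheaf.stalk x) :=
    Spec.map (X.presheaf.stalkSpecializes (genericPoint_specializes x))
  have hsq : CommSq iK j (Y ↘ Spec (CommRingCat.of k))
      (X.fromSpecStalk x ≫ (X ↘ Spec (CommRingCat.of k))) := ⟨by
    simp only [iK, j, Category.assoc, hf, Scheme.Opens.fromSpecStalkOfMem_ι_assoc,
      Scheme.SpecMap_stalkSpecializes_fromSpecStalk_assoc]⟩
  let sq : ValuativeCommSq (Y ↘ Spec (CommRingCat.of k)) :=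
    @ValuativeCommSq.mk _ _ (Y ↘ Spec (CommRingCat.of k)) (X.presheaf.stalk x) _ hdom hval
      X.functionField _ _ hfr iK (X.fromSpecStalk x ≫ (X ↘ Spec (CommRingCat.of k))) hsq
  have hex : ValuativeCriterion.Existence (Y ↘ Spec (CommRingCat.of k)) :=
    (show ValuativeCriterion (Y ↘ Spec (CommRingCat.of k)) from by
      have h : IsProper (Y ↘ Spec (CommRingCat.of k)) := inferInstance
      rw [IsProper.eq_valuativeCriterion] at h
      exact h.1.1.1).existence
  obtain ⟨⟨⟨l, hl₁, hl₂⟩⟩⟩ := hex sq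
  obtain ⟨V, hxV, g, hg₁, hg₂⟩ :=
    spread_out_of_isGermInjective' (X ↘ Spec (CommRingCat.of k)) (Y ↘ Spec (CommRingCat.of k))
      (x := x) l hl₂
  have hηV : genericPoint X ∈ V := ((genericPoint_spec X).mem_open_set_iff V.2).2 ⟨x, trivial, hxV⟩
  have hagree : X.homOfLE (inf_le_left : U ⊓ V ≤ U) ≫ f = X.homOfLE (inf_le_right : U ⊓ V ≤ V) ≫ g := by
    let W := U ⊓ V
    have hWne : genericPoint X ∈ W := ⟨hη, hηV⟩
    have : Nonempty (W : Scheme.{u}) := ⟨⟨_, hWne⟩⟩
    have : IsDominant (W.fromSpecStalkOfMem (genericPoint X) hWne) := by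
      refine ⟨?_⟩
      refine dense_iff_inter_open.2 fun O hO hne => ?_
      obtain ⟨o, ho⟩ := hne
      obtain ⟨O', hO', rfl⟩ := hO
      have hmem : genericPoint X ∈ O' :=
        ((genericPoint_spec X).mem_open_set_iff hO').2 ⟨o.1, trivial, ho⟩
      refine ⟨_, ?_, ⟨IsLocalRing.closedPoint _, rfl⟩⟩
      have hpt : (W.fromSpecStalkOfMem (genericPoint X) hWne ≫ W.ι).base (IsLocalRing.closedPoint _) =
          genericPoint X := by
        rw [Scheme.Opens.fromSpecStalkOfMem_ι]
        exact Scheme.fromSpecStalk_closedPoint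
      exact (hpt.symm ▸ hmem :
        (W.fromSpecStalkOfMem (genericPoint X) hWne ≫ W.ι).base (IsLocalRing.closedPoint _) ∈ O')
    refine ext_of_isDominant_of_isSeparated (Y ↘ Spec (CommRingCat.of k)) ?_
      (W.fromSpecStalkOfMem (genericPoint X) hWne) ?_
    · rw [Category.assoc, Category.assoc, hf, hg₂, Scheme.homOfLE_ι_assoc, Scheme.homOfLE_ι_assoc]
    · have e₁ : W.fromSpecStalkOfMem (genericPoint X) hWne ≫ X.homOfLE (inf_le_left : U ⊓ V ≤ U) =
          U.fromSpecStalkOfMem (genericPoint X) hη := by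
        rw [← cancel_mono U.ι]; simp [W]
      have e₂ : W.fromSpecStalkOfMem (genericPoint X) hWne ≫ X.homOfLE (inf_le_right : U ⊓ V ≤ V) =
          Spec.map (X.presheaf.stalkSpecializes (genericPoint_specializes x)) ≫
            V.fromSpecStalkOfMem x hxV := by
        rw [← cancel_mono V.ι]; simp [W]
      rw [reassoc_of% e₁, reassoc_of% e₂, ← hg₁]
      exact hl₁.symm
  let S : Bool → X.Opens := fun b => cond b U V
  let φ : ∀ b : Bool, (S b : Scheme.{u}) ⟶ Y := fun b => Bool.rec g f b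
  let 𝒰 := Scheme.Opens.iSupOpenCover S
  have hcompat : ∀ a b : Bool, pullback.fst (𝒰.f a) (𝒰.f b) ≫ φ a =
      pullback.snd (𝒰.f a) (𝒰.f b) ≫ φ b := by
    have hlift : ∀ {P : Scheme.{u}} (p : P ⟶ U) (q : P ⟶ V), p ≫ U.ι = q ≫ V.ι → p ≫ f = q ≫ g := by
      intro P p q hpq
      have hr : Set.range (p ≫ U.ι).base ⊆ Set.range (U ⊓ V).ι.base := by
        rintro _ ⟨z, rfl⟩
        rw [Scheme.Opens.range_ι]
        refine ⟨(p.base z).2, ?_⟩
        rw [hpq]
        exact (q.base z).2
      have e1 : IsOpenImmersion.lift (U ⊓ V).ι _ hr ≫ X.homOfLE inf_le_left = p := by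
        rw [← cancel_mono U.ι]; simp
      have e2 : IsOpenImmersion.lift (U ⊓ V).ι _ hr ≫ X.homOfLE inf_le_right = q := by
        rw [← cancel_mono V.ι]; simp [hpq]
      rw [← e1, ← e2, Category.assoc, Category.assoc, hagree]
    intro a b
    have hc : pullback.fst (𝒰.f a) (𝒰.f b) ≫ (S a).ι = pullback.snd (𝒰.f a) (𝒰.f b) ≫ (S b).ι := by
      have := congrArg (· ≫ (⨆ i, S i).ι) (pullback.condition (f := 𝒰.f a) (g := 𝒰.f b))
      simpa [𝒰, Scheme.Opens.iSupOpenCover] using this
    cases a <;> cases b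
    · rw [(cancel_mono V.ι).1 hc]
    · exact (hlift _ _ hc.symm).symm
    · exact hlift _ _ hc
    · rw [(cancel_mono U.ι).1 hc]
  let F := Scheme.Cover.glueMorphisms 𝒰 φ hcompat
  have hF : ∀ b, X.homOfLE (le_iSup S b) ≫ F = φ b :=
    fun b => 𝒰.ι_glueMorphisms _ hcompat b
  refine ⟨⨆ i, S i, le_iSup S true, F, le_iSup S false hxV, ?_, hF true⟩
  refine 𝒰.hom_ext _ _ fun b => ?_
  show X.homOfLE (le_iSup S b) ≫ _ = X.homOfLE (le_iSup S b) ≫ _
  rw [reassoc_of% (hF b), Scheme.homOfLE_ι_assoc]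
  cases b
  · exact hg₂
  · exact hf

end Groth.Agent.S6559
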