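import Groth.Statements.S6563
import Groth.Agent.Lib.CurveCompl53.Basic

set_option autoImplicit false
universe u
open CategoryTheory CategoryTheory.Limits AlgebraicGeometry
open Curves

namespace Groth.Agent.S6563

/-- Let k be a field and f : X → Y a morphism over k of varieties over k, with X a curve (integral,
separated and of finite type over k, of dimension one) and Y proper over k (and integral). Then f
extends over a projective completion of X: there are a projective curve X̄ over k (integral, of
dimension one, admitting a closed immersion over k into some P^n_k), an open immersion j : X → X̄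
over k and a k-morphism g : X̄ → Y with g ∘ j = f. -/
theorem result (k : Type u) [Field k]
    (X Y : Scheme.{u}) [X.Over (Spec (CommRingCat.of k))] [Y.Over (Spec (CommRingCat.of k))]
    [IsIntegral X] [IsSeparated (X ↘ (Spec (CommRingCat.of k)))] [LocallyOfFiniteType (X ↘ (Spec (CommRingCat.of k)))] [QuasiCompact (X ↘ (Spec (CommRingCat.of k)))] (hdX : topologicalKrullDim X = 1)
    [IsIntegral Y] [IsProper (Y ↘ (Spec (CommRingCat.of k)))]
    (f : X ⟶ Y) (hf : f ≫ (Y ↘ (Spec (CommRingCat.of k))) = X ↘ (Spec (CommRingCat.of k))) :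
    ∃ (Xb : Scheme.{u}) (_ : Xb.Over (Spec (CommRingCat.of k))) (j : X ⟶ Xb) (g : Xb ⟶ Y),
      IsOpenImmersion j ∧ j ≫ g = f ∧ j ≫ (Xb ↘ (Spec (CommRingCat.of k))) = X ↘ (Spec (CommRingCat.of k)) ∧ g ≫ (Y ↘ (Spec (CommRingCat.of k))) = Xb ↘ (Spec (CommRingCat.of k)) ∧
      IsIntegral Xb ∧ topologicalKrullDim Xb = 1 ∧
      ∃ (n : ℕ) (i : Xb ⟶ CohB1.ProjSpace n k), IsClosedImmersion i ∧ i ≫ CohB1.ProjSpace.toSpec n k = Xb ↘ (Spec (CommRingCat.of k)) := by
  obtain ⟨Xc, gc, jc, hXc, hgc, hjc, hjck, -⟩ :=
    Groth.Agent.Lib.CurveCompl53.Basic.exists_proper_completion k X (X ↘ _) hdX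
  let p := pullback.fst gc (Y ↘ (Spec (CommRingCat.of k)))
  let q := pullback.snd gc (Y ↘ (Spec (CommRingCat.of k)))
  let i : X ⟶ pullback gc (Y ↘ (Spec (CommRingCat.of k))) := pullback.lift jc f (hjck.trans hf.symm)
  haveI : IsImmersion (i ≫ p) := by rw [pullback.lift_fst]; infer_instance
  haveI : IsImmersion i := IsImmersion.of_comp i p
  haveI : IsProper (p ≫ gc) := inferInstance
  haveI : QuasiCompact (i ≫ p ≫ gc) := by
    rw [pullback.lift_fst_assoc, hjck]; infer_instance
  haveI : QuasiCompact i := QuasiCompact.of_comp i (p ≫ gc)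
  letI : i.image.Over (Spec (CommRingCat.of k)) := ⟨i.imageι ≫ p ≫ gc⟩
  haveI : IsProper (i.image ↘ (Spec (CommRingCat.of k))) := inferInstanceAs (IsProper (i.imageι ≫ p ≫ gc))
  haveI : IsOpenImmersion i.toImage := inferInstance
  have hjk : i.toImage ≫ (i.image ↘ (Spec (CommRingCat.of k))) = X ↘ (Spec (CommRingCat.of k)) := by
    show i.toImage ≫ i.imageι ≫ p ≫ gc = _
    rw [Scheme.Hom.toImage_imageι_assoc, pullback.lift_fst_assoc, hjck]
  haveI : IrreducibleSpace i.image := by
    haveI : IsDominant i.toImage := inferInstance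
    exact (irreducibleSpace_def _).2 (by
      rw [Set.top_eq_univ, ← i.toImage.denseRange.closure_range, ← Set.image_univ]
      exact (((IrreducibleSpace.isIrreducible_univ X)).image i.toImage i.toImage.continuous.continuousOn).closure)
  haveI : IsSchemeTheoreticallyDominant i.toImage := Groth.Agent.Lib.ModPair.std_toImage i
  haveI : IsReduced i.image := IsSchemeTheoreticallyDominant.isReduced i.toImage
  haveI : IsIntegral i.image := isIntegral_of_irreducibleSpace_of_isReduced _
  haveI : CompactSpace X := QuasiCompact.compactSpace_of_compactSpace (X ↘ (Spec (CommRingCat.of k)))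
  haveI : CompactSpace i.image := QuasiCompact.compactSpace_of_compactSpace (i.image ↘ (Spec (CommRingCat.of k)))
  have hdim : topologicalKrullDim i.image = 1 :=
    (Groth.Agent.Lib.CurveCompl53.Basic.dim_eq_of_dense_open _ _ i.toImage hjk).trans hdX
  refine ⟨i.image, ⟨i.imageι ≫ p ≫ gc⟩, i.toImage, i.imageι ≫ q, inferInstance, ?_, hjk, ?_, inferInstance, hdim,
    Groth.Agent.Lib.CurveCompl53.Basic.exists_closedImmersion k i.image hdim⟩
  · rw [Scheme.Hom.toImage_imageι_assoc, pullback.lift_snd]
  · show (i.imageι ≫ q) ≫ _ = i.imageι ≫ p ≫ gc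
    rw [Category.assoc, pullback.condition]

end Groth.Agent.S6563
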