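import Groth.Statements.S6564


set_option autoImplicit false
universe u
open CategoryTheory CategoryTheory.Limits AlgebraicGeometry
open Curves

namespace Groth.Agent.S6564

/-- Let X be proper over the field k of dimension at most 1. If X has a g^r_d (an invertible module L of
degree d with an ordered family of r + 1 global sections linearly independent over k), then X has a
g^s_d for every 0 ≤ s ≤ r. -/
theorem result (k : Type u) [Field k] (X : Scheme.{u}) [X.Over (Spec (CommRingCat.of k))] [IsProper (X ↘ (Spec (CommRingCat.of k)))] (hdim : topologicalKrullDim X ≤ 1)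
    (d r : ℕ) (L : X.Modules) (σ : Fin (r + 1) → LinSer.Sect X L) (hL : LinSer.IsLinSer k X L d r σ)
    (s : ℕ) (hs : s ≤ r) :
    ∃ (L' : X.Modules) (τ : Fin (s + 1) → LinSer.Sect X L'), LinSer.IsLinSer k X L' d s τ := by
  obtain ⟨hinv, hdeg, hind⟩ := hL
  refine ⟨L, fun i => σ (Fin.castLE (by omega) i), hinv, hdeg, ?_⟩
  have he : Function.Injective (Fin.castLE (show s + 1 ≤ r + 1 by omega)) := Fin.castLE_injective _
  intro c hc
  have h := hind (Function.extend (Fin.castLE (show s + 1 ≤ r + 1 by omega)) c 0) ?_
  · funext i
    simpa [he.extend_apply] using congrFun h (Fin.castLE (by omega) i)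
  · refine Eq.trans ?_ hc
    refine (Fintype.sum_of_injective _ he _ _ (fun j hj => ?_) (fun i => ?_)).symm
    · rw [Function.extend_apply' _ _ _ (fun ⟨a, ha⟩ => hj ⟨a, ha⟩)]
      simp
    · rw [he.extend_apply]

end Groth.Agent.S6564
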