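import Groth.Statements.S6566
import Groth.Statements.S6566
import Groth.Agent.H56.CurveDual.Duality
import Groth.Agent.H56.CurveDual.Consts

set_option autoImplicit false
universe u
open CategoryTheory CategoryTheory.Limits AlgebraicGeometry
attribute [local instance] HasDerivedCategory.standard
open Curves

open Groth.Agent

namespace Groth.Agent.S6566

/-- Let X be proper over the field k, of dimension one, with H^0(X, O_X) = k, and ω_X its dualizing
module (the degree -1 cohomology sheaf of f^! O for the structure morphism f, assuming Rf_* on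
D_QCoh and its right adjoint exist). For coherent O_X-modules F and Q and an exact sequence ω_X → F
→ Q → 0 in which Q has no first cohomology, F has no first cohomology unless the map ω_X → F admits
a retraction (so that F splits as ω_X ⊕ Q): that is, H^1(X, F) = 0 or ω_X → F has a left inverse. -/
theorem result (k : Type u) [Field k] (X : Scheme.{u}) [X.Over (Spec (CommRingCat.of k))] [IsProper (X ↘ (Spec (CommRingCat.of k)))] (hdim : topologicalKrullDim X = 1)
    (h0 : Module.finrank k (Coh.HH X (Coh.structureModule X) 0) = 1)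
    [DCoh.HasRpush (X ↘ (Spec (CommRingCat.of k)))] (h : DCoh.RpushPreservesQCoh (X ↘ (Spec (CommRingCat.of k)))) [DCoh.HasShriek (X ↘ (Spec (CommRingCat.of k))) h]
    (OY : DCoh.DQCoh (Spec (CommRingCat.of k))) (hOY : Nonempty (OY.obj ≅ DCoh.inD (Spec (CommRingCat.of k)) (Coh.structureModule (Spec (CommRingCat.of k)))))
    (F Q : X.Modules) (hF : Coh.IsCoh F) (hQ : Coh.IsCoh Q)
    (f : DCoh.dualizingMod (X ↘ (Spec (CommRingCat.of k))) h OY 1 ⟶ F) (g : F ⟶ Q) [Epi g] (w : f ≫ g = 0) (hex : (ShortComplex.mk f g w).Exact)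
    (hQ1 : Subsingleton (Coh.HH X Q 1)) :
    Subsingleton (Coh.HH X F 1) ∨ ∃ r : F ⟶ DCoh.dualizingMod (X ↘ (Spec (CommRingCat.of k))) h OY 1, f ≫ r = 𝟙 (DCoh.dualizingMod (X ↘ (Spec (CommRingCat.of k))) h OY 1) := by
  obtain ⟨eO⟩ := hOY
  let p := X ↘ Spec (CommRingCat.of k)
  by_cases hF1 : Subsingleton (Coh.HH X F 1)
  · exact Or.inl hF1
  refine Or.inr ?_
  obtain ⟨r, hr⟩ : ∃ r : F ⟶ DCoh.dualizingMod p h OY 1, r ≠ 0 := by
    by_contra hh
    push Not at hh
    exact hF1 (H56.CurveDual.Duality.subsingleton_HH_one p hdim.le h (DCoh.shriek p h)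
      (DCoh.shriekAdj p h) OY eO F hF.1 hh)
  have hfr : f ≫ r ≠ 0 := fun hz => hr <| by
    obtain ⟨l, hl⟩ : ∃ l : Q ⟶ DCoh.dualizingMod p h OY 1, g ≫ l = r :=
      ⟨hex.desc r hz, hex.g_desc r hz⟩
    rw [← hl, H56.CurveDual.Duality.hom_eq_zero p hdim.le h (DCoh.shriek p h)
      (DCoh.shriekAdj p h) OY eO Q hQ.1 hQ1 l, comp_zero]
  haveI := H56.CurveDual.Duality.isIso_of_ne_zero p hdim.le h (DCoh.shriek p h)
    (DCoh.shriekAdj p h) OY eO (H56.CurveDual.Consts.isIso_appTop X h0) (f ≫ r) hfr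
  exact ⟨r ≫ CategoryTheory.inv (f ≫ r), by rw [← Category.assoc, IsIso.hom_inv_id]⟩

end Groth.Agent.S6566
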