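import Groth.Statements.S6568
import Groth.Agent.H56.CurveDual.Rank1Generate

set_option autoImplicit false
universe u
open CategoryTheory CategoryTheory.Limits AlgebraicGeometry
attribute [local instance] HasDerivedCategory.standard
open Curves

open Groth.Agent

namespace Groth.Agent.S6568

/-- Let X be proper and integral over the field k, of dimension one, with H^0(X, O_X) = k, and ω_X its
dualizing module (the degree -1 cohomology sheaf of f^! O for the structure morphism f, assuming
Rf_* on D_QCoh and its right adjoint exist). Suppose F is a torsion-free coherent O_X-module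
(stalkwise: a · m = 0 forces a = 0 or m = 0) containing ω_X as a submodule, with coherent quotient Q
= F/ω_X supported in dimension zero and with dim_k H^0(X, Q) ≥ 2 (so 0 → ω_X → F → Q → 0 is short
exact). Then F is generated by its global sections. -/
theorem result (k : Type u) [Field k] (X : Scheme.{u}) [X.Over (Spec (CommRingCat.of k))] [IsIntegral X] [IsProper (X ↘ (Spec (CommRingCat.of k)))] (hdim : topologicalKrullDim X = 1)
    (h0 : Module.finrank k (Coh.HH X (Coh.structureModule X) 0) = 1)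
    [DCoh.HasRpush (X ↘ (Spec (CommRingCat.of k)))] (h : DCoh.RpushPreservesQCoh (X ↘ (Spec (CommRingCat.of k)))) [DCoh.HasShriek (X ↘ (Spec (CommRingCat.of k))) h]
    (OY : DCoh.DQCoh (Spec (CommRingCat.of k))) (hOY : Nonempty (OY.obj ≅ DCoh.inD (Spec (CommRingCat.of k)) (Coh.structureModule (Spec (CommRingCat.of k)))))
    (F Q : X.Modules) (hF : Coh.IsCoh F) (hQ : Coh.IsCoh Q)
    (f : DCoh.dualizingMod (X ↘ (Spec (CommRingCat.of k))) h OY 1 ⟶ F) (g : F ⟶ Q) (w : f ≫ g = 0) (hex : (ShortComplex.mk f g w).ShortExact)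
    (htf : ∀ (x : X) (a : X.presheaf.stalk x) (m : F.presheaf.stalk x), a • m = 0 → a = 0 ∨ m = 0)
    (hQ0 : topologicalKrullDim (CohB1.support Q) ≤ 0) (hQ2 : 2 ≤ Module.finrank k (Coh.HH X Q 0)) :
    Curv2.IsGloballyGenerated F := by
  obtain ⟨eO⟩ := hOY
  haveI := hQ.1
  haveI := hQ.2
  haveI := LocallyOfFiniteType.isLocallyNoetherian (X ↘ Spec (CommRingCat.of k))
  have hQ0' : ∀ x : X, ¬ IsClosed ({x} : Set X) → Subsingleton (Q.presheaf.stalk x) := fun x hx => by
    by_contra hns
    exact hx (H56.CurveDual.Generate.isClosed_singleton_of_dim_le_zero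
      (Lib.Modules.Support.isClosed_support Q) hQ0 hns)
  have hex1 : ∀ t : Γ(F, (⊤ : X.Opens)), ∃ φ : Coh.structureModule X ⟶ F,
      φ.app ⊤ (Lib.TensorMod.Gen.one X ⊤) = t := fun t => by
    obtain ⟨φ, hφ⟩ := Lib.TensorMod.Gen.exists_hom_of_family (M := F)
      (fun W => Lib.TensorMod.Dual.rs F (le_top : W ≤ ⊤) t) (fun V W h => Lib.TensorMod.Dual.rs_rs F le_top h _)
    exact ⟨φ, (hφ ⊤).trans (Lib.TensorMod.Dual.rs_self F le_top t)⟩
  choose φ hφ using hex1
  let s : (SheafOfModules.free (Γ(F, (⊤ : X.Opens)) : Type u) : X.Modules) ⟶ F :=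
    F.freeHomEquiv.symm fun i => F.unitHomEquiv (φ i)
  refine ⟨_, s, @H56.CurveDual.Rank1Generate.main X _ k _ _ _ _ h _ OY eO hdim h0 F Q hF hQ f g w hex htf hQ0' hQ2
    _ ?_ s fun t => ⟨(SheafOfModules.freeSection (R := X.ringCatSheaf) t).val (Opposite.op ⊤), ?_⟩⟩
  · exact inferInstance
  · have h1 := congrArg (fun m => m.val (Opposite.op (⊤ : X.Opens)))
      (congrFun (F.freeHomEquiv.apply_symm_apply fun i => F.unitHomEquiv (φ i)) t)
    exact h1.trans (hφ t)

end Groth.Agent.S6568
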