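import Groth.Statements.S6569
import Groth.Agent.H25.Node.SingFamily
import Groth.Agent.S9758


set_option autoImplicit false
universe u
open CategoryTheory CategoryTheory.Limits AlgebraicGeometry
attribute [local instance] HasDerivedCategory.standard
open Curves
set_option linter.style.haveILetI false

namespace Groth.Agent.S6569

/-- Let k be a field and X a scheme locally of finite type over k, equidimensional of dimension 1; the
structure morphism is also assumed quasi-separated (automatic here, X being locally Noetherian), so
that the sheaf of differentials Ω_{X/k} can be taken as the conormal sheaf of the diagonal. Two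
conditions on X are then equivalent: (1) X has at worst nodal singularities; (2) X → Spec k is a
local complete intersection morphism, and Z → Spec k is unramified, where Z ⊆ X denotes the closed
subscheme whose ideal sheaf is the first Fitting ideal of Ω_{X/k}. -/
theorem result (k : Type u) [Field k] (X : Scheme.{u}) [X.Over (Spec (CommRingCat.of k))] [LocallyOfFiniteType (X ↘ (Spec (CommRingCat.of k)))] [QuasiSeparated (X ↘ (Spec (CommRingCat.of k)))]
    (hequi : ∀ Z ∈ irreducibleComponents (X : Type u), topologicalKrullDim Z = 1) :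
    Curv2.AtWorstNodal k X ↔
      (Dual3.IsLCIMor (X ↘ (Spec (CommRingCat.of k))) ∧
        FormallyUnramified ((Fitt.sheafIdeal (Omega.sheaf (X ↘ (Spec (CommRingCat.of k)))) 1).subschemeι ≫ (X ↘ (Spec (CommRingCat.of k))))) := by
  set p := X ↘ Spec (CommRingCat.of k) with hp
  constructor
  · intro hn
    have hf := Groth.Agent.H25.Node.SingFamily.isNodalFamily_field k X hequi hn
    refine ⟨fun x => ?_, Groth.Agent.H25.Morse.Singular.formallyUnramified _ hf⟩
    have hK := ((Groth.Agent.S9758.result p).2 (Groth.Agent.H25.Node.SingFamily.isSyntomicMor p hf)).2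
    obtain ⟨U, hU, hxU, -⟩ := exists_isAffineOpen_mem_and_subset (X := X) (x := x) (U := ⊤) trivial
    exact ⟨⟨U, hU⟩, ⟨⊤, isAffineOpen_top _⟩, fun _ _ => trivial, hxU,
      (Groth.Agent.H68.LCIBridge.isLCI_appLE_iff p hU (isAffineOpen_top _) fun _ _ => trivial).2
        fun y _ => hK y⟩
  · rintro ⟨hlci, hu⟩
    haveI : Flat p := (Flat.iff_flat_stalkMap p).2 (Groth.Agent.Lib.JacCrit.OverField.flat_stalkMap p)
    have hK : ∀ x : X, Synt.IsKoszulAt p x := fun x => by
      obtain ⟨U, V, e, hxU, h⟩ := hlci x
      exact (Groth.Agent.H68.LCIBridge.isLCI_appLE_iff p U.2 V.2 e).1 h x hxU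
    have hci := Groth.Agent.Lib.Synt92.MorCrit.isCIMorphism_of_isSyntomicMor p
      ((Groth.Agent.S9758.result p).1 ⟨inferInstance, hK⟩)
    refine Groth.Agent.H25.Node.SingCrit.atWorstNodal k X hequi (fun x => ?_) hu
    have h2 := (Groth.Agent.Lib.Synt92.MorOverField.isCI_iff (k := k) p x).1 (hci.2.2 x)
    show @Synt.IsCIOver _ _ _ _ (Curv2.stalkMap k X x).toAlgebra _
    rw [Groth.Agent.H25.Node.SmoothPoint.stalkMap_eq k X x]
    exact h2


end Groth.Agent.S6569
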