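import Groth.Statements.S6572
import Groth.Agent.Lib.Curves.CurveMap
import Groth.Agent.Lib.Curves.KaehlerLength
import Groth.Agent.Lib.Curves.HurwitzLocal
import Groth.Agent.Lib.CurveFF.Hyp
import Groth.Agent.Lib.CurveFF.FieldExt
import Groth.Agent.Lib.Normalization.Eval
import Mathlib.AlgebraicGeometry.Morphisms.FiniteType

set_option autoImplicit false
universe u
open CategoryTheory CategoryTheory.Limits AlgebraicGeometry
open Curves

namespace Groth.Agent.S6572

/-- Let k be a field and f : X → Y a morphism over k of smooth proper curves over k (proper, smooth,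
integral, of dimension one) which is generically étale (étale on a nonempty open of X) and
nonconstant (f(ξ_X) = ξ_Y for the generic points), with H^0(X, O_X) = H^0(Y, O_Y) = k. For a closed
point x ∈ X with image y, write e_x for the ramification index of the extension of discrete
valuation rings O_{Y,y} → O_{X,x} and d_x for the length of the O_{X,x}-module Ω_{O_{X,x}/O_{Y,y}}.
Then e_x − 1 ≤ d_x, with equality exactly when O_{Y,y} → O_{X,x} is tame: the residue field
extension κ(x)/κ(y) is separable and e_x is not divisible by the characteristic of κ(y) (e_x ≠ 0 in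
κ(y)). (The published statement also identifies d_x with the multiplicity of x in the ramification
divisor; this row takes the length of Ω_{O_{X,x}/O_{Y,y}}, the stalk of Ω_{X/Y} at x, as the
definition of d_x.) -/
theorem result (k : Type u) [Field k]
    (X Y : Scheme.{u}) [X.Over (Spec (CommRingCat.of k))] [Y.Over (Spec (CommRingCat.of k))]
    [IsIntegral X] [IsProper (X ↘ (Spec (CommRingCat.of k)))] [Smooth (X ↘ (Spec (CommRingCat.of k)))] (hdX : topologicalKrullDim X = 1)
    [IsIntegral Y] [IsProper (Y ↘ (Spec (CommRingCat.of k)))] [Smooth (Y ↘ (Spec (CommRingCat.of k)))] (hdY : topologicalKrullDim Y = 1)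
    (hX0 : Module.finrank k (Coh.HH X (Coh.structureModule X) 0) = 1) (hY0 : Module.finrank k (Coh.HH Y (Coh.structureModule Y) 0) = 1)
    (f : X ⟶ Y) (hf : f ≫ (Y ↘ (Spec (CommRingCat.of k))) = X ↘ (Spec (CommRingCat.of k))) (e : f (genericPoint X) = genericPoint Y)
    (het : ∃ U : X.Opens, (U : Set X).Nonempty ∧ Etale (U.ι ≫ f))
    (x : X) (hx : IsClosed ({x} : Set X)) :
    letI := (f.stalkMap x).hom.toAlgebra
    letI := (f.residueFieldMap x).hom.toAlgebra
    ((((Ideal.ramificationIdx (IsLocalRing.maximalIdeal (X.presheaf.stalk x)) (Y.presheaf.stalk (f x)) - 1 : ℕ) : ℕ∞) ≤ Module.length (X.presheaf.stalk x) (KaehlerDifferential (Y.presheaf.stalk (f x)) (X.presheaf.stalk x))) ∧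
      ((Module.length (X.presheaf.stalk x) (KaehlerDifferential (Y.presheaf.stalk (f x)) (X.presheaf.stalk x)) = ((Ideal.ramificationIdx (IsLocalRing.maximalIdeal (X.presheaf.stalk x)) (Y.presheaf.stalk (f x)) - 1 : ℕ) : ℕ∞)) ↔
        (Algebra.IsSeparable (Y.residueField (f x)) (X.residueField x) ∧ ((Ideal.ramificationIdx (IsLocalRing.maximalIdeal (X.presheaf.stalk x)) (Y.presheaf.stalk (f x)) : ℕ) : Y.residueField (f x)) ≠ 0))) := by
  haveI hfin : IsFinite f := Groth.Agent.Lib.Curves.CurveMap.isFinite (k := k) hdX hdY f hf e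
  have hy : IsClosed ({f x} : Set Y) := by
    simpa using f.isClosedMap _ hx
  haveI dS := (Groth.Agent.Lib.CurveFF.curveHyp_of_smooth k (X := X) hdX).dvr x hx
  haveI dR := (Groth.Agent.Lib.CurveFF.curveHyp_of_smooth k (X := Y) hdY).dvr (f x) hy
  haveI : IsLocallyNoetherian Y := LocallyOfFiniteType.isLocallyNoetherian (Y ↘ (Spec (CommRingCat.of k)))
  letI algSt := (f.stalkMap x).hom.toAlgebra
  letI algRes := (f.residueFieldMap x).hom.toAlgebra
  haveI : IsLocalHom (algebraMap (Y.presheaf.stalk (f x)) (X.presheaf.stalk x)) :=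
    inferInstanceAs (IsLocalHom (f.stalkMap x).hom)
  haveI : Algebra.EssFiniteType (Y.presheaf.stalk (f x)) (X.presheaf.stalk x) :=
    RingHom.essFiniteType_algebraMap.mp (LocallyOfFiniteType.stalkMap f x)
  have hres : algebraMap (IsLocalRing.ResidueField (Y.presheaf.stalk (f x)))
      (IsLocalRing.ResidueField (X.presheaf.stalk x)) = (f.residueFieldMap x).hom := by
    refine Ideal.Quotient.ringHom_ext (RingHom.ext fun a => ?_)
    exact (congr($(Scheme.residue_residueFieldMap f x) a)).symm
  haveI : FiniteDimensional (IsLocalRing.ResidueField (Y.presheaf.stalk (f x)))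
      (IsLocalRing.ResidueField (X.presheaf.stalk x)) := by
    refine RingHom.finite_algebraMap.mp (hres ▸ ?_)
    obtain ⟨_, ⟨V, hV, rfl⟩, hxV, -⟩ :=
      Y.isBasis_affineOpens.exists_subset_of_mem_open (Set.mem_univ (f x)) isOpen_univ
    exact Groth.Agent.Lib.Normalization.Eval.residueFieldMap_finite f hxV
      ((RingHom.Finite.of_surjective _
        (Groth.Agent.Lib.Normalization.Eval.evaluation_surjective_of_isMaximal (hV.preimage f) hxV
          ((hV.preimage f).primeIdealOf_isMaximal_of_isClosed ⟨x, hxV⟩ hx))).comp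
        (IsFinite.finite_app (f := f) V hV))
  obtain ⟨s, hs⟩ := IsDiscreteValuationRing.exists_irreducible (Y.presheaf.stalk (f x))
  have hs' : algebraMap (Y.presheaf.stalk (f x)) (X.presheaf.stalk x) s ≠ 0 := by
    intro h0
    have h1 := Groth.Agent.Lib.CurveFF.FieldExt.kMap_algebraMap f e x s
    rw [show f.stalkMap x s = 0 from h0, map_zero] at h1
    have h2 := (map_eq_zero_iff _ (RingHom.injective _)).mp h1
    exact hs.ne_zero ((map_eq_zero_iff _ (IsFractionRing.injective _ _)).mp h2)
  obtain ⟨t, ht⟩ := IsDiscreteValuationRing.exists_irreducible (X.presheaf.stalk x)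
  obtain ⟨n, un, hun⟩ := IsDiscreteValuationRing.eq_unit_mul_pow_irreducible hs' ht
  set m := IsLocalRing.maximalIdeal (X.presheaf.stalk x) with hmdef
  have hmap : (IsLocalRing.maximalIdeal (Y.presheaf.stalk (f x))).map
      (algebraMap (Y.presheaf.stalk (f x)) (X.presheaf.stalk x)) = m ^ n := by
    rw [hmdef, hs.maximalIdeal_eq, ht.maximalIdeal_eq, Ideal.map_span, Set.image_singleton,
      Ideal.span_singleton_pow, hun, Ideal.span_singleton_mul_left_unit un.isUnit]
  have hn : 1 ≤ n := by
    by_contra h
    have h1 : m ^ n ≤ m := hmap ▸ Ideal.map_le_iff_le_comap.mpr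
      (((IsLocalRing.local_hom_TFAE (algebraMap (Y.presheaf.stalk (f x)) (X.presheaf.stalk x))).out 0 3 rfl
        rfl).mp inferInstance)
    rw [show n = 0 by omega, pow_zero, Ideal.one_eq_top] at h1
    exact (IsLocalRing.maximalIdeal.isMaximal (X.presheaf.stalk x)).ne_top (top_le_iff.mp h1)
  haveI : m.LiesOver (IsLocalRing.maximalIdeal (Y.presheaf.stalk (f x))) :=
    ⟨(((IsLocalRing.local_hom_TFAE (algebraMap (Y.presheaf.stalk (f x)) (X.presheaf.stalk x))).out 0 4 rfl
      rfl).mp inferInstance).symm⟩
  have hm0 : m ≠ ⊥ := IsDiscreteValuationRing.not_a_field _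
  haveI : Module.IsTorsionFree (Y.presheaf.stalk (f x)) (X.presheaf.stalk x) := by
    refine Module.isTorsionFree_iff_smul_eq_zero.mpr fun r z h => ?_
    rw [Algebra.smul_def, mul_eq_zero] at h
    refine h.imp_left fun h0 => ?_
    have h1 := Groth.Agent.Lib.CurveFF.FieldExt.kMap_algebraMap f e x r
    rw [show f.stalkMap x r = 0 from h0, map_zero] at h1
    exact (map_eq_zero_iff _ (IsFractionRing.injective _ _)).mp ((map_eq_zero_iff _ (RingHom.injective _)).mp h1)
  have hram : Ideal.ramificationIdx m (Y.presheaf.stalk (f x)) = n := by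
    rw [Ideal.IsDedekindDomain.ramificationIdx_eq_normalizedFactors_count
      (IsLocalRing.maximalIdeal (Y.presheaf.stalk (f x))) m (by rw [hmap]; exact pow_ne_zero n hm0),
    hmap, UniqueFactorizationMonoid.normalizedFactors_pow, Multiset.count_nsmul,
    UniqueFactorizationMonoid.normalizedFactors_irreducible
      ((Ideal.prime_iff_isPrime hm0).mpr inferInstance).irreducible,
    normalize_eq, Multiset.count_singleton_self, mul_one]
  rw [hram]
  have hk := Groth.Agent.Lib.Curves.KaehlerLength.length_kaehler n hn hmap ⟨⟨s, hs.maximalIdeal_eq⟩⟩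
  refine ⟨hk.1, hk.2.trans (and_congr_left' ?_)⟩
  refine Groth.Agent.Lib.Curves.HurwitzLocal.isSeparable_iff
    (A := IsLocalRing.ResidueField (Y.presheaf.stalk (f x))) (B := IsLocalRing.ResidueField (X.presheaf.stalk x))
    (A' := Y.residueField (f x)) (B' := X.residueField x) (RingEquiv.refl _) (RingEquiv.refl _) fun a => ?_
  exact (congr($hres a)).symm

end Groth.Agent.S6572
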