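import Groth.Statements.S6573
import Groth.Agent.H25.Node.CompletedScheme

set_option autoImplicit false
set_option linter.style.haveILetI false
universe u
open CategoryTheory CategoryTheory.Limits AlgebraicGeometry
open Curves

namespace Groth.Agent.S6573

/-- Let f : T → S be a morphism of schemes, t ∈ T with image s ∈ S. Assume that the local ring O_{S,s}
is Noetherian, that f is locally of finite type, that f is flat at the point t, and that t is a
split node of the fibre T_s — here taken in the form: t is a closed point of T_s and the completion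
of O_{T_s,t} is isomorphic, compatibly with κ(s), to κ(s)[[x,y]]/(xy). Then there are h in the
maximal ideal of the completion Â of O_{S,s} and an isomorphism of the completion of O_{T,t} with
Â[[x,y]]/(xy − h) compatible with the maps from O_{S,s} (hence an isomorphism of Â-algebras). -/
theorem result {T S : Scheme.{u}} (f : T ⟶ S) [LocallyOfFiniteType f] (t : T)
    [IsNoetherianRing (S.presheaf.stalk (f t))] (hfl : (f.stalkMap t).hom.Flat)
    (ht : letI : (f.fiber (f t)).Over (Spec (S.residueField (f t))) := ⟨f.fiberToSpecResidueField (f t)⟩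
      letI := Curv2.stalkAlgebra (S.residueField (f t)) (f.fiber (f t)) (f.asFiber t)
      IsClosed ({f.asFiber t} : Set (f.fiber (f t))) ∧
        Curv2.IsOrdDoublePt (S.residueField (f t)) ((f.fiber (f t)).presheaf.stalk (f.asFiber t))) :
    ∃ h ∈ IsLocalRing.maximalIdeal (Curv2.cpl (S.presheaf.stalk (f t))),
      ∃ e : Curv2.cpl (T.presheaf.stalk t) ≃+*
          (MvPowerSeries (Fin 2) (Curv2.cpl (S.presheaf.stalk (f t))) ⧸
            Ideal.span {(MvPowerSeries.X 0 * MvPowerSeries.X 1 - MvPowerSeries.C h : MvPowerSeries (Fin 2) (Curv2.cpl (S.presheaf.stalk (f t))))}),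
        ∀ a : S.presheaf.stalk (f t),
          e (algebraMap (T.presheaf.stalk t) (Curv2.cpl (T.presheaf.stalk t)) ((f.stalkMap t).hom a)) =
            Ideal.Quotient.mk _ (MvPowerSeries.C (algebraMap (S.presheaf.stalk (f t)) (Curv2.cpl (S.presheaf.stalk (f t))) a)) := by
  obtain ⟨hc, e, he⟩ := ht
  have hv : IsUnit (Groth.Agent.H25.Node.disc ![(0 : S.presheaf.stalk (f t)), 1, 0]) := by
    simp [Groth.Agent.H25.Node.disc]
  obtain ⟨h, hh, E, hE⟩ := H25.Node.CompletedScheme.exists_equiv f t hfl ![0, 1, 0] hv
    (e.trans (Ideal.quotEquivOfEq (by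
      refine congrArg (fun z => Ideal.span {z}) ?_
      simp [H25.Node.Model.form, H25.Node.quad, map_zero, map_one]))) (fun r => by
      refine Eq.trans (RingEquiv.trans_apply _ _ _) ?_
      refine (congrArg _ (he r)).trans ?_
      rfl)
  refine ⟨h, hh, E.trans (Ideal.quotEquivOfEq ?_), fun r => ?_⟩
  · simp [H25.Node.quad]
  · refine Eq.trans (RingEquiv.trans_apply _ _ _) ?_
    refine (congrArg _ (hE r)).trans ?_
    rfl

end Groth.Agent.S6573
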