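import Groth.Statements.S6574
import Groth.Agent.H25.Node.Jacobian
import Groth.Agent.Lib.Depth.Assoc
import Groth.Agent.Lib.Depth.Local
import Groth.Agent.Lib.Depth.CM

set_option autoImplicit false
set_option linter.style.haveILetI false
universe u
open Curves

open IsLocalRing

namespace Groth.Agent.S6574

/-- Let k be a field, A = k[[x_1, …, x_n]], and I = (f_1, …, f_m) ⊆ m_A. The following are equivalent:
(1) A/I is a node in the algebraic sense: A/I ≅ k[[u, v]]/(a u^2 + b uv + c v^2) as k-algebras for a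
nondegenerate quadratic form (A/I is complete with residue field k, so this is the completion
criterion for nodes); (2) the quotient A/I has no nonzero nilpotents, and m_A is generated by I
together with every (n−1)-by-(n−1) minor taken from the Jacobian (∂f_j/∂x_i) (that is, these
elements generate I + m_A = m_A); (3) depth(A/I) = 1 and the same condition on minors. Stated as (1)
⇔ (2) and (2) ⇔ (3). -/
theorem result (k : Type u) [Field k] (n m : ℕ)
    (f : Fin m → MvPowerSeries (Fin n) k) (hf : ∀ j, f j ∈ IsLocalRing.maximalIdeal (MvPowerSeries (Fin n) k)) :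
    ((∃ a b c : k, 4 * a * c - b ^ 2 ≠ 0 ∧
        Nonempty ((MvPowerSeries (Fin n) k ⧸ Ideal.span (Set.range f)) ≃ₐ[k]
          (MvPowerSeries (Fin 2) k ⧸ Ideal.span
            {(MvPowerSeries.C a * MvPowerSeries.X 0 ^ 2 + MvPowerSeries.C b * MvPowerSeries.X 0 * MvPowerSeries.X 1 +
              MvPowerSeries.C c * MvPowerSeries.X 1 ^ 2 : MvPowerSeries (Fin 2) k)}))) ↔
      (IsReduced (MvPowerSeries (Fin n) k ⧸ Ideal.span (Set.range f)) ∧
        Ideal.span {d : MvPowerSeries (Fin n) k | ∃ (ρ : Fin (n - 1) → Fin m) (γ : Fin (n - 1) → Fin n), Function.Injective ρ ∧ Function.Injective γ ∧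
          d = ((Matrix.of fun (j : Fin m) (i : Fin n) => MvPowerSeries.pderiv k i (f j)).submatrix ρ γ).det} ⊔ Ideal.span (Set.range f) = IsLocalRing.maximalIdeal (MvPowerSeries (Fin n) k))) ∧
    ((IsReduced (MvPowerSeries (Fin n) k ⧸ Ideal.span (Set.range f)) ∧
        Ideal.span {d : MvPowerSeries (Fin n) k | ∃ (ρ : Fin (n - 1) → Fin m) (γ : Fin (n - 1) → Fin n), Function.Injective ρ ∧ Function.Injective γ ∧
          d = ((Matrix.of fun (j : Fin m) (i : Fin n) => MvPowerSeries.pderiv k i (f j)).submatrix ρ γ).det} ⊔ Ideal.span (Set.range f) = IsLocalRing.maximalIdeal (MvPowerSeries (Fin n) k)) ↔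
      (LocCoh.depth (MvPowerSeries (Fin n) k) (MvPowerSeries (Fin n) k ⧸ Ideal.span (Set.range f)) = 1 ∧
        Ideal.span {d : MvPowerSeries (Fin n) k | ∃ (ρ : Fin (n - 1) → Fin m) (γ : Fin (n - 1) → Fin n), Function.Injective ρ ∧ Function.Injective γ ∧
          d = ((Matrix.of fun (j : Fin m) (i : Fin n) => MvPowerSeries.pderiv k i (f j)).submatrix ρ γ).det} ⊔ Ideal.span (Set.range f) = IsLocalRing.maximalIdeal (MvPowerSeries (Fin n) k))) := by
  haveI := H25.Node.Jacobian.isLocalRing_quot k f hf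
  haveI := H25.Node.Jacobian.isLocalHom_quot k f hf
  haveI := H25.Node.Jacobian.formallySmooth_residue k f hf
  let A := MvPowerSeries (Fin n) k
  let R := A ⧸ Ideal.span (Set.range f)
  let Nod := ∃ v : Fin 3 → k, H25.Node.disc v ≠ 0 ∧ Nonempty (R ≃ₐ[k] H25.Node.Model.Model k v)
  let C := H25.Node.Jacobian.MinorsCond k f
  have hform : ∀ a b c : k, Ideal.span {H25.Node.Model.form k ![a, b, c]} = Ideal.span
      {(MvPowerSeries.C a * MvPowerSeries.X 0 ^ 2 + MvPowerSeries.C b * MvPowerSeries.X 0 * MvPowerSeries.X 1 +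
        MvPowerSeries.C c * MvPowerSeries.X 1 ^ 2 : MvPowerSeries (Fin 2) k)} := fun a b c => by
    rw [H25.Node.Quadratic.form_eq]
  have h1 : (∃ a b c : k, 4 * a * c - b ^ 2 ≠ 0 ∧
      Nonempty (R ≃ₐ[k] (MvPowerSeries (Fin 2) k ⧸ Ideal.span
        {(MvPowerSeries.C a * MvPowerSeries.X 0 ^ 2 + MvPowerSeries.C b * MvPowerSeries.X 0 * MvPowerSeries.X 1 +
          MvPowerSeries.C c * MvPowerSeries.X 1 ^ 2 : MvPowerSeries (Fin 2) k)}))) ↔ Nod := by
    constructor
    · rintro ⟨a, b, c, hd, ⟨e⟩⟩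
      exact ⟨![a, b, c], by simpa [H25.Node.disc] using hd,
        ⟨e.trans (Ideal.quotientEquivAlgOfEq k (hform a b c).symm)⟩⟩
    · rintro ⟨v, hd, ⟨e⟩⟩
      have hv : v = ![v 0, v 1, v 2] := funext fun i => by fin_cases i <;> rfl
      refine ⟨v 0, v 1, v 2, by simpa [H25.Node.disc] using hd, ⟨e.trans (Ideal.quotientEquivAlgOfEq k ?_)⟩⟩
      rw [← hform, ← hv]
  have hdepth : LocCoh.depth A R = LocCoh.depth R R := Lib.Depth.CM.depth_quotient_eq _
  have hnt : maximalIdeal R • (⊤ : Submodule R R) ≠ ⊤ := by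
    rw [smul_eq_mul, Ideal.mul_top]
    exact (maximalIdeal.isMaximal R).ne_top
  have hfwd : Nod → IsReduced R ∧ LocCoh.depth A R = 1 ∧ C := by
    rintro ⟨v, hd, ⟨e⟩⟩
    obtain ⟨hN, hC⟩ := H25.Node.Jacobian.of_equiv k f hf hd e
    obtain ⟨hred, hdim⟩ := H25.Node.Algebraic.isReduced k R hN
    refine ⟨hred, ?_, hC⟩
    haveI := hred
    rw [hdepth]
    obtain ⟨r, hr, hr0⟩ := H25.Node.Algebraic.exists_nzd (A := R) fun h => by
      have hF : IsField R := (IsLocalRing.isField_iff_maximalIdeal_eq).2 h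
      rw [ringKrullDim_eq_zero_of_isField hF] at hdim
      exact zero_ne_one hdim
    refine le_antisymm ?_ ?_
    · obtain ⟨p, hp⟩ := associatedPrimes.nonempty R R
      haveI := IsAssociatedPrime.isPrime hp
      have h2 := (Lib.Depth.Assoc.depth_le_ringKrullDim_quotient R hp).trans
        ((ringKrullDim_quotient_le p).trans hdim.le)
      exact_mod_cast h2
    · rw [Order.one_le_iff_ne_zero]
      intro h0
      obtain ⟨m, hm, hm'⟩ := Lib.Depth.Local.exists_smul_eq_zero_of_idealDepth_eq_zero h0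
      exact hm ((isRegular_iff_mem_nonZeroDivisors.2 hr0).left.eq_iff.1 ((hm' r hr).trans (mul_zero r).symm))
  have hnzd : C → IsReduced R → ∃ r ∈ maximalIdeal R, r ∈ nonZeroDivisors R := by
    intro hC hred
    obtain ⟨-, -, -, -, hrk⟩ := H25.Node.Jacobian.exists_two k f hf hC
    refine H25.Node.Algebraic.exists_nzd fun h => ?_
    haveI : Subsingleton (CotangentSpace R) := subsingleton_of_forall_eq 0 fun c => by
      obtain ⟨c, rfl⟩ := (maximalIdeal R).toCotangent_surjective c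
      rw [Ideal.toCotangent_eq_zero, Ideal.mem_bot.1 (h.le c.2)]
      exact zero_mem _
    have hrk' : Module.finrank (ResidueField R) (CotangentSpace R) = 2 := hrk
    rw [Module.finrank_zero_of_subsingleton] at hrk'
    omega
  have hnzd' : LocCoh.depth A R = 1 → ∃ r ∈ maximalIdeal R, r ∈ nonZeroDivisors R := by
    intro hd
    rcases Lib.Depth.Basic.one_le_idealDepth_iff.mp (hdepth ▸ hd).ge with h | ⟨x, hx, hr⟩
    · exact absurd h hnt
    · exact ⟨x, hx, mem_nonZeroDivisors_iff_right.2 fun z hz =>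
        hr.right_eq_zero_of_smul (by rw [smul_eq_mul, mul_comm]; exact hz)⟩
  have h23 : IsReduced R ∧ C ↔ LocCoh.depth A R = 1 ∧ C :=
    ⟨fun ⟨h, hC⟩ => ⟨(hfwd (H25.Node.Jacobian.exists_equiv k f hf hC (hnzd hC h))).2.1, hC⟩,
      fun ⟨h, hC⟩ => ⟨(hfwd (H25.Node.Jacobian.exists_equiv k f hf hC (hnzd' h))).1, hC⟩⟩
  refine ⟨h1.trans ⟨fun h => ⟨(hfwd h).1, (hfwd h).2.2⟩, fun ⟨h, hC⟩ => ?_⟩, h23⟩
  exact H25.Node.Jacobian.exists_equiv k f hf hC (hnzd hC h)

end Groth.Agent.S6574
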