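import Groth.Statements.S6575
import Mathlib.RingTheory.MvPowerSeries.Derivative
import Mathlib.LinearAlgebra.Matrix.Determinant.Basic
import Mathlib.RingTheory.Ideal.Quotient.Operations

set_option autoImplicit false
universe u
open Curves

namespace Groth.Agent.S6575

/-- Let k be a field, A = k[[x_1, …, x_n]] and I ⊆ A an ideal generated by f_1, …, f_m and also by g_1,
…, g_l. Then for every r ≥ 0 the ideal of A/I generated by the r × r minors of (∂f_j/∂x_i) equals
the one generated by the r × r minors of (∂g_s/∂x_i); stated in A as equality of the ideals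
generated by the minors together with I. (The published result also asserts independence of the
regular system of parameters x_1, …, x_n, which is not stated here.) -/
theorem result (k : Type u) [Field k] (n m l r : ℕ)
    (f : Fin m → MvPowerSeries (Fin n) k) (g : Fin l → MvPowerSeries (Fin n) k)
    (hfg : Ideal.span (Set.range f) = Ideal.span (Set.range g)) :
    Ideal.span {d : MvPowerSeries (Fin n) k | ∃ (ρ : Fin r → Fin m) (γ : Fin r → Fin n), Function.Injective ρ ∧ Function.Injective γ ∧
          d = ((Matrix.of fun (j : Fin m) (i : Fin n) => MvPowerSeries.pderiv k i (f j)).submatrix ρ γ).det} ⊔ Ideal.span (Set.range f) =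
      Ideal.span {d : MvPowerSeries (Fin n) k | ∃ (ρ : Fin r → Fin l) (γ : Fin r → Fin n), Function.Injective ρ ∧ Function.Injective γ ∧
          d = ((Matrix.of fun (j : Fin l) (i : Fin n) => MvPowerSeries.pderiv k i (g j)).submatrix ρ γ).det} ⊔ Ideal.span (Set.range g) := by
  classical
  have main : ∀ {m l : ℕ} (f : Fin m → MvPowerSeries (Fin n) k) (g : Fin l → MvPowerSeries (Fin n) k),
      Ideal.span (Set.range f) = Ideal.span (Set.range g) →
      Ideal.span {d : MvPowerSeries (Fin n) k | ∃ (ρ : Fin r → Fin m) (γ : Fin r → Fin n), Function.Injective ρ ∧ Function.Injective γ ∧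
          d = ((Matrix.of fun (j : Fin m) (i : Fin n) => MvPowerSeries.pderiv k i (f j)).submatrix ρ γ).det} ⊔ Ideal.span (Set.range f) ≤
      Ideal.span {d : MvPowerSeries (Fin n) k | ∃ (ρ : Fin r → Fin l) (γ : Fin r → Fin n), Function.Injective ρ ∧ Function.Injective γ ∧
          d = ((Matrix.of fun (j : Fin l) (i : Fin n) => MvPowerSeries.pderiv k i (g j)).submatrix ρ γ).det} ⊔ Ideal.span (Set.range g) := by
    intro m l f g hfg
    refine sup_le (Ideal.span_le.mpr ?_) (hfg.le.trans le_sup_right)
    rintro _ ⟨ρ, γ, -, hγ, rfl⟩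
    set G := Ideal.span (Set.range g)
    set M := Ideal.span {d : MvPowerSeries (Fin n) k | ∃ (ρ : Fin r → Fin l) (γ : Fin r → Fin n), Function.Injective ρ ∧ Function.Injective γ ∧
          d = ((Matrix.of fun (j : Fin l) (i : Fin n) => MvPowerSeries.pderiv k i (g j)).submatrix ρ γ).det}
    let q := Ideal.Quotient.mk G
    have hc : ∀ j, ∃ c : Fin l → MvPowerSeries (Fin n) k, ∑ s, c s * g s = f j := fun j =>
      Ideal.mem_span_range_iff_exists_fun.mp (hfg.le (Ideal.subset_span ⟨j, rfl⟩))
    choose c hc using hc
    have hg0 : ∀ s, q (g s) = 0 := fun s => Ideal.Quotient.eq_zero_iff_mem.mpr (Ideal.subset_span ⟨s, rfl⟩)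
    have hrows : ((Matrix.of fun (j : Fin m) (i : Fin n) => MvPowerSeries.pderiv k i (f j)).submatrix ρ γ).map q =
        fun a => ∑ s, q (c (ρ a) s) • (fun b => q (MvPowerSeries.pderiv k (γ b) (g s))) := by
      funext a b
      simp only [Matrix.map_apply, Matrix.submatrix_apply, Matrix.of_apply, Finset.sum_apply, Pi.smul_apply,
        smul_eq_mul]
      rw [← hc (ρ a), map_sum, map_sum]
      refine Finset.sum_congr rfl fun s _ => ?_
      rw [Derivation.leibniz, smul_eq_mul, smul_eq_mul, map_add, map_mul, map_mul, hg0, zero_mul, add_zero]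
    have hdet : q ((Matrix.of fun (j : Fin m) (i : Fin n) => MvPowerSeries.pderiv k i (f j)).submatrix ρ γ).det ∈
        M.map q := by
      rw [RingHom.map_det, RingHom.mapMatrix_apply, hrows]
      show (Matrix.detRowAlternating : (Fin r → MvPowerSeries (Fin n) k ⧸ G) [⋀^Fin r]→ₗ[MvPowerSeries (Fin n) k ⧸ G] _).toMultilinearMap _ ∈ _
      rw [MultilinearMap.map_sum]
      refine Submodule.sum_mem _ fun φ _ => ?_
      rw [MultilinearMap.map_smul_univ, smul_eq_mul]
      refine Ideal.mul_mem_left _ _ ?_
      by_cases hφ : Function.Injective φ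
      · have h : q ((Matrix.of fun (j : Fin l) (i : Fin n) => MvPowerSeries.pderiv k i (g j)).submatrix φ γ).det ∈ M.map q :=
          Ideal.mem_map_of_mem q (Ideal.subset_span ⟨φ, γ, hφ, hγ, rfl⟩)
        rw [RingHom.map_det] at h
        exact h
      · obtain ⟨a, b, hab, hne⟩ : ∃ a b, φ a = φ b ∧ a ≠ b := by
          simpa [Function.Injective] using hφ
        rw [AlternatingMap.coe_multilinearMap, AlternatingMap.map_eq_zero_of_eq _ _ (by simp only [hab]) hne]
        exact Ideal.zero_mem _
    have h := Ideal.mem_comap.mpr hdet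
    rw [Ideal.comap_map_of_surjective _ Ideal.Quotient.mk_surjective, ← RingHom.ker_eq_comap_bot, Ideal.mk_ker] at h
    exact h
  exact le_antisymm (main f g hfg) (main g f hfg.symm)

end Groth.Agent.S6575
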