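import Groth.Statements.S6577
import Groth.Statements.S6577
import Groth.Agent.H56.CurveDual.ClosedDual

set_option autoImplicit false
universe u
open CategoryTheory CategoryTheory.Limits AlgebraicGeometry
attribute [local instance] HasDerivedCategory.standard
open Curves

open Groth.Agent

namespace Groth.Agent.S6577

/-- Let X be proper over the field k of dimension ≤ 1, i : Y → X a closed immersion, and ω_X, ω_Y the
dualizing modules of X and of Y over k (degree -1 cohomology sheaves of the shriek of O for the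
structure morphisms, assuming the derived pushforwards on D_QCoh and their right adjoints exist).
Then i_*ω_Y ≅ Hom_{O_X}(i_*O_Y, ω_X), where the sheaf Hom is taken as the right adjoint of i_*O_Y ⊗
− (assumed to exist). (Existence of an isomorphism only.) -/
theorem result (k : Type u) [Field k] (X : Scheme.{u}) [X.Over (Spec (CommRingCat.of k))] [IsProper (X ↘ (Spec (CommRingCat.of k)))] (hdim : topologicalKrullDim X ≤ 1)
    [DCoh.HasRpush (X ↘ (Spec (CommRingCat.of k)))] (h : DCoh.RpushPreservesQCoh (X ↘ (Spec (CommRingCat.of k)))) [DCoh.HasShriek (X ↘ (Spec (CommRingCat.of k))) h]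
    (OY : DCoh.DQCoh (Spec (CommRingCat.of k))) (hOY : Nonempty (OY.obj ≅ DCoh.inD (Spec (CommRingCat.of k)) (Coh.structureModule (Spec (CommRingCat.of k)))))
    {Y : Scheme.{u}} (i : Y ⟶ X) [IsClosedImmersion i]
    [DCoh.HasRpush (i ≫ (X ↘ (Spec (CommRingCat.of k))))] (hY : DCoh.RpushPreservesQCoh (i ≫ (X ↘ (Spec (CommRingCat.of k))))) [DCoh.HasShriek (i ≫ (X ↘ (Spec (CommRingCat.of k)))) hY]
    [DCoh.HasSheafHom ((Coh.push i).obj (Coh.structureModule Y))] :
    Nonempty ((Coh.push i).obj (DCoh.dualizingMod (i ≫ (X ↘ (Spec (CommRingCat.of k)))) hY OY 1) ≅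
      (DCoh.sheafHom ((Coh.push i).obj (Coh.structureModule Y))).obj (DCoh.dualizingMod (X ↘ (Spec (CommRingCat.of k))) h OY 1)) := by
  obtain ⟨eO⟩ := hOY
  let p := X ↘ Spec (CommRingCat.of k)
  haveI : DCoh.HasRpush i := Lib.DerivedOX.Exists.hasRpush i
  obtain ⟨e⟩ := H56.CurveDual.ClosedDual.main i p hdim h (DCoh.shriek p h) (DCoh.shriekAdj p h) hY
    (DCoh.shriek (i ≫ p) hY) (DCoh.shriekAdj (i ≫ p) hY) OY eO
  obtain ⟨e'⟩ := ZarCoh.Exchange.HomAdj.nonempty_sheafHom_iso
    (A := (Coh.push i).obj (Coh.structureModule Y)) (B := DCoh.dualizingMod p h OY 1)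
    (A' := (Coh.push i).obj (Coh.structureModule Y)) (B' := DCoh.dualizingMod p h OY 1)
    (Iso.refl _) (Iso.refl _)
  exact ⟨e ≪≫ e'.symm⟩

end Groth.Agent.S6577
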