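import Groth.Statements.S6578
import Groth.Agent.Lib.CurveBundle.Rank
import Groth.Agent.Lib.CurveFF.Hyp
import Groth.Agent.Lib.Perfect.Coherent
import Groth.Agent.Lib.ProjMor.Poly

set_option autoImplicit false
universe u
open CategoryTheory CategoryTheory.Limits AlgebraicGeometry
open Curves

namespace Groth.Agent.S6578

open Groth.Agent.Lib

/-- Let k be a field and X a proper curve over k all of whose local rings are regular (X integral,
proper, of dimension one), and let (L, V) be a g^r_d on X, given by an invertible module L of degree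
d and an ordered basis s_0, …, s_r of V ⊆ Γ(X, L) (k-linearly independent global sections). Then
there exist a morphism φ : X → P^r_k = Proj k[T_0, …, T_r] over k and a map α : φ^*O(1) → L sending
φ^*T_i to s_i for each i (so φ^*T_0, …, φ^*T_r go to a basis of V). -/
theorem result (k : Type u) [Field k] (X : Scheme.{u}) [X.Over (Spec (CommRingCat.of k))]
    [IsIntegral X] [IsProper (X ↘ (Spec (CommRingCat.of k)))] (hdim : topologicalKrullDim X = 1) (hreg : ∀ x : X, IsRegularLocalRing (X.presheaf.stalk x))
    (d r : ℕ) (L : X.Modules) (s : Fin (r + 1) → LinSer.Sect X L) (hL : LinSer.IsLinSer k X L d r s) :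
    ∃ (φ : X ⟶ CohB1.ProjSpace r k) (α : (Scheme.Modules.pullback φ).obj (Twist.twistProjSpace r k 1) ⟶ L),
      φ ≫ CohB1.ProjSpace.toSpec r k = X ↘ (Spec (CommRingCat.of k)) ∧
        ∀ i : Fin (r + 1), (α.val.app (Opposite.op ⊤)).hom (OmegaSh.pullSect φ (Twist.twistProjSpace r k 1) ⊤ (Twist.globalOf (CohB1.polyGrading r k) (⟨MvPolynomial.X i, MvPolynomial.isHomogeneous_X k i⟩ : (CohB1.polyGrading r k) 1))) = s i :=  by
  obtain ⟨hL1, -, hind⟩ := hL
  set q := X ↘ Spec (CommRingCat.of k)
  haveI : IsLocallyNoetherian X := LocallyOfFiniteType.isLocallyNoetherian q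
  have hh := CurveFF.curveHyp_of_regular (k := k) hdim hreg
  have hP : ∀ x : X, IsPrincipalIdealRing (X.presheaf.stalk x) := fun x => by
    by_cases hx : x = genericPoint X
    · subst hx
      let _ : Field (X.presheaf.stalk (genericPoint X)) := inferInstanceAs (Field X.functionField)
      infer_instance
    · haveI := hh.dvr x ((SmoothCurve.Curve.eq_genericPoint_or_isClosed hdim x).resolve_left hx)
      infer_instance
  have h1 := TensorMod.LocFree.of_isInvertible hL1
  have hLf := TensorMod.LocFree.of_rank h1
  have hLc := CurveBundle.Coherent.isCoh hLf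
  let σ : Fin (r + 1) → Γ(L, ⊤) := fun i => s i
  let f := Modules.Free.freeHom σ
  let p := Abelian.factorThruImage f
  let ι := Abelian.image.ι f
  have hfree : Coh.IsCoh (FlatMod.freeMod X (r + 1)) := Perfect.Coherent.isCoh_freeMod X _
  have hM : Coh.IsCoh (Abelian.image f) := CohBasics.Closure.isCoh_image f hfree.1 hLc
  have hT : TorSh.IsTorsionFree (Abelian.image f) :=
    CurveBundle.Rank.isTorsionFree_of_mono ι (CurveBundle.Coherent.isTorsionFree hLf)
  have hle : CurveBundle.Rank.grank (Abelian.image f) ≤ 1 :=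
    (CurveBundle.Rank.grank_le_of_mono ι hLc).trans_eq (CurveBundle.Rank.grank_eq_of_rank h1)
  have hne : CurveBundle.Rank.grank (Abelian.image f) ≠ 0 := fun h0 => by
    have hz := CurveBundle.Rank.isZero_of_grank_eq_zero hM hT h0
    have hf : f = 0 := by rw [← Abelian.image.fac f, hz.eq_of_tgt (Abelian.factorThruImage f) 0, zero_comp]
    have hs0 : σ 0 = 0 := by
      rw [← Modules.Free.freeHom_app_gen σ 0, show Modules.Free.freeHom σ = 0 from hf]
      rfl
    have := hind (Pi.single 0 1) (Finset.sum_eq_zero fun i _ => by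
      rcases eq_or_ne i 0 with rfl | hi
      · rw [show s 0 = 0 from hs0]
        exact smul_zero _
      · rw [Pi.single_eq_of_ne hi, map_zero]
        exact zero_smul _ _)
    exact one_ne_zero (α := k) (by simpa using congrFun this 0)
  have hinv : PicF.IsInvertible (Abelian.image f) := by
    refine TensorMod.LocFree.isInvertible_of_rank_one ?_
    have h := CurveBundle.LocFree.isFinLocFreeOfRank hP hM hT
    change FlatMod.IsFinLocFreeOfRank (CurveBundle.Rank.grank (Abelian.image f)) _ at h
    rwa [show CurveBundle.Rank.grank (Abelian.image f) = 1 by omega] at h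
  let t : Fin (r + 1) → ProjUP.Γm (Abelian.image f) := fun i => p.app ⊤ (Modules.Free.gen X i)
  have hgen : ProjUP.GeneratedBy (Abelian.image f) t := fun x => by
    have hs : Function.Surjective (Modules.StalkModule.stalkMapₗ p x) :=
      (Modules.StalkModule.epi_iff_stalkMapₗ_surjective p).mp inferInstance x
    rw [eq_top_iff, ← LinearMap.range_eq_top.mpr hs, LinearMap.range_eq_map,
      ← Modules.Free.span_germ_gen x, Submodule.map_span]
    refine Submodule.span_mono ?_
    rintro _ ⟨_, ⟨i, rfl⟩, rfl⟩
    exact ⟨i, (Modules.StalkModule.stalkMapₗ_germ p (U := ⊤) (x := x) trivial (Modules.Free.gen X i)).symm⟩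
  obtain ⟨φ, hφ, τ, hτ⟩ := ProjMor.Poly.exists_map r k q (Abelian.image f) hinv t hgen
  refine ⟨φ, τ.hom ≫ ι, hφ, fun i => ?_⟩
  have h := congrArg (ι.app ⊤) (hτ i)
  refine h.trans ?_
  change (p ≫ ι).app ⊤ (Modules.Free.gen X i) = s i
  rw [show p ≫ ι = f from Abelian.image.fac f]
  exact Modules.Free.freeHom_app_gen σ i

end Groth.Agent.S6578
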