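import Groth.Statements.S6579
import Groth.Agent.S7640
import Groth.Agent.Lib.ModelFibre.P1Curve
import Groth.Agent.Lib.Curves.Positivity
import Groth.Agent.Lib.CurveFF.FieldExt
import Groth.Agent.Lib.CDivInt.Dim1

set_option autoImplicit false
universe u
open CategoryTheory CategoryTheory.Limits AlgebraicGeometry
open Curves

namespace Groth.Agent.S6579

open Groth.Agent CategoryTheory AlgebraicGeometry
set_option linter.style.haveILetI false
set_option maxHeartbeats 1000000

/-- Let k be a field and X a proper curve over k all of whose local rings are regular (X integral,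
proper, of dimension one), (L, V) a g^1_d on X with ordered basis s_0, s_1 of V, and φ : X → P^1_k a
morphism over k together with α : φ^*O(1) → L sending φ^*T_i to s_i (the morphism attached to the
linear series). Then either (1) φ is nonconstant and has degree at most d — here: φ does not factor
through a closed point, and k(X) has dimension at most d over the local ring of P^1_k at the image
of the generic point of X (that image is then the generic point, so this is [k(X) : k(P^1_k)] ≤ d) —
or (2) φ maps X (set-theoretically) to a single closed point of P^1_k, and in that case H^0(X, O_X)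
is bigger than k. -/
theorem result (k : Type u) [Field k] (X : Scheme.{u}) [X.Over (Spec (CommRingCat.of k))]
    [IsIntegral X] [IsProper (X ↘ (Spec (CommRingCat.of k)))] (hdim : topologicalKrullDim X = 1) (hreg : ∀ x : X, IsRegularLocalRing (X.presheaf.stalk x))
    (d : ℕ) (L : X.Modules) (s : Fin (1 + 1) → LinSer.Sect X L) (hL : LinSer.IsLinSer k X L d 1 s)
    (φ : X ⟶ CohB1.ProjSpace 1 k) (α : (Scheme.Modules.pullback φ).obj (Twist.twistProjSpace 1 k 1) ⟶ L)
    (hφ : φ ≫ CohB1.ProjSpace.toSpec 1 k = X ↘ (Spec (CommRingCat.of k)) ∧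
        ∀ i : Fin (1 + 1), (α.val.app (Opposite.op ⊤)).hom (OmegaSh.pullSect φ (Twist.twistProjSpace 1 k 1) ⊤ (Twist.globalOf (CohB1.polyGrading 1 k) (⟨MvPolynomial.X i, MvPolynomial.isHomogeneous_X k i⟩ : (CohB1.polyGrading 1 k) 1))) = s i) :
    ((¬ ∃ p : CohB1.ProjSpace 1 k, IsClosed ({p} : Set (CohB1.ProjSpace 1 k)) ∧ Set.range φ ⊆ {p}) ∧
      (letI := (φ.stalkMap (genericPoint X)).hom.toAlgebra
       Module.finrank ((CohB1.ProjSpace 1 k).presheaf.stalk (φ (genericPoint X))) X.functionField ≤ d)) ∨
    ((∃ p : CohB1.ProjSpace 1 k, IsClosed ({p} : Set (CohB1.ProjSpace 1 k)) ∧ Set.range φ ⊆ {p}) ∧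
      Module.finrank k (Coh.HH X (Coh.structureModule X) 0) ≠ 1) :=  by
  classical
  obtain ⟨hLinv, hLdeg, hind⟩ := hL
  obtain ⟨hφk, hαs⟩ := hφ
  let g : Fin (1 + 1) → LinSer.Sect X ((Scheme.Modules.pullback φ).obj (Twist.twistProjSpace 1 k 1)) := fun i =>
    OmegaSh.pullSect φ (Twist.twistProjSpace 1 k 1) ⊤ (Twist.globalOf (CohB1.polyGrading 1 k) (⟨MvPolynomial.X i, MvPolynomial.isHomogeneous_X k i⟩ : (CohB1.polyGrading 1 k) 1))
  have hO1 : PicF.IsInvertible (Twist.twistProjSpace 1 k 1) := Lib.ModelFibre.P1Curve.isInvertible_twist k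
  by_cases hc : ∃ p : CohB1.ProjSpace 1 k, IsClosed ({p} : Set (CohB1.ProjSpace 1 k)) ∧ Set.range φ ⊆ {p}
  · refine Or.inr ⟨hc, fun h1 => ?_⟩
    obtain ⟨p, -, hp⟩ := hc
    obtain ⟨U, hpU, ⟨eU⟩⟩ := hO1 p
    have hr : Set.range φ ⊆ Set.range U.ι := by
      rw [Scheme.Opens.range_ι]
      exact fun y hy => by rw [Set.mem_singleton_iff.1 (hp hy)]; exact hpU
    let ψ : X ⟶ U := IsOpenImmersion.lift U.ι φ hr
    let eO : (Scheme.Modules.pullback φ).obj (Twist.twistProjSpace 1 k 1) ≅ Coh.structureModule X :=
      (Scheme.Modules.pullbackCongr (IsOpenImmersion.lift_fac U.ι φ hr).symm).app _ ≪≫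
      ((Scheme.Modules.pullbackComp ψ U.ι).app _).symm ≪≫
      (Scheme.Modules.pullback ψ).mapIso
        (((Scheme.Modules.restrictFunctorIsoPullback U.ι).app _).symm ≪≫ eU) ≪≫
      PicLoc.pullbackStructureIso _
    letI := Lib.Curves.GlobalSections.secModule k (Coh.structureModule X)
    rw [(Lib.Curves.GlobalSections.h0Linear k (Coh.structureModule X)).finrank_eq] at h1
    haveI : Module.Finite k ((Coh.structureModule X).val.obj (Opposite.op ⊤) : Type u) :=
      Module.finite_of_finrank_eq_succ h1
    let v : Fin (1 + 1) → ((Coh.structureModule X).val.obj (Opposite.op ⊤) : Type u) := fun i =>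
      (eO.hom.val.app (Opposite.op ⊤)).hom (g i)
    have hdep : ¬ LinearIndependent k v := fun hv => by
      have := hv.fintype_card_le_finrank
      rw [h1, Fintype.card_fin] at this
      omega
    obtain ⟨c, hc0, i, hci⟩ := Fintype.not_linearIndependent_iff.1 hdep
    refine hci (congrFun (hind c ?_) i)
    have e : (eO.hom.val.app (Opposite.op ⊤)).hom
        (∑ i, (Coh.toGlobal (X ↘ Spec (CommRingCat.of k)) (c i)) • g i) = 0 := by
      rw [map_sum]
      refine Eq.trans (Finset.sum_congr rfl fun i _ => ?_) hc0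
      exact (eO.hom.val.app (Opposite.op ⊤)).hom.map_smul _ _
    have hinj : Function.Injective (eO.hom.val.app (Opposite.op ⊤)).hom :=
      (ConcreteCategory.bijective_of_isIso (eO.hom.app ⊤)).1
    have e0 := hinj (e.trans (map_zero _).symm)
    have e1 := congrArg (α.val.app (Opposite.op ⊤)).hom e0
    rw [map_zero, map_sum] at e1
    refine Eq.trans (Finset.sum_congr rfl fun i _ => ?_) e1
    rw [(α.val.app (Opposite.op ⊤)).hom.map_smul, hαs]
  · refine Or.inl ⟨hc, ?_⟩
    letI : (CohB1.ProjSpace 1 k).Over (Spec (CommRingCat.of k)) := ⟨CohB1.ProjSpace.toSpec 1 k⟩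
    haveI : IsProper (CohB1.ProjSpace 1 k ↘ Spec (CommRingCat.of k)) := Lib.ProjSpace.Basic.isProper_toSpec 1 k
    haveI : AlgebraicGeometry.IsIntegral (CohB1.ProjSpace 1 k) := inferInstance
    haveI : IsLocallyNoetherian (CohB1.ProjSpace 1 k) :=
      LocallyOfFiniteType.isLocallyNoetherian (CohB1.ProjSpace 1 k ↘ Spec (CommRingCat.of k))
    have hdimP : topologicalKrullDim (CohB1.ProjSpace 1 k) = 1 := by
      rw [Lib.ProjSpace.Dim.topologicalKrullDim_projSpace]; simp [ringKrullDim_eq_zero_of_field]
    have hgen : φ.base (genericPoint X) = genericPoint (CohB1.ProjSpace 1 k) := by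
      by_contra hne
      have hcl := Lib.CDivInt.isClosed_singleton_of_ne_genericPoint hdimP.le hne
      refine hc ⟨_, hcl, ?_⟩
      rintro _ ⟨x, rfl⟩
      have hs := ((genericPoint_spec X).specializes (y := x) trivial).map φ.continuous
      exact hcl.closure_eq ▸ hs.mem_closure
    have hα : α ≠ 0 := by
      intro h0
      have h := hind (Pi.single 0 1) (Finset.sum_eq_zero fun i _ => by
        have : s i = 0 := by rw [← hαs i, h0]; rfl
        rw [this, smul_zero])
      exact one_ne_zero (α := k) (by simpa using congrFun h 0)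
    haveI := Lib.Curves.GlobalSections.noetherianSpace_of_proper k X
    have hP := PicLoc.isInvertible_pullback φ hO1
    have hle := Lib.Curves.Positivity.deg_le_of_ne_zero (k := k) hdim.le hP hLinv
      (Lib.Curves.Degree.isGood (k := k) hdim.le hP) (Lib.Curves.Degree.isGood (k := k) hdim.le hLinv) hα
    rw [S7640.result k X (CohB1.ProjSpace 1 k) hdim hdimP φ hφk hgen 1 _
      (Lib.TensorMod.LocFree.of_isInvertible hO1), Lib.ModelFibre.P1Curve.deg_twist k, mul_one, hLdeg] at hle
    have hd : φ.residueDegree (genericPoint X) ≤ d := by exact_mod_cast hle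
    letI := (φ.stalkMap (genericPoint X)).hom.toAlgebra
    letI := (φ.residueFieldMap (genericPoint X)).hom.toAlgebra
    have hX := Lib.CurveFF.FieldExt.bijective_residue (X := X) (x := genericPoint X) (Field.toIsField X.functionField)
    have hY : Function.Bijective ((CohB1.ProjSpace 1 k).residue (φ (genericPoint X))).hom :=
      Lib.CurveFF.FieldExt.bijective_residue (by
        rw [show φ (genericPoint X) = genericPoint (CohB1.ProjSpace 1 k) from hgen]
        exact Field.toIsField (CohB1.ProjSpace 1 k).functionField)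
    have hr := Algebra.finrank_eq_of_equiv_equiv (RingEquiv.ofBijective _ hY) (RingEquiv.ofBijective _ hX)
      (RingHom.ext fun z => (ConcreteCategory.congr_hom
        (Scheme.residue_residueFieldMap φ (genericPoint X)) z))
    exact hr.trans_le hd

end Groth.Agent.S6579
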