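import Groth.Statements.S6580


set_option autoImplicit false
universe v u
open CategoryTheory CategoryTheory.Limits
open CohDer

namespace Groth.Agent.S6580

open CategoryTheory.Pretriangulated in
/-- Let (X, Y, Z, f, g, h) be a distinguished triangle of a pretriangulated category, and let a : X ⟶ X
and c : Z ⟶ Z be idempotents with h ≫ a⟦1⟧ = c ≫ h. Then there is an idempotent b : Y ⟶ Y such that
(a, b, c) is an endomorphism of the triangle. -/
theorem result {D : Type u} [Category.{v} D] [Preadditive D] [HasZeroObject D] [HasShift D ℤ]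
    [∀ n : ℤ, (shiftFunctor D n).Additive] [Pretriangulated D]
    (T : Triangle D) (hT : T ∈ distinguishedTriangles) (a : T.obj₁ ⟶ T.obj₁) (c : T.obj₃ ⟶ T.obj₃)
    (ha : a ≫ a = a) (hc : c ≫ c = c) (comm : T.mor₃ ≫ (shiftFunctor D (1 : ℤ)).map a = c ≫ T.mor₃) :
    ∃ b : T.obj₂ ⟶ T.obj₂, b ≫ b = b ∧ T.mor₁ ≫ b = a ≫ T.mor₁ ∧ T.mor₂ ≫ c = b ≫ T.mor₂ := by
  obtain ⟨b, hb₁, hb₂⟩ := complete_distinguished_triangle_morphism₂ T T hT hT a c comm
  -- correct `b` to an idempotent
  let h := b ≫ b - b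
  have h1 : T.mor₁ ≫ h = 0 := by
    simp only [h, Preadditive.comp_sub]
    rw [← Category.assoc, hb₁, Category.assoc, hb₁, ← Category.assoc, ha, sub_self]
  have h2 : h ≫ T.mor₂ = 0 := by
    simp only [h, Preadditive.sub_comp, Category.assoc]
    rw [← hb₂, ← Category.assoc, ← hb₂, Category.assoc, hc, sub_self]
  have h3 : h ≫ h = 0 := by
    obtain ⟨k, hk⟩ := T.coyoneda_exact₂ hT h h2
    calc h ≫ h = (k ≫ T.mor₁) ≫ h := by rw [← hk]
      _ = 0 := by rw [Category.assoc, h1, comp_zero]
  have hcomm : b ≫ h = h ≫ b := by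
    simp only [h, Preadditive.comp_sub, Preadditive.sub_comp, Category.assoc]
  refine ⟨b + h - (b ≫ h + b ≫ h), ?_, ?_, ?_⟩
  · have e1 : b ≫ b = b + h := by simp [h]
    have e2 : h ≫ b ≫ h = 0 := by
      rw [← Category.assoc, ← hcomm, Category.assoc, h3, comp_zero]
    have e3 : h ≫ b = b ≫ h := hcomm.symm
    have e4 : b ≫ b ≫ h = b ≫ h := by
      rw [← Category.assoc, e1, Preadditive.add_comp, h3, add_zero]
    simp only [Preadditive.add_comp, Preadditive.comp_add, Preadditive.sub_comp,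
      Preadditive.comp_sub, Category.assoc, e1, e2, e3, e4, h3, comp_zero]
    abel
  · simp only [Preadditive.comp_sub, Preadditive.comp_add, h1, reassoc_of% hb₁, comp_zero]
    rw [hb₁]; simp
  · simp only [Preadditive.sub_comp, Preadditive.add_comp, Category.assoc, h2, comp_zero]
    rw [hb₂]; simp

end Groth.Agent.S6580
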