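import Groth.Agent.Lib.DerCat.SubRes
-- Template for statement S6591 (row 6590; see the milestone table for weights).
-- Copy to Groth/Agent/S6591.lean and replace the sorry. The statement below is byte-identical to the frozen
-- statement CohDer.GrothFrozen.S6591 (Groth/Statements/S6591.lean; the theorem CohDer.exists_right_resolution_in_subcategory_of_acyclic_below);
-- the grader kernel-checks Groth.Agent.S6591.result against that frozen type. Keep the theorem IN THIS FILE
-- (a `result` declared elsewhere and merely imported here is not credited); helpers may live anywhere
-- under Groth/Agent/.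
import Groth.Statements.S6591
-- import your own Groth.Agent.* helpers here

set_option autoImplicit false
universe v u
open CategoryTheory
open CohDer

namespace Groth.Agent.S6591

/-- Let I be a class of objects in an abelian category containing a zero object and such that every
object is a subobject of an object in I. A cochain complex K with Hⁿ(K) = 0 for n < a admits a
quasi-isomorphism K ⟶ L where L has all terms in I and vanishes below degree a. -/
theorem result {A : Type u} [Category.{v} A] [Abelian A] (I : A → Prop)
    (hI0 : ∃ Z : A, Limits.IsZero Z ∧ I Z) (hI : ∀ X : A, ∃ (Y : A) (ι : X ⟶ Y), I Y ∧ Mono ι)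
    (K : CochainComplex A ℤ) (a : ℤ) (hK : ∀ n : ℤ, n < a → Limits.IsZero (K.homology n)) :
    ∃ (L : CochainComplex A ℤ) (α : K ⟶ L), L.IsStrictlyGE a ∧ (∀ n, I (L.X n)) ∧ QuasiIso α := by
  exact Groth.Agent.Lib.DerCat.SubRes.exists_res' hI hI0 K a hK

end Groth.Agent.S6591
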