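import Groth.Agent.Lib.Triangulated.HocolimSubseq
import Groth.Statements.S6592
-- import your own Groth.Agent.* helpers here

set_option autoImplicit false
universe v u
open CategoryTheory CategoryTheory.Limits
open DerLim

namespace Groth.Agent.S6592

/-- Let D be a triangulated category, (K_m, f_m) a system of objects of D indexed by ℕ (given as a
functor F : ℕ ⥤ D) and n₁ < n₂ < … a strictly increasing sequence. Assume ⨁ K_m and ⨁ K_{n_i} exist.
If L is a homotopy colimit of (K_m) and L' a homotopy colimit of the subsequence (K_{n_i}) (with the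
composite transition maps), then there is an isomorphism L' ≅ L under which the structure map
K_{n_i} ⟶ L' corresponds to K_{n_i} ⟶ L for every i. -/
theorem result {D : Type u} [Category.{v} D] [Preadditive D] [HasZeroObject D] [HasShift D ℤ]
    [∀ n : ℤ, (shiftFunctor D n).Additive] [Pretriangulated D] [IsTriangulated D]
    (F : ℕ ⥤ D) (n : ℕ → ℕ) (hn : StrictMono n)
    [HasCoproduct (fun m : ℕ => F.obj m)] [HasCoproduct (fun i : ℕ => F.obj (n i))]
    (L : D) (ι : ∀ m : ℕ, F.obj m ⟶ L)
    (hL : DerLim.IsHocolim (fun m : ℕ => F.obj m) (fun m : ℕ => F.map (homOfLE (Nat.le_succ m))) L ι)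
    (L' : D) (ι' : ∀ i : ℕ, F.obj (n i) ⟶ L')
    (hL' : DerLim.IsHocolim (fun i : ℕ => F.obj (n i)) (fun i : ℕ => F.map (homOfLE (hn.monotone (Nat.le_succ i)))) L' ι') :
    ∃ e : L' ≅ L, ∀ i : ℕ, ι' i ≫ e.hom = ι (n i) := by
  exact Groth.Agent.Lib.Triangulated.HocolimSubseq.exists_iso F n hn L ι hL L' ι' hL'

end Groth.Agent.S6592
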