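import Groth.Agent.Lib.Triangulated.KernelSplit
import Groth.Statements.S6594
-- import your own Groth.Agent.* helpers here

set_option autoImplicit false
universe v u
open CategoryTheory CategoryTheory.Limits
open CohDer

namespace Groth.Agent.S6594

open CategoryTheory.Pretriangulated in
/-- (1) ⇔ (3): let D be a pretriangulated category and f : X ⟶ Y a morphism. Then f has a kernel if and
only if f is isomorphic to a composite K ⊞ Z → Z → Z ⊞ Q of a projection and a coprojection for some
objects K, Z, Q. -/
theorem result {D : Type u} [Category.{v} D] [Preadditive D] [HasZeroObject D] [HasShift D ℤ]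
    [∀ n : ℤ, (shiftFunctor D n).Additive] [Pretriangulated D]
    {X Y : D} (f : X ⟶ Y) :
    HasKernel f ↔ ∃ (K Z Q : D) (e₁ : X ≅ K ⊞ Z) (e₂ : Y ≅ Z ⊞ Q),
      f = e₁.hom ≫ biprod.snd ≫ biprod.inl ≫ e₂.inv := by
  exact Groth.Agent.Lib.Triangulated.KernelSplit.hasKernel_iff f

end Groth.Agent.S6594
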