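import Groth.Agent.Lib.Postnikov.Basic
-- Template for statement S6595 (row 6594; see the milestone table for weights).
-- Copy to Groth/Agent/S6595.lean and replace the sorry. The statement below is byte-identical to the frozen
-- statement CohDer.GrothFrozen.S6595 (Groth/Statements/S6595.lean; the theorem CohDer.postnikov_hom_vanishing_of_vanishing);
-- the grader kernel-checks Groth.Agent.S6595.result against that frozen type. Keep the theorem IN THIS FILE
-- (a `result` declared elsewhere and merely imported here is not credited); helpers may live anywhere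
-- under Groth/Agent/.
import Groth.Statements.S6595
-- import your own Groth.Agent.* helpers here

set_option autoImplicit false
universe v u
open CategoryTheory CategoryTheory.Limits
open CohDer

namespace Groth.Agent.S6595

open CategoryTheory.Pretriangulated in
/-- Let D be a triangulated category, X and X' chain complexes in D considered in degrees ≤ n, where a
Postnikov system for the complex X_n → … → X_0 consists of objects Y_k, an isomorphism Y_0 ⟶ X_0,
and for 0 ≤ k < n distinguished triangles Y_{k+1} ⟶ X_{k+1} ⟶ Y_k ⟶ Y_{k+1}⟦1⟧ with X_{k+1} ⟶ Y_k ⟶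
X_k the differential. Suppose X' carries a Postnikov system (Y', a', b', c'). If Hom(X_i⟦i - j - 1⟧,
X'_j) = 0 for all j + 1 < i ≤ n, then Hom(X_i⟦i - j - 1⟧, Y'_j) = 0 for all j + 1 < i ≤ n. -/
theorem result {D : Type u} [Category.{v} D] [Preadditive D] [HasZeroObject D] [HasShift D ℤ]
    [∀ n : ℤ, (shiftFunctor D n).Additive] [Pretriangulated D] [IsTriangulated D]
    (X X' : ChainComplex D ℕ) (n : ℕ)
    (Y : ℕ → D) (a : ∀ k, Y k ⟶ X'.X k) (b : ∀ k, X'.X (k + 1) ⟶ Y k)
    (c : ∀ k, Y k ⟶ (shiftFunctor D (1 : ℤ)).obj (Y (k + 1)))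
    (h0 : IsIso (a 0))
    (hP : ∀ k, k < n → Triangle.mk (a (k + 1)) (b k) (c k) ∈ distinguishedTriangles ∧ b k ≫ a k = X'.d (k + 1) k)
    (hX : ∀ i j : ℕ, j + 1 < i → i ≤ n → ∀ ψ : (shiftFunctor D ((i : ℤ) - j - 1)).obj (X.X i) ⟶ X'.X j, ψ = 0)
    (i j : ℕ) (hij : j + 1 < i) (hi : i ≤ n) (ψ : (shiftFunctor D ((i : ℤ) - j - 1)).obj (X.X i) ⟶ Y j) :
    ψ = 0 := by
  open Groth.Agent.Lib.Postnikov.Basic in
  have := V_into j h0 (fun k hk => (hP k (by omega)).1) (A := X.X i) ((i : ℤ) - 1)
    (fun l hl => by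
      have := hX i l (by omega) hi
      rwa [show ((i : ℤ) - 1) - l = (i : ℤ) - l - 1 by omega]) j le_rfl
  rw [show ((i : ℤ) - 1) - j = (i : ℤ) - j - 1 by omega] at this
  exact this ψ

end Groth.Agent.S6595
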