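import Groth.Statements.S6600
import Mathlib.CategoryTheory.Triangulated.Orthogonal

set_option autoImplicit false
universe v u
open CategoryTheory CategoryTheory.Limits
open CohDer

namespace Groth.Agent.S6600

open CategoryTheory.Pretriangulated in
/-- Let D be a triangulated category, A ⊂ D a full subcategory invariant under all shifts, and X → Y → Z
→ X⟦1⟧ a distinguished triangle. Then Z lies in the right orthogonal A^⊥ if and only if Hom(A, X) →
Hom(A, Y) is bijective for every object A of A. -/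
theorem result {D : Type u} [Category.{v} D] [Preadditive D] [HasZeroObject D] [HasShift D ℤ]
    [∀ n : ℤ, (shiftFunctor D n).Additive] [Pretriangulated D] [IsTriangulated D]
    (P : ObjectProperty D) [P.IsStableUnderShift ℤ] (T : Triangle D) (hT : T ∈ distinguishedTriangles) :
    P.rightOrthogonal T.obj₃ ↔ ∀ A : D, P A → Function.Bijective (fun u : A ⟶ T.obj₁ => u ≫ T.mor₁) := by
  constructor
  · intro h A hA
    refine ⟨fun u u' he => ?_, fun v => ?_⟩
    · obtain ⟨g, hg⟩ := Triangle.coyoneda_exact₂ _ (inv_rot_of_distTriang _ hT) (u - u') (by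
        change (u - u') ≫ T.mor₁ = 0
        rw [Preadditive.sub_comp, sub_eq_zero]; exact he)
      have h' : P.rightOrthogonal (T.obj₃⟦(-1 : ℤ)⟧) := P.rightOrthogonal.le_shift _ _ h
      have hg0 : g = 0 := h' g hA
      rw [hg0, Limits.zero_comp] at hg
      exact sub_eq_zero.1 hg
    · obtain ⟨g, hg⟩ := Triangle.coyoneda_exact₂ _ hT v (h _ hA)
      exact ⟨g, hg.symm⟩
  · intro h A f hA
    obtain ⟨a, ha⟩ : ∃ a, a ≫ (shiftFunctor D (1 : ℤ)).map T.mor₁ = f ≫ T.mor₃ ≫ (shiftFunctor D (1 : ℤ)).map T.mor₁ :=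
      ⟨f ≫ T.mor₃, Category.assoc _ _ _⟩
    have h3 : f ≫ T.mor₃ = 0 := by
      let E := shiftEquiv D (1 : ℤ)
      apply (E.symm.toAdjunction.homEquiv A T.obj₁).symm.injective
      refine (h _ (P.le_shift (-1 : ℤ) _ hA)).1 ?_
      change (E.symm.toAdjunction.homEquiv A T.obj₁).symm (f ≫ T.mor₃) ≫ T.mor₁ =
        (E.symm.toAdjunction.homEquiv A T.obj₁).symm 0 ≫ T.mor₁
      rw [← Adjunction.homEquiv_naturality_right_symm, ← Adjunction.homEquiv_naturality_right_symm]
      congr 1
      change (f ≫ T.mor₃) ≫ (shiftFunctor D (1 : ℤ)).map T.mor₁ = 0 ≫ (shiftFunctor D (1 : ℤ)).map T.mor₁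
      rw [Category.assoc, comp_distTriang_mor_zero₃₁ _ hT, Limits.comp_zero, Limits.zero_comp]
    obtain ⟨g, rfl⟩ := Triangle.coyoneda_exact₃ _ hT f h3
    obtain ⟨u, hu⟩ := (h A hA).2 g
    rw [← hu, Category.assoc, comp_distTriang_mor_zero₁₂ _ hT, Limits.comp_zero]

end Groth.Agent.S6600
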