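import Groth.Statements.S6601
import Mathlib.CategoryTheory.Triangulated.Orthogonal

set_option autoImplicit false
universe v u
open CategoryTheory CategoryTheory.Limits
open CohDer

namespace Groth.Agent.S6601

open CategoryTheory.Pretriangulated in
/-- Let D be a triangulated category, B ⊂ D a full subcategory invariant under all shifts, and X → Y → Z
→ X⟦1⟧ a distinguished triangle. Then X lies in the left orthogonal ^⊥B if and only if Hom(Z, B) →
Hom(Y, B) is bijective for every object B of B. -/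
theorem result {D : Type u} [Category.{v} D] [Preadditive D] [HasZeroObject D] [HasShift D ℤ]
    [∀ n : ℤ, (shiftFunctor D n).Additive] [Pretriangulated D] [IsTriangulated D]
    (P : ObjectProperty D) [P.IsStableUnderShift ℤ] (T : Triangle D) (hT : T ∈ distinguishedTriangles) :
    P.leftOrthogonal T.obj₁ ↔ ∀ B : D, P B → Function.Bijective (fun u : T.obj₃ ⟶ B => T.mor₂ ≫ u) := by
  constructor
  · intro h B hB
    refine ⟨fun w w' he => ?_, fun v => ?_⟩
    · obtain ⟨g, hg⟩ := Triangle.yoneda_exact₃ _ hT (w - w') (by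
        rw [Preadditive.comp_sub, sub_eq_zero]; exact he)
      have h' : P.leftOrthogonal (T.obj₁⟦(1 : ℤ)⟧) := P.leftOrthogonal.le_shift _ _ h
      have hg0 : g = 0 := h' g hB
      rw [hg0, Limits.comp_zero] at hg
      exact sub_eq_zero.1 hg
    · obtain ⟨g, hg⟩ := Triangle.yoneda_exact₂ _ hT v (h _ hB)
      exact ⟨g, hg.symm⟩
  · intro h B f hB
    have hz : (shiftFunctor D (1 : ℤ)).map f = 0 := by
      have h3 : T.mor₃ ≫ (shiftFunctor D (1 : ℤ)).map f = 0 := by
        apply (h _ (P.le_shift (1 : ℤ) _ hB)).1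
        change T.mor₂ ≫ T.mor₃ ≫ _ = T.mor₂ ≫ 0
        rw [comp_distTriang_mor_zero₂₃_assoc _ hT, Limits.zero_comp, Limits.comp_zero]
      obtain ⟨g, hg⟩ := Triangle.yoneda_exact₃ _ (rot_of_distTriang _ hT)
        ((shiftFunctor D (1 : ℤ)).map f) h3
      obtain ⟨g', rfl⟩ := (shiftFunctor D (1 : ℤ)).map_surjective g
      obtain ⟨w, hw⟩ := (h B hB).2 g'
      change _ = (-(shiftFunctor D (1 : ℤ)).map T.mor₁) ≫ (shiftFunctor D (1 : ℤ)).map g' at hg
      rw [hg, Preadditive.neg_comp, ← Functor.map_comp, ← hw, comp_distTriang_mor_zero₁₂_assoc _ hT,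
        Limits.zero_comp, Functor.map_zero, neg_zero]
    exact (shiftFunctor D (1 : ℤ)).map_eq_zero_iff.1 hz

end Groth.Agent.S6601
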