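import Groth.Statements.S6602
import Groth.Agent.Lib.DerCat.Orth
import Mathlib.CategoryTheory.Adjunction.Basic

set_option autoImplicit false
universe v u
open CategoryTheory CategoryTheory.Limits
open CohDer

namespace Groth.Agent.S6602

open CategoryTheory.Pretriangulated Groth.Agent.Lib.DerCat.Orth

open CategoryTheory.Pretriangulated in
/-- (1) ⇔ (2): let D be a triangulated category and B a full triangulated subcategory. The inclusion
functor B → D has a left adjoint if and only if for every X in D there is a distinguished triangle A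
→ X → B → A⟦1⟧ with B in B and A in the left orthogonal ^⊥B. (The published statement further
asserts that B is then saturated and, when strictly full, equals the right orthogonal of its left
orthogonal; this row asserts only the equivalence.) -/
theorem result {D : Type u} [Category.{v} D] [Preadditive D] [HasZeroObject D] [HasShift D ℤ]
    [∀ n : ℤ, (shiftFunctor D n).Additive] [Pretriangulated D] [IsTriangulated D]
    (P : ObjectProperty D) [P.IsTriangulated] :
    P.ι.IsRightAdjoint ↔ ∀ X : D, ∃ (A B : D) (f : A ⟶ X) (g : X ⟶ B) (h : B ⟶ (shiftFunctor D (1 : ℤ)).obj A),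
      Triangle.mk f g h ∈ distinguishedTriangles ∧ P B ∧ P.leftOrthogonal A := by
  constructor
  · intro h X
    let adj := Adjunction.ofIsRightAdjoint P.ι
    obtain ⟨A, f, k, hT⟩ := Pretriangulated.distinguished_cocone_triangle₁ (adj.unit.app X)
    refine ⟨A, _, f, _, k, hT, (P.ι.leftAdjoint.obj X).property, ?_⟩
    refine (leftOrthogonal₁_iff (P := P) _ hT).2 fun B hB => ?_
    let B' : P.FullSubcategory := ⟨B, hB⟩
    have e : (fun u : (P.ι.leftAdjoint.obj X).obj ⟶ B => adj.unit.app X ≫ u) =
        (adj.homEquiv X B') ∘ (fun u => P.fullyFaithfulι.preimage u) := by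
      funext u
      simp only [Function.comp_apply, Adjunction.homEquiv_unit]
      rfl
    change Function.Bijective (fun u : (P.ι.leftAdjoint.obj X).obj ⟶ B => adj.unit.app X ≫ u)
    rw [e]
    exact (adj.homEquiv X B').bijective.comp (P.fullyFaithfulι.homEquiv (Y := B')).symm.bijective
  · intro h
    choose A B f g k hT hB hA using h
    have hloc : ∀ X, IsLocalIsoL P (g X) := fun X => (leftOrthogonal₁_iff (P := P) _ (hT X)).1 (hA X)
    let G : D → P.FullSubcategory := fun X => ⟨B X, hB X⟩
    let e : ∀ (X : D) (Z : P.FullSubcategory), (G X ⟶ Z) ≃ (X ⟶ P.ι.obj Z) := fun X Z =>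
      (P.fullyFaithfulι.homEquiv (X := G X) (Y := Z)).trans (Equiv.ofBijective _ (hloc X Z.obj Z.property))
    refine ⟨_, ⟨Adjunction.adjunctionOfEquivLeft e fun X Z Z' a b => ?_⟩⟩
    simp only [e, Equiv.trans_apply, Functor.FullyFaithful.homEquiv_apply, Functor.map_comp]
    erw [Equiv.ofBijective_apply, Equiv.ofBijective_apply, Category.assoc]

end Groth.Agent.S6602
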