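import Groth.Agent.Lib.Verdier.Kernel
import Groth.Statements.S6604
-- import your own Groth.Agent.* helpers here

set_option autoImplicit false
universe v u v' u'
open CategoryTheory CategoryTheory.Limits
open CohDer

namespace Groth.Agent.S6604
open Groth.Agent.Lib.Verdier.Kernel

/-- Let D be a triangulated category, B a full triangulated subcategory and Q : D → D/B the quotient
functor. Q sends an object Z of D to zero (Q(Z) = 0, i.e. Z belongs to the kernel of Q) exactly
when, for a suitable object Z' of D, the direct sum Z ⊞ Z' is isomorphic to some object lying in B;
put differently, the kernel is the smallest saturated, strictly full triangulated subcategory that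
contains B. -/
theorem result {D : Type u} [Category.{v} D] [Preadditive D] [HasZeroObject D] [HasShift D ℤ]
    [∀ n : ℤ, (shiftFunctor D n).Additive] [Pretriangulated D] [IsTriangulated D]
    (B : ObjectProperty D) [B.IsTriangulated]
    {E : Type u'} [Category.{v'} E] (Q : D ⥤ E) [Q.IsLocalization B.trW] (Z : D) :
    IsZero (Q.obj Z) ↔ ∃ (Z' Y : D), B Y ∧ Nonempty (Z ⊞ Z' ≅ Y) := by
  exact isZero_iff_exists_biprod B Q Z

end Groth.Agent.S6604
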