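import Groth.Statements.S6607
import Groth.Agent.Lib.DerCat.Orth

set_option autoImplicit false
universe v u
open CategoryTheory CategoryTheory.Limits
open CohDer

namespace Groth.Agent.S6607

open CategoryTheory.Pretriangulated Groth.Agent.Lib.DerCat.Orth CategoryTheory.Limits

open CategoryTheory.Pretriangulated in
/-- Let D be a triangulated category and B a full triangulated subcategory. Let P(X) be the property:
there is a distinguished triangle A → X → B → A⟦1⟧ with B in B and A in ^⊥B. Then P satisfies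
two-out-of-three in distinguished triangles, i.e. it is stable under all shifts and closed under
extensions (a triangulated object property). -/
theorem result {D : Type u} [Category.{v} D] [Preadditive D] [HasZeroObject D] [HasShift D ℤ]
    [∀ n : ℤ, (shiftFunctor D n).Additive] [Pretriangulated D] [IsTriangulated D]
    (B : ObjectProperty D) [B.IsTriangulated] :
    ObjectProperty.IsTriangulated (fun X : D => ∃ (A Y : D) (f : A ⟶ X) (g : X ⟶ Y) (h : Y ⟶ (shiftFunctor D (1 : ℤ)).obj A),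
      Triangle.mk f g h ∈ distinguishedTriangles ∧ B Y ∧ B.leftOrthogonal A) := by
  refine
    { exists_zero := ⟨_, Limits.isZero_zero D, ?_⟩
      isStableUnderShiftBy := fun n => ⟨?_⟩
      toIsTriangulatedClosed₂ := ⟨?_⟩ }
  · obtain ⟨Z, hZ, hPZ⟩ := B.exists_prop_of_containsZero
    refine ⟨_, Z, 𝟙 _, 0, 0, (Triangle.distinguished_iff_of_isZero₃ _ hZ).2 ?_, hPZ, ?_⟩
    · change IsIso (𝟙 _); infer_instance
    · exact fun _ f _ => (Limits.isZero_zero D).eq_of_src _ _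
  · rintro X ⟨A, Y, f, g, h, hT, hY, hA⟩
    exact ⟨_, _, _, _, _, (Triangle.mk f g h).shift_distinguished hT n, B.le_shift n _ hY,
      B.leftOrthogonal.le_shift n _ hA⟩
  · rintro T hT ⟨A₁, Y₁, f₁, g₁, k₁, hT₁, hY₁, hA₁⟩ ⟨A₃, Y₃, f₃, g₃, k₃, hT₃, hY₃, hA₃⟩
    refine ObjectProperty.le_isoClosure _ _ ?_
    have l₁ : IsLocalIsoL B g₁ := (leftOrthogonal₁_iff (P := B) _ hT₁).1 hA₁
    have l₃ : IsLocalIsoL B g₃ := (leftOrthogonal₁_iff (P := B) _ hT₃).1 hA₃
    obtain ⟨a, ha⟩ := (l₃ _ (B.le_shift (1 : ℤ) _ hY₁)).2 (T.mor₃ ≫ g₁⟦(1 : ℤ)⟧')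
    change g₃ ≫ a = T.mor₃ ≫ g₁⟦(1 : ℤ)⟧' at ha
    obtain ⟨Y₂, m₁, m₂, hY⟩ := distinguished_cocone_triangle₂ a
    obtain ⟨Y₂', hY₂', ⟨e⟩⟩ := B.ext_of_isTriangulatedClosed₂' _ hY hY₁ hY₃
    obtain ⟨φ, c₁, c₂⟩ := complete_distinguished_triangle_morphism₂ _ _ hT hY g₁ g₃ ha.symm
    have l₂ : IsLocalIsoL B φ := isLocalIsoL₂
      (Triangle.homMk T (Triangle.mk m₁ m₂ a) g₁ φ g₃ c₁ c₂ ha.symm) hT hY l₁ l₃
    obtain ⟨A₂, f₂, k₂, hT₂⟩ := Pretriangulated.distinguished_cocone_triangle₁ (φ ≫ e.hom)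
    refine ⟨A₂, Y₂', f₂, _, k₂, hT₂, hY₂', (leftOrthogonal₁_iff (P := B) _ hT₂).2 fun A hA => ?_⟩
    have he : (fun u : Y₂' ⟶ A => (φ ≫ e.hom) ≫ u) = (fun u => φ ≫ u) ∘ (fun u => e.hom ≫ u) := by
      funext u; exact Category.assoc _ _ _
    change Function.Bijective (fun u : Y₂' ⟶ A => (φ ≫ e.hom) ≫ u)
    rw [he]
    exact (l₂ A hA).comp ⟨fun a b hab => (cancel_epi _).1 hab, fun b => ⟨e.inv ≫ b, by simp⟩⟩

end Groth.Agent.S6607
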