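import Groth.Statements.S6608


set_option autoImplicit false
universe v u
open CategoryTheory CategoryTheory.Limits
open CohDer

namespace Groth.Agent.S6608

open CategoryTheory.Pretriangulated in
/-- Let D be a pretriangulated category and S a set of arrows of D containing the identities and
satisfying MS6 (compatibility with the triangulated structure; here together with stability under
shifts, MS5). Then every isomorphism of D lies in S. -/
theorem result {D : Type u} [Category.{v} D] [Preadditive D] [HasZeroObject D] [HasShift D ℤ]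
    [∀ n : ℤ, (shiftFunctor D n).Additive] [Pretriangulated D]
    (S : MorphismProperty D) [S.ContainsIdentities] [S.IsCompatibleWithTriangulation]
    {X Y : D} (f : X ⟶ Y) [IsIso f] : S f := by
  obtain ⟨Z, hZ, h⟩ : ∃ Z : D, IsZero Z ∧ ∀ (W : D) (g : X ⟶ W), IsIso g →
      Triangle.mk (0 : Z ⟶ X) g 0 ∈ distinguishedTriangles :=
    ⟨_, isZero_zero D, fun W g hg => (Triangle.distinguished_iff_of_isZero₁ _ (isZero_zero D)).2 hg⟩
  obtain ⟨c, hc, e, -⟩ := MorphismProperty.IsCompatibleWithTriangulation.compatible_with_triangulation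
    (W := S) _ _ (h X (𝟙 X) inferInstance) (h Y f inferInstance) (𝟙 _) (𝟙 X) (S.id_mem _) (S.id_mem _) (hZ.eq_of_src _ _)
  have : c = f := by
    change (𝟙 X : X ⟶ X) ≫ c = 𝟙 X ≫ f at e
    exact (cancel_epi (𝟙 X)).1 e
  exact this ▸ hc

end Groth.Agent.S6608
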