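import Groth.Statements.S6611
import Groth.Agent.Lib.DerCat.KInjLift

set_option autoImplicit false
universe v u
open CategoryTheory CategoryTheory.Limits
open CohDer

namespace Groth.Agent.S6611

/-- Let A be an abelian category, α : K ⟶ L a quasi-isomorphism of cochain complexes which is injective
in every degree, I a bounded below complex of injective objects and γ : K ⟶ I a morphism. Then there
is a morphism β : L ⟶ I with α ≫ β = γ. -/
theorem result {A : Type u} [Category.{v} A] [Abelian A]
    (K L I : CochainComplex A ℤ) (α : K ⟶ L) [QuasiIso α] (hα : ∀ n : ℤ, Mono (α.f n))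
    (a : ℤ) [I.IsStrictlyGE a] (hI : ∀ n : ℤ, Injective (I.X n)) (γ : K ⟶ I) :
    ∃ β : L ⟶ I, α ≫ β = γ := by
  have : I.IsKInjective := by
    have := hI
    exact CochainComplex.isKInjective_of_injective I a
  exact Groth.Agent.Lib.DerCat.KInjLift.exists_lift_of_mono α hα hI γ

end Groth.Agent.S6611
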