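import Groth.Statements.S6612
-- import your own Groth.Agent.* helpers here

set_option autoImplicit false
universe v u
open CategoryTheory CategoryTheory.Limits
open CohDer

namespace Groth.Agent.S6612

/-- Let A be an additive category and 0 → A₂ → B₂ → C₂ → 0 a termwise split exact sequence of complexes.
Given a chain map b from a complex B₁ into B₂ and a chain map b' from B₂ into a complex B₃, suppose
that both composites b ≫ (B₂ → C₂) and (A₂ → B₂) ≫ b' are null-homotopic. Then b ≫ b' is homotopic
to zero. (The published statement has three termwise split sequences Aᵢ → Bᵢ → Cᵢ and asks both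
squares of each diagram to commute up to homotopy; this row keeps only the middle sequence and the
two conditions at B₂ that the argument uses, so it is more general.) -/
theorem result {V : Type u} [Category.{v} V] [Preadditive V] [HasBinaryBiproducts V]
    (S : ShortComplex (CochainComplex V ℤ))
    (σ : ∀ n : ℤ, (S.map (HomologicalComplex.eval V (ComplexShape.up ℤ) n)).Splitting)
    {B₁ B₃ : CochainComplex V ℤ} (b : B₁ ⟶ S.X₂) (b' : S.X₂ ⟶ B₃)
    (hb : Nonempty (Homotopy (b ≫ S.g) 0)) (hb' : Nonempty (Homotopy (S.f ≫ b') 0)) :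
    Nonempty (Homotopy (b ≫ b') 0) := by
  obtain ⟨h⟩ := hb
  obtain ⟨h'⟩ := hb'
  let r : ∀ n, S.X₂.X n ⟶ S.X₁.X n := fun n => (σ n).r
  let s : ∀ n, S.X₃.X n ⟶ S.X₂.X n := fun n => (σ n).s
  have hsg : ∀ n, s n ≫ S.g.f n = 𝟙 (S.X₃.X n) := fun n => (σ n).s_g
  have hfr : ∀ n, S.f.f n ≫ r n = 𝟙 (S.X₁.X n) := fun n => (σ n).f_r
  have hid : ∀ n, r n ≫ S.f.f n + S.g.f n ≫ s n = 𝟙 (S.X₂.X n) := fun n => (σ n).id
  let k : ∀ i j, B₁.X i ⟶ S.X₂.X j := fun i j => h.hom i j ≫ s j
  have hk : ∀ i j, ¬ (ComplexShape.up ℤ).Rel j i → k i j = 0 := fun i j hij => by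
    simp [k, h.zero i j hij]
  have hn : Homotopy.nullHomotopicMap k ≫ S.g = b ≫ S.g := by
    rw [Homotopy.nullHomotopicMap_comp]
    have : (fun i j => k i j ≫ S.g.f j) = h.hom := by
      funext i j
      dsimp [k]
      rw [Category.assoc, hsg, Category.comp_id]
    rw [this]
    ext n
    rw [h.comm n]
    simp [Homotopy.nullHomotopicMap]
  let b'' := b - Homotopy.nullHomotopicMap k
  have hb'' : b'' ≫ S.g = 0 := by simp only [b'', Preadditive.sub_comp, hn, sub_self]
  have hg : ∀ n, b''.f n ≫ S.g.f n = 0 := fun n => by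
    rw [← HomologicalComplex.comp_f, hb'', HomologicalComplex.zero_f]
  have hcf : ∀ n, (b''.f n ≫ r n) ≫ S.f.f n = b''.f n := fun n => by
    conv_rhs => rw [← Category.comp_id (b''.f n)]
    rw [← hid n, Preadditive.comp_add, reassoc_of% (hg n)]
    simp
  have hmono : ∀ n, Mono (S.f.f n) := fun n =>
    (⟨fun {Z} u v huv => by
      have := huv =≫ r n
      simp only [Category.assoc, hfr, Category.comp_id] at this
      exact this⟩)
  let c : B₁ ⟶ S.X₁ :=
    { f := fun n => b''.f n ≫ r n
      comm' := fun i j _ => by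
        have := hmono j
        rw [← cancel_mono (S.f.f j)]
        rw [Category.assoc (B₁.d i j), hcf j, Category.assoc _ (S.X₁.d i j), ← S.f.comm i j,
          ← Category.assoc, hcf i, b''.comm] }
  have hc : c ≫ S.f = b'' := by ext n; exact hcf n
  have e : b ≫ b' = c ≫ (S.f ≫ b') + Homotopy.nullHomotopicMap k ≫ b' := by
    rw [← Category.assoc, hc]
    simp [b'']
  refine ⟨(Homotopy.ofEq e).trans ((Homotopy.trans (Homotopy.add ((h'.compLeft c).trans
    (Homotopy.ofEq comp_zero)) ((Homotopy.nullHomotopy k hk).compRight b' |>.trans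
    (Homotopy.ofEq zero_comp))) (Homotopy.ofEq (add_zero _))))⟩

end Groth.Agent.S6612
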