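import Groth.Agent.Lib.Verdier.Resolutions
import Groth.Statements.S6613
-- import your own Groth.Agent.* helpers here

set_option autoImplicit false
universe v u v' u'
open CategoryTheory CategoryTheory.Limits
open CohDer

namespace Groth.Agent.S6613

/-- Let D be a pretriangulated category, D' ⊂ D a full pretriangulated subcategory, S a saturated
multiplicative system of D compatible with the triangulated structure and Q : D → S⁻¹D the
localization. Assume every X in D admits some s : X' ⟶ X in S with X' in D'. Then, with S' = S ∩
Arrows(D'), the functor (S')⁻¹D' → S⁻¹D is an equivalence; equivalently the composite D' → D → S⁻¹D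
is a localization of D' at S'. (The published result additionally claims that the intersection S' =
S ∩ Arrows(D') forms a multiplicative system on D' which is saturated and respects the triangulated
structure of D'; this row asserts only the localization property.) -/
theorem result {D : Type u} [Category.{v} D] [Preadditive D] [HasZeroObject D] [HasShift D ℤ]
    [∀ n : ℤ, (shiftFunctor D n).Additive] [Pretriangulated D]
    (P : ObjectProperty D) [P.IsTriangulated]
    (S : MorphismProperty D) [S.HasLeftCalculusOfFractions] [S.HasRightCalculusOfFractions] [S.IsCompatibleWithTriangulation]
    {E : Type u'} [Category.{v'} E] (Q : D ⥤ E) [Q.IsLocalization S]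
    (hsat : ∀ {X Y : D} (f : X ⟶ Y), IsIso (Q.map f) → S f)
    (hP : ∀ X : D, ∃ (X' : D) (s : X' ⟶ X), P X' ∧ S s) :
    (P.ι ⋙ Q).IsLocalization (S.inverseImage P.ι) := by
  exact Groth.Agent.Lib.Verdier.Resolutions.isLocalization P S hP Q

end Groth.Agent.S6613
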