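import Groth.Agent.Lib.ProSys.Triangles
import Groth.Statements.S6614
-- import your own Groth.Agent.* helpers here

set_option autoImplicit false
universe v u
open CategoryTheory CategoryTheory.Limits Opposite
open CohDer

namespace Groth.Agent.S6614

/-- Let D be a triangulated category and (A_n) an ℕ-indexed inverse system of D which is essentially
constant with value A relative to the cone c. Then there are an index i and direct sum
decompositions A_{i+j} ≅ A ⊞ Z_j (j ≥ 0) such that (a) c_{i+j} is the inclusion of the summand A and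
the transition maps A_{i+k} → A_{i+j} are 𝟙_A ⊕ (Z_k → Z_j), and (b) for every j there is k ≥ j with
Z_k → Z_j zero. (The published statement is an equivalence whose converse is given without proof;
this row states only the forward implication.) -/
theorem result {D : Type u} [Category.{v} D] [Preadditive D] [HasZeroObject D] [HasShift D ℤ]
    [∀ n : ℤ, (shiftFunctor D n).Additive] [Pretriangulated D] [IsTriangulated D]
    (X : ARSys.PS D) (A : D) (c : (Functor.const ℕᵒᵖ).obj A ⟶ X) (hX : DerCA.IsEssConstant X A c) :
    ∃ (i : ℕ) (Z : ℕ → D) (e : ∀ j : ℕ, X.obj (op (i + j)) ≅ A ⊞ Z j) (z : ∀ j k : ℕ, j ≤ k → (Z k ⟶ Z j)),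
      (∀ j : ℕ, c.app (op (i + j)) ≫ (e j).hom = biprod.inl) ∧
      (∀ (j k : ℕ) (hjk : j ≤ k), (e k).inv ≫ ARSys.tr X (Nat.add_le_add_left hjk i) = biprod.map (𝟙 A) (z j k hjk) ≫ (e j).inv) ∧
      (∀ j : ℕ, ∃ (k : ℕ) (hjk : j ≤ k), z j k hjk = 0) := by
  exact Groth.Agent.Lib.ProSys.Triangles.exists_decomposition X A c hX

end Groth.Agent.S6614
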