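import Groth.Statements.S6618
import Groth.Agent.Lib.DerCat.RFObj

set_option autoImplicit false
universe v v' u u'
open CategoryTheory CategoryTheory.Limits
open CohDer

namespace Groth.Agent.S6618

/-- Part (2): (3), in the case where A has enough injectives: let F : A ⥤ B be an additive functor
between abelian categories, A with enough injectives. Then R⁰F is left exact; moreover, F itself is
left exact exactly when the canonical comparison morphism from F to R⁰F is invertible. -/
theorem result {A : Type u} [Category.{v} A] [Abelian A] [EnoughInjectives A]
    {B : Type u'} [Category.{v'} B] [Abelian B] (F : A ⥤ B) [F.Additive] :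
    PreservesFiniteLimits (F.rightDerived 0) ∧ (IsIso F.toRightDerivedZero ↔ PreservesFiniteLimits F) := by
  letI : HasDerivedCategory A := HasDerivedCategory.standard A
  letI : HasDerivedCategory B := HasDerivedCategory.standard B
  have h := Lib.DerCat.RFObj.preservesFiniteLimits_rightDerived_zero F
  exact ⟨h, fun hi => preservesFiniteLimits_of_natIso (asIso F.toRightDerivedZero).symm,
    fun _ => inferInstance⟩

end Groth.Agent.S6618
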