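import Groth.Statements.S6620
import Groth.Agent.Lib.DerCat.RFObj

set_option autoImplicit false
universe w w' v v' u u'
open CategoryTheory CategoryTheory.Limits
open CohDer

namespace Groth.Agent.S6620

/-- Part (1): in the case where A has enough injectives (so that RF is defined on all of D⁺(A)): let F :
A ⥤ B be an additive functor between abelian categories, A with enough injectives, and K ∈ D⁺(A)
with Hⁱ(K) = 0 for i < a. Then Hⁱ(RF(K)) = 0 for i < a. -/
theorem result {A : Type u} [Category.{v} A] [Abelian A] [HasDerivedCategory.{w} A] [EnoughInjectives A]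
    {B : Type u'} [Category.{v'} B] [Abelian B] [HasDerivedCategory.{w'} B]
    (F : A ⥤ B) [F.Additive] (K : DerivedCategory.Plus A) (a : ℤ) [K.IsGE a] :
    (F.rightDerivedFunctorPlus.obj K).IsGE a := by
  obtain ⟨L, hL, ⟨e⟩⟩ := DerivedCategory.Plus.exists_injective_nonempty_iso K a
  rw [← DerivedCategory.Plus.isGE_ι_obj_iff]
  let M := (InjectiveObject.ι A).mapCochainComplexPlus.obj L
  have : QuasiIso (𝟙 M : M ⟶ M).hom := inferInstanceAs (QuasiIso (𝟙 M.obj))
  let i := Lib.DerCat.RFObj.RFIso F (𝟙 M) (fun n => (L.obj.X n).property)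
  have : CochainComplex.IsStrictlyGE ((F.mapHomologicalComplex (ComplexShape.up ℤ)).obj M.obj) a :=
    inferInstanceAs (CochainComplex.IsStrictlyGE ((F.mapHomologicalComplex _).obj
      (((InjectiveObject.ι A).mapHomologicalComplex (ComplexShape.up ℤ)).obj L.obj)) a)
  have : DerivedCategory.TStructure.t.IsGE
      (DerivedCategory.Q.obj ((F.mapHomologicalComplex (ComplexShape.up ℤ)).obj M.obj)) a :=
    (inferInstance : DerivedCategory.IsGE _ a)
  exact DerivedCategory.TStructure.t.isGE_of_iso
    (i.symm ≪≫ (Lib.DerCat.RFPlus.RF F).mapIso e) a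

end Groth.Agent.S6620
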