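import Groth.Statements.S6625
import Groth.Agent.Lib.DerCat.RFAcyclic

set_option autoImplicit false
universe w w' v v' u u'
open CategoryTheory CategoryTheory.Limits
open CohDer

namespace Groth.Agent.S6625

open CategoryTheory.Limits Lib.DerCat.RFObj Lib.DerCat.RFPlus in
theorem key {A : Type u} [Category.{v} A] [Abelian A] [HasDerivedCategory.{w} A] [EnoughInjectives A]
    {B : Type u'} [Category.{v'} B] [Abelian B] [HasDerivedCategory.{w'} B]
    (F : A ⥤ B) [F.Additive] (I : ObjectProperty A)
    (h1 : ∀ X : A, ∃ (Y : A) (ι : X ⟶ Y), I Y ∧ Mono ι)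
    (h2 : ∀ S : ShortComplex A, S.ShortExact → I S.X₁ → I S.X₂ → I S.X₃ ∧ (S.map F).ShortExact)
    (X : A) (hX : I X) :
    IsIso (F.toRightDerivedZero.app X) ∧ ∀ i : ℕ, 0 < i → IsZero ((F.rightDerived i).obj X) := by
  let t := F.toRightDerivedZero
  have emb : ∀ X : A, I X → ∃ (S : ShortComplex A) (Z : A) (a : S.X₃ ⟶ Z) (b : Z ⟶ S.X₃),
      a ≫ b = 𝟙 _ ∧ I Z ∧ S.ShortExact ∧ S.X₁ = X ∧ Injective S.X₂ ∧ (S.map F).ShortExact := by
    intro X hX
    obtain ⟨Y, s, hY, hs⟩ := h1 (Injective.under X)
    let r : Y ⟶ Injective.under X := Injective.factorThru (𝟙 _) s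
    have hr : s ≫ r = 𝟙 _ := Injective.comp_factorThru _ _
    let j := Injective.ι X
    let S := ShortComplex.mk j (cokernel.π j) (cokernel.condition j)
    let T := ShortComplex.mk (j ≫ s) (cokernel.π (j ≫ s)) (cokernel.condition _)
    have hS : S.ShortExact := ShortComplex.ShortExact.mk'
      (ShortComplex.exact_of_g_is_cokernel _ (cokernelIsCokernel j)) inferInstance inferInstance
    have hT : T.ShortExact := ShortComplex.ShortExact.mk'
      (ShortComplex.exact_of_g_is_cokernel _ (cokernelIsCokernel _)) (mono_comp _ _) inferInstance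
    obtain ⟨hZ, hFT⟩ := h2 T hT hX hY
    let a : S.X₃ ⟶ T.X₃ := cokernel.map j (j ≫ s) (𝟙 _) s (by simp)
    let b : T.X₃ ⟶ S.X₃ := cokernel.map (j ≫ s) j (𝟙 _) r (by simp [hr])
    have hab : a ≫ b = 𝟙 _ := by
      apply coequalizer.hom_ext
      simp only [a, b]
      simp [S, reassoc_of% hr]
    let α : S ⟶ T := { τ₁ := 𝟙 _, τ₂ := s, τ₃ := a, comm₁₂ := by simp [S, T], comm₂₃ := by simp [S, T, a] }
    let β : T ⟶ S := { τ₁ := 𝟙 _, τ₂ := r, τ₃ := b, comm₁₂ := by simp [S, T, hr], comm₂₃ := by simp [S, T, b] }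
    have hαβ : α ≫ β = 𝟙 S := ShortComplex.hom_ext _ _ (Category.id_comp _) hr hab
    have hS' : (S.map F).Exact := by
      rw [ShortComplex.exact_iff_isZero_homology]
      let α' : S.map F ⟶ T.map F := F.mapShortComplex.map α
      let β' : T.map F ⟶ S.map F := F.mapShortComplex.map β
      have e : α' ≫ β' = 𝟙 _ := by
        rw [show α' ≫ β' = F.mapShortComplex.map (α ≫ β) from (Functor.map_comp _ _ _).symm, hαβ]
        exact F.mapShortComplex.map_id S
      have := (SplitMono.mk (ShortComplex.homologyMap β') (by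
        rw [← ShortComplex.homologyMap_comp, e, ShortComplex.homologyMap_id]) :
          SplitMono (ShortComplex.homologyMap α')).mono
      exact IsZero.of_mono (ShortComplex.homologyMap α')
        ((ShortComplex.exact_iff_isZero_homology _).1 hFT.exact)
    refine ⟨S, T.X₃, a, b, hab, hZ, hS, rfl, inferInstanceAs (Injective (Injective.under X)), ?_⟩
    refine { exact := hS', mono_f := ?_, epi_g := ?_ }
    · have hm := hFT.mono_f
      have : Mono (F.map j ≫ F.map s) := by rw [← F.map_comp]; exact hm
      exact mono_of_mono (F.map j) (F.map s)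
    · have he := hFT.epi_g
      have h : F.map T.g ≫ F.map b = F.map r ≫ F.map S.g := by
        rw [← F.map_comp, ← F.map_comp, β.comm₂₃]
      have : Epi (F.map b) := (SplitEpi.mk (F.map a) (by rw [← F.map_comp, hab, F.map_id])).epi
      have : Epi (F.map T.g ≫ F.map b) := epi_comp' he this
      rw [h] at this
      exact epi_of_epi (F.map r) (F.map S.g)
  have ρ := fun n => HRFNatIso F n
  have hmono : ∀ X, I X → Mono (t.app X) := by
    intro X hX
    obtain ⟨S, Z, a, b, hab, hZ, hS, rfl, hJ, hFS⟩ := emb X hX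
    have := hFS.mono_f
    have e := t.naturality S.f
    have : Mono (F.map S.f ≫ t.app S.X₂) := mono_comp' hFS.mono_f inferInstance
    rw [e] at this
    exact mono_of_mono (t.app S.X₁) ((F.rightDerived 0).map S.f)
  have hmono' : ∀ (Q Z : A) (a : Q ⟶ Z) (b : Z ⟶ Q), a ≫ b = 𝟙 _ → I Z → Mono (t.app Q) := by
    intro Q Z a b hab hZ
    have := hmono Z hZ
    have : Mono (F.map a) := (SplitMono.mk (F.map b) (by rw [← F.map_comp, hab, F.map_id])).mono
    have : Mono (F.map a ≫ t.app Z) := mono_comp _ _
    rw [t.naturality a] at this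
    exact mono_of_mono (t.app Q) ((F.rightDerived 0).map a)
  have := preservesFiniteLimits_rightDerived_zero F
  have := additive_rightDerived F 0
  have hepi : ∀ X, I X → Epi (t.app X) := by
    intro X hX
    obtain ⟨S, Z, a, b, hab, hZ, hS, rfl, hJ, hFS⟩ := emb X hX
    have := hmono' _ _ a b hab hZ
    have hR := (hS.exact.map_of_mono_of_preservesKernel (F.rightDerived 0) hS.mono_f inferInstance)
    have hm : Mono ((S.map (F.rightDerived 0)).f) := have := hS.mono_f; (F.rightDerived 0).map_mono S.f
    refine (epi_iff_surjective_up_to_refinements _).2 fun T y => ?_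
    let x : T ⟶ F.obj S.X₂ := (y ≫ (F.rightDerived 0).map S.f) ≫ inv (t.app S.X₂)
    have hx : x ≫ F.map S.g = 0 := by
      rw [← cancel_mono (t.app S.X₃), Category.assoc, t.naturality S.g, zero_comp]
      simp only [x, Category.assoc, IsIso.inv_hom_id_assoc]
      rw [← Functor.map_comp, S.zero, Functor.map_zero, comp_zero]
    obtain ⟨T', π, hπ, z, hz⟩ := hFS.exact.exact_up_to_refinements x hx
    refine ⟨T', π, hπ, z, ?_⟩
    apply hm.right_cancellation
    change (π ≫ y) ≫ (F.rightDerived 0).map S.f = (z ≫ t.app S.X₁) ≫ (F.rightDerived 0).map S.f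
    have e₁ := congrArg (· ≫ t.app S.X₂) hz
    refine Eq.trans ?_ ((e₁.trans ((Category.assoc _ _ _).trans (congrArg (z ≫ ·) (t.naturality S.f)))).trans
      (Category.assoc _ _ _).symm)
    simp only [x, Category.assoc]
    erw [Category.assoc, Category.assoc, Category.assoc, IsIso.inv_hom_id, Category.comp_id]
  have hzero : ∀ (n : ℕ) (X : A), I X → IsZero ((F.rightDerived (n + 1)).obj X) := by
    intro n
    induction n with
    | zero =>
      intro X hX
      obtain ⟨S, Z, a, b, hab, hZ, hS, rfl, hJ, hFS⟩ := emb X hX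
      obtain ⟨δ, w₁, w₂, w₃, -, e₂, e₃⟩ := exists_les (F := F) hS 0
      have : Epi (t.app S.X₃) := by
        have := hepi Z hZ
        have : Epi ((F.rightDerived 0).map b) :=
          (SplitEpi.mk ((F.rightDerived 0).map a) (by rw [← Functor.map_comp, hab, CategoryTheory.Functor.map_id])).epi
        have : Epi (t.app Z ≫ (F.rightDerived 0).map b) := epi_comp _ _
        rw [← t.naturality b] at this
        exact epi_of_epi (F.map b) (t.app S.X₃)
      have : Epi (F.map S.g ≫ t.app S.X₃) := epi_comp' hFS.epi_g this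
      rw [t.naturality S.g] at this
      have : Epi ((F.rightDerived 0).map S.g) := epi_of_epi (t.app S.X₂) _
      have : Epi ((HRF F 0).map S.g) := ((MorphismProperty.epimorphisms B).arrow_mk_iso_iff
        (((Functor.mapArrowFunctor _ _).mapIso (ρ 0)).app (Arrow.mk S.g))).2 this
      have hδ : δ = 0 := (cancel_epi ((HRF F 0).map S.g)).1 (w₂.trans comp_zero.symm)
      exact (e₃.isZero_X₂ hδ ((((F.isZero_rightDerived_obj_injective_succ 0 S.X₂)).of_iso
        ((ρ 1).app S.X₂)).eq_of_tgt _ _)).of_iso ((ρ 1).app S.X₁).symm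
    | succ n ih =>
      intro X hX
      obtain ⟨S, Z, a, b, hab, hZ, hS, rfl, hJ, hFS⟩ := emb X hX
      obtain ⟨δ, w₁, w₂, w₃, -, -, e₃⟩ := exists_les (F := F) hS ((n + 1 : ℕ) : ℤ)
      have hQ : IsZero ((F.rightDerived (n + 1)).obj S.X₃) := by
        have := (SplitMono.mk ((F.rightDerived (n + 1)).map b)
          (by rw [← Functor.map_comp, hab, CategoryTheory.Functor.map_id]) :
          SplitMono ((F.rightDerived (n + 1)).map a)).mono
        exact IsZero.of_mono ((F.rightDerived (n + 1)).map a) (ih Z hZ)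
      exact (e₃.isZero_X₂ ((hQ.of_iso ((ρ (n + 1)).app S.X₃)).eq_of_src _ _)
        ((((F.isZero_rightDerived_obj_injective_succ (n + 1) S.X₂)).of_iso
          ((ρ (n + 2)).app S.X₂)).eq_of_tgt _ _)).of_iso ((ρ (n + 2)).app S.X₁).symm
  have := hmono X hX
  have := hepi X hX
  refine ⟨isIso_of_mono_of_epi _, fun i hi => ?_⟩
  obtain ⟨j, rfl⟩ : ∃ j, i = j + 1 := ⟨i - 1, by lia⟩
  exact hzero j X hX

/-- In the case where A has enough injectives: let F : A ⥤ B be an additive functor between abelian
categories, A with enough injectives, and I a class of objects of A such that (1) each object of A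
embeds by a monomorphism into some object of I, and (2) whenever 0 → P → Q → R → 0 is a short exact
sequence whose terms P and Q lie in I, the third term R also lies in I, and applying F to the
sequence yields a short exact sequence in B. Under these assumptions, each X belonging to I is right
acyclic for F, meaning the map F(X)[0] ⟶ RF(X[0]) is an isomorphism. -/
theorem result {A : Type u} [Category.{v} A] [Abelian A] [HasDerivedCategory.{w} A] [EnoughInjectives A]
    {B : Type u'} [Category.{v'} B] [Abelian B] [HasDerivedCategory.{w'} B]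
    (F : A ⥤ B) [F.Additive] (I : ObjectProperty A)
    (h1 : ∀ X : A, ∃ (Y : A) (ι : X ⟶ Y), I Y ∧ Mono ι)
    (h2 : ∀ S : ShortComplex A, S.ShortExact → I S.X₁ → I S.X₂ → I S.X₃ ∧ (S.map F).ShortExact)
    (X : A) (hX : I X) :
    IsIso (F.rightDerivedFunctorPlusUnit.app ((HomotopyCategory.Plus.singleFunctor A 0).obj X)) := by
  exact ((Lib.DerCat.RFObj.isIso_η_iff F (Lib.DerCat.RFObj.sg.obj X)).symm.trans
    (Lib.DerCat.RFObj.isIso_η_sg_iff F X)).2 (key F I h1 h2 X hX)

end Groth.Agent.S6625
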