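import Groth.Statements.S6626
import Groth.Agent.Lib.EtShriek50.ExtZero
-- import your own Groth.Agent.* helpers here

set_option autoImplicit false
open CategoryTheory CategoryTheory.Limits AlgebraicGeometry Opposite
universe u
open EtCore

namespace Groth.Agent.S6626

open Groth.Agent.Lib.EtSite.Basic in
theorem counit_epi {X Y : Scheme.{u}} (f : X ⟶ Y) (hA : BigSite.PropA f) (F : EtCoh.Ab X) :
    Epi ((EtCoh.pullPushAdj f).counit.app F) := by
  suffices Sheaf.IsLocallySurjective ((EtCoh.pullPushAdj f).counit.app F) from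
    Sheaf.epi_of_isLocallySurjective _
  refine ⟨fun {U} s => (mem_topology_iff _).2 fun u => ?_⟩
  have : Etale U.hom := U.prop
  obtain ⟨V, v, hv, W, hWc, h, hh, ⟨w, hw⟩⟩ := hA U.left U.hom u
  let V' : Y.Etale := MorphismProperty.Over.mk ⊤ v hv
  let P : X.Etale := (EtCoh.bc f).obj V'
  have : Etale P.hom := P.prop
  let e : P.left ≅ pullback f v := pullbackSymmetry v f
  let O : P.left.Opens := e.hom ⁻¹ᵁ W
  let D : X.Etale := MorphismProperty.Over.mk ⊤ (O.ι ≫ P.hom) (show Etale _ from inferInstance)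
  let o : D ⟶ P := MorphismProperty.Over.homMk O.ι rfl
  have : IsOpenImmersion o.left := (inferInstance : IsOpenImmersion O.ι)
  have hr' : Set.range (O.ι ≫ e.hom).base ⊆ Set.range W.ι.base := by
    rw [Scheme.Opens.range_ι]
    rintro _ ⟨x, rfl⟩
    exact x.2
  let r := IsOpenImmersion.lift W.ι (O.ι ≫ e.hom) hr'
  have hr : r ≫ W.ι = O.ι ≫ e.hom := IsOpenImmersion.lift_fac _ _ _
  let b : D ⟶ U := MorphismProperty.Over.homMk (r ≫ h) (by
    refine (Category.assoc _ _ _).trans ((r ≫= hh).trans ?_)
    refine ((Category.assoc _ _ _).symm.trans (congrArg (· ≫ pullback.fst f v) hr)).trans ?_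
    refine (Category.assoc _ _ _).trans (O.ι ≫= ?_)
    exact pullbackSymmetry_hom_comp_fst _ _)
  have hc : IsClosed (Set.range o.left.base) := by
    change IsClosed (Set.range O.ι.base)
    rw [Scheme.Opens.range_ι]
    exact hWc.preimage e.hom.continuous
  obtain ⟨t, ht, -⟩ := Groth.Agent.Lib.EtShriek50.ExtZero.exists_extend F o hc (F.obj.map b.op s)
  obtain ⟨x, hx⟩ := e.hom.surjective (W.ι.base w)
  have hxO : x ∈ O := show e.hom.base x ∈ W from hx ▸ w.2
  refine ⟨D, b, ?_, ⟨x, hxO⟩, ?_⟩
  · let y : EtCoh.sect ((EtCoh.pull f).obj ((EtCoh.push f).obj F)) P :=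
      ((EtCoh.pullPushAdj f).unit.app ((EtCoh.push f).obj F)).hom.app (op V') t
    have hy : ((EtCoh.pullPushAdj f).counit.app F).hom.app (op P) y = t :=
      congrArg (fun k => k.hom.app (op V') t) ((EtCoh.pullPushAdj f).right_triangle_components F)
    refine ⟨((EtCoh.pull f).obj ((EtCoh.push f).obj F)).obj.map o.op y, ?_⟩
    refine (NatTrans.naturality_apply (((EtCoh.pullPushAdj f).counit.app F).hom) o.op y).trans ?_
    exact (congrArg (F.obj.map o.op) hy).trans ht
  · have hrw : r.base ⟨x, hxO⟩ = w := W.ι.isOpenEmbedding.injective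
      ((congrArg (fun m => m.base ⟨x, hxO⟩) hr).trans hx)
    exact (congrArg h.base hrw).trans hw

/-- Let f : X ⟶ Y be a morphism of schemes satisfying condition (A) (for every etale U ⟶ X and every
point u of U there are an etale V ⟶ Y, an open and closed subscheme W of X ×_Y V and an X-morphism W
⟶ U whose image contains u). Then, on abelian sheaves on the small etale sites, f_* reflects
monomorphisms and epimorphisms, the counit f⁻¹ f_* F ⟶ F is an epimorphism for every F, and f_* is
faithful. -/
theorem result {X Y : Scheme.{u}} (f : X ⟶ Y) (hA : BigSite.PropA f) :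
    (EtCoh.push f).ReflectsMonomorphisms ∧ (EtCoh.push f).ReflectsEpimorphisms ∧
      (∀ F : EtCoh.Ab X, Epi ((EtCoh.pullPushAdj f).counit.app F)) ∧ (EtCoh.push f).Faithful := by
  have hε : ∀ F : EtCoh.Ab X, Epi ((EtCoh.pullPushAdj f).counit.app F) := counit_epi f hA
  have hf : (EtCoh.push f).Faithful := (EtCoh.pullPushAdj f).faithful_R_of_epi_counit_app
  exact ⟨(EtCoh.push f).reflectsMonomorphisms_of_faithful,
    (EtCoh.push f).reflectsEpimorphisms_of_faithful, hε, hf⟩

end Groth.Agent.S6626
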