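import Groth.Statements.S6627
import Groth.Agent.Lib.EtShriek50.Nhd
-- import your own Groth.Agent.* helpers here

set_option autoImplicit false
open CategoryTheory CategoryTheory.Limits AlgebraicGeometry Opposite
universe u
open EtCore

namespace Groth.Agent.S6627

/-- A separated morphism of schemes that is locally quasi-finite (locally of finite type with discrete
fibres) satisfies condition (A): for every etale U ⟶ X and every point u of U there are an etale V ⟶
Y, an open and closed subscheme W of X ×_Y V and an X-morphism W ⟶ U whose image contains u.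
(Locally of finite type is part of the meaning of locally quasi-finite here and is carried as a
separate hypothesis.) -/
theorem result {X Y : Scheme.{u}} (f : X ⟶ Y) [IsSeparated f]
    [LocallyQuasiFinite f] [LocallyOfFiniteType f] : BigSite.PropA f := by
  intro U g _ u
  let U' : X.Etale := MorphismProperty.Over.mk ⊤ g ‹Etale g›
  let ξ := Groth.Agent.Lib.EtSite.Push.algPoint X (g.base u)
  obtain ⟨q, hq⟩ := Groth.Agent.Lib.EtSite.Basic.exists_fiber ξ U' u
    (Groth.Agent.Lib.EtSite.Push.algPoint_apply _ _ _).symm
  obtain ⟨T, p, C, o, b, l, ho, hfin, -, hb, -⟩ :=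
    Groth.Agent.Lib.EtShriek50.Nhd.exists_piece f (η := ξ ≫ f) rfl U' q
  have : Etale T.hom := T.prop
  have : IsSeparated (pullback.fst T.hom f) :=
    MorphismProperty.pullback_fst (P := @IsSeparated) T.hom f ‹_›
  have : IsFinite o.left :=
    MorphismProperty.of_postcomp (W' := @IsSeparated) @IsFinite o.left (pullback.fst T.hom f) ‹_› hfin
  let e := pullbackSymmetry f T.hom
  let W : (pullback f T.hom).Opens := e.hom ⁻¹ᵁ o.left.opensRange
  have hW : Set.range (W.ι ≫ e.hom).base ⊆ Set.range o.left.base := by
    rintro _ ⟨x, rfl⟩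
    exact x.2
  let k := IsOpenImmersion.lift o.left (W.ι ≫ e.hom) hW
  have hk : k ≫ o.left = W.ι ≫ e.hom := IsOpenImmersion.lift_fac _ _ _
  refine ⟨T.left, T.hom, T.prop, W, ?_, k ≫ b.left, ?_, ?_⟩
  · exact (o.left.isClosedMap.isClosed_range).preimage e.hom.continuous
  · refine (Category.assoc _ _ _).trans ((k ≫= (Over.w b.hom :)).trans ?_)
    refine (k ≫= (Over.w o.hom :).symm).trans ((Category.assoc _ _ _).symm.trans ?_)
    refine (congrArg (· ≫ pullback.snd T.hom f) hk).trans ((Category.assoc _ _ _).trans (W.ι ≫= ?_))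
    exact pullbackSymmetry_hom_comp_snd _ _
  · let c : C.left := (Groth.Agent.Lib.EtSite.Basic.fiberHom l).base default
    obtain ⟨y, hy⟩ := e.hom.surjective (o.left.base c)
    have hyW : y ∈ W := ⟨c, hy.symm⟩
    refine ⟨⟨y, hyW⟩, ?_⟩
    have hc : k.base ⟨y, hyW⟩ = c := o.left.isOpenEmbedding.injective
      ((congrArg (fun m => m.base ⟨y, hyW⟩) hk).trans hy)
    refine (congrArg b.left.base hc).trans (Eq.trans ?_ hq)
    exact congrArg Groth.Agent.Lib.EtSite.Basic.fiberPt hb

end Groth.Agent.S6627
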