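import Groth.Statements.S6628
import Groth.Agent.Lib.EtPropABC.Basic
import Groth.Agent.Lib.EtPropABC.Glue
-- import your own Groth.Agent.* helpers here

set_option autoImplicit false
open CategoryTheory CategoryTheory.Limits AlgebraicGeometry Opposite
universe u
open EtCore

namespace Groth.Agent.S6628

/-- An integral morphism of schemes satisfies condition (A): for every etale U ⟶ X and every point u of
U there are an etale V ⟶ Y, an open and closed subscheme W of X ×_Y V and an X-morphism W ⟶ U whose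
image contains u. -/
theorem result {X Y : Scheme.{u}} (f : X ⟶ Y) [IsIntegralHom f] : BigSite.PropA f := by
  classical
  intro U₀ g₀ _ u
  obtain ⟨O, huO, huniq⟩ := Groth.Agent.Lib.EtPropABC.Basic.exists_nbhd_unique g₀ u
  let U : ULift.{u + 1} Bool → X.Etale := fun b =>
    match b.down with
    | true => Scheme.Etale.mk (O.ι ≫ g₀)
    | false => Scheme.Etale.mk (𝟙 X)
  let A : ULift.{u + 1} Bool → X.Opens := fun b =>
    match b.down with
    | true => ⊤
    | false => ⟨(closure {g₀.base u})ᶜ, isClosed_closure.isOpen_compl⟩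
  obtain ⟨V, v, hv, y₀, n, W, i, k, -, hd, hsup, hk, hA⟩ :=
    Groth.Agent.Lib.EtPropABC.Basic.exists_pieces f (f.base (g₀.base u)) U A (fun x hx => by
      by_cases hxu : x = g₀.base u
      · exact ⟨⟨true⟩, trivial, ⟨u, huO⟩, hxu.symm⟩
      · refine ⟨⟨false⟩, fun hx' => hxu ?_, x, rfl⟩
        exact (Groth.Agent.Lib.EtPropABC.Basic.eq_of_specializes f
          (specializes_iff_mem_closure.2 hx') hx.symm).symm)
  obtain ⟨j, d, hjA, hd0⟩ := hA _ rfl
  have hij : i j = ⟨true⟩ := by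
    rcases hb : i j with ⟨_ | _⟩
    · rw [hb] at hjA
      exact absurd (subset_closure (Set.mem_singleton (g₀.base u))) hjA
    · rfl
  have key : ∀ (b) (h : (W j : Scheme.{u}) ⟶ (U b).left), b = ⟨true⟩ →
      h ≫ (U b).hom = (W j).ι ≫ pullback.fst f v →
        ∃ h' : (W j : Scheme.{u}) ⟶ U₀,
          h' ≫ g₀ = (W j).ι ≫ pullback.fst f v ∧ u ∈ Set.range h'.base := by
    rintro _ h rfl hh
    let h₁ : (W j : Scheme.{u}) ⟶ O := h
    refine ⟨h₁ ≫ O.ι, (Category.assoc _ _ _).trans hh, d, huniq _ (h₁.base d).2 ?_⟩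
    exact (congrArg (fun q => q.base d) hh).trans hd0
  obtain ⟨h', hh', hu⟩ := key _ (k j) hij (hk j)
  refine ⟨V, v, hv, W j, ⟨?_⟩, h', hh', hu⟩
  have hc : ((W j : Set ↥(pullback f v)))ᶜ = ⋃ a : {a // a ≠ j}, (W a.1 : Set ↥(pullback f v)) := by
    ext w
    simp only [Set.mem_compl_iff, Set.mem_iUnion, SetLike.mem_coe]
    refine ⟨fun hw => ?_, ?_⟩
    · obtain ⟨a, ha⟩ := TopologicalSpace.Opens.mem_iSup.1 (hsup.symm ▸ trivial : w ∈ ⨆ a, W a)
      exact ⟨⟨a, fun e => hw (e ▸ ha)⟩, ha⟩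
    · rintro ⟨⟨a, ha⟩, hwa⟩ hw
      exact Set.disjoint_left.1 (TopologicalSpace.Opens.coe_disjoint.2 (hd ha)) hwa hw
  rw [hc]
  exact isOpen_iUnion fun a => (W a.1).2

end Groth.Agent.S6628
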