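import Groth.Statements.S6630
import Groth.Agent.Lib.EtPropABC.Basic
import Groth.Agent.Lib.EtPropABC.Glue
-- import your own Groth.Agent.* helpers here

set_option autoImplicit false
open CategoryTheory CategoryTheory.Limits AlgebraicGeometry Opposite
universe u
open EtCore

namespace Groth.Agent.S6630

/-- An integral morphism of schemes satisfies condition (B): for every etale V ⟶ Y and every etale
covering of X ×_Y V there is an etale covering of V by schemes V_j such that each X ×_Y V_j is a
disjoint union of open subschemes each mapping into X ×_Y V through a member of the given covering. -/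
theorem result {X Y : Scheme.{u}} (f : X ⟶ Y) [IsIntegralHom f] : BigSite.PropB f := by
  intro V v _ ι U g hg hcov
  have : IsIntegralHom (pullback.snd f v) :=
    MorphismProperty.pullback_snd (P := @IsIntegralHom) f v inferInstance
  have := fun i => hg i
  have key := fun y : V => Groth.Agent.Lib.EtPropABC.Basic.exists_pieces (pullback.snd f v) y
    (fun i : ULift.{u + 1} ι => Scheme.Etale.mk (g i.down)) (fun _ => ⊤)
    (fun x _ => by
      obtain ⟨i, t, ht⟩ := hcov x
      exact ⟨⟨i⟩, trivial, t, ht⟩)
  choose V' v' hv' y₀ n W i k hy hd hsup hk hA using key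
  refine ⟨V, V', v', hv', fun y => ⟨y, y₀ y, hy y⟩, fun y => ?_⟩
  let e : pullback f (v' y ≫ v) ⟶ pullback (pullback.snd f v) (v' y) :=
    pullback.lift (pullback.lift (pullback.fst f (v' y ≫ v)) (pullback.snd f (v' y ≫ v) ≫ v' y)
      (by rw [pullback.condition, Category.assoc])) (pullback.snd f (v' y ≫ v))
      (pullback.lift_snd _ _ _)
  refine ⟨ULift.{u} (Fin (n y)), fun a => e ⁻¹ᵁ W y a.down, fun a b hab => ?_, ?_, fun a => ?_⟩
  · refine TopologicalSpace.Opens.coe_disjoint.1 ((TopologicalSpace.Opens.coe_disjoint.2
      (hd y fun e => hab (ULift.ext a b e))).preimage e.base)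
  · refine top_unique fun w _ => TopologicalSpace.Opens.mem_iSup.2 ?_
    obtain ⟨a, ha⟩ := TopologicalSpace.Opens.mem_iSup.1
      ((hsup y).symm ▸ trivial : e.base w ∈ ⨆ a, W y a)
    exact ⟨⟨a⟩, ha⟩
  · let r : ((e ⁻¹ᵁ W y a.down : (pullback f (v' y ≫ v)).Opens) : Scheme.{u}) ⟶ W y a.down :=
      e ∣_ W y a.down
    refine ⟨(i y a.down).down, r ≫ k y a.down, ?_⟩
    refine (Category.assoc _ _ _).trans ?_
    refine (congrArg (r ≫ ·) (hk y a.down)).trans ?_
    rw [← Category.assoc, morphismRestrict_ι, Category.assoc]
    congr 1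
    rw [pullback.lift_fst]
    refine pullback.hom_ext ?_ ?_
    · exact (pullback.lift_fst _ _ _).trans
        (((pullback.lift_fst _ _ _).trans (Category.comp_id _)).symm)
    · exact (pullback.lift_snd _ _ _).trans (pullback.lift_snd _ _ _).symm

end Groth.Agent.S6630
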