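import Groth.Statements.S6632
import Groth.Agent.Lib.EtSite.Fiber
-- import your own Groth.Agent.* helpers here

set_option autoImplicit false
open CategoryTheory CategoryTheory.Limits AlgebraicGeometry Opposite
universe u
open EtCore

namespace Groth.Agent.S6632

/-- Let f : X ⟶ Y be a morphism of schemes such that, for every etale V ⟶ Y, the base change X ×_Y V ⟶ V
satisfies condition (C) (for every etale U ⟶ X ×_Y V there are an etale V' ⟶ V and a surjective
morphism from the base change of V' to U over X ×_Y V) and is closed as a map of topological spaces.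
Then the base change functor V ↦ X ×_Y V from the small etale site of Y to that of X is almost
cocontinuous: every covering sieve of X ×_Y V contains the images of the members of some covering
sieve of V, except for members V' for which X ×_Y V' is covered by the empty sieve. -/
theorem result {X Y : Scheme.{u}} (f : X ⟶ Y)
    (hC : ∀ (V : Scheme.{u}) (v : V ⟶ Y) [Etale v], BigSite.PropC (pullback.snd f v))
    (hcl : ∀ (V : Scheme.{u}) (v : V ⟶ Y) [Etale v], IsClosedMap (pullback.snd f v).base) :
    BigSite.IsAlmostCocontinuous (EtCoh.bc f) Y.smallEtaleTopology X.smallEtaleTopology := by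
  intro V R hR
  have hC' := fun (V : Scheme.{u}) (v : V ⟶ Y) [Etale v] => hC V v
  let w : V.left ⟶ Y := V.hom
  have : Etale w := V.prop
  let C : Set V.left := Set.range (pullback.snd f w).base
  have hCc : IsClosed C := by
    simpa [C, Set.image_univ] using hcl V.left w _ isClosed_univ
  let O : V.left.Opens := ⟨Cᶜ, hCc.isOpen_compl⟩
  let S : Sieve V :=
    { arrows := fun V' γ => (⊥ : Sieve ((EtCoh.bc f).obj V')) ∈ X.smallEtaleTopology _ ∨
        R ((EtCoh.bc f).map γ)
      downward_closed := by
        intro V' V'' γ hγ δ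
        rcases hγ with h | h
        · refine Or.inl ?_
          have h' := X.smallEtaleTopology.pullback_stable ((EtCoh.bc f).map δ) h
          exact X.smallEtaleTopology.superset_covering (fun Z z hz => hz) h'
        · refine Or.inr ?_
          rw [Functor.map_comp]
          exact R.downward_closed h _ }
  refine ⟨S, (Groth.Agent.Lib.EtSite.Basic.mem_topology_iff S).2 fun v => ?_, fun V' γ h => h⟩
  by_cases hv : v ∈ C
  · obtain ⟨z, rfl⟩ := hv
    let σ : ((EtCoh.bc f).obj V).left ⟶ pullback f w := (pullbackSymmetry w f).hom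
    obtain ⟨x, hx⟩ : ∃ x, σ.base x = z := by
      obtain ⟨x, hx⟩ := (pullbackSymmetry w f).hom.homeomorph.surjective z
      exact ⟨x, hx⟩
    obtain ⟨T, g, hg, t, ht⟩ := (Groth.Agent.Lib.EtSite.Basic.mem_topology_iff R).1 hR x
    have : Etale g.left := Groth.Agent.Lib.EtSite.Fiber.etale_left g
    have : Etale σ := inferInstanceAs (Etale (pullbackSymmetry w f).hom)
    let g' : T.left ⟶ pullback f w := g.left ≫ σ
    have : Etale g' := inferInstanceAs (Etale (_ ≫ _))
    obtain ⟨V', v', hv', h, hh, hs⟩ := hC' V.left w T.left g'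
    have : Etale (v' ≫ w) := inferInstance
    let V'' : Y.Etale := Scheme.Etale.mk (v' ≫ w)
    let γl : V''.left ⟶ V.left := v'
    let γ : V'' ⟶ V := MorphismProperty.Over.homMk γl rfl
    let fs : ((EtCoh.bc f).obj V'').left ⟶ V' := pullback.fst (v' ≫ w) f
    let sn : ((EtCoh.bc f).obj V'').left ⟶ X := pullback.snd (v' ≫ w) f
    have hc : sn ≫ f = (fs ≫ v') ≫ w := by
      rw [Category.assoc]
      exact pullback.condition.symm
    let m : ((EtCoh.bc f).obj V'').left ⟶ pullback f w := pullback.lift sn (fs ≫ v') hc
    let k : ((EtCoh.bc f).obj V'').left ⟶ pullback (pullback.snd f w) v' :=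
      pullback.lift m fs (pullback.lift_snd _ _ _)
    have hkm : (k ≫ h) ≫ g' = m := by
      rw [Category.assoc, hh]
      exact pullback.lift_fst _ _ _
    have hTh : g.left ≫ ((EtCoh.bc f).obj V).hom = T.hom := MorphismProperty.Over.w g
    have hσ : σ ≫ pullback.fst f w = ((EtCoh.bc f).obj V).hom := pullbackSymmetry_hom_comp_fst _ _
    let a : (EtCoh.bc f).obj V'' ⟶ T := MorphismProperty.Over.homMk (k ≫ h) (by
      change (k ≫ h) ≫ T.hom = sn
      rw [← hTh, ← hσ]
      have : (k ≫ h) ≫ g.left ≫ σ ≫ pullback.fst f w = m ≫ pullback.fst f w := by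
        rw [← hkm]
        simp only [g', Category.assoc]
      exact this.trans (pullback.lift_fst _ _ _))
    have hγ : (EtCoh.bc f).map γ = a ≫ g := by
      apply MorphismProperty.Over.Hom.ext
      have : IsIso σ := inferInstanceAs (IsIso (pullbackSymmetry w f).hom)
      refine (cancel_mono σ).1 ?_
      have h1 : (a ≫ g).left ≫ σ = m := (Category.assoc _ _ _).trans hkm
      rw [h1]
      apply pullback.hom_ext
      · refine (Category.assoc _ _ _).trans (Eq.trans (congrArg (_ ≫ ·) hσ) ?_)
        refine (MorphismProperty.Over.w ((EtCoh.bc f).map γ)).trans ?_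
        exact (pullback.lift_fst _ _ _).symm
      · refine (Category.assoc _ _ _).trans
          (Eq.trans (congrArg (_ ≫ ·) (pullbackSymmetry_hom_comp_snd w f)) ?_)
        exact (EtCoh.isPullback_bc_map f γ).w.trans (pullback.lift_snd _ _ _).symm
    obtain ⟨s, hs'⟩ := hs.surj t
    refine ⟨V'', γ, Or.inr (hγ ▸ R.downward_closed hg a), (pullback.snd (pullback.snd f w) v').base s, ?_⟩
    change v'.base ((pullback.snd (pullback.snd f w) v').base s) = (pullback.snd f w).base z
    have e1 := congrArg (fun q => q.base s) (pullback.condition (f := pullback.snd f w) (g := v'))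
    refine Eq.trans e1.symm ?_
    change (pullback.snd f w).base ((pullback.fst (pullback.snd f w) v').base s) = _
    rw [← hh]
    change (pullback.snd f w).base (σ.base (g.left.base (h.base s))) = _
    rw [hs', ht, hx]
  · let V'' : Y.Etale := Scheme.Etale.mk (O.ι ≫ w)
    let γ : V'' ⟶ V := MorphismProperty.Over.homMk O.ι rfl
    have hem : IsEmpty ↥((EtCoh.bc f).obj V'').left := ⟨fun y => by
      let y' : ↥(pullback (O.ι ≫ w) f) := y
      let o : (O : Scheme.{u}) := (pullback.fst (O.ι ≫ w) f).base y'
      refine o.2 ⟨(pullback.lift (pullback.snd (O.ι ≫ w) f) (pullback.fst (O.ι ≫ w) f ≫ O.ι) (by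
        rw [Category.assoc]; exact pullback.condition.symm)).base y', ?_⟩
      rw [← Scheme.Hom.comp_apply, pullback.lift_snd]
      rfl⟩
    exact ⟨V'', γ, Or.inl ((Groth.Agent.Lib.EtSite.Basic.mem_topology_iff _).2
      fun y => isEmptyElim y), ⟨v, hv⟩, rfl⟩

end Groth.Agent.S6632
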