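import Groth.Statements.S6633
import Groth.Agent.Lib.EtPropABC.Basic
import Groth.Agent.Lib.EtPropABC.Glue
-- import your own Groth.Agent.* helpers here

set_option autoImplicit false
open CategoryTheory CategoryTheory.Limits AlgebraicGeometry Opposite
universe u
open EtCore

namespace Groth.Agent.S6633

/-- An integral morphism of schemes whose underlying continuous map is a homeomorphism onto a closed
subset (a closed topological embedding) satisfies condition (C): for every etale U ⟶ X there are an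
etale V ⟶ Y and a surjective X-morphism X ×_Y V ⟶ U. -/
theorem result {X Y : Scheme.{u}} (f : X ⟶ Y) [IsIntegralHom f]
    (hf : Topology.IsClosedEmbedding f.base) : BigSite.PropC f := by
  classical
  intro U g _
  choose O huO huniq using Groth.Agent.Lib.EtPropABC.Basic.exists_nbhd_unique g
  have key : ∀ t : U, ∃ (V : Scheme.{u}) (v : V ⟶ Y) (_ : Etale v)
      (h : pullback f v ⟶ (O t : Scheme.{u})), (h ≫ (O t).ι) ≫ g = pullback.fst f v ∧
        ∃ w, (pullback.fst f v).base w = g.base t := by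
    intro t
    obtain ⟨V, v, hv, y₀, n, W, i, k, -, hd, hsup, hk, hA⟩ :=
      Groth.Agent.Lib.EtPropABC.Basic.exists_pieces f (f.base (g.base t))
        (fun _ : PUnit.{u + 2} => Scheme.Etale.mk ((O t).ι ≫ g)) (fun _ => ⊤) (fun x hx =>
          ⟨PUnit.unit, trivial, ⟨t, huO t⟩, (hf.injective hx).symm⟩)
    obtain ⟨j, d, -, hd0⟩ := hA _ rfl
    obtain ⟨h, hh⟩ := Groth.Agent.Lib.EtPropABC.Glue.exists_glue (σ := ULift.{u} (Fin n))
      (fun a => W a.down) (fun a b hab => hd fun e => hab (ULift.ext a b e))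
      (top_unique fun w _ => by
        obtain ⟨a, ha⟩ := TopologicalSpace.Opens.mem_iSup.1 (hsup.symm ▸ trivial : w ∈ ⨆ a, W a)
        exact TopologicalSpace.Opens.mem_iSup.2 ⟨⟨a⟩, ha⟩)
      (fun a => k a.down)
    refine ⟨V, v, hv, h, ?_, _, hd0⟩
    let 𝒰 : (pullback f v).OpenCover :=
      (pullback f v).openCoverOfIsOpenCover W (TopologicalSpace.IsOpenCover.mk hsup)
    refine 𝒰.hom_ext _ _ fun a => ?_
    change (W a).ι ≫ (h ≫ (O t).ι) ≫ g = (W a).ι ≫ pullback.fst f v
    rw [Category.assoc, ← Category.assoc (W a).ι h, hh ⟨a⟩]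
    exact hk a
  choose V v hv h hh w hw using key
  let Vt : Scheme.{u} := ∐ V
  let vt : Vt ⟶ Y := Sigma.desc v
  have hvt : Etale vt := by
    refine IsZariskiLocalAtSource.of_openCover (P := @Etale) (sigmaOpenCover V) fun t => ?_
    change Etale (Sigma.ι V t ≫ Sigma.desc v)
    rw [Sigma.ι_desc]
    exact hv t
  let W : ↥U → (pullback f vt).Opens := fun t =>
    pullback.snd f vt ⁻¹ᵁ (Sigma.ι V t).opensRange
  have hdisj : Pairwise fun a b => Disjoint (W a) (W b) := fun a b hab =>
    TopologicalSpace.Opens.coe_disjoint.1 ((TopologicalSpace.Opens.coe_disjoint.2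
      (disjoint_opensRange_sigmaι V a b hab)).preimage (pullback.snd f vt).base)
  have hsup : (⨆ t, W t) = ⊤ := by
    refine top_unique fun z _ => TopologicalSpace.Opens.mem_iSup.2 ?_
    obtain ⟨t, z', hz'⟩ := (sigmaOpenCover V).exists_eq ((pullback.snd f vt).base z)
    exact ⟨t, z', hz'⟩
  have hrange : ∀ t, Set.range ((W t).ι ≫ pullback.snd f vt).base ⊆ Set.range (Sigma.ι V t).base := by
    rintro t _ ⟨z, rfl⟩
    exact z.2
  let l : ∀ t, (W t : Scheme.{u}) ⟶ pullback f (v t) := fun t =>
    pullback.lift ((W t).ι ≫ pullback.fst f vt)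
      (IsOpenImmersion.lift (Sigma.ι V t) ((W t).ι ≫ pullback.snd f vt) (hrange t)) (by
      rw [Category.assoc, pullback.condition]
      have e : IsOpenImmersion.lift (Sigma.ι V t) ((W t).ι ≫ pullback.snd f vt) (hrange t) ≫ v t =
          ((W t).ι ≫ pullback.snd f vt) ≫ vt := by
        conv_lhs => rw [← Sigma.ι_desc v t]
        rw [← Category.assoc, IsOpenImmersion.lift_fac]
      exact (Category.assoc _ _ _).symm.trans e.symm)
  obtain ⟨H, hH⟩ := Groth.Agent.Lib.EtPropABC.Glue.exists_glue W hdisj hsup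
    (fun t => l t ≫ h t ≫ (O t).ι)
  have hHg : ∀ t, (W t).ι ≫ H ≫ g = (W t).ι ≫ pullback.fst f vt := by
    intro t
    rw [← Category.assoc, hH, Category.assoc, hh, pullback.lift_fst]
  refine ⟨Vt, vt, hvt, H, ?_, ⟨fun t => ?_⟩⟩
  · let 𝒰 : (pullback f vt).OpenCover :=
      (pullback f vt).openCoverOfIsOpenCover W (TopologicalSpace.IsOpenCover.mk hsup)
    exact 𝒰.hom_ext _ _ fun t => hHg t
  · let m : pullback f (v t) ⟶ pullback f vt :=
      pullback.lift (pullback.fst f (v t)) (pullback.snd f (v t) ≫ Sigma.ι V t)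
        (by rw [Category.assoc, Sigma.ι_desc, pullback.condition])
    have hz : m.base (w t) ∈ W t := by
      refine ⟨(pullback.snd f (v t)).base (w t), ?_⟩
      rw [← Scheme.Hom.comp_apply, ← Scheme.Hom.comp_apply, pullback.lift_snd]
    refine ⟨(W t).ι.base ⟨_, hz⟩, huniq t _ ?_ ?_⟩
    · have e := congrArg (fun q => q.base ⟨_, hz⟩) (hH t)
      refine e.symm ▸ ((h t).base ((l t).base ⟨_, hz⟩)).2
    · refine (congrArg (fun q => q.base ⟨_, hz⟩) (hHg t)).trans ?_
      change (m ≫ pullback.fst f vt).base (w t) = _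
      rw [pullback.lift_fst]
      exact hw t

end Groth.Agent.S6633
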