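import Groth.Statements.S6635
import Groth.Agent.Lib.EtRad.EtaleLift
import Groth.Agent.Lib.EtaleSection.Sections
-- import your own Groth.Agent.* helpers here

set_option autoImplicit false
open CategoryTheory CategoryTheory.Limits AlgebraicGeometry Opposite
universe u
open BigSite

namespace Groth.Agent.S6635

/-- Every point lies in the image of an etale member of a smooth covering sieve. -/
theorem exists_etale_member (P : MorphismProperty Scheme.{u}) [P.IsMultiplicative]
    [P.IsStableUnderBaseChange] [Scheme.IsJointlySurjectivePreserving P] [P.HasPullbacks]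
    (hP : P ≤ @Smooth.{u}) {X : Scheme.{u}} {B : Over X} {R : Sieve B}
    (hR : R ∈ QuotSh.J (Scheme.precoverage P) X B) (z : B.left) :
    ∃ (T : Scheme.{u}) (g : T ⟶ B.left) (t : T),
      Etale g ∧ g.base t = z ∧ R (Over.homMk g rfl : Over.mk (g ≫ B.hom) ⟶ B) := by
  rw [GrothendieckTopology.mem_over_iff,
    Precoverage.mem_toGrothendieck_iff_of_isStableUnderComposition] at hR
  obtain ⟨S, hS, hle⟩ := hR
  obtain ⟨_, _, ⟨hg⟩, y, hy⟩ := hS.1 z
  rename_i Y g₀
  have : Smooth g₀ := hP _ (hS.2 hg)
  obtain ⟨T, g, t, hge, ht, h, hh⟩ :=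
    Groth.Agent.Lib.EtaleSection.Sections.exists_etale_section g₀ y
  refine ⟨T, g, t, hge, ht.trans hy, ?_⟩
  have hmem : Sieve.overEquiv B R g := hh ▸ (Sieve.overEquiv B R).downward_closed (hle _ _ hg) h
  exact (Sieve.overEquiv_iff R g).1 hmem

theorem main {X Y : Scheme.{u}} (f : X ⟶ Y) [IsClosedImmersion f]
    (P : MorphismProperty Scheme.{u}) [P.IsMultiplicative]
    [P.IsStableUnderBaseChange] [Scheme.IsJointlySurjectivePreserving P] [P.HasPullbacks]
    (hP : P ≤ @Smooth.{u}) (hP' : @Etale.{u} ≤ P) :
    BigSite.IsAlmostCocontinuous (Over.pullback f) (QuotSh.J (Scheme.precoverage P) Y)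
      (QuotSh.J (Scheme.precoverage P) X) := by
  intro V R hR
  let p : pullback V.hom f ⟶ V.left := pullback.fst V.hom f
  have hp : IsClosedImmersion p := inferInstance
  have hbot : ∀ B : Over X, IsEmpty B.left →
      (⊥ : Sieve B) ∈ QuotSh.J (Scheme.precoverage P) X B := by
    intro B _
    rw [GrothendieckTopology.mem_over_iff,
      Precoverage.mem_toGrothendieck_iff_of_isStableUnderComposition]
    exact ⟨⊥, Scheme.bot_mem_precoverage P _, bot_le⟩
  let S : Sieve V :=
    { arrows := fun V' γ =>
        (⊥ : Sieve ((Over.pullback f).obj V')) ∈ QuotSh.J (Scheme.precoverage P) X _ ∨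
          R ((Over.pullback f).map γ)
      downward_closed := by
        intro V' V'' γ hγ δ
        rcases hγ with h | h
        · refine Or.inl ?_
          have h' := (QuotSh.J (Scheme.precoverage P) X).pullback_stable
            ((Over.pullback f).map δ) h
          exact (QuotSh.J (Scheme.precoverage P) X).superset_covering (fun Z z hz => hz) h'
        · refine Or.inr ?_
          rw [Functor.map_comp]
          exact R.downward_closed h _ }
  refine ⟨S, ?_, fun V' γ h => h⟩
  have key : ∀ v : V.left, ∃ (T : Scheme.{u}) (a : T ⟶ V.left) (t : T),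
      Etale a ∧ a.base t = v ∧ S (Over.homMk a rfl : Over.mk (a ≫ V.hom) ⟶ V) := by
    intro v
    by_cases hv : v ∈ Set.range p.base
    · obtain ⟨z, rfl⟩ := hv
      obtain ⟨T, g, t, hg, ht, hR'⟩ :=
        exists_etale_member P hP (B := (Over.pullback f).obj V) hR z
      let g' : T ⟶ pullback V.hom f := g
      have : Etale g' := hg
      obtain ⟨V', h, hh, -, s, hs⟩ :=
        Groth.Agent.Lib.EtRad.EtaleLift.exists_chart p (Scheme.Etale.mk g') t
      let v' : V'.left ⟶ V.left := V'.hom
      let h' : pullback v' p ⟶ T := h
      have hh' : h' ≫ g' = pullback.snd v' p := hh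
      let γ : Over.mk (v' ≫ V.hom) ⟶ V := Over.homMk v' rfl
      let M : pullback (v' ≫ V.hom) f ⟶ pullback V.hom f := ((Over.pullback f).map γ).left
      have hM₁ : M ≫ p = pullback.fst (v' ≫ V.hom) f ≫ v' := pullback.lift_fst _ _ _
      have hM₂ : M ≫ pullback.snd V.hom f = pullback.snd (v' ≫ V.hom) f := pullback.lift_snd _ _ _
      let k : pullback (v' ≫ V.hom) f ⟶ pullback v' p :=
        pullback.lift (pullback.fst (v' ≫ V.hom) f) M hM₁.symm
      have hkM : (k ≫ h') ≫ g' = M := by
        rw [Category.assoc, hh']
        exact pullback.lift_snd _ _ _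
      refine ⟨V'.left, v', (pullback.fst v' p).base s, V'.prop, ?_, Or.inr ?_⟩
      · have e := congrArg (fun q => q.base s) (pullback.condition (f := v') (g := p))
        refine Eq.trans e ?_
        change p.base ((pullback.snd v' p).base s) = p.base z
        rw [← hh']
        change p.base (g'.base (h'.base s)) = p.base z
        have hs' : h'.base s = t := hs
        rw [hs']
        exact congrArg p.base ht
      · let e : (Over.pullback f).obj (Over.mk (v' ≫ V.hom)) ⟶
            Over.mk (g ≫ ((Over.pullback f).obj V).hom) :=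
          Over.homMk (k ≫ h') (by
            change (k ≫ h') ≫ g' ≫ pullback.snd V.hom f = pullback.snd (v' ≫ V.hom) f
            rw [← Category.assoc, hkM, hM₂])
        have : (Over.pullback f).map γ = e ≫ Over.homMk g rfl :=
          Over.OverMorphism.ext hkM.symm
        change R ((Over.pullback f).map γ)
        rw [this]
        exact R.downward_closed hR' e
    · let O : V.left.Opens := ⟨(Set.range p.base)ᶜ, p.isClosedEmbedding.isClosed_range.isOpen_compl⟩
      refine ⟨O, O.ι, ⟨v, hv⟩, inferInstance, rfl, Or.inl (hbot _ ⟨fun y => ?_⟩)⟩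
      let y' : ↥(pullback (O.ι ≫ V.hom) f) := y
      let m : pullback (O.ι ≫ V.hom) f ⟶ pullback V.hom f :=
        pullback.lift (pullback.fst (O.ι ≫ V.hom) f ≫ O.ι) (pullback.snd (O.ι ≫ V.hom) f)
          (by rw [Category.assoc]; exact pullback.condition)
      let o : (O : Scheme.{u}) := (pullback.fst (O.ι ≫ V.hom) f).base y'
      refine o.2 ⟨m.base y', ?_⟩
      rw [← Scheme.Hom.comp_apply, pullback.lift_fst]
      rfl
  rw [GrothendieckTopology.mem_over_iff,
    Precoverage.mem_toGrothendieck_iff_of_isStableUnderComposition]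
  choose T a t ha hat hS using key
  refine ⟨Presieve.ofArrows T a, ?_, ?_⟩
  · rw [Scheme.ofArrows_mem_precoverage_iff]
    exact ⟨fun x => ⟨x, t x, hat x⟩, fun i => hP' _ _ _ (ha i)⟩
  · rintro _ _ ⟨i⟩
    exact (Sieve.overEquiv_iff S (a i)).2 (hS i)

/-- For the etale and the smooth topologies: for a closed immersion of schemes f : X ⟶ Y the base change
functor V ↦ X ×_Y V from schemes over Y to schemes over X is almost cocontinuous between the big
sites: every covering sieve of X ×_Y V is answered by a covering sieve of V each of whose members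
V_j either has X ×_Y V_j covered by the empty sieve or has X ×_Y V_j ⟶ X ×_Y V in the given sieve.
(The published statement also covers the syntomic topology; this row treats the etale and smooth
topologies only.) -/
theorem result {X Y : Scheme.{u}} (f : X ⟶ Y) [IsClosedImmersion f]
    (K : Precoverage Scheme.{u}) (hK : K = Scheme.etalePrecoverage ∨ K = Scheme.precoverage @Smooth) :
    BigSite.IsAlmostCocontinuous (Over.pullback f) (QuotSh.J K Y) (QuotSh.J K X) := by
  haveI : Scheme.IsJointlySurjectivePreserving @Etale.{u} := Scheme.isJointlySurjectivePreserving _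
  haveI : Scheme.IsJointlySurjectivePreserving @Smooth.{u} := Scheme.isJointlySurjectivePreserving _
  haveI : MorphismProperty.IsMultiplicative @Smooth.{u} :=
    { id_mem := fun Z => (inferInstance : Smooth (𝟙 Z))
      comp_mem := fun g h hg hh => by
        have : Smooth g := hg
        have : Smooth h := hh
        exact (inferInstance : Smooth (g ≫ h)) }
  haveI : MorphismProperty.HasPullbacks @Etale.{u} := ⟨fun _ _ => inferInstance⟩
  haveI : MorphismProperty.HasPullbacks @Smooth.{u} := ⟨fun _ _ => inferInstance⟩
  rcases hK with rfl | rfl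
  · exact main f @Etale.{u} (fun _ _ g hg => by
      have : Etale g := hg
      exact (inferInstance : Smooth g)) le_rfl
  · exact main f @Smooth.{u} le_rfl (fun _ _ g hg => by
      have : Etale g := hg
      exact (inferInstance : Smooth g))

end Groth.Agent.S6635
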