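import Groth.Statements.S6637
import Mathlib.CategoryTheory.Adjunction.FullyFaithful
-- import your own Groth.Agent.* helpers here

set_option autoImplicit false
open CategoryTheory CategoryTheory.Limits AlgebraicGeometry Opposite
universe u
open BigSite

namespace Groth.Agent.S6637

theorem isIso_counit {X Y : Scheme.{u}} (f : X ⟶ Y) [Mono f] (K : Precoverage Scheme.{u})
    {A : Type*} [Category A] (F : Sheaf (QuotSh.J K X) A) :
    IsIso ((BigSite.bigAdj K f A).counit.app F) := by
  have : (Over.map f).Faithful := ⟨fun h => Over.OverMorphism.ext (congrArg (fun m => m.left) h)⟩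
  have : (Over.map f).Full := ⟨fun {U V} h => ⟨Over.homMk h.left (by
    rw [← cancel_mono f, Category.assoc]; exact Over.w h), by ext; rfl⟩⟩
  have hpsh : IsIso ((sheafToPresheaf (QuotSh.J K X) A).map ((BigSite.bigAdj K f A).counit.app F)) := by
    refine @NatIso.isIso_of_isIso_app _ _ _ _ _ _ _ ?_
    rintro ⟨U⟩
    have h0 : IsIso (F.obj.map ((Over.mapPullbackAdj f).unit.app U).op) := inferInstance
    simp [BigSite.bigAdj] at h0 ⊢
    exact h0
  exact isIso_of_reflects_iso _ (sheafToPresheaf (QuotSh.J K X) A)

/-- For the Zariski, etale, smooth and fppf topologies: for a monomorphism of schemes f : X ⟶ Y the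
counit f_big⁻¹ f_big,* F ⟶ F is an isomorphism for every sheaf of sets F on the big site of X, and
for every abelian sheaf. (The published statement also covers the syntomic topology; this row treats
the Zariski, etale, smooth and fppf topologies only.) -/
theorem result {X Y : Scheme.{u}} (f : X ⟶ Y) [Mono f]
    (K : Precoverage Scheme.{u}) (hK : K = Scheme.zariskiPrecoverage ∨ K = Scheme.etalePrecoverage ∨
      K = Scheme.precoverage @Smooth ∨ K = Scheme.fppfPrecoverage) :
    (∀ F : QuotSh.Sh K X, IsIso ((BigSite.bigAdj K f (Type (u + 1))).counit.app F)) ∧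
      (∀ F : BigSite.Ab K X, IsIso ((BigSite.bigAdj K f AddCommGrpCat.{u + 1}).counit.app F)) := by
  exact ⟨fun F => isIso_counit f K F, fun F => isIso_counit f K F⟩

end Groth.Agent.S6637
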