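import Groth.Statements.S6638
import Groth.Agent.Lib.BigEt.Basic

set_option autoImplicit false
open CategoryTheory CategoryTheory.Limits AlgebraicGeometry Opposite
universe u
open BigSite

namespace Groth.Agent.S6638

/-- Part (1): for the Zariski, etale, smooth and fppf topologies: for a morphism of schemes f : X ⟶ Y
the left adjoint f_big! of f_big⁻¹ on abelian sheaves of the big sites preserves finite limits,
hence is exact. (The left adjoint is the library's chosen one. The published statement also treats
sheaves of modules and the syntomic topology; this row treats abelian sheaves for the Zariski,
etale, smooth and fppf topologies.) -/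
theorem result {X Y : Scheme.{u}} (f : X ⟶ Y)
    (K : Precoverage Scheme.{u}) (hK : K = Scheme.zariskiPrecoverage ∨ K = Scheme.etalePrecoverage ∨
      K = Scheme.precoverage @Smooth ∨ K = Scheme.fppfPrecoverage) :
    PreservesFiniteLimits (BigSite.shriekAb K f) := by
  exact Groth.Agent.Lib.BigEt.Basic.shriekAb_preservesFiniteLimits f K

end Groth.Agent.S6638
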