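import Groth.Statements.S6639
import Groth.Agent.Lib.EtSite.LangSemilinear

set_option autoImplicit false
universe u
open scoped TensorProduct
open EtBase

namespace Groth.Agent.S6639

/-- Let k ⟶ k' be a homomorphism of algebraically closed fields of characteristic p > 0 (an extension of
algebraically closed fields), V a finite-dimensional k-vector space, F : V ⟶ V additive with F(c •
v) = c^p • F(v), and F' the additive endomorphism of V' = k' ⊗_k V satisfying F'(c ⊗ v) = c^p ⊗
F(v). Then v ↦ 1 ⊗ v maps the fixed vectors of F bijectively onto the fixed vectors of F'. -/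
theorem result {k k' V : Type u} [Field k] [IsAlgClosed k] [Field k']
    [IsAlgClosed k'] [Algebra k k'] (p : ℕ) [Fact p.Prime] [CharP k p]
    [AddCommGroup V] [Module k V] [FiniteDimensional k V] (F : V →+ V)
    (hF : ∀ (c : k) (v : V), F (c • v) = c ^ p • F v)
    (F' : k' ⊗[k] V →+ k' ⊗[k] V) (hF' : ∀ (c : k') (v : V), F' (c ⊗ₜ[k] v) = (c ^ p) ⊗ₜ[k] F v) :
    Set.BijOn (fun v : V => (1 : k') ⊗ₜ[k] v) {v : V | F v = v} {w : k' ⊗[k] V | F' w = w} := by
  classical
  haveI : CharP k' p := charP_of_injective_algebraMap (algebraMap k k').injective p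
  obtain ⟨N, hN⟩ := Groth.Agent.Lib.EtSite.LangSemilinear.exists_iterate_mem_span p F hF
  obtain ⟨ι, _, b, hli, hb, hspan⟩ :=
    Groth.Agent.Lib.EtSite.LangSemilinear.exists_fixed_basis (k := k) F
  have hone : ∀ v : V, F' ((1 : k') ⊗ₜ[k] v) = (1 : k') ⊗ₜ[k] F v := fun v => by rw [hF', one_pow]
  have hinj : Function.Injective (fun v : V => (1 : k') ⊗ₜ[k] v) := by
    have h := Module.Flat.rTensor_preserves_injective_linearMap (M := V)
      (Algebra.linearMap k k') (algebraMap k k').injective
    intro x y hxy
    have h' := @h ((1 : k) ⊗ₜ[k] x) ((1 : k) ⊗ₜ[k] y) (by simpa using hxy)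
    simpa using congrArg (TensorProduct.lid k V) h'
  refine ⟨fun v hv => ?_, hinj.injOn, fun w hw => ?_⟩
  · show F' _ = _
    rw [hone, show F v = v from hv]
  · have hit : ∀ (m : ℕ) (c : k') (v : V),
        F'^[m] (c ⊗ₜ[k] v) = (c ^ p ^ m) ⊗ₜ[k] F^[m] v := by
      intro m
      induction m with
      | zero => simp
      | succ m ih =>
        intro c v
        rw [Function.iterate_succ_apply', ih, hF', ← pow_mul, ← pow_succ,
          ← Function.iterate_succ_apply' (⇑F)]
    let T : Submodule k' (k' ⊗[k] V) := Submodule.span k' (Set.range fun i => (1 : k') ⊗ₜ[k] b i)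
    have hT : ∀ z, F'^[N] z ∈ T := by
      intro z
      induction z using TensorProduct.induction_on with
      | zero => rw [Function.iterate_fixed (map_zero F')]; exact T.zero_mem
      | tmul c v =>
        rw [hit]
        have hv : F^[N] v ∈ Submodule.span k (Set.range b) := hspan ▸ hN v
        obtain ⟨d, hd⟩ := (Submodule.mem_span_range_iff_exists_fun k).1 hv
        rw [← hd, TensorProduct.tmul_sum]
        refine Submodule.sum_mem _ fun i _ => ?_
        have : (c ^ p ^ N) ⊗ₜ[k] (d i • b i) = (d i • c ^ p ^ N) • ((1 : k') ⊗ₜ[k] b i) := by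
          rw [TensorProduct.smul_tmul', smul_eq_mul, mul_one, TensorProduct.smul_tmul]
        rw [this]
        exact T.smul_mem _ (Submodule.subset_span ⟨i, rfl⟩)
      | add x y hx hy => rw [iterate_map_add]; exact T.add_mem hx hy
    have hwT : w ∈ T := by
      have := hT w
      rwa [Function.iterate_fixed (show F' w = w from hw)] at this
    obtain ⟨e, he⟩ := (Submodule.mem_span_range_iff_exists_fun k').1 hwT
    have hF'b : ∀ (c : k') i, F' (c • ((1 : k') ⊗ₜ[k] b i)) = c ^ p • ((1 : k') ⊗ₜ[k] b i) := by
      intro c i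
      simp [TensorProduct.smul_tmul', hF', hb]
    have hli' : LinearIndependent k' (fun i => (1 : k') ⊗ₜ[k] b i) := by
      obtain ⟨g, hg⟩ := (Fintype.linearCombination k b).exists_leftInverse_of_injective
        (LinearMap.ker_eq_bot.2 (linearIndependent_iff_injective_fintypeLinearCombination.1 hli))
      rw [Fintype.linearIndependent_iff]
      intro c hc i
      let gi : V →ₗ[k] k := (LinearMap.proj i).comp g
      have hgb : ∀ j, gi (b j) = if i = j then 1 else 0 := by
        intro j
        have := congrFun (LinearMap.congr_fun hg (Pi.single j 1)) i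
        simp [Pi.single_apply] at this ⊢
        simpa [gi] using this
      have h := congrArg (TensorProduct.AlgebraTensorModule.rid k k' k'
        ∘ LinearMap.baseChange k' gi) hc
      simp [map_sum, hgb] at h
      exact h
    have h : ∑ i, (e i ^ p - e i) • ((1 : k') ⊗ₜ[k] b i) = 0 := by
      have h1 : F' w - w = 0 := sub_eq_zero.2 hw
      rw [← he, map_sum] at h1
      simp only [hF'b] at h1
      rw [← h1, ← Finset.sum_sub_distrib]
      exact Finset.sum_congr rfl fun i _ => sub_smul (R := k') (M := k' ⊗[k] V) _ _ _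
    choose z hz using fun i => Groth.Agent.Lib.EtSite.LangSemilinear.exists_zmod_of_pow_eq p
      (sub_eq_zero.1 (Fintype.linearIndependent_iff.1 hli' _ h i))
    let q : ι → k := fun i => ZMod.castHom (dvd_refl p) k (z i)
    have hq : ∀ i, algebraMap k k' (q i) = e i := by
      intro i
      rw [← hz i]
      exact RingHom.congr_fun (RingHom.ext_zmod ((algebraMap k k').comp
        (ZMod.castHom (dvd_refl p) k)) (ZMod.castHom (dvd_refl p) k')) (z i)
    refine ⟨∑ i, q i • b i, ?_, ?_⟩
    · show F _ = _
      rw [map_sum]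
      refine Finset.sum_congr rfl fun i _ => ?_
      rw [hF, hb]
      congr 1
      exact (Subfield.mem_bot_iff_pow_eq_self k p).1
        (ZMod.fieldRange_castHom_eq_bot (K := k) p ▸ ⟨z i, rfl⟩)
    · show (1 : k') ⊗ₜ[k] _ = w
      rw [← he, TensorProduct.tmul_sum]
      refine Finset.sum_congr rfl fun i _ => ?_
      rw [← hq i, TensorProduct.tmul_smul]
      simp [TensorProduct.smul_tmul', Algebra.smul_def]

end Groth.Agent.S6639
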