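import Groth.Statements.S6640
import Groth.Statements.S6640
import Groth.Agent.H88.EtMod.Specialize
import Groth.Agent.Lib.EtSite.Stalk

set_option autoImplicit false
open CategoryTheory CategoryTheory.Limits AlgebraicGeometry Opposite
universe u
open EtCore

set_option linter.style.haveILetI false

noncomputable section

namespace Groth.Agent.S6640

open Groth.Agent.Lib.EtSite Groth.Agent.Lib.EtSite.Basic Groth.Agent.H88.EtMod

instance : HasColimitsOfSize.{u, u} AddCommGrpCat.{u + 1} :=
  hasColimitsOfSizeShrink.{u, u, u + 1, u + 1} _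
instance : HasLimitsOfSize.{u, u} AddCommGrpCat.{u + 1} :=
  hasLimitsOfSizeShrink.{u, u, u + 1, u + 1} _
instance : AB5OfSize.{u, u} AddCommGrpCat.{u + 1} := AB5OfSize_shrink.{u, u, u + 1, u + 1} _

variable {X : Scheme.{u}} {Ω : Type u} [Field Ω] [IsSepClosed Ω] (ξ : Spec (CommRingCat.of Ω) ⟶ X)

abbrev pre (X : Scheme.{u}) (M : AddCommGrpCat.{u + 1}) : X.Etaleᵒᵖ ⥤ AddCommGrpCat.{u + 1} :=
  (Functor.const X.Etaleᵒᵖ).obj M

abbrev cst (X : Scheme.{u}) : AddCommGrpCat.{u + 1} ⥤ EtCoh.Ab X :=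
  constantSheaf X.smallEtaleTopology AddCommGrpCat.{u + 1}

abbrev sec (M : AddCommGrpCat.{u + 1}) (U : X.Etale) : M ⟶ ((cst X).obj M).obj.obj (op U) :=
  (toSheafify X.smallEtaleTopology (pre X M)).app (op U)

abbrev germ (F : EtCoh.Ab X) (U : X.Etale) (p : (Scheme.pointSmallEtale ξ).fiber.obj U) :
    F.obj.obj (op U) ⟶ (Scheme.pointSmallEtale ξ).sheafFiber.obj F :=
  (Scheme.pointSmallEtale ξ).toPresheafFiber U p F.obj

theorem germ_naturality {F G : EtCoh.Ab X} (α : F ⟶ G) (U : X.Etale)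
    (p : (Scheme.pointSmallEtale ξ).fiber.obj U) (s : F.obj.obj (op U)) :
    (Scheme.pointSmallEtale ξ).sheafFiber.map α (germ ξ F U p s) = germ ξ G U p (α.hom.app (op U) s) :=
  (Scheme.pointSmallEtale ξ).toPresheafFiber_naturality_apply α.hom U p s

theorem germ_sec (M : AddCommGrpCat.{u + 1}) {U : X.Etale}
    (p : (Scheme.pointSmallEtale ξ).fiber.obj U) (m : M) :
    germ ξ ((cst X).obj M) U p (sec M U m) =
      (Scheme.pointSmallEtale ξ).presheafFiber.map (toSheafify X.smallEtaleTopology (pre X M))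
        ((Scheme.pointSmallEtale ξ).toPresheafFiber U p (pre X M) m) :=
  ((Scheme.pointSmallEtale ξ).toPresheafFiber_naturality_apply
    (toSheafify X.smallEtaleTopology (pre X M)) U p m).symm

theorem bijective_fiber_toSheafify (M : AddCommGrpCat.{u + 1}) :
    Function.Bijective ((Scheme.pointSmallEtale ξ).presheafFiber.map
      (toSheafify X.smallEtaleTopology (pre X M))) :=
  (Scheme.pointSmallEtale ξ).toPresheafFiber_map_bijective _

theorem injective_germ_sec (M : AddCommGrpCat.{u + 1}) {U : X.Etale}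
    (p : (Scheme.pointSmallEtale ξ).fiber.obj U) :
    Function.Injective fun m : M => germ ξ ((cst X).obj M) U p (sec M U m) := by
  intro m m' h
  simp only [germ_sec] at h
  obtain ⟨W, g, q, -, he⟩ := ((Scheme.pointSmallEtale ξ).toPresheafFiber_eq_iff' (P := pre X M) U p m m').1
    ((bijective_fiber_toSheafify ξ M).1 h)
  exact he

theorem surjective_germ_sec (M : AddCommGrpCat.{u + 1})
    (p : (Scheme.pointSmallEtale ξ).fiber.obj (EtCoh.top X)) :
    Function.Surjective fun m : M => germ ξ ((cst X).obj M) (EtCoh.top X) p (sec M (EtCoh.top X) m) := by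
  intro z
  obtain ⟨y, rfl⟩ := (bijective_fiber_toSheafify ξ M).2 z
  obtain ⟨W, q, m, rfl⟩ := (Scheme.pointSmallEtale ξ).toPresheafFiber_jointly_surjective (P := pre X M) y
  refine ⟨m, ?_⟩
  simp only [germ_sec]
  congr 1
  let g : W ⟶ EtCoh.top X := MorphismProperty.Over.homMk W.hom (Category.comp_id _)
  haveI : Subsingleton ((Scheme.pointSmallEtale ξ).fiber.obj (EtCoh.top X)) :=
    ⟨fun a b => Over.OverMorphism.ext (((Category.comp_id _).symm.trans (fiberHom_comp a)).trans
      ((Category.comp_id _).symm.trans (fiberHom_comp b)).symm)⟩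
  rw [← Subsingleton.elim ((Scheme.pointSmallEtale ξ).fiber.map g q) p]
  exact (GrothendieckTopology.Point.toPresheafFiber_w_apply _ g q (pre X M) m).symm

theorem sec_naturality {M N : AddCommGrpCat.{u + 1}} (f : M ⟶ N) (U : X.Etale) (m : M) :
    ((cst X).map f).hom.app (op U) (sec M U m) = sec N U (f m) :=
  (ConcreteCategory.congr_hom (NatTrans.congr_app
    (toSheafify_naturality X.smallEtaleTopology ((Functor.const X.Etaleᵒᵖ).map f)) (op U)) m).symm

theorem germ_sheafFiber {Ω' : Type u} [Field Ω'] [IsSepClosed Ω']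
    {ξ' : Spec (CommRingCat.of Ω') ⟶ X} (F : EtCoh.Ab X) {U : X.Etale}
    (p : (Scheme.pointSmallEtale ξ).fiber.obj U)
    (φ : Scheme.pointSmallEtale ξ' ⟶ Scheme.pointSmallEtale ξ) (s : F.obj.obj (op U)) :
    (GrothendieckTopology.Point.Hom.sheafFiber (A := AddCommGrpCat.{u + 1}) φ).app F (germ ξ F U p s) =
      germ ξ' F U (φ.hom.app U p) s :=
  ConcreteCategory.congr_hom ((Scheme.pointSmallEtale ξ).toPresheafFiber_presheafFiberDesc _ _ U p) s

/-- Let X be an irreducible scheme, ξ a geometric point over its generic point, A' an additive subgroup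
of an abelian group A, and G an abelian sheaf on the small etale site of X with monomorphisms a :
const A' ⟶ G and b : G ⟶ const A whose composite is the map of constant sheaves induced by the
inclusion. If the stalk of a at ξ is an isomorphism, then a is an isomorphism. -/
theorem result {X : Scheme.{u}} [IrreducibleSpace ↥X]
    {Ω : Type u} [Field Ω] [IsSepClosed Ω] (ξ : Spec (CommRingCat.of Ω) ⟶ X)
    (hξ : ξ.base default = genericPoint ↥X)
    (A : Type) [AddCommGroup A] (A' : AddSubgroup A) (G : EtCoh.Ab X)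
    (a : EtCoh.const X ↥A' ⟶ G) (b : G ⟶ EtCoh.const X A) [Mono a] [Mono b]
    (hab : a ≫ b = (constantSheaf X.smallEtaleTopology AddCommGrpCat.{u + 1}).map
      (AddCommGrpCat.ofHom (AddEquiv.ulift.symm.toAddMonoidHom.comp (A'.subtype.comp AddEquiv.ulift.toAddMonoidHom))))
    (hst : IsIso ((EtCoh.stalk ξ).map a)) : IsIso a := by
  let ι : AddCommGrpCat.of (ULift.{u + 1} ↥A') ⟶ AddCommGrpCat.of (ULift.{u + 1} A) :=
    AddCommGrpCat.ofHom
      (AddEquiv.ulift.symm.toAddMonoidHom.comp (A'.subtype.comp AddEquiv.ulift.toAddMonoidHom))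
  have key : ∀ {Ω : Type u} [Field Ω] [IsSepClosed Ω] (ζ : Spec (CommRingCat.of Ω) ⟶ X)
      (p : (Scheme.pointSmallEtale ζ).fiber.obj (EtCoh.top X)) (m : ULift.{u + 1} ↥A'),
      (Scheme.pointSmallEtale ζ).sheafFiber.map b ((Scheme.pointSmallEtale ζ).sheafFiber.map a
        (germ ζ _ _ p (sec (AddCommGrpCat.of (ULift.{u + 1} ↥A')) (EtCoh.top X) m))) =
      germ ζ (EtCoh.const X A) _ p (sec (AddCommGrpCat.of (ULift.{u + 1} A)) (EtCoh.top X) (ι m)) := by
    intro Ω _ _ ζ p m
    rw [← ConcreteCategory.comp_apply, ← Functor.map_comp, hab, germ_naturality]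
    exact congrArg _ (sec_naturality ι (EtCoh.top X) m)
  haveI : Epi a := Stalk.epi_of_stalks a (Stalk.enoughPts_pt fun x => by
    intro z
    obtain ⟨p, -⟩ := exists_fiber (geomPoint X x) (EtCoh.top X) _ rfl
    obtain ⟨p', -⟩ := exists_fiber ξ (EtCoh.top X) _ rfl
    obtain ⟨m, hm⟩ := surjective_germ_sec (geomPoint X x) (AddCommGrpCat.of (ULift.{u + 1} A)) p
      ((Scheme.pointSmallEtale (geomPoint X x)).sheafFiber.map b z)
    obtain ⟨φ, hφ⟩ := Specialize.exists_hom (ξ' := ξ) p p' (by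
      rw [show fiberPt p' = ξ.base default from (hom_fiberPt p').trans (congrArg _ (Subsingleton.elim _ _)),
        hξ]
      exact @genericPoint_specializes ↥X _ _ _ _)
    let Ψ := GrothendieckTopology.Point.Hom.sheafFiber (A := AddCommGrpCat.{u + 1}) φ
    obtain ⟨w, hw⟩ := ((ConcreteCategory.isIso_iff_bijective _).1 hst).2 (Ψ.app G z)
    obtain ⟨m', rfl⟩ := surjective_germ_sec ξ (AddCommGrpCat.of (ULift.{u + 1} ↥A')) p' w
    have h₁ : germ ξ (EtCoh.const X A) _ p' (sec (AddCommGrpCat.of (ULift.{u + 1} A)) (EtCoh.top X) (ι m')) =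
        germ ξ (EtCoh.const X A) _ p' (sec (AddCommGrpCat.of (ULift.{u + 1} A)) (EtCoh.top X) m) := by
      rw [← key, ← hφ]
      refine Eq.trans ?_ ((congrArg _ hm.symm).trans (germ_sheafFiber (geomPoint X x) (EtCoh.const X A) p φ _))
      rw [hφ]
      exact (congrArg _ hw).trans (NatTrans.naturality_apply Ψ b z).symm
    have hmm : ι m' = m := injective_germ_sec ξ (AddCommGrpCat.of (ULift.{u + 1} A)) p' h₁
    refine ⟨germ (geomPoint X x) _ _ p (sec (AddCommGrpCat.of (ULift.{u + 1} ↥A')) (EtCoh.top X) m'),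
      (AddCommGrpCat.mono_iff_injective
        ((Scheme.pointSmallEtale (geomPoint X x)).sheafFiber.map b)).1 inferInstance ?_⟩
    rw [key, hmm]
    exact hm)
  exact isIso_of_mono_of_epi a

end Groth.Agent.S6640
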