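import Groth.Statements.S6647
import Groth.Agent.H88.EtMod.LCAb
-- import your own Groth.Agent.* helpers here

set_option autoImplicit false
open CategoryTheory CategoryTheory.Limits AlgebraicGeometry Opposite
universe u
open EtCore

namespace Groth.Agent.S6647

open Groth.Agent.Lib.EtSite Groth.Agent.Lib.EtSite.Basic Groth.Agent.H88.EtMod
open Groth.Agent.H88.EtMod.AbBridge Groth.Agent.H88.EtMod.LCChart

set_option linter.style.haveILetI false in
theorem exists_common_chart {Λ : Type (u + 1)} [CommRing Λ] {X : Scheme.{u}} {F G : EtModW.Mod Λ X}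
    (hF : EtModW.IsFTLocConst Λ F)
    (hG : ∀ x : X, ∃ (U : X.Etale) (_ : ∃ u : U.left, U.hom.base u = x) (N : Type (u + 1))
      (_ : AddCommGroup N) (_ : Module Λ N) (ψ : N →ₗ[Λ] G.obj.obj (op U)), IsChart G U ψ)
    (α : F ⟶ G) (x : X) : ∃ (W : X.Etale) (_ : ∃ w : W.left, W.hom.base w = x) (M N : Type (u + 1))
      (_ : AddCommGroup M) (_ : Module Λ M) (_ : Module.Finite Λ M) (_ : AddCommGroup N)
      (_ : Module Λ N) (φ : M →ₗ[Λ] F.obj.obj (op W))
      (ψ : N →ₗ[Λ] G.obj.obj (op W)) (a : M →ₗ[Λ] N),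
      IsChart F W φ ∧ IsChart G W ψ ∧ ∀ m, α.hom.app (op W) (φ m) = ψ (a m) := by
  obtain ⟨U, ⟨v, hv⟩, M, _, _, _, φ, hφ⟩ := isFTLocConst_iff.1 hF x
  obtain ⟨U', ⟨v', hv'⟩, N, _, _, ψ, hψ⟩ := hG x
  let ξ := geomPoint X x
  obtain ⟨p, -⟩ := exists_fiber ξ U v (hv.trans (geomPoint_apply x default).symm)
  obtain ⟨p', -⟩ := exists_fiber ξ U' v' (hv'.trans (geomPoint_apply x default).symm)
  obtain ⟨W, b, b', w, -, -⟩ := LocConst.exists_min p p'
  let φ' := (F.obj.map b.op).hom ∘ₗ φ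
  let ψ' := (G.obj.map b'.op).hom ∘ₗ ψ
  let eN := LinearEquiv.ofBijective (germ G W ξ w ∘ₗ ψ') ((hψ.restrict b') _ ξ w)
  let a : M →ₗ[Λ] N := eN.symm.toLinearMap ∘ₗ ((Scheme.pointSmallEtale ξ).sheafFiber.map α).hom ∘ₗ
    germ F W ξ w ∘ₗ φ'
  obtain ⟨V, g, q, -, hV⟩ := LCOps.exists_nhd_linear_eq ξ G w ((α.hom.app (op W)).hom ∘ₗ φ') (ψ' ∘ₗ a)
    (fun m => (germ_naturality α W ξ w (φ' m)).symm.trans (eN.apply_symm_apply _).symm)
  refine ⟨V, ⟨fiberPt q, (hom_fiberPt q).trans (geomPoint_apply x default)⟩, M, N, inferInstance,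
    inferInstance, inferInstance, inferInstance, inferInstance,
    (F.obj.map g.op).hom ∘ₗ φ', (G.obj.map g.op).hom ∘ₗ ψ', a,
    (hφ.restrict b).restrict g, (hψ.restrict b').restrict g, fun m => ?_⟩
  exact (NatTrans.naturality_apply α.hom g.op (φ' m)).trans (hV m)


/-- Let φ : F ⟶ G be a map of locally constant abelian sheaves on the small etale site of a scheme X,
with F finite locally constant. Then on the members of some etale covering of X the restriction of φ
is, up to isomorphisms with constant sheaves on both sides, the map of constant sheaves induced by a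
homomorphism of abelian groups. -/
theorem result {X : Scheme.{u}} (F G : EtCoh.Ab X) (φ : F ⟶ G)
    (hF : EtCoh.IsFiniteLocallyConstant F) (hG : EtRest.IsLocallyConstant G) :
    ∃ (ι : Type u) (U : ι → X.Etale), EtCoh.Covers U ∧ ∀ i, ∃ (M N : Type (u + 1)) (_ : AddCommGroup M) (_ : AddCommGroup N)
      (h : M →+ N)
      (α : EtCoh.restr F (U i) ≅ (constantSheaf (X.smallEtaleTopology.over (U i)) AddCommGrpCat.{u + 1}).obj (AddCommGrpCat.of M))
      (β : EtCoh.restr G (U i) ≅ (constantSheaf (X.smallEtaleTopology.over (U i)) AddCommGrpCat.{u + 1}).obj (AddCommGrpCat.of N)),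
      (X.smallEtaleTopology.overPullback AddCommGrpCat.{u + 1} (U i)).map φ ≫ β.hom = α.hom ≫ (constantSheaf (X.smallEtaleTopology.over (U i)) AddCommGrpCat.{u + 1}).map (AddCommGrpCat.ofHom h) := by
  obtain ⟨F', G', φ', e, e', hφ'⟩ := PBCOps.exists_hom_lift φ
  obtain ⟨hF1, -⟩ := (isFiniteLocallyConstant_iff' F').1 (isFiniteLC_of_iso e.symm hF)
  have H := exists_common_chart hF1
    ((LCAb.isLocallyConstant_iff G').1 (LCAb.isLC_of_iso e'.symm hG)) φ'
  choose W hW M N i1 i2 _ i4 i5 f g a hf hg hcomm using H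
  refine ⟨X, W, fun x => ?_, fun x => ?_⟩
  · obtain ⟨w, hw⟩ := hW x
    exact ⟨x, w, hw⟩
  letI := i1 x
  letI := i2 x
  letI := i4 x
  letI := i5 x
  haveI := (hf x).isIso_chartMap
  haveI := (hg x).isIso_chartMap
  let J := X.smallEtaleTopology.over (W x)
  let R := X.smallEtaleTopology.overPullback AddCommGrpCat.{u + 1} (W x)
  let C := sheafCompose J fgt.{u}
  let a' : M x →+ N x := (a x).toAddMonoidHom
  refine ⟨M x, N x, inferInstance, inferInstance, a',
    (R.mapIso e).symm ≪≫ C.mapIso (asIso (chartMap (f x))).symm ≪≫ constIso (W x) _,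
    (R.mapIso e').symm ≪≫ C.mapIso (asIso (chartMap (g x))).symm ≪≫ constIso (W x) _, ?_⟩
  have h1 : R.map φ = R.map e.inv ≫ R.map ((fg X).map φ') ≫ R.map e'.hom := by
    rw [← R.map_comp, ← R.map_comp, hφ']
    simp
  have h2 : (X.smallEtaleTopology.overPullback (ModuleCat.{u + 1} Zl.{u}) (W x)).map φ' ≫
      inv (chartMap (g x)) = inv (chartMap (f x)) ≫
        (constantSheaf J (ModuleCat.{u + 1} Zl.{u})).map (ModuleCat.ofHom (a x)) := by
    rw [IsIso.eq_inv_comp, ← Category.assoc, IsIso.comp_inv_eq]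
    exact chartMap_naturality (f x) (g x) φ' (a x) (hcomm x)
  have h3 := congrArg (fun k => C.map k) h2
  simp only [Functor.map_comp] at h3
  have h4 := (constantCommuteCompose J fgt.{u}).hom.naturality (ModuleCat.ofHom (a x))
  change R.map φ ≫ (R.map e'.inv ≫ C.map (inv (chartMap (g x))) ≫ (constIso (W x) _).hom) =
    (R.map e.inv ≫ C.map (inv (chartMap (f x))) ≫ (constIso (W x) _).hom) ≫ _
  rw [h1]
  simp only [Category.assoc]
  refine congrArg (R.map e.inv ≫ ·) ?_
  rw [← R.map_comp_assoc e'.hom e'.inv, e'.hom_inv_id, R.map_id, Category.id_comp]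
  refine (Category.assoc _ _ _).symm.trans ((congrArg (· ≫ (constIso (W x) _).hom) h3).trans ?_)
  refine (Category.assoc _ _ _).trans ?_
  exact congrArg (C.map (inv (chartMap (f x))) ≫ ·) h4

end Groth.Agent.S6647
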