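import Groth.Statements.S6648
import Groth.Agent.Lib.EtJ.Supp
import Mathlib.Algebra.Category.Ring.FilteredColimits

set_option autoImplicit false
open CategoryTheory CategoryTheory.Limits AlgebraicGeometry Opposite
universe u
open EtCore

namespace Groth.Agent.S6648

/-- For a sheaf of (commutative) rings O on the small etale site of a scheme S, the set of points s of S
over which some geometric stalk of O is a nonzero ring is closed in S. (Rings are taken in the
universe of the schemes, as for the structure presheaf of the prelude.) -/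
theorem result {S : Scheme.{u}} (O : Sheaf S.smallEtaleTopology CommRingCat.{u}) :
    IsClosed {s : ↥S | ∃ (Ω : Type u) (_ : Field Ω) (_ : IsSepClosed Ω) (ξ : Spec (CommRingCat.of Ω) ⟶ S),
      ξ.base default = s ∧ Nontrivial ↑((Scheme.pointSmallEtale ξ).presheafFiber.obj O.obj)} := by
  rw [← isOpen_compl_iff, isOpen_iff_forall_mem_open]
  intro s hs
  simp only [Set.mem_compl_iff, Set.mem_ofPred_eq, not_exists, not_and,
    not_nontrivial_iff_subsingleton] at hs
  let ξ := Groth.Agent.Lib.EtSite.Basic.geomPoint S s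
  let p : (Scheme.pointSmallEtale ξ).fiber.obj (EtCoh.top S) :=
    Groth.Agent.Lib.EtSite.Basic.mkFiber ξ (EtCoh.top S) ξ (Category.comp_id _)
  have h1 : (Scheme.pointSmallEtale ξ).toPresheafFiber (EtCoh.top S) p O.obj 1 =
      (Scheme.pointSmallEtale ξ).toPresheafFiber (EtCoh.top S) p O.obj 0 :=
    @Subsingleton.elim _
      (hs _ inferInstance inferInstance ξ (Groth.Agent.Lib.EtSite.Basic.geomPoint_apply s _)) _ _
  obtain ⟨V, g, q, hq, hV⟩ :=
    ((Scheme.pointSmallEtale ξ).toPresheafFiber_eq_iff' (EtCoh.top S) p 1 0).1 h1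
  simp only [map_one, map_zero] at hV
  have : Etale V.hom := V.prop
  refine ⟨Set.range V.hom.base, ?_, V.hom.isOpenMap.isOpen_range,
    Groth.Agent.Lib.EtSite.Basic.fiberPt q, ?_⟩
  · rintro _ ⟨v, rfl⟩
    simp only [Set.mem_compl_iff, Set.mem_ofPred_eq, not_exists, not_and,
      not_nontrivial_iff_subsingleton]
    intro Ω _ _ ξ' hξ'
    obtain ⟨q', -⟩ := Groth.Agent.Lib.EtSite.Basic.exists_fiber ξ' V v hξ'.symm
    refine subsingleton_of_zero_eq_one ?_
    rw [← map_zero ((Scheme.pointSmallEtale ξ').toPresheafFiber V q' O.obj).hom,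
      ← map_one ((Scheme.pointSmallEtale ξ').toPresheafFiber V q' O.obj).hom, hV]
  · rw [Groth.Agent.Lib.EtSite.Basic.hom_fiberPt]
    exact Groth.Agent.Lib.EtSite.Basic.geomPoint_apply s _

end Groth.Agent.S6648
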