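import Groth.Statements.S6649
import Groth.Agent.Lib.CiField.Brauer
import Groth.Agent.Lib.CiField.Transcendental
import Groth.Agent.Lib.Dim.Basic
import Mathlib.AlgebraicGeometry.FunctionField

set_option autoImplicit false
open CategoryTheory CategoryTheory.Limits AlgebraicGeometry Opposite
universe u
open Curves

namespace Groth.Agent.S6649

theorem isCr_one_aux {k : Type u} [Field k] [IsAlgClosed k] (A : Type u) [CommRing A] [IsDomain A] [Algebra k A]
    [Algebra.FiniteType k A] (hA : ringKrullDim A ≤ 1) (L : Type u) [Field L] [Algebra A L] [IsFractionRing A L] :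
    Curves.IsCr L 1 := by
  let : Algebra k L := ((algebraMap A L).comp (algebraMap k A)).toAlgebra
  have : IsScalarTower k A L := IsScalarTower.of_algebraMap_eq fun _ => rfl
  obtain ⟨s, g, hg, -, htr, hd⟩ := Groth.Agent.Lib.Dim.Basic.exists_noether k A
  have hs : s ≤ 1 := by rw [hd] at hA; exact_mod_cast hA
  let φ : MvPolynomial (Fin s) k →ₐ[k] L := (IsScalarTower.toAlgHom k A L).comp g
  have hφ : Function.Injective φ := (IsFractionRing.injective A L).comp hg
  let x : Fin s → L := fun i => φ (MvPolynomial.X i)
  have hx : AlgebraicIndependent k x := by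
    have : φ = MvPolynomial.aeval x := MvPolynomial.algHom_ext fun i => by simp [x]
    exact (this ▸ hφ :)
  have : Algebra.IsAlgebraic A L := IsLocalization.isAlgebraic L (nonZeroDivisors A)
  have : FaithfulSMul A L := (faithfulSMul_iff_algebraMap_injective A L).mpr (IsFractionRing.injective A L)
  have htrL : Algebra.trdeg k L = (s : Cardinal) := by
    rw [← trdeg_add_eq k A (A := L), trdeg_eq_zero (R := A), add_zero, htr]
  have htb : IsTranscendenceBasis k x :=
    hx.isTranscendenceBasis_of_lift_trdeg_le_of_finite (by rw [htrL]; simp)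
  have hci := Groth.Agent.Lib.CiField.Transcendental.isCi_add s x htb
    (Groth.Agent.Lib.CiField.Basic.isCi_zero (k := k))
  intro n d f hf hd hlt
  obtain ⟨a, ha, h0⟩ := hci 1 n (fun _ => f) (fun _ => d) (fun _ => hf) (fun _ => hd) (by
    simp only [Finset.univ_unique, Finset.sum_singleton, zero_add]
    exact (Nat.pow_le_pow_right hd hs).trans_lt hlt)
  exact ⟨a, ha, h0 0⟩

/-- For a curve C over an algebraically closed field k (C integral of dimension one, separated and of
finite type over k) the Brauer group of the function field of C is zero: every finite-dimensional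
central division algebra over the function field has dimension one. -/
theorem result (k : Type u) [Field k] [IsAlgClosed k] (C : Scheme.{u})
    (f : C ⟶ Spec (CommRingCat.of k)) [IsSeparated f] [LocallyOfFiniteType f] [QuasiCompact f] [IsIntegral C]
    (hdim : topologicalKrullDim ↥C = 1)
    (D : Type u) [DivisionRing D] [Algebra ↑C.functionField D] [Algebra.IsCentral ↑C.functionField D]
    [FiniteDimensional ↑C.functionField D] : Module.finrank ↑C.functionField D = 1 := by
  obtain ⟨U, hU, hxU, -⟩ := C.isBasis_affineOpens.exists_subset_of_mem_open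
    (TopologicalSpace.Opens.mem_top (genericPoint ↥C)) isOpen_univ
  obtain ⟨U, hU', rfl⟩ := hU
  have : Nonempty U := ⟨⟨_, hxU⟩⟩
  have := functionField_isFractionRing_of_isAffineOpen C U hU'
  let φ : k →+* Γ(C, U) := (f.appLE ⊤ U le_top).hom.comp (Scheme.ΓSpecIso (CommRingCat.of k)).inv.hom
  have hφ : φ.FiniteType := (HasRingHomProperty.appLE @LocallyOfFiniteType f inferInstance
      ⟨⊤, isAffineOpen_top _⟩ ⟨U, hU'⟩ le_top).comp (RingHom.FiniteType.of_surjective _
    (Scheme.ΓSpecIso (CommRingCat.of k)).commRingCatIsoToRingEquiv.symm.surjective)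
  let : Algebra k Γ(C, U) := φ.toAlgebra
  have : Algebra.FiniteType k Γ(C, U) := hφ
  have hdimU : ringKrullDim Γ(C, U) ≤ 1 := by
    rw [← PrimeSpectrum.topologicalKrullDim_eq_ringKrullDim, ← hdim]
    exact (IsAffineOpen.isoSpec hU').inv.homeomorph.isInducing.topologicalKrullDim_le.trans Topology.IsInducing.subtypeVal.topologicalKrullDim_le
  exact Groth.Agent.Lib.CiField.Brauer.finrank_eq_one (isCr_one_aux (k := k) Γ(C, U) hdimU C.functionField)

end Groth.Agent.S6649
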