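import Groth.Statements.S6650
import Groth.Agent.Lib.EtGerm.Compare

set_option autoImplicit false
open CategoryTheory CategoryTheory.Limits AlgebraicGeometry Opposite
universe u
open BigSite

namespace Groth.Agent.S6650

/-- Let F be an abelian sheaf on the small etale site of a scheme S and π_S⁻¹F its inverse image on the
big etale site of S. For every scheme T over S with structure map f, the sections of π_S⁻¹F over T
are isomorphic to the global sections of f⁻¹F on the small etale site of T (existence of an
isomorphism only: the comparison map is not named here), and the presheaf underlying π_S⁻¹F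
satisfies the sheaf condition for fpqc coverings. (The published statement also covers the Zariski
topology and sheaves of sets; this row treats abelian sheaves on the etale sites.) -/
theorem result (S : Scheme.{u}) (F : EtCoh.Ab S) :
    (∀ T : Over S, Nonempty (((BigSite.piEtPull Scheme.etalePrecoverage S).obj F).obj.obj (op T) ≅
      ((EtCoh.pull T.hom).obj F).obj.obj (op (EtCoh.top T.left)))) ∧
    Presheaf.IsSheaf (QuotSh.J Scheme.fpqcPrecoverage S) ((BigSite.piEtPull Scheme.etalePrecoverage S).obj F).obj := by
  have h := Scheme.etalePrecoverage_le_proetalePrecoverage.trans
    Scheme.proetalePrecoverage_le_fpqcPrecoverage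
  exact ⟨fun T => Groth.Agent.Lib.EtGerm.Compare.nonempty_iso F T _ le_rfl h,
    Groth.Agent.Lib.EtGerm.Compare.isSheaf_piEtPull F _ le_rfl h⟩

end Groth.Agent.S6650
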