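import Groth.Statements.S6652
import Groth.Agent.Lib.Cont50.Single
import Groth.Agent.H61.FieldCoh.PushInt
import Groth.Agent.Lib.EtJ.PullExact
import Groth.Agent.Lib.EtSite.FiniteEtaleTransfer
import Groth.Agent.Lib.EtSite.HensClosed
import Groth.Agent.Lib.AlgSpLimit.LimQf
import Groth.Agent.H61.HpullFunct
-- import your own Groth.Agent.* helpers here

set_option autoImplicit false
open CategoryTheory CategoryTheory.Limits AlgebraicGeometry Opposite
universe u
open EtCore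

namespace Groth.Agent.S6652

open CategoryTheory.Abelian

set_option linter.style.haveILetI false
set_option backward.isDefEq.respectTransparency false

section integral

theorem isIntegralHom_π {I : Type u} [SmallCategory I] [IsCofiltered I] {D : I ⥤ Scheme.{u}} {c : Cone D}
    (hc : IsLimit c) [∀ {i j : I} (a : i ⟶ j), IsFinite (D.map a)] (i₀ : I) :
    IsIntegralHom (c.π.app i₀) := by
  haveI : ∀ {i j : I} (a : i ⟶ j), IsAffineHom (D.map a) := fun a => inferInstance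
  refine (IsZariskiLocalAtTarget.iff_of_openCover (P := @IsIntegralHom) (D.obj i₀).affineCover).2 fun k => ?_
  let a := (D.obj i₀).affineCover.f k
  have h : IsPullback (pullback.snd (c.π.app i₀) a) (pullback.fst (c.π.app i₀) a) a (c.π.app i₀) :=
    (IsPullback.of_hasPullback (c.π.app i₀) a).flip
  haveI : ∀ o : Over i₀, IsFinite (pullback.fst a (D.map o.hom)) := fun o => inferInstance
  haveI : ∀ o : Over i₀, IsAffine ((Lib.Lim.Basic.bcDiagram D a).obj o) :=
    fun o => isAffine_of_isAffineHom (pullback.fst a (D.map o.hom))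
  haveI : ∀ (o o' : Over i₀) (φ : o ⟶ o'), IsFinite ((Lib.Lim.Basic.bcDiagram D a).map φ) := fun o o' φ => by
    haveI : IsFinite ((Lib.Lim.Basic.bcDiagram D a).map φ ≫ pullback.fst a (D.map o'.hom)) := by
      rw [show (Lib.Lim.Basic.bcDiagram D a).map φ ≫ pullback.fst a (D.map o'.hom) =
        pullback.fst a (D.map o.hom) by simp [Lib.Lim.Basic.bcDiagram, pullback.map]]
      infer_instance
    exact IsFinite.of_comp _ (pullback.fst a (D.map o'.hom))
  haveI := Lib.AlgSpLimit.isIntegralHom_π (Lib.Lim.Basic.isLimitBcCone hc h) (Over.mk (𝟙 i₀))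
  have e := Lib.Lim.Basic.bcCone_π_fst (c := c) h.w (Over.mk (𝟙 i₀))
  change IsIntegralHom (pullback.snd (c.π.app i₀) a)
  rw [← e]
  exact MorphismProperty.comp_mem (W := @IsIntegralHom) _ _ ‹_›
    (inferInstanceAs (IsIntegralHom (pullback.fst a (D.map (Over.mk (𝟙 i₀)).hom))))

end integral

section transfer

open Lib.EtSite.FiniteEtaleTransfer Lib.EtSite.Sheets Groth.Agent.H61.FieldCoh

variable {X X' : Scheme.{u}} (f : X' ⟶ X)

/-- The number of lifts of a geometric point is the number of sheets. -/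
theorem card_lifts {U : X.Etale} {n : ℕ} {σ : Fin n → (U.left ⟶ pullback U.hom f)}
    (hσ : IsSheets f U σ) {Ω : Type u} [Field Ω] (γ : Spec (CommRingCat.of Ω) ⟶ U.left) :
    Nat.card {t : Spec (CommRingCat.of Ω) ⟶ X' // t ≫ f = γ ≫ U.hom} = n := by
  let F : Fin n → {t : Spec (CommRingCat.of Ω) ⟶ X' // t ≫ f = γ ≫ U.hom} := fun j =>
    ⟨γ ≫ σ j ≫ pullback.snd U.hom f, by
      rw [Category.assoc, Category.assoc, ← pullback.condition, reassoc_of% (hσ.fst j)]⟩
  refine (Nat.card_eq_of_bijective F ⟨fun i j hij => ?_, fun t => ?_⟩).symm.trans (Nat.card_fin n)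
  · refine hσ.disjoint i j (γ.base default) (γ.base default) ?_
    have h : γ ≫ σ i = γ ≫ σ j := by
      apply pullback.hom_ext
      · rw [Category.assoc, Category.assoc, hσ.fst i, hσ.fst j]
      · rw [Category.assoc, Category.assoc]
        exact congrArg Subtype.val hij
    exact congrArg (fun m : Spec (CommRingCat.of Ω) ⟶ pullback U.hom f => m.base default) h
  · let q := pullback.lift γ t.1 t.2.symm
    obtain ⟨j, v, hv⟩ := hσ.exists_eq (q.base default)
    haveI := hσ.isOpenImmersion j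
    obtain ⟨l, hl⟩ : ∃ l, l ≫ σ j = q := ⟨_, IsOpenImmersion.lift_fac _ _ (by
      rintro _ ⟨k, rfl⟩
      exact ⟨v, hv.trans (congrArg q.base (Subsingleton.elim _ _))⟩)⟩
    have hl' : l = γ := by
      have := eq_whisker hl (pullback.fst U.hom f)
      rw [Category.assoc, hσ.fst j, Category.comp_id] at this
      exact this.trans (pullback.lift_fst _ _ _)
    refine ⟨j, Subtype.ext ?_⟩
    change γ ≫ σ j ≫ pullback.snd U.hom f = t.1
    have h : γ ≫ σ j = q := (congrArg (· ≫ σ j) hl'.symm).trans hl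
    rw [← Category.assoc, h]
    exact pullback.lift_snd _ _ _

variable [IsFinite f] [Etale f]

/-- Constant degree over algebraically closed points is constant degree over separably closed points. -/
theorem card_fibre {d : ℕ}
    (hd : ∀ (Ω : Type u) [Field Ω] [IsAlgClosed Ω] (η : Spec (CommRingCat.of Ω) ⟶ X),
      Nat.card {t : Spec (CommRingCat.of Ω) ⟶ X' // t ≫ f = η} = d)
    (Ω : Type u) [Field Ω] [IsSepClosed Ω] (ξ : Spec (CommRingCat.of Ω) ⟶ X) :
    Nat.card ↥(pullback f ξ) = d := by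
  obtain ⟨U, v, hv, n, σ, hσ⟩ := exists_isSheets f (ξ.base default)
  haveI : Etale U.hom := U.prop
  obtain ⟨γ, hγ, -⟩ := Scheme.exists_fac_of_etale_of_isSepClosed U.hom ξ v hv
  subst hγ
  have h := card_lifts f hσ
    (Spec.map (CommRingCat.ofHom (algebraMap Ω (AlgebraicClosure Ω))) ≫ γ)
  rw [hd] at h
  exact (card_sheets f hσ γ).trans h.symm

/-- Transfer: pullback is injective on torsion prime to the degree. -/
theorem eq_zero_of_Hpull (d : ℕ)
    (hd : ∀ (Ω : Type u) [Field Ω] [IsSepClosed Ω] (ξ : Spec (CommRingCat.of Ω) ⟶ X),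
      Nat.card ↥(pullback f ξ) = d)
    (L : Set ℕ) (hL : ∀ p : ℕ, p.Prime → p ∈ L → ¬ p ∣ d) (F : EtCoh.Ab X) (hF : EtAcyc.IsLTorsion L F)
    [PreservesFiniteLimits (EtCoh.pull f)] (q : ℕ) (e : EtCoh.H X F q)
    (h : EtCore.Hpull f F q e = 0) : e = 0 := by
  have := isIso_nsmul L d hL F hF
  have h1 : (Ext.mk₀ (aug f)).comp e (zero_add q) = 0 := (Hpull_eq_zero_iff f F q e).1 h
  obtain ⟨tr, htr⟩ := exists_transfer f d hd
  have h2 : d • e = 0 := by
    rw [← mk₀_nsmul_comp, ← htr, ← Ext.mk₀_comp_mk₀, Ext.comp_assoc_of_second_deg_zero, h1, Ext.comp_zero]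
  have h3 : ∀ k : ℕ, e.comp (Ext.mk₀ (k • 𝟙 F)) (add_zero q) = k • e := by
    intro k
    induction k with
    | zero => simp
    | succ k ih => rw [add_smul, one_smul, Ext.mk₀_add, Ext.comp_add, ih, Ext.comp_mk₀_id, add_smul, one_smul]
  have h4 : e = (e.comp (Ext.mk₀ (d • 𝟙 F)) (add_zero q)).comp (Ext.mk₀ (inv (d • 𝟙 F))) (add_zero q) := by
    rw [Ext.comp_assoc_of_third_deg_zero, Ext.mk₀_comp_mk₀, IsIso.hom_inv_id, Ext.comp_mk₀_id]
  rw [h4, h3, h2, Ext.zero_comp]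

end transfer

theorem Hpull_comp_zero {X Y Z : Scheme.{u}} (f : X ⟶ Y) (g : Y ⟶ Z) (h : X ⟶ Z) (w : f ≫ g = h)
    [PreservesFiniteLimits (EtCoh.pull f)] [PreservesFiniteLimits (EtCoh.pull g)]
    [PreservesFiniteLimits (EtCoh.pull h)] (G : EtCoh.Ab Z) (n : ℕ) (e : EtCoh.H Z G n)
    (he : EtCore.Hpull f _ n (EtCore.Hpull g G n e) = 0) : EtCore.Hpull h G n e = 0 := by
  rw [← H61.HpullFunct.HpullVia_Hpull f g h w G n e, EtCore.HpullVia]
  refine Eq.trans (congrArg ⇑(((EtCoh.HF X n).map (((EtCore.pullComp f g).symm ≪≫ EtCore.pullCongr w).app G).hom).hom) he) ?_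
  exact map_zero _

section torsion

variable {ℓ : ℕ}

open Lib.EtSite Lib.EtSite.Basic

/-- Locally killed by a power of `ℓ`. -/
def PT (ℓ : ℕ) {Y : Scheme.{u}} (G : EtCoh.Ab Y) : Prop :=
  ∀ (U : Y.Etale) (s : EtCoh.sect G U) (y : ↥U.left), ∃ (V : Y.Etale) (φ : V ⟶ U),
    (∃ v : ↥V.left, φ.left.base v = y) ∧ ∃ m : ℕ, (ℓ ^ m) • G.obj.map φ.op s = 0

theorem PT.pull {X Y : Scheme.{u}} (f : X ⟶ Y) {G : EtCoh.Ab Y} (hG : PT ℓ G) :
    PT ℓ ((EtCoh.pull f).obj G) := by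
  intro U s y
  let ξ := geomPoint X (U.hom.base y)
  obtain ⟨p, hp⟩ := exists_fiber_geomPoint U y
  obtain ⟨z, hz⟩ := (HensClosed.unitStalk_injective f ξ G).2
    ((Scheme.pointSmallEtale ξ).toPresheafFiber U p ((EtCoh.pull f).obj G).obj s)
  obtain ⟨V, q, t, rfl⟩ := (Scheme.pointSmallEtale (ξ ≫ f)).toPresheafFiber_jointly_surjective z
  obtain ⟨V', φ, ⟨v', hv'⟩, m, hm⟩ := hG V t (fiberPt q)
  haveI : Etale φ.left := by
    haveI : Etale V.hom := V.prop
    haveI : Etale (φ.left ≫ V.hom) := by rw [show φ.left ≫ V.hom = V'.hom from MorphismProperty.Over.w φ]; exact V'.prop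
    exact EtCoh.etaleMP.of_postcomp (W' := EtCoh.etaleMP) φ.left V.hom V.prop ‹_›
  obtain ⟨l, hl, -⟩ := Scheme.exists_fac_of_etale_of_isSepClosed φ.left (fiberHom q) v' hv'
  have hl' : l ≫ V'.hom = ξ ≫ f := by
    rw [← show φ.left ≫ V.hom = V'.hom from MorphismProperty.Over.w φ, reassoc_of% hl, fiberHom_comp]
  let q' := mkFiber (ξ ≫ f) V' l hl'
  have hq : (Scheme.pointSmallEtale (ξ ≫ f)).fiber.map φ q' = q := Over.OverMorphism.ext hl
  have hz0 : ℓ ^ m • (Scheme.pointSmallEtale (ξ ≫ f)).toPresheafFiber V q G.obj t = 0 := by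
    refine (congrArg (fun a => ℓ ^ m • a) ?_).trans ((map_nsmul _ _ _).symm.trans ((congrArg
      ((Scheme.pointSmallEtale (ξ ≫ f)).toPresheafFiber V' q' G.obj) hm).trans (map_zero _)))
    rw [← hq]
    exact (GrothendieckTopology.Point.toPresheafFiber_w_apply _ φ q' G.obj t).symm
  have h0 : (Scheme.pointSmallEtale ξ).toPresheafFiber U p ((EtCoh.pull f).obj G).obj (ℓ ^ m • s) =
      (Scheme.pointSmallEtale ξ).toPresheafFiber U p ((EtCoh.pull f).obj G).obj 0 := by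
    refine ((map_nsmul _ _ _).trans ((congrArg (ℓ ^ m • ·) hz.symm).trans ?_)).trans (map_zero _).symm
    exact (map_nsmul _ _ _).symm.trans ((congrArg _ hz0).trans (map_zero _))
  obtain ⟨W, g, r, hr, hst⟩ := ((Scheme.pointSmallEtale ξ).toPresheafFiber_eq_iff' U p _ _).1 h0
  refine ⟨W, g, ⟨fiberPt r, (fiberPt_map g r).symm.trans ((congrArg fiberPt hr).trans hp)⟩, m, ?_⟩
  rw [← map_nsmul, hst, map_zero]

theorem PT.push {X Y : Scheme.{u}} (f : X ⟶ Y) [IsAffineHom f] {F : EtCoh.Ab X} (hF : PT ℓ F) :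
    PT ℓ ((EtCoh.push f).obj F) := by
  classical
  intro U s y
  obtain ⟨W, g, hW, w, hw⟩ := Lib.Cont50.Cohom.exists_affine_nhd U y
  refine ⟨W, g, ⟨w, hw⟩, ?_⟩
  haveI : IsAffine W.left := hW
  let P := (EtCoh.bc f).obj W
  haveI : IsAffineHom (pullback.fst W.hom f) := MorphismProperty.pullback_fst (P := @IsAffineHom) _ _ ‹_›
  haveI : IsAffine ((𝟭 Scheme.{u}).obj W.left) := hW
  haveI : IsAffine P.left := isAffine_of_isAffineHom (pullback.fst W.hom f)
  let r : EtCoh.sect F P := ((EtCoh.push f).obj F).obj.map g.op s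
  choose V φ hv m hm using hF P r
  haveI : ∀ x, Etale (φ x).left := fun x => by
    haveI : Etale P.hom := P.prop
    haveI : Etale ((φ x).left ≫ P.hom) := by rw [show (φ x).left ≫ P.hom = (V x).hom from MorphismProperty.Over.w (φ x)]; exact (V x).prop
    exact EtCoh.etaleMP.of_postcomp (W' := EtCoh.etaleMP) (φ x).left P.hom P.prop ‹_›
  obtain ⟨t, ht⟩ := isCompact_univ.elim_finite_subcover (fun x : P.left => Set.range (φ x).left.base)
    (fun x => (φ x).left.isOpenMap.isOpen_range)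
    (fun x _ => Set.mem_iUnion.2 ⟨x, (hv x).choose, (hv x).choose_spec⟩)
  refine ⟨∑ x ∈ t, m x, ?_⟩
  change ℓ ^ (∑ x ∈ t, m x) • r = 0
  refine Stalk.sections_ext F _ 0 fun x => ?_
  obtain ⟨x₀, hx₀, v, hvx⟩ := Set.mem_iUnion₂.1 (ht (Set.mem_univ x))
  refine ⟨V x₀, φ x₀, ?_, v, hvx⟩
  rw [map_nsmul, map_zero, ← Finset.add_sum_erase t m hx₀, pow_add, mul_comm, mul_nsmul', hm,
    smul_zero]

theorem PT.isLTorsion (hℓ : ℓ.Prime) {Y : Scheme.{u}} {G : EtCoh.Ab Y} (hG : PT ℓ G) :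
    EtAcyc.IsLTorsion {ℓ} G := fun U s x => by
  obtain ⟨V, φ, hv, m, hm⟩ := hG U s x
  exact ⟨V, φ, ℓ ^ m, hv, ⟨pow_pos hℓ.pos _, fun p hp hdvd =>
    Set.mem_singleton_iff.2 ((Nat.prime_dvd_prime_iff_eq hp hℓ).1 (hp.dvd_of_dvd_pow hdvd))⟩, hm⟩

end torsion

/-- Let ℓ be a prime, n > 0, S a quasi-compact quasi-separated scheme and X the limit (in schemes over
S) of a nonempty directed inverse system of S-schemes X_i, each finite etale over S with all
geometric fibres of one cardinality d_i prime to ℓ; let g : X ⟶ S be the structure morphism. Call an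
abelian sheaf ℓ-power torsion when every section is, etale locally around every point, killed by a
power of ℓ (the predicate T below, pinned by hT). Then for an ℓ-power torsion G on S_etale with
H^n(S, G) nonzero, g⁻¹G is ℓ-power torsion with H^n(X, g⁻¹G) nonzero; and for an ℓ-power torsion F
on X_etale with H^n(X, F) nonzero, g_*F is ℓ-power torsion with H^n(S, g_*F) nonzero. (The published
statement is the equivalence of the two nonvanishing conditions; this row states it through the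
explicit sheaves g⁻¹G and g_*F.) -/
theorem result (ℓ : ℕ) [Fact ℓ.Prime] (n : ℕ) (hn : 0 < n)
    (T : ∀ (Y : Scheme.{u}), EtCoh.Ab Y → Prop)
    (hT : ∀ (Y : Scheme.{u}) (G : EtCoh.Ab Y), T Y G ↔
      ∀ (U : Y.Etale) (s : EtCoh.sect G U) (y : ↥U.left), ∃ (V : Y.Etale) (φ : V ⟶ U),
        (∃ v : ↥V.left, φ.left.base v = y) ∧ ∃ m : ℕ, (ℓ ^ m) • G.obj.map φ.op s = 0)
    (S : Scheme.{u}) [CompactSpace ↥S] [QuasiSeparatedSpace ↥S]
    {ι : Type u} [Preorder ι] [IsDirected ι (· ≤ ·)] [Nonempty ι] (Xs : ιᵒᵖ ⥤ Over S)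
    (hfin : ∀ i, IsFinite (Xs.obj i).hom) (het : ∀ i, AlgebraicGeometry.Etale (Xs.obj i).hom)
    (d : ιᵒᵖ → ℕ) (hd : ∀ i, ℓ.Coprime (d i))
    (hdeg : ∀ (i : ιᵒᵖ) (Ω : Type u) [Field Ω] [IsAlgClosed Ω] (η : Spec (CommRingCat.of Ω) ⟶ S),
      Nat.card {t : Spec (CommRingCat.of Ω) ⟶ (Xs.obj i).left // t ≫ (Xs.obj i).hom = η} = d i)
    (c : Cone Xs) (hc : IsLimit c) :
    (∀ G : EtCoh.Ab S, T S G → Nontrivial (EtCoh.H S G n) →
      T c.pt.left ((EtCoh.pull c.pt.hom).obj G) ∧ Nontrivial (EtCoh.H c.pt.left ((EtCoh.pull c.pt.hom).obj G) n)) ∧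
    (∀ F : EtCoh.Ab c.pt.left, T c.pt.left F → Nontrivial (EtCoh.H c.pt.left F n) →
      T S ((EtCoh.push c.pt.hom).obj F) ∧ Nontrivial (EtCoh.H S ((EtCoh.push c.pt.hom).obj F) n)) := by
  let D := Xs ⋙ Over.forget S
  let c' : Cone D := (Over.forget S).mapCone c
  haveI : IsFiltered ι := inferInstance
  haveI : IsCofiltered ιᵒᵖ := inferInstance
  haveI : IsConnected ιᵒᵖ := IsCofiltered.isConnected _
  have hc' : IsLimit c' := isLimitOfPreserves (Over.forget S) hc
  haveI := hfin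
  haveI := het
  haveI : ∀ {a b : ιᵒᵖ} (h : a ⟶ b), IsFinite (D.map h) := fun {a b} h => by
    haveI : IsFinite (D.map h ≫ (Xs.obj b).hom) := by
      rw [show D.map h ≫ (Xs.obj b).hom = (Xs.obj a).hom from Over.w (Xs.map h)]
      exact hfin a
    exact IsFinite.of_comp _ (Xs.obj b).hom
  haveI : ∀ {a b : ιᵒᵖ} (h : a ⟶ b), IsAffineHom (D.map h) := fun h => inferInstance
  haveI : ∀ a, CompactSpace ↥(D.obj a) := fun a =>
    QuasiCompact.compactSpace_of_compactSpace (Xs.obj a).hom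
  haveI : ∀ a, QuasiSeparatedSpace ↥(D.obj a) := fun a =>
    quasiSeparatedSpace_of_quasiSeparated (Xs.obj a).hom
  let i₀ : ιᵒᵖ := op (Classical.arbitrary ι)
  haveI : IsIntegralHom c.pt.hom := by
    haveI : IsIntegralHom (c.π.app i₀).left := isIntegralHom_π hc' i₀
    rw [← show (c.π.app i₀).left ≫ (Xs.obj i₀).hom = c.pt.hom from Over.w (c.π.app i₀)]
    exact MorphismProperty.comp_mem (W := @IsIntegralHom) _ _ ‹_›
      (inferInstanceAs (IsIntegralHom (Xs.obj i₀).hom))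
  have hℓ : ℓ.Prime := Fact.out
  refine ⟨fun G hG hne => ?_, fun F hF hne => ?_⟩
  · have hG' : PT ℓ G := (hT S G).1 hG
    refine ⟨(hT _ _).2 (PT.pull c.pt.hom hG'), ?_⟩
    by_contra hsub
    rw [not_nontrivial_iff_subsingleton] at hsub
    obtain ⟨e, he⟩ := exists_ne (0 : EtCoh.H S G n)
    let g₀ : D.obj i₀ ⟶ S := (Xs.obj i₀).hom
    let F₀ : EtCoh.Ab (D.obj i₀) := (EtCoh.pull g₀).obj G
    let y := EtCore.Hpull (D.map (𝟙 i₀)) F₀ n (EtCore.Hpull g₀ G n e)
    let β : (EtCoh.pull (c'.π.app i₀)).obj F₀ ≅ (EtCoh.pull c.pt.hom).obj G :=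
      ((EtCore.pullComp (c'.π.app i₀) g₀).symm ≪≫ EtCore.pullCongr (Over.w (c.π.app i₀))).app G
    have hsub' : Subsingleton (EtCoh.H c'.pt ((EtCoh.pull (c'.π.app i₀)).obj F₀) n) :=
      ((EtCoh.HF c'.pt n).mapIso β).addCommGroupIsoToAddEquiv.toEquiv.subsingleton (β := EtCoh.H c.pt.left ((EtCoh.pull c.pt.hom).obj G) n)
    obtain ⟨k, φ, hk⟩ := (Lib.Cont50.Single.main c' i₀ F₀ hc' n).2 i₀ (𝟙 i₀) y (hsub'.elim _ _)
    have h1 : EtCore.Hpull (D.map φ ≫ D.map (𝟙 i₀)) F₀ n (EtCore.Hpull g₀ G n e) = 0 :=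
      Hpull_comp_zero (D.map φ) (D.map (𝟙 i₀)) _ rfl F₀ n _ hk
    have h2 : EtCore.Hpull (Xs.obj k).hom G n e = 0 :=
      Hpull_comp_zero (D.map φ ≫ D.map (𝟙 i₀)) g₀ (Xs.obj k).hom (by
        rw [← Functor.map_comp]
        exact Over.w (Xs.map (φ ≫ 𝟙 i₀))) G n e h1
    exact he (eq_zero_of_Hpull (Xs.obj k).hom (d k) (card_fibre (Xs.obj k).hom fun Ω _ _ η => hdeg k Ω η)
      {ℓ} (fun p hp hpℓ hdvd => by
        obtain rfl : p = ℓ := hpℓ
        exact hp.one_lt.ne' (Nat.eq_one_of_dvd_coprimes (hd k) dvd_rfl hdvd))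
      G (PT.isLTorsion hℓ hG') n e h2)
  · refine ⟨(hT _ _).2 (PT.push c.pt.hom ((hT _ F).1 hF)), ?_⟩
    obtain ⟨e⟩ := H61.FieldCoh.PushInt.nonempty_Hequiv c.pt.hom F n
    exact e.toEquiv.nontrivial

end Groth.Agent.S6652
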