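import Groth.Statements.S6655
import Groth.Agent.H88.EtMod.LCOps

set_option autoImplicit false
open CategoryTheory CategoryTheory.Limits AlgebraicGeometry Opposite
universe u
open EtModW

namespace Groth.Agent.S6655

/-- Part (3): with both sheaves of finite type: let Λ be a commutative ring and φ : F ⟶ G a map of
finite type locally constant sheaves of Λ-modules on the small etale site of a scheme X. Then on the
members of some etale covering of X the restriction of φ is, up to isomorphisms with constant
sheaves on both sides, the map of constant sheaves induced by a Λ-linear map. (The published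
statement allows G to be any locally constant sheaf of Λ-modules; this row assumes G of finite type
as well.) -/
theorem result (Λ : Type (u + 1)) [CommRing Λ] {X : Scheme.{u}} (F G : EtModW.Mod Λ X)
    (φ : F ⟶ G) (hF : EtModW.IsFTLocConst Λ F) (hG : EtModW.IsFTLocConst Λ G) :
    ∃ (ι : Type u) (U : ι → X.Etale), EtCoh.Covers U ∧ ∀ i, ∃ (M N : Type (u + 1)) (_ : AddCommGroup M) (_ : AddCommGroup N)
      (_ : Module Λ M) (_ : Module Λ N) (h : M →ₗ[Λ] N)
      (α : EtModW.restr Λ F (U i) ≅ (constantSheaf (X.smallEtaleTopology.over (U i)) (ModuleCat.{u + 1} Λ)).obj (ModuleCat.of Λ M))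
      (β : EtModW.restr Λ G (U i) ≅ (constantSheaf (X.smallEtaleTopology.over (U i)) (ModuleCat.{u + 1} Λ)).obj (ModuleCat.of Λ N)),
      (X.smallEtaleTopology.overPullback (ModuleCat.{u + 1} Λ) (U i)).map φ ≫ β.hom =
        α.hom ≫ (constantSheaf (X.smallEtaleTopology.over (U i)) (ModuleCat.{u + 1} Λ)).map (ModuleCat.ofHom h) := by
  have H := Groth.Agent.H88.EtMod.LCOps.exists_common_chart hF hG φ
  choose W hW M N i1 i2 _ i4 i5 _ f g a hf hg hcomm using H
  refine ⟨X, W, fun x => ?_, fun x => ?_⟩
  · obtain ⟨w, hw⟩ := hW x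
    exact ⟨x, w, hw⟩
  letI := i1 x
  letI := i2 x
  letI := i4 x
  letI := i5 x
  haveI := (hf x).isIso_chartMap
  haveI := (hg x).isIso_chartMap
  refine ⟨M x, N x, inferInstance, inferInstance, inferInstance, inferInstance, a x,
    (asIso (Groth.Agent.H88.EtMod.LCChart.chartMap (f x))).symm,
    (asIso (Groth.Agent.H88.EtMod.LCChart.chartMap (g x))).symm, ?_⟩
  rw [Iso.symm_hom, Iso.symm_hom, asIso_inv, asIso_inv, IsIso.eq_inv_comp, ← Category.assoc,
    IsIso.comp_inv_eq]
  exact Groth.Agent.H88.EtMod.LCChart.chartMap_naturality (f x) (g x) φ (a x) (hcomm x)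

end Groth.Agent.S6655
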