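import Groth.Statements.S6657
import Groth.Agent.Lib.EtJ.PullExact

set_option autoImplicit false
universe u
open CategoryTheory CategoryTheory.Limits AlgebraicGeometry Opposite
open EtDual

namespace Groth.Agent.S6657

/-- Let i : Z → X be a closed immersion of schemes with open complement j : U → X, and let G be an
injective abelian sheaf on the small etale site of Z. Then for every p > 0 the p-th local cohomology
sheaf with support in Z of the direct image i_* G (the p-th right derived functor of F ↦ ker(F → j_*
j⁻¹ F), kept as a sheaf on X) is zero. -/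
theorem result {Z X U : Scheme.{u}} (i : Z ⟶ X) [IsClosedImmersion i]
    (j : U ⟶ X) [IsOpenImmersion j] (hZU : Set.range j = (Set.range i)ᶜ)
    (G : EtCoh.Ab Z) [Injective G] (p : ℕ) (hp : 0 < p) :
    IsZero ((EtDual.locCoh j p).obj ((EtCoh.push i).obj G)) := by
  obtain ⟨p, rfl⟩ : ∃ q, p = q + 1 := ⟨p - 1, by omega⟩
  haveI : Injective ((EtCoh.push i).obj G) := (EtCoh.push i).injective_obj G
  exact Functor.isZero_rightDerived_obj_injective_succ _ p _

end Groth.Agent.S6657
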