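import Groth.Statements.S6659
import Groth.Agent.H88.Hom.DerivedFF
import Groth.Agent.Lib.EtJ.PullExact
import Groth.Agent.Lib.EtSite.ClosedEssImage
import Groth.Agent.Lib.EtSite.Stalk

set_option autoImplicit false
universe u
open CategoryTheory CategoryTheory.Limits AlgebraicGeometry Opposite
attribute [local instance] HasDerivedCategory.standard
open EtDual

namespace Groth.Agent.S6659

/-- Let i : Z → X be a closed immersion of schemes with open complement j : U → X. The direct image i_*
of abelian etale sheaves is exact (its right exactness is carried as an instance hypothesis), and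
the induced functor D(Z_et) → D(X_et) is fully faithful; an object K of D(X_et) lies in its
essential image if and only if every cohomology sheaf of K has zero restriction to U, i.e. K has
cohomology sheaves supported on Z. (The identification of the quasi-inverse with the derived functor
of sections supported on Z is not part of this row.) -/
theorem result {Z X U : Scheme.{u}} (i : Z ⟶ X)
    [IsClosedImmersion i] (j : U ⟶ X) [IsOpenImmersion j] (hZU : Set.range j = (Set.range i)ᶜ)
    [PreservesFiniteColimits (EtCoh.push i)] :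
    ((EtCoh.push i).mapDerivedCategory.Full ∧ (EtCoh.push i).mapDerivedCategory.Faithful) ∧
      ∀ K : DCoh.DEt X,
        (EtCoh.push i).mapDerivedCategory.essImage K ↔
          ∀ n : ℤ, IsZero ((EtCoh.pull j).obj (DCoh.HDEt K n)) := by
  haveI : PreservesFilteredColimitsOfSize.{u, u} (forget AddCommGrpCat.{u + 1}) :=
    Groth.Agent.Lib.EtSite.Stalk.preservesFilteredColimits_forget_addCommGrp
  haveI := Groth.Agent.Lib.EtJ.PullExact.pull_preservesFiniteLimits i
  haveI : (EtCoh.push i).IsRightAdjoint := (EtCoh.pullPushAdj i).isRightAdjoint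
  haveI : (EtCoh.pull i).Additive := (EtCoh.pullPushAdj i).left_adjoint_additive
  haveI : PreservesFiniteColimits (EtCoh.pull i) :=
    have : PreservesColimitsOfSize.{0, 0} (EtCoh.pull i) :=
      (EtCoh.pullPushAdj i).leftAdjoint_preservesColimits
    PreservesColimitsOfSize.preservesFiniteColimits _
  haveI : PreservesFiniteLimits (EtCoh.push i) :=
    have : PreservesLimitsOfSize.{0, 0} (EtCoh.push i) :=
      (EtCoh.pullPushAdj i).rightAdjoint_preservesLimits
    PreservesLimitsOfSize.preservesFiniteLimits _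
  have hc : IsIso (EtCoh.pullPushAdj i).counit :=
    Groth.Agent.Lib.EtSite.Immersion.isIso_counit_of_isClosedImmersion
      (A := AddCommGrpCat.{u + 1}) i
  refine ⟨Groth.Agent.H88.Hom.DerivedFF.full_and_faithful (EtCoh.pullPushAdj i) hc, fun K => ?_⟩
  refine (Groth.Agent.H88.Hom.DerivedFF.essImage_iff (EtCoh.pullPushAdj i) hc K).trans
    (forall_congr' fun n => ?_)
  change (EtCoh.push i).essImage (DCoh.HDEt K n) ↔ IsZero ((EtCoh.pull j).obj (DCoh.HDEt K n))
  generalize DCoh.HDEt K n = F
  have key : ∀ {Ω : Type u} [Field Ω] [IsSepClosed Ω] (ξ : Spec (CommRingCat.of Ω) ⟶ U),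
      Nonempty ((Scheme.pointSmallEtale ξ).sheafFiber.obj ((EtCoh.pull j).obj F) ≅
        (Scheme.pointSmallEtale (ξ ≫ j)).sheafFiber.obj F) := fun ξ =>
    ⟨(Groth.Agent.Lib.EtSite.Pull.stalkPullIso j ξ AddCommGrpCat.{u + 1}).app F⟩
  constructor
  · rintro ⟨G, ⟨e⟩⟩
    have hzero : IsIso (0 : (EtCoh.pull j).obj F ⟶ (EtCoh.pull j).obj F) := by
      refine Groth.Agent.Lib.EtSite.Stalk.isIso_of_stalks _
        (Groth.Agent.Lib.EtSite.Stalk.enoughPts_pt fun x => ?_)
      obtain ⟨k⟩ := key (Groth.Agent.Lib.EtSite.Basic.geomPoint U x)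
      have hs : Subsingleton ↥((Scheme.pointSmallEtale
          (Groth.Agent.Lib.EtSite.Basic.geomPoint U x)).sheafFiber.obj ((EtCoh.pull j).obj F)) := by
        refine (k ≪≫ (Scheme.pointSmallEtale
          (Groth.Agent.Lib.EtSite.Basic.geomPoint U x ≫ j)).sheafFiber.mapIso e.symm
          ).addCommGroupIsoToAddEquiv.toEquiv.subsingleton_congr.2 ⟨fun a b => ?_⟩
        refine Groth.Agent.Lib.EtSite.Immersion.stalk_push_eq_of_disjoint i ?_ G a b
        intro hx
        have hmem : j.base ((Groth.Agent.Lib.EtSite.Basic.geomPoint U x).base default) ∈ Set.range j :=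
          ⟨_, rfl⟩
        rw [hZU] at hmem
        exact hmem (Scheme.Hom.comp_apply _ j _ ▸ hx)
      exact ⟨fun a b _ => hs.elim a b, fun b => ⟨0, hs.elim _ b⟩⟩
    rw [IsZero.iff_id_eq_zero]
    exact (cancel_epi (0 : (EtCoh.pull j).obj F ⟶ (EtCoh.pull j).obj F)).1 (by simp)
  · intro h
    refine (Groth.Agent.Lib.EtSite.ClosedEssImage.essImage_iff i F).2
      (Groth.Agent.Lib.EtSite.ClosedEssImage.isIso_unit i F fun x hx => ?_)
    obtain ⟨y, rfl⟩ : x ∈ Set.range j := by rw [hZU]; exact hx
    obtain ⟨k⟩ := key (Groth.Agent.Lib.EtSite.Basic.geomPoint U y)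
    refine ⟨_, inferInstance, inferInstance, Groth.Agent.Lib.EtSite.Basic.geomPoint U y ≫ j, ?_, ?_, ⟨0⟩⟩
    · rw [Scheme.Hom.comp_apply, Groth.Agent.Lib.EtSite.Basic.geomPoint_apply]
    · exact AddCommGrpCat.subsingleton_of_isZero
        ((Functor.map_isZero (Scheme.pointSmallEtale _).sheafFiber h).of_iso k.symm)

end Groth.Agent.S6659
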