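import Groth.Statements.S6660
import Groth.Agent.H41.BCMonoAlg
import Groth.Agent.Lib.EtSite.BCCmp.Etale
import Groth.Agent.Lib.EtSite.AcyclicCrit
import Groth.Agent.Lib.EtJ.PullExact

set_option autoImplicit false
universe u
open CategoryTheory CategoryTheory.Limits AlgebraicGeometry Opposite
open EtBC

namespace Groth.Agent.S6660

open Groth.Agent.Lib.EtSite Groth.Agent.H41

theorem nsmul_id_eq_zero {T : Scheme.{u}} {F : EtCoh.Ab T} {n : ℕ} (h : EtCoh.KilledBy n F) :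
    (n • 𝟙 F : F ⟶ F) = 0 := by
  ext W s
  exact h W.unop s

theorem killedBy_of_epi {T : Scheme.{u}} {Q Q' : EtCoh.Ab T} (π : Q ⟶ Q') [Epi π] {n : ℕ}
    (h : EtCoh.KilledBy n Q) : EtCoh.KilledBy n Q' := by
  have h1 : π ≫ (n • 𝟙 Q' : Q' ⟶ Q') = 0 := by
    rw [Preadditive.comp_nsmul, Category.comp_id, ← Category.id_comp π, ← Preadditive.nsmul_comp,
      nsmul_id_eq_zero h, zero_comp]
  have h2 : (n • 𝟙 Q' : Q' ⟶ Q') = 0 := (cancel_epi π).1 (h1.trans comp_zero.symm)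
  intro W s
  exact ConcreteCategory.congr_hom (congrArg (fun m : Q' ⟶ Q' => m.hom.app (op W)) h2) s

theorem exists_embedding {T S' : Scheme.{u}} (g : T ⟶ S') (n r : ℕ) (F : EtCoh.Ab T)
    (hF : EtCoh.KilledBy n F) :
    ∃ (G : EtCoh.Ab T) (u : F ⟶ G), Mono u ∧ EtCoh.KilledBy n G ∧
      IsZero ((EtCoh.Rpush g (r + 1)).obj G) := by
  rcases eq_or_ne n 0 with hn | hn
  · exact ⟨Injective.under F, Injective.ι F, inferInstance, fun U s => by rw [hn, zero_nsmul],
      Functor.isZero_rightDerived_obj_injective_succ _ r _⟩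
  let I := Injective.under F
  have h0 : Injective.ι F ≫ (n • 𝟙 I) = 0 := by
    rw [Preadditive.comp_nsmul, Category.comp_id, ← Category.id_comp (Injective.ι F),
      ← Preadditive.nsmul_comp, nsmul_id_eq_zero hF, zero_comp]
  refine ⟨kernel (n • 𝟙 I), kernel.lift _ _ h0, mono_of_mono_fac (kernel.lift_ι _ _ h0),
    fun U s => TorsionInj.kernel_killed n I (op U) s, ?_⟩
  refine AcyclicCrit.isZero_Rpush_of_vanish g (r + 1) _ (fun W _ => ?_) (r + 1) (by omega) le_rfl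
  haveI : Etale W.hom := W.prop
  refine ⟨pullback g W.hom, pullback.fst _ _, inferInstance,
    AcyclicCrit.objIso g (IsPullback.of_hasPullback g W.hom), fun q hq _ => ?_⟩
  obtain ⟨q, rfl⟩ : ∃ m, q = m + 1 := ⟨q - 1, by omega⟩
  exact ⟨fun x y => (TorsionInj.ext_kernel _ I hn q x).trans (TorsionInj.ext_kernel _ I hn q y).symm⟩

/-- Let f : X → S be a morphism of schemes and n, q integers with q ≥ 1, and assume BC(f, n, q − 1).
Here BC(f, n, q − 1) means: for every base change f₁ : X₁ → S₁ of f along a morphism S₁ → S, every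
cartesian square Y₁ = X₁ ×_{S₁} T₁ over a quasi-compact quasi-separated g₁ : T₁ → S₁ (with h₁ : Y₁ →
X₁, e₁ : Y₁ → T₁), and every abelian sheaf G on the small etale site of T₁ killed by n, the base
change map f₁⁻¹ R^a g₁,_* G → R^a h₁,_* e₁⁻¹ G is an isomorphism for all a ≤ q − 1. Then for every
base change f' : X' → S' of f, every cartesian square Y = X' ×_{S'} T over a quasi-compact
quasi-separated g : T → S' (h : Y → X', e : Y → T) and every abelian sheaf F on the small etale site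
of T killed by n: (1) the degree-q base change map f'⁻¹ R^q g_* F → R^q h_* e⁻¹ F is a monomorphism;
(2) for every monomorphism F → G with G killed by n, the map from the cokernel of the degree-q base
change map for F to the cokernel of the one for G induced by F → G is a monomorphism. -/
theorem result {X S : Scheme.{u}} (f : X ⟶ S) (n q : ℕ) (hq : 1 ≤ q)
    (hBC : (∀ ⦃S₁ X₁ T₁ Y₁ : Scheme.{u}⦄ (p₁ : S₁ ⟶ S) (f₁ : X₁ ⟶ S₁) (r₁ : X₁ ⟶ X),
        IsPullback r₁ f₁ f p₁ →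
        ∀ (g₁ : T₁ ⟶ S₁) (h₁ : Y₁ ⟶ X₁) (e₁ : Y₁ ⟶ T₁) (c₁ : IsPullback e₁ h₁ g₁ f₁)
          [QuasiCompact g₁] [QuasiSeparated g₁] [PreservesFiniteLimits (EtCoh.pull e₁)]
          (G₁ : EtCoh.Ab T₁), EtCoh.KilledBy n G₁ →
          ∀ q₁ : ℕ, q₁ ≤ q - 1 → IsIso (EtBC.bcQ g₁ f₁ h₁ e₁ c₁.w q₁ G₁)))
    {S' X' T Y : Scheme.{u}} (p : S' ⟶ S) (f' : X' ⟶ S') (r : X' ⟶ X) (hX : IsPullback r f' f p)
    (g : T ⟶ S') (h : Y ⟶ X') (e : Y ⟶ T) (c : IsPullback e h g f') [QuasiCompact g] [QuasiSeparated g]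
    [PreservesFiniteLimits (EtCoh.pull e)] (F : EtCoh.Ab T) (hF : EtCoh.KilledBy n F) :
    Mono (EtBC.bcQ g f' h e c.w q F) ∧
      ∀ (G : EtCoh.Ab T) (ι : F ⟶ G) [Mono ι], EtCoh.KilledBy n G →
        ∃ φ : cokernel (EtBC.bcQ g f' h e c.w q F) ⟶ cokernel (EtBC.bcQ g f' h e c.w q G), Mono φ ∧
          cokernel.π (EtBC.bcQ g f' h e c.w q F) ≫ φ =
            (EtCoh.Rpush h q).map ((EtCoh.pull e).map ι) ≫ cokernel.π (EtBC.bcQ g f' h e c.w q G) := by
  obtain ⟨r₀, rfl⟩ : ∃ m, q = m + 1 := ⟨q - 1, by omega⟩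
  haveI : EnoughInjectives (EtCoh.Ab T) := inferInstance
  have hiso : ∀ G : EtCoh.Ab T, EtCoh.KilledBy n G → IsIso (EtBC.bcQ g f' h e c.w r₀ G) :=
    fun G hG => hBC p f' r hX g h e c G hG r₀ (by omega)
  have hmono : ∀ G : EtCoh.Ab T, EtCoh.KilledBy n G →
      Mono (EtBC.bcQ g f' h e c.w (r₀ + 1) G) := by
    intro G hG
    obtain ⟨G₁, u, _, hG₁, hz⟩ := exists_embedding g n r₀ G hG
    let S := ShortComplex.mk u (cokernel.π u) (cokernel.condition u)
    have hS : S.ShortExact := { exact := ShortComplex.exact_cokernel u }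
    haveI := hiso G₁ hG₁
    haveI := hiso (cokernel u) (killedBy_of_epi (cokernel.π u) hG₁)
    exact BCMonoAlg.mono_bc (EtCoh.pullPushAdj f') (EtCoh.pullPushAdj e)
      (BCCmp.Etale.sq g f' h e c.w) (S := S) hS r₀ hz
      (inferInstanceAs (Epi (EtBC.bcQ g f' h e c.w r₀ G₁)))
      (inferInstanceAs (Mono (EtBC.bcQ g f' h e c.w r₀ (cokernel u))))
  refine ⟨hmono F hF, fun G ι _ hG => ?_⟩
  let S := ShortComplex.mk ι (cokernel.π ι) (cokernel.condition ι)
  have hS : S.ShortExact := { exact := ShortComplex.exact_cokernel ι }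
  have hC := killedBy_of_epi (cokernel.π ι) hG
  haveI := hiso (cokernel ι) hC
  exact BCMonoAlg.exists_mono_cokernel (EtCoh.pullPushAdj f') (EtCoh.pullPushAdj e)
    (BCCmp.Etale.sq g f' h e c.w) (S := S) hS r₀
    (inferInstanceAs (Epi (EtBC.bcQ g f' h e c.w r₀ (cokernel ι))))
    (hmono (cokernel ι) hC)

end Groth.Agent.S6660
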