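import Groth.Statements.S6661
import Groth.Agent.Lib.EtSite.BCSeq

set_option autoImplicit false
universe u
open CategoryTheory CategoryTheory.Limits AlgebraicGeometry Opposite
open EtBC

namespace Groth.Agent.S6661

/-- Let f : X → S be a morphism of schemes, n and q ≥ 1 integers, and assume BC(f, n, q − 1). Here BC(f,
n, q − 1) means: for every base change f₁ : X₁ → S₁ of f along a morphism S₁ → S, every cartesian
square Y₁ = X₁ ×_{S₁} T₁ over a quasi-compact quasi-separated g₁ : T₁ → S₁ (with h₁ : Y₁ → X₁, e₁ :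
Y₁ → T₁), and every abelian sheaf G on the small etale site of T₁ killed by n, the base change map
f₁⁻¹ R^a g₁,_* G → R^a h₁,_* e₁⁻¹ G is an isomorphism for all a ≤ q − 1. Let f' : X' → S' be a base
change of f, Y = X' ×_{S'} T a cartesian square over a quasi-compact quasi-separated g : T → S' (h :
Y → X', e : Y → T), π : T' → T integral and surjective, Y' = Y ×_T T' (π' : Y' → Y, e' : Y' → T'),
so that the composite square Y' → X' over T' → S' is cartesian too, and F an abelian sheaf on the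
small etale site of T killed by n. If the degree-q base change map for the composite square and the
sheaf π⁻¹ F is an isomorphism, then the degree-q base change map f'⁻¹ R^q g_* F → R^q h_* e⁻¹ F is
an isomorphism. -/
theorem result {X S : Scheme.{u}} (f : X ⟶ S) (n q : ℕ) (hq : 1 ≤ q)
    (hBC : (∀ ⦃S₁ X₁ T₁ Y₁ : Scheme.{u}⦄ (p₁ : S₁ ⟶ S) (f₁ : X₁ ⟶ S₁) (r₁ : X₁ ⟶ X),
        IsPullback r₁ f₁ f p₁ →
        ∀ (g₁ : T₁ ⟶ S₁) (h₁ : Y₁ ⟶ X₁) (e₁ : Y₁ ⟶ T₁) (c₁ : IsPullback e₁ h₁ g₁ f₁)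
          [QuasiCompact g₁] [QuasiSeparated g₁] [PreservesFiniteLimits (EtCoh.pull e₁)]
          (G₁ : EtCoh.Ab T₁), EtCoh.KilledBy n G₁ →
          ∀ q₁ : ℕ, q₁ ≤ q - 1 → IsIso (EtBC.bcQ g₁ f₁ h₁ e₁ c₁.w q₁ G₁)))
    {S' X' T Y T' Y' : Scheme.{u}} (p : S' ⟶ S) (f' : X' ⟶ S') (r : X' ⟶ X) (hX : IsPullback r f' f p)
    (g : T ⟶ S') (h : Y ⟶ X') (e : Y ⟶ T) (c : IsPullback e h g f') [QuasiCompact g] [QuasiSeparated g]
    (π : T' ⟶ T) [IsIntegralHom π] [Surjective π] (π' : Y' ⟶ Y) (e' : Y' ⟶ T') (c' : IsPullback e' π' π e)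
    (c'' : IsPullback e' (π' ≫ h) (π ≫ g) f')
    [PreservesFiniteLimits (EtCoh.pull e)] [PreservesFiniteLimits (EtCoh.pull e')]
    (F : EtCoh.Ab T) (hF : EtCoh.KilledBy n F)
    (hiso : IsIso (EtBC.bcQ (π ≫ g) f' (π' ≫ h) e' c''.w q ((EtCoh.pull π).obj F))) :
    IsIso (EtBC.bcQ g f' h e c.w q F) := by
  obtain ⟨q, rfl⟩ : ∃ m, q = m + 1 := ⟨q - 1, by omega⟩
  refine Groth.Agent.Lib.EtSite.BCSeq.isIso_bcQ_of_integral_surjective g f' h e c.w π π' e' c' c''.w
    (n := n) q (fun G hG => ?_) F ((Groth.Agent.Lib.EtSite.BCSeq.killedBy_iff n F).1 hF) hiso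
  exact hBC p f' r hX g h e c G ((Groth.Agent.Lib.EtSite.BCSeq.killedBy_iff n G).2 hG) q (le_of_eq (Nat.add_sub_cancel q 1).symm)

end Groth.Agent.S6661
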