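import Groth.Statements.S6666
import Groth.Agent.H69.MinimalClosed
-- import your own Groth.Agent.* helpers here

set_option autoImplicit false
universe u
open CategoryTheory AlgebraicGeometry
open Lim

namespace Groth.Agent.S6666

/-- Let T be a nonempty quasi-compact quasi-separated scheme and P a property of schemes over T (applied
to quasi-compact quasi-separated ones). Assume: (1) for every thickening T'' → T' (a surjective
closed immersion) of quasi-compact quasi-separated schemes over T, P(T'') if and only if P(T'); (2)
if a scheme T' over T is a limit (in schemes over T) of a cofiltered system of quasi-compact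
quasi-separated schemes over T with affine transition morphisms and P holds for every member, then
P(T'); (3) if T' is quasi-compact quasi-separated over T with P(T') and Z ⊂ T' is a closed subscheme
whose open complement V is quasi-compact, then P(V) or P(Z). Then P(T) implies P(Spec K → T) for
some field K and some morphism Spec K → T. (The published statement does not require T nonempty; for
T empty and P identically true there is no morphism from the spectrum of a field to T, so
nonemptiness is assumed here.) -/
theorem result (T : Scheme.{u}) [CompactSpace T] [QuasiSeparatedSpace T]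
    [Nonempty T] (P : ∀ ⦃T' : Scheme.{u}⦄, (T' ⟶ T) → Prop)
    (h1 : ∀ ⦃T' T'' : Scheme.{u}⦄ (a : T' ⟶ T) (t : T'' ⟶ T') [IsClosedImmersion t] [Surjective t]
      [CompactSpace T'] [QuasiSeparatedSpace T'] [CompactSpace T''] [QuasiSeparatedSpace T''], P (t ≫ a) ↔ P a)
    (h2 : ∀ ⦃I : Type u⦄ [SmallCategory I] [IsCofiltered I] (D : I ⥤ Over T) (c : Limits.Cone D) (_ : Limits.IsLimit c),
      (∀ (i j : I) (m : i ⟶ j), IsAffineHom (D.map m).left) →
      (∀ i, CompactSpace (D.obj i).left ∧ QuasiSeparatedSpace (D.obj i).left) →
      (∀ i, P (D.obj i).hom) → P c.pt.hom)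
    (h3 : ∀ ⦃T' Z V : Scheme.{u}⦄ (a : T' ⟶ T) [CompactSpace T'] [QuasiSeparatedSpace T'] (i : Z ⟶ T') [IsClosedImmersion i]
      (j : V ⟶ T') [IsOpenImmersion j] [CompactSpace V], Set.range j = (Set.range i)ᶜ → P a → P (j ≫ a) ∨ P (i ≫ a))
    (hT : P (𝟙 T)) :
    ∃ (K : Type u) (_ : Field K) (t : Spec (CommRingCat.of K) ⟶ T), P t := by
  exact H69.MinimalClosed.exists_field P h1 h2 h3 hT

end Groth.Agent.S6666
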