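import Groth.Statements.S6668
import Groth.Agent.Lib.EtSite.EtBCQ

set_option autoImplicit false
universe u
open CategoryTheory CategoryTheory.Limits AlgebraicGeometry Opposite
open EtBC
open Groth.Agent.Lib.EtSite

namespace Groth.Agent.S6668

/-- Let Y = X ×_S T be a cartesian square of schemes with f : X → S, g : T → S, h : Y → X, e : Y → T,
let F be an abelian sheaf on the small etale site of T and q ≥ 0. Let (U_i → X) be a jointly
surjective family of etale X-schemes such that every U_i → S factors as a_i : U_i → V_i followed by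
an etale V_i → S, and let T_i = V_i ×_S T (projections g_i : T_i → V_i, t_i : T_i → T) and Y_i = U_i
×_{V_i} T_i (projections h_i : Y_i → U_i, e_i : Y_i → T_i). If for every i the degree-q base change
map a_i⁻¹ R^q g_i,_* (t_i⁻¹ F) → R^q h_i,_* e_i⁻¹ (t_i⁻¹ F) is an isomorphism, then the degree-q
base change map f⁻¹ R^q g_* F → R^q h_* e⁻¹ F is an isomorphism. -/
theorem result {X S Y T : Scheme.{u}} (f : X ⟶ S) (g : T ⟶ S) (h : Y ⟶ X) (e : Y ⟶ T)
    (c : IsPullback e h g f) [PreservesFiniteLimits (EtCoh.pull e)] (F : EtCoh.Ab T) (q : ℕ)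
    {ι : Type u} (U : ι → X.Etale) (hU : EtCoh.Covers U) (V : ι → S.Etale)
    (a : ∀ i, (U i).left ⟶ (V i).left) (ha : ∀ i, a i ≫ (V i).hom = (U i).hom ≫ f)
    (Ti Yi : ι → Scheme.{u}) (gi : ∀ i, Ti i ⟶ (V i).left) (ti : ∀ i, Ti i ⟶ T)
    (cT : ∀ i, IsPullback (ti i) (gi i) g (V i).hom)
    (hi : ∀ i, Yi i ⟶ (U i).left) (ei : ∀ i, Yi i ⟶ Ti i) (cY : ∀ i, IsPullback (ei i) (hi i) (gi i) (a i))
    [∀ i, PreservesFiniteLimits (EtCoh.pull (ei i))]
    (hloc : ∀ i, IsIso (EtBC.bcQ (gi i) (a i) (hi i) (ei i) (cY i).w q ((EtCoh.pull (ti i)).obj F))) :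
    IsIso (EtBC.bcQ g f h e c.w q F) := by
  refine EtBCQ.isIso_of_pull _ U hU fun i => ?_
  have hUe : Etale (U i).hom := (U i).prop
  have hVe : Etale (V i).hom := (V i).prop
  have hte : Etale (ti i) := MorphismProperty.of_isPullback (P := @Etale) (cT i).flip hVe
  have w' : (ei i ≫ ti i) ≫ g = (hi i ≫ (U i).hom) ≫ f := by
    rw [Category.assoc, (cT i).w, ← Category.assoc, (cY i).w, Category.assoc, ha, Category.assoc]
  let ki := c.lift (ei i ≫ ti i) (hi i ≫ (U i).hom) w'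
  have hb : ki ≫ e = ei i ≫ ti i := c.lift_fst _ _ _
  have w₃ : ki ≫ h = hi i ≫ (U i).hom := c.lift_snd _ _ _
  have sq₃ : IsPullback ki (hi i) h (U i).hom := by
    have big : IsPullback (ki ≫ e) (hi i) g ((U i).hom ≫ f) := by
      rw [hb, ← ha]
      exact (cY i).paste_horiz (cT i)
    exact big.of_right w₃ c
  have hke : Etale ki := MorphismProperty.of_isPullback (P := @Etale) sq₃.flip hUe
  have w'' : (ki ≫ e) ≫ g = hi i ≫ (U i).hom ≫ f := by rw [hb, w', Category.assoc]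
  have w₂ : (ei i ≫ ti i) ≫ g = hi i ≫ a i ≫ (V i).hom := by rw [w', ha, Category.assoc]
  refine (EtBCQ.isIso_comp_iff f g h e c.w (U i).hom (hi i) ki w₃ w'' F q
    (EtBCQ.isIso_bcQ_etale sq₃ _ q)).1 ?_
  refine EtBCQ.isIso_congr g (hi i) (ha i) hb.symm w₂ w'' F q ?_
  have := EtBCQ.isIso_bcQ_etale (cT i) F q
  exact (EtBCQ.isIso_comp_iff (V i).hom g (gi i) (ti i) (cT i).w (a i) (hi i) (ei i) (cY i).w w₂ F q
    (hloc i)).2 inferInstance

end Groth.Agent.S6668
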