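import Groth.Statements.S6669
import Groth.Agent.Lib.EtSite.DerivedBC
import Groth.Agent.Lib.EtSite.BaseChange

set_option autoImplicit false
set_option maxHeartbeats 1000000
universe u
open CategoryTheory CategoryTheory.Limits AlgebraicGeometry Opposite
open EtBC

namespace Groth.Agent.S6669

noncomputable section

open Groth.Agent.Lib.EtSite

theorem ext3 {S T Y Z : Scheme.{u}} {g : T ⟶ S} {e : Y ⟶ T} {k : Z ⟶ Y} {V : S.Etale} {A : Z.Etale}
    (a b : A ⟶ (EtCoh.bc k).obj ((EtCoh.bc e).obj ((EtCoh.bc g).obj V)))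
    (he : a.left ≫ pullback.fst ((EtCoh.bc e).obj ((EtCoh.bc g).obj V)).hom k ≫
        pullback.fst ((EtCoh.bc g).obj V).hom e ≫ pullback.fst V.hom g =
      b.left ≫ pullback.fst ((EtCoh.bc e).obj ((EtCoh.bc g).obj V)).hom k ≫
        pullback.fst ((EtCoh.bc g).obj V).hom e ≫ pullback.fst V.hom g) : a = b := by
  have h1 : a.left ≫ pullback.snd ((EtCoh.bc e).obj ((EtCoh.bc g).obj V)).hom k =
      b.left ≫ pullback.snd ((EtCoh.bc e).obj ((EtCoh.bc g).obj V)).hom k :=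
    (Over.w a.hom).trans (Over.w b.hom).symm
  have h3 : a.left ≫ pullback.fst ((EtCoh.bc e).obj ((EtCoh.bc g).obj V)).hom k ≫
      pullback.snd ((EtCoh.bc g).obj V).hom e =
    b.left ≫ pullback.fst ((EtCoh.bc e).obj ((EtCoh.bc g).obj V)).hom k ≫
      pullback.snd ((EtCoh.bc g).obj V).hom e :=
    (a.left ≫= pullback.condition).trans (((Category.assoc _ _ _).symm.trans ((congrArg (· ≫ k) h1).trans
      (Category.assoc _ _ _))).trans (b.left ≫= pullback.condition).symm)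
  have h4 : a.left ≫ pullback.fst ((EtCoh.bc e).obj ((EtCoh.bc g).obj V)).hom k ≫
      pullback.fst ((EtCoh.bc g).obj V).hom e ≫ pullback.snd V.hom g =
    b.left ≫ pullback.fst ((EtCoh.bc e).obj ((EtCoh.bc g).obj V)).hom k ≫
      pullback.fst ((EtCoh.bc g).obj V).hom e ≫ pullback.snd V.hom g := by
    have h5 := congrArg (· ≫ e) h3
    simp only [Category.assoc] at h5
    exact (a.left ≫= (_ ≫= pullback.condition)).trans (h5.trans (b.left ≫= (_ ≫= pullback.condition)).symm)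
  refine MorphismProperty.Over.Hom.ext (pullback.hom_ext (pullback.hom_ext (pullback.hom_ext ?_ ?_) ?_) h1)
  · exact ((Category.assoc _ _ _).trans (Category.assoc _ _ _)).trans
      (he.trans ((Category.assoc _ _ _).trans (Category.assoc _ _ _)).symm)
  · exact ((Category.assoc _ _ _).trans (Category.assoc _ _ _)).trans
      (h4.trans ((Category.assoc _ _ _).trans (Category.assoc _ _ _)).symm)
  · exact (Category.assoc _ _ _).trans (h3.trans (Category.assoc _ _ _).symm)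

theorem sqIso_app {X S X' S' : Scheme.{u}} {f : X ⟶ S} {g : S' ⟶ S} {f' : X' ⟶ S'} {g' : X' ⟶ X}
    (w : g' ≫ f = f' ≫ g) (F : EtCoh.Ab X') (V : S.Etale) :
    ((EtCoh.pushComp f g' ≪≫ EtCoh.pushCongr w ≪≫ (EtCoh.pushComp g f').symm).hom.app F).hom.app (op V) =
      F.obj.map (BaseChange.cmp w V).hom.op := by
  simp only [EtCoh.pushComp, EtCoh.pushCongr, BaseChange.cmp, op_comp, Functor.map_comp, Category.assoc]
  simp
  rfl

theorem pushComp_app {X Y Z : Scheme.{u}} (f : X ⟶ Y) (g : Z ⟶ X) (F : EtCoh.Ab Z) (V : Y.Etale) :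
    ((EtCoh.pushComp f g).hom.app F).hom.app (op V) =
      F.obj.map ((MorphismProperty.Over.pullbackComp (P := EtCoh.etaleMP) (Q := ⊤) g f).hom.app V).op := by
  simp only [EtCoh.pushComp]
  simp
  rfl

theorem square_compat {X S Y T W Z : Scheme.{u}} (f : X ⟶ S) (g : T ⟶ S) (h : Y ⟶ X) (e : Y ⟶ T)
    (i : W ⟶ X) (j : Z ⟶ W) (k : Z ⟶ Y) (w : e ≫ g = h ≫ f) (w' : k ≫ h = j ≫ i)
    (w'' : (k ≫ e) ≫ g = j ≫ i ≫ f) (H : EtCoh.Ab Z) :
    ((EtCoh.pushComp g e ≪≫ EtCoh.pushCongr w ≪≫ (EtCoh.pushComp f h).symm).hom.app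
        ((EtCoh.push k).obj H) ≫ (EtCoh.push f).map
      ((EtCoh.pushComp h k ≪≫ EtCoh.pushCongr w' ≪≫ (EtCoh.pushComp i j).symm).hom.app H)) ≫
      (EtCoh.pushComp f i).hom.app ((EtCoh.push j).obj H) =
    (EtCoh.push g).map ((EtCoh.pushComp e k).hom.app H) ≫
      (EtCoh.pushComp g (k ≫ e) ≪≫ EtCoh.pushCongr w'' ≪≫ (EtCoh.pushComp (i ≫ f) j).symm).hom.app H := by
  apply Sheaf.hom_ext
  apply NatTrans.ext
  funext V
  obtain ⟨V⟩ := V
  let pfi := (MorphismProperty.Over.pullbackComp (P := EtCoh.etaleMP) (Q := ⊤) i f).hom.app V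
  let pek := (MorphismProperty.Over.pullbackComp (P := EtCoh.etaleMP) (Q := ⊤) k e).hom.app
    ((EtCoh.bc g).obj V)
  have e1 := sqIso_app w ((EtCoh.push k).obj H) V
  have e2 := sqIso_app w' H ((EtCoh.bc f).obj V)
  have e3 := pushComp_app f i ((EtCoh.push j).obj H) V
  have e4 := pushComp_app e k H ((EtCoh.bc g).obj V)
  have e5 := sqIso_app w'' H V
  refine (congrArg₂ (· ≫ ·) (congrArg₂ (· ≫ ·) e1 e2) e3).trans
    (Eq.trans ?_ (congrArg₂ (· ≫ ·) e4 e5).symm)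
  have em : (EtCoh.bc j).map pfi ≫ (BaseChange.cmp w' ((EtCoh.bc f).obj V)).hom ≫
      (EtCoh.bc k).map (BaseChange.cmp w V).hom = (BaseChange.cmp w'' V).hom ≫ pek := by
    apply ext3
    have c1 := (BaseChange.cmp w V).fst_fst
    have c2 := (BaseChange.cmp w' ((EtCoh.bc f).obj V)).fst_fst
    have c3 := (BaseChange.cmp w'' V).fst_fst
    have p1 := MorphismProperty.Over.pullbackComp_left_fst_fst (P := EtCoh.etaleMP) (Q := ⊤) i f V
    have p2 := MorphismProperty.Over.pullbackComp_left_fst_fst (P := EtCoh.etaleMP) (Q := ⊤) k e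
      ((EtCoh.bc g).obj V)
    have m1 : ((EtCoh.bc k).map (BaseChange.cmp w V).hom).left ≫
        pullback.fst ((EtCoh.bc e).obj ((EtCoh.bc g).obj V)).hom k =
        pullback.fst _ k ≫ (BaseChange.cmp w V).hom.left := pullback.lift_fst _ _ _
    have m2 : ((EtCoh.bc j).map pfi).left ≫ pullback.fst ((EtCoh.bc i).obj ((EtCoh.bc f).obj V)).hom j =
        pullback.fst _ j ≫ pfi.left := pullback.lift_fst _ _ _
    change (((EtCoh.bc j).map pfi).left ≫ (BaseChange.cmp w' ((EtCoh.bc f).obj V)).hom.left ≫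
      ((EtCoh.bc k).map (BaseChange.cmp w V).hom).left) ≫ _ =
      ((BaseChange.cmp w'' V).hom.left ≫ pek.left) ≫ _
    refine ((Category.assoc _ _ _).trans ((_ ≫= (Category.assoc _ _ _).trans (_ ≫=
      ((Category.assoc _ _ _).symm.trans ((eq_whisker m1 _).trans
        ((Category.assoc _ _ _).trans (_ ≫= c1)))))))).trans ?_
    refine ((_ ≫= ((_ ≫= (Category.assoc _ _ _).symm).trans ((Category.assoc _ _ _).symm.trans
      ((eq_whisker c2 _).trans (Category.assoc _ _ _))))).trans ((Category.assoc _ _ _).symm.trans ((eq_whisker m2 _).trans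
      ((Category.assoc _ _ _).trans (_ ≫= p1))))).trans ?_
    exact c3.symm.trans ((_ ≫= ((eq_whisker p2 _).symm.trans ((Category.assoc _ _ _).trans
      (_ ≫= Category.assoc _ _ _)))).trans (Category.assoc _ _ _).symm)
  refine (Category.assoc _ _ _).trans ?_
  exact (_ ≫= (H.obj.map_comp _ _).symm).trans ((H.obj.map_comp _ _).symm.trans
    ((congrArg (fun m => H.obj.map m.op) em).trans (H.obj.map_comp _ _)))

section Transpose

variable {C D E : Type*} [Category C] [Category D] [Category E] {L₁ : C ⥤ D} {R₁ : D ⥤ C}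
  {L₂ : D ⥤ E} {R₂ : E ⥤ D} {L₃ : C ⥤ E} {R₃ : E ⥤ C}

theorem unit_comp (a₁ : L₁ ⊣ R₁) (a₂ : L₂ ⊣ R₂) (a₃ : L₃ ⊣ R₃) (c : R₂ ⋙ R₁ ≅ R₃) (P : C) :
    ((a₁.unit.app P ≫ R₁.map (a₂.unit.app (L₁.obj P))) ≫ c.hom.app (L₂.obj (L₁.obj P))) ≫
      R₃.map ((((a₁.comp a₂).ofNatIsoRight c).leftAdjointUniq a₃).hom.app P) = a₃.unit.app P := by
  rw [← Adjunction.unit_leftAdjointUniq_hom_app ((a₁.comp a₂).ofNatIsoRight c) a₃ P]
  simp [Adjunction.ofNatIsoRight, Adjunction.comp]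

theorem transpose_comp (a₁ : L₁ ⊣ R₁) (a₂ : L₂ ⊣ R₂) (a₃ : L₃ ⊣ R₃) (c : R₂ ⋙ R₁ ≅ R₃)
    {P : C} {M : D} {N N' : E} (A : P ⟶ R₁.obj M) (B : M ⟶ R₂.obj N) (t : N ⟶ N') :
    (((a₁.comp a₂).ofNatIsoRight c).leftAdjointUniq a₃).hom.app P ≫
        (a₃.homEquiv P N').symm (A ≫ R₁.map B ≫ c.hom.app N ≫ R₃.map t) =
      L₂.map ((a₁.homEquiv P M).symm A) ≫ (a₂.homEquiv M N).symm B ≫ t := by
  apply (((a₁.comp a₂).ofNatIsoRight c).homEquiv _ _).injective
  rw [Adjunction.homEquiv_unit, Functor.map_comp, ← Category.assoc,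
    Adjunction.unit_leftAdjointUniq_hom_app, ← Adjunction.homEquiv_unit, Equiv.apply_symm_apply,
    Adjunction.homEquiv_unit]
  have hB : a₂.unit.app (L₁.obj P) ≫ R₂.map (L₂.map ((a₁.homEquiv P M).symm A) ≫
      (a₂.homEquiv M N).symm B) = (a₁.homEquiv P M).symm A ≫ B := by
    refine (a₂.homEquiv_unit (f := _)).symm.trans ?_
    rw [Adjunction.homEquiv_naturality_left, Equiv.apply_symm_apply]
  have hA : a₁.unit.app P ≫ R₁.map ((a₁.homEquiv P M).symm A ≫ B) = A ≫ R₁.map B := by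
    rw [Functor.map_comp, ← Category.assoc]
    exact eq_whisker ((a₁.homEquiv_unit (f := _)).symm.trans (Equiv.apply_symm_apply _ _)) _
  have hu : ((a₁.comp a₂).ofNatIsoRight c).unit.app P =
      (a₁.unit.app P ≫ R₁.map (a₂.unit.app (L₁.obj P))) ≫ c.hom.app (L₂.obj (L₁.obj P)) := by
    simp [Adjunction.ofNatIsoRight, Adjunction.comp]
  refine Eq.symm ?_
  refine ((congrArg₂ (· ≫ ·) hu (congrArg R₃.map (Category.assoc _ _ _).symm)).trans ?_)
  refine (_ ≫= R₃.map_comp _ _).trans ?_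
  refine (Category.assoc _ _ _).trans ((_ ≫= ((Category.assoc _ _ _).symm.trans
    ((eq_whisker (c.hom.naturality _).symm _).trans (Category.assoc _ _ _)))).trans ?_)
  refine (Category.assoc _ _ _).symm.trans ?_
  refine Eq.trans ?_ (Category.assoc _ _ _)
  refine eq_whisker ?_ _
  refine (Category.assoc _ _ _).trans ?_
  exact (_ ≫= (R₁.map_comp _ _).symm.trans (congrArg R₁.map hB)).trans hA

end Transpose

/-- The statement for an abelian sheaf in degree q: consider a tower of cartesian squares of schemes, Y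
= X ×_S T with f : X → S, g : T → S, h : Y → X, e : Y → T, and Z = W ×_X Y with i : W → X, j : Z →
W, k : Z → Y, so that the outer rectangle Z = W ×_S T is cartesian. Let F be an abelian sheaf on the
small etale site of T and q ≥ 0. If the degree-q base change maps f⁻¹ R^q g_* F → R^q h_* e⁻¹ F and
i⁻¹ R^q h_* (e⁻¹ F) → R^q j_* k⁻¹ (e⁻¹ F) are isomorphisms, then the degree-q base change map (f ∘
i)⁻¹ R^q g_* F → R^q j_* (e ∘ k)⁻¹ F of the outer rectangle is an isomorphism. -/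
theorem result {X S Y T W Z : Scheme.{u}} (f : X ⟶ S) (g : T ⟶ S) (h : Y ⟶ X) (e : Y ⟶ T)
    (c : IsPullback e h g f) (i : W ⟶ X) (j : Z ⟶ W) (k : Z ⟶ Y) (c' : IsPullback k j h i)
    (c'' : IsPullback (k ≫ e) j g (i ≫ f))
    [PreservesFiniteLimits (EtCoh.pull e)] [PreservesFiniteLimits (EtCoh.pull k)]
    [PreservesFiniteLimits (EtCoh.pull (k ≫ e))] (F : EtCoh.Ab T) (q : ℕ)
    (h1 : IsIso (EtBC.bcQ g f h e c.w q F)) (h2 : IsIso (EtBC.bcQ h i j k c'.w q ((EtCoh.pull e).obj F))) :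
    IsIso (EtBC.bcQ g (i ≫ f) j (k ≫ e) c''.w q F) := by
  have hinj : (EtCoh.push k ⋙ EtCoh.push e).PreservesInjectiveObjects :=
    ⟨fun {Q} hQ => by
      haveI := hQ
      exact (EtCoh.push e).injective_obj ((EtCoh.push k).obj Q)⟩
  let adjc := ((EtCoh.pullPushAdj e).comp (EtCoh.pullPushAdj k)).ofNatIsoRight (EtCoh.pushComp e k)
  let θ := adjc.leftAdjointUniq (EtCoh.pullPushAdj (k ≫ e))
  let adji := ((EtCoh.pullPushAdj f).comp (EtCoh.pullPushAdj i)).ofNatIsoRight (EtCoh.pushComp f i)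
  let σ := adji.leftAdjointUniq (EtCoh.pullPushAdj (i ≫ f))
  let α : EtCoh.push e ⋙ EtCoh.push g ⟶ EtCoh.push h ⋙ EtCoh.push f :=
    (EtCoh.pushComp g e ≪≫ EtCoh.pushCongr c.w ≪≫ (EtCoh.pushComp f h).symm).hom
  let α' : EtCoh.push k ⋙ EtCoh.push h ⟶ EtCoh.push j ⋙ EtCoh.push i :=
    (EtCoh.pushComp h k ≪≫ EtCoh.pushCongr c'.w ≪≫ (EtCoh.pushComp i j).symm).hom
  let α'' : EtCoh.push (k ≫ e) ⋙ EtCoh.push g ⟶ EtCoh.push j ⋙ EtCoh.push (i ≫ f) :=
    (EtCoh.pushComp g (k ≫ e) ≪≫ EtCoh.pushCongr c''.w ≪≫ (EtCoh.pushComp (i ≫ f) j).symm).hom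
  let β : (EtCoh.push k ⋙ EtCoh.push e) ⋙ EtCoh.push g ⟶
      EtCoh.push j ⋙ EtCoh.push i ⋙ EtCoh.push f :=
    (Functor.associator _ _ _).hom ≫ Functor.whiskerLeft _ α ≫ (Functor.associator _ _ _).inv ≫
      Functor.whiskerRight α' _ ≫ (Functor.associator _ _ _).hom
  have hβ : ∀ H, β.app H = α.app ((EtCoh.push k).obj H) ≫ (EtCoh.push f).map (α'.app H) := fun H => by
    simp [β]
  have sq : ∀ H, β.app H ≫ (EtCoh.pushComp f i).hom.app ((EtCoh.push j).obj H) =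
      (EtCoh.push g).map ((EtCoh.pushComp e k).hom.app H) ≫ α''.app H := fun H => by
    rw [hβ]
    exact square_compat f g h e i j k c.w c'.w c''.w H
  let G := (EtCoh.pull e).obj F
  let H := (EtCoh.pull k).obj G
  have key : EtBC.bcQAdj g f h e c.w q F ≫ (EtCoh.push f).map (EtBC.bcQAdj h i j k c'.w q G) ≫
      (EtCoh.pushComp f i).hom.app _ ≫ (EtCoh.push (i ≫ f)).map ((EtCoh.Rpush j q).map (θ.hom.app F)) =
      EtBC.bcQAdj g (i ≫ f) j (k ≫ e) c''.w q F := by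
    change DerivedBC.bcMor α ((EtCoh.pullPushAdj e).unit.app F) q ≫
      (EtCoh.push f).map (DerivedBC.bcMor α' ((EtCoh.pullPushAdj k).unit.app G) q) ≫
      (EtCoh.pushComp f i).hom.app _ ≫ (EtCoh.push (i ≫ f)).map ((EtCoh.Rpush j q).map (θ.hom.app F)) =
      DerivedBC.bcMor α'' ((EtCoh.pullPushAdj (k ≫ e)).unit.app F) q
    rw [← Category.assoc, DerivedBC.bcMor_comp α α' β hβ, ← Category.assoc]
    erw [DerivedBC.bcMor_iso β α'' (EtCoh.pushComp e k).hom (EtCoh.pushComp f i).hom sq,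
      DerivedBC.bcMor_map α'']
    congr 1
    exact unit_comp (EtCoh.pullPushAdj e) (EtCoh.pullPushAdj k) (EtCoh.pullPushAdj (k ≫ e))
      (EtCoh.pushComp e k) F
  have tr : σ.hom.app ((EtCoh.Rpush g q).obj F) ≫ EtBC.bcQ g (i ≫ f) j (k ≫ e) c''.w q F =
      (EtCoh.pull i).map (EtBC.bcQ g f h e c.w q F) ≫ EtBC.bcQ h i j k c'.w q G ≫
        (EtCoh.Rpush j q).map (θ.hom.app F) := by
    dsimp only [EtBC.bcQ]
    rw [← key]
    exact transpose_comp (EtCoh.pullPushAdj f) (EtCoh.pullPushAdj i) (EtCoh.pullPushAdj (i ≫ f))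
      (EtCoh.pushComp f i) _ _ _
  haveI := h1
  haveI := h2
  exact IsIso.of_isIso_fac_left tr

end

end Groth.Agent.S6669
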