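import Groth.Statements.S6671
import Groth.Agent.Lib.EtSite.FactorBC
import Groth.Agent.Lib.EtSite.SetsFromAb

set_option autoImplicit false
set_option linter.style.haveILetI false
universe u
open CategoryTheory CategoryTheory.Limits AlgebraicGeometry Opposite
open EtBC

namespace Groth.Agent.S6671

/-- Let Y = X ×_S T be a cartesian square of schemes with f : X → S flat, g : T → S, h : Y → X, e : Y →
T. Assume that every etale X-scheme U has a jointly surjective family of morphisms of etale
X-schemes U_i → U such that each composite U_i → S factors as a quasi-compact morphism a_i : U_i →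
V_i with geometrically connected fibres followed by an etale morphism V_i → S. Then for every sheaf
of sets F on the small etale site of T the base change map f⁻¹ g_* F → h_* e⁻¹ F is an isomorphism. -/
theorem result {X S Y T : Scheme.{u}} (f : X ⟶ S) [Flat f]
    (g : T ⟶ S) (h : Y ⟶ X) (e : Y ⟶ T) (c : IsPullback e h g f)
    (hcov : ∀ U : X.Etale, ∃ (ι : Type u) (Uc : ι → X.Etale) (mU : ∀ i, Uc i ⟶ U),
      (∀ y : U.left, ∃ (i : ι) (z : (Uc i).left), (mU i).left.base z = y) ∧
      ∀ i, ∃ (V : S.Etale) (a : (Uc i).left ⟶ V.left),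
        a ≫ V.hom = (Uc i).hom ≫ f ∧ QuasiCompact a ∧ GeometricallyConnected a)
    (F : EtDesc.Sh T) :
    IsIso (EtBC.baseChange0Sh g f h e c.w F) := by
  refine Groth.Agent.Lib.EtSite.SetsFromAb.isIso_baseChange0Sh c.w
    (fun A => Groth.Agent.Lib.EtSite.FactorBC.isIso_baseChange0 c (fun U y => ?_) A) F
  obtain ⟨ι, Uc, mU, hj, hf⟩ := hcov U
  obtain ⟨i, z, hz⟩ := hj y
  obtain ⟨V, a, w, hq, hgc⟩ := hf i
  haveI := hgc
  haveI : Etale V.hom := V.prop
  haveI : Etale (Uc i).hom := (Uc i).prop
  -- `a` is flat, being a morphism to an étale scheme over `S` from a flat one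
  let Γa : (Uc i).left ⟶ pullback ((Uc i).hom ≫ f) V.hom := pullback.lift (𝟙 _) a (by rw [Category.id_comp, w])
  haveI : Etale Γa := by
    haveI : Etale (Γa ≫ pullback.fst ((Uc i).hom ≫ f) V.hom) := by
      rw [pullback.lift_fst]; infer_instance
    exact MorphismProperty.of_postcomp (W := @Etale) (W' := @Etale) Γa (pullback.fst ((Uc i).hom ≫ f) V.hom)
      (inferInstance : Etale (pullback.fst ((Uc i).hom ≫ f) V.hom)) ‹_›
  haveI : Flat (pullback.snd ((Uc i).hom ≫ f) V.hom) := inferInstance
  have ha : Flat a := by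
    rw [show a = Γa ≫ pullback.snd ((Uc i).hom ≫ f) V.hom from (pullback.lift_snd _ _ _).symm]
    infer_instance
  refine ⟨Uc i, mU i, V, a, w, hq, ha, fun Ω _ _ s => ?_, z, hz⟩
  exact GeometricallyConnected.geometrically_connectedSpace (f := a) s _ _ (IsPullback.of_hasPullback a s)

end Groth.Agent.S6671
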