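import Groth.Statements.S6674
import Groth.Agent.Lib.PBC50.PushBig
import Groth.Agent.Lib.EtGerm.Submersive

set_option autoImplicit false
universe u
open CategoryTheory CategoryTheory.Limits AlgebraicGeometry Opposite
open HTop

namespace Groth.Agent.S6674

/-- For an abelian sheaf: let f : X → Y be a proper morphism of schemes and F an abelian sheaf on the
small etale site of X. Then a_Y⁻¹ (f_* F) and f_{big,ph,*} (a_X⁻¹ F) are isomorphic abelian sheaves
on the big ph site of Y, where a⁻¹ denotes pullback from the small etale site to the big ph site.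
(Existence of an isomorphism only; the published statement asserts that the canonical base change
map is an isomorphism. Continuity of the comparison functors is carried as instance hypotheses.) -/
theorem result {X Y : Scheme.{u}} (f : X ⟶ Y) [IsProper f] [HTop.APhCont X]
    [HTop.APhCont Y] [HTop.PullPhCont f] (F : EtCoh.Ab X) :
    Nonempty ((HTop.aPhPull Y).obj ((EtCoh.push f).obj F) ≅
      (HTop.pushBigPh f).obj ((HTop.aPhPull X).obj F)) := by
  haveI : BigSite.AEtCont HTop.phPrecoverage X := ‹HTop.APhCont X›
  haveI : BigSite.AEtCont HTop.phPrecoverage Y := ‹HTop.APhCont Y›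
  exact Groth.Agent.Lib.PBC50.PushBig.nonempty_iso_gen f F HTop.phPrecoverage
    Groth.Agent.Lib.EtGerm.Submersive.etalePrecoverage_le_phPrecoverage
    (Groth.Agent.Lib.EtGerm.Submersive.isSheaf_presheaf_of_le _ Groth.Agent.Lib.EtGerm.Submersive.phTopology_le)
    (Groth.Agent.Lib.EtGerm.Submersive.isSheaf_presheaf_of_le _ Groth.Agent.Lib.EtGerm.Submersive.phTopology_le)

end Groth.Agent.S6674
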