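import Groth.Statements.S6679
import Groth.Agent.Lib.EtGerm.Compare
import Groth.Agent.Lib.EtGerm.UnivGen
import Groth.Agent.Lib.EtGerm.Submersive

set_option autoImplicit false
universe u
open CategoryTheory CategoryTheory.Limits AlgebraicGeometry Opposite
open HTop

namespace Groth.Agent.S6679

/-- For an abelian sheaf: let S be a scheme, F an abelian sheaf on the small etale site of S and f : X →
S a scheme over S. Then the value at (X → S) of the pullback a_S⁻¹ F of F to the big h site of S is
isomorphic, as an abelian group, to the group of global sections of f⁻¹ F on the small etale site of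
X. (Existence of an isomorphism; the continuity of the comparison functor from the small etale site
to the big h site is carried as an instance hypothesis.) -/
theorem result (S : Scheme.{u}) [HTop.AHCont S] (F : EtCoh.Ab S)
    {X : Scheme.{u}} (f : X ⟶ S) :
    Nonempty (((HTop.aHPull S).obj F).obj.obj (op (Over.mk f)) ≅
      ((EtCoh.pull f).obj F).obj.obj (op (EtCoh.top X))) := by
  haveI : BigSite.AEtCont HTop.hPrecoverage S := ‹HTop.AHCont S›
  have hS := Groth.Agent.Lib.EtGerm.Submersive.isSheaf_presheaf_of_le F (K := HTop.hPrecoverage) Groth.Agent.Lib.EtGerm.Submersive.hTopology_le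
  have := Groth.Agent.Lib.EtGerm.UnivGen.isIso_comp HTop.hPrecoverage F
    Groth.Agent.Lib.EtGerm.Submersive.etalePrecoverage_le_hPrecoverage hS
  exact ⟨((sheafToPresheaf _ _).mapIso
      (asIso (Groth.Agent.Lib.EtGerm.UnivGen.comp HTop.hPrecoverage F hS))).app (op (Over.mk f)) ≪≫
    (Groth.Agent.Lib.EtGerm.Compare.equiv F (Over.mk f)).symm.toAddCommGrpIso⟩

end Groth.Agent.S6679
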