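import Groth.Statements.S6687
import Groth.Agent.Lib.BigEt.PiPull
-- import your own Groth.Agent.* helpers here

set_option autoImplicit false
universe u
open CategoryTheory CategoryTheory.Limits AlgebraicGeometry Opposite
open BigSite

namespace Groth.Agent.S6687

/-- Let f : T → S be a morphism of schemes, F an abelian sheaf on the small etale site of S and n ≥ 0.
Write π_S⁻¹ F for the pullback of F to the big etale site of S. Then the cohomology of π_S⁻¹ F over
the object (T → S) of the big site is isomorphic to H^n(T_et, f⁻¹ F). (Existence of an isomorphism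
of abelian groups only; the published statement identifies the two through the restriction of π_S⁻¹
F to the small etale site of T, which is f⁻¹ F.) -/
theorem result {T S : Scheme.{u}} (f : T ⟶ S) (n : ℕ) (F : EtCoh.Ab S) :
    Nonempty (BigSite.HU Scheme.etalePrecoverage ((BigSite.piEtPull Scheme.etalePrecoverage S).obj F) n (Over.mk f) ≃+
      EtCoh.H T ((EtCoh.pull f).obj F) n) := by
  haveI : (EtFppf.a T).IsCocontinuous T.smallEtaleTopology (QuotSh.J Scheme.etalePrecoverage T) :=
    BigSite.aEtCocont_etale T
  haveI : (EtFppf.a T).Full := inferInstanceAs (Scheme.Etale.forget T).Full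
  haveI : (EtFppf.a T).Faithful := inferInstanceAs (Scheme.Etale.forget T).Faithful
  haveI := Groth.Agent.Lib.BigEt.Unit.isIso_unit (EtFppf.a T) AddCommGrpCat.{u + 1}
    T.smallEtaleTopology (QuotSh.J Scheme.etalePrecoverage T) ((EtCoh.pull f).obj F)
  exact ⟨((Groth.Agent.Lib.BigEt.PiPull.hCongr
    ((Groth.Agent.Lib.BigEt.PiPull.piPullIso f Scheme.etalePrecoverage).app F).symm n).trans
    (Groth.Agent.Lib.BigEt.Compare.hEquiv (EtFppf.a T) T.smallEtaleTopology
      (QuotSh.J Scheme.etalePrecoverage T) (EtCore.topIsTerminal T) Over.mkIdTerminal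
      ((BigSite.piEtPull Scheme.etalePrecoverage T).obj ((EtCoh.pull f).obj F)) n).symm).trans
    (Groth.Agent.Lib.BigEt.PiPull.hCongr
      (asIso ((BigSite.piEtAdj Scheme.etalePrecoverage T).unit.app ((EtCoh.pull f).obj F))).symm n)⟩

end Groth.Agent.S6687
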