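import Groth.Statements.S6688
import Groth.Agent.Lib.BigEt.Basic
import Groth.Agent.Lib.BigEt.Derived

set_option autoImplicit false
universe u
open CategoryTheory CategoryTheory.Limits AlgebraicGeometry Opposite
open BigSite

namespace Groth.Agent.S6688

/-- For a single abelian sheaf, i.e. a complex in degree 0; the vanishing part: let S be a scheme and F
an abelian sheaf on the small etale site of S; write π_S⁻¹ F for its pullback to the big etale site
and π_{S,*} for restriction back to S_et. Then R^q π_{S,*} (π_S⁻¹ F) = 0 for every q > 0. (The
published statement is that F → Rπ_{S,*} π_S⁻¹ F is an isomorphism; for a single sheaf this amounts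
to the unit F → π_{S,*} π_S⁻¹ F being an isomorphism, which is stated separately, together with the
vanishing asserted here.) -/
theorem result (S : Scheme.{u}) (F : EtCoh.Ab S) (q : ℕ) (hq : 0 < q) :
    IsZero ((BigSite.RresEt Scheme.etalePrecoverage S q).obj ((BigSite.piEtPull Scheme.etalePrecoverage S).obj F)) := by
  exact Groth.Agent.Lib.BigEt.Derived.isZero_of_exact (BigSite.resEt Scheme.etalePrecoverage S) q hq _

end Groth.Agent.S6688
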