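import Groth.Statements.S6690
import Groth.Agent.H88.EtMod.LTensorConstr

set_option autoImplicit false
universe u
open CategoryTheory CategoryTheory.Limits AlgebraicGeometry Opposite
attribute [local instance] HasDerivedCategory.standard
open EtModD

namespace Groth.Agent.S6690

/-- Let X be a scheme and Λ a Noetherian ring. Let K be an object of D(X_et, Λ) and E a complex of
sheaves of Λ-modules on the small etale site of X, both bounded above and with all cohomology
sheaves constructible. Then K ⊗^L_Λ E is bounded above and all its cohomology sheaves are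
constructible. (The derived tensor product is the total left derived functor of − ⊗_Λ E; its
existence is carried as an instance hypothesis.) -/
theorem result (Λ : Type (u + 1)) [CommRing Λ] [IsNoetherianRing Λ] {X : Scheme.{u}}
    (K : EtModD.D Λ X) (E : CochainComplex (EtModW.Mod Λ X) ℤ) [EtModD.HasLTensorCx E] (a b : ℤ)
    [K.IsLE a] [(DerivedCategory.Q.obj E).IsLE b]
    (hK : ∀ i : ℤ, EtModW.IsConstructible Λ (EtModD.HD K i))
    (hE : ∀ i : ℤ, EtModW.IsConstructible Λ (EtModD.HD (DerivedCategory.Q.obj E) i)) :
    (∃ c : ℤ, ((EtModD.LTensorCx E).obj K).IsLE c) ∧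
      ∀ i : ℤ, EtModW.IsConstructible Λ (EtModD.HD ((EtModD.LTensorCx E).obj K) i) := by
  obtain ⟨h, h'⟩ := Groth.Agent.H88.EtMod.LTensorConstr.isLE_and_isConstructible K E a b hK hE
  exact ⟨⟨a + b, h⟩, h'⟩

end Groth.Agent.S6690
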