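import Groth.Statements.S6691
import Groth.Agent.Lib.EtSite.EtaleBC

set_option autoImplicit false
universe u
open CategoryTheory CategoryTheory.Limits AlgebraicGeometry Opposite
open EtBC

namespace Groth.Agent.S6691

noncomputable section

open Groth.Agent.Lib.EtSite Groth.Agent.Lib.EtSite.Basic Groth.Agent.Lib.EtSite.SubDescent
open Groth.Agent.Lib.EtSite.PushStalk Groth.Agent.Lib.EtSite.SubSheaf

theorem germTo_natural {X Y : Scheme.{u}} (h : X ⟶ Y) {Ω : Type u} [Field Ω] [IsSepClosed Ω]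
    {η : Spec (CommRingCat.of Ω) ⟶ Y} {ξ : Spec (CommRingCat.of Ω) ⟶ X} (k : ξ ≫ h = η)
    {G H : EtDesc.Sh X} (φ : G ⟶ H) (y : stalk η ((EtDesc.pushSh h).obj G)) :
    (germTo h (Type (u + 1)) k).app H (stalkMap η ((EtDesc.pushSh h).map φ) y) =
      stalkMap ξ φ ((germTo h (Type (u + 1)) k).app G y) :=
  NatTrans.naturality_apply (germTo h (Type (u + 1)) k) φ y

theorem stalkMap_bij {Z : Scheme.{u}} {Ω : Type u} [Field Ω] [IsSepClosed Ω]
    (ξ : Spec (CommRingCat.of Ω) ⟶ Z) {F G : EtDesc.Sh Z} (φ : F ⟶ G) [IsIso φ] :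
    Function.Bijective (stalkMap ξ φ) :=
  (isIso_iff_bijective ((Scheme.pointSmallEtale ξ).sheafFiber.map φ)).1 inferInstance

section

variable {X S Y T : Scheme.{u}} {f : X ⟶ S} {g : T ⟶ S} {h : Y ⟶ X} {e : Y ⟶ T}
  {V₀ U₀ T₀ Y₀ : Scheme.{u}} {vi : V₀ ⟶ S} {ui : U₀ ⟶ X} {ai : U₀ ⟶ V₀}
  {gi : T₀ ⟶ V₀} {ti : T₀ ⟶ T} {hi : Y₀ ⟶ U₀} {ei : Y₀ ⟶ T₀} {ki : Y₀ ⟶ Y}

/-- The base change maps of the two ways round agree on germs. -/
theorem key (w : e ≫ g = h ≫ f) (ha : ai ≫ vi = ui ≫ f) (w₁ : ti ≫ g = gi ≫ vi)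
    (w₂ : ei ≫ gi = hi ≫ ai) (w₃ : ki ≫ h = hi ≫ ui) (hb : ki ≫ e = ei ≫ ti) (F : EtDesc.Sh T)
    {Ω : Type u} [Field Ω] [IsSepClosed Ω] (m : Spec (CommRingCat.of Ω) ⟶ U₀)
    {ξ : Spec (CommRingCat.of Ω) ⟶ X} {η : Spec (CommRingCat.of Ω) ⟶ V₀}
    {η₀ : Spec (CommRingCat.of Ω) ⟶ S} (hmu : m ≫ ui = ξ) (hma : m ≫ ai = η) (hξ : ξ ≫ f = η₀)
    (hη : η ≫ vi = η₀) (c : stalk η₀ ((EtDesc.pushSh g).obj F)) :
    stalkMap m ((EtDesc.pushSh hi).map (EtDesc.pullVia ei ti (ei ≫ ti) rfl F).hom)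
        (stalkMap m (EtBC.baseChange0Sh gi ai hi ei w₂ ((EtDesc.pullSh ti).obj F))
          (germUnit ai _ hma (stalkMap η (EtBC.baseChange0Sh g vi gi ti w₁ F)
            (germUnit vi _ hη c)))) =
      stalkMap m ((EtDesc.pushSh hi).map (EtDesc.pullVia ki e (ei ≫ ti) hb F).hom)
        (stalkMap m (EtBC.baseChange0Sh h ui hi ki w₃ ((EtDesc.pullSh e).obj F))
          (germUnit ui _ hmu (stalkMap ξ (EtBC.baseChange0Sh g f h e w F) (germUnit f _ hξ c)))) := by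
  let P := (EtDesc.pushSh g).obj F
  let a : (EtDesc.pullSh ui).obj ((EtDesc.pullSh f).obj P) ⟶
      (EtDesc.pushSh hi).obj ((EtDesc.pullSh (ei ≫ ti)).obj F) :=
    (EtDesc.pullVia ui f (ui ≫ f) rfl P).hom ≫ (EtDesc.pullVia ai vi (ui ≫ f) ha P).inv ≫
      (EtDesc.pullSh ai).map (EtBC.baseChange0Sh g vi gi ti w₁ F) ≫
      EtBC.baseChange0Sh gi ai hi ei w₂ ((EtDesc.pullSh ti).obj F) ≫
      (EtDesc.pushSh hi).map (EtDesc.pullVia ei ti (ei ≫ ti) rfl F).hom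
  let b : (EtDesc.pullSh ui).obj ((EtDesc.pullSh f).obj P) ⟶
      (EtDesc.pushSh hi).obj ((EtDesc.pullSh (ei ≫ ti)).obj F) :=
    (EtDesc.pullSh ui).map (EtBC.baseChange0Sh g f h e w F) ≫
      EtBC.baseChange0Sh h ui hi ki w₃ ((EtDesc.pullSh e).obj F) ≫
      (EtDesc.pushSh hi).map (EtDesc.pullVia ki e (ei ≫ ti) hb F).hom
  have hA : ∀ {Ω : Type u} [Field Ω] [IsSepClosed Ω] (m : Spec (CommRingCat.of Ω) ⟶ U₀)
      {ξ : Spec (CommRingCat.of Ω) ⟶ X} {η : Spec (CommRingCat.of Ω) ⟶ V₀}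
      {η₀ : Spec (CommRingCat.of Ω) ⟶ S} (hmu : m ≫ ui = ξ) (hma : m ≫ ai = η) (hξ : ξ ≫ f = η₀)
      (hη : η ≫ vi = η₀) (c : stalk η₀ P),
      stalkMap m a (germUnit ui _ hmu (germUnit f P hξ c)) =
        stalkMap m ((EtDesc.pushSh hi).map (EtDesc.pullVia ei ti (ei ≫ ti) rfl F).hom)
        (stalkMap m (EtBC.baseChange0Sh gi ai hi ei w₂ ((EtDesc.pullSh ti).obj F))
          (germUnit ai _ hma (stalkMap η (EtBC.baseChange0Sh g vi gi ti w₁ F)
            (germUnit vi _ hη c)))) := by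
    intro Ω _ _ m ξ η η₀ hmu hma hξ hη c
    have hb' : m ≫ ui ≫ f = η₀ := by rw [← Category.assoc, hmu, hξ]
    simp only [a, stalkMap_comp]
    rw [pullVia_germUnit f ui (ui ≫ f) rfl P hmu hξ hb',
      ← pullVia_germUnit vi ai (ui ≫ f) ha P hma hη hb', ← stalkMap_comp m (EtDesc.pullVia ai vi (ui ≫ f) ha P).hom (EtDesc.pullVia ai vi (ui ≫ f) ha P).inv,
      Iso.hom_inv_id, stalkMap_id, germUnit_naturality]
  have hB : ∀ {Ω : Type u} [Field Ω] [IsSepClosed Ω] (m : Spec (CommRingCat.of Ω) ⟶ U₀)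
      {ξ : Spec (CommRingCat.of Ω) ⟶ X} {η₀ : Spec (CommRingCat.of Ω) ⟶ S}
      (hmu : m ≫ ui = ξ) (hξ : ξ ≫ f = η₀) (c : stalk η₀ P),
      stalkMap m b (germUnit ui _ hmu (germUnit f P hξ c)) =
      stalkMap m ((EtDesc.pushSh hi).map (EtDesc.pullVia ki e (ei ≫ ti) hb F).hom)
        (stalkMap m (EtBC.baseChange0Sh h ui hi ki w₃ ((EtDesc.pullSh e).obj F))
          (germUnit ui _ hmu (stalkMap ξ (EtBC.baseChange0Sh g f h e w F) (germUnit f _ hξ c)))) := by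
    intro Ω _ _ m ξ η₀ hmu hξ c
    simp only [b, stalkMap_comp]
    rw [germUnit_naturality]
  have hab : a = b := by
    refine EtaleBC.hom_ext_push hi a b fun z x => ?_
    generalize Push.algPoint Y₀ z = ζ' at x ⊢
    let ξ₀ := ζ' ≫ ei ≫ ti
    let η₁ := ξ₀ ≫ g
    have k1 : ((ζ' ≫ hi) ≫ ui) ≫ f = η₁ := by
      simp only [η₁, ξ₀, Category.assoc, ← ha, w₁, reassoc_of% w₂]
    have k2 : ((ζ' ≫ hi) ≫ ai) ≫ vi = η₁ := by
      simp only [η₁, ξ₀, Category.assoc, w₁, reassoc_of% w₂]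
    have k3 : (ζ' ≫ ki) ≫ e = ξ₀ := (Category.assoc _ _ _).trans (ζ' ≫= hb)
    obtain ⟨x₁, rfl⟩ := (bijective_germUnit ui _ rfl).2 x
    obtain ⟨c, rfl⟩ := (bijective_germUnit f P k1).2 x₁
    rw [hA _ rfl rfl k1 k2, hB _ rfl k1, germTo_natural, germTo_natural]
    rw [BCGerm.germTo_baseChange0Sh w₂ _ rfl rfl rfl ((Category.assoc _ _ _).trans
        ((ζ' ≫= w₂).trans (Category.assoc _ _ _).symm)),
      BCGerm.germTo_baseChange0Sh w₁ F (ξ := ζ' ≫ ei) ((Category.assoc _ _ _).trans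
        ((ζ' ≫= w₂).trans (Category.assoc _ _ _).symm)) k2 (Category.assoc _ _ _ : _ = ξ₀) rfl,
      BCGerm.germTo_baseChange0Sh w₃ _ rfl rfl rfl ((Category.assoc _ _ _).trans
        ((ζ' ≫= w₃).trans (Category.assoc _ _ _).symm)),
      BCGerm.germTo_baseChange0Sh w F (ξ := ζ' ≫ ki) ((Category.assoc _ _ _).trans
        ((ζ' ≫= w₃).trans (Category.assoc _ _ _).symm)) k1 k3 rfl,
      pullVia_germUnit ti ei (ei ≫ ti) rfl F rfl (Category.assoc _ _ _ : _ = ξ₀) rfl,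
      pullVia_germUnit e ki (ei ≫ ti) hb F rfl k3 rfl]
  rw [← hA m hmu hma hξ hη c, hab, hB m hmu hξ c]

end

/-- Let Y = X ×_S T be a cartesian square of schemes with f : X → S, g : T → S, h : Y → X, e : Y → T,
and F a sheaf of sets on the small etale site of T. Let (U_i → X) be a jointly surjective family of
etale X-schemes such that every U_i → S factors as a_i : U_i → V_i followed by an etale V_i → S, and
let T_i = V_i ×_S T (projections g_i, t_i) and Y_i = U_i ×_{V_i} T_i (projections h_i, e_i). If for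
every i the base change map a_i⁻¹ g_i,_* (t_i⁻¹ F) → h_i,_* e_i⁻¹ (t_i⁻¹ F) is an isomorphism, then
the base change map f⁻¹ g_* F → h_* e⁻¹ F is an isomorphism. -/
theorem result {X S Y T : Scheme.{u}} (f : X ⟶ S) (g : T ⟶ S) (h : Y ⟶ X) (e : Y ⟶ T)
    (c : IsPullback e h g f) (F : EtDesc.Sh T)
    {ι : Type u} (U : ι → X.Etale) (hU : EtCoh.Covers U) (V : ι → S.Etale)
    (a : ∀ i, (U i).left ⟶ (V i).left) (ha : ∀ i, a i ≫ (V i).hom = (U i).hom ≫ f)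
    (Ti Yi : ι → Scheme.{u}) (gi : ∀ i, Ti i ⟶ (V i).left) (ti : ∀ i, Ti i ⟶ T)
    (cT : ∀ i, IsPullback (ti i) (gi i) g (V i).hom)
    (hi : ∀ i, Yi i ⟶ (U i).left) (ei : ∀ i, Yi i ⟶ Ti i) (cY : ∀ i, IsPullback (ei i) (hi i) (gi i) (a i))
    (hloc : ∀ i, IsIso (EtBC.baseChange0Sh (gi i) (a i) (hi i) (ei i) (cY i).w ((EtDesc.pullSh (ti i)).obj F))) :
    IsIso (EtBC.baseChange0Sh g f h e c.w F) := by
  refine Stalk.isIso_of_stalks _ fun x => ?_
  obtain ⟨i, u, hu⟩ := hU x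
  obtain ⟨m, hm⟩ : ∃ m : Spec (CommRingCat.of (AlgebraicClosure ((U i).left.residueField u))) ⟶
      (U i).left, m.base default = u := ⟨Push.algPoint _ u, Push.algPoint_apply _ u default⟩
  refine ⟨_, inferInstance, inferInstance, m ≫ (U i).hom, ?_, ?_⟩
  · rw [Scheme.Hom.comp_apply, hm]; exact hu
  have hηk : (m ≫ a i) ≫ (V i).hom = (m ≫ (U i).hom) ≫ f := by
    rw [Category.assoc, ha, Category.assoc]
  have w' : (ei i ≫ ti i) ≫ g = (hi i ≫ (U i).hom) ≫ f := by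
    rw [Category.assoc, (cT i).w, ← Category.assoc, (cY i).w, Category.assoc, ha, Category.assoc]
  let ki := c.lift (ei i ≫ ti i) (hi i ≫ (U i).hom) w'
  have hb : ki ≫ e = ei i ≫ ti i := c.lift_fst _ _ _
  have w₃ : ki ≫ h = hi i ≫ (U i).hom := c.lift_snd _ _ _
  have sq₃ : IsPullback ki (hi i) h (U i).hom := by
    have big : IsPullback (ki ≫ e) (hi i) g ((U i).hom ≫ f) := by
      rw [hb, ← ha]
      exact (cY i).paste_horiz (cT i)
    exact big.of_right w₃ c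
  have := hloc i
  have h12 : Function.Bijective fun d : stalk (m ≫ a i)
      ((EtDesc.pushSh (gi i)).obj ((EtDesc.pullSh (ti i)).obj F)) =>
      stalkMap m (EtBC.baseChange0Sh (gi i) (a i) (hi i) (ei i) (cY i).w _) (germUnit (a i) _ rfl d) :=
    (stalkMap_bij m _).comp (bijective_germUnit (a i) _ rfl)
  have hA := (stalkMap_bij m ((EtDesc.pushSh (hi i)).map
      (EtDesc.pullVia (ei i) (ti i) (ei i ≫ ti i) rfl F).hom)).comp
    (h12.comp (EtaleBC.bijective_etale g (V i) (gi i) (ti i) (cT i) F (m ≫ a i) hηk))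
  have hB := (stalkMap_bij m ((EtDesc.pushSh (hi i)).map
      (EtDesc.pullVia ki e (ei i ≫ ti i) hb F).hom)).comp
    (EtaleBC.bijective_etale h (U i) (hi i) ki sq₃ ((EtDesc.pullSh e).obj F) m rfl)
  have hψ : Function.Bijective fun c' : stalk ((m ≫ (U i).hom) ≫ f) ((EtDesc.pushSh g).obj F) =>
      stalkMap (m ≫ (U i).hom) (EtBC.baseChange0Sh g f h e c.w F) (germUnit f _ rfl c') := by
    refine (Function.Bijective.of_comp_iff' hB _).1 ?_
    refine Eq.mp (congrArg Function.Bijective (funext fun c' => ?_)) hA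
    exact key c.w (ha i) (cT i).w (cY i).w w₃ hb F m rfl rfl rfl hηk c'
  exact (Function.Bijective.of_comp_iff _ (bijective_germUnit f _ rfl)).1 hψ

end

end Groth.Agent.S6691
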