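import Groth.Statements.S6693
import Groth.Agent.Lib.LocAcyc50.Main


set_option autoImplicit false
universe u
open CategoryTheory CategoryTheory.Limits AlgebraicGeometry Opposite
open EtBC

namespace Groth.Agent.S6693

set_option backward.isDefEq.respectTransparency false

open Groth.Agent.Lib Groth.Agent.Lib.EtSite in

/-- For a single abelian sheaf (a bounded below complex concentrated in degree 0): let f : X → S be a
morphism of schemes and F an abelian sheaf on the small etale site of X such that f is locally
acyclic relative to F. Let s be a point of S, R_S a strict henselization of the local ring of S at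
s, X' = X ×_S Spec R_S with projection p : X' → X, t̄ : Spec Ω → Spec R_S a geometric point with Ω
algebraically closed, h : X_t̄ = X' ×_{Spec R_S} Spec Ω → X' and i : X_s̄ = X' ×_{Spec R_S} Spec
κ(R_S) → X' the fibres over t̄ and over the closed point. Put F' = p⁻¹ F. Then the restriction along
i of the unit F' → h_* h⁻¹ F' is an isomorphism, and i⁻¹ R^q h_* (h⁻¹ F') is zero for every q > 0;
together these say that i⁻¹ applied to β : F' → Rh_* (F'|X_t̄) is an isomorphism. -/
theorem result {X S : Scheme.{u}} (f : X ⟶ S) (F : EtCoh.Ab X)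
    (hla : SGA4h.IsLARel f F) (s : S) (RS : Type u) [CommRing RS] [IsLocalRing RS] [Algebra (S.presheaf.stalk s) RS]
      [IsLocalHom (algebraMap (S.presheaf.stalk s) RS)] [Hensel.IsStrictHenselization (S.presheaf.stalk s) RS]
    (X' : Scheme.{u}) (f' : X' ⟶ Spec (CommRingCat.of RS)) (p : X' ⟶ X) (cX : IsPullback p f' f (Hens2.specOf S s RS))
    (Ω : Type u) [Field Ω] [IsAlgClosed Ω] (τ : RS →+* Ω)
    (Xt : Scheme.{u}) (h : Xt ⟶ X') (ft : Xt ⟶ Spec (CommRingCat.of Ω))
    (ct : IsPullback h ft f' (Spec.map (CommRingCat.ofHom τ)))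
    (Xs : Scheme.{u}) (i : Xs ⟶ X') (fs : Xs ⟶ Spec (CommRingCat.of (IsLocalRing.ResidueField RS)))
    (cs : IsPullback i fs f' (Spec.map (CommRingCat.ofHom (IsLocalRing.residue RS)))) :
    IsIso ((EtCoh.pull i).map ((EtCoh.pullPushAdj h).unit.app ((EtCoh.pull p).obj F))) ∧
      ∀ q : ℕ, 0 < q →
        IsZero ((EtCoh.pull i).obj ((EtCoh.Rpush h q).obj ((EtCoh.pull h).obj ((EtCoh.pull p).obj F)))) := by
  haveI : IsSepClosed Ω := inferInstance
  haveI : IsAffineHom (Spec.map (CommRingCat.ofHom τ)) := inferInstance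
  haveI : IsAffineHom h := MorphismProperty.of_isPullback (P := @IsAffineHom) ct.flip inferInstance
  have hcl : ∀ x : Xs, ((Push.algPoint Xs x ≫ i) ≫ f').base default = IsLocalRing.closedPoint RS := fun x => by
    rw [Category.assoc, cs.w, ← Category.assoc, Scheme.Hom.comp_base, TopCat.comp_app,
      Subsingleton.elim ((Push.algPoint Xs x ≫ fs).base default) default]
    exact RpushStalk50.Ident.cpt_base RS
  have hmain := fun x : Xs => LocAcyc50.Main.main f F s RS f' p cX Ω τ h ft ct (Push.algPoint Xs x ≫ i)
    (hcl x) hla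
  refine ⟨EtSite.Stalk.isIso_of_stalks _ fun x =>
    ⟨_, inferInstance, inferInstance, Push.algPoint Xs x, Push.algPoint_apply Xs x _, ?_⟩, fun q hq => ?_⟩
  · exact (ConcreteCategory.isIso_iff_bijective _).1
      (((NatIso.isIso_map_iff (Pull.stalkPull i (Push.algPoint Xs x)) _).2
        ((ConcreteCategory.isIso_iff_bijective _).2 (hmain x).1)))
  · refine EtShriek50.Exact.isZero_of_stalks _ fun x => ?_
    exact IsZero.of_iso ((hmain x).2 q hq) ((Pull.stalkPull i (Push.algPoint Xs x)).app _)

end Groth.Agent.S6693
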