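import Groth.Statements.S6698
import Groth.Agent.Lib.EtSite.BCCmp.Local

set_option autoImplicit false
universe u
open CategoryTheory CategoryTheory.Limits AlgebraicGeometry Opposite
attribute [local instance] HasDerivedCategory.standard
open EtBC

namespace Groth.Agent.S6698

/-- Let Y = X ×_S T be a cartesian square of schemes with f : X → S, g : T → S, h : Y → X, e : Y → T,
and K an object of D(T_et). Let (U_i → X) be a jointly surjective family of etale X-schemes such
that every U_i → S factors as a_i : U_i → V_i followed by an etale V_i → S, and let T_i = V_i ×_S T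
(projections g_i, t_i) and Y_i = U_i ×_{V_i} T_i (projections h_i, e_i). If for every i the base
change morphism a_i⁻¹ Rg_i,_* (t_i⁻¹ K) → Rh_i,_* e_i⁻¹ (t_i⁻¹ K) is an isomorphism, then the base
change morphism f⁻¹ Rg_* K → Rh_* e⁻¹ K is an isomorphism. (Unbounded derived direct images exist
under the stated binders; each base change morphism is the transpose under an adjunction between
inverse image and derived direct image on derived categories, supplied as data; left exactness of
the inverse images is carried as instance hypotheses.) -/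
theorem result {X S Y T : Scheme.{u}} (f : X ⟶ S) (g : T ⟶ S) (h : Y ⟶ X) (e : Y ⟶ T)
    (c : IsPullback e h g f) [PreservesFiniteLimits (EtCoh.pull e)] [PreservesFiniteLimits (EtCoh.pull f)]
    [DCoh.HasRpushEt T g] [DCoh.HasRpushEt Y h] [DCoh.HasRpushEt X f] (adj : EtBC.pullD f ⊣ DCoh.RpushEt X f)
    (K : DCoh.DEt T)
    {ι : Type u} (U : ι → X.Etale) (hU : EtCoh.Covers U) (V : ι → S.Etale)
    (a : ∀ i, (U i).left ⟶ (V i).left) (ha : ∀ i, a i ≫ (V i).hom = (U i).hom ≫ f)
    (Ti Yi : ι → Scheme.{u}) (gi : ∀ i, Ti i ⟶ (V i).left) (ti : ∀ i, Ti i ⟶ T)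
    (cT : ∀ i, IsPullback (ti i) (gi i) g (V i).hom)
    (hi : ∀ i, Yi i ⟶ (U i).left) (ei : ∀ i, Yi i ⟶ Ti i) (cY : ∀ i, IsPullback (ei i) (hi i) (gi i) (a i))
    [∀ i, PreservesFiniteLimits (EtCoh.pull (ei i))] [∀ i, PreservesFiniteLimits (EtCoh.pull (a i))]
    [∀ i, PreservesFiniteLimits (EtCoh.pull (ti i))]
    [∀ i, DCoh.HasRpushEt (Ti i) (gi i)] [∀ i, DCoh.HasRpushEt (Yi i) (hi i)] [∀ i, DCoh.HasRpushEt (U i).left (a i)]
    (adji : ∀ i, EtBC.pullD (a i) ⊣ DCoh.RpushEt (U i).left (a i))
    (hloc : ∀ i, IsIso (EtBC.bcMap (gi i) (a i) (hi i) (ei i) (cY i).w (adji i) ((EtBC.pullD (ti i)).obj K))) :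
    IsIso (EtBC.bcMap g f h e c.w adj K) := by
  exact Lib.EtSite.BCCmp.Local.isIso_bcMap_of_local f g h e c adj K U hU V a ha Ti Yi gi ti cT hi ei cY adji hloc

end Groth.Agent.S6698
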