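import Groth.Statements.S6699
import Groth.Agent.H88.EtMod.FiniteGenD

set_option autoImplicit false
universe u
open CategoryTheory CategoryTheory.Limits AlgebraicGeometry Opposite
attribute [local instance] HasDerivedCategory.standard
open EtModD

namespace Groth.Agent.S6699

/-- Let X be a quasi-compact and quasi-separated scheme, Λ a Noetherian ring, K an object of D(X_et, Λ)
and b an integer such that the b-th cohomology sheaf of K is a constructible sheaf of Λ-modules.
Then there exist finitely many affine schemes U_k with etale morphisms j_k : U_k → X and a morphism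
φ : F[-b] → K in D(X_et, Λ), where F is the direct sum of the sheaves j_{k!} Λ (extension by zero of
the constant sheaf Λ on U_k) placed in degree b, such that the map induced by φ on b-th cohomology
sheaves is an epimorphism F → H^b(K). (Continuity of the functors V ↦ (V → U_k → X) between small
etale sites, true for every etale morphism, appears as an instance binder in front of the
extension-by-zero terms.) -/
theorem result (Λ : Type (u + 1)) [CommRing Λ] [IsNoetherianRing Λ] (X : Scheme.{u})
    [CompactSpace X] [QuasiSeparatedSpace X] (K : EtModD.D Λ X) (b : ℤ)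
    (hK : EtModW.IsConstructible Λ (EtModD.HD K b)) :
    ∃ (m : ℕ) (U : Fin m → Scheme.{u}) (j : ∀ k, U k ⟶ X) (_ : ∀ k, Etale (j k)) (_ : ∀ k, IsAffine (U k)),
      ∀ [∀ k, EtShriek.JCont (j k)],
        ∃ φ : (DerivedCategory.singleFunctor (EtModW.Mod Λ X) b).obj
              (∐ fun k => (EtSix.extZeroMod Λ (j k)).obj (EtSix.constΛ Λ (U k))) ⟶ K,
          Epi ((DerivedCategory.homologyFunctor (EtModW.Mod Λ X) b).map φ) := by
  obtain ⟨m, W, hW, h⟩ := Groth.Agent.H88.EtMod.FiniteGenD.exists_epi K b hK
  refine ⟨m, fun k => (W k).left, fun k => (W k).hom, fun k => (W k).prop, hW, ?_⟩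
  intro hJ
  haveI : ∀ k, Etale (W k).hom := fun k => (W k).prop
  exact @h _ hJ

end Groth.Agent.S6699
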