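import Groth.Statements.S6700
import Groth.Agent.H88.EtMod.FreeResolve
import Groth.Agent.H88.EtMod.ExtZero
import Groth.Agent.H88.EtMod.FiniteGenD
import Groth.Agent.Lib.EtJ.Basic

set_option autoImplicit false
universe u
open CategoryTheory CategoryTheory.Limits AlgebraicGeometry Opposite
attribute [local instance] HasDerivedCategory.standard
open EtModD

namespace Groth.Agent.S6700

/-- (1) ⇔ (2): let X be a quasi-compact and quasi-separated scheme, Λ a Noetherian ring and K an object
of D(X_et, Λ) which is bounded above. Then every cohomology sheaf of K is a constructible sheaf of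
Λ-modules if and only if K is isomorphic, in D(X_et, Λ), to the image of a bounded above complex of
sheaves of Λ-modules each of whose terms is isomorphic to a finite direct sum of sheaves j_! Λ,
extensions by zero of the constant sheaf Λ along etale morphisms j : U → X with U affine. (A third
equivalent condition, representability by a bounded above complex of flat constructible sheaves of
Λ-modules, is not included. Continuity of the functors V ↦ (V → U → X) between small etale sites,
true for every etale morphism, appears as an instance binder in front of the extension-by-zero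
terms.) -/
theorem result (Λ : Type (u + 1)) [CommRing Λ]
    [IsNoetherianRing Λ] (X : Scheme.{u}) [CompactSpace X] [QuasiSeparatedSpace X] (K : EtModD.D Λ X) (n : ℤ)
    [K.IsLE n] :
    (∀ i : ℤ, EtModW.IsConstructible Λ (EtModD.HD K i)) ↔
      ∃ (C : CochainComplex (EtModW.Mod Λ X) ℤ) (c : ℤ),
        (∀ i : ℤ, c < i → IsZero (C.X i)) ∧
        (∀ i : ℤ, ∃ (m : ℕ) (U : Fin m → Scheme.{u}) (j : ∀ k, U k ⟶ X) (_ : ∀ k, Etale (j k))
            (_ : ∀ k, IsAffine (U k)),
            ∀ [∀ k, EtShriek.JCont (j k)],
              Nonempty (C.X i ≅ ∐ fun k => (EtSix.extZeroMod Λ (j k)).obj (EtSix.constΛ Λ (U k)))) ∧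
        Nonempty (DerivedCategory.Q.obj C ≅ K) := by
  open Groth.Agent.H88.EtMod in
  have isoFree : ∀ {V W : X.Etale} (e : V ≅ W), Nonempty (Free.free Λ V ≅ Free.free Λ W) := fun e =>
    ⟨(presheafToSheaf X.smallEtaleTopology (ModuleCat.{u + 1} Λ)).mapIso
      (Functor.isoWhiskerRight (uliftYoneda.{u + 1}.mapIso e) (ModuleCat.free Λ))⟩
  constructor
  · intro h
    obtain ⟨L, hL, ⟨e⟩⟩ := K.exists_iso_Q_obj_of_isLE n
    have hH : ∀ i, EtModW.IsConstructible Λ (L.homology i) := fun i =>
      Groth.Agent.H88.EtMod.Constructible.isConstructible_of_iso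
        ((DerivedCategory.homologyFunctor _ i).mapIso e ≪≫
          (DerivedCategory.homologyFunctorFactors _ i).app L) (h i)
    obtain ⟨G, s, hG, hGF, hs⟩ := Groth.Agent.H88.EtMod.FreeResolve.exists_resolution L n
      (fun i hi => L.exactAt_of_isLE n i hi) hH
    refine ⟨G, n, hG, fun i => ?_, ⟨asIso (DerivedCategory.Q.map s) ≪≫ e.symm⟩⟩
    obtain ⟨m, W, hW, ⟨eW⟩⟩ := hGF i
    refine ⟨m, fun k => (W k).left, fun k => (W k).hom, fun k => (W k).prop, hW, ?_⟩
    intro _
    haveI : ∀ k, Etale (W k).hom := fun k => (W k).prop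
    exact ⟨eW ≪≫ Sigma.mapIso fun k =>
      ((Groth.Agent.H88.EtMod.ExtZero.extZeroConstIso (Λ := Λ) (W k).hom) ≪≫
        (isoFree (Groth.Agent.H88.EtMod.FiniteGenD.topIso (W k))).some).symm⟩
  · rintro ⟨C, c, -, hC, ⟨e⟩⟩ i
    refine Groth.Agent.H88.EtMod.Constructible.isConstructible_of_iso
      (((DerivedCategory.homologyFunctorFactors _ i).app C).symm ≪≫
        (DerivedCategory.homologyFunctor _ i).mapIso e)
      (Groth.Agent.H88.EtMod.FreeResolve.isConstructible_homology (fun i => ?_) i)
    obtain ⟨m, U, j, hj, hU, hiso⟩ := hC i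
    obtain ⟨eC⟩ := @hiso (fun k => inferInstance)
    refine Groth.Agent.H88.EtMod.Constructible.isConstructible_of_iso eC.symm
      (Groth.Agent.H88.EtMod.FreeConstr.isConstructible_sigma _ fun k => ?_)
    exact Groth.Agent.H88.EtMod.Constructible.isConstructible_of_iso
      (Groth.Agent.H88.EtMod.ExtZero.extZeroConstIso (Λ := Λ) (j k)).symm
      (Groth.Agent.H88.EtMod.FreeResolve.isConstructible_free_of_affine _ (hU k))

end Groth.Agent.S6700
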