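import Groth.Statements.S6704
import Groth.Agent.Lib.TriFF.SiblingObj


set_option autoImplicit false
universe w v u v' u'
open CategoryTheory
open DEquiv

namespace Groth.Agent.S6704

open CategoryTheory.Limits CategoryTheory.Pretriangulated in
/-- Let A be an abelian category, D a triangulated category, and F, F' : D^b(A) ⥤ D exact functors of
triangulated categories whose restrictions to A (objects placed in degree 0) are isomorphic. If
Hom(F X, (F Y)⟦q⟧) = 0 for all objects X, Y of A and all q < 0, then F K and F' K are isomorphic for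
every object K of D^b(A); that is, F and F' are siblings. -/
theorem result
    {A : Type u} [Category.{v} A] [Abelian A] [HasDerivedCategory.{w} A]
    {D : Type u'} [Category.{v'} D] [Preadditive D] [HasZeroObject D] [HasShift D ℤ]
    [∀ n : ℤ, (shiftFunctor D n).Additive] [Pretriangulated D] [IsTriangulated D]
    (F F' : DerivedCategory.Bounded A ⥤ D) [F.CommShift ℤ] [F.IsTriangulated]
    [F'.CommShift ℤ] [F'.IsTriangulated]
    (h1 : Nonempty (DEquiv.singleB A ⋙ F ≅ DEquiv.singleB A ⋙ F'))
    (h2 : ∀ (X Y : A) (q : ℤ), q < 0 →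
      ∀ f : F.obj ((DEquiv.singleB A).obj X) ⟶ (shiftFunctor D q).obj (F.obj ((DEquiv.singleB A).obj Y)),
        f = 0)
    (K : DerivedCategory.Bounded A) : Nonempty (F.obj K ≅ F'.obj K) := by
  exact Groth.Agent.Lib.TriFF.SiblingObj.nonempty_iso F F' h1.some.symm h2 K

end Groth.Agent.S6704
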