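import Groth.Statements.S6708


set_option autoImplicit false
universe v u
open CategoryTheory
open DEquiv

namespace Groth.Agent.S6708

open CategoryTheory.Limits CategoryTheory.Pretriangulated in
/-- Let D be a pretriangulated category, D' ⊆ D a full triangulated subcategory (given as a property of
objects that is triangulated in Mathlib's sense) and X an object of D. Then the category of arrows E
⟶ X with E in D' is filtered. -/
theorem result
    {D : Type u} [Category.{v} D] [Preadditive D] [HasZeroObject D] [HasShift D ℤ]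
    [∀ n : ℤ, (shiftFunctor D n).Additive] [Pretriangulated D]
    (P : ObjectProperty D) [P.IsTriangulated] (X : D) :
    IsFiltered (CostructuredArrow P.ι X) := by
  classical
  have mk2 : ∀ {E E' : D}, P E → P E' → ∃ Z, P Z ∧ Nonempty ((E ⊞ E') ≅ Z) := fun h h' =>
    (by
      obtain ⟨Z, hZ, e⟩ := (P.ext_of_isTriangulatedClosed₂' _ (binaryBiproductTriangle_distinguished _ _) h h')
      exact ⟨Z, hZ, e⟩)
  obtain ⟨Z₀, hZ₀, hP₀⟩ := P.exists_prop_of_containsZero
  haveI : IsFilteredOrEmpty (CostructuredArrow P.ι X) :=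
    { cocone_objs := fun a b => by
        obtain ⟨Z, hZ, ⟨e⟩⟩ := mk2 a.left.2 b.left.2
        exact ⟨CostructuredArrow.mk (Y := (⟨Z, hZ⟩ : P.FullSubcategory))
            (e.inv ≫ biprod.desc a.hom b.hom),
          CostructuredArrow.homMk (ObjectProperty.homMk (biprod.inl ≫ e.hom)) (by simp),
          CostructuredArrow.homMk (ObjectProperty.homMk (biprod.inr ≫ e.hom)) (by simp), trivial⟩
      cocone_maps := fun a b φ ψ => by
        obtain ⟨W, g, k, hT⟩ := distinguished_cocone_triangle (φ.left.hom - ψ.left.hom)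
        obtain ⟨Z, hZ, ⟨e⟩⟩ : ∃ Z, P Z ∧ Nonempty (W ≅ Z) :=
          (by
            obtain ⟨Z, hZ, e⟩ := P.ext_of_isTriangulatedClosed₃' _ hT a.left.2 b.left.2
            exact ⟨Z, hZ, e⟩)
        have hφ : φ.left.hom ≫ b.hom = a.hom := by simpa using CostructuredArrow.w φ
        have hψ : ψ.left.hom ≫ b.hom = a.hom := by simpa using CostructuredArrow.w ψ
        obtain ⟨w, hw⟩ := Triangle.yoneda_exact₂ _ hT b.hom (by
          show (φ.left.hom - ψ.left.hom) ≫ b.hom = 0
          erw [Preadditive.sub_comp, hφ, hψ, sub_self])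
        have h0 : φ.left.hom ≫ g = ψ.left.hom ≫ g := by
          rw [← sub_eq_zero, ← Preadditive.sub_comp]
          exact comp_distTriang_mor_zero₁₂ _ hT
        refine ⟨CostructuredArrow.mk (Y := (⟨Z, hZ⟩ : P.FullSubcategory)) (e.inv ≫ w),
          CostructuredArrow.homMk (ObjectProperty.homMk (g ≫ e.hom)) (by simp; exact hw.symm),
          CostructuredArrow.hom_ext _ _ (ObjectProperty.hom_ext _ ?_)⟩
        simp [reassoc_of% h0] }
  exact { nonempty := ⟨CostructuredArrow.mk (Y := (⟨Z₀, hP₀⟩ : P.FullSubcategory)) (hZ₀.to_ X)⟩ }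

end Groth.Agent.S6708
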