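import Groth.Statements.S6709
import Groth.Agent.Lib.FinDimBrown.Rep
import Mathlib.Algebra.Module.Shrink


set_option autoImplicit false
universe w v u
open CategoryTheory
open DEquiv
open scoped ZeroObject

namespace Groth.Agent.S6709

open CategoryTheory.Limits CategoryTheory.Pretriangulated Opposite in
/-- Let k be a field and D a k-linear triangulated category with arbitrary direct sums which is
compactly generated; write D_c for the full subcategory of compact objects. Let H be a contravariant
k-linear functor from D_c to k-vector spaces which is cohomological (for every distinguished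
triangle X ⟶ Y ⟶ Z of D with X, Y, Z compact, H(Z) ⟶ H(Y) ⟶ H(X) is exact) and such that every H(X)
is finite-dimensional. One can then find an object Y of D for which H becomes isomorphic to X ↦
Hom(X, Y), the functor represented by Y on compact objects (existence of such Y and of an
isomorphism of functors). -/
theorem result
    {k : Type w} [Field k]
    {D : Type u} [Category.{v} D] [Preadditive D] [Linear k D] [HasZeroObject D] [HasShift D ℤ]
    [∀ n : ℤ, (shiftFunctor D n).Additive] [∀ n : ℤ, (shiftFunctor D n).Linear k]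
    [Pretriangulated D] [IsTriangulated D] [HasCoproducts.{v} D]
    (hD : CohDer.IsCompactlyGenerated D)
    (H : (ObjectProperty.FullSubcategory (fun K : D => CohDer.IsCompactObject K))ᵒᵖ ⥤ ModuleCat.{v} k)
    [H.Additive]
    (hlin : ∀ (X Y : ObjectProperty.FullSubcategory (fun K : D => CohDer.IsCompactObject K))
      (r : k) (f : X ⟶ Y), H.map (r • f).op = r • H.map f.op)
    (hcoh : ∀ T ∈ distTriang D, ∀ (h₁ : CohDer.IsCompactObject T.obj₁)
      (h₂ : CohDer.IsCompactObject T.obj₂) (h₃ : CohDer.IsCompactObject T.obj₃)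
      (y : H.obj (op ⟨T.obj₂, h₂⟩)),
      H.map (ObjectProperty.homMk T.mor₁ : (⟨T.obj₁, h₁⟩ : ObjectProperty.FullSubcategory
          (fun K : D => CohDer.IsCompactObject K)) ⟶ ⟨T.obj₂, h₂⟩).op y = 0 →
        ∃ z : H.obj (op ⟨T.obj₃, h₃⟩),
          H.map (ObjectProperty.homMk T.mor₂ : (⟨T.obj₂, h₂⟩ : ObjectProperty.FullSubcategory
            (fun K : D => CohDer.IsCompactObject K)) ⟶ ⟨T.obj₃, h₃⟩).op z = y)
    (hfin : ∀ X, Module.Finite k (H.obj X)) :
    ∃ Y : D, Nonempty (H ≅ (ObjectProperty.ι _).op ⋙ (linearYoneda k D).obj Y) := by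
  classical
  by_cases hz : ∀ X, Subsingleton (H.obj X)
  · refine ⟨0, ⟨NatIso.ofComponents (fun X =>
      (ModuleCat.isZero_of_subsingleton (H.obj X)).iso (?_)) fun {X Y} f => ?_⟩⟩
    · haveI : Subsingleton (((ObjectProperty.ι _).op ⋙ (linearYoneda k D).obj (0 : D)).obj X) :=
        ⟨fun a b => (isZero_zero D).eq_of_tgt a b⟩
      exact ModuleCat.isZero_of_subsingleton _
    · exact (ModuleCat.isZero_of_subsingleton (H.obj X)).eq_of_src _ _
  · obtain ⟨X₀, hX₀⟩ := not_forall.1 hz
    haveI := not_subsingleton_iff_nontrivial.1 hX₀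
    obtain ⟨x₀, hx₀⟩ := exists_ne (0 : H.obj X₀)
    haveI : Small.{v} k := small_of_injective (smul_left_injective k hx₀)
    obtain ⟨T, obj, hc, hall⟩ := Groth.Agent.Lib.FinDimBrown.Small.exists_small hD
    let S : Groth.Agent.Lib.FinDimBrown.Datum k D :=
      { H := H
        additive := inferInstance
        linear := hlin
        T := T
        obj := obj
        compact := hc
        exists_iso := hall
        K1 := Shrink.{v} k
        e1 := Shrink.linearEquiv k k }
    obtain ⟨Y, e, he⟩ := S.exists_iso_natural hD
      (fun T hT h₁ h₂ h₃ y hy => hcoh T hT h₁ h₂ h₃ y hy) (fun hA => hfin _)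
    refine ⟨Y, ⟨NatIso.ofComponents (fun X => (e X.unop.property).toModuleIso) fun {X X'} f => ?_⟩⟩
    ext x
    exact he X'.unop.property X.unop.property f.unop.hom x

end Groth.Agent.S6709
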