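import Groth.Statements.S6710
import Mathlib.RingTheory.Ideal.MinimalPrime.Localization
import Mathlib.RingTheory.Finiteness.Ideal
import Mathlib.RingTheory.LocalRing.Module
import Mathlib.RingTheory.LocalRing.ResidueField.Ideal
import Mathlib.Algebra.Module.FinitePresentation
import Mathlib.LinearAlgebra.Dual.Lemmas

set_option autoImplicit false
universe u v
open CategoryTheory
open FunMor

namespace Groth.Agent.S6710

open scoped TensorProduct

/-- The statement for an affine scheme written in terms of modules: let A be a commutative ring, M a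
finitely presented A-module and N a nonzero A-module with Supp(N) ⊆ Supp(M). Then Hom_A(M, N) is
nonzero. -/
theorem result
    (A : Type u) [CommRing A] (M : Type v) [AddCommGroup M] [Module A M]
    [Module.FinitePresentation A M] (N : Type v) [AddCommGroup N] [Module A N] [Nontrivial N]
    (h : Module.support A N ⊆ Module.support A M) : Nontrivial (M →ₗ[A] N) := by
  classical
  obtain ⟨x, hx⟩ := exists_ne (0 : N)
  let I : Ideal A := Ideal.torsionOf A N x
  have hI : ∀ a, a ∈ I ↔ a • x = 0 := fun a => Ideal.mem_torsionOf_iff x a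
  have hItop : I ≠ ⊤ := fun h => hx (by simpa using (hI 1).1 (h ▸ Submodule.mem_top))
  obtain ⟨m₀, hm₀, hIm₀⟩ := Ideal.exists_le_maximal I hItop
  haveI := hm₀.isPrime
  obtain ⟨p, hp, -⟩ := Ideal.exists_minimalPrimes_le hIm₀
  haveI : p.IsPrime := hp.isPrime
  have hIle : I ≤ p := hp.le
  -- the saturation of `I` at `p`
  let Ip : Ideal A :=
    { carrier := {a | ∃ u, u ∉ p ∧ u * a ∈ I}
      zero_mem' := ⟨1, fun h => Ideal.IsPrime.ne_top inferInstance ((Ideal.eq_top_iff_one p).2 h), by simp⟩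
      add_mem' := by
        rintro a b ⟨u, hu, hua⟩ ⟨v, hv, hvb⟩
        refine ⟨u * v, fun h => (Ideal.IsPrime.mem_or_mem inferInstance h).elim hu hv, ?_⟩
        rw [show u * v * (a + b) = v * (u * a) + u * (v * b) by ring]
        exact add_mem (I.mul_mem_left _ hua) (I.mul_mem_left _ hvb)
      smul_mem' := by
        rintro r a ⟨u, hu, hua⟩
        refine ⟨u, hu, ?_⟩
        rw [smul_eq_mul, show u * (r * a) = r * (u * a) by ring]
        exact I.mul_mem_left _ hua }
  have hIp1 : (1 : A) ∉ Ip := by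
    rintro ⟨u, hu, h1⟩
    rw [mul_one] at h1
    exact hu (hIle h1)
  have hrad : p ≤ Ip.radical := by
    intro a ha
    by_contra hne
    have hdis : Disjoint (I : Set A) ((p.primeCompl ⊔ Submonoid.powers a : Submonoid A) : Set A) := by
      rw [Set.disjoint_left]
      intro z hz hz'
      obtain ⟨y, hy, w, ⟨k, rfl⟩, rfl⟩ := Submonoid.mem_sup.1 hz'
      exact hne ⟨k, y, hy, hz⟩
    obtain ⟨q, hq, hIq, hqd⟩ := Ideal.exists_le_prime_disjoint _ _ hdis
    have hqp : q ≤ p := fun z hz => by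
      by_contra hzp
      exact Set.disjoint_left.1 hqd hz (Submonoid.mem_sup_left (show z ∈ p.primeCompl from hzp))
    exact Set.disjoint_left.1 hqd (hp.2 ⟨hq, hIq⟩ hqp ha) (Submonoid.mem_sup_right (Submonoid.mem_powers a))
  -- `p` lies in the support of `M`
  have hpN : (⟨p, inferInstance⟩ : PrimeSpectrum A) ∈ Module.support A N :=
    Module.mem_support_iff'.2 ⟨x, fun r hr h0 => hr (hIle ((hI r).2 h0))⟩
  haveI := (Module.mem_support_iff_nontrivial_residueField_tensorProduct _).1 (h hpN)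
  let Kp := p.ResidueField
  obtain ⟨z, hz⟩ := exists_ne (0 : Kp ⊗[A] M)
  obtain ⟨φ, hφ⟩ : ∃ φ : Kp ⊗[A] M →ₗ[Kp] Kp, φ z ≠ 0 := by
    by_contra hall
    push_neg at hall
    exact hz ((Module.forall_dual_apply_eq_zero_iff Kp z).1 hall)
  obtain ⟨n, K, e, hK⟩ := Module.FinitePresentation.exists_fin A M
  let π : (Fin n → A) →ₗ[A] M := e.symm.toLinearMap ∘ₗ K.mkQ
  have hπ : Function.Surjective π := e.symm.surjective.comp K.mkQ_surjective
  let ψ : (Fin n → A) →ₗ[A] Kp := (φ.restrictScalars A) ∘ₗ (TensorProduct.mk A Kp M 1) ∘ₗ π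
  have hψ : ∃ v, ψ v ≠ 0 := by
    by_contra hall
    push_neg at hall
    apply hφ
    clear hz hφ
    induction z using TensorProduct.induction_on with
    | zero => simp
    | tmul k m =>
      obtain ⟨v, rfl⟩ := hπ m
      rw [show k ⊗ₜ[A] π v = k • ((1 : Kp) ⊗ₜ[A] π v) by rw [TensorProduct.smul_tmul', smul_eq_mul, mul_one], map_smul]
      rw [show φ ((1 : Kp) ⊗ₜ[A] π v) = ψ v from rfl, hall v, smul_zero]
    | add a b ha hb => rw [map_add, ha, hb, add_zero]
  obtain ⟨⟨bb, hbb⟩, hint⟩ := IsLocalization.exist_integer_multiples (nonZeroDivisors (A ⧸ p)) (Finset.univ : Finset (Fin n))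
    (fun i => ψ (Pi.single i 1))
  obtain ⟨b, rfl⟩ := Ideal.Quotient.mk_surjective bb
  have hb : b ∉ p := fun hbp => nonZeroDivisors.ne_zero hbb (Ideal.Quotient.eq_zero_iff_mem.2 hbp)
  have hint' : ∀ i, ∃ c : A, algebraMap A Kp c = algebraMap A Kp b * ψ (Pi.single i 1) := by
    intro i
    obtain ⟨w, hw⟩ := hint i (Finset.mem_univ i)
    obtain ⟨c, rfl⟩ := Ideal.Quotient.mk_surjective w
    refine ⟨c, hw.trans ?_⟩
    rw [Algebra.smul_def]
    rfl
  choose c hc using hint'
  let L : (Fin n → A) →ₗ[A] A := Fintype.linearCombination A c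
  have hL : ∀ v, algebraMap A Kp (L v) = algebraMap A Kp b * ψ v := by
    intro v
    conv_rhs => rw [pi_eq_sum_univ' v, map_sum, Finset.mul_sum]
    rw [Fintype.linearCombination_apply, map_sum]
    refine Finset.sum_congr rfl fun i _ => ?_
    rw [smul_eq_mul, map_mul, hc, map_smul, Algebra.smul_def, mul_left_comm]
  have hker : ∀ a, algebraMap A Kp a = 0 ↔ a ∈ p := fun a => Ideal.algebraMap_residueField_eq_zero
  have hrel : K.map L ≤ p := by
    rintro _ ⟨r, hr, rfl⟩
    rw [← hker, hL, show ψ r = φ ((1 : Kp) ⊗ₜ[A] π r) from rfl,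
      show π r = e.symm (K.mkQ r) from rfl, show K.mkQ r = 0 from (Submodule.Quotient.mk_eq_zero K).2 hr,
      map_zero, TensorProduct.tmul_zero, map_zero, mul_zero]
  have hfg : (K.map L).FG := hK.map L
  obtain ⟨k, hk⟩ := Ideal.exists_pow_le_of_le_radical_of_fg (le_trans hrel hrad) hfg
  have hH : ∃ k, (K.map L : Ideal A) ^ k ≤ Ip := ⟨k, hk⟩
  have hk0 : Nat.find hH ≠ 0 := fun h0 => hIp1 (by
    have := Nat.find_spec hH
    rw [h0, pow_zero, Ideal.one_eq_top] at this
    exact this Submodule.mem_top)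
  obtain ⟨j, hj⟩ := Nat.exists_eq_succ_of_ne_zero hk0
  obtain ⟨s, hs, hsI⟩ := SetLike.not_le_iff_exists.1 (Nat.find_min hH (show j < Nat.find hH by omega))
  obtain ⟨F, hF⟩ := hfg
  have hu : ∀ a : F, ∃ u, u ∉ p ∧ u * ((a : A) * s) ∈ I := fun a => by
    have : (a : A) * s ∈ (K.map L : Ideal A) ^ Nat.find hH := by
      rw [hj, pow_succ']
      exact Ideal.mul_mem_mul (hF ▸ Submodule.subset_span a.2) hs
    exact Nat.find_spec hH this
  choose u hu hu' using hu
  let U := ∏ a, u a
  have hU : U ∉ p := fun h' => by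
    obtain ⟨a, -, ha⟩ := (Ideal.IsPrime.prod_mem_iff (p := p)).1 h'
    exact hu a ha
  have hkill : ∀ a ∈ (K.map L : Ideal A), U * (a * s) ∈ I := by
    intro a ha
    rw [← hF] at ha
    induction ha using Submodule.span_induction with
    | mem a ha =>
      obtain ⟨d, hd⟩ : u ⟨a, ha⟩ ∣ U := Finset.dvd_prod_of_mem u (Finset.mem_univ _)
      rw [hd, mul_comm (u ⟨a, ha⟩) d, mul_assoc]
      exact I.mul_mem_left _ (hu' ⟨a, ha⟩)
    | zero => simp
    | add a b _ _ ha hb => rw [add_mul, mul_add]; exact add_mem ha hb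
    | smul r a _ ha =>
      rw [smul_eq_mul, show U * (r * a * s) = r * (U * (a * s)) by ring]
      exact I.mul_mem_left _ ha
  let g₀ : (Fin n → A) →ₗ[A] N := (LinearMap.toSpanSingleton A N x) ∘ₗ ((U * s) • L)
  have hg : K ≤ LinearMap.ker g₀ := by
    intro r hr
    show ((U * s) • L r) • x = 0
    rw [← hI, smul_eq_mul, show U * s * L r = U * (L r * s) by ring]
    exact hkill _ ⟨r, hr, rfl⟩
  let g : M →ₗ[A] N := K.liftQ g₀ hg ∘ₗ e.toLinearMap
  refine ⟨g, 0, fun hg0 => ?_⟩
  obtain ⟨v, hv⟩ := hψ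
  have h1 : L v ∉ p := fun hmem => by
    rw [← hker, hL, mul_eq_zero] at hmem
    exact hmem.elim (fun h' => hb ((hker b).1 h')) hv
  have h2 : ((U * s) • L v) • x = 0 := by
    have := LinearMap.congr_fun hg0 (e.symm (K.mkQ v))
    simp only [g, LinearMap.comp_apply, LinearEquiv.coe_coe, LinearEquiv.apply_symm_apply] at this
    exact this
  refine hsI ⟨U * L v, fun h' => (Ideal.IsPrime.mem_or_mem inferInstance h').elim hU h1, ?_⟩
  rw [show U * L v * s = U * s * L v by ring]
  exact (hI _).2 h2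

end Groth.Agent.S6710
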