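import Groth.Statements.S6712
import Groth.Agent.S10888

set_option autoImplicit false
universe u
open CategoryTheory AlgebraicGeometry
open DEquiv

namespace Groth.Agent.S6712

open CategoryTheory.Limits in
/-- Let S be a Noetherian scheme, s ∈ S, and p : X ⟶ Y a morphism over S where X ⟶ S and Y ⟶ S are
proper and X ⟶ S is flat. If the fibre X_s ⟶ Y_s of p is an isomorphism, then there is an open
neighbourhood U of s such that the base change X_U ⟶ Y_U of p is an isomorphism. -/
theorem result
    {S X Y : Scheme.{u}} [IsNoetherian S] (s : S) (g : X ⟶ S) (h : Y ⟶ S) (p : X ⟶ Y)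
    (w : p ≫ h = g) [IsProper g] [IsProper h] [Flat g]
    (hs : IsIso (pullback.map g (S.fromSpecResidueField s) h (S.fromSpecResidueField s) p (𝟙 _)
      (𝟙 _) ((Category.comp_id g).trans w.symm)
      ((Category.comp_id _).trans (Category.id_comp _).symm))) :
    ∃ U : S.Opens, s ∈ U ∧
      IsIso (pullback.map g U.ι h U.ι p (𝟙 _) (𝟙 _) ((Category.comp_id g).trans w.symm)
        ((Category.comp_id _).trans (Category.id_comp _).symm)) := by
  haveI : LocallyOfFinitePresentation g := inferInstance
  haveI : LocallyOfFinitePresentation h := inferInstance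
  obtain ⟨U, hU, hiso⟩ := Groth.Agent.S10888.result g h p w
  refine ⟨U, (hU s).2 ⟨@asIso _ _ _ _ _ hs, pullback.lift_fst _ _ _⟩, ?_⟩
  let m : pullback g U.ι ⟶ pullback h U.ι := pullback.map g U.ι h U.ι p (𝟙 _) (𝟙 _)
    ((Category.comp_id g).trans w.symm) ((Category.comp_id _).trans (Category.id_comp _).symm)
  change IsIso m
  have hm : m ≫ pullback.fst h U.ι = pullback.fst g U.ι ≫ p := pullback.lift_fst _ _ _
  have hm2 : m ≫ pullback.snd h U.ι = pullback.snd g U.ι := (pullback.lift_snd _ _ _).trans (Category.comp_id _)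
  have hsq : IsPullback (pullback.fst g U.ι) m p (pullback.fst h U.ι) := by
    refine IsPullback.of_bot ?_ hm.symm (IsPullback.of_hasPullback h U.ι)
    rw [w]
    exact (congrArg (fun v => IsPullback (pullback.fst g U.ι) v g U.ι) hm2).mpr
      (IsPullback.of_hasPullback g U.ι)
  have hr : Set.range (pullback.fst h U.ι) ⊆ Set.range (h ⁻¹ᵁ U).ι := by
    rintro _ ⟨y, rfl⟩
    rw [Scheme.Opens.range_ι]
    show h (pullback.fst h U.ι y) ∈ U
    rw [← Scheme.Hom.comp_apply, pullback.condition, Scheme.Hom.comp_apply]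
    exact (pullback.snd h U.ι y).2
  let z := IsOpenImmersion.lift (h ⁻¹ᵁ U).ι (pullback.fst h U.ι) hr
  have hz : z ≫ (h ⁻¹ᵁ U).ι = pullback.fst h U.ι := IsOpenImmersion.lift_fac _ _ _
  have hW := isPullback_morphismRestrict p (h ⁻¹ᵁ U)
  let l := hW.flip.lift (pullback.fst g U.ι) (m ≫ z) (by rw [Category.assoc, hz, hm])
  have hl : IsPullback l m (p ∣_ (h ⁻¹ᵁ U)) z := by
    refine IsPullback.of_right ?_ (hW.flip.lift_snd _ _ _) hW.flip
    rw [hW.flip.lift_fst, hz]
    exact hsq
  exact MorphismProperty.of_isPullback (P := MorphismProperty.isomorphisms Scheme) hl hiso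

end Groth.Agent.S6712
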