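import Groth.Statements.S6713
import Mathlib.Algebra.Homology.DerivedCategory.Fractions
import Mathlib.Algebra.Homology.DerivedCategory.TStructure
import Mathlib.Data.Countable.Basic
import Mathlib.SetTheory.Cardinal.Basic
import Mathlib.Data.Int.Interval

set_option autoImplicit false
universe w v u
open CategoryTheory
open DEquiv

namespace Groth.Agent.S6713

section
open CategoryTheory CategoryTheory.Limits DerivedCategory Pretriangulated
open scoped ZeroObject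

variable {A : Type u} [Category.{v} A] [Abelian A]

/-- Extension of objects given on an interval by a fixed one. -/
def ext' (a b : ℤ) (n₀ : ℕ) (c : Finset.Icc a b → ℕ) (i : ℤ) : ℕ :=
  if h : i ∈ Finset.Icc a b then c ⟨i, h⟩ else n₀

/-- Encodings of bounded complexes with terms in the range of `e`. -/
def Cod (e : ℕ → A) (n₀ : ℕ) : Type v :=
  Σ p : ℤ × ℤ, Σ c : (Finset.Icc p.1 p.2 → ℕ),
    ∀ i : Finset.Icc p.1 p.2, e (ext' p.1 p.2 n₀ c i) ⟶ e (ext' p.1 p.2 n₀ c ((i : ℤ) + 1))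

theorem countable_cod (hhom : ∀ X Y : A, Countable (X ⟶ Y)) (e : ℕ → A) (n₀ : ℕ) :
    Countable (Cod e n₀) := by
  haveI := hhom
  unfold Cod
  infer_instance

theorem exists_reps (hhom : ∀ X Y : A, Countable (X ⟶ Y))
    (hiso : ∃ e : ℕ → A, ∀ X : A, ∃ n : ℕ, Nonempty (X ≅ e n)) :
    ∃ S : Set (CochainComplex A ℤ), S.Countable ∧
      ∀ (K : CochainComplex A ℤ) (a b : ℤ) [K.IsStrictlyGE a] [K.IsStrictlyLE b],
        ∃ K' ∈ S, Nonempty (K ≅ K') := by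
  classical
  obtain ⟨e, he⟩ := hiso
  obtain ⟨n₀, ⟨z⟩⟩ := he 0
  have hz : IsZero (e n₀) := (isZero_zero A).of_iso z.symm
  haveI := countable_cod hhom e n₀
  let dd : ∀ (x : Cod e n₀) (i : ℤ),
      e (ext' x.1.1 x.1.2 n₀ x.2.1 i) ⟶ e (ext' x.1.1 x.1.2 n₀ x.2.1 (i + 1)) := fun x i =>
    if h : i ∈ Finset.Icc x.1.1 x.1.2 then x.2.2 ⟨i, h⟩ else 0
  let mk : Cod e n₀ → CochainComplex A ℤ := fun x =>
    if H : ∀ i : ℤ, dd x i ≫ dd x (i + 1) = 0
    then CochainComplex.of (fun i => e (ext' x.1.1 x.1.2 n₀ x.2.1 i)) (dd x) H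
    else 0
  refine ⟨Set.range mk, Set.countable_range mk, fun K a b _ _ => ?_⟩
  choose c hc using fun i : ℤ => he (K.X i)
  let c' : Finset.Icc a b → ℕ := fun i => c i
  have φ : ∀ i : ℤ, Nonempty (K.X i ≅ e (ext' a b n₀ c' i)) := fun i => by
    unfold ext'
    split_ifs with h
    · exact hc i
    · rw [Finset.mem_Icc, not_and_or, not_le, not_le] at h
      exact h.elim (fun h => ⟨(K.isZero_of_isStrictlyGE a i h).iso hz⟩)
        (fun h => ⟨(K.isZero_of_isStrictlyLE b i h).iso hz⟩)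
  let x : Cod e n₀ := ⟨(a, b), c', fun i => (φ i).some.inv ≫ K.d i (i + 1) ≫ (φ ((i : ℤ) + 1)).some.hom⟩
  let f : ∀ i : ℤ, e (ext' a b n₀ c' i) ⟶ e (ext' a b n₀ c' (i + 1)) :=
    fun i => (φ i).some.inv ≫ K.d i (i + 1) ≫ (φ (i + 1)).some.hom
  have hd : ∀ i, (if h : i ∈ Finset.Icc a b then x.2.2 ⟨i, h⟩ else 0) = f i := fun i => by
    split_ifs with h
    · rfl
    · refine (IsZero.eq_of_src ?_ _ _)
      show IsZero (e (ext' a b n₀ c' i))
      unfold ext'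
      rw [dif_neg h]
      exact hz
  have hdd : ∀ i, dd x i = f i := fun i => hd i
  have H : ∀ i : ℤ, dd x i ≫ dd x (i + 1) = 0 := fun i => by
    rw [hdd, hdd]
    simp [f]
  refine ⟨mk x, ⟨x, rfl⟩, ⟨?_⟩⟩
  rw [show mk x = CochainComplex.of (fun i => e (ext' a b n₀ c' i)) (dd x) H from dif_pos H]
  refine HomologicalComplex.Hom.isoOfComponents (fun i => (φ i).some) fun i j hij => ?_
  obtain rfl : i + 1 = j := hij
  show (φ i).some.hom ≫ CochainComplex.of.d (fun i => e (ext' a b n₀ c' i)) (dd x) i (i + 1) = _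
  rw [CochainComplex.of_d, hdd]
  simp [f]

theorem countable_hom (hhom : ∀ X Y : A, Countable (X ⟶ Y)) (X Y : CochainComplex A ℤ) (a b : ℤ)
    [X.IsStrictlyGE a] [X.IsStrictlyLE b] : Countable (X ⟶ Y) := by
  haveI := hhom
  refine Function.Injective.countable (f := fun (g : X ⟶ Y) (i : Finset.Icc a b) => g.f i) fun g g' h => ?_
  ext i
  by_cases hi : i ∈ Finset.Icc a b
  · exact congrFun h ⟨i, hi⟩
  · rw [Finset.mem_Icc, not_and_or, not_le, not_le] at hi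
    exact hi.elim (fun h => (X.isZero_of_isStrictlyGE a i h).eq_of_src _ _)
      (fun h => (X.isZero_of_isStrictlyLE b i h).eq_of_src _ _)

variable [HasDerivedCategory.{w} A]

theorem countable_Q_hom (hhom : ∀ X Y : A, Countable (X ⟶ Y))
    (hiso : ∃ e : ℕ → A, ∀ X : A, ∃ n : ℕ, Nonempty (X ≅ e n))
    (X Y : CochainComplex A ℤ) (a b : ℤ) [X.IsStrictlyGE a] [X.IsStrictlyLE b] [Y.IsStrictlyGE a] :
    Countable (Q.obj X ⟶ Q.obj Y) := by
  classical
  obtain ⟨S, hS, hS'⟩ := exists_reps hhom hiso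
  let T : Type _ := {K : CochainComplex A ℤ // K ∈ S ∧ K.IsStrictlyGE a ∧ K.IsStrictlyLE b}
  haveI : Countable T := (hS.mono (fun K hK => hK.1 : {K | K ∈ S ∧ K.IsStrictlyGE a ∧ K.IsStrictlyLE b} ⊆ S)).to_subtype
  haveI : ∀ (K : T) (Z : CochainComplex A ℤ), Countable (K.1 ⟶ Z) := fun K Z => by
    haveI := K.2.2.1
    haveI := K.2.2.2
    exact countable_hom hhom K.1 Z a b
  let F : (Σ K : T, (K.1 ⟶ X) × (K.1 ⟶ Y)) → (Q.obj X ⟶ Q.obj Y) := fun p =>
    if h : IsIso (Q.map p.2.1) then inv (Q.map p.2.1) ≫ Q.map p.2.2 else 0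
  refine Function.Surjective.countable (f := F) fun φ => ?_
  obtain ⟨X', h1, h2, s, hs, g, rfl⟩ := right_fac_of_isStrictlyLE_of_isStrictlyGE a b φ
  obtain ⟨K', hK', ⟨i⟩⟩ := hS' X' a b
  haveI : IsIso (Q.map (i.inv ≫ s)) := by rw [Functor.map_comp]; infer_instance
  haveI : K'.IsStrictlyGE a := CochainComplex.isStrictlyGE_of_iso i a
  haveI : K'.IsStrictlyLE b := CochainComplex.isStrictlyLE_of_iso i b
  refine ⟨⟨⟨K', hK', ‹_›, ‹_›⟩, i.inv ≫ s, i.inv ≫ g⟩, ?_⟩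
  show (if h : IsIso (Q.map (i.inv ≫ s)) then inv (Q.map (i.inv ≫ s)) ≫ Q.map (i.inv ≫ g) else 0) = _
  rw [dif_pos ‹_›, IsIso.inv_comp_eq]
  simp

theorem exists_model (K : DerivedCategory.Bounded A) : ∃ (a b : ℤ) (X : CochainComplex A ℤ),
    X.IsStrictlyGE a ∧ X.IsStrictlyLE b ∧ Nonempty (K.obj ≅ Q.obj X) := by
  obtain ⟨⟨a, ha⟩, ⟨b, hb⟩⟩ := K.property
  haveI : K.obj.IsGE a := ha
  haveI : K.obj.IsLE b := hb
  obtain ⟨X, h1, h2, h3⟩ := exists_iso_Q_obj_of_isGE_of_isLE K.obj a b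
  exact ⟨a, b, X, h1, h2, h3⟩

theorem main (hhom : ∀ X Y : A, Countable (X ⟶ Y))
    (hiso : ∃ e : ℕ → A, ∀ X : A, ∃ n : ℕ, Nonempty (X ≅ e n)) :
    (∀ K L : DerivedCategory.Bounded A, Countable (K ⟶ L)) ∧
      ∃ e : ℕ → DerivedCategory.Bounded A, ∀ K : DerivedCategory.Bounded A,
        ∃ n : ℕ, Nonempty (K ≅ e n) := by
  classical
  refine ⟨fun K L => ?_, ?_⟩
  · obtain ⟨a₁, b₁, X, hX1, hX2, ⟨i⟩⟩ := exists_model K
    obtain ⟨a₂, b₂, Y, hY1, hY2, ⟨j⟩⟩ := exists_model L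
    haveI : X.IsStrictlyGE (min a₁ a₂) := X.isStrictlyGE_of_ge (min a₁ a₂) a₁ (min_le_left _ _)
    haveI : Y.IsStrictlyGE (min a₁ a₂) := Y.isStrictlyGE_of_ge (min a₁ a₂) a₂ (min_le_right _ _)
    haveI := countable_Q_hom hhom hiso X Y (min a₁ a₂) b₁
    exact Function.Injective.countable (f := fun (φ : K ⟶ L) => i.inv ≫ φ.hom ≫ j.hom) fun φ ψ h => by
      ext
      simpa using h
  · obtain ⟨S, hS, hS'⟩ := exists_reps hhom hiso
    have hrep : ∀ K : DerivedCategory.Bounded A, ∃ X ∈ S, Nonempty (K.obj ≅ Q.obj X) := fun K => by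
      obtain ⟨a, b, X, h1, h2, ⟨i⟩⟩ := exists_model K
      obtain ⟨X', hX', ⟨j⟩⟩ := hS' X a b
      exact ⟨X', hX', ⟨i ≪≫ Q.mapIso j⟩⟩
    let T : Set (CochainComplex A ℤ) :=
      {X | X ∈ S ∧ ∃ K : DerivedCategory.Bounded A, Nonempty (K.obj ≅ Q.obj X)}
    obtain ⟨i₀⟩ : Nonempty (DerivedCategory.Bounded A) := ⟨⟨(singleFunctor A 0).obj (0 : A),
      ⟨0, (inferInstance : ((singleFunctor A 0).obj (0 : A)).IsGE 0)⟩,
      ⟨0, (inferInstance : ((singleFunctor A 0).obj (0 : A)).IsLE 0)⟩⟩⟩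
    obtain ⟨X₀, hX₀, hi₀⟩ := hrep i₀
    obtain ⟨f, hf⟩ := (hS.mono (fun X hX => hX.1 : T ⊆ S)).exists_eq_range ⟨X₀, hX₀, i₀, hi₀⟩
    have hfm : ∀ n, f n ∈ T := fun n => by rw [hf]; exact ⟨n, rfl⟩
    refine ⟨fun n => (hfm n).2.choose, fun K => ?_⟩
    obtain ⟨X, hX, ⟨i⟩⟩ := hrep K
    have hXT : X ∈ T := ⟨hX, K, ⟨i⟩⟩
    rw [hf] at hXT
    obtain ⟨n, rfl⟩ := hXT
    obtain ⟨j⟩ := (hfm n).2.choose_spec
    exact ⟨n, ⟨ObjectProperty.isoMk _ (i ≪≫ j.symm)⟩⟩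

end

/-- Let A be an abelian category which is countable: Hom(X, Y) is countable for all objects X, Y and
there are countably many isomorphism classes of objects. Then the bounded derived category D^b(A) is
countable in the same sense. -/
theorem result
    {A : Type u} [Category.{v} A] [Abelian A] [HasDerivedCategory.{w} A]
    (hhom : ∀ X Y : A, Countable (X ⟶ Y))
    (hiso : ∃ e : ℕ → A, ∀ X : A, ∃ n : ℕ, Nonempty (X ≅ e n)) :
    (∀ K L : DerivedCategory.Bounded A, Countable (K ⟶ L)) ∧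
      ∃ e : ℕ → DerivedCategory.Bounded A, ∀ K : DerivedCategory.Bounded A,
        ∃ n : ℕ, Nonempty (K ≅ e n) := by
  exact main hhom hiso

end Groth.Agent.S6713
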