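import Groth.Statements.S6721
import Groth.Agent.H56.ExtVanish.Trunc

set_option autoImplicit false
universe u
open CategoryTheory AlgebraicGeometry
attribute [local instance] HasDerivedCategory.standard
open DEquiv

open Groth.Agent

namespace Groth.Agent.S6721

/-- Let X be a Noetherian scheme all of whose local rings are regular and whose underlying space has
Krull dimension d. Let K be a bounded object of D(O_X) with coherent cohomology sheaves and a ∈ ℤ
with H^i(K) = 0 for a < i < a + d. Then the connecting morphism τ_{≥ a+d} K ⟶ (τ_{< a+d} K)⟦1⟧ of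
the truncation triangle vanishes (note τ_{< a+d} K = τ_{≤ a} K here), so K decomposes as τ_{≤ a} K ⊕
τ_{≥ a+d} K. -/
theorem result
    (X : Scheme.{u}) [IsNoetherian X] (hreg : Models.IsRegularScheme X) (d : ℕ)
    (hd : topologicalKrullDim X = d) (K : DCoh.D X) (hK : DCoh.IsCohD K) (lo hi : ℤ)
    [DerivedCategory.IsGE K lo] [DerivedCategory.IsLE K hi] (a : ℤ)
    (hgap : ∀ i : ℤ, a < i → i < a + d → Limits.IsZero (DCoh.HD K i)) :
    (DerivedCategory.TStructure.t.truncGEδLT (a + d)).app K = 0 := by
  have hlt : DCoh.IsCohD ((DerivedCategory.TStructure.t.truncLT (a + d)).obj K) := fun i =>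
    H56.ExtVanish.cohom_truncLT (fun M : X.Modules => Coh.IsCoh M)
      (fun e h => Lib.CohBasics.Closure.isCoh_of_iso e h)
      (fun {M} h => Lib.CohBasics.Closure.isCoh_of_iso ((Limits.isZero_kernel_of_mono (𝟙 _)).iso h)
        (Lib.CohBasics.Closure.isCoh_kernel (𝟙 _) (hK 0) (hK 0).1)) hK (a + d) i
  have hge : DCoh.IsCohD ((DerivedCategory.TStructure.t.truncGE (a + d)).obj K) := fun i =>
    H56.ExtVanish.cohom_truncGE (fun M : X.Modules => Coh.IsCoh M)
      (fun e h => Lib.CohBasics.Closure.isCoh_of_iso e h)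
      (fun {M} h => Lib.CohBasics.Closure.isCoh_of_iso ((Limits.isZero_kernel_of_mono (𝟙 _)).iso h)
        (Lib.CohBasics.Closure.isCoh_kernel (𝟙 _) (hK 0) (hK 0).1)) hK (a + d) i
  exact H56.ExtVanish.eq_zero_of_trunc_gap hreg hd.le K a lo hi hgap hlt hge

end Groth.Agent.S6721
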