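import Groth.Statements.S6722
import Groth.Agent.Lib.CohDelta.SerreGen.Span
import Groth.Agent.Lib.CohDelta.FPApprox.Colim
import Groth.Agent.Lib.ZarCoh.AnnIdeal
import Groth.Agent.Lib.Modules.ZeroLocus

set_option autoImplicit false
set_option linter.style.haveILetI false
set_option linter.style.longLine false
set_option linter.unusedSectionVars false
universe u
open CategoryTheory AlgebraicGeometry
open FunMor

namespace Groth.Agent.S6722


open CategoryTheory CategoryTheory.Limits AlgebraicGeometry Opposite TopologicalSpace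
open Groth.Agent.Lib Groth.Agent.Lib.Modules Groth.Agent.Lib.Modules.StalkModule
  Groth.Agent.Lib.CohDelta Groth.Agent.Lib.CohDelta.IdealMul.Sec
  Groth.Agent.Lib.CohDelta.FPApprox.Sections

section

variable {X : Scheme.{u}} [QuasiSeparatedSpace X] {P : ObjectProperty X.Modules}
  (hSerre : ∀ S : ShortComplex X.Modules, S.ShortExact → Coh.IsQCoh S.X₁ → Coh.IsQCoh S.X₂ →
    Coh.IsQCoh S.X₃ → (P S.X₂ ↔ P S.X₁ ∧ P S.X₃))

include hSerre

omit [QuasiSeparatedSpace X]

theorem sub {A B : X.Modules} [A.IsQuasicoherent] [B.IsQuasicoherent] (f : A ⟶ B) [Mono f] (h : P B) :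
    P A :=
  haveI := QCoh.Closure.isQCoh_cokernel f
  ((hSerre (ShortComplex.mk f (cokernel.π f) (cokernel.condition f))
    { exact := ShortComplex.exact_cokernel f } ‹_› ‹_› ‹_›).mp h).1

theorem quot {A B : X.Modules} [A.IsQuasicoherent] [B.IsQuasicoherent] (g : A ⟶ B) [Epi g] (h : P A) :
    P B :=
  haveI := QCoh.Closure.isQCoh_kernel g
  ((hSerre (ShortComplex.mk (kernel.ι g) g (kernel.condition g))
    { exact := ShortComplex.exact_kernel g } ‹_› ‹_› ‹_›).mp h).2

/-- `P` of the kernel and of the target gives `P` of the source. -/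
theorem of_map {A B : X.Modules} [A.IsQuasicoherent] [B.IsQuasicoherent] (f : A ⟶ B)
    (hk : P (kernel f)) (hB : P B) : P A := by
  haveI := QCoh.Closure.isQCoh_kernel f
  haveI : (Abelian.coimage f).IsQuasicoherent := QCoh.Closure.isQCoh_cokernel (kernel.ι f)
  exact (hSerre (ShortComplex.mk (kernel.ι f) (cokernel.π (kernel.ι f)) (cokernel.condition _))
    { exact := ShortComplex.exact_cokernel _ } ‹_› ‹_› ‹(Abelian.coimage f).IsQuasicoherent›).mpr
      ⟨hk, sub hSerre (Abelian.factorThruCoimage f) hB⟩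

/-- `P` of the source and of the cokernel gives `P` of the target. -/
theorem of_map' {A B : X.Modules} [A.IsQuasicoherent] [B.IsQuasicoherent] (f : A ⟶ B)
    (hA : P A) (hc : P (cokernel f)) : P B := by
  haveI := QCoh.Closure.isQCoh_cokernel f
  haveI : (Abelian.image f).IsQuasicoherent := QCoh.Closure.isQCoh_kernel (cokernel.π f)
  exact (hSerre (ShortComplex.mk (kernel.ι (cokernel.π f)) (cokernel.π f) (kernel.condition _))
    { exact := ShortComplex.exact_kernel _ } ‹(Abelian.image f).IsQuasicoherent› ‹_› ‹_›).mpr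
      ⟨quot hSerre (Abelian.factorThruImage f) hA, hc⟩

theorem biprod' {A B : X.Modules} [A.IsQuasicoherent] [B.IsQuasicoherent] (hA : P A) (hB : P B) :
    P (A ⊞ B) := by
  haveI : (A ⊞ B).IsQuasicoherent := QCoh.Closure.isQCoh_biprod
  exact (hSerre (ShortComplex.mk (biprod.inl : A ⟶ A ⊞ B) biprod.snd biprod.inl_snd)
    (ShortComplex.Splitting.ofHasBinaryBiproduct A B).shortExact ‹_› ‹_› ‹_›).mpr ⟨hA, hB⟩

theorem of_isZero {Z F : X.Modules} [F.IsQuasicoherent] (hZ : IsZero Z) (hF : P F) : P Z := by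
  haveI : Z.IsQuasicoherent := by
    haveI := QCoh.Closure.isQCoh_kernel (𝟙 F)
    exact CohBasics.Closure.isQCoh_of_iso (hZ.iso (isZero_kernel_of_mono (𝟙 F))).symm
  haveI : Mono (hZ.to_ F) := hZ.mono _
  exact sub hSerre (hZ.to_ F) hF

/-- `P` follows from `P` of all finite type quasi-coherent submodules. -/
theorem of_ft [CompactSpace X] [QuasiSeparatedSpace X]
    (hsum : ∀ (ι : Type u) (M : ι → X.Modules), (∀ i, Coh.IsQCoh (M i)) → (∀ i, P (M i)) → P (∐ M))
    (E : X.Modules) [E.IsQuasicoherent]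
    (h : ∀ (S : X.Modules) (i : S ⟶ E), Mono i → S.IsQuasicoherent → CohB1.IsFT S → P S) : P E := by
  haveI : Coh.IsQCoh E := ‹E.IsQuasicoherent›
  have hgen : ∀ a : Σ U : X.affineOpens, Γ(E, U.1), ∃ (G : X.Modules) (i : G ⟶ E), Mono i ∧
      G.IsQuasicoherent ∧ CohB1.IsFT G ∧ ∃ g : Γ(G, a.1.1), appL i a.1.1 g = a.2 := fun a =>
    Groth.Agent.S9819.result E a.1 a.2
  choose G i hi hGq hGf g hg using hgen
  haveI : (∐ G).IsQuasicoherent :=
    QCoh.Closure.isQCoh_of_isColimit (coproductIsCoproduct G) fun a => hGq a.as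
  haveI : Epi (Sigma.desc i) := by
    refine (epi_iff_stalkMapₗ_surjective _).mpr fun x v => ?_
    obtain ⟨O, hxO, s, rfl⟩ := TopCat.Presheaf.exists_germ_eq E.presheaf v
    obtain ⟨W, hW, hx, hWO⟩ := exists_isAffineOpen_mem_and_subset hxO
    let a : Σ U : X.affineOpens, Γ(E, U.1) := ⟨⟨W, hW⟩, E.presheaf.map (homOfLE hWO).op s⟩
    refine ⟨stalkMapₗ (Sigma.ι G a) x ((G a).presheaf.germ W x hx (g a)), ?_⟩
    rw [← LinearMap.comp_apply, ← stalkMapₗ_comp, Sigma.ι_desc, stalkMapₗ_germ]
    exact (congrArg (E.presheaf.germ W x hx) (hg a)).trans (TopCat.Presheaf.germ_res_apply _ _ _ _ _)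
  exact quot hSerre (Sigma.desc i) (hsum _ G hGq fun a => h _ (i a) (hi a) (hGq a) (hGf a))

end

variable {X : Scheme.{u}}

theorem subsingleton_sub {A B : X.Modules} (f : A ⟶ B) [Mono f] {W : X.Opens}
    (h : Subsingleton Γ(B, W)) : Subsingleton Γ(A, W) :=
  (appL_injective f W).subsingleton

theorem subsingleton_quot {A B : X.Modules} [A.IsQuasicoherent] [B.IsQuasicoherent] (f : A ⟶ B)
    [Epi f] {W : X.Opens} (hW : IsAffineOpen W) (h : Subsingleton Γ(A, W)) : Subsingleton Γ(B, W) :=
  (appL_surjective f hW).subsingleton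

theorem bot_of_mono {A B : X.Modules} (f : A ⟶ B) [Mono f] {W : X.Opens} (a : Ideal Γ(X, W))
    (h : a • (⊤ : Submodule Γ(X, W) Γ(B, W)) = ⊥) : a • (⊤ : Submodule Γ(X, W) Γ(A, W)) = ⊥ := by
  refine eq_bot_iff.mpr (Submodule.smul_le.mpr fun r hr s _ => ?_)
  refine (Submodule.mem_bot _).mpr (appL_injective f W ?_)
  rw [map_smul, map_zero]
  exact (Submodule.mem_bot _).mp (h ▸ Submodule.smul_mem_smul hr Submodule.mem_top)

section

variable [CompactSpace X] [QuasiSeparatedSpace X]
  {F : X.Modules} [F.IsQuasicoherent] [SheafOfModules.IsFiniteType (R := X.ringCatSheaf) F]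
  {P : ObjectProperty X.Modules} (hPF : P F)
  (hSerre : ∀ S : ShortComplex X.Modules, S.ShortExact → Coh.IsQCoh S.X₁ → Coh.IsQCoh S.X₂ →
    Coh.IsQCoh S.X₃ → (P S.X₂ ↔ P S.X₁ ∧ P S.X₃))
  (hsum : ∀ (ι : Type u) (M : ι → X.Modules), (∀ i, Coh.IsQCoh (M i)) → (∀ i, P (M i)) → P (∐ M))

theorem isFT_of_fp (M : X.Modules) (h : CohB1.IsFP M) : CohB1.IsFT M := by
  obtain ⟨σ, hσ⟩ := h
  refine SheafOfModules.IsFiniteType.mk (C := X.Opens) (R := X.ringCatSheaf) (M := M)
    ⟨σ.localGeneratorsData, ?_⟩
  constructor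
  intro i
  exact (hσ.isFinite_presentation i).isFiniteType_generators

/-- The inductive hypothesis: modules vanishing on `V` and on the opens satisfying `Q` have `P`. -/
def Small (F : X.Modules) (P : ObjectProperty X.Modules) (V : X.Opens) (Q : X.Opens → Prop) : Prop :=
  ∀ E : X.Modules, E.IsQuasicoherent → CohB1.support E ⊆ CohB1.support F →
    (∀ W, IsAffineOpen W → Q W → Subsingleton Γ(E, W)) → Subsingleton Γ(E, V) → P E

include hPF hSerre hsum

/-- A module killed on `V` by the annihilator of `F`, with finitely generated sections there. -/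
theorem killed_finite {V : X.Opens} (hV : IsAffineOpen V) {Q : X.Opens → Prop} (IH : Small F P V Q)
    (E : X.Modules) [E.IsQuasicoherent] (hE : CohB1.support E ⊆ CohB1.support F)
    (hQ : ∀ W, IsAffineOpen W → Q W → Subsingleton Γ(E, W))
    (hkill : Module.annihilator Γ(X, V) Γ(F, V) • (⊤ : Submodule Γ(X, V) Γ(E, V)) = ⊥)
    (hfin : Module.Finite Γ(X, V) Γ(E, V)) : P E := by
  classical
  obtain ⟨l, e, he⟩ := @Module.Finite.exists_fin Γ(X, V) Γ(E, V) _ _ _ hfin
  obtain ⟨n, x, hx⟩ := @Module.Finite.exists_fin Γ(X, V) Γ(F, V) _ _ _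
    (CohBasics.Affine.finite_sections (M := F) hV)
  let A := ∐ fun _ : ULift.{u} (Fin l × Fin n) => F
  haveI : A.IsQuasicoherent :=
    QCoh.Closure.isQCoh_of_isColimit (coproductIsCoproduct _) fun _ => ‹F.IsQuasicoherent›
  haveI : (A ⊞ E).IsQuasicoherent := QCoh.Closure.isQCoh_biprod
  let inA : Fin l → Fin n → (F ⟶ A) := fun c i =>
    Sigma.ι (fun _ : ULift.{u} (Fin l × Fin n) => F) ⟨(c, i)⟩
  let prA : Fin l → Fin n → (A ⟶ F) := fun d i =>
    Sigma.desc fun k : ULift.{u} (Fin l × Fin n) => if k.down = (d, i) then 𝟙 F else 0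
  let g : Fin l → Γ(A, V) := fun c => ∑ i, appL (inA c i) V (x i)
  let t : Fin l → Γ(A ⊞ E, V) := fun c =>
    appL (biprod.inl : A ⟶ A ⊞ E) V (g c) + appL (biprod.inr : E ⟶ A ⊞ E) V (e c)
  have hfst : ∀ a b, appL (biprod.fst : A ⊞ E ⟶ A) V
      (appL (biprod.inl : A ⟶ A ⊞ E) V a + appL (biprod.inr : E ⟶ A ⊞ E) V b) = a := fun a b => by
    rw [map_add, ← LinearMap.comp_apply, ← appL_comp, ← LinearMap.comp_apply, ← appL_comp,
      biprod.inl_fst, biprod.inr_fst]
    exact add_zero a
  have hsnd : ∀ a b, appL (biprod.snd : A ⊞ E ⟶ E) V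
      (appL (biprod.inl : A ⟶ A ⊞ E) V a + appL (biprod.inr : E ⟶ A ⊞ E) V b) = b := fun a b => by
    rw [map_add, ← LinearMap.comp_apply, ← appL_comp, ← LinearMap.comp_apply, ← appL_comp,
      biprod.inl_snd, biprod.inr_snd]
    exact zero_add b
  have hpr : ∀ d i c, appL (prA d i) V (g c) = if c = d then x i else 0 := fun d i c => by
    have h1 : ∀ i', appL (prA d i) V (appL (inA c i') V (x i')) =
        if (c, i') = (d, i) then x i' else 0 := fun i' => by
      rw [← LinearMap.comp_apply, ← appL_comp, Sigma.ι_desc]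
      split <;> rfl
    rw [map_sum, Finset.sum_congr rfl fun i' _ => h1 i']
    by_cases hcd : c = d
    · subst hcd
      simp [Prod.ext_iff]
    · simp [Prod.ext_iff, hcd]
  obtain ⟨S, ι, hι, hSq, hr⟩ := CohDelta.SerreGen.Span.exists_sub_span (A ⊞ E) hV t
  haveI := hι
  haveI := hSq
  let p : S ⟶ A := ι ≫ biprod.fst
  haveI := QCoh.Closure.isQCoh_kernel p
  have hkE : Mono (kernel.ι p ≫ ι ≫ biprod.snd) := by
    refine Preadditive.mono_of_cancel_zero _ fun z hz => ?_
    have h2 : z ≫ kernel.ι p ≫ ι = 0 := by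
      refine biprod.hom_ext _ _ ?_ ?_
      · rw [Category.assoc, Category.assoc, show ι ≫ biprod.fst = p from rfl, kernel.condition,
          comp_zero, zero_comp]
      · rw [Category.assoc, Category.assoc, hz, zero_comp]
    exact (cancel_mono (kernel.ι p ≫ ι)).mp (by rw [h2, zero_comp])
  have hker : P (kernel p) := by
    refine IH _ ‹_› ((Modules.Support.support_subset_of_mono (kernel.ι p ≫ ι ≫ biprod.snd)).trans hE)
      (fun W hW hWQ => subsingleton_sub (kernel.ι p ≫ ι ≫ biprod.snd) (hQ W hW hWQ)) ?_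
    refine subsingleton_of_forall_eq 0 fun w => ?_
    have hw0 : appL biprod.fst V (appL (kernel.ι p ≫ ι) V w) = 0 := by
      rw [← LinearMap.comp_apply, ← appL_comp, Category.assoc, show ι ≫ biprod.fst = p from rfl,
        kernel.condition]
      rfl
    have hw : appL (kernel.ι p ≫ ι) V w ∈ Submodule.span Γ(X, V) (Set.range t) := by
      rw [← hr, appL_comp, LinearMap.comp_apply]
      exact LinearMap.mem_range_self _ _
    obtain ⟨r, hr'⟩ := (Submodule.mem_span_range_iff_exists_fun _).mp hw
    have h1 : ∑ c, r c • g c = 0 := by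
      rw [← hr', map_sum] at hw0
      simpa only [map_smul, t, hfst] using hw0
    have h2 : ∀ d, r d ∈ Module.annihilator Γ(X, V) Γ(F, V) := fun d => by
      rw [Module.mem_annihilator]
      intro m
      have hm : m ∈ Submodule.span Γ(X, V) (Set.range x) := hx ▸ Submodule.mem_top
      induction hm using Submodule.span_induction with
      | mem m hm =>
        obtain ⟨i, rfl⟩ := hm
        have h3 := congrArg (appL (prA d i) V) h1
        rw [map_sum, map_zero] at h3
        simpa only [map_smul, hpr, smul_ite, smul_zero, Finset.sum_ite_eq', Finset.mem_univ,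
          if_true] using h3
      | zero => exact smul_zero _
      | add v w _ _ hv hw => rw [smul_add, hv, hw, add_zero]
      | smul a v _ hv => rw [smul_comm, hv, smul_zero]
    refine appL_injective (kernel.ι p ≫ ι) V ?_
    rw [map_zero, ← hr']
    refine Eq.trans ?_ (congrArg (appL biprod.inl V) h1 |>.trans (map_zero _))
    rw [map_sum]
    refine Finset.sum_congr rfl fun c _ => ?_
    have h4 : r c • e c = 0 :=
      (Submodule.mem_bot _).mp (hkill ▸ Submodule.smul_mem_smul (h2 c) Submodule.mem_top)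
    rw [map_smul, smul_add, ← map_smul (appL biprod.inr V), h4, map_zero, add_zero]
  have hS : P S := of_map hSerre p hker (hsum _ _ (fun _ => ‹F.IsQuasicoherent›) fun _ => hPF)
  let q := ι ≫ (biprod.snd : A ⊞ E ⟶ E)
  haveI := QCoh.Closure.isQCoh_cokernel q
  refine of_map' hSerre q hS (IH _ ‹_›
    ((Modules.Support.support_subset_of_epi (cokernel.π q)).trans hE)
    (fun W hW hWQ => subsingleton_quot (cokernel.π q) hW (hQ W hW hWQ)) ?_)
  refine subsingleton_of_forall_eq 0 fun y => ?_
  obtain ⟨m, rfl⟩ := appL_surjective (cokernel.π q) hV y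
  have hm : m ∈ LinearMap.range (appL q V) := by
    have : (⊤ : Submodule Γ(X, V) Γ(E, V)) ≤ LinearMap.range (appL q V) := by
      rw [← he, Submodule.span_le]
      rintro _ ⟨c, rfl⟩
      rw [appL_comp, LinearMap.range_comp, hr, SetLike.mem_coe]
      exact ⟨t c, Submodule.subset_span ⟨c, rfl⟩, hsnd _ _⟩
    exact this Submodule.mem_top
  obtain ⟨s, rfl⟩ := hm
  rw [← LinearMap.comp_apply, ← appL_comp, cokernel.condition]
  rfl

/-- A module killed on `V` by a power of the annihilator of `F`. -/
theorem nilp {V : X.Opens} (hV : IsAffineOpen V) {Q : X.Opens → Prop} (IH : Small F P V Q) (r : ℕ) :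
    ∀ (E : X.Modules) [E.IsQuasicoherent], CohB1.support E ⊆ CohB1.support F →
      (∀ W, IsAffineOpen W → Q W → Subsingleton Γ(E, W)) →
      Module.annihilator Γ(X, V) Γ(F, V) ^ r • (⊤ : Submodule Γ(X, V) Γ(E, V)) = ⊥ → P E := by
  induction r with
  | zero =>
    intro E hEq hE hQ h
    rw [pow_zero, Ideal.one_eq_top, Submodule.top_smul] at h
    exact IH E hEq hE hQ (subsingleton_of_forall_eq 0 fun v =>
      (Submodule.mem_bot Γ(X, V)).mp (h ▸ Submodule.mem_top))
  | succ r ih =>
    intro E hEq hE hQ h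
    let I := ZarCoh.AnnIdeal.annIdeal F
    let ι := Dual3.idealMulι I E
    haveI := QCoh.Closure.isQCoh_cokernel ι
    have hrange : LinearMap.range (appL ι V) = Module.annihilator Γ(X, V) Γ(F, V) • ⊤ :=
      range_ι I E ⟨V, hV⟩
    refine of_map' hSerre ι (ih _ ((Modules.Support.support_subset_of_mono ι).trans hE)
      (fun W hW hWQ => subsingleton_sub ι (hQ W hW hWQ)) ?_) ?_
    · refine (Submodule.map_injective_of_injective (appL_injective ι V)) ?_
      rw [Submodule.map_bot, Submodule.map_smul'', Submodule.map_top, hrange, ← Submodule.mul_smul,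
        ← pow_succ, h]
    · refine of_ft hSerre hsum _ fun S i hi hSq hSf => ?_
      refine killed_finite hPF hSerre hsum hV IH S
        ((Modules.Support.support_subset_of_mono i).trans
          ((Modules.Support.support_subset_of_epi (cokernel.π ι)).trans hE))
        (fun W hW hWQ => subsingleton_sub i (subsingleton_quot (cokernel.π ι) hW (hQ W hW hWQ)))
        (bot_of_mono i _ ?_) (CohBasics.Affine.finite_sections hV)
      refine eq_bot_iff.mpr (Submodule.smul_le.mpr fun a ha y _ => ?_)
      obtain ⟨m, rfl⟩ := appL_surjective (cokernel.π ι) hV y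
      obtain ⟨s, hs⟩ : a • m ∈ LinearMap.range (appL ι V) :=
        hrange ▸ Submodule.smul_mem_smul ha Submodule.mem_top
      rw [← map_smul, ← hs, ← LinearMap.comp_apply, ← appL_comp, cokernel.condition]
      exact Submodule.zero_mem _

end

open CategoryTheory.Limits in
/-- Let X be a quasi-compact and quasi-separated scheme and F a finitely presented (quasi-coherent)
O_X-module. Then every quasi-coherent O_X-module E with Supp(E) ⊆ Supp(F) lies in the smallest Serre
subcategory of QCoh(O_X) containing F which is closed under extensions and arbitrary direct sums.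
Stated as: E has every property P of O_X-modules such that P holds for F, P is a Serre class on
quasi-coherent modules (in a short exact sequence of quasi-coherent modules the middle term has P
iff the outer terms do), and P is closed under direct sums of quasi-coherent modules. (The reverse
inclusion, that such modules form a class of this kind, is not restated.) -/
theorem result
    (X : Scheme.{u}) [CompactSpace X] [QuasiSeparatedSpace X]
    (F : X.Modules) (hFq : Coh.IsQCoh F) (hF : CohB1.IsFP F)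
    (P : ObjectProperty X.Modules) (hPF : P F)
    (hSerre : ∀ S : ShortComplex X.Modules, S.ShortExact → Coh.IsQCoh S.X₁ → Coh.IsQCoh S.X₂ →
      Coh.IsQCoh S.X₃ → (P S.X₂ ↔ P S.X₁ ∧ P S.X₃))
    (hsum : ∀ (ι : Type u) (M : ι → X.Modules), (∀ i, Coh.IsQCoh (M i)) → (∀ i, P (M i)) →
      P (∐ M))
    (E : X.Modules) (hE : Coh.IsQCoh E) (hsupp : CohB1.support E ⊆ CohB1.support F) :
    P E := by
  classical
  haveI : F.IsQuasicoherent := hFq
  haveI : SheafOfModules.IsFiniteType (R := X.ringCatSheaf) F := isFT_of_fp F hF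
  obtain ⟨T, -, hT⟩ := CohDelta.FPApprox.Approx.exists_cover (X := X) (U := ⊤)
    (by simpa using isCompact_univ)
  suffices key : ∀ s : Finset X.affineOpens, ∀ E : X.Modules, E.IsQuasicoherent →
      CohB1.support E ⊆ CohB1.support F → (∀ W ∈ T, W ∉ s → Subsingleton Γ(E, W.1)) → P E from
    key T E hE hsupp fun W hW hW' => absurd hW hW'
  intro s
  induction s using Finset.induction_on with
  | empty =>
    intro E hEq _ h0
    haveI := hEq
    refine of_isZero hSerre (Modules.AffineSections.isZero_of_sections fun x => ?_) hPF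
    obtain ⟨W, hW, hx⟩ := hT x trivial
    exact ⟨W.1, W.2, hx, h0 W hW (by simp)⟩
  | insert V s _ ih =>
    intro E hEq hE h0
    haveI := hEq
    have hV : IsAffineOpen V.1 := V.2
    let Q : X.Opens → Prop := fun W => ∃ W' ∈ T, W' ∉ insert V s ∧ W'.1 = W
    have IH : Small F P V.1 Q := fun E' hE'q hE' hQ' hV' => ih E' hE'q hE' fun W hW hWs => by
      by_cases h : W = V
      · exact h ▸ hV'
      · exact hQ' W.1 W.2 ⟨W, hW, by simp [h, hWs], rfl⟩
    refine of_ft hSerre hsum E fun S i hi hSq hSf => ?_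
    haveI : Module.FinitePresentation Γ(X, V.1) Γ(F, V.1) := fpAt_of_isFP hF hV
    obtain ⟨J, r, hJ, hJle, hr⟩ :=
      CohDelta.SerreGen.Span.exists_fg_between Γ(X, V.1) Γ(F, V.1)
    have hrad : J ≤ (Module.annihilator Γ(X, V.1) Γ(S, V.1)).radical := by
      refine hJle.trans fun a ha => ?_
      haveI : Module.Finite Γ(X, V.1) Γ(S, V.1) := CohBasics.Affine.finite_sections hV
      obtain ⟨gS, hgS⟩ := (‹Module.Finite Γ(X, V.1) Γ(S, V.1)›).fg_top
      have hpow : ∀ m : Γ(S, V.1), ∃ k : ℕ, a ^ k • m = 0 := fun m => by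
        letI := Modules.ZeroLocus.modBasic a S
        haveI := Modules.ZeroLocus.isLocalizedModule_resBasic hV a S
        have h0' : Modules.ZeroLocus.resBasic a S m = 0 := by
          refine TopCat.Presheaf.section_ext ⟨S.presheaf, S.isSheaf⟩ (X.basicOpen a) _ _ fun y hy => ?_
          exact @Subsingleton.elim _ (Modules.Support.not_mem_support_iff.mp fun hyS =>
            ZarCoh.AnnIdeal.subsingleton_stalk_of_mem_annihilator F hV (X.basicOpen_le a hy) ha hy
              (hE (Modules.Support.support_subset_of_mono i hyS))) _ _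
        obtain ⟨⟨_, k, rfl⟩, hk⟩ :=
          (IsLocalizedModule.eq_zero_iff (Submonoid.powers a) (Modules.ZeroLocus.resBasic a S)).mp h0'
        exact ⟨k, hk⟩
      choose k hk using hpow
      refine ⟨gS.sup k, ?_⟩
      rw [← Submodule.annihilator_top, ← hgS, Submodule.mem_annihilator_span]
      rintro ⟨m, hm⟩
      rw [← Nat.sub_add_cancel (Finset.le_sup (f := k) hm), pow_add, mul_smul, hk, smul_zero]
    obtain ⟨d, hd⟩ := Ideal.exists_pow_le_of_le_radical_of_fg hrad hJ
    refine nilp hPF hSerre hsum hV IH (r * d) S ((Modules.Support.support_subset_of_mono i).trans hE)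
      (fun W hW hWQ => ?_) (eq_bot_iff.mpr (Submodule.smul_le.mpr fun a ha m _ => ?_))
    · obtain ⟨W', hW', hW's, rfl⟩ := hWQ
      exact subsingleton_sub i (h0 W' hW' hW's)
    · rw [pow_mul] at ha
      exact (Submodule.mem_bot _).mpr
        (Module.mem_annihilator.mp (hd (Ideal.pow_right_mono hr d ha)) m)

end Groth.Agent.S6722
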