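import Groth.Statements.S6726
import Groth.Agent.H73.FPDet

set_option autoImplicit false
set_option linter.style.haveILetI false
universe u v' u'
open CategoryTheory CategoryTheory.Limits
open FunMor Groth.Agent.H73

namespace Groth.Agent.S6726

/-- Full faithfulness of the functor F ↦ (F(A), induced A-action): let A be a commutative ring, B an
additive category with cokernels, and F, F' right exact functors from the category of finitely
presented A-modules to B. Then two natural transformations F ⟶ F' with the same component at A are
equal, and a morphism φ : F(A) ⟶ F'(A) is the component at A of a natural transformation as soon as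
it commutes with F and F' applied to multiplication by every a ∈ A. -/
theorem result
    (A : Type u) [CommRing A] {B : Type u'} [Category.{v'} B] [Preadditive B] [HasFiniteBiproducts B]
    [HasCokernels B] (F F' : (ObjectProperty.FullSubcategory (fun M : ModuleCat.{u} A => Module.FinitePresentation A M)) ⥤ B)
    [PreservesFiniteColimits F] [PreservesFiniteColimits F'] :
    (∀ t t' : F ⟶ F', t.app (⟨ModuleCat.of A A, inferInstance⟩ : (ObjectProperty.FullSubcategory (fun M : ModuleCat.{u} A => Module.FinitePresentation A M))) = t'.app (⟨ModuleCat.of A A, inferInstance⟩ : (ObjectProperty.FullSubcategory (fun M : ModuleCat.{u} A => Module.FinitePresentation A M))) → t = t') ∧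
    ∀ φ : F.obj (⟨ModuleCat.of A A, inferInstance⟩ : (ObjectProperty.FullSubcategory (fun M : ModuleCat.{u} A => Module.FinitePresentation A M))) ⟶ F'.obj (⟨ModuleCat.of A A, inferInstance⟩ : (ObjectProperty.FullSubcategory (fun M : ModuleCat.{u} A => Module.FinitePresentation A M))),
      (∀ a : A, F.map (ObjectProperty.homMk (ModuleCat.ofHom (LinearMap.lsmul A A a)) : (⟨ModuleCat.of A A, inferInstance⟩ : (ObjectProperty.FullSubcategory (fun M : ModuleCat.{u} A => Module.FinitePresentation A M))) ⟶ (⟨ModuleCat.of A A, inferInstance⟩ : (ObjectProperty.FullSubcategory (fun M : ModuleCat.{u} A => Module.FinitePresentation A M)))) ≫ φ = φ ≫ F'.map (ObjectProperty.homMk (ModuleCat.ofHom (LinearMap.lsmul A A a)) : (⟨ModuleCat.of A A, inferInstance⟩ : (ObjectProperty.FullSubcategory (fun M : ModuleCat.{u} A => Module.FinitePresentation A M))) ⟶ (⟨ModuleCat.of A A, inferInstance⟩ : (ObjectProperty.FullSubcategory (fun M : ModuleCat.{u} A => Module.FinitePresentation A M))))) →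
      ∃ t : F ⟶ F', t.app (⟨ModuleCat.of A A, inferInstance⟩ : (ObjectProperty.FullSubcategory (fun M : ModuleCat.{u} A => Module.FinitePresentation A M))) = φ := by
  haveI := FPDet.additive F'
  refine ⟨fun t t' h => ?_, fun φ hφ => ?_⟩
  · ext M : 2
    refine FPDet.ext F M fun m => ?_
    rw [t.naturality, t'.naturality]
    exact congrArg (· ≫ F'.map (FPDet.el m)) h
  · have key : ∀ M : Groth.FPFunctor.FP A, ∃ d : F.obj M ⟶ F'.obj M,
        ∀ m : M.obj, F.map (FPDet.el m) ≫ d = φ ≫ F'.map (FPDet.el m) := fun M => by
      refine FPDet.desc F M (g := { toFun := fun m => Groth.FPFunctor.HomM.mk _ (φ ≫ F'.map (FPDet.el m))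
                                    map_add' := fun m m' => ?_
                                    map_smul' := fun a m => ?_ })
      · change φ ≫ ((FPDet.η F' M) (m + m')).out = φ ≫ ((FPDet.η F' M) m).out + φ ≫ ((FPDet.η F' M) m').out
        rw [map_add]
        exact Preadditive.comp_add _ _ _ _ _ _
      · change φ ≫ F'.map (FPDet.el (a • m)) = FPDet.act F a ≫ φ ≫ F'.map (FPDet.el m)
        refine (congrArg (φ ≫ ·) (FPDet.act_el F' a m).symm).trans ?_
        rw [← Category.assoc, ← Category.assoc]
        exact congrArg (· ≫ _) (hφ a).symm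
    choose d hd using key
    refine ⟨{ app := d, naturality := fun M N f => FPDet.ext F M fun m => ?_ }, ?_⟩
    · rw [← F.map_comp_assoc, FPDet.el_comp, hd, ← Category.assoc, hd, Category.assoc, ← F'.map_comp,
        FPDet.el_comp]
    · have e : FPDet.el (M := Groth.FPFunctor.fp A) (1 : A) = 𝟙 _ :=
        ObjectProperty.hom_ext _ (ModuleCat.hom_ext (LinearMap.ext_ring (one_smul A (1 : A))))
      have := hd (Groth.FPFunctor.fp A) (1 : A)
      rw [e, F.map_id, F'.map_id, Category.id_comp, Category.comp_id] at this
      exact this

end Groth.Agent.S6726
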