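import Groth.Statements.S6729
import Groth.Agent.S6717
import Groth.Agent.Lib.Cyc.FP.Stalk
import Groth.Agent.Lib.ProjCoh.Coherent
import Groth.Agent.Lib.Perfect.Coherent
import Groth.Agent.Lib.Cyc.Dev.SchemeEquiv
import Groth.Agent.Lib.RefHull.Reflexive
import Groth.Agent.Lib.CohBasics.Closure

set_option autoImplicit false
universe u
open CategoryTheory AlgebraicGeometry
open DEquiv

open Groth.Agent

namespace Groth.Agent.S6729

open CategoryTheory.Limits
variable {A : Type*} [Category A] [Abelian A] (Good Q : ObjectProperty A)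

/-- Resolution by iterated covers of kernels. -/
theorem exists_resolution [Q.IsClosedUnderIsomorphisms] [Good.IsClosedUnderIsomorphisms]
    (hGQ : ∀ Z, Good Z → Q Z) (hker : ∀ {M N : A} (f : M ⟶ N), Q M → Q N → Q (kernel f))
    (hcov : ∀ K, Q K → ∃ (Z : A) (π : Z ⟶ K), Good Z ∧ Epi π) (Z : A) (hZ : Q Z) :
    ∃ (C : ChainComplex A ℕ) (π : C ⟶ (ChainComplex.single₀ A).obj Z), QuasiIso π ∧ ∀ n, Good (C.X n) := by
  classical
  have hcov' : ∀ K, ∃ (W : A) (π : W ⟶ K), Q K → Good W ∧ Epi π := fun K => by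
    by_cases h : Q K
    · obtain ⟨W, π, hW⟩ := hcov K h
      exact ⟨W, π, fun _ => hW⟩
    · exact ⟨K, 𝟙 K, fun h' => absurd h' h⟩
  choose W π hW using hcov'
  let step : ∀ {X₀ X₁ : A} (f : X₁ ⟶ X₀), Σ' (X₂ : A) (d : X₂ ⟶ X₁), d ≫ f = 0 :=
    fun {X₀ X₁} f => ⟨W (kernel f), π (kernel f) ≫ kernel.ι f, by simp⟩
  let C : ChainComplex A ℕ := ChainComplex.mk' (W Z) (W (kernel (π Z))) (π (kernel (π Z)) ≫ kernel.ι (π Z)) step
  have hgood : ∀ n, Good (C.X n) ∧ Good (C.X (n + 1)) := by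
    intro n
    induction n with
    | zero => exact ⟨(hW Z hZ).1, (hW _ (hker _ (hGQ _ (hW Z hZ).1) hZ)).1⟩
    | succ n ih =>
      refine ⟨ih.2, ?_⟩
      have h := hW _ (hker (C.d (n + 1) n) (hGQ _ ih.2) (hGQ _ ih.1))
      exact Good.prop_of_iso (ChainComplex.mk'XIso (W Z) (W (kernel (π Z))) (π (kernel (π Z)) ≫ kernel.ι (π Z)) step n).symm h.1
  have hd : C.d 1 0 = π (kernel (π Z)) ≫ kernel.ι (π Z) := ChainComplex.mk'_d_1_0 _ _ _ _
  have hex : ∀ {U V : A} (f : U ⟶ V), Q U → Q V →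
      (ShortComplex.mk (π (kernel f) ≫ kernel.ι f) f (by simp)).Exact := fun f hU hV => by
    haveI := (hW _ (hker f hU hV)).2
    exact (ShortComplex.exact_iff_of_epi_of_isIso_of_mono (S₁ := ShortComplex.mk (π (kernel f) ≫ kernel.ι f) f (by simp))
      (S₂ := ShortComplex.mk (kernel.ι f) f (kernel.condition f)) ⟨π (kernel f), 𝟙 _, 𝟙 _, by simp, by simp⟩).2
      (ShortComplex.exact_of_f_is_kernel _ (kernelIsKernel f))
  refine ⟨C, (ChainComplex.toSingle₀Equiv _ _).symm ⟨π Z, ?_⟩, ⟨fun n => ?_⟩, fun n => (hgood n).1⟩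
  · exact (congrArg (fun t => t ≫ π Z) hd).trans ((Category.assoc _ _ _).trans ((congrArg (π (kernel (π Z)) ≫ ·) (kernel.condition _)).trans comp_zero))
  cases n with
  | zero =>
    rw [ChainComplex.quasiIsoAt₀_iff, ShortComplex.quasiIso_iff_of_zeros']
    · haveI := (hW Z hZ).2
      refine (ShortComplex.exact_and_epi_g_iff_of_iso ?_).2
        ⟨hex (π Z) (hGQ _ (hW Z hZ).1) hZ, (inferInstance : Epi (π Z))⟩
      exact ShortComplex.isoMk (Iso.refl _) (Iso.refl _) (Iso.refl _)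
        ((Category.id_comp _).trans (hd.symm.trans (Category.comp_id _).symm))
        ((Category.id_comp _).trans ((ChainComplex.toSingle₀Equiv_symm_apply_f_zero (C := C) (π Z) _).symm.trans
          (Category.comp_id _).symm))
    all_goals rfl
  | succ n =>
    rw [quasiIsoAt_iff_exactAt']
    · rw [HomologicalComplex.exactAt_iff' _ (n + 1 + 1) (n + 1) n (by simp) (by simp)]
      refine (ShortComplex.exact_iff_of_iso (S₁ := HomologicalComplex.sc' C (n + 1 + 1) (n + 1) n) (S₂ := ShortComplex.mk (π (kernel (C.d (n + 1) n)) ≫ kernel.ι (C.d (n + 1) n))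
        (C.d (n + 1) n) (by simp)) (ShortComplex.isoMk
        (ChainComplex.mk'XIso (W Z) (W (kernel (π Z))) (π (kernel (π Z)) ≫ kernel.ι (π Z)) step n)
        (Iso.refl _) (Iso.refl _) ?_ ?_)).2 (hex (C.d (n + 1) n) (hGQ _ (hgood n).2) (hGQ _ (hgood n).1))
      · exact ((ChainComplex.mk'_d (W Z) (W (kernel (π Z))) (π (kernel (π Z)) ≫ kernel.ι (π Z)) step n).symm.trans
          (Category.comp_id _).symm)
      · exact (Category.id_comp _).trans (Category.comp_id _).symm
    · apply ChainComplex.exactAt_succ_single_obj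



open CategoryTheory.Limits
/-- Let R be a Noetherian ring and X a separated scheme of finite type over R which has the resolution
property. Let O_Δ = Δ_* O_X on X ×_R X, where Δ is the diagonal. Then there is a resolution ⋯ ⟶ E_1
⊠ G_1 ⟶ E_0 ⊠ G_0 ⟶ O_Δ ⟶ 0 with every E_i and G_i a finite locally free O_X-module: an ℕ-indexed
chain complex with a quasi-isomorphism to O_Δ in degree 0, each of whose terms is isomorphic to
pr_1^* E_i ⊗ pr_2^* G_i. -/
theorem result
    (R : Type u) [CommRing R] [IsNoetherianRing R] (X : Scheme.{u}) [X.Over (Spec (.of R))]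
    [IsSeparated (X ↘ Spec (.of R))] [LocallyOfFiniteType (X ↘ Spec (.of R))] [CompactSpace X]
    (hX : PerfAux.HasResolutionProperty X) :
    ∃ (C : ChainComplex (pullback (X ↘ Spec (.of R)) (X ↘ Spec (.of R))).Modules ℕ)
      (π : C ⟶ (ChainComplex.single₀ _).obj
        ((Coh.push (pullback.diagonal (X ↘ Spec (.of R)))).obj (Coh.structureModule X))),
      QuasiIso π ∧ ∀ n : ℕ, ∃ (E G : X.Modules), FlatMod.IsFinLocFree E ∧ FlatMod.IsFinLocFree G ∧
        Nonempty (C.X n ≅ CohB1.tensorMod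
          ((Scheme.Modules.pullback (pullback.fst (X ↘ Spec (.of R)) (X ↘ Spec (.of R)))).obj E)
          ((Scheme.Modules.pullback (pullback.snd (X ↘ Spec (.of R)) (X ↘ Spec (.of R)))).obj G)) := by
  haveI := LocallyOfFiniteType.isLocallyNoetherian (X ↘ Spec (CommRingCat.of R))
  haveI : QuasiCompact (X ↘ Spec (CommRingCat.of R)) := inferInstance
  haveI : QuasiSeparatedSpace X := quasiSeparatedSpace_of_quasiSeparated (X ↘ Spec (CommRingCat.of R))
  let s := X ↘ Spec (CommRingCat.of R)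
  haveI := LocallyOfFiniteType.isLocallyNoetherian (pullback.fst s s)
  haveI : IsClosedImmersion (pullback.diagonal s) := inferInstance
  let Good : ObjectProperty (pullback s s).Modules := fun C => ∃ (E G : X.Modules), FlatMod.IsFinLocFree E ∧
    FlatMod.IsFinLocFree G ∧ Nonempty (C ≅ CohB1.tensorMod ((Scheme.Modules.pullback (pullback.fst s s)).obj E)
      ((Scheme.Modules.pullback (pullback.snd s s)).obj G))
  let Q : ObjectProperty (pullback s s).Modules := fun C => Coh.IsCoh C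
  haveI : Q.IsClosedUnderIsomorphisms := ⟨fun e h => Lib.CohBasics.Closure.isCoh_of_iso e h⟩
  haveI : Good.IsClosedUnderIsomorphisms := ⟨fun e ⟨E, G, hE, hG, ⟨e'⟩⟩ => ⟨E, G, hE, hG, ⟨e.symm ≪≫ e'⟩⟩⟩
  obtain ⟨C, π, hπ, hC⟩ := exists_resolution Good Q
    (fun C ⟨E, G, hE, hG, ⟨e⟩⟩ => Lib.CohBasics.Closure.isCoh_of_iso e.symm
      (Lib.ProjCoh.Coherent.isCoh_tensorMod
        (Lib.Cyc.FP.Stalk.isCoh_pullback (pullback.fst s s) (Lib.Perfect.Coherent.isCoh_of_isFinLocFree hE))
        (Lib.Cyc.FP.Stalk.isCoh_pullback (pullback.snd s s) (Lib.Perfect.Coherent.isCoh_of_isFinLocFree hG))))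
    (fun f hM hN => Lib.CohBasics.Closure.isCoh_kernel f hM hN.1)
    (fun K hK => by
      obtain ⟨E, G, hE, hG, p, hp⟩ := Groth.Agent.S6717.result R X X hX hX K hK.1 hK.2
      exact ⟨_, p, ⟨E, G, hE, hG, ⟨Iso.refl _⟩⟩, hp⟩)
    ((Coh.push (pullback.diagonal s)).obj (Coh.structureModule X))
    (Lib.Cyc.Dev.SchemeEquiv.isCoh_push (pullback.diagonal s) Lib.RefHull.Reflexive.isCoh_structure)
  exact ⟨C, π, hπ, hC⟩

end Groth.Agent.S6729
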