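import Groth.Statements.S6730
import Groth.Agent.Lib.CohDelta.IndExt.QCoh

set_option autoImplicit false
set_option linter.style.haveILetI false
set_option linter.unusedSectionVars false
universe u
open CategoryTheory CategoryTheory.Limits AlgebraicGeometry
open FunMor

namespace Groth.Agent.S6730

open CategoryTheory CategoryTheory.Limits AlgebraicGeometry Groth.Agent.Lib Groth.Agent.Lib.CohDelta.IndExt
open Groth.Agent.Lib.CohDelta.IndExt.QCoh (coh gen_coh)

section

variable (X : Scheme.{u})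

/-- Coherent modules. -/
abbrev cohM : ObjectProperty X.Modules := fun M => Coh.IsCoh M

/-- Coherent modules into quasi-coherent ones. -/
abbrev incl : (cohM X).FullSubcategory ⥤ QCohCat.QCoh X :=
  ObjectProperty.ιOfLE (P := cohM X) (P' := QCohCat.isQCoh X) fun _ h => h.1

/-- Forget the quasi-coherence of a coherent module. -/
abbrev toM : (coh X).FullSubcategory ⥤ (cohM X).FullSubcategory :=
  (cohM X).lift ((coh X).ι ⋙ (QCohCat.isQCoh X).ι) fun M => M.2

/-- Record the quasi-coherence of a coherent module. -/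
abbrev toQ : (cohM X).FullSubcategory ⥤ (coh X).FullSubcategory :=
  (coh X).lift (incl X) fun M => M.2

instance : (incl X).Additive := ⟨rfl⟩

instance : (toM X).Additive := ⟨rfl⟩

instance : HasBinaryBiproducts (cohM X).FullSubcategory := ⟨fun M N => by
  let Z : (cohM X).FullSubcategory := ⟨M.obj ⊞ N.obj, CohBasics.Closure.isCoh_biprod M.2 N.2⟩
  let b : BinaryBicone M N :=
    { pt := Z
      fst := ObjectProperty.homMk biprod.fst
      snd := ObjectProperty.homMk biprod.snd
      inl := ObjectProperty.homMk biprod.inl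
      inr := ObjectProperty.homMk biprod.inr
      inl_fst := ObjectProperty.hom_ext _ biprod.inl_fst
      inl_snd := ObjectProperty.hom_ext _ biprod.inl_snd
      inr_fst := ObjectProperty.hom_ext _ biprod.inr_fst
      inr_snd := ObjectProperty.hom_ext _ biprod.inr_snd }
  exact HasBinaryBiproduct.mk ⟨b, isBinaryBilimitOfTotal b (ObjectProperty.hom_ext _ biprod.total)⟩⟩

instance [IsLocallyNoetherian X] : (cohM X).ContainsZero :=
  have h : Coh.IsCoh (FlatMod.freeMod X 1) :=
    ⟨Modules.AffineSections.isQCoh_of_isFinLocFree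
      (TensorMod.LocFree.of_rank (TensorMod.LocFree.isFinLocFree_freeMod X 1)),
      CohDelta.IndExt.QCoh.isFT_of_isFP (TensorMod.FPConv.isFP_of_isFinLocFree
        (TensorMod.LocFree.of_rank (TensorMod.LocFree.isFinLocFree_freeMod X 1)))⟩
  ⟨⟨kernel (𝟙 (FlatMod.freeMod X 1)), isZero_kernel_of_mono _,
    CohBasics.Closure.isCoh_kernel _ h h.1⟩⟩

end

/-- Cokernels along isomorphisms. -/
theorem coker_of_iso {D : Type*} [Category D] [HasZeroMorphisms D] {A B A₁ B₁ Q₁ : D}
    {φ : A ⟶ B} {s : CokernelCofork φ} (hs : IsColimit s) (a : A ≅ A₁) (b : B ≅ B₁) (c : s.pt ≅ Q₁)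
    {φ₁ : A₁ ⟶ B₁} {π₁ : B₁ ⟶ Q₁} (w : φ₁ ≫ π₁ = 0) (h₁ : φ ≫ b.hom = a.hom ≫ φ₁)
    (h₂ : Cofork.π s ≫ c.hom = b.hom ≫ π₁) : Nonempty (IsColimit (CokernelCofork.ofπ π₁ w)) := by
  haveI : Epi π₁ := by
    haveI : Epi (Cofork.π s) := ⟨fun g h e => Cofork.IsColimit.hom_ext hs e⟩
    have e : π₁ = b.inv ≫ Cofork.π s ≫ c.hom := by rw [h₂, b.inv_hom_id_assoc]
    rw [e]
    exact epi_comp _ _
  refine ⟨CokernelCofork.IsColimit.ofπ' π₁ w fun {T} g hg => ?_⟩
  have hg' : φ ≫ b.hom ≫ g = 0 := by rw [← Category.assoc, h₁, Category.assoc, hg, comp_zero]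
  refine ⟨c.inv ≫ (CokernelCofork.IsColimit.desc' hs _ hg').1, ?_⟩
  rw [← cancel_epi b.hom, ← Category.assoc, ← h₂, Category.assoc, c.hom_inv_id_assoc]
  exact (CokernelCofork.IsColimit.desc' hs _ hg').2

variable {X Y : Scheme.{u}} [IsNoetherian X] [IsNoetherian Y]
  (F : (cohM X).FullSubcategory ⥤ (cohM Y).FullSubcategory)
  (F' : QCohCat.QCoh X ⥤ QCohCat.QCoh Y) [PreservesFilteredColimitsOfSize.{u, u} F']

/-- The extension property, seen on coherent objects of `QCoh X`. -/
def restrIso (e : incl X ⋙ F' ≅ F ⋙ incl Y) : (coh X).ι ⋙ F' ≅ toM X ⋙ F ⋙ incl Y :=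
  NatIso.ofComponents (fun M => e.app ((toM X).obj M)) fun f => e.hom.naturality ((toM X).map f)

theorem additive_ext [F.Additive] (e : incl X ⋙ F' ≅ F ⋙ incl Y) : F'.Additive := by
  haveI : (toM X ⋙ F ⋙ incl Y).Additive := inferInstance
  haveI : ((coh X).ι ⋙ F').Additive := Functor.additive_of_iso (restrIso F F' e).symm
  exact CohDelta.IndExt.additive gen_coh F'

theorem coproducts_ext [F'.Additive] (J : Type u) : PreservesColimitsOfShape (Discrete J) F' := by
  haveI : PreservesFiniteCoproducts F' :=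
    ⟨fun n => preservesCoproductsOfShape_of_preservesBiproductsOfShape F'⟩
  exact CohDelta.IndExt.preservesCoproducts F' J

theorem leftExact_ext [PreservesFiniteLimits F] (e : incl X ⋙ F' ≅ F ⋙ incl Y) :
    PreservesFiniteLimits F' := by
  haveI : F.PreservesZeroMorphisms := Functor.preservesZeroMorphisms_of_preserves_terminal_object
  haveI : PreservesBinaryBiproducts F := preservesBinaryBiproducts_of_preservesBinaryProducts F
  haveI : F.Additive := Functor.additive_of_preservesBinaryBiproducts F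
  haveI := additive_ext F F' e
  haveI : ∀ {M N : QCohCat.QCoh X} (f : M ⟶ N), PreservesLimit (parallelPair f 0) F' := by
    intro M N f
    refine preservesKernel f (fun I _ _ => inferInstance) (fun I _ _ => inferInstance) gen_coh F'
      fun {A B} a hA hB => ?_
    let a₁ : (⟨A.obj, hA⟩ : (cohM X).FullSubcategory) ⟶ ⟨B.obj, hB⟩ := ObjectProperty.homMk a.hom
    have hk : Coh.IsCoh (kernel a.hom) := CohBasics.Closure.isCoh_kernel _ hA B.2
    let K₁ : (cohM X).FullSubcategory := ⟨kernel a.hom, hk⟩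
    let c₁ := KernelFork.ofι (f := a₁) (ObjectProperty.homMk (kernel.ι a.hom) :
      K₁ ⟶ (⟨A.obj, hA⟩ : (cohM X).FullSubcategory))
      (ObjectProperty.hom_ext _ (kernel.condition a.hom))
    have hc₁ : IsLimit c₁ := isLimitOfReflects (cohM X).ι
      ((KernelFork.isLimitMapConeEquiv c₁ _).symm (kernelIsKernel a.hom))
    let K : QCohCat.QCoh X := ⟨kernel a.hom, hk.1⟩
    let c := KernelFork.ofι (f := a) (ObjectProperty.homMk (kernel.ι a.hom) : K ⟶ A)
      (ObjectProperty.hom_ext _ (kernel.condition a.hom))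
    have hc : IsLimit c := isLimitOfReflects (QCohCat.isQCoh X).ι
      ((KernelFork.isLimitMapConeEquiv c _).symm (kernelIsKernel a.hom))
    let b := F.map a₁
    haveI : PreservesLimit (parallelPair b 0) (incl Y) := by
      let Kb : (cohM Y).FullSubcategory :=
        ⟨kernel b.hom, CohBasics.Closure.isCoh_kernel _ (F.obj _).2 (F.obj _).2.1⟩
      let d := KernelFork.ofι (f := b) (ObjectProperty.homMk (kernel.ι b.hom) : Kb ⟶ F.obj ⟨A.obj, hA⟩)
        (ObjectProperty.hom_ext _ (kernel.condition b.hom))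
      have hd : IsLimit d := isLimitOfReflects (cohM Y).ι
        ((KernelFork.isLimitMapConeEquiv d _).symm (kernelIsKernel b.hom))
      exact preservesLimit_of_preserves_limit_cone hd ((KernelFork.isLimitMapConeEquiv d _).symm
        (isLimitOfReflects (QCohCat.isQCoh Y).ι
          ((KernelFork.isLimitMapConeEquiv _ _).symm (kernelIsKernel b.hom))))
    have h₂ : IsKer ((F ⋙ incl Y).map (Fork.ι c₁)) ((F ⋙ incl Y).map a₁) :=
      isKer_of_isLimit _ (KernelFork.mapIsLimit _ (KernelFork.mapIsLimit c₁ hc₁ F) (incl Y))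
    have h₃ : IsKer (F'.map (Fork.ι c)) (F'.map a) :=
      h₂.of_iso (e.app K₁).symm (e.app _).symm (e.app _).symm
        (e.inv.naturality (Fork.ι c₁)) (e.inv.naturality a₁)
    exact preservesLimit_of_preserves_limit_cone hc
      ((KernelFork.isLimitMapConeEquiv c F').symm h₃.isLimit)
  exact F'.preservesFiniteLimits_of_preservesKernels

theorem rightExact_ext [PreservesFiniteColimits F] (e : incl X ⋙ F' ≅ F ⋙ incl Y) :
    PreservesFiniteColimits F' := by
  haveI : F.PreservesZeroMorphisms := Functor.preservesZeroMorphisms_of_preserves_initial_object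
  haveI : PreservesBinaryBiproducts F := preservesBinaryBiproducts_of_preservesBinaryCoproducts F
  haveI : F.Additive := Functor.additive_of_preservesBinaryBiproducts F
  haveI := additive_ext F F' e
  haveI : ∀ {M N : QCohCat.QCoh X} (f : M ⟶ N), PreservesColimit (parallelPair f 0) F' := by
    intro M N f
    refine preservesCokernel f gen_coh F' fun {A B} a hA hB => ?_
    let a₁ : (⟨A.obj, hA⟩ : (cohM X).FullSubcategory) ⟶ ⟨B.obj, hB⟩ := ObjectProperty.homMk a.hom
    have hk : Coh.IsCoh (cokernel a.hom) := CohBasics.Closure.isCoh_cokernel _ A.2 hB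
    let K₁ : (cohM X).FullSubcategory := ⟨cokernel a.hom, hk⟩
    let c₁ := CokernelCofork.ofπ (f := a₁) (ObjectProperty.homMk (cokernel.π a.hom) :
      (⟨B.obj, hB⟩ : (cohM X).FullSubcategory) ⟶ K₁)
      (ObjectProperty.hom_ext _ (cokernel.condition a.hom))
    have hc₁ : IsColimit c₁ := isColimitOfReflects (cohM X).ι
      ((CokernelCofork.isColimitMapCoconeEquiv c₁ _).symm (cokernelIsCokernel a.hom))
    let K : QCohCat.QCoh X := ⟨cokernel a.hom, hk.1⟩
    let c := CokernelCofork.ofπ (f := a) (ObjectProperty.homMk (cokernel.π a.hom) : B ⟶ K)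
      (ObjectProperty.hom_ext _ (cokernel.condition a.hom))
    have hc : IsColimit c := isColimitOfReflects (QCohCat.isQCoh X).ι
      ((CokernelCofork.isColimitMapCoconeEquiv c _).symm (cokernelIsCokernel a.hom))
    let b := F.map a₁
    haveI : PreservesColimit (parallelPair b 0) (incl Y) := by
      let Kb : (cohM Y).FullSubcategory :=
        ⟨cokernel b.hom, CohBasics.Closure.isCoh_cokernel _ (F.obj _).2.1 (F.obj _).2⟩
      let d := CokernelCofork.ofπ (f := b) (ObjectProperty.homMk (cokernel.π b.hom) : F.obj ⟨B.obj, hB⟩ ⟶ Kb)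
        (ObjectProperty.hom_ext _ (cokernel.condition b.hom))
      have hd : IsColimit d := isColimitOfReflects (cohM Y).ι
        ((CokernelCofork.isColimitMapCoconeEquiv d _).symm (cokernelIsCokernel b.hom))
      exact preservesColimit_of_preserves_colimit_cocone hd
        ((CokernelCofork.isColimitMapCoconeEquiv d _).symm
          (isColimitOfReflects (QCohCat.isQCoh Y).ι
            ((CokernelCofork.isColimitMapCoconeEquiv _ _).symm (cokernelIsCokernel b.hom))))
    have h₂ := CokernelCofork.mapIsColimit _ (CokernelCofork.mapIsColimit c₁ hc₁ F) (incl Y)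
    have n₁ : (F ⋙ incl Y).map a₁ ≫ (e.app _).inv = (e.app _).inv ≫ F'.map a := e.inv.naturality a₁
    have n₂ : (F ⋙ incl Y).map (Cofork.π c₁) ≫ (e.app K₁).inv = (e.app _).inv ≫ F'.map (Cofork.π c) :=
      e.inv.naturality (Cofork.π c₁)
    have hw : F'.map a ≫ F'.map (Cofork.π c) = 0 := by
      rw [← F'.map_comp, CokernelCofork.condition, F'.map_zero]
    have hG := coker_of_iso h₂ (e.app _).symm (e.app _).symm (e.app K₁).symm hw n₁ n₂
    exact preservesColimit_of_preserves_colimit_cocone hc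
      ((CokernelCofork.isColimitMapCoconeEquiv c F').symm hG.some)
  exact F'.preservesFiniteColimits_of_preservesCokernels


/-- Let X and Y be Noetherian schemes and F : Coh(O_X) ⥤ Coh(O_Y) a functor. Then F extends to a functor
F' : QCoh(O_X) ⥤ QCoh(O_Y) which commutes with filtered colimits, uniquely up to isomorphism;
moreover for any such extension F': if F is additive, F' commutes with arbitrary direct sums, and if
F is left exact (resp. right exact), so is F'. -/
theorem result
    (X Y : Scheme.{u}) [IsNoetherian X] [IsNoetherian Y]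
    (F : ObjectProperty.FullSubcategory (fun M : X.Modules => Coh.IsCoh M) ⥤ ObjectProperty.FullSubcategory (fun M : Y.Modules => Coh.IsCoh M)) :
    (∃ F' : QCohCat.QCoh X ⥤ QCohCat.QCoh Y, PreservesFilteredColimitsOfSize.{u, u} F' ∧
      Nonempty ((ObjectProperty.ιOfLE (P := (fun M : X.Modules => Coh.IsCoh M)) (P' := QCohCat.isQCoh X) (fun _ h => h.1)) ⋙ F' ≅ F ⋙ (ObjectProperty.ιOfLE (P := (fun M : Y.Modules => Coh.IsCoh M)) (P' := QCohCat.isQCoh Y) (fun _ h => h.1)))) ∧
    (∀ F₁ F₂ : QCohCat.QCoh X ⥤ QCohCat.QCoh Y, PreservesFilteredColimitsOfSize.{u, u} F₁ →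
      PreservesFilteredColimitsOfSize.{u, u} F₂ →
      Nonempty ((ObjectProperty.ιOfLE (P := (fun M : X.Modules => Coh.IsCoh M)) (P' := QCohCat.isQCoh X) (fun _ h => h.1)) ⋙ F₁ ≅ F ⋙ (ObjectProperty.ιOfLE (P := (fun M : Y.Modules => Coh.IsCoh M)) (P' := QCohCat.isQCoh Y) (fun _ h => h.1))) →
      Nonempty ((ObjectProperty.ιOfLE (P := (fun M : X.Modules => Coh.IsCoh M)) (P' := QCohCat.isQCoh X) (fun _ h => h.1)) ⋙ F₂ ≅ F ⋙ (ObjectProperty.ιOfLE (P := (fun M : Y.Modules => Coh.IsCoh M)) (P' := QCohCat.isQCoh Y) (fun _ h => h.1))) → Nonempty (F₁ ≅ F₂)) ∧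
    ∀ F' : QCohCat.QCoh X ⥤ QCohCat.QCoh Y, PreservesFilteredColimitsOfSize.{u, u} F' →
      Nonempty ((ObjectProperty.ιOfLE (P := (fun M : X.Modules => Coh.IsCoh M)) (P' := QCohCat.isQCoh X) (fun _ h => h.1)) ⋙ F' ≅ F ⋙ (ObjectProperty.ιOfLE (P := (fun M : Y.Modules => Coh.IsCoh M)) (P' := QCohCat.isQCoh Y) (fun _ h => h.1))) →
      (F.Additive → ∀ J : Type u, PreservesColimitsOfShape (Discrete J) F') ∧
      (PreservesFiniteLimits F → PreservesFiniteLimits F') ∧
      (PreservesFiniteColimits F → PreservesFiniteColimits F') := by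
  refine ⟨?_, ?_, ?_⟩
  · obtain ⟨F', hF', ⟨e⟩⟩ := exists_extension (gen_coh (X := X)) (toM X ⋙ F ⋙ incl Y)
    exact ⟨F', hF', ⟨NatIso.ofComponents (fun M => e.app ((toQ X).obj M))
      fun f => e.hom.naturality ((toQ X).map f)⟩⟩
  · rintro F₁ F₂ h₁ h₂ ⟨e₁⟩ ⟨e₂⟩
    haveI := h₁
    haveI := h₂
    exact CohDelta.IndExt.exists_unique gen_coh F₁ F₂
      (restrIso F F₁ e₁ ≪≫ (restrIso F F₂ e₂).symm)
  · rintro F' h ⟨e⟩
    haveI := h
    exact ⟨fun hA => haveI := hA; haveI := additive_ext F F' e; coproducts_ext F',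
      fun hL => haveI := hL; leftExact_ext F F' e, fun hR => haveI := hR; rightExact_ext F F' e⟩

end Groth.Agent.S6730
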