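import Groth.Statements.S6734
import Groth.Agent.H83.DiagGen.Main

set_option autoImplicit false
universe u
open CategoryTheory AlgebraicGeometry
attribute [local instance] HasDerivedCategory.standard
open DEquiv

namespace Groth.Agent.S6734

open CategoryTheory.Limits in
/-- Let X be a quasi-compact separated smooth scheme over a field k. Then one can find a pair E, G of
finite locally free O_X-modules for which O_Δ = Δ_* O_X belongs to ⟨E ⊠ G⟩, the smallest
triangulated subcategory of D(O_{X ×_k X}) containing pr_1^* E ⊗ pr_2^* G and closed under direct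
summands (Mathlib's triangulated envelope). -/
theorem result
    (k : Type u) [Field k] (X : Scheme.{u}) [X.Over (Spec (.of k))] [CompactSpace X] [IsSeparated (X ↘ Spec (.of k))] [Smooth (X ↘ Spec (.of k))] :
    ∃ (E G : X.Modules), FlatMod.IsFinLocFree E ∧ FlatMod.IsFinLocFree G ∧
      ObjectProperty.triangEnvelope
        (ObjectProperty.ofObj (fun _ : PUnit.{u + 1} => DCoh.inD (pullback (X ↘ Spec (.of k)) (X ↘ Spec (.of k))) (CohB1.tensorMod ((Scheme.Modules.pullback (pullback.fst (X ↘ Spec (.of k)) (X ↘ Spec (.of k)))).obj E)
            ((Scheme.Modules.pullback (pullback.snd (X ↘ Spec (.of k)) (X ↘ Spec (.of k)))).obj G))))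
        (DCoh.inD (pullback (X ↘ Spec (.of k)) (X ↘ Spec (.of k))) ((Coh.push (pullback.diagonal (X ↘ Spec (.of k)))).obj (Coh.structureModule X))) := by
  exact Groth.Agent.H83.DiagGen.exists_diag_mem X (X ↘ Spec (CommRingCat.of k))

end Groth.Agent.S6734
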