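import Groth.Statements.S6736
import Groth.Agent.Lib.ProjAffine51.Basic
import Groth.Agent.Lib.CohDelta.SerreRel
import Groth.Agent.Lib.ZarCoh.AffineBC
import Groth.Agent.Lib.Exchange.RelVanish
import Groth.Agent.Lib.TensorMod.TensorQCoh
import Groth.Agent.Lib.TensorMod.Pullback
import Groth.Agent.S11319
import Groth.Agent.S4456
-- import your own Groth.Agent.* helpers here

set_option autoImplicit false
universe u
open CategoryTheory CategoryTheory.Limits AlgebraicGeometry
open FunMor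

namespace Groth.Agent.S6736

open Groth.Agent.Lib TopologicalSpace

/-- The kernel vanishing, transported along an affine morphism to `X`. -/
theorem isZero_comp {X XY D P Y : Scheme.{u}} [HasInjectiveResolutions XY.Modules]
    (q₁ : XY ⟶ X) (q₂ : XY ⟶ Y) (K : XY.Modules) (hK : Coh.IsQCoh K)
    (hKac : ∀ (F : X.Modules), Coh.IsQCoh F → ∀ q : ℕ, 0 < q →
      IsZero ((Coh.Rpush q₂ q).obj (CohB1.tensorMod ((Scheme.Modules.pullback q₁).obj F) K)))
    (t : D ⟶ X) [IsAffineHom t] (c : P ⟶ D) (g : P ⟶ XY) (h : IsPullback c g t q₁)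
    (F : D.Modules) (hF : Coh.IsQCoh F) (p : ℕ) :
    IsZero ((Coh.RpushAb (g ≫ q₂) (p + 1)).obj (Coh.toAb (CohB1.tensorMod
      ((Scheme.Modules.pullback c).obj F) ((Scheme.Modules.pullback g).obj K)))) := by
  haveI : IsAffineHom g := MorphismProperty.of_isPullback (P := @IsAffineHom) h inferInstance
  haveI : F.IsQuasicoherent := hF
  haveI : K.IsQuasicoherent := hK
  haveI : ((Scheme.Modules.pullback c).obj F).IsQuasicoherent := QCoh.Pullback.isQCoh_pullback c F
  haveI : ((Scheme.Modules.pullback g).obj K).IsQuasicoherent := QCoh.Pullback.isQCoh_pullback g K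
  haveI : Coh.IsQCoh (CohB1.tensorMod ((Scheme.Modules.pullback c).obj F)
      ((Scheme.Modules.pullback g).obj K)) := TensorMod.TensorQCoh.isQCoh_tensorMod _ _
  haveI := ZarCoh.AffineBC.isIso_bc h F
  haveI hM : ((Coh.push t).obj F).IsQuasicoherent := QCoh.Pushforward.isQCoh_pushforward t
  let e : CohB1.tensorMod ((Scheme.Modules.pullback q₁).obj ((Coh.push t).obj F)) K ≅
      (Coh.push g).obj (CohB1.tensorMod ((Scheme.Modules.pullback c).obj F)
        ((Scheme.Modules.pullback g).obj K)) :=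
    TensorMod.Basic.comm _ _ ≪≫
      TensorMod.Basic.tensorIso (Iso.refl K) (asIso (ZarCoh.AffineBC.bc h F)) ≪≫
      ProjAffine51.projIso g K _ ≪≫ (Coh.push g).mapIso (TensorMod.Basic.comm _ _)
  obtain ⟨i⟩ := Groth.Agent.S11319.result q₂ ((Coh.push g).obj (CohB1.tensorMod
      ((Scheme.Modules.pullback c).obj F) ((Scheme.Modules.pullback g).obj K))) (p + 1)
  obtain ⟨j⟩ := Groth.Agent.S4456.result g q₂ (CohB1.tensorMod
      ((Scheme.Modules.pullback c).obj F) ((Scheme.Modules.pullback g).obj K)) (p + 1)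
  exact (((SheafOfModules.toSheaf _).map_isZero ((hKac _ hM (p + 1) p.succ_pos).of_iso
    ((Coh.Rpush q₂ (p + 1)).mapIso e).symm)).of_iso i.symm).of_iso j.symm

/-- Let R be a ring and X, Y schemes over R with X quasi-compact with affine diagonal. Let K be a
quasi-coherent module on X ×_R Y which is flat over X and such that R^q pr_{2,*}(pr_1^* F ⊗ K) = 0
for all quasi-coherent O_X-modules F and all q > 0. Then for every scheme T over R and every
quasi-coherent module F on T ×_R X, R^q pr_{13,*}(pr_{12}^* F ⊗ pr_{23}^* K) = 0 for all q > 0. Here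
T ×_R X ×_R Y is realised as (T ×_R X) ×_X (X ×_R Y), with pr_{12}, pr_{23} its two projections and
pr_{13} the morphism to T ×_R Y determined by its two components. (Higher direct images as right
derived functors; the injective-resolution instances hold for module categories of schemes but are
carried as binders.) -/
theorem result
    (R : Type u) [CommRing R] (X Y : Scheme.{u}) [X.Over (Spec (.of R))] [Y.Over (Spec (.of R))]
    [CompactSpace X] [IsAffineHom (pullback.diagonal (X ↘ Spec (.of R)))]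
    [HasInjectiveResolutions (pullback (X ↘ Spec (.of R)) (Y ↘ Spec (.of R))).Modules]
    (K : (pullback (X ↘ Spec (.of R)) (Y ↘ Spec (.of R))).Modules) (hKq : Coh.IsQCoh K)
    (hKfl : FlatMod.IsFlatOver (pullback.fst (X ↘ Spec (.of R)) (Y ↘ Spec (.of R))) K)
    (hKac : ∀ (F : X.Modules), Coh.IsQCoh F → ∀ q : ℕ, 0 < q →
      IsZero ((Coh.Rpush (pullback.snd (X ↘ Spec (.of R)) (Y ↘ Spec (.of R))) q).obj
        (CohB1.tensorMod ((Scheme.Modules.pullback (pullback.fst (X ↘ Spec (.of R)) (Y ↘ Spec (.of R)))).obj F) K)))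
    (T : Scheme.{u}) [T.Over (Spec (.of R))]
    [HasInjectiveResolutions (pullback (pullback.snd (T ↘ Spec (.of R)) (X ↘ Spec (.of R))) (pullback.fst (X ↘ Spec (.of R)) (Y ↘ Spec (.of R)))).Modules]
    (pr₁₃ : (pullback (pullback.snd (T ↘ Spec (.of R)) (X ↘ Spec (.of R))) (pullback.fst (X ↘ Spec (.of R)) (Y ↘ Spec (.of R)))) ⟶ (pullback (T ↘ Spec (.of R)) (Y ↘ Spec (.of R))))
    (h₁ : pr₁₃ ≫ pullback.fst (T ↘ Spec (.of R)) (Y ↘ Spec (.of R)) =
      pullback.fst _ _ ≫ pullback.fst (T ↘ Spec (.of R)) (X ↘ Spec (.of R)))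
    (h₂ : pr₁₃ ≫ pullback.snd (T ↘ Spec (.of R)) (Y ↘ Spec (.of R)) =
      pullback.snd _ _ ≫ pullback.snd (X ↘ Spec (.of R)) (Y ↘ Spec (.of R)))
    (F : (pullback (T ↘ Spec (.of R)) (X ↘ Spec (.of R))).Modules) (hF : Coh.IsQCoh F) (q : ℕ) (hq : 0 < q) :
    IsZero ((Coh.Rpush pr₁₃ q).obj
      (CohB1.tensorMod
        ((Scheme.Modules.pullback
          (pullback.fst (pullback.snd (T ↘ Spec (.of R)) (X ↘ Spec (.of R))) (pullback.fst (X ↘ Spec (.of R)) (Y ↘ Spec (.of R))))).obj F)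
        ((Scheme.Modules.pullback
          (pullback.snd (pullback.snd (T ↘ Spec (.of R)) (X ↘ Spec (.of R))) (pullback.fst (X ↘ Spec (.of R)) (Y ↘ Spec (.of R))))).obj K))) := by
  obtain ⟨p, rfl⟩ := Nat.exists_eq_add_of_le' hq
  let P := pullback (pullback.snd (T ↘ Spec (.of R)) (X ↘ Spec (.of R)))
    (pullback.fst (X ↘ Spec (.of R)) (Y ↘ Spec (.of R)))
  let x := X ↘ Spec (CommRingCat.of R)
  let y := Y ↘ Spec (CommRingCat.of R)
  let t := T ↘ Spec (CommRingCat.of R)
  let c₀ : P ⟶ pullback t x := pullback.fst _ _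
  let g₀ : P ⟶ pullback x y := pullback.snd _ _
  let q₂ := pullback.snd x y
  haveI : QuasiCompact x := (HasAffineProperty.iff_of_isAffine (P := @QuasiCompact)).2 inferInstance
  haveI : QuasiSeparated x := ⟨inferInstance⟩
  have top : IsPullback g₀ pr₁₃ q₂ (pullback.snd t y) := by
    refine IsPullback.of_bot ?_ h₂.symm (IsPullback.of_hasPullback t y).flip
    rw [h₁, show q₂ ≫ y = pullback.fst x y ≫ x from pullback.condition.symm]
    exact (IsPullback.of_hasPullback (pullback.snd t x) (pullback.fst x y)).flip.paste_vert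
      (IsPullback.of_hasPullback t x).flip
  haveI : QuasiCompact pr₁₃ := MorphismProperty.of_isPullback (P := @QuasiCompact) top inferInstance
  haveI : QuasiSeparated pr₁₃ := MorphismProperty.of_isPullback (P := @QuasiSeparated) top inferInstance
  haveI : F.IsQuasicoherent := hF
  haveI : K.IsQuasicoherent := hKq
  haveI := QCoh.Pullback.isQCoh_pullback c₀ F
  haveI := QCoh.Pullback.isQCoh_pullback g₀ K
  let G := CohB1.tensorMod ((Scheme.Modules.pullback c₀).obj F) ((Scheme.Modules.pullback g₀).obj K)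
  haveI : G.IsQuasicoherent := TensorMod.TensorQCoh.isQCoh_tensorMod _ _
  suffices h : IsZero ((Coh.RpushAb pr₁₃ (p + 1)).obj (Coh.toAb G)) by
    obtain ⟨e⟩ := Groth.Agent.S11319.result pr₁₃ G (p + 1)
    exact (IsZero.iff_id_eq_zero _).2 ((SheafOfModules.toSheaf _).map_injective
      ((h.of_iso e).eq_of_src _ _))
  let box : T.Opens → Y.Opens → (pullback t y).Opens :=
    fun U V => pullback.fst t y ⁻¹ᵁ U ⊓ pullback.snd t y ⁻¹ᵁ V
  have hbox : ∀ (U : T.Opens) (V : Y.Opens), IsAffineOpen U → IsAffineOpen V →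
      IsAffineOpen (box U V) := fun U V hU hV => by
    haveI : IsAffine (U : Scheme.{u}) := hU
    haveI : IsAffineHom ((pullback.fst t y ⁻¹ᵁ U).ι ≫ pullback.snd t y) :=
      MorphismProperty.of_isPullback (P := @IsAffineHom)
        ((isPullback_morphismRestrict (pullback.fst t y) U).paste_vert
          (IsPullback.of_hasPullback t y)) inferInstance
    have := (hV.preimage ((pullback.fst t y ⁻¹ᵁ U).ι ≫ pullback.snd t y)).image_of_isOpenImmersion
      (pullback.fst t y ⁻¹ᵁ U).ι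
    rwa [Scheme.Hom.comp_preimage, Scheme.Hom.image_preimage_eq_opensRange_inf,
      Scheme.Opens.opensRange_ι] at this
  have key : ∀ (U : T.Opens) (V : Y.Opens), IsAffineOpen U → IsAffineOpen V →
      Subsingleton (CohTop.HU (Coh.toAb G) (p + 1) (pr₁₃ ⁻¹ᵁ box U V)) := fun U V hU hV => by
    haveI : IsAffine (U : Scheme.{u}) := hU
    let O := pullback.fst t x ⁻¹ᵁ U
    haveI : IsAffineHom (O.ι ≫ pullback.snd t x) :=
      MorphismProperty.of_isPullback (P := @IsAffineHom)
        ((isPullback_morphismRestrict (pullback.fst t x) U).paste_vert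
          (IsPullback.of_hasPullback t x)) inferInstance
    have hsq : IsPullback (c₀ ∣_ O) ((c₀ ⁻¹ᵁ O).ι ≫ g₀) (O.ι ≫ pullback.snd t x)
        (pullback.fst x y) :=
      (isPullback_morphismRestrict c₀ O).paste_vert (IsPullback.of_hasPullback _ _)
    haveI : IsAffineHom ((c₀ ⁻¹ᵁ O).ι ≫ g₀) :=
      MorphismProperty.of_isPullback (P := @IsAffineHom) hsq inferInstance
    let j := (c₀ ⁻¹ᵁ O).ι
    let e : G.restrict j ≅ CohB1.tensorMod
        ((Scheme.Modules.pullback (c₀ ∣_ O)).obj ((Scheme.Modules.pullback O.ι).obj F))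
        ((Scheme.Modules.pullback (j ≫ g₀)).obj K) :=
      (Scheme.Modules.restrictFunctorIsoPullback j).app G ≪≫
        TensorMod.Pullback.pullbackTensorIso j _ _ ≪≫
        TensorMod.Basic.tensorIso ((Scheme.Modules.pullbackComp j c₀).app F ≪≫
          (Scheme.Modules.pullbackCongr (morphismRestrict_ι c₀ O).symm).app F ≪≫
          ((Scheme.Modules.pullbackComp (c₀ ∣_ O) O.ι).app F).symm)
          ((Scheme.Modules.pullbackComp j g₀).app K)
    have hz := (isZero_comp (pullback.fst x y) q₂ K hKq hKac _ _ _ hsq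
      ((Scheme.Modules.pullback O.ι).obj F) (QCoh.Pullback.isQCoh_pullback O.ι F) p).of_iso
      ((Coh.RpushAb ((j ≫ g₀) ≫ q₂) (p + 1)).mapIso ((SheafOfModules.toSheaf _).mapIso e))
    have h1 := CohDelta.SerreRel.hn_eq_zero ((j ≫ g₀) ≫ q₂) (G.restrict j) inferInstance p hz hV
    have h2 : Subsingleton (CohTop.HU (Coh.toAb G) (p + 1) (j ''ᵁ (((j ≫ g₀) ≫ q₂) ⁻¹ᵁ V))) :=
      @Equiv.subsingleton _ _
        (ZarCoh.Compare.restrEquiv j.isOpenEmbedding _ (p + 1) (Coh.toAb G)).toEquiv h1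
    have heq : j ''ᵁ (((j ≫ g₀) ≫ q₂) ⁻¹ᵁ V) = pr₁₃ ⁻¹ᵁ box U V := by
      rw [Category.assoc, Scheme.Hom.comp_preimage, Scheme.Hom.image_preimage_eq_opensRange_inf,
        Scheme.Opens.opensRange_ι, ← h₂]
      change c₀ ⁻¹ᵁ O ⊓ _ = pr₁₃ ⁻¹ᵁ (pullback.fst t y ⁻¹ᵁ U) ⊓ pr₁₃ ⁻¹ᵁ (pullback.snd t y ⁻¹ᵁ V)
      rw [← Scheme.Hom.comp_preimage, ← Scheme.Hom.comp_preimage, h₁, ← Scheme.Hom.comp_preimage]
    rwa [heq] at h2
  refine ZarCoh.RpushVanish.isZero_RpushAb pr₁₃.base
    (B := {W | ∃ U V, IsAffineOpen U ∧ IsAffineOpen V ∧ IsAffineOpen (W : (pullback t y).Opens) ∧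
      W ≤ box U V}) ?_ p ?_
  · refine Opens.isBasis_iff_nbhd.2 fun {W z} hz => ?_
    obtain ⟨U, hU, hzU, -⟩ := exists_isAffineOpen_mem_and_subset (U := (⊤ : T.Opens))
      (x := pullback.fst t y z) trivial
    obtain ⟨V, hV, hzV, -⟩ := exists_isAffineOpen_mem_and_subset (U := (⊤ : Y.Opens))
      (x := pullback.snd t y z) trivial
    obtain ⟨W', hW', hzW', hle⟩ := exists_isAffineOpen_mem_and_subset (U := W ⊓ box U V) (x := z)
      ⟨hz, hzU, hzV⟩
    exact ⟨W', ⟨U, V, hU, hV, hW', fun a ha => (hle ha).2⟩, hzW', fun a ha => (hle ha).1⟩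
  · rintro W ⟨U, V, hU, hV, hW, hWle⟩
    refine Exchange.RelVanish.subsingleton_preimage_of_le pr₁₃ G (hbox U V hU hV) hW hWle (p + 1) ?_
    refine @Equiv.subsingleton _ _
      (ZarCoh.Morph.openEquiv (pr₁₃ ⁻¹ᵁ box U V).ι G (p + 1)).toEquiv ?_
    rw [Scheme.Opens.ι_image_top]
    exact key U V hU hV

end Groth.Agent.S6736
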