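import Groth.Statements.S6737
import Groth.Agent.Lib.KosSpread77.Lift
import Groth.Agent.Lib.KosSpread77.Kos
import Groth.Agent.Lib.DR.Perfect

set_option autoImplicit false
set_option linter.style.haveILetI false
set_option maxHeartbeats 800000
universe u
open CategoryTheory
attribute [local instance] HasDerivedCategory.standard
open DEquiv
open CategoryTheory.Limits TensorProduct
open Groth.Agent.Lib.DR Groth.Agent.Lib.DR.PseudoCoherent Groth.Agent.Lib.DR.BaseChange
open Groth.Agent.Lib.KosSpread77

namespace Groth.Agent.S6737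

/-- Let (R, m) → (A, n) be a flat local homomorphism between local rings, with A essentially of finite
presentation over R. Let f̄_1, …, f̄_r ∈ n/mA ⊆ A/mA be a regular sequence, and suppose K is a
perfect object of D(A) whose derived reduction K ⊗^L_A A/mA admits, in D(A/mA), an isomorphism with
the Koszul complex of the sequence f̄_1, …, f̄_r (existence of the derived base change functor is
taken as an instance binder). Under these hypotheses one can choose lifts f_1, …, f_r ∈ A of the
f̄_i that form a regular sequence in A, for which K and the Koszul complex built from these lifts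
become isomorphic objects of D(A); in addition, the quotient of A by the ideal (f_1, …, f_r) is
R-flat. -/
theorem result
    (R A : Type u) [CommRing R] [CommRing A] [IsLocalRing R] [IsLocalRing A] [Algebra R A]
    [IsLocalHom (algebraMap R A)] [Module.Flat R A] (hefp : CAlgX.IsEssFinitePresentation R A)
    (fbar : List (A ⧸ ((IsLocalRing.maximalIdeal R).map (algebraMap R A))))
    (hfbar : ∀ f ∈ fbar, f ∈ (IsLocalRing.maximalIdeal A).map (Ideal.Quotient.mk ((IsLocalRing.maximalIdeal R).map (algebraMap R A))))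
    (hreg : RingTheory.Sequence.IsRegular (A ⧸ ((IsLocalRing.maximalIdeal R).map (algebraMap R A))) fbar)
    (K : Dual.D A) (hK : DRing.IsPerfect A K)
    [DRing.HasLBaseChange (Ideal.Quotient.mk ((IsLocalRing.maximalIdeal R).map (algebraMap R A)))]
    (hKf : Nonempty ((DRing.LBaseChange (Ideal.Quotient.mk ((IsLocalRing.maximalIdeal R).map (algebraMap R A)))).obj K ≅
      DerivedCategory.Q.obj (Koszul.koszul (A ⧸ ((IsLocalRing.maximalIdeal R).map (algebraMap R A))) fbar))) :
    ∃ fs : List A, fs.map (Ideal.Quotient.mk ((IsLocalRing.maximalIdeal R).map (algebraMap R A))) = fbar ∧ RingTheory.Sequence.IsRegular A fs ∧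
      Nonempty (K ≅ DerivedCategory.Q.obj (Koszul.koszul A fs)) ∧
      Module.Flat R (A ⧸ Ideal.span {a : A | a ∈ fs}) := by
  classical
  let I : Ideal A := (IsLocalRing.maximalIdeal R).map (algebraMap R A)
  obtain ⟨kf⟩ := hKf
  have hwr := hreg.toIsWeaklyRegular
  -- any bounded above representative
  have key : ∀ (E : CochainComplex (ModuleCat.{u} A) ℤ) (b : ℤ), (∀ i, b < i → IsZero (E.X i)) →
      (∀ i, fproj A (E.X i)) → (DerivedCategory.Q.obj E ≅ K) →
      (∀ j, j ≠ 0 → ((ext (algebraMap A (A ⧸ I))).obj E).ExactAt j) ∧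
        Nonempty (((ext (algebraMap A (A ⧸ I))).obj E).homology 0 ≃ₗ[A ⧸ I] (A ⧸ I) ⧸ Ideal.ofList fbar) := by
    intro E b hE hp e
    let e' : DerivedCategory.Q.obj ((ext (Ideal.Quotient.mk I)).obj E) ≅
        DerivedCategory.Q.obj (Koszul.koszul (A ⧸ I) fbar) :=
      (bcFlat (Ideal.Quotient.mk I) E b hE fun i => flat_of_fproj _ (hp i)).symm ≪≫
        (DRing.LBaseChange (Ideal.Quotient.mk I)).mapIso e ≪≫ kf
    refine ⟨fun j hj => ?_, ?_⟩
    · rw [HomologicalComplex.exactAt_iff_isZero_homology]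
      exact (Lift.isZero_koszul_homology fbar hwr j hj).of_iso (Lift.homologyIsoQ e' j)
    · obtain ⟨f⟩ := Lift.nonempty_koszul_homology_zero fbar
      exact ⟨(Lift.homologyIsoQ e' 0).toLinearEquiv.trans f⟩
  -- `K` lives in degrees `≤ 0`
  have hpf := (Perfect.pf_iff K).1 hK
  have hle : K.IsLE 0 := by
    obtain ⟨a, b, E, hE, hp, ⟨e⟩⟩ := hpf
    rw [DerivedCategory.isLE_iff]
    intro i hi
    refine IsZero.of_iso ?_ ((DerivedCategory.homologyFunctor _ i).mapIso e.symm ≪≫
      (DerivedCategory.homologyFunctorFactors _ i).app E)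
    exact (Fibre.exact_of_fibre hefp E hp (i - 1) i (i + 1) (by omega) rfl
      ((key E b (fun i hi => hE i (Or.inr hi)) hp e).1 i (by omega))).1.isZero_homology
  obtain ⟨E, hE, hff, ⟨e⟩⟩ := Representative.ba_ff_of_forall (fun m => hpf.pcn m) hle
  have hp : ∀ i, fproj A (E.X i) := fun i => fproj_of_ff _ (hff i)
  obtain ⟨hex, ⟨f0⟩⟩ := key E 0 hE hp e
  have hExact : ∀ j, j ≠ 0 → E.ExactAt j := fun j hj =>
    (Fibre.exact_of_fibre hefp E hp (j - 1) j (j + 1) (by omega) rfl (hex j hj)).1
  -- the zeroth homology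
  haveI := (hp (-1)).1
  haveI := (hp 0).1
  haveI := (hp 0).2
  haveI := Module.finitePresentation_of_projective A (E.X 0)
  letI := Module.compHom (E.X 0) (algebraMap R A)
  haveI : IsScalarTower R A (E.X 0) := IsScalarTower.of_algebraMap_smul fun _ _ => rfl
  let M : Type u := E.X 0 ⧸ LinearMap.range (E.d (-1) 0).hom
  haveI hMfl : Module.Flat R M :=
    (Fibre.exact_of_fibre hefp E hp (-2) (-1) 0 (by omega) (by omega) (hex (-1) (by omega))).2
  haveI : Module.FinitePresentation A M := Module.finitePresentation_of_surjective _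
    (LinearMap.range (E.d (-1) 0).hom).mkQ_surjective (by
      rw [Submodule.ker_mkQ, LinearMap.range_eq_map]
      exact Module.Finite.fg_top.map _)
  haveI : PreservesFiniteColimits (Spread.EX (S := A) (A ⧸ I)) := FlatBC.preservesFiniteColimits
  let e0 : E.homology 0 ≅ ModuleCat.of A M :=
    Lift.topHomologyIso E (hE 1 one_pos) ≪≫ ModuleCat.cokernelIsoRangeQuotient _
  let e1 : ((ext (algebraMap A (A ⧸ I))).obj E).homology 0 ≅ (Spread.EX (A ⧸ I)).obj (ModuleCat.of A M) :=
    Lift.topHomologyIso _ ((Spread.EX (S := A) (A ⧸ I)).map_isZero (hE 1 one_pos)) ≪≫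
      (PreservesCokernel.iso (Spread.EX (A ⧸ I)) (E.d (-1) 0)).symm ≪≫
      (Spread.EX (A ⧸ I)).mapIso (ModuleCat.cokernelIsoRangeQuotient _)
  let g : (A ⧸ I) ⊗[A] M ≃ₗ[A ⧸ I] (A ⧸ I) ⧸ Ideal.ofList fbar :=
    (FlatBC.extEquiv A (A ⧸ I) M).symm.trans (e1.toLinearEquiv.symm.trans f0)
  have hI : I ≤ Ideal.jacobson ⊥ := (Lift.mA_le (R := R)).trans (IsLocalRing.maximalIdeal_le_jacobson ⊥)
  obtain ⟨J, hJfg, ⟨eJ⟩, hJmap⟩ := Lift.exists_gen I hI fbar g
  haveI : Module.Flat R (A ⧸ J) := Module.Flat.of_linearEquiv (eJ.restrictScalars R)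
  -- the lifts
  have hch : ∀ y : {y // y ∈ fbar}, ∃ x, x ∈ J ∧ Ideal.Quotient.mk I x = y.1 := fun y =>
    (Ideal.mem_map_iff_of_surjective _ Ideal.Quotient.mk_surjective).1
      (hJmap.symm ▸ Ideal.subset_span y.2)
  choose lift hlift hlift' using hch
  let fs : List A := fbar.attach.map lift
  have hfs : fs.map (Ideal.Quotient.mk I) = fbar := by
    rw [List.map_map]
    exact (List.map_congr_left (fun y _ => hlift' y)).trans (List.attach_map_subtype_val fbar)
  obtain ⟨hreg', hflat'⟩ := Lift.regular_of_fibre hefp fs (hfs.symm ▸ hwr)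
  have hJeq : J = Ideal.ofList fs := by
    refine Lift.eq_ofList J hJfg fs (fun f hf => ?_) (hJmap.trans (congrArg Ideal.ofList hfs.symm))
    obtain ⟨y, -, rfl⟩ := List.mem_map.1 hf
    exact hlift y
  have hmax : Ideal.ofList fs ≤ IsLocalRing.maximalIdeal A := Ideal.span_le.2 fun x hx => by
    obtain ⟨y, -, rfl⟩ := List.mem_map.1 hx
    obtain ⟨z, hz, hz'⟩ := (Ideal.mem_map_iff_of_surjective _ Ideal.Quotient.mk_surjective).1 (hfbar y.1 y.2)
    have h1 : lift y - z ∈ I := Ideal.Quotient.eq.1 ((hlift' y).trans hz'.symm)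
    simpa using add_mem (Lift.mA_le (R := R) h1) hz
  refine ⟨fs, hfs, ⟨hreg', fun htop => ?_⟩, ?_, hflat'⟩
  · rw [smul_eq_mul, Ideal.mul_top] at htop
    exact (IsLocalRing.maximalIdeal.isMaximal A).ne_top (top_le_iff.1 (htop.le.trans hmax))
  · have hK0 : K.IsGE 0 := by
      rw [DerivedCategory.isGE_iff]
      intro i hi
      exact (hExact i hi.ne).isZero_homology.of_iso ((DerivedCategory.homologyFunctor _ i).mapIso e.symm ≪≫
        (DerivedCategory.homologyFunctorFactors _ i).app E)
    haveI := hK0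
    haveI := hle
    haveI : (DerivedCategory.Q.obj (Koszul.koszul A fs)).IsGE 0 := by
      rw [DerivedCategory.isGE_iff]
      exact fun i hi => (Lift.isZero_koszul_homology fs hreg' i hi.ne).of_iso
        ((DerivedCategory.homologyFunctorFactors _ i).app _)
    haveI : (DerivedCategory.Q.obj (Koszul.koszul A fs)).IsLE 0 := by
      rw [DerivedCategory.isLE_iff]
      exact fun i hi => (Lift.isZero_koszul_homology fs hreg' i hi.ne').of_iso
        ((DerivedCategory.homologyFunctorFactors _ i).app _)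
    obtain ⟨k0⟩ := Lift.nonempty_koszul_homology_zero fs
    exact Lift.nonempty_iso_of_homology ((DerivedCategory.homologyFunctor _ 0).mapIso e.symm ≪≫
      (DerivedCategory.homologyFunctorFactors _ 0).app E ≪≫ e0 ≪≫
      (eJ.symm.trans ((Submodule.quotEquivOfEq _ _ hJeq).trans k0.symm)).toModuleIso ≪≫
      ((DerivedCategory.homologyFunctorFactors _ 0).app _).symm)

end Groth.Agent.S6737
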