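import Groth.Statements.S6738
import Groth.Agent.Lib.KosSpread77.Kos
import Groth.Agent.Lib.KosSpread77.Alg
import Mathlib.RingTheory.Localization.Away.Basic

set_option autoImplicit false
set_option linter.style.haveILetI false
universe u
open CategoryTheory
attribute [local instance] HasDerivedCategory.standard
open DEquiv
open Groth.Agent.Lib.KosSpread77

namespace Groth.Agent.S6738

/-- Suppose R → S is a flat, finite type ring map of Noetherian rings, q ⊂ S is a prime, K is a perfect
object of D(S), and f_1, …, f_r ∈ q S_q form a regular sequence for which the quotient S_q/(f_1, …,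
f_r) is R-flat and K ⊗^L_S S_q agrees, up to isomorphism in D(S_q), with the Koszul complex of f_1,
…, f_r. Then one can find an element g ∈ S with g ∉ q, together with a regular sequence f'_1, …,
f'_r in S_g mapping to the f_i in S_q, such that the quotient of S_g by the ideal (f'_1, …, f'_r) is
R-flat and the Koszul complex of f'_1, …, f'_r is isomorphic, in D(S_g), to K ⊗^L_S S_g. (The
canonical S-algebra map S_g → S_q is quantified over — it exists and is unique since g ∉ q; the
derived base change functors are assumed to exist, as instance binders.) -/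
theorem result
    (R S : Type u) [CommRing R] [CommRing S] [IsNoetherianRing R] [IsNoetherianRing S] [Algebra R S]
    [Algebra.FiniteType R S] [Module.Flat R S] (q : Ideal S) [q.IsPrime]
    (K : Dual.D S) (hK : DRing.IsPerfect S K)
    (fs : List (Localization.AtPrime q)) (hfs : ∀ f ∈ fs, f ∈ IsLocalRing.maximalIdeal (Localization.AtPrime q))
    (hreg : RingTheory.Sequence.IsRegular (Localization.AtPrime q) fs)
    (hflat : Module.Flat R ((Localization.AtPrime q) ⧸ Ideal.span {a : (Localization.AtPrime q) | a ∈ fs}))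
    [DRing.HasLBaseChange (algebraMap S (Localization.AtPrime q))]
    (hKf : Nonempty ((DRing.LBaseChange (algebraMap S (Localization.AtPrime q))).obj K ≅
      DerivedCategory.Q.obj (Koszul.koszul (Localization.AtPrime q) fs))) :
    ∃ g : S, g ∉ q ∧ ∀ (φ : (Localization.Away g) →ₐ[S] (Localization.AtPrime q)), ∃ fs' : List (Localization.Away g),
      fs'.map φ = fs ∧ RingTheory.Sequence.IsRegular (Localization.Away g) fs' ∧
      Module.Flat R ((Localization.Away g) ⧸ Ideal.span {a : (Localization.Away g) | a ∈ fs'}) ∧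
      ∀ [DRing.HasLBaseChange (algebraMap S (Localization.Away g))],
        Nonempty ((DRing.LBaseChange (algebraMap S (Localization.Away g))).obj K ≅
          DerivedCategory.Q.obj (Koszul.koszul (Localization.Away g) fs')) := by
  classical
  obtain ⟨E, a, b, hE, hEp, ⟨eE⟩⟩ := hK
  have hEf : ∀ i, Groth.Agent.Lib.DR.PseudoCoherent.fproj S (E.X i) := hEp
  obtain ⟨kf⟩ := hKf
  obtain ⟨s, fs₀, hfs₀⟩ := Alg.exists_lift q.primeCompl (Localization.AtPrime q) fs
  obtain ⟨u, hu⟩ := IsLocalization.map_units (Localization.AtPrime q) s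
  -- the isomorphism at `q`
  let ψ := algebraMap S (Localization.AtPrime q)
  have hflatE : ∀ i, Groth.Agent.Lib.DR.PseudoCoherent.flat S (E.X i) := fun i =>
    Groth.Agent.Lib.DR.BaseChange.flat_of_fproj _ (hEf i)
  let a' : ℤ := min a (-(fs₀.length : ℤ))
  let b' : ℤ := max b 0
  have hbE : ∀ i, b < i → Limits.IsZero (E.X i) := fun i hi => hE i (Or.inr hi)
  have hEz : ∀ i, i < a' ∨ b' < i → Limits.IsZero (E.X i) := fun i hi => by
    rcases hi with h | h
    · exact hE i (Or.inl (lt_of_lt_of_le h (min_le_left _ _)))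
    · exact hE i (Or.inr (lt_of_le_of_lt (le_max_left _ _) h))
  have hKz : ∀ i, i < a' ∨ b' < i → Limits.IsZero ((Koszul.koszul S fs₀).X i) := fun i hi =>
    Kos.isZero_X fs₀ i (by omega)
  let e : DerivedCategory.Q.obj ((Groth.Agent.Lib.DR.BaseChange.ext ψ).obj E) ≅
      DerivedCategory.Q.obj ((Groth.Agent.Lib.DR.BaseChange.ext ψ).obj (Koszul.koszul S fs₀)) :=
    (Groth.Agent.Lib.DR.BaseChange.bcFlat ψ E b hbE hflatE).symm ≪≫
      (DRing.LBaseChange ψ).mapIso eE ≪≫ kf ≪≫
      DerivedCategory.Q.mapIso ((Kos.scaleIso (Localization.AtPrime q) u fs).symm ≪≫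
        eqToIso (congrArg (Koszul.koszul (Localization.AtPrime q)) (by rw [hu]; exact hfs₀.symm)) ≪≫
        (Kos.extKoszulIso (Localization.AtPrime q) fs₀).symm)
  obtain ⟨t, htq, ht⟩ := Spread.exists_away q E (Koszul.koszul S fs₀) a' b' hEz hKz hEf (Kos.fproj_X fs₀) e
  -- regularity
  have hwr : RingTheory.Sequence.IsWeaklyRegular (Localization.AtPrime q)
      (fs₀.map (algebraMap S (Localization.AtPrime q))) := by
    rw [hfs₀, ← hu]
    exact Alg.isWeaklyRegular_scale u fs hreg.toIsWeaklyRegular
  obtain ⟨g₁, hg₁, hreg₁⟩ := Groth.Agent.H26.CISpread.exists_weaklyRegular_nhd q fs₀ hwr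
  -- flatness
  let I : Ideal S := Ideal.ofList fs₀
  have hI : I.map (algebraMap S (Localization.AtPrime q)) = Ideal.ofList fs := by
    rw [Ideal.map_ofList, hfs₀, ← hu, Alg.ofList_scale]
  have hflat' : Module.Flat R ((Localization.AtPrime q) ⧸ I.map (algebraMap S (Localization.AtPrime q))) := by
    rw [hI]
    exact hflat
  haveI : Algebra.FinitePresentation R S := Algebra.FinitePresentation.of_finiteType.1 inferInstance
  haveI : Module.FinitePresentation S (S ⧸ I) := Module.finitePresentation_of_finite _ _
  obtain ⟨g₂, hg₂, hfl₂⟩ := Groth.Agent.Lib.RG.OpenFlat.exists_flat_away (R := R) (M := S ⧸ I) q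
    ((Alg.flat_quot_iff q.primeCompl (Localization.AtPrime q) I).1 hflat')
  let g : S := (s : S) * (t * (g₁ * g₂))
  have hprime : q.IsPrime := inferInstance
  have hg : g ∉ q := fun h => (hprime.mem_or_mem h).elim s.2 fun h => (hprime.mem_or_mem h).elim htq
    fun h => (hprime.mem_or_mem h).elim hg₁ hg₂
  refine ⟨g, hg, fun φ => ?_⟩
  have hgu : IsUnit (algebraMap S (Localization.Away g) g) := IsLocalization.Away.algebraMap_isUnit g
  obtain ⟨v, hv⟩ : IsUnit (algebraMap S (Localization.Away g) (s : S)) :=
    isUnit_of_dvd_unit (map_dvd _ ⟨t * (g₁ * g₂), rfl⟩) hgu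
  have htu : IsUnit (algebraMap S (Localization.Away g) t) :=
    isUnit_of_dvd_unit (map_dvd _ ⟨(s : S) * (g₁ * g₂), by ring⟩) hgu
  let fs' : List (Localization.Away g) :=
    (fs₀.map (algebraMap S (Localization.Away g))).map (((v⁻¹ : (Localization.Away g)ˣ) : Localization.Away g) * ·)
  have hmap : fs'.map φ = fs := by
    have h1 : φ ((v⁻¹ : (Localization.Away g)ˣ) : Localization.Away g) = ((u⁻¹ : (Localization.AtPrime q)ˣ) : _) := by
      have h2 : Units.map (φ : Localization.Away g →* Localization.AtPrime q) v = u := Units.ext (by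
        show φ (v : Localization.Away g) = (u : Localization.AtPrime q)
        rw [hv, hu, AlgHom.commutes])
      have h3 := congrArg Units.val (map_inv (Units.map (φ : Localization.Away g →* Localization.AtPrime q)) v)
      rw [h2] at h3
      exact h3
    have e1 : fs'.map φ = (fs₀.map (algebraMap S (Localization.AtPrime q))).map
        (((u⁻¹ : (Localization.AtPrime q)ˣ) : Localization.AtPrime q) * ·) := by
      simp only [fs', List.map_map]
      refine List.map_congr_left fun x _ => ?_
      simp only [Function.comp_apply, map_mul, h1, AlgHom.commutes]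
    rw [e1, hfs₀, List.map_map]
    conv_rhs => rw [← List.map_id fs]
    refine List.map_congr_left fun x _ => ?_
    simp only [Function.comp_apply, ← hu, ← mul_assoc, Units.inv_mul, one_mul, id_eq]
  have hofList : Ideal.ofList fs' = I.map (algebraMap S (Localization.Away g)) := by
    rw [Alg.ofList_scale, Ideal.map_ofList]
  have hwr' : RingTheory.Sequence.IsWeaklyRegular (Localization.Away g) fs' := by
    refine Alg.isWeaklyRegular_scale _ _ (Alg.isWeaklyRegular_away g fs₀ fun P hP hgP => hreg₁ P fun h => hgP ?_)
    exact P.mul_mem_left _ (P.mul_mem_left _ (P.mul_mem_right _ h))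
  refine ⟨fs', hmap, ⟨hwr', fun htop => ?_⟩, ?_, ?_⟩
  · have hfs'top : Ideal.ofList fs' = ⊤ := by
      rw [smul_eq_mul, Ideal.mul_top] at htop
      exact htop.symm
    refine hreg.top_ne_smul ?_
    rw [smul_eq_mul, Ideal.mul_top, ← hmap]
    have h4 := congrArg (Ideal.map φ.toRingHom) hfs'top
    rw [Ideal.map_ofList, Ideal.map_top] at h4
    exact h4.symm
  · change Module.Flat R (Localization.Away g ⧸ Ideal.ofList fs')
    rw [hofList]
    exact (Alg.flat_quot_iff (Submonoid.powers g) (Localization.Away g) I).2
      (Groth.Agent.Lib.RG.OpenFlat.flat_away_of_forall g fun P hP hgP =>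
        Groth.Agent.Lib.RG.OpenFlat.flatAt_of_away g₂ P (fun h => hgP
          (P.mul_mem_left _ (P.mul_mem_left _ (P.mul_mem_left _ h)))) hfl₂)
  · intro _
    haveI : Module.Flat S (Localization.Away g) := IsLocalization.flat _ (Submonoid.powers g)
    obtain ⟨eW⟩ := ht (Localization.Away g) htu
    have hfs' : fs'.map ((v : Localization.Away g) * ·) = fs₀.map (algebraMap S (Localization.Away g)) := by
      simp only [fs', List.map_map]
      refine List.map_congr_left fun x _ => ?_
      simp only [Function.comp_apply, ← mul_assoc, Units.mul_inv, one_mul]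
    exact ⟨((DRing.LBaseChange (algebraMap S (Localization.Away g))).mapIso eE).symm ≪≫
      Groth.Agent.Lib.DR.BaseChange.bcFlat _ E b hbE hflatE ≪≫ eW ≪≫
      DerivedCategory.Q.mapIso (Kos.extKoszulIso (Localization.Away g) fs₀ ≪≫
        eqToIso (congrArg (Koszul.koszul (Localization.Away g)) hfs'.symm) ≪≫
        Kos.scaleIso (Localization.Away g) v fs')⟩

end Groth.Agent.S6738
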