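import Groth.Statements.S6739
import Groth.Agent.H83.BdPts.Main

set_option autoImplicit false
universe u
open CategoryTheory CategoryTheory.Limits AlgebraicGeometry
attribute [local instance] HasDerivedCategory.standard
open DEquiv

namespace Groth.Agent.S6739

/-- Let k be a field and X, Y schemes of finite type over k. Let K_0 ⟶ K_1 ⟶ K_2 ⟶ ⋯ be a system of
perfect objects of D(O_{X ×_k Y}) and m ≥ 0 an integer such that (1) H^q(K_n) = 0 for q > m and all
n, and (2) for every coherent O_X-module F whose support is a finite set of closed points, each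
object R pr_{2,*}(pr_1^* F ⊗^L K_n) has zero cohomology sheaves except possibly in degrees lying in
[-m, m] ∪ [-m-n, m-n], and whenever n > 2m, the maps induced by the system are isomorphisms on the
i-th cohomology sheaves of these objects for all i with -m ≤ i ≤ m. Then the cohomology sheaves of
each K_n are zero in every degree not in [-m, m] ∪ [-m-n, m-n], and once n > 2m, each map K_n ⟶
K_{n+1} of the system induces an isomorphism on the i-th cohomology sheaf for all i with -m ≤ i ≤ m.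
(The derived functors - ⊗^L pr_1^* F and R pr_{2,*} are assumed to exist, as instance binders; pr_1
is flat, so pr_1^* F is the derived pullback. A further splitting of K_n when X and Y are smooth is
not part of this statement.) -/
theorem result
    (k : Type u) [Field k] (X Y : Scheme.{u}) [X.Over (Spec (.of k))] [Y.Over (Spec (.of k))]
    [LocallyOfFiniteType (X ↘ Spec (.of k))] [CompactSpace X] [LocallyOfFiniteType (Y ↘ Spec (.of k))] [CompactSpace Y]
    [∀ F : X.Modules, DCoh.HasLTensorMod ((Scheme.Modules.pullback (pullback.fst (X ↘ Spec (.of k)) (Y ↘ Spec (.of k)))).obj F)]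
    [DCoh.HasRpush (pullback.snd (X ↘ Spec (.of k)) (Y ↘ Spec (.of k)))]
    (K : ℕ → DCoh.D (pullback (X ↘ Spec (.of k)) (Y ↘ Spec (.of k)))) (t : ∀ n : ℕ, K n ⟶ K (n + 1)) (hK : ∀ n, DCoh.IsPerfect (K n))
    (m : ℕ) (h1 : ∀ (n : ℕ) (q : ℤ), (m : ℤ) < q → IsZero (DCoh.HD (K n) q))
    (h2 : ∀ (F : X.Modules), Coh.IsCoh F → (CohB1.support F).Finite →
      (∀ x ∈ CohB1.support F, IsClosed ({x} : Set X)) →
      (∀ (n : ℕ) (i : ℤ), ¬ (-(m : ℤ) ≤ i ∧ i ≤ m) → ¬ (-(m : ℤ) - n ≤ i ∧ i ≤ (m : ℤ) - n) →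
          IsZero (DCoh.HD ((DCoh.Rpush (pullback.snd (X ↘ Spec (.of k)) (Y ↘ Spec (.of k)))).obj ((DCoh.LTensorMod ((Scheme.Modules.pullback (pullback.fst (X ↘ Spec (.of k)) (Y ↘ Spec (.of k)))).obj F)).obj (K n))) i)) ∧
      (∀ (n : ℕ) (i : ℤ), 2 * m < n → -(m : ℤ) ≤ i → i ≤ m →
          IsIso ((DerivedCategory.homologyFunctor _ i).map ((DCoh.Rpush (pullback.snd (X ↘ Spec (.of k)) (Y ↘ Spec (.of k)))).map ((DCoh.LTensorMod ((Scheme.Modules.pullback (pullback.fst (X ↘ Spec (.of k)) (Y ↘ Spec (.of k)))).obj F)).map (t n)))))) :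
    (∀ (n : ℕ) (i : ℤ), ¬ (-(m : ℤ) ≤ i ∧ i ≤ m) → ¬ (-(m : ℤ) - n ≤ i ∧ i ≤ (m : ℤ) - n) →
        IsZero (DCoh.HD (K n) i)) ∧
    ∀ (n : ℕ) (i : ℤ), 2 * m < n → -(m : ℤ) ≤ i → i ≤ m →
        IsIso ((DerivedCategory.homologyFunctor _ i).map (t n)) := by
  refine ⟨fun n i hi hi' => ?_, fun n i hn hi hi' => ?_⟩
  · exact Groth.Agent.H83.BdPts.isZero_HD_of_points _ _ (K n) (hK n) i
      fun F hF hf hc => (h2 F hF hf hc).1 n i hi hi'
  · refine Groth.Agent.H83.BdPts.isIso_of_points _ _ (K n) (K (n + 1)) (t n) (hK n) (hK (n + 1))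
      (-(m : ℤ)) m i hi hi' fun F hF hf hc => ⟨fun j hj hj' => (h2 F hF hf hc).2 n j hn hj hj', ?_, ?_⟩
    · exact (h2 F hF hf hc).1 n _ (by omega) (by omega)
    · exact (h2 F hF hf hc).1 (n + 1) _ (by omega) (by omega)

end Groth.Agent.S6739
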