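import Groth.Statements.S6751
import Groth.Agent.H83.FullFaith.Points
-- import your own Groth.Agent.* helpers here

set_option autoImplicit false
set_option linter.style.haveILetI false
universe u
open CategoryTheory AlgebraicGeometry
attribute [local instance] HasDerivedCategory.standard
open DEquiv

namespace Groth.Agent.S6751

/-- Let X and Y be schemes proper over a field k with X regular (all local rings regular), and let F, G
: D_perf(O_X) ⥤ D_perf(O_Y) be k-linear exact functors between the full subcategories of perfect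
objects (the instance hypotheses record that these are triangulated subcategories). Assume that F(M)
≅ G(M) for every coherent O_X-module M whose support has dimension 0 (a nonempty finite set of
closed points; M viewed in degree 0, a perfect object since X is regular, the statement quantifying
over a proof of this), and suppose moreover that the functor F is both full and faithful. Under
these conditions, for each perfect object M on X the object G(M) is isomorphic to F applied to some
perfect object, i.e. everything G hits lies in F's essential image. -/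
theorem result
    (k : Type u) [Field k] (X Y : Scheme.{u}) [X.Over (Spec (.of k))] [Y.Over (Spec (.of k))]
    [IsProper (X ↘ Spec (.of k))] [IsProper (Y ↘ Spec (.of k))] (hreg : Models.IsRegularScheme X)
    [(SGA6.perfP X).IsTriangulated] [(SGA6.perfP Y).IsTriangulated]
    (F : (SGA6.perfP X).FullSubcategory ⥤ (SGA6.perfP Y).FullSubcategory) [F.Additive] [F.Linear k]
    [F.CommShift ℤ] [F.IsTriangulated]
    (G : (SGA6.perfP X).FullSubcategory ⥤ (SGA6.perfP Y).FullSubcategory) [G.Additive] [G.Linear k]
    [G.CommShift ℤ] [G.IsTriangulated]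
    (h1 : ∀ (M : X.Modules), Coh.IsCoh M → (CohB1.support M).Finite → (CohB1.support M).Nonempty →
        (∀ x ∈ CohB1.support M, IsClosed ({x} : Set X)) →
        ∀ (hM : DCoh.IsPerfect (DCoh.inD X M)),
          Nonempty (F.obj ⟨DCoh.inD X M, hM⟩ ≅ G.obj ⟨DCoh.inD X M, hM⟩))
    [F.Full] [F.Faithful] (M : (SGA6.perfP X).FullSubcategory) :
    F.essImage (G.obj M) := by
  obtain ⟨hFl, -⟩ := Groth.Agent.S6748.result k X Y hreg F
  obtain ⟨hGl, -⟩ := Groth.Agent.S6748.result k X Y hreg G
  haveI := hFl
  haveI := hGl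
  let adj := CategoryTheory.Adjunction.ofIsLeftAdjoint F
  let adjG := CategoryTheory.Adjunction.ofIsLeftAdjoint G
  let R := F.rightAdjoint
  let A := F.obj (R.obj (G.obj M))
  let f : A ⟶ G.obj M := adj.counit.app (G.obj M)
  refine ⟨R.obj (G.obj M), ⟨@asIso _ _ _ _ f ?_⟩⟩
  obtain ⟨W, g, d, hT⟩ := CategoryTheory.Pretriangulated.distinguished_cocone_triangle f
  refine (CategoryTheory.Pretriangulated.Triangle.isZero₃_iff_isIso₁ _ hT).1 ?_
  have hpost : ∀ Z : (SGA6.perfP X).FullSubcategory,
      Function.Bijective fun a : F.obj Z ⟶ A => a ≫ f := by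
    intro Z
    have e : (fun a : F.obj Z ⟶ A => a ≫ f) =
        ((adj.homEquiv Z (G.obj M)).symm ∘ (Functor.FullyFaithful.ofFullyFaithful F).homEquiv.symm) := by
      funext a
      rw [Function.comp_apply, CategoryTheory.Adjunction.homEquiv_counit]
      exact congrArg (· ≫ f) ((Functor.FullyFaithful.ofFullyFaithful F).map_preimage a).symm
    exact (congrArg Function.Bijective e).mpr ((Equiv.bijective _).comp (Equiv.bijective _))
  have hW : ∀ (Z : (SGA6.perfP X).FullSubcategory) (φ : F.obj Z ⟶ W), φ = 0 := by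
    intro Z φ
    let Z' := (shiftFunctor ((SGA6.perfP X).FullSubcategory) (-1 : ℤ)).obj Z
    let e : (shiftFunctor ((SGA6.perfP Y).FullSubcategory) (1 : ℤ)).obj (F.obj Z') ≅ F.obj Z :=
      ((F.commShiftIso (1 : ℤ)).app Z').symm ≪≫
        F.mapIso ((shiftFunctorCompIsoId ((SGA6.perfP X).FullSubcategory) (-1 : ℤ) 1 (by omega)).app Z)
    have hd : φ ≫ d = 0 := by
      obtain ⟨a', ha'⟩ :=
        (shiftFunctor ((SGA6.perfP Y).FullSubcategory) (1 : ℤ)).map_surjective (e.hom ≫ φ ≫ d)
      have hz : d ≫ (shiftFunctor ((SGA6.perfP Y).FullSubcategory) (1 : ℤ)).map f = 0 :=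
        CategoryTheory.Pretriangulated.comp_distTriang_mor_zero₃₁ _ hT
      have h0 : a' = 0 := (hpost Z').1 (by
        change a' ≫ f = 0 ≫ f
        refine (shiftFunctor ((SGA6.perfP Y).FullSubcategory) (1 : ℤ)).map_injective ?_
        rw [Limits.zero_comp, Functor.map_comp, ha', Functor.map_zero, Category.assoc, Category.assoc, hz,
          Limits.comp_zero, Limits.comp_zero])
      rw [h0, Functor.map_zero] at ha'
      exact (cancel_epi e.hom).1 (ha'.symm.trans Limits.comp_zero.symm)
    obtain ⟨a, ha⟩ := CategoryTheory.Pretriangulated.Triangle.coyoneda_exact₃ _ hT φ hd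
    obtain ⟨b, hb⟩ := (hpost Z).2 a
    change φ = a ≫ g at ha
    rw [ha, ← hb]
    exact (Category.assoc _ _ _).trans ((congrArg (b ≫ ·)
      (CategoryTheory.Pretriangulated.comp_distTriang_mor_zero₁₂ _ hT)).trans Limits.comp_zero)
  have hR : Limits.IsZero (G.rightAdjoint.obj W) := by
    refine Groth.Agent.H83.FullFaith.hr (k := k) hreg _ ?_
    rintro P ⟨x, hx, i, ⟨a⟩⟩ φ
    haveI : IsLocallyNoetherian X :=
      LocallyOfFiniteType.isLocallyNoetherian (X ↘ Spec (CommRingCat.of k))
    let p := Groth.Agent.H83.FullFaith.ptP (k := k) hreg hx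
    have hsupp : CohB1.support (Groth.Agent.H56.PointHom.sky x) = {x} := by
      refine Set.eq_singleton_iff_unique_mem.2 ⟨fun hs => ?_, fun y hy => by_contra fun hne =>
        hy (Groth.Agent.H56.PointHom.subsingleton_stalk_sky hx hne)⟩
      obtain ⟨e⟩ := Groth.Agent.H56.PointHom.nonempty_stalk_sky hx
      haveI := hs
      exact not_subsingleton (IsLocalRing.ResidueField (X.presheaf.stalk x)) e.symm.toEquiv.subsingleton
    obtain ⟨ep⟩ := h1 (Groth.Agent.H56.PointHom.sky x) (Groth.Agent.H56.PointHom.isCoh_sky hx)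
      (hsupp ▸ Set.finite_singleton x) (hsupp ▸ Set.singleton_nonempty x)
      (fun y hy => by rw [hsupp] at hy; rw [Set.mem_singleton_iff.1 hy]; exact hx) p.property
    let eP : F.obj P ≅ G.obj P := F.mapIso a ≪≫ (F.commShiftIso i).app p ≪≫
      (shiftFunctor ((SGA6.perfP Y).FullSubcategory) i).mapIso ep ≪≫ ((G.commShiftIso i).app p).symm ≪≫
      (G.mapIso a).symm
    refine (adjG.homEquiv P W).symm.injective ?_
    have h0 : eP.hom ≫ (adjG.homEquiv P W).symm φ = eP.hom ≫ (adjG.homEquiv P W).symm 0 :=
      (hW P _).trans (hW P _).symm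
    exact (cancel_epi eP.hom).1 h0
  have hg : g = 0 := by
    refine (adjG.homEquiv M W).injective ?_
    exact hR.eq_of_tgt _ _
  obtain ⟨s, hs⟩ := CategoryTheory.Pretriangulated.Triangle.yoneda_exact₂ _
    (CategoryTheory.Pretriangulated.rot_of_distTriang _ hT) (𝟙 W) ((Category.comp_id g).trans hg)
  let e₁ := (F.commShiftIso (1 : ℤ)).app (R.obj (G.obj M))
  have hs0 : s = 0 := (cancel_epi e₁.hom).1 ((hW _ (e₁.hom ≫ s)).trans Limits.comp_zero.symm)
  rw [Limits.IsZero.iff_id_eq_zero]
  change 𝟙 W = d ≫ s at hs
  exact hs.trans ((congrArg (d ≫ ·) hs0).trans Limits.comp_zero)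

end Groth.Agent.S6751
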