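import Groth.Statements.S6758
import Groth.Agent.H83.ExtFinite.PnOver
-- import your own Groth.Agent.* helpers here

set_option autoImplicit false
universe u
open CategoryTheory AlgebraicGeometry
attribute [local instance] HasDerivedCategory.standard
open DEquiv

namespace Groth.Agent.S6758

/-- (1) ⇔ (4): let k be a field, n ≥ 0, P = P^n_k, and let K be an object of D(O_P) with quasi-coherent
cohomology sheaves. Then K is bounded with coherent cohomology sheaves if and only if for each d =
0, …, n the k-vector spaces H^i(P, K ⊗^L O_P(d)) = Hom(O_P, (K ⊗^L O_P(d))⟦i⟧) are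
finite-dimensional for all i ∈ ℤ and nonzero for only finitely many i. (The derived functors - ⊗^L
O_P(d) are assumed to exist, as instance binders. The published statement lists two further
equivalent conditions, which are not restated here: that for every perfect object E of D(O_P) the
spaces Hom(E, K⟦i⟧) be finite-dimensional for all i and nonzero for only finitely many i, a
criterion which holds on every H-projective scheme over k, and the same condition on the spaces
H^i(P, E ⊗^L K) for every perfect E.) -/
theorem result
    (k : Type u) [Field k] (n : ℕ)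
    (K : DCoh.D (CohB1.ProjSpaceOver n (Spec (.of k)))) (hK : DCoh.IsQCohD K)
    [∀ d : ℤ, DCoh.HasLTensorMod (Twist.twistOver n (Spec (.of k)) d)] :
    SGA6.cohbP (CohB1.ProjSpaceOver n (Spec (.of k))) K ↔
      ∀ d : ℕ, d ≤ n →
        (∀ i : ℤ, Module.Finite k (DCoh.inD (CohB1.ProjSpaceOver n (Spec (.of k))) (Coh.structureModule (CohB1.ProjSpaceOver n (Spec (.of k)))) ⟶
            (shiftFunctor (DCoh.D (CohB1.ProjSpaceOver n (Spec (.of k)))) i).obj ((DCoh.LTensorMod (Twist.twistOver n (Spec (.of k)) (d : ℤ))).obj K))) ∧
        Set.Finite {i : ℤ | Nontrivial (DCoh.inD (CohB1.ProjSpaceOver n (Spec (.of k))) (Coh.structureModule (CohB1.ProjSpaceOver n (Spec (.of k)))) ⟶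
            (shiftFunctor (DCoh.D (CohB1.ProjSpaceOver n (Spec (.of k)))) i).obj ((DCoh.LTensorMod (Twist.twistOver n (Spec (.of k)) (d : ℤ))).obj K))} := by
  exact Groth.Agent.H83.ExtFinite.PnOver.main k n hK

end Groth.Agent.S6758
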