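import Groth.Statements.S6762
import Groth.Agent.Lib.BCNat51.Basic
import Groth.Agent.Lib.QCoh.Pullback

set_option autoImplicit false
set_option linter.style.haveILetI false
universe u
open CategoryTheory AlgebraicGeometry
attribute [local instance] HasDerivedCategory.standard
open FunMor

namespace Groth.Agent.S6762

set_option backward.isDefEq.respectTransparency.types false in
/-- Let R be a ring, X and Y schemes over R with X affine, K a quasi-coherent O_{X ×_R Y}-module and F_K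
the functor M ↦ pr_{2,*}(pr_1^* M ⊗ K). Let f : X' ⟶ X be an affine morphism, view X' over R through
f, and let g : X' ×_R Y ⟶ X ×_R Y be the morphism f × id_Y (characterised by its two components).
Then F_K ∘ f_* is isomorphic, as a functor on quasi-coherent O_{X'}-modules, to the functor M' ↦
pr'_{2,*}(pr'^*_1 M' ⊗ g^* K) attached to the quasi-coherent module g^* K on X' ×_R Y. -/
theorem result
    (R : Type u) [CommRing R] (X Y : Scheme.{u}) [X.Over (Spec (.of R))] [Y.Over (Spec (.of R))] [IsAffine X]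
    (K : (Limits.pullback (X ↘ Spec (.of R)) (Y ↘ Spec (.of R))).Modules) (hK : Coh.IsQCoh K)
    {X' : Scheme.{u}} (f : X' ⟶ X) [IsAffineHom f]
    (g : (Limits.pullback (f ≫ (X ↘ Spec (.of R))) (Y ↘ Spec (.of R))) ⟶ (Limits.pullback (X ↘ Spec (.of R)) (Y ↘ Spec (.of R))))
    (hg₁ : g ≫ (Limits.pullback.fst (X ↘ Spec (.of R)) (Y ↘ Spec (.of R))) = (Limits.pullback.fst (f ≫ (X ↘ Spec (.of R))) (Y ↘ Spec (.of R))) ≫ f) (hg₂ : g ≫ (Limits.pullback.snd (X ↘ Spec (.of R)) (Y ↘ Spec (.of R))) = (Limits.pullback.snd (f ≫ (X ↘ Spec (.of R))) (Y ↘ Spec (.of R)))) :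
    Nonempty (ObjectProperty.ι (QCohCat.isQCoh X') ⋙ Coh.push f ⋙ (Scheme.Modules.pullback (Limits.pullback.fst (X ↘ Spec (.of R)) (Y ↘ Spec (.of R))) ⋙ DCoh.tensorRightMod K ⋙ Coh.push (Limits.pullback.snd (X ↘ Spec (.of R)) (Y ↘ Spec (.of R)))) ≅
      ObjectProperty.ι (QCohCat.isQCoh X') ⋙ (Scheme.Modules.pullback (Limits.pullback.fst (f ≫ (X ↘ Spec (.of R))) (Y ↘ Spec (.of R))) ⋙ DCoh.tensorRightMod ((Scheme.Modules.pullback g).obj K) ⋙ Coh.push (Limits.pullback.snd (f ≫ (X ↘ Spec (.of R))) (Y ↘ Spec (.of R))))) := by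
  let x := X ↘ Spec (CommRingCat.of R)
  let y := Y ↘ Spec (CommRingCat.of R)
  let q₁ := Limits.pullback.fst x y
  let q₂ := Limits.pullback.snd x y
  let r₁ := Limits.pullback.fst (f ≫ x) y
  let r₂ := Limits.pullback.snd (f ≫ x) y
  have hsq : IsPullback r₁ g f q₁ := by
    refine (IsPullback.of_right ?_ hg₁ (IsPullback.of_hasPullback x y).flip).flip
    rw [hg₂]
    exact (IsPullback.of_hasPullback (f ≫ x) y).flip
  haveI : IsAffineHom g := MorphismProperty.of_isPullback hsq inferInstance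
  haveI : K.IsQuasicoherent := hK
  let ι := ObjectProperty.ι (QCohCat.isQCoh X')
  have hι : ∀ c, (ι.obj c).IsQuasicoherent := fun c => c.property
  let F₂ := ι ⋙ Scheme.Modules.pullback r₁
  have hF₂ : ∀ c, (F₂.obj c).IsQuasicoherent := fun c =>
    haveI := hι c
    Lib.QCoh.Pullback.isQCoh_pullback r₁ (ι.obj c)
  let e₁ := Functor.isoWhiskerRight (Lib.BCNat51.bcIso hsq ι hι)
    (DCoh.tensorRightMod K ⋙ Coh.push q₂)
  let e₂ := Functor.isoWhiskerRight (Lib.BCNat51.projNatIso g K F₂ hF₂) (Coh.push q₂)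
  let e₃ := Functor.isoWhiskerLeft
    (F₂ ⋙ DCoh.tensorRightMod ((Scheme.Modules.pullback g).obj K))
    (Scheme.Modules.pushforwardComp g q₂ ≪≫ Scheme.Modules.pushforwardCongr hg₂)
  exact ⟨e₁ ≪≫ e₂ ≪≫ e₃⟩

end Groth.Agent.S6762
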