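import Groth.Statements.S6763
import Groth.Agent.Lib.BCNat51.Basic
import Groth.Agent.Lib.QCoh.Pullback

set_option autoImplicit false
set_option linter.style.haveILetI false
universe u
open CategoryTheory AlgebraicGeometry
attribute [local instance] HasDerivedCategory.standard
open FunMor

namespace Groth.Agent.S6763

set_option backward.isDefEq.respectTransparency.types false in
/-- Let R be a ring, X and Y schemes over R with X affine, K a quasi-coherent O_{X ×_R Y}-module and F_K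
the functor M ↦ pr_{2,*}(pr_1^* M ⊗ K). Let g : Y' ⟶ Y be a flat morphism, view Y' over R through g,
and let h : X ×_R Y' ⟶ X ×_R Y be the morphism id_X × g (characterised by its two components). Then
g^* ∘ F_K is isomorphic, as a functor on quasi-coherent O_X-modules, to the functor M ↦
pr'_{2,*}(pr'^*_1 M ⊗ h^* K) attached to the quasi-coherent module h^* K on X ×_R Y'. (The case of
an open immersion g is a special case.) -/
theorem result
    (R : Type u) [CommRing R] (X Y : Scheme.{u}) [X.Over (Spec (.of R))] [Y.Over (Spec (.of R))] [IsAffine X]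
    (K : (Limits.pullback (X ↘ Spec (.of R)) (Y ↘ Spec (.of R))).Modules) (hK : Coh.IsQCoh K)
    {Y' : Scheme.{u}} (g : Y' ⟶ Y) [Flat g]
    (h : (Limits.pullback (X ↘ Spec (.of R)) (g ≫ (Y ↘ Spec (.of R)))) ⟶ (Limits.pullback (X ↘ Spec (.of R)) (Y ↘ Spec (.of R))))
    (hh₁ : h ≫ (Limits.pullback.fst (X ↘ Spec (.of R)) (Y ↘ Spec (.of R))) = (Limits.pullback.fst (X ↘ Spec (.of R)) (g ≫ (Y ↘ Spec (.of R))))) (hh₂ : h ≫ (Limits.pullback.snd (X ↘ Spec (.of R)) (Y ↘ Spec (.of R))) = (Limits.pullback.snd (X ↘ Spec (.of R)) (g ≫ (Y ↘ Spec (.of R)))) ≫ g) :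
    Nonempty ((ObjectProperty.ι (QCohCat.isQCoh X) ⋙ Scheme.Modules.pullback (Limits.pullback.fst (X ↘ Spec (.of R)) (Y ↘ Spec (.of R))) ⋙ DCoh.tensorRightMod K ⋙ Coh.push (Limits.pullback.snd (X ↘ Spec (.of R)) (Y ↘ Spec (.of R)))) ⋙ Scheme.Modules.pullback g ≅
      ObjectProperty.ι (QCohCat.isQCoh X) ⋙ (Scheme.Modules.pullback (Limits.pullback.fst (X ↘ Spec (.of R)) (g ≫ (Y ↘ Spec (.of R)))) ⋙ DCoh.tensorRightMod ((Scheme.Modules.pullback h).obj K) ⋙ Coh.push (Limits.pullback.snd (X ↘ Spec (.of R)) (g ≫ (Y ↘ Spec (.of R)))))) := by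
  let x := X ↘ Spec (CommRingCat.of R)
  let y := Y ↘ Spec (CommRingCat.of R)
  let q₁ := Limits.pullback.fst x y
  let q₂ := Limits.pullback.snd x y
  let r₁ := Limits.pullback.fst x (g ≫ y)
  let r₂ := Limits.pullback.snd x (g ≫ y)
  haveI : IsAffineHom x := isAffineHom_of_isAffine _
  haveI : IsAffineHom q₂ := MorphismProperty.pullback_snd (P := @IsAffineHom) _ _ ‹_›
  have hsq : IsPullback h r₂ q₂ g := by
    refine IsPullback.of_right ?_ hh₂ (IsPullback.of_hasPullback x y)
    rw [hh₁]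
    exact IsPullback.of_hasPullback x (g ≫ y)
  haveI : K.IsQuasicoherent := hK
  let ι := ObjectProperty.ι (QCohCat.isQCoh X)
  let F := ι ⋙ Scheme.Modules.pullback q₁ ⋙ DCoh.tensorRightMod K
  have hF : ∀ c, (F.obj c).IsQuasicoherent := fun c => by
    let M : X.Modules := ι.obj c
    haveI : M.IsQuasicoherent := c.property
    haveI := Lib.QCoh.Pullback.isQCoh_pullback q₁ M
    exact Lib.TensorMod.TensorQCoh.isQCoh_tensorMod ((Scheme.Modules.pullback q₁).obj M) K
  let e₁ := Lib.BCNat51.bcIso hsq F hF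
  let e₂ := Functor.isoWhiskerLeft (ι ⋙ Scheme.Modules.pullback q₁)
    (Functor.isoWhiskerRight (Lib.BCNat51.pullTensorIso h K) (Coh.push r₂))
  let e₃ := Functor.isoWhiskerLeft ι (Functor.isoWhiskerRight
    (Scheme.Modules.pullbackComp h q₁ ≪≫ Scheme.Modules.pullbackCongr hh₁)
    (DCoh.tensorRightMod ((Scheme.Modules.pullback h).obj K) ⋙ Coh.push r₂))
  exact ⟨e₁ ≪≫ e₂ ≪≫ e₃⟩

end Groth.Agent.S6763
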