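import Groth.Statements.S6770
import Groth.Agent.H83.Beil.Gl
-- import your own Groth.Agent.* helpers here

set_option autoImplicit false
universe u
open CategoryTheory
attribute [local instance] HasDerivedCategory.standard
open DEquiv

namespace Groth.Agent.S6770

/-- An isomorphism of modules over an algebra is linear over the ground field. -/
noncomputable def rsEquiv (k : Type u) [Field k] {R : Type u} [Ring R] [Algebra k R]
    {M N : ModuleCat.{u} R} (e : M ≅ N) : RestrictScalars k R M ≃ₗ[k] RestrictScalars k R N :=
  letI : Module k M := Module.compHom M (algebraMap k R)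
  letI : Module k N := Module.compHom N (algebraMap k R)
  { toFun := fun x => e.toLinearEquiv (id x : M)
    invFun := fun y => e.toLinearEquiv.symm (id y : N)
    left_inv := fun x => e.toLinearEquiv.symm_apply_apply (id x : M)
    right_inv := fun y => e.toLinearEquiv.apply_symm_apply (id y : N)
    map_add' := fun x y => e.toLinearEquiv.map_add (id x : M) (id y : M)
    map_smul' := fun a x => by
      change e.toLinearEquiv (algebraMap k R a • (id x : M)) = algebraMap k R a • e.toLinearEquiv (id x : M)
      exact e.toLinearEquiv.map_smul _ _ }

open CategoryTheory.Limits Opposite in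
/-- Let k be a field, n ≥ 0, and R the Beilinson algebra of P^n_k: the k-algebra of upper triangular
(n+1) × (n+1) matrices whose (i, j) entry is a homogeneous polynomial of degree j - i in k[X_0, …,
X_n]. For an object K of the derived category D(R) of R-modules the following are equivalent: K is a
compact object (the functor Hom(K, -) with values in abelian groups commutes with arbitrary direct
sums indexed by small types), and the cohomology modules H^i(K) are finite-dimensional k-vector
spaces for all i ∈ ℤ, nonzero for only finitely many i. (Left R-modules are used; the published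
statement is for right modules, i.e. left modules over the opposite algebra, which is isomorphic to
R by reversing the order of the indices and transposing, and the printed proof applies verbatim to
either side.) -/
theorem result
    (k : Type u) [Field k] (n : ℕ)
    (K : DerivedCategory (ModuleCat.{u} (DEquiv.beilinsonAlg k n))) :
    (∀ J : Type u, PreservesColimitsOfShape (Discrete J) (preadditiveCoyoneda.obj (op K))) ↔
      ((∀ i : ℤ, Module.Finite k (RestrictScalars k (DEquiv.beilinsonAlg k n) ((DerivedCategory.homologyFunctor (ModuleCat.{u} (DEquiv.beilinsonAlg k n)) i).obj K))) ∧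
        Set.Finite {i : ℤ | Nontrivial ((DerivedCategory.homologyFunctor (ModuleCat.{u} (DEquiv.beilinsonAlg k n)) i).obj K)}) := by
  have := Groth.Agent.H83.Beil.finite_beilinsonAlg k n
  let A := ModuleCat.{u} (DEquiv.beilinsonAlg k n)
  let C := DerivedCategory.Q.objPreimage K
  let eK : DerivedCategory.Q.obj C ≅ K := DerivedCategory.Q.objObjPreimageIso K
  let eH : ∀ i, (DerivedCategory.homologyFunctor A i).obj K ≅ C.homology i := fun i =>
    (DerivedCategory.homologyFunctor A i).mapIso eK.symm ≪≫ (DerivedCategory.homologyFunctorFactors A i).app C
  let le : ∀ i, RestrictScalars k (DEquiv.beilinsonAlg k n) ((DerivedCategory.homologyFunctor A i).obj K) ≃ₗ[k]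
      RestrictScalars k (DEquiv.beilinsonAlg k n) (C.homology i) := fun i => rsEquiv k (eH i)
  have hset : ∀ i, Nontrivial ((DerivedCategory.homologyFunctor A i).obj K) ↔ Nontrivial (C.homology i) :=
    fun i => (eH i).toLinearEquiv.toEquiv.nontrivial_congr
  constructor
  · intro h
    have hC := (Groth.Agent.H83.Beil.cpt_of_preserves K h).of_iso eK.symm
    obtain ⟨h1, h2⟩ := Groth.Agent.H83.Beil.findim_of_cpt k C hC
    refine ⟨fun i => haveI := h1 i; Module.Finite.equiv (le i).symm, h2.subset fun i hi => (hset i).1 hi⟩
  · rintro ⟨h1, h2⟩ J
    refine Groth.Agent.H83.Beil.preserves_of_cpt K (Groth.Agent.H83.Beil.Cpt.of_iso eK ?_) J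
    obtain ⟨lo, hlo⟩ := h2.bddBelow
    obtain ⟨hi, hhi⟩ := h2.bddAbove
    have hz : ∀ i, ¬ (lo ≤ i ∧ i ≤ hi) → Limits.IsZero (C.homology i) := fun i hi' =>
      @ModuleCat.isZero_of_subsingleton _ _ _ (not_nontrivial_iff_subsingleton.1 fun hn =>
        hi' ⟨hlo ((hset i).2 hn), hhi ((hset i).2 hn)⟩)
    refine Groth.Agent.H83.Beil.cpt_of_bounded (hi - lo).toNat C lo (fun i hi' => hz i (by omega))
      (fun i hi' => hz i (by omega)) fun i => ?_
    haveI := h1 i
    exact Groth.Agent.H83.Beil.cpt_of_finite k n _ (Module.Finite.equiv (le i))

end Groth.Agent.S6770
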