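import Groth.Statements.S6771
import Groth.Agent.H83.QCohGroth.Cat
import Groth.Agent.Lib.BettiExact.QCohInc
import Groth.Agent.Lib.SchColim29.FlatKernel
import Groth.Agent.Lib.SchColim29.Coprod
import Groth.Agent.Lib.CohDelta.AcycHomology

set_option autoImplicit false
set_option linter.style.haveILetI false
universe u
open CategoryTheory AlgebraicGeometry
attribute [local instance] HasDerivedCategory.standard
open FunMor

namespace Groth.Agent.S6771

open Limits in
/-- A functor out of an abelian category, composed with a left exact functor killing `R¹`, is exact. -/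
theorem exact_comp {Q A B : Type*} [Category Q] [Category A] [Category B] [Abelian Q] [Abelian A]
    [Abelian B] [EnoughInjectives A] (F : Q ⥤ A) [PreservesFiniteLimits F] [PreservesFiniteColimits F]
    (G : A ⥤ B) [G.Additive] [PreservesFiniteLimits G]
    (h : ∀ q : Q, IsZero ((G.rightDerived 1).obj (F.obj q))) :
    PreservesFiniteLimits (F ⋙ G) ∧ PreservesFiniteColimits (F ⋙ G) := by
  haveI hl : PreservesFiniteLimits (F ⋙ G) := comp_preservesFiniteLimits F G
  haveI : F.Additive := Functor.additive_of_preserves_binary_products F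
  haveI : (F ⋙ G).PreservesEpimorphisms := ⟨fun {a b} f hf => by
    let S : ShortComplex Q := ShortComplex.mk (kernel.ι f) f (kernel.condition f)
    have hS : S.ShortExact :=
      { exact := ShortComplex.exact_of_f_is_kernel _ (kernelIsKernel f)
        mono_f := inferInstanceAs (Mono (kernel.ι f))
        epi_g := hf }
    exact Lib.CohDelta.AcycHomology.epi_map_g G (hS.map_of_exact F) (h (kernel f))⟩
  haveI : (F ⋙ G).PreservesHomology :=
    (F ⋙ G).preservesHomology_of_preservesEpis_and_kernels
  exact ⟨hl, Functor.preservesFiniteColimits_of_preservesHomology _⟩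

set_option backward.isDefEq.respectTransparency.types false in
/-- The direction from kernels to functors: let R be a ring and X, Y schemes over R with X quasi-compact
with affine diagonal, and let K be a quasi-coherent O_{X ×_R Y}-module which is flat over X and such
that R^q pr_{2,*}(pr_1^* M ⊗ K) = 0 for every quasi-coherent O_X-module M and every q > 0 (right
derived functors of pr_{2,*}; injective resolutions carried as a binder). Then the functor F_K : M ↦
pr_{2,*}(pr_1^* M ⊗ K), from quasi-coherent O_X-modules to O_Y-modules, is exact (preserves finite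
limits and finite colimits) and commutes with arbitrary direct sums. -/
theorem result
    (R : Type u) [CommRing R] (X Y : Scheme.{u}) [X.Over (Spec (.of R))] [Y.Over (Spec (.of R))] [CompactSpace X] [IsAffineHom (Limits.pullback.diagonal (X ↘ Spec (.of R)))]
    [HasInjectiveResolutions (Limits.pullback (X ↘ Spec (.of R)) (Y ↘ Spec (.of R))).Modules]
    (K : (Limits.pullback (X ↘ Spec (.of R)) (Y ↘ Spec (.of R))).Modules) (hK : Coh.IsQCoh K) (hKf : FlatMod.IsFlatOver (Limits.pullback.fst (X ↘ Spec (.of R)) (Y ↘ Spec (.of R))) K)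
    (hKa : ∀ (M : X.Modules), Coh.IsQCoh M → ∀ q : ℕ, 0 < q →
      Limits.IsZero ((Coh.Rpush (Limits.pullback.snd (X ↘ Spec (.of R)) (Y ↘ Spec (.of R))) q).obj ((DCoh.tensorRightMod K).obj ((Scheme.Modules.pullback (Limits.pullback.fst (X ↘ Spec (.of R)) (Y ↘ Spec (.of R)))).obj M)))) :
    Limits.PreservesFiniteLimits (ObjectProperty.ι (QCohCat.isQCoh X) ⋙ Scheme.Modules.pullback (Limits.pullback.fst (X ↘ Spec (.of R)) (Y ↘ Spec (.of R))) ⋙ DCoh.tensorRightMod K ⋙ Coh.push (Limits.pullback.snd (X ↘ Spec (.of R)) (Y ↘ Spec (.of R)))) ∧ Limits.PreservesFiniteColimits (ObjectProperty.ι (QCohCat.isQCoh X) ⋙ Scheme.Modules.pullback (Limits.pullback.fst (X ↘ Spec (.of R)) (Y ↘ Spec (.of R))) ⋙ DCoh.tensorRightMod K ⋙ Coh.push (Limits.pullback.snd (X ↘ Spec (.of R)) (Y ↘ Spec (.of R)))) ∧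
      ∀ J : Type u, Limits.PreservesColimitsOfShape (Discrete J) (ObjectProperty.ι (QCohCat.isQCoh X) ⋙ Scheme.Modules.pullback (Limits.pullback.fst (X ↘ Spec (.of R)) (Y ↘ Spec (.of R))) ⋙ DCoh.tensorRightMod K ⋙ Coh.push (Limits.pullback.snd (X ↘ Spec (.of R)) (Y ↘ Spec (.of R)))) := by
  let x := X ↘ Spec (CommRingCat.of R)
  let y := Y ↘ Spec (CommRingCat.of R)
  let q₁ := Limits.pullback.fst x y
  let q₂ := Limits.pullback.snd x y
  let T := Lib.SchColim29.FlatKernel.T q₁ K
  let F := ObjectProperty.ι (QCohCat.isQCoh X) ⋙ T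
  haveI := Lib.SchColim29.FlatKernel.preservesHomology q₁ K hKf
  haveI : T.Additive := inferInstance
  haveI : Limits.PreservesFiniteLimits T := T.preservesFiniteLimits_of_preservesHomology
  haveI : Limits.PreservesFiniteColimits T := T.preservesFiniteColimits_of_preservesHomology
  haveI : Limits.PreservesFiniteLimits F := Limits.comp_preservesFiniteLimits _ _
  haveI : Limits.PreservesFiniteColimits F := Limits.comp_preservesFiniteColimits _ _
  haveI : Limits.PreservesFiniteLimits (Coh.push q₂) := by
    haveI : Limits.PreservesLimitsOfSize.{0, 0} (Coh.push q₂) :=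
      (Scheme.Modules.pullbackPushforwardAdjunction q₂).rightAdjoint_preservesLimits
    exact Limits.PreservesLimitsOfSize.preservesFiniteLimits _
  obtain ⟨hl, hr⟩ := exact_comp F (Coh.push q₂) fun M => hKa _ M.property 1 one_pos
  refine ⟨hl, hr, fun J => ⟨fun {D} => ?_⟩⟩
  haveI : QuasiCompact x := (quasiCompact_iff_compactSpace x).2 inferInstance
  haveI : QuasiSeparated x := ⟨inferInstance⟩
  haveI : QuasiCompact q₂ := MorphismProperty.pullback_snd (P := @QuasiCompact) _ _ ‹_›
  haveI : QuasiSeparated q₂ := MorphismProperty.pullback_snd (P := @QuasiSeparated) _ _ ‹_›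
  haveI : Limits.PreservesColimitsOfSize.{u, u} (Scheme.Modules.pullback q₁) :=
    (Scheme.Modules.pullbackPushforwardAdjunction q₁).leftAdjoint_preservesColimits
  haveI : Limits.PreservesColimitsOfSize.{u, u} (DCoh.tensorRightMod K) :=
    Lib.DerivedOX.FlatTensor.preservesColimits_tensorRight_obj K
  haveI : Limits.PreservesColimit D F := inferInstance
  haveI : Limits.PreservesColimit (D ⋙ F) (Coh.push q₂) := by
    haveI := Lib.SchColim29.Coprod.preservesColimit_pushforward q₂ fun j => F.obj (D.obj ⟨j⟩)
    exact Limits.preservesColimit_of_iso_diagram (Coh.push q₂)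
      (Discrete.natIso fun _ => Iso.refl _ :
        Discrete.functor (fun j => F.obj (D.obj ⟨j⟩)) ≅ D ⋙ F)
  exact inferInstanceAs (Limits.PreservesColimit D (F ⋙ Coh.push q₂))

end Groth.Agent.S6771
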