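import Groth.Statements.S6772
import Mathlib.AlgebraicGeometry.Morphisms.Affine
import Mathlib.AlgebraicGeometry.Morphisms.ClosedImmersion
import Groth.Agent.Lib.QCoh.Sections
import Groth.Agent.Lib.CohDelta.IndExt.QCoh
import Groth.Agent.Lib.DerivedOX.FlatTensor
import Groth.Agent.Lib.TensorMod.TensorQCoh
import Groth.Agent.Lib.QCoh.Pullback

set_option autoImplicit false
set_option linter.style.haveILetI false
universe u
open CategoryTheory AlgebraicGeometry
attribute [local instance] HasDerivedCategory.standard
open FunMor

namespace Groth.Agent.S6772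

set_option backward.isDefEq.respectTransparency.types false in
/-- The direction from kernels to functors: let R be a ring and X, Y schemes over R with X affine, and
let K be a quasi-coherent O_{X ×_R Y}-module. Then the functor F_K : M ↦ pr_{2,*}(pr_1^* M ⊗ K),
from quasi-coherent O_X-modules to O_Y-modules, is right exact (preserves finite colimits) and
commutes with arbitrary direct sums. (pr_2 is affine, so pr_{2,*} is exact on quasi-coherent
modules.) -/
theorem result
    (R : Type u) [CommRing R] (X Y : Scheme.{u}) [X.Over (Spec (.of R))] [Y.Over (Spec (.of R))] [IsAffine X]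
    (K : (Limits.pullback (X ↘ Spec (.of R)) (Y ↘ Spec (.of R))).Modules) (hK : Coh.IsQCoh K) :
    Limits.PreservesFiniteColimits (ObjectProperty.ι (QCohCat.isQCoh X) ⋙ Scheme.Modules.pullback (Limits.pullback.fst (X ↘ Spec (.of R)) (Y ↘ Spec (.of R))) ⋙ DCoh.tensorRightMod K ⋙ Coh.push (Limits.pullback.snd (X ↘ Spec (.of R)) (Y ↘ Spec (.of R)))) ∧
      ∀ J : Type u, Limits.PreservesColimitsOfShape (Discrete J) (ObjectProperty.ι (QCohCat.isQCoh X) ⋙ Scheme.Modules.pullback (Limits.pullback.fst (X ↘ Spec (.of R)) (Y ↘ Spec (.of R))) ⋙ DCoh.tensorRightMod K ⋙ Coh.push (Limits.pullback.snd (X ↘ Spec (.of R)) (Y ↘ Spec (.of R)))) := by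
  let q₁ := Limits.pullback.fst (X ↘ Spec (.of R)) (Y ↘ Spec (.of R))
  let q₂ := Limits.pullback.snd (X ↘ Spec (.of R)) (Y ↘ Spec (.of R))
  let G := ObjectProperty.ι (QCohCat.isQCoh X) ⋙ Scheme.Modules.pullback q₁ ⋙ DCoh.tensorRightMod K
  haveI : IsAffineHom (X ↘ Spec (CommRingCat.of R)) := isAffineHom_of_isAffine _
  haveI : IsAffineHom q₂ := MorphismProperty.pullback_snd (P := @IsAffineHom) _ _ ‹_›
  have key : ∀ (J : Type) [SmallCategory J] [FinCategory J],
      Limits.PreservesColimitsOfShape J (G ⋙ Coh.push q₂) := by
    intro J _ _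
    haveI : Limits.PreservesColimitsOfShape J (DCoh.tensorRightMod K) := by
      haveI : Limits.PreservesColimitsOfSize.{u, u} (DCoh.tensorRightMod K) :=
        Lib.DerivedOX.FlatTensor.preservesColimits_tensorRight_obj K
      haveI := Limits.PreservesColimitsOfSize.preservesFiniteColimits (DCoh.tensorRightMod K)
      infer_instance
    haveI : Limits.PreservesColimitsOfShape J (Scheme.Modules.pullback q₁) := by
      haveI : Limits.PreservesColimitsOfSize.{0, 0} (Scheme.Modules.pullback q₁) :=
        (Scheme.Modules.pullbackPushforwardAdjunction q₁).leftAdjoint_preservesColimits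
      infer_instance
    haveI : Limits.PreservesColimitsOfShape J (ObjectProperty.ι (QCohCat.isQCoh X)) := inferInstance
    refine ⟨fun {D} => ?_⟩
    haveI : Limits.PreservesColimit D G := inferInstance
    haveI : Limits.PreservesColimit (D ⋙ G) (Coh.push q₂) :=
      Lib.QCoh.Sections.pushforward_preservesColimit q₂ _ fun j => by
        let M : X.Modules := (ObjectProperty.ι (QCohCat.isQCoh X)).obj (D.obj j)
        haveI : M.IsQuasicoherent := (D.obj j).property
        haveI : K.IsQuasicoherent := hK
        haveI := Lib.QCoh.Pullback.isQCoh_pullback q₁ M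
        exact Lib.TensorMod.TensorQCoh.isQCoh_tensorMod ((Scheme.Modules.pullback q₁).obj M) K
    infer_instance
  have key' : ∀ (J : Type u), Limits.PreservesColimitsOfShape (Discrete J) (G ⋙ Coh.push q₂) := by
    intro J
    haveI : Limits.PreservesColimitsOfSize.{u, u} (DCoh.tensorRightMod K) :=
      Lib.DerivedOX.FlatTensor.preservesColimits_tensorRight_obj K
    haveI : Limits.PreservesColimitsOfSize.{u, u} (Scheme.Modules.pullback q₁) :=
      (Scheme.Modules.pullbackPushforwardAdjunction q₁).leftAdjoint_preservesColimits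
    refine ⟨fun {D} => ?_⟩
    haveI : Limits.PreservesColimit D G := inferInstance
    haveI : Limits.PreservesColimit (D ⋙ G) (Coh.push q₂) :=
      Lib.QCoh.Sections.pushforward_preservesColimit q₂ _ fun j => by
        let M : X.Modules := (ObjectProperty.ι (QCohCat.isQCoh X)).obj (D.obj j)
        haveI : M.IsQuasicoherent := (D.obj j).property
        haveI : K.IsQuasicoherent := hK
        haveI := Lib.QCoh.Pullback.isQCoh_pullback q₁ M
        exact Lib.TensorMod.TensorQCoh.isQCoh_tensorMod ((Scheme.Modules.pullback q₁).obj M) K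
    infer_instance
  exact ⟨⟨fun J _ _ => key J⟩, key'⟩

end Groth.Agent.S6772
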