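import Groth.Statements.S6775
import Mathlib.CategoryTheory.Abelian.CommSq


set_option autoImplicit false
open CategoryTheory CategoryTheory.Limits
universe v u
open CategoryTheory CategoryTheory.Abelian

namespace Groth.Agent.S6775

/-- In an abelian category a cartesian square whose bottom arrow `k` is an epimorphism is also
cocartesian, and the arrow `f` opposite to `k` is an epimorphism. -/
theorem result {A : Type u} [Category.{v} A] [Abelian A] {w x y z : A} (f : w ⟶ y) (g : w ⟶ x) (h : y ⟶ z) (k : x ⟶ z) (sq : IsPullback f g h k) [Epi k] : IsPushout f g h k ∧ Epi f := by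
  have hf : Epi f := Abelian.epi_fst_of_isLimit h k sq.isLimit
  refine ⟨⟨⟨sq.w⟩, ⟨?_⟩⟩, hf⟩
  have he : Epi sq.shortComplex'.g := by
    have : biprod.inr ≫ biprod.desc h (-k) = -k := by simp
    have : Epi (biprod.inr ≫ biprod.desc h (-k)) := by rw [this]; infer_instance
    exact epi_of_epi (biprod.inr (X := y) (Y := x)) (biprod.desc h (-k))
  have hc := sq.exact_shortComplex'.gIsCokernel
  have hw : ∀ s : PushoutCocone f g, biprod.lift f g ≫ biprod.desc s.inl (-s.inr) = 0 := fun s => by
    rw [biprod.lift_desc, s.condition, Preadditive.comp_neg, add_neg_cancel]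
  have hd : ∀ t : PushoutCocone f g, ∃ l : z ⟶ t.pt,
      biprod.desc h (-k) ≫ l = biprod.desc t.inl (-t.inr) := fun t => by
    obtain ⟨l, hl⟩ := CokernelCofork.IsColimit.desc' hc (biprod.desc t.inl (-t.inr)) (hw t)
    exact ⟨l, hl⟩
  refine PushoutCocone.IsColimit.mk _ (fun s => (hd s).choose) (fun s => ?_) (fun s => ?_)
    (fun s mm h1 h2 => ?_)
  · simpa using biprod.inl ≫= (hd s).choose_spec
  · simpa using biprod.inr ≫= (hd s).choose_spec
  · apply Cofork.IsColimit.hom_ext hc
    refine Eq.trans ?_ (hd s).choose_spec.symm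
    change biprod.desc h (-k) ≫ mm = _
    apply biprod.hom_ext' <;> simp [h1, h2]

end Groth.Agent.S6775
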