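import Groth.Statements.S6776
import Mathlib.CategoryTheory.Abelian.CommSq


set_option autoImplicit false
open CategoryTheory CategoryTheory.Limits
universe v u
open CategoryTheory CategoryTheory.Abelian

namespace Groth.Agent.S6776

/-- In an abelian category a cocartesian square whose left arrow `g` is a monomorphism is also
cartesian, and the arrow `h` opposite to `g` is a monomorphism. -/
theorem result {A : Type u} [Category.{v} A] [Abelian A] {w x y z : A} (f : w ⟶ y) (g : w ⟶ x) (h : y ⟶ z) (k : x ⟶ z) (sq : IsPushout f g h k) [Mono g] : IsPullback f g h k ∧ Mono h := by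
  have hh : Mono h := Abelian.mono_inl_of_isColimit f g sq.isColimit
  refine ⟨⟨⟨sq.w⟩, ⟨?_⟩⟩, hh⟩
  have hm : Mono sq.shortComplex.f := by
    have h0 : biprod.lift f (-g) ≫ biprod.snd = -g := by simp
    have : Mono (biprod.lift f (-g) ≫ biprod.snd) := by rw [h0]; infer_instance
    exact mono_of_mono (biprod.lift f (-g)) (biprod.snd (X := y) (Y := x))
  have hc := sq.exact_shortComplex.fIsKernel
  have hw : ∀ s : PullbackCone h k, biprod.lift s.fst (-s.snd) ≫ biprod.desc h k = 0 := fun s => by
    rw [biprod.lift_desc, s.condition, Preadditive.neg_comp, add_neg_cancel]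
  have hd : ∀ t : PullbackCone h k, ∃ l : t.pt ⟶ w,
      l ≫ biprod.lift f (-g) = biprod.lift t.fst (-t.snd) := fun t => by
    obtain ⟨l, hl⟩ := KernelFork.IsLimit.lift' hc (biprod.lift t.fst (-t.snd)) (hw t)
    exact ⟨l, hl⟩
  refine PullbackCone.IsLimit.mk _ (fun s => (hd s).choose) (fun s => ?_) (fun s => ?_)
    (fun s mm h1 h2 => ?_)
  · simpa using (hd s).choose_spec =≫ biprod.fst
  · simpa using (hd s).choose_spec =≫ biprod.snd
  · apply Fork.IsLimit.hom_ext hc
    refine Eq.trans ?_ (hd s).choose_spec.symm
    change mm ≫ biprod.lift f (-g) = _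
    apply biprod.hom_ext <;> simp [h1, h2]

end Groth.Agent.S6776
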