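import Groth.Statements.S6778
import Mathlib.CategoryTheory.Abelian.Refinements


set_option autoImplicit false
open CategoryTheory CategoryTheory.Limits
universe v u
open CategoryTheory CategoryTheory.Abelian

namespace Groth.Agent.S6778

/-- For a commutative diagram with rows `x ⟶ y ⟶ z` and `u ⟶ v ⟶ w` in an abelian category, if the
second row is exact and the second map `g` of the first row is an epimorphism, then the induced
sequence of cokernels of the vertical maps is exact. -/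
theorem result {A : Type u} [Category.{v} A] [Abelian A] {x y z u' v' w : A} (f : x ⟶ y) (g : y ⟶ z) (k : u' ⟶ v') (l : v' ⟶ w) (α : x ⟶ u') (β : y ⟶ v') (γ : z ⟶ w) (h₁ : α ≫ k = f ≫ β) (h₂ : β ≫ l = g ≫ γ) (hkl : k ≫ l = 0) (hex : (ShortComplex.mk k l hkl).Exact) [Epi g] : ∃ hc : cokernel.map α β f k h₁ ≫ cokernel.map β γ g l h₂ = 0, (ShortComplex.mk _ _ hc).Exact := by
  have hc : cokernel.map α β f k h₁ ≫ cokernel.map β γ g l h₂ = 0 := by
    rw [← cancel_epi (cokernel.π α)]
    simp [cokernel.map, reassoc_of% hkl]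
  refine ⟨hc, ?_⟩
  rw [ShortComplex.exact_iff_exact_up_to_refinements]
  intro T t ht
  dsimp at t ht
  obtain ⟨T₁, π₁, hπ₁, v₁, hv₁⟩ := surjective_up_to_refinements_of_epi (cokernel.π β) t
  have hv : (v₁ ≫ l) ≫ cokernel.π γ = 0 := by
    have h0 : v₁ ≫ cokernel.π β ≫ cokernel.map β γ g l h₂ = 0 := by
      rw [← reassoc_of% hv₁, ht, comp_zero]
    simpa [cokernel.map] using h0
  have hex' : (ShortComplex.mk γ (cokernel.π γ) (cokernel.condition γ)).Exact :=
    ShortComplex.exact_of_g_is_cokernel _ (cokernelIsCokernel γ)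
  obtain ⟨T₂, π₂, hπ₂, z₂, hz⟩ := hex'.exact_up_to_refinements (v₁ ≫ l) hv
  obtain ⟨T₃, π₃, hπ₃, y₃, hy⟩ := surjective_up_to_refinements_of_epi g z₂
  dsimp at z₂ hz y₃ hy
  obtain ⟨T₄, π₄, hπ₄, u₄, hu⟩ := hex.exact_up_to_refinements (π₃ ≫ π₂ ≫ v₁ - y₃ ≫ β) (by
    simp only [Preadditive.sub_comp, Category.assoc, h₂, hz, reassoc_of% hy, sub_self])
  dsimp at u₄ hu
  refine ⟨T₄, π₄ ≫ π₃ ≫ π₂ ≫ π₁, inferInstance, u₄ ≫ cokernel.π α, ?_⟩
  simp only [Category.assoc, hv₁]
  have := hu =≫ cokernel.π β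
  simp only [Preadditive.comp_sub, Preadditive.sub_comp, Category.assoc, cokernel.condition, comp_zero, sub_zero] at this
  simpa [cokernel.map] using this

end Groth.Agent.S6778
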