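import Groth.Statements.S6779

set_option autoImplicit false
open CategoryTheory
universe u
open SSet

namespace Groth.Agent.S6779

open Simplicial

section Algebra

variable {A B C : Type*} [Group A] [Group B] [Group C]

/-- The classical horn filling argument, with all indices natural numbers `≤ N`. -/
theorem exists_filler (N k : ℕ) (hk : k ≤ N)
    (d : ℕ → A →* B) (s : ℕ → B →* A) (e : ℕ → B →* C) (t : ℕ → C →* B)
    (h1 : ∀ i y, i < N → d i (s i y) = y)
    (h2 : ∀ i y, i < N → d (i + 1) (s i y) = y)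
    (h3 : ∀ i j y, i < j → j < N → d i (s j y) = t (j - 1) (e i y))
    (h4 : ∀ i j y, j < N → j + 1 < i → i ≤ N → d i (s j y) = t j (e (i - 1) y))
    (h5 : ∀ i j w, i < j → j ≤ N → e i (d j w) = e (j - 1) (d i w))
    (x : ℕ → B)
    (hx : ∀ i j, i < j → j ≤ N → i ≠ k → j ≠ k → e i (x j) = e (j - 1) (x i)) :
    ∃ w, ∀ i ≤ N, i ≠ k → d i w = x i := by
  have low : ∀ r ≤ k, ∃ u, ∀ i < r, d i u = x i := by
    intro r
    induction r with
    | zero => exact fun _ => ⟨1, fun i hi => absurd hi (Nat.not_lt_zero i)⟩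
    | succ r ih =>
      intro hr
      obtain ⟨u, hu⟩ := ih (by omega)
      refine ⟨u * s r ((d r u)⁻¹ * x r), fun i hi => ?_⟩
      rcases Nat.lt_succ_iff_lt_or_eq.1 hi with h | h
      · have hy : e i ((d r u)⁻¹ * x r) = 1 := by
          rw [map_mul, map_inv, h5 i r u h (by omega), hu i h,
            hx i r h (by omega) (by omega) (by omega), inv_mul_cancel]
        rw [map_mul, h3 i r _ h (by omega), hy, map_one, mul_one, hu i h]
      · subst h
        rw [map_mul, h1 i _ (by omega), mul_inv_cancel_left]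
  have high : ∀ q, ∃ w, ∀ i ≤ N, i ≠ k → (i < k ∨ N < i + q) → d i w = x i := by
    intro q
    induction q with
    | zero =>
      obtain ⟨u, hu⟩ := low k le_rfl
      exact ⟨u, fun i hi hik h => hu i (by omega)⟩
    | succ q ih =>
      obtain ⟨w, hw⟩ := ih
      by_cases hq : N ≤ k + q
      · exact ⟨w, fun i hi hik h => hw i hi hik (by omega)⟩
      obtain ⟨j, hj⟩ : ∃ j, j + 1 = N - q := ⟨N - q - 1, by omega⟩
      refine ⟨w * s j ((d (j + 1) w)⁻¹ * x (j + 1)), fun i hi hik h => ?_⟩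
      rcases lt_trichotomy i (j + 1) with hlt | heq | hgt
      · have hik' : i < k := by omega
        have hy : e i ((d (j + 1) w)⁻¹ * x (j + 1)) = 1 := by
          rw [map_mul, map_inv, h5 i (j + 1) w hlt (by omega), hw i hi hik (Or.inl hik'),
            hx i (j + 1) hlt (by omega) hik (by omega), inv_mul_cancel]
        rw [map_mul, h3 i j _ (by omega) (by omega), hy, map_one, mul_one,
          hw i hi hik (Or.inl hik')]
      · subst heq
        rw [map_mul, h2 j _ (by omega), mul_inv_cancel_left]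
      · have hy : e (i - 1) ((d (j + 1) w)⁻¹ * x (j + 1)) = 1 := by
          rw [map_mul, map_inv, ← h5 (j + 1) i w hgt hi,
            ← hx (j + 1) i hgt hi (by omega) hik, hw i hi hik (Or.inr (by omega)), inv_mul_cancel]
        rw [map_mul, h4 i j _ (by omega) hgt hi, hy, map_one, mul_one,
          hw i hi hik (Or.inr (by omega))]
  obtain ⟨w, hw⟩ := high (N + 1)
  exact ⟨w, fun i hi hik => hw i hi hik (by omega)⟩

end Algebra

variable (X : SimplicialObject GrpCat.{u})

/-- Face maps indexed by natural numbers. -/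
noncomputable def d (n i : ℕ) : X _⦋n + 1⦌ →* X _⦋n⦌ :=
  if h : i < n + 2 then (X.δ (⟨i, h⟩ : Fin (n + 2))).hom else 1

/-- Degeneracy maps indexed by natural numbers. -/
noncomputable def s (n i : ℕ) : X _⦋n⦌ →* X _⦋n + 1⦌ :=
  if h : i < n + 1 then (X.σ (⟨i, h⟩ : Fin (n + 1))).hom else 1

theorem d_val (n : ℕ) (i : Fin (n + 2)) (y : X _⦋n + 1⦌) : d X n i y = X.δ i y := by
  simp [d, i.isLt]

theorem s_val (n : ℕ) (i : Fin (n + 1)) (y : X _⦋n⦌) : s X n i y = X.σ i y := by
  simp [s, i.isLt]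

/-- Filling in simplices of a simplicial group. -/
theorem exists_filler_simplicial (n : ℕ) (k : Fin (n + 3)) (x : Fin (n + 3) → X _⦋n + 1⦌)
    (hx : ∀ (i j : Fin (n + 3)) (hij : i < j), i ≠ k → j ≠ k →
      X.δ (j.pred (Fin.ne_zero_of_lt hij)) (x i) =
        X.δ (i.castPred (Fin.ne_last_of_lt hij)) (x j)) :
    ∃ w : X _⦋n + 2⦌, ∀ i, i ≠ k → X.δ i w = x i := by
  classical
  obtain ⟨w, hw⟩ := exists_filler (n + 2) k.val (by omega) (d X (n + 1)) (s X (n + 1))
    (d X n) (s X n)
    (fun i y hi => by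
      have := ConcreteCategory.congr_hom
        (X.δ_comp_σ_self (i := (⟨i, hi⟩ : Fin (n + 2)))) y
      have e1 := d_val X (n + 1) (Fin.castSucc ⟨i, hi⟩) (X.σ (⟨i, hi⟩ : Fin (n + 2)) y)
      rw [s_val X (n + 1) ⟨i, hi⟩ y]
      exact e1.trans this)
    (fun i y hi => by
      have := ConcreteCategory.congr_hom
        (X.δ_comp_σ_succ (i := (⟨i, hi⟩ : Fin (n + 2)))) y
      have e1 := d_val X (n + 1) (Fin.succ ⟨i, hi⟩) (X.σ (⟨i, hi⟩ : Fin (n + 2)) y)
      rw [s_val X (n + 1) ⟨i, hi⟩ y]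
      exact e1.trans this)
    (fun i j y hij hj => by
      obtain ⟨j, rfl⟩ : ∃ j', j = j' + 1 := ⟨j - 1, by omega⟩
      have := ConcreteCategory.congr_hom
        (X.δ_comp_σ_of_le (i := (⟨i, by omega⟩ : Fin (n + 2)))
          (j := (⟨j, by omega⟩ : Fin (n + 1))) (by simp [Fin.le_def]; omega)) y
      simp only [Nat.add_sub_cancel]
      have e1 := d_val X (n + 1) (Fin.castSucc ⟨i, by omega⟩)
        (X.σ (Fin.succ ⟨j, by omega⟩ : Fin (n + 2)) y)
      have e2 := s_val X (n + 1) (Fin.succ ⟨j, by omega⟩) y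
      have e3 := d_val X n ⟨i, by omega⟩ y
      have e4 := s_val X n ⟨j, by omega⟩ (X.δ (⟨i, by omega⟩ : Fin (n + 2)) y)
      simp only [Fin.val_succ, Fin.val_castSucc] at e1 e2 e3 e4
      rw [e2, e1, e3, e4]
      exact this)
    (fun i j y hj hij hi => by
      obtain ⟨i, rfl⟩ : ∃ i', i = i' + 1 := ⟨i - 1, by omega⟩
      have := ConcreteCategory.congr_hom
        (X.δ_comp_σ_of_gt (i := (⟨i, by omega⟩ : Fin (n + 2)))
          (j := (⟨j, by omega⟩ : Fin (n + 1))) (by simp [Fin.lt_def]; omega)) y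
      simp only [Nat.add_sub_cancel]
      have e1 := d_val X (n + 1) (Fin.succ ⟨i, by omega⟩)
        (X.σ (Fin.castSucc ⟨j, by omega⟩ : Fin (n + 2)) y)
      have e2 := s_val X (n + 1) (Fin.castSucc ⟨j, by omega⟩) y
      have e3 := d_val X n ⟨i, by omega⟩ y
      have e4 := s_val X n ⟨j, by omega⟩ (X.δ (⟨i, by omega⟩ : Fin (n + 2)) y)
      simp only [Fin.val_succ, Fin.val_castSucc] at e1 e2 e3 e4
      rw [e2, e1, e3, e4]
      exact this)
    (fun i j w hij hj => by
      obtain ⟨j, rfl⟩ : ∃ j', j = j' + 1 := ⟨j - 1, by omega⟩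
      have := ConcreteCategory.congr_hom
        (X.δ_comp_δ (i := (⟨i, by omega⟩ : Fin (n + 2)))
          (j := (⟨j, by omega⟩ : Fin (n + 2))) (by simp [Fin.le_def]; omega)) w
      simp only [Nat.add_sub_cancel]
      have e1 := d_val X (n + 1) (Fin.succ ⟨j, by omega⟩) w
      have e2 := d_val X (n + 1) (Fin.castSucc ⟨i, by omega⟩) w
      have e3 := d_val X n ⟨i, by omega⟩ (X.δ (Fin.succ ⟨j, by omega⟩ : Fin (n + 3)) w)
      have e4 := d_val X n ⟨j, by omega⟩ (X.δ (Fin.castSucc ⟨i, by omega⟩ : Fin (n + 3)) w)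
      simp only [Fin.val_succ, Fin.val_castSucc] at e1 e2 e3 e4
      rw [e1, e2, e3, e4]
      exact this)
    (fun i => if h : i < n + 3 then x ⟨i, h⟩ else 1)
    (fun i j hij hj hik hjk => by
      have h := hx ⟨i, by omega⟩ ⟨j, by omega⟩ hij
        (fun h => hik (congrArg Fin.val h)) (fun h => hjk (congrArg Fin.val h))
      simp only [dif_pos (show i < n + 3 by omega), dif_pos (show j < n + 3 by omega)]
      rw [← d_val X n, ← d_val X n] at h
      simpa using h.symm)
  refine ⟨w, fun i hi => ?_⟩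
  have := hw i.val (by omega) (fun h => hi (Fin.ext h))
  rw [d_val] at this
  simpa [i.isLt] using this

/-- The underlying simplicial set of a simplicial group is a Kan complex. -/
theorem result (X : SimplicialObject GrpCat.{u}) : SSet.KanComplex (X ⋙ forget GrpCat.{u}) := by
  rw [KanComplex.iff]
  intro n i f hf
  classical
  obtain _ | n := n
  · obtain ⟨j, hj⟩ : ∃ j : Fin 2, j ≠ i := ⟨i.rev, by fin_cases i <;> decide⟩
    let y : X _⦋0⦌ := SSet.yonedaEquiv (f j hj)
    refine ⟨SSet.yonedaEquiv.symm (X.σ (0 : Fin 1) y), fun l hl => ?_⟩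
    obtain rfl : l = j := by fin_cases i <;> fin_cases j <;> fin_cases l <;>
      first | rfl | exact absurd rfl hj | exact absurd rfl hl
    rw [stdSimplex.δ_comp_yonedaEquiv_symm, Equiv.symm_apply_eq]
    change X.δ l (X.σ (0 : Fin 1) y) = y
    fin_cases l
    · exact ConcreteCategory.congr_hom (X.δ_comp_σ_self (i := (0 : Fin 1))) y
    · exact ConcreteCategory.congr_hom (X.δ_comp_σ_succ (i := (0 : Fin 1))) y
  · let x : Fin (n + 3) → X _⦋n + 1⦌ :=
      fun j => if h : j = i then 1 else SSet.yonedaEquiv (f j h)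
    obtain ⟨w, hw⟩ := exists_filler_simplicial X n i x (fun a b hab ha hb => by
      have := congrArg SSet.yonedaEquiv ((horn.isCompatible_iff f).1 hf a b ha hb hab)
      rw [stdSimplex.yonedaEquiv_δ_comp, stdSimplex.yonedaEquiv_δ_comp] at this
      simp only [x, dif_neg ha, dif_neg hb]
      exact this)
    refine ⟨SSet.yonedaEquiv.symm w, fun j hj => ?_⟩
    rw [stdSimplex.δ_comp_yonedaEquiv_symm, Equiv.symm_apply_eq]
    refine (hw j hj).trans ?_
    simp [x, hj]

end Groth.Agent.S6779
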