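import Groth.Statements.S6783
import Mathlib.AlgebraicTopology.CechNerve
import Mathlib.AlgebraicTopology.SimplicialSet.CategoryWithFibrations
import Mathlib.CategoryTheory.Limits.Shapes.ConcreteCategory
import Mathlib.CategoryTheory.Limits.Types.Limits

set_option autoImplicit false
open CategoryTheory
universe u
open SSet

namespace Groth.Agent.S6783

/-- For a surjective map of sets `f : A → B`, the augmentation from the Čech nerve of `f` (with
`n`-simplices the `(n+1)`-fold fibre product of `A` over `B`) to the constant simplicial set `B` is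
a trivial Kan fibration. -/
theorem result {A B : Type u} (f : A ⟶ B) (hf : Function.Surjective f) : SSet.modelCategoryQuillen.I.rlp (Arrow.mk f).augmentedCechNerve.hom := by
  classical
  rintro _ _ _ ⟨n⟩
  constructor
  intro u v sq
  -- the projections of a simplex of the Čech nerve
  let π : ∀ (m : SimplexCategoryᵒᵖ), (Arrow.mk f).cechNerve.obj m → Fin (m.unop.len + 1) → A :=
    fun m z j => Limits.WidePullback.π (B := B) (objs := fun _ : Fin (m.unop.len + 1) => A) (fun _ => f) j z
  let base : ∀ (m : SimplexCategoryᵒᵖ), (Arrow.mk f).cechNerve.obj m → B :=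
    fun m z => Limits.WidePullback.base (B := B) (objs := fun _ : Fin (m.unop.len + 1) => A) (fun _ => f) z
  have hπ : ∀ (m : SimplexCategoryᵒᵖ) z j, f (π m z j) = base m z := fun m z j =>
    ConcreteCategory.congr_hom (Limits.WidePullback.π_arrow (fun _ : Fin (m.unop.len + 1) => f) j) z
  have πnat : ∀ {m m' : SimplexCategoryᵒᵖ} (φ : m ⟶ m') z j,
      π m' ((Arrow.mk f).cechNerve.map φ z) j = π m z (φ.unop.toOrderHom j) := fun {m m'} φ z j =>
    ConcreteCategory.congr_hom (Limits.WidePullback.lift_π (fun _ : Fin (m'.unop.len + 1) => f) _ _ _ j) z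
  let m₀ : SimplexCategoryᵒᵖ := Opposite.op (SimplexCategory.mk 0)
  let mn : SimplexCategoryᵒᵖ := Opposite.op (SimplexCategory.mk n)
  let b : B := v.app mn (SSet.stdSimplex.objEquiv.symm (𝟙 _))
  have hv : ∀ m (t : (SSet.stdSimplex.obj (SimplexCategory.mk n) : SSet.{u}).obj m), v.app m t = b := by
    intro m t
    have ht : (SSet.stdSimplex.obj (SimplexCategory.mk n) : SSet.{u}).map (SSet.stdSimplex.objEquiv t).op
        (SSet.stdSimplex.objEquiv.symm (𝟙 _)) = t := by
      rw [SSet.stdSimplex.map_objEquiv_symm, Quiver.Hom.unop_op]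
      apply SSet.stdSimplex.objEquiv.injective
      rw [Equiv.apply_symm_apply]
      exact Category.comp_id (SSet.stdSimplex.objEquiv t)
    conv_lhs => rw [← ht]
    exact NatTrans.naturality_apply v (SSet.stdSimplex.objEquiv t).op _
  have hsq : ∀ m (t : ((SSet.boundary n : SSet.Subcomplex (SSet.stdSimplex.obj (SimplexCategory.mk n))) : SSet.{u}).obj m), base m (u.app m t) = b := by
    intro m t
    exact (ConcreteCategory.congr_hom (NatTrans.congr_app sq.w m) t).trans (hv m t.1)
  -- the vertices
  let c : Fin (n + 1) → (SSet.stdSimplex.obj (SimplexCategory.mk n) : SSet.{u}).obj m₀ :=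
    fun i => SSet.stdSimplex.const n i m₀
  let a : Fin (n + 1) → A := fun i =>
    if h : c i ∈ (SSet.boundary n : SSet.Subcomplex (SSet.stdSimplex.obj (SimplexCategory.mk n))).obj m₀ then
      π m₀ (u.app m₀ ⟨c i, h⟩) 0
    else (hf b).choose
  have ha : ∀ i, f (a i) = b := by
    intro i
    simp only [a]
    split
    · exact (hπ _ _ _).trans (hsq _ _)
    · exact (hf b).choose_spec
  let z : (Arrow.mk f).cechNerve.obj mn :=
    (Limits.WidePullback.lift (B := B) (objs := fun _ : Fin (n + 1) => A) (arrows := fun _ => f)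
      (TypeCat.ofHom fun _ : PUnit.{u+1} => b) (fun i => TypeCat.ofHom fun _ : PUnit.{u+1} => a i)
      (fun i => by ext; exact ha i) : PUnit.{u+1} ⟶ _) PUnit.unit
  have zπ : ∀ i, π mn z i = a i := fun i =>
    ConcreteCategory.congr_hom (Limits.WidePullback.lift_π (fun _ : Fin (n + 1) => f) _ _ _ i) PUnit.unit
  have zbase : base mn z = b :=
    ConcreteCategory.congr_hom (Limits.WidePullback.lift_base (fun _ : Fin (n + 1) => f) _ _ _) PUnit.unit
  refine ⟨⟨{ l := SSet.yonedaEquiv.symm z, fac_left := ?_, fac_right := ?_ }⟩⟩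
  · ext m t
    let φ : mn ⟶ m := (SSet.stdSimplex.objEquiv t.1).op
    show (Arrow.mk f).cechNerve.map φ z = u.app m t
    apply Limits.Concrete.widePullback_ext (fun _ : Fin (m.unop.len + 1) => f)
    · show base m _ = base m _
      refine Eq.trans ?_ (hsq m t).symm
      refine Eq.trans ?_ zbase
      exact ConcreteCategory.congr_hom (Limits.WidePullback.lift_base (fun _ : Fin (m.unop.len + 1) => f) _ _ _) z
    · intro j
      show π m _ j = π m _ j
      rw [πnat φ z j, zπ]
      let ε : m ⟶ m₀ := (SimplexCategory.const (SimplexCategory.mk 0) m.unop j).op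
      have hε : (SSet.stdSimplex.obj (SimplexCategory.mk n) : SSet.{u}).map ε t.1 = c (φ.unop.toOrderHom j) := by
        apply SSet.stdSimplex.objEquiv.injective
        ext x
        rfl
      have hmem : c (φ.unop.toOrderHom j) ∈
          (SSet.boundary n : SSet.Subcomplex (SSet.stdSimplex.obj (SimplexCategory.mk n))).obj m₀ :=
        hε ▸ (SSet.boundary n : SSet.Subcomplex (SSet.stdSimplex.obj (SimplexCategory.mk n))).map ε t.2
      simp only [a, dif_pos hmem]
      have hu := NatTrans.naturality_apply u ε t
      have heq : (⟨c (φ.unop.toOrderHom j), hmem⟩ : ((SSet.boundary n : SSet.Subcomplex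
          (SSet.stdSimplex.obj (SimplexCategory.mk n))) : SSet.{u}).obj m₀) =
          ((SSet.boundary n : SSet.Subcomplex (SSet.stdSimplex.obj (SimplexCategory.mk n))) : SSet.{u}).map ε t :=
        Subtype.ext hε.symm
      rw [heq]
      refine (congrArg (fun q => π m₀ q 0) hu).trans ?_
      exact πnat ε (u.app m t) 0
  · apply SSet.yonedaEquiv.injective
    refine (SSet.yonedaEquiv_comp _ _).trans ((congrArg _ (Equiv.apply_symm_apply SSet.yonedaEquiv z)).trans ?_)
    exact zbase.trans (hv mn _).symm

end Groth.Agent.S6783
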