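import Groth.Statements.S6784
import Mathlib.AlgebraicTopology.SimplicialObject.Coskeletal
import Mathlib.AlgebraicTopology.SimplicialSet.StdSimplex

set_option autoImplicit false
open CategoryTheory
universe u
open SSet

namespace Groth.Agent.S6784

/-- The standard simplex `Δ[n]` is `1`-coskeletal, i.e. it is the right Kan extension of its
`1`-truncation. -/
theorem result (n : ℕ) : SimplicialObject.IsCoskeletal (SSet.stdSimplex.{u}.obj (SimplexCategory.mk n)) 1 := by
  refine ⟨⟨?_⟩⟩
  refine ⟨Limits.IsTerminal.ofUniqueHom (fun G => ?_) ?_⟩
  · -- the simplex spanned by the vertices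
    let val : ∀ (m : SimplexCategoryᵒᵖ) (x : G.left.obj m), Fin (m.unop.len + 1) → Fin (n + 1) := fun m x j =>
      (SSet.stdSimplex.objEquiv (G.hom.app (Opposite.op ⟨SimplexCategory.mk 0, by simp⟩)
        (G.left.map (SimplexCategory.const (SimplexCategory.mk 0) m.unop j).op x))).toOrderHom 0
    have key : ∀ (m : SimplexCategoryᵒᵖ) (x : G.left.obj m) (k : SimplexCategory.Truncated 1)
        (e : k.obj ⟶ m.unop) (p : Fin (k.obj.len + 1)),
        (SSet.stdSimplex.objEquiv (G.hom.app (Opposite.op k) (G.left.map e.op x))).toOrderHom p =
          val m x (e.toOrderHom p) := by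
      intro m x k e p
      let q : (⟨SimplexCategory.mk 0, by simp⟩ : SimplexCategory.Truncated 1) ⟶ k :=
        SimplexCategory.Truncated.Hom.tr (SimplexCategory.const _ k.obj p) (by simp) k.property
      have h := NatTrans.naturality_apply G.hom q.op (G.left.map e.op x)
      have hc : G.left.map (SimplexCategory.const (SimplexCategory.mk 0) m.unop (e.toOrderHom p)).op x =
          ((SimplexCategory.Truncated.inclusion 1).op ⋙ G.left).map q.op (G.left.map e.op x) := by
        refine Eq.trans ?_ (ConcreteCategory.congr_hom (G.left.map_comp _ _) x)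
        congr 2
      have h2 := congrArg (fun s => (SSet.stdSimplex.objEquiv s).toOrderHom 0) h
      refine Eq.trans ?_ (congrArg (fun z => (SSet.stdSimplex.objEquiv
        (G.hom.app (Opposite.op ⟨SimplexCategory.mk 0, by simp⟩) z)).toOrderHom 0) hc).symm
      exact h2.symm
    have mono : ∀ m x, Monotone (val m x) := by
      intro m x i j hij
      let e : SimplexCategory.mk 1 ⟶ m.unop := SimplexCategory.mkOfLe i j hij
      have h0 := key m x ⟨SimplexCategory.mk 1, by simp⟩ e 0
      have h1 := key m x ⟨SimplexCategory.mk 1, by simp⟩ e 1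
      have hm := (SSet.stdSimplex.objEquiv (G.hom.app (Opposite.op ⟨SimplexCategory.mk 1, by simp⟩)
        (G.left.map e.op x))).toOrderHom.monotone (show (0 : Fin 2) ≤ 1 by decide)
      exact h0.symm.le.trans (hm.trans h1.le)
    let lift : G.left ⟶ SSet.stdSimplex.obj (SimplexCategory.mk n) :=
      { app := fun m => TypeCat.ofHom fun x =>
          SSet.stdSimplex.objEquiv.symm (SimplexCategory.Hom.mk ⟨val m x, mono m x⟩)
        naturality := fun m m' φ => by
          ext x
          apply SSet.stdSimplex.objEquiv.injective
          apply SimplexCategory.Hom.ext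
          refine OrderHom.ext _ _ (funext fun j => ?_)
          have hc : G.left.map (SimplexCategory.const (SimplexCategory.mk 0) m'.unop j).op (G.left.map φ x) =
              G.left.map (SimplexCategory.const (SimplexCategory.mk 0) m.unop (φ.unop.toOrderHom j)).op x := by
            refine (ConcreteCategory.congr_hom (G.left.map_comp _ _) x).symm.trans ?_
            congr 2
          exact congrArg (fun z => (SSet.stdSimplex.objEquiv
            (G.hom.app (Opposite.op ⟨SimplexCategory.mk 0, by simp⟩) z)).toOrderHom 0) hc }
    refine CostructuredArrow.homMk lift ?_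
    apply NatTrans.ext
    funext k
    ext x
    apply SSet.stdSimplex.objEquiv.injective
    apply SimplexCategory.Hom.ext
    refine OrderHom.ext _ _ (funext fun j => ?_)
    have h := key (Opposite.op k.unop.obj) x k.unop (𝟙 _) j
    refine Eq.trans ?_ (h.symm.trans ?_)
    · rfl
    · show (SSet.stdSimplex.objEquiv (G.hom.app k (G.left.map (𝟙 _) x))).toOrderHom j = _
      rw [G.left.map_id]
      rfl
  · intro G ψ
    refine CostructuredArrow.hom_ext _ _ ?_
    apply NatTrans.ext
    funext m
    ext x
    apply SSet.stdSimplex.objEquiv.injective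
    apply SimplexCategory.Hom.ext
    refine OrderHom.ext _ _ (funext fun j => ?_)
    let d : m ⟶ Opposite.op (SimplexCategory.mk 0) :=
      (SimplexCategory.const (SimplexCategory.mk 0) m.unop j).op
    have h2 := ConcreteCategory.congr_hom
      (NatTrans.congr_app (CostructuredArrow.w ψ) (Opposite.op ⟨SimplexCategory.mk 0, by simp⟩))
      (G.left.map d x)
    have h3 := NatTrans.naturality_apply ψ.left d x
    have h4 : ψ.left.app (Opposite.op (SimplexCategory.mk 0)) (G.left.map d x) =
        G.hom.app (Opposite.op ⟨SimplexCategory.mk 0, by simp⟩) (G.left.map d x) := h2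
    have h5 := congrArg (fun s => (SSet.stdSimplex.objEquiv s).toOrderHom 0) (h3.symm.trans h4)
    exact h5

end Groth.Agent.S6784
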