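import Groth.Statements.S6785
import Mathlib.AlgebraicTopology.SimplicialSet.Homotopy
import Mathlib.AlgebraicTopology.SimplicialSet.CategoryWithFibrations

set_option autoImplicit false
open CategoryTheory
universe u
open SSet

namespace Groth.Agent.S6785

/-- A trivial Kan fibration `f : X ⟶ Y` of simplicial sets is a homotopy equivalence; more precisely it
has a section `g`, and `g ∘ f` is homotopic to the identity of `X` by a single homotopy in each
direction. (The published statement only asserts a homotopy equivalence; the section and the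
one-step homotopies are what its proof constructs.) -/
theorem result {X Y : SSet.{u}} (f : X ⟶ Y) (hf : SSet.modelCategoryQuillen.I.rlp f) : ∃ g : Y ⟶ X, g ≫ f = 𝟙 Y ∧ Nonempty (SSet.Homotopy (𝟙 X) (f ≫ g)) ∧ Nonempty (SSet.Homotopy (f ≫ g) (𝟙 X)) := by
  classical
  have hf' : (MorphismProperty.monomorphisms SSet.{u}).rlp f := by
    rw [SSet.rlp_monomorphisms]; exact hf
  have sec : ∃ g : Y ⟶ X, g ≫ f = 𝟙 Y := by
    haveI : Mono ((⊥ : Y.Subcomplex).ι) := inferInstance
    haveI : HasLiftingProperty ((⊥ : Y.Subcomplex).ι) f := hf' _ (MorphismProperty.monomorphisms.infer_property _)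
    have sq : CommSq (SSet.Subcomplex.isInitialBot.to X) ((⊥ : Y.Subcomplex).ι) f (𝟙 Y) :=
      ⟨SSet.Subcomplex.isInitialBot.hom_ext _ _⟩
    exact ⟨sq.lift, sq.fac_right⟩
  obtain ⟨g, hg⟩ := sec
  have htpy : ∀ a b : X ⟶ X, a ≫ f = b ≫ f → Nonempty (SSet.Homotopy a b) := by
    intro a b hab
    let P := MonoidalCategoryStruct.tensorObj X (SSet.stdSimplex.obj (SimplexCategory.mk 1) : SSet.{u})
    have hne : ∀ (m : SimplexCategoryᵒᵖ) (x : X.obj m), (SSet.ι₀ : X ⟶ P).app m x ≠ (SSet.ι₁ : X ⟶ P).app m x := by
      intro m x h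
      obtain ⟨⟨k⟩⟩ := m
      have h2 := congrArg (fun p : P.obj _ => p.2) h
      have h3 := congrArg (fun s => (SSet.stdSimplex.objEquiv s).toOrderHom 0) h2
      exact absurd h3 (by decide : (0 : Fin 2) ≠ 1)
    let A : P.Subcomplex :=
      { obj := fun m => {p | p = (SSet.ι₀ : X ⟶ P).app m p.1 ∨ p = (SSet.ι₁ : X ⟶ P).app m p.1}
        map := by
          rintro m m' φ p (hp | hp)
          · left
            show P.map φ p = (SSet.ι₀ : X ⟶ P).app m' (X.map φ p.1)
            rw [NatTrans.naturality_apply (SSet.ι₀ : X ⟶ P)]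
            exact congrArg _ hp
          · right
            show P.map φ p = (SSet.ι₁ : X ⟶ P).app m' (X.map φ p.1)
            rw [NatTrans.naturality_apply (SSet.ι₁ : X ⟶ P)]
            exact congrArg _ hp }
    let e : (A : SSet.{u}) ⟶ X :=
      { app := fun m => TypeCat.ofHom fun p =>
          if p.1 = (SSet.ι₀ : X ⟶ P).app m p.1.1 then a.app m p.1.1 else b.app m p.1.1
        naturality := fun m m' φ => by
          ext ⟨p, hp⟩
          show (if P.map φ p = (SSet.ι₀ : X ⟶ P).app m' (P.map φ p).1 then a.app m' (P.map φ p).1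
              else b.app m' (P.map φ p).1) =
            X.map φ (if p = (SSet.ι₀ : X ⟶ P).app m p.1 then a.app m p.1 else b.app m p.1)
          by_cases h0 : p = (SSet.ι₀ : X ⟶ P).app m p.1
          · have h0' : P.map φ p = (SSet.ι₀ : X ⟶ P).app m' (P.map φ p).1 := by
              show _ = (SSet.ι₀ : X ⟶ P).app m' (X.map φ p.1)
              rw [NatTrans.naturality_apply (SSet.ι₀ : X ⟶ P)]
              exact congrArg _ h0
            rw [if_pos h0, if_pos h0']
            exact NatTrans.naturality_apply a φ p.1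
          · have h1 : p = (SSet.ι₁ : X ⟶ P).app m p.1 := hp.resolve_left h0
            have h0' : P.map φ p ≠ (SSet.ι₀ : X ⟶ P).app m' (P.map φ p).1 := by
              intro h
              refine hne m' (X.map φ p.1) (h.symm.trans ?_)
              rw [NatTrans.naturality_apply (SSet.ι₁ : X ⟶ P)]
              exact congrArg _ h1
            rw [if_neg h0, if_neg h0']
            exact NatTrans.naturality_apply b φ p.1 }
    haveI : HasLiftingProperty A.ι f := hf' _ (MorphismProperty.monomorphisms.infer_property _)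
    have sq : CommSq e A.ι f (SemiCartesianMonoidalCategory.fst X _ ≫ a ≫ f) := by
      constructor
      ext m ⟨p, hp⟩
      show f.app m (if p = (SSet.ι₀ : X ⟶ P).app m p.1 then a.app m p.1 else b.app m p.1) =
        f.app m (a.app m p.1)
      split
      · rfl
      · exact (ConcreteCategory.congr_hom (NatTrans.congr_app hab m) p.1).symm
    refine ⟨{ h := sq.lift, h₀ := ?_, h₁ := ?_, rel := ?_ }⟩
    · ext m x
      show sq.lift.app m ((SSet.ι₀ : X ⟶ P).app m x) = a.app m x
      refine (ConcreteCategory.congr_hom (NatTrans.congr_app sq.fac_left m) ⟨(SSet.ι₀ : X ⟶ P).app m x, Or.inl rfl⟩).trans ?_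
      exact if_pos rfl
    · ext m x
      show sq.lift.app m ((SSet.ι₁ : X ⟶ P).app m x) = b.app m x
      refine (ConcreteCategory.congr_hom (NatTrans.congr_app sq.fac_left m) ⟨(SSet.ι₁ : X ⟶ P).app m x, Or.inr rfl⟩).trans ?_
      exact if_neg (fun h => hne m x h.symm)
    · ext m ⟨⟨_, h⟩, _⟩
      exact h.elim
  exact ⟨g, hg, htpy _ _ (by simp [hg]), htpy _ _ (by simp [hg])⟩

end Groth.Agent.S6785
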