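import Groth.Statements.S6786
import Groth.Agent.H77.MLUtil


set_option autoImplicit false
open CategoryTheory CategoryTheory.Limits
universe u
open HomAlg3

namespace Groth.Agent.S6786

/-- For a sequence `(A_i) ⟶ (B_i) ⟶ (C_i) ⟶ (D_i)` of inverse systems of abelian groups over `ℕ` that is
exact levelwise at the two middle places, if `(A_i)` is Mittag-Leffler then `lim B_i ⟶ lim C_i ⟶ lim
D_i` is exact. -/
theorem result {A B C D : ℕᵒᵖ ⥤ AddCommGrpCat.{u}} (a : A ⟶ B) (b : B ⟶ C) (c : C ⟶ D) (hB : ∀ i, (b.app i).hom.ker = (a.app i).hom.range) (hC : ∀ i, (c.app i).hom.ker = (b.app i).hom.range) (hA : (A ⋙ forget AddCommGrpCat).IsMittagLeffler) : (limMap c).hom.ker = (limMap b).hom.range := by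
  rw [Groth.Agent.Lib.MLSeq.Basic.ml_iff] at hA
  ext x
  constructor
  · intro hx
    refine Groth.Agent.H77.MLUtil.lim_mem_range (φ := id) monotone_id (fun i => ⟨i, le_rfl⟩) a b hB hA x
      (fun i => (hC _).le ?_)
    have h := congrArg (fun f => f.hom x) (limMap_π c (Opposite.op i))
    refine h.symm.trans ?_
    change (limit.π D (Opposite.op i)).hom ((limMap c).hom x) = 0
    rw [AddMonoidHom.mem_ker.1 hx, map_zero]
  · rintro ⟨y, rfl⟩
    refine Groth.Agent.Lib.MLSeq.Complex.ext D fun i => ?_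
    rw [map_zero]
    have h := congrArg (fun f => f.hom ((limMap b).hom y)) (limMap_π c (Opposite.op i))
    refine h.trans ((hC _).ge ?_)
    exact ⟨(limit.π B (Opposite.op i)).hom y, (congrArg (fun f => f.hom y) (limMap_π b (Opposite.op i))).symm⟩

end Groth.Agent.S6786
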