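import Groth.Statements.S6787
import Groth.Agent.H77.MLUtil


set_option autoImplicit false
open CategoryTheory CategoryTheory.Limits
universe u
open HomAlg3

namespace Groth.Agent.S6787

/-- Take inverse systems `(A_i)`, `(B_i)`, `(C_i)` of abelian groups over `ℕ`, with morphisms of systems
`(A_i) ⟶ (B_i) ⟶ (C_i)` that give a short exact sequence at every index, and suppose `(C_i)` is
essentially constant. Then `(A_i)` is Mittag-Leffler if and only if `(B_i)` is. -/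
theorem result {A B C : ℕᵒᵖ ⥤ AddCommGrpCat.{u}} (a : A ⟶ B) (b : B ⟶ C) (ha : ∀ i, Function.Injective (a.app i).hom) (hb : ∀ i, Function.Surjective (b.app i).hom) (hex : ∀ i, (b.app i).hom.ker = (a.app i).hom.range) (hC : ∃ (C₀ : AddCommGrpCat.{u}) (c : (Functor.const ℕᵒᵖ).obj C₀ ⟶ C), DerCA.IsEssConstant C C₀ c) : (A ⋙ forget AddCommGrpCat).IsMittagLeffler ↔ (B ⋙ forget AddCommGrpCat).IsMittagLeffler := by
  obtain ⟨C₀, c, i, s, -, hk⟩ := hC
  rw [Groth.Agent.Lib.MLSeq.Basic.ml_iff, Groth.Agent.Lib.MLSeq.Basic.ml_iff]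
  refine ⟨fun h => Groth.Agent.Lib.MLSeq.Basic.ml_extension a b hb hex h
    (Groth.Agent.H77.MLUtil.ml_of_factor c i s hk), fun hB p => ?_⟩
  obtain ⟨q, hmq, hq⟩ := hB (max p i)
  have hpm : p ≤ max p i := le_max_left _ _
  refine ⟨q, hpm.trans hmq, fun l hpl x => ?_⟩
  let l₁ := max l (max p i)
  have hll : l ≤ l₁ := le_max_left _ _
  have hml : max p i ≤ l₁ := le_max_right _ _
  obtain ⟨k, hik, hlk, hk'⟩ := hk l₁
  obtain ⟨z, hz⟩ := hq k (hml.trans hlk) ((a.app (Opposite.op q)).hom x)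
  have h0 : (b.app (Opposite.op (max p i))).hom (Groth.Agent.Lib.MLSeq.Basic.tr B (hml.trans hlk) z) = 0 := by
    rw [hz, ← Groth.Agent.Lib.MLSeq.Basic.app_tr a]
    exact (hex _).ge ⟨_, rfl⟩
  rw [Groth.Agent.Lib.MLSeq.Basic.app_tr] at h0
  have h1 : Groth.Agent.Lib.MLSeq.Basic.tr C hik ((b.app (Opposite.op k)).hom z) = 0 := by
    rw [← Groth.Agent.Lib.MLSeq.Basic.tr_tr (F := C) (le_max_right p i) (hml.trans hlk), h0, map_zero]
  have h2 : (b.app (Opposite.op l₁)).hom (Groth.Agent.Lib.MLSeq.Basic.tr B hlk z) = 0 := by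
    rw [Groth.Agent.Lib.MLSeq.Basic.app_tr]
    change (C.map (homOfLE hlk).op).hom _ = 0
    rw [show C.map (homOfLE hlk).op = C.map (homOfLE hik).op ≫ s ≫ c.app (Opposite.op l₁) from hk']
    change (c.app _).hom (s.hom (Groth.Agent.Lib.MLSeq.Basic.tr C hik _)) = 0
    rw [h1, map_zero, map_zero]
  obtain ⟨w, hw⟩ := (hex _).le (AddMonoidHom.mem_ker.2 h2)
  refine ⟨Groth.Agent.Lib.MLSeq.Basic.tr A hll w, ha (Opposite.op p) ?_⟩
  rw [Groth.Agent.Lib.MLSeq.Basic.app_tr, Groth.Agent.Lib.MLSeq.Basic.app_tr,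
    Groth.Agent.Lib.MLSeq.Basic.app_tr, hw,
    ← Groth.Agent.Lib.MLSeq.Basic.tr_tr (F := B) hpm hmq, ← hz,
    Groth.Agent.Lib.MLSeq.Basic.tr_tr, Groth.Agent.Lib.MLSeq.Basic.tr_tr,
    Groth.Agent.Lib.MLSeq.Basic.tr_tr]

end Groth.Agent.S6787
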