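import Groth.Statements.S6788
import Mathlib.CategoryTheory.Localization.CalculusOfFractions
import Mathlib.CategoryTheory.Preadditive.Basic


set_option autoImplicit false
open CategoryTheory CategoryTheory.Limits
universe v u v' u'
open CategoryTheory CategoryTheory.Localization

namespace Groth.Agent.S6788

/-- For a multiplicative system `W` (left and right calculus of fractions) in a preadditive category
with a zero object and its localization functor `L`, an object `X` becomes zero in the localization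
iff some zero map out of `X` lies in `W`, iff some zero map into `X` lies in `W`. (The published
statement assumes the category additive; only the zero object and the preadditive structure are
used.) -/
theorem result {C : Type u} [Category.{v} C] [Preadditive C] [HasZeroObject C] {D : Type u'} [Category.{v'} D] (L : C ⥤ D) (W : MorphismProperty C) [W.HasLeftCalculusOfFractions] [W.HasRightCalculusOfFractions] [L.IsLocalization W] (X : C) : (IsZero (L.obj X) ↔ ∃ Y : C, W (0 : X ⟶ Y)) ∧ (IsZero (L.obj X) ↔ ∃ Z : C, W (0 : Z ⟶ X)) := by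
  have : L.EssSurj := Localization.essSurj L W
  obtain ⟨Z0, hZ0⟩ := HasZeroObject.zero (C := C)
  have h0 : IsZero (L.obj Z0) := by
    refine ⟨fun T => ⟨⟨⟨L.map (0 : Z0 ⟶ _) ≫ (L.objObjPreimageIso T).hom⟩, fun φ => ?_⟩⟩,
      fun T => ⟨⟨⟨(L.objObjPreimageIso T).inv ≫ L.map (0 : _ ⟶ Z0)⟩, fun φ => ?_⟩⟩⟩
    · change φ = L.map (0 : Z0 ⟶ L.objPreimage T) ≫ (L.objObjPreimageIso T).hom
      obtain ⟨ψ, hψ⟩ := Localization.exists_leftFraction L W (φ ≫ (L.objObjPreimageIso T).inv)
      have := Localization.inverts L W _ ψ.hs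
      rw [← Iso.comp_inv_eq, ← cancel_mono (L.map ψ.s), hψ, ψ.map_comp_map_s, ← L.map_comp]
      exact congrArg L.map (hZ0.eq_of_src _ _)
    · change φ = (L.objObjPreimageIso T).inv ≫ L.map (0 : L.objPreimage T ⟶ Z0)
      obtain ⟨ψ, hψ⟩ := Localization.exists_rightFraction L W ((L.objObjPreimageIso T).hom ≫ φ)
      have := Localization.inverts L W _ ψ.hs
      rw [Iso.eq_inv_comp, ← cancel_epi (L.map ψ.s), hψ, ψ.map_s_comp_map, ← L.map_comp]
      exact congrArg L.map (hZ0.eq_of_tgt _ _)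
  constructor <;> constructor
  · intro hz
    obtain ⟨Y, s, hs, he⟩ := (MorphismProperty.map_eq_iff_postcomp L W (𝟙 X) 0).1 (hz.eq_of_src _ _)
    rw [Category.id_comp, zero_comp] at he
    exact ⟨Y, he ▸ hs⟩
  · rintro ⟨Y, hY⟩
    have := Localization.inverts L W _ hY
    have hm : Mono (L.map (0 : X ⟶ Z0)) := by
      have he : L.map (0 : X ⟶ Y) = L.map (0 : X ⟶ Z0) ≫ L.map (0 : Z0 ⟶ Y) := by
        rw [← L.map_comp, zero_comp]
      rw [he] at this
      exact mono_of_mono (L.map (0 : X ⟶ Z0)) (L.map (0 : Z0 ⟶ Y))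
    have he : Epi (L.map (0 : X ⟶ Z0)) := ⟨fun g g' _ => h0.eq_of_src g g'⟩
    have : IsSplitEpi (L.map (0 : X ⟶ Z0)) := ⟨⟨⟨h0.to_ _, h0.eq_of_src _ _⟩⟩⟩
    exact h0.of_iso (@asIso _ _ _ _ _ (isIso_of_mono_of_isSplitEpi (L.map (0 : X ⟶ Z0))))
  · intro hz
    obtain ⟨Z, s, hs, he⟩ := (MorphismProperty.map_eq_iff_precomp L W (𝟙 X) 0).1 (hz.eq_of_src _ _)
    rw [Category.comp_id, comp_zero] at he
    exact ⟨Z, he ▸ hs⟩
  · rintro ⟨Z, hZ⟩
    have := Localization.inverts L W _ hZ
    have hm : Epi (L.map (0 : Z0 ⟶ X)) := by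
      have he : L.map (0 : Z ⟶ X) = L.map (0 : Z ⟶ Z0) ≫ L.map (0 : Z0 ⟶ X) := by
        rw [← L.map_comp, zero_comp]
      rw [he] at this
      exact epi_of_epi (L.map (0 : Z ⟶ Z0)) (L.map (0 : Z0 ⟶ X))
    have : IsSplitMono (L.map (0 : Z0 ⟶ X)) := ⟨⟨⟨h0.from_ _, h0.eq_of_src _ _⟩⟩⟩
    exact h0.of_iso (@asIso _ _ _ _ _ (isIso_of_epi_of_isSplitMono (L.map (0 : Z0 ⟶ X)))).symm

end Groth.Agent.S6788
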