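import Groth.Statements.S6789
import Mathlib.AlgebraicTopology.SimplicialObject.Homotopy
import Mathlib.AlgebraicTopology.CechNerve

set_option autoImplicit false
open CategoryTheory CategoryTheory.Limits
universe v u
open CategoryTheory CategoryTheory.SimplicialObject

namespace Groth.Agent.S6789

set_option maxHeartbeats 2000000

/-- For a morphism `f : Y ⟶ X` with a section `s`, the endomorphism of the Čech nerve of `f` (the
simplicial object of iterated fibre products of `Y` over `X`) that applies `s ∘ f` factorwise admits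
simplicial homotopies to and from the identity: the published formula gives one direction and its
mirror image (exchange the roles of the identity and `s ∘ f`) gives the other. -/
theorem result {C : Type u} [Category.{v} C] {Y X : C} (f : Y ⟶ X) (s : X ⟶ Y) (hs : s ≫ f = 𝟙 X) [∀ n : ℕ, HasWidePullback (Arrow.mk f).right (fun _ : Fin (n + 1) => (Arrow.mk f).left) (fun _ => (Arrow.mk f).hom)] (φ : Arrow.mk f ⟶ Arrow.mk f) (hφl : φ.left = f ≫ s) (hφr : φ.right = 𝟙 X) : Nonempty (SimplicialObject.Homotopy (𝟙 (Arrow.mk f).cechNerve) (Arrow.mapCechNerve φ)) ∧ Nonempty (SimplicialObject.Homotopy (Arrow.mapCechNerve φ) (𝟙 (Arrow.mk f).cechNerve)) := by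
  have gen : ∀ F G : Arrow.mk f ⟶ Arrow.mk f, F.right = 𝟙 X → G.right = 𝟙 X →
      Nonempty (SimplicialObject.Homotopy (Arrow.mapCechNerve F) (Arrow.mapCechNerve G)) := by
    intro F G hF hG
    have ha : F.left ≫ (Arrow.mk f).hom = (Arrow.mk f).hom := (Arrow.w F).trans (by rw [hF]; exact Category.comp_id f)
    have hb : G.left ≫ (Arrow.mk f).hom = (Arrow.mk f).hom := (Arrow.w G).trans (by rw [hG]; exact Category.comp_id f)
    let h : ∀ {n : ℕ} (i : Fin (n + 1)), (Arrow.mk f).cechNerve.obj (Opposite.op (SimplexCategory.mk n)) ⟶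
        (Arrow.mk f).cechNerve.obj (Opposite.op (SimplexCategory.mk (n + 1))) := fun {n} i =>
      WidePullback.lift (WidePullback.base (fun _ : Fin (n + 1) => (Arrow.mk f).hom))
        (fun k : Fin (n + 2) => WidePullback.π (fun _ : Fin (n + 1) => (Arrow.mk f).hom) (i.predAbove k) ≫
          (if (k : ℕ) ≤ i then F.left else G.left))
        (fun k => by split_ifs <;> simp only [Category.assoc, ha, hb, WidePullback.π_arrow])
    have hπ : ∀ {n : ℕ} (i : Fin (n + 1)) (k : Fin (n + 2)),
        h i ≫ WidePullback.π (fun _ : Fin (n + 2) => (Arrow.mk f).hom) k =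
          WidePullback.π (fun _ : Fin (n + 1) => (Arrow.mk f).hom) (i.predAbove k) ≫ (if (k : ℕ) ≤ i then F.left else G.left) :=
      fun i k => WidePullback.lift_π _ _ _ _ k
    have hbase : ∀ {n : ℕ} (i : Fin (n + 1)),
        h i ≫ WidePullback.base (fun _ : Fin (n + 2) => (Arrow.mk f).hom) = WidePullback.base (fun _ : Fin (n + 1) => (Arrow.mk f).hom) :=
      fun i => WidePullback.lift_base _ _ _ _
    have δπ : ∀ {n : ℕ} (i : Fin (n + 2)) (k : Fin (n + 1)),
        (Arrow.mk f).cechNerve.δ i ≫ WidePullback.π (fun _ : Fin (n + 1) => (Arrow.mk f).hom) k =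
          WidePullback.π (fun _ : Fin (n + 2) => (Arrow.mk f).hom) (i.succAbove k) :=
      fun i k => WidePullback.lift_π _ _ _ _ k
    have δbase : ∀ {n : ℕ} (i : Fin (n + 2)),
        (Arrow.mk f).cechNerve.δ i ≫ WidePullback.base (fun _ : Fin (n + 1) => (Arrow.mk f).hom) = WidePullback.base (fun _ : Fin (n + 2) => (Arrow.mk f).hom) :=
      fun i => WidePullback.lift_base _ _ _ _
    have σπ : ∀ {n : ℕ} (i : Fin (n + 1)) (k : Fin (n + 2)),
        (Arrow.mk f).cechNerve.σ i ≫ WidePullback.π (fun _ : Fin (n + 2) => (Arrow.mk f).hom) k =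
          WidePullback.π (fun _ : Fin (n + 1) => (Arrow.mk f).hom) (i.predAbove k) :=
      fun i k => WidePullback.lift_π _ _ _ _ k
    have σbase : ∀ {n : ℕ} (i : Fin (n + 1)),
        (Arrow.mk f).cechNerve.σ i ≫ WidePullback.base (fun _ : Fin (n + 2) => (Arrow.mk f).hom) = WidePullback.base (fun _ : Fin (n + 1) => (Arrow.mk f).hom) :=
      fun i => WidePullback.lift_base _ _ _ _
    have core : ∀ {n m : ℕ} (l₁ l₂ : Fin (m + 1) → Fin (n + 1)) (c₁ c₂ : Fin (m + 1) → Prop)
        [DecidablePred c₁] [DecidablePred c₂], (∀ k, l₁ k = l₂ k) → (∀ k, c₁ k ↔ c₂ k) → ∀ k,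
        WidePullback.π (fun _ : Fin (n + 1) => (Arrow.mk f).hom) (l₁ k) ≫ (if c₁ k then F.left else G.left) =
        WidePullback.π (fun _ : Fin (n + 1) => (Arrow.mk f).hom) (l₂ k) ≫ (if c₂ k then F.left else G.left) := by
      intro n m l₁ l₂ c₁ c₂ _ _ h₁ h₂ k
      rw [h₁ k]
      by_cases hc : c₁ k
      · rw [if_pos hc, if_pos ((h₂ k).1 hc)]
      · rw [if_neg hc, if_neg (fun e => hc ((h₂ k).2 e))]
    refine ⟨{ h := fun {n} i => h i, h_zero_comp_δ_zero := ?_, h_last_comp_δ_last := ?_,
              h_succ_comp_δ_castSucc_of_lt := ?_, h_succ_comp_δ_castSucc_succ := ?_,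
              h_castSucc_comp_δ_succ_of_lt := ?_, h_comp_σ_castSucc_of_le := ?_, h_comp_σ_succ_of_lt := ?_ }⟩
    · intro n
      refine WidePullback.hom_ext _ _ _ (fun k => ?_) ?_
      · refine (Category.assoc _ _ _).trans ?_
        erw [δπ, hπ, WidePullback.lift_π]
        rw [if_neg (by simp [Fin.succAbove_zero])]
        congr 2
      · refine (Category.assoc _ _ _).trans ?_
        erw [δbase, hbase, WidePullback.lift_base]
        simp [hG]
    · intro n
      refine WidePullback.hom_ext _ _ _ (fun k => ?_) ?_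
      · refine (Category.assoc _ _ _).trans ?_
        erw [δπ, hπ, WidePullback.lift_π]
        rw [if_pos (by simp [Fin.succAbove_last]; omega)]
        congr 2
        apply Fin.ext
        simp only [Fin.predAbove, Fin.succAbove_last, Fin.lt_def, Fin.val_castSucc, Fin.val_last]
        split_ifs with hk <;> simp at * <;> omega
      · refine (Category.assoc _ _ _).trans ?_
        erw [δbase, hbase, WidePullback.lift_base]
        simp [hF]
    all_goals intros
    all_goals refine WidePullback.hom_ext _ _ _ (fun k => ?_) ?_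
    all_goals refine (Category.assoc _ _ _).trans (Eq.trans ?_ (Category.assoc _ _ _).symm)
    all_goals first
      | (erw [δbase, hbase, hbase, δbase]; done)
      | (erw [δbase, hbase, hbase]; done)
      | (erw [σbase, hbase, hbase, σbase]; done)
      | skip
    · erw [δπ, hπ, hπ, ← Category.assoc, δπ]
      refine core (fun a => _) (fun a => _) (fun a => _) (fun a => _) (fun a => ?_) (fun a => ?_) k
      all_goals simp only [Fin.succAbove, Fin.predAbove, Fin.ext_iff, Fin.lt_def, Fin.le_def, Fin.val_succ, Fin.val_castSucc, Fin.val_pred, Fin.coe_castPred, apply_dite Fin.val, apply_ite Fin.val] at *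
      all_goals split_ifs at * <;> simp at * <;> omega
    · erw [δπ, hπ, hπ]
      refine core (fun a => _) (fun a => _) (fun a => _) (fun a => _) (fun a => ?_) (fun a => ?_) k
      all_goals simp only [Fin.succAbove, Fin.predAbove, Fin.ext_iff, Fin.lt_def, Fin.le_def, Fin.val_succ, Fin.val_castSucc, Fin.val_pred, Fin.coe_castPred, apply_dite Fin.val, apply_ite Fin.val] at *
      all_goals split_ifs at * <;> simp at * <;> omega
    · erw [δπ, hπ, hπ, ← Category.assoc, δπ]
      refine core (fun a => _) (fun a => _) (fun a => _) (fun a => _) (fun a => ?_) (fun a => ?_) k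
      all_goals simp only [Fin.succAbove, Fin.predAbove, Fin.ext_iff, Fin.lt_def, Fin.le_def, Fin.val_succ, Fin.val_castSucc, Fin.val_pred, Fin.coe_castPred, apply_dite Fin.val, apply_ite Fin.val] at *
      all_goals split_ifs at * <;> simp at * <;> omega
    · erw [σπ, hπ, hπ, ← Category.assoc, σπ]
      refine core (fun a => _) (fun a => _) (fun a => _) (fun a => _) (fun a => ?_) (fun a => ?_) k
      all_goals simp only [Fin.succAbove, Fin.predAbove, Fin.ext_iff, Fin.lt_def, Fin.le_def, Fin.val_succ, Fin.val_castSucc, Fin.val_pred, Fin.coe_castPred, apply_dite Fin.val, apply_ite Fin.val] at *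
      all_goals split_ifs at * <;> simp at * <;> omega
    · erw [σπ, hπ, hπ, ← Category.assoc, σπ]
      refine core (fun a => _) (fun a => _) (fun a => _) (fun a => _) (fun a => ?_) (fun a => ?_) k
      all_goals simp only [Fin.succAbove, Fin.predAbove, Fin.ext_iff, Fin.lt_def, Fin.le_def, Fin.val_succ, Fin.val_castSucc, Fin.val_pred, Fin.coe_castPred, apply_dite Fin.val, apply_ite Fin.val] at *
      all_goals split_ifs at * <;> simp at * <;> omega
  refine ⟨?_, ?_⟩
  · obtain ⟨H⟩ := gen (𝟙 _) φ rfl hφr
    convert Nonempty.intro H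
    apply NatTrans.ext; funext m
    refine WidePullback.hom_ext _ _ _ (fun k => ?_) ?_
    · refine (Category.id_comp _).trans ?_
      exact ((WidePullback.lift_π (fun _ : Fin (m.unop.len + 1) => (Arrow.mk f).hom) _ _ _ k).trans (Category.comp_id _)).symm
    · refine (Category.id_comp _).trans ?_
      exact ((WidePullback.lift_base (fun _ : Fin (m.unop.len + 1) => (Arrow.mk f).hom) _ _ _).trans (Category.comp_id _)).symm
  · obtain ⟨H⟩ := gen φ (𝟙 _) hφr rfl
    convert Nonempty.intro H
    apply NatTrans.ext; funext m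
    refine WidePullback.hom_ext _ _ _ (fun k => ?_) ?_
    · refine (Category.id_comp _).trans ?_
      exact ((WidePullback.lift_π (fun _ : Fin (m.unop.len + 1) => (Arrow.mk f).hom) _ _ _ k).trans (Category.comp_id _)).symm
    · refine (Category.id_comp _).trans ?_
      exact ((WidePullback.lift_base (fun _ : Fin (m.unop.len + 1) => (Arrow.mk f).hom) _ _ _).trans (Category.comp_id _)).symm

end Groth.Agent.S6789
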