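import Groth.Statements.S6790
import Groth.Agent.H77.RetractDual


set_option autoImplicit false
open CategoryTheory CategoryTheory.Limits MonoidalCategory
universe v u
open CategoryTheory CategoryTheory.Monoidal

namespace Groth.Agent.S6790

/-- In an idempotent-complete additive monoidal category, a direct summand of an object admitting a dual
(with coevaluation `𝟙_ A ⟶ X ⊗ Y` and evaluation `Y ⊗ X ⟶ 𝟙_ A`) again admits such a dual. -/
theorem result {A : Type u} [Category.{v} A] [Preadditive A] [HasFiniteBiproducts A] [MonoidalCategory A] [MonoidalPreadditive A] [IsIdempotentComplete A] {X X₁ : A} (i : X₁ ⟶ X) (p : X ⟶ X₁) (hip : i ≫ p = 𝟙 X₁) [HasRightDual X] : Nonempty (HasRightDual X₁) := by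
  open MonoidalCategory in
  have hidem : (p ≫ i)ᘁ ≫ (p ≫ i)ᘁ = (p ≫ i)ᘁ := by
    rw [← comp_rightAdjointMate, Category.assoc, reassoc_of% hip]
  obtain ⟨Y₁, j, q, hjq, hqj⟩ := IsIdempotentComplete.idempotents_split _ _ hidem
  haveI := Groth.Agent.H77.RetractDual.pairing i p hip j q hjq hqj
  exact ⟨⟨Y₁⟩⟩

end Groth.Agent.S6790
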