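import Groth.Statements.S6791
import Mathlib.CategoryTheory.Abelian.SerreClass.Localization
import Groth.Agent.S6433


set_option autoImplicit false
open CategoryTheory CategoryTheory.Limits
universe v u v' u' v'' u''
open CategoryTheory CategoryTheory.SerreClass

namespace Groth.Agent.S6791

/-- For an exact functor `F : A ⥤ B` of abelian categories and a Serre class `P` of `A` killed by `F`,
with `L : A ⥤ Q` a model of the quotient `A/P` and `Fbar : Q ⥤ B` the induced functor, `P` is
exactly the kernel of `F` if and only if `Fbar` is faithful. -/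
theorem result {A : Type u} [Category.{v} A] [Abelian A] {B : Type u'} [Category.{v'} B] [Abelian B] (F : A ⥤ B) [F.Additive] [PreservesFiniteLimits F] [PreservesFiniteColimits F] (P : ObjectProperty A) [P.IsSerreClass] (hP : ∀ X : A, P X → IsZero (F.obj X)) {Q : Type u''} [Category.{v''} Q] [Abelian Q] (L : A ⥤ Q) [L.IsLocalization P.isoModSerre] [L.Additive] [PreservesFiniteLimits L] [PreservesFiniteColimits L] (Fbar : Q ⥤ B) (e : L ⋙ Fbar ≅ F) : (∀ X : A, IsZero (F.obj X) → P X) ↔ Fbar.Faithful := by
  have hzero : ∀ X : A, P X → IsZero (L.obj X) := by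
    intro X hX
    obtain ⟨Z0, hZ0⟩ := HasZeroObject.zero (C := A)
    have hw : P.isoModSerre (0 : X ⟶ Z0) := (P.isoModSerre_zero_iff X Z0).2 ⟨hX, P.prop_of_isZero hZ0⟩
    have := Localization.inverts L P.isoModSerre _ hw
    exact (L.map_isZero hZ0).of_iso (asIso (L.map (0 : X ⟶ Z0)))
  constructor
  · intro hker
    refine ⟨fun {U V} φ ψ h => ?_⟩
    have : L.EssSurj := Localization.essSurj L P.isoModSerre
    suffices H : ∀ (X Y : A) (φ ψ : L.obj X ⟶ L.obj Y), Fbar.map φ = Fbar.map ψ → φ = ψ by
      have := H _ _ ((L.objObjPreimageIso U).hom ≫ φ ≫ (L.objObjPreimageIso V).inv)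
        ((L.objObjPreimageIso U).hom ≫ ψ ≫ (L.objObjPreimageIso V).inv) (by simp [h])
      simpa using this
    intro X Y φ ψ h
    obtain ⟨Y', s, hs, f, hf⟩ := Groth.Agent.S6433.result P.isoModSerre L (fun _ : Bool => X) Y
      (fun b => bif b then φ else ψ)
    have := Localization.inverts L P.isoModSerre _ hs
    have h1 : φ ≫ L.map s = L.map (f true) := hf true
    have h2 : ψ ≫ L.map s = L.map (f false) := hf false
    have hFd : F.map (f true - f false) = 0 := by
      have : Fbar.map (L.map (f true)) = Fbar.map (L.map (f false)) := by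
        rw [← h1, ← h2, Fbar.map_comp, Fbar.map_comp, h]
      rw [F.map_sub, sub_eq_zero, ← cancel_epi (e.hom.app X)]
      exact ((e.hom.naturality (f true)).symm.trans (congrArg (· ≫ e.hom.app Y') this)).trans (e.hom.naturality (f false))
    let g := f true - f false
    have hg : F.map (Abelian.factorThruImage g) ≫ F.map (Abelian.image.ι g) = 0 := by
      rw [← F.map_comp, Abelian.image.fac]; exact hFd
    have hi0 : F.map (Abelian.image.ι g) = 0 := zero_of_epi_comp _ hg
    have hF : IsZero (F.obj (Abelian.image g)) := by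
      rw [IsZero.iff_id_eq_zero, ← cancel_mono (F.map (Abelian.image.ι g)), Category.id_comp, zero_comp, hi0]
    have hLg : L.map g = 0 := by
      rw [← Abelian.image.fac g, L.map_comp, (hzero _ (hker _ hF)).eq_of_tgt (L.map (Abelian.factorThruImage g)) 0, zero_comp]
    rw [← cancel_mono (L.map s), h1, h2, ← sub_eq_zero, ← L.map_sub]
    exact hLg
  · intro hf X hX
    have hL : IsZero (L.obj X) := by
      rw [IsZero.iff_id_eq_zero]
      exact Fbar.map_injective ((hX.of_iso (e.app X)).eq_of_src _ _)
    obtain ⟨Y, s, hs, he⟩ := (MorphismProperty.map_eq_iff_postcomp L P.isoModSerre (𝟙 X) 0).1 (hL.eq_of_src _ _)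
    rw [Category.id_comp, zero_comp] at he
    exact ((P.isoModSerre_zero_iff X Y).1 (he ▸ hs)).1

end Groth.Agent.S6791
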