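import Groth.Statements.S6793
import Groth.Agent.Lib.FilCx.Diff


set_option autoImplicit false
open CategoryTheory CategoryTheory.Limits
universe v u
open SpSeq SpSeq.FilCx

namespace Groth.Agent.S6793

/-- For a filtered complex with degreewise finite filtration, if all terms of some page of its spectral
sequence lie in a weak Serre class `P`, then so does each cohomology object. -/
theorem result {A : Type u} [Category.{v} A] [Abelian A] (K : SpSeq.FilCx A) (hK : ∀ n : ℤ, (K.XFil n).IsFinite) (P : ObjectProperty A) [P.IsClosedUnderIsomorphisms] (h0 : ∃ Z : A, IsZero Z ∧ P Z) (hP : ∀ S : ComposableArrows A 4, S.Exact → P (S.obj 0) → P (S.obj 1) → P (S.obj 3) → P (S.obj 4) → P (S.obj 2)) (r : ℕ) (hr : ∀ p n : ℤ, P (K.E r p n)) (n : ℤ) : P (K.obj.homology n) := by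
  exact Groth.Agent.Lib.FilCx.Diff.homology_mem K (Groth.Agent.Lib.FilCx.Diff.weak_of_five h0 hP)
    (Groth.Agent.Lib.FilCx.Conv.edge_of_finite hK) r hr n

end Groth.Agent.S6793
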