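import Groth.Statements.S6795
import Mathlib.CategoryTheory.Idempotents.Basic
import Mathlib.CategoryTheory.Limits.Shapes.Countable


set_option autoImplicit false
open CategoryTheory CategoryTheory.Limits
universe v u
open CategoryTheory CategoryTheory.Preadditive

namespace Groth.Agent.S6795

/-- A preadditive category with countable products in which split epimorphisms have kernels is
idempotent complete (Karoubian). -/
theorem result {D : Type u} [Category.{v} D] [Preadditive D] [HasCountableProducts D] (hk : ∀ ⦃X Y : D⦄ (f : X ⟶ Y), IsSplitEpi f → HasKernel f) : IsIdempotentComplete D := by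
  refine ⟨fun X p hp => ?_⟩
  let e : X ⟶ X := 𝟙 X - p
  have he : e ≫ e = e := by simp [e, hp]
  have hep : e ≫ p = 0 := by simp [e, hp]
  have hpe : p ≫ e = 0 := by simp [e, hp]
  let P : D := ∏ᶜ fun _ : ℕ => X
  let q : ℕ → (P ⟶ X) := fun n => Pi.π (fun _ : ℕ => X) n
  let φ : P ⟶ P := Pi.lift fun n => q n ≫ e + q (n + 1) ≫ p
  let ψ : P ⟶ P := Pi.lift fun n => Nat.rec (q 0 ≫ e) (fun k _ => q (k + 1) ≫ e + q k ≫ p) n
  have hφ : ∀ n, φ ≫ q n = q n ≫ e + q (n + 1) ≫ p := fun n => Pi.lift_π _ _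
  have hψ0 : ψ ≫ q 0 = q 0 ≫ e := Pi.lift_π _ _
  have hψ : ∀ k, ψ ≫ q (k + 1) = q (k + 1) ≫ e + q k ≫ p := fun k => Pi.lift_π _ _
  have : IsSplitEpi φ := ⟨⟨⟨ψ, Pi.hom_ext _ _ fun n => by
    change (ψ ≫ φ) ≫ q n = 𝟙 P ≫ q n
    rw [Category.assoc, hφ, Preadditive.comp_add, Category.id_comp]
    cases n with
    | zero => rw [reassoc_of% hψ0, reassoc_of% (hψ 0)]; simp [he, hp, hep, hpe]; simp [e]
    | succ k => rw [reassoc_of% (hψ k), reassoc_of% (hψ (k + 1))]; simp [he, hp, hep, hpe]; simp [e]⟩⟩⟩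
  have := hk φ this
  let s : X ⟶ P := Pi.lift fun n => Nat.rec p (fun _ _ => 0) n
  have hs0 : s ≫ q 0 = p := Pi.lift_π _ _
  have hs : ∀ k, s ≫ q (k + 1) = 0 := fun k => Pi.lift_π _ _
  have hsφ : s ≫ φ = 0 := Pi.hom_ext _ _ fun n => by
    change (s ≫ φ) ≫ q n = 0 ≫ q n
    rw [Category.assoc, hφ, Preadditive.comp_add, zero_comp]
    cases n with
    | zero => rw [reassoc_of% hs0, reassoc_of% (hs 0)]; simp [hpe]
    | succ k => rw [reassoc_of% (hs k), reassoc_of% (hs (k + 1))]; simp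
  refine ⟨kernel φ, kernel.ι φ ≫ q 0, kernel.lift φ s hsφ, ?_, by rw [kernel.lift_ι_assoc, hs0]⟩
  have hk0 : ∀ n, kernel.ι φ ≫ q n ≫ e = 0 ∧ kernel.ι φ ≫ q (n + 1) ≫ p = 0 := by
    intro n
    have h0 : kernel.ι φ ≫ (q n ≫ e + q (n + 1) ≫ p) = 0 := by rw [← hφ, kernel.condition_assoc, zero_comp]
    constructor
    · simpa [he, hpe] using h0 =≫ e
    · simpa [hp, hep] using h0 =≫ p
  rw [← cancel_mono (kernel.ι φ), Category.assoc, kernel.lift_ι, Category.id_comp]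
  refine Pi.hom_ext _ _ fun n => ?_
  change ((kernel.ι φ ≫ q 0) ≫ s) ≫ q n = kernel.ι φ ≫ q n
  have hsum : kernel.ι φ ≫ q n = kernel.ι φ ≫ q n ≫ e + kernel.ι φ ≫ q n ≫ p := by simp [e]
  rw [hsum, (hk0 n).1, zero_add]
  cases n with
  | zero => rw [Category.assoc, hs0, Category.assoc]
  | succ k => rw [Category.assoc, hs, comp_zero, (hk0 k).2]

end Groth.Agent.S6795
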