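import Groth.Statements.S6796
import Mathlib.CategoryTheory.Idempotents.Basic
import Mathlib.CategoryTheory.Limits.Shapes.Countable


set_option autoImplicit false
open CategoryTheory CategoryTheory.Limits
universe v u
open CategoryTheory CategoryTheory.Preadditive

namespace Groth.Agent.S6796

/-- A preadditive category with countable coproducts in which split monomorphisms have cokernels is
idempotent complete (Karoubian). -/
theorem result {D : Type u} [Category.{v} D] [Preadditive D] [HasCountableCoproducts D] (hk : ∀ ⦃X Y : D⦄ (f : X ⟶ Y), IsSplitMono f → HasCokernel f) : IsIdempotentComplete D := by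
  refine ⟨fun X p hp => ?_⟩
  let e : X ⟶ X := 𝟙 X - p
  have he : e ≫ e = e := by simp [e, hp]
  have hep : e ≫ p = 0 := by simp [e, hp]
  have hpe : p ≫ e = 0 := by simp [e, hp]
  let P : D := ∐ fun _ : ℕ => X
  let q : ℕ → (X ⟶ P) := fun n => Sigma.ι (fun _ : ℕ => X) n
  let φ : P ⟶ P := Sigma.desc fun n => e ≫ q n + p ≫ q (n + 1)
  let ψ : P ⟶ P := Sigma.desc fun n => Nat.rec (e ≫ q 0) (fun k _ => e ≫ q (k + 1) + p ≫ q k) n
  have hφ : ∀ n, q n ≫ φ = e ≫ q n + p ≫ q (n + 1) := fun n => Sigma.ι_desc _ _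
  have hψ0 : q 0 ≫ ψ = e ≫ q 0 := Sigma.ι_desc _ _
  have hψ : ∀ k, q (k + 1) ≫ ψ = e ≫ q (k + 1) + p ≫ q k := fun k => Sigma.ι_desc _ _
  have : IsSplitMono φ := ⟨⟨⟨ψ, Sigma.hom_ext _ _ fun n => by
    change q n ≫ φ ≫ ψ = q n ≫ 𝟙 P
    rw [reassoc_of% (hφ n), Preadditive.add_comp, Category.comp_id, Category.assoc, Category.assoc]
    cases n with
    | zero => rw [hψ0, hψ 0]; simp [reassoc_of% he, reassoc_of% hp, reassoc_of% hep, reassoc_of% hpe]; simp [e]
    | succ k => rw [hψ k, hψ (k + 1)]; simp [reassoc_of% he, reassoc_of% hp, reassoc_of% hep, reassoc_of% hpe]; simp [e]⟩⟩⟩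
  have := hk φ this
  let s : P ⟶ X := Sigma.desc fun n => Nat.rec p (fun _ _ => 0) n
  have hs0 : q 0 ≫ s = p := Sigma.ι_desc _ _
  have hs : ∀ k, q (k + 1) ≫ s = 0 := fun k => Sigma.ι_desc _ _
  have hsφ : φ ≫ s = 0 := Sigma.hom_ext _ _ fun n => by
    change q n ≫ φ ≫ s = q n ≫ 0
    rw [reassoc_of% (hφ n), Preadditive.add_comp, comp_zero, Category.assoc, Category.assoc]
    cases n with
    | zero => rw [hs0, hs 0]; simp [hep]
    | succ k => rw [hs k, hs (k + 1)]; simp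
  refine ⟨cokernel φ, cokernel.desc φ s hsφ, q 0 ≫ cokernel.π φ, ?_, by rw [Category.assoc, cokernel.π_desc, hs0]⟩
  have hk0 : ∀ n, e ≫ q n ≫ cokernel.π φ = 0 ∧ p ≫ q (n + 1) ≫ cokernel.π φ = 0 := by
    intro n
    have h0 : (e ≫ q n + p ≫ q (n + 1)) ≫ cokernel.π φ = 0 := by rw [← hφ, Category.assoc, cokernel.condition, comp_zero]
    constructor
    · simpa [reassoc_of% he, reassoc_of% hep] using e ≫= h0
    · simpa [reassoc_of% hp, reassoc_of% hpe] using p ≫= h0
  rw [← cancel_epi (cokernel.π φ), cokernel.π_desc_assoc, Category.comp_id]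
  refine Sigma.hom_ext _ _ fun n => ?_
  change q n ≫ s ≫ q 0 ≫ cokernel.π φ = q n ≫ cokernel.π φ
  have hsum : q n ≫ cokernel.π φ = e ≫ q n ≫ cokernel.π φ + p ≫ q n ≫ cokernel.π φ := by simp [e]
  rw [hsum, (hk0 n).1, zero_add]
  cases n with
  | zero => rw [reassoc_of% hs0]
  | succ k => rw [reassoc_of% (hs k), zero_comp, (hk0 k).2]

end Groth.Agent.S6796
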