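import Groth.Statements.S6799
import Groth.Agent.Lib.Cosk.Basic

set_option autoImplicit false
open CategoryTheory Opposite
universe u
open SSet

namespace Groth.Agent.S6799

/-- Two maps between `n`-coskeletal simplicial sets which agree on simplices of dimension `< n` are
homotopic, by a single homotopy. -/
theorem result {U V : SSet.{u}} (f₀ f₁ : V ⟶ U) (n : ℕ) (h : ∀ i : ℕ, i < n → f₀.app (op (SimplexCategory.mk i)) = f₁.app (op (SimplexCategory.mk i))) [SimplicialObject.IsCoskeletal U n] [SimplicialObject.IsCoskeletal V n] : Nonempty (SSet.Homotopy f₀ f₁) := by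
  exact Groth.Cosk.nonempty_homotopy (n := n) f₀ f₁ h

end Groth.Agent.S6799
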