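import Groth.Statements.S6802
import Groth.Agent.Lib.FilCx.Basic


set_option autoImplicit false
open CategoryTheory
universe v u
open SpSeq SpSeq.FilObj

namespace Groth.Agent.S6802

/-- The composite of two strict morphisms of filtered objects is strict when the first one is an
epimorphism. -/
theorem result {A : Type u} [Category.{v} A] [Abelian A] {K L M : SpSeq.FilObj A} (f : K ⟶ L) (g : L ⟶ M) (hf : SpSeq.FilObj.IsStrict f) (hg : SpSeq.FilObj.IsStrict g) [Epi f.hom] : SpSeq.FilObj.IsStrict (f ≫ g) := by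
  open Groth.Agent.Lib.FilCx.Basic in
  open Groth.Agent.Lib.IndCof.Basic (mem_image_iff factors_local) in
  intro p
  open Groth.Agent.Lib.FilCx.Basic in
  open Groth.Agent.Lib.IndCof.Basic (mem_image_iff factors_local) in
  refine ext_mem fun T z => ?_
  have hcompat : ∀ {N N' : SpSeq.FilObj A} (h : N ⟶ N') (q : ℤ) {T : A} (b : T ⟶ N.obj),
      (N.fil q).Factors b → (N'.fil q).Factors (b ≫ h.hom) := fun h q T b hb =>
    (Limits.pullback_factors_iff _ _ _).1 (Subobject.factors_of_le _ (h.compat q) hb)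
  rw [Groth.Agent.Lib.FilCx.Basic.mem_image_arrow, Groth.Agent.Lib.FilCx.Basic.mem_inf,
    Groth.Agent.Lib.IndCof.Basic.mem_image_iff]
  constructor
  · rintro ⟨T', e, he, b, hb, hz⟩
    refine ⟨⟨T', e, he, b, hz⟩, Groth.Agent.Lib.IndCof.Basic.factors_local _ e ?_⟩
    rw [hz]
    exact hcompat (f ≫ g) p b hb
  rintro ⟨⟨T₁, e₁, he₁, x, hx⟩, hzp⟩
  have hx' : e₁ ≫ z = (x ≫ f.hom) ≫ g.hom := hx.trans (Category.assoc _ _ _).symm
  have hzg : (Limits.imageSubobject g.hom ⊓ M.fil p).Factors (e₁ ≫ z) :=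
    Groth.Agent.Lib.FilCx.Basic.mem_inf.2 ⟨(Groth.Agent.Lib.IndCof.Basic.mem_image_iff _ _).2
      ⟨T₁, 𝟙 _, inferInstance, x ≫ f.hom, by rw [Category.id_comp, hx']⟩,
      Groth.Agent.Lib.FilCx.Basic.mem_comp hzp e₁⟩
  rw [← hg p, Groth.Agent.Lib.FilCx.Basic.mem_image_arrow] at hzg
  obtain ⟨T₂, e₂, he₂, y, hy, hy'⟩ := hzg
  obtain ⟨T₂', e₂', he₂', a, ha⟩ := surjective_up_to_refinements_of_epi f.hom y
  have hym : (Limits.imageSubobject f.hom ⊓ L.fil p).Factors y :=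
    Groth.Agent.Lib.FilCx.Basic.mem_inf.2 ⟨(Groth.Agent.Lib.IndCof.Basic.mem_image_iff _ _).2
      ⟨T₂', e₂', he₂', a, ha⟩, hy⟩
  rw [← hf p, Groth.Agent.Lib.FilCx.Basic.mem_image_arrow] at hym
  obtain ⟨T₃, e₃, he₃, b, hb, hb'⟩ := hym
  refine ⟨T₃, e₃ ≫ e₂ ≫ e₁, inferInstance, b, hb, ?_⟩
  change _ = b ≫ f.hom ≫ g.hom
  rw [Category.assoc, Category.assoc, hy', reassoc_of% hb']

end Groth.Agent.S6802
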