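import Groth.Statements.S6804
import Groth.Agent.Lib.FilObjPush

set_option autoImplicit false
open CategoryTheory CategoryTheory.Limits
universe v u
open SpSeq SpSeq.FilObj

namespace Groth.Agent.S6804

/-- Fibre products exist in the category of filtered objects of an abelian category, and the base change
of a strict morphism is strict. -/
theorem result {A : Type u} [Category.{v} A] [Abelian A] {K L M : SpSeq.FilObj A} (f : L ⟶ K) (g : M ⟶ K) : HasPullback f g ∧ ∀ (P : SpSeq.FilObj A) (g' : P ⟶ L) (f' : P ⟶ M), IsPullback g' f' f g → SpSeq.FilObj.IsStrict f → SpSeq.FilObj.IsStrict f' := by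
  have hP := Groth.Agent.Lib.FilObjPush.isPullback_pb f g
  refine ⟨hP.hasPullback, fun P g' f' h hf => ?_⟩
  have hs := Groth.Agent.Lib.FilObjPush.isStrict_pbSnd f g hf
  rw [Groth.Agent.Lib.FilObjPush.isStrict_iff] at hs ⊢
  intro p T y hy
  let e := hP.isoIsPullback _ _ h
  have he : e.inv ≫ Groth.Agent.Lib.FilObjPush.pbSnd f g = f' := hP.isoIsPullback_inv_snd _ _ h
  have he' : e.hom ≫ f' = Groth.Agent.Lib.FilObjPush.pbSnd f g := hP.isoIsPullback_hom_snd _ _ h
  have ehom : e.inv.hom ≫ (Groth.Agent.Lib.FilObjPush.pbSnd f g).hom = f'.hom := congrArg Hom.hom he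
  have ehom' : e.hom.hom ≫ f'.hom = (Groth.Agent.Lib.FilObjPush.pbSnd f g).hom := congrArg Hom.hom he'
  obtain ⟨T', a, ha, b, hb, h2⟩ := hs p (y ≫ e.inv.hom) (by rw [Category.assoc, ehom]; exact hy)
  refine ⟨T', a, ha, b ≫ e.hom.hom, Groth.Agent.Lib.FilObjPush.compat' e.hom p hb, ?_⟩
  rw [Category.assoc b, ehom', ← h2, Category.assoc y, ehom]

end Groth.Agent.S6804
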