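import Groth.Statements.S6807
import Groth.Agent.H77.MLUtil


set_option autoImplicit false
open CategoryTheory CategoryTheory.Limits
universe u
open HomAlg3

namespace Groth.Agent.S6807

/-- For an inverse system of cochain complexes of abelian groups over `ℕ` whose terms in degrees `n-2`
and `n-1` form Mittag-Leffler systems and whose degree-`(n-1)` cohomologies form an essentially
constant system, the canonical map from the degree-`n` cohomology of the limit complex to the limit
of the degree-`n` cohomologies is an isomorphism. (The published statement is for four-term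
complexes in degrees `-2, …, 1`; only those four degrees of a longer complex enter.) -/
theorem result (K : ℕᵒᵖ ⥤ HomologicalComplex AddCommGrpCat.{u} (ComplexShape.up ℤ)) (n : ℤ) (h2 : ((K ⋙ HomologicalComplex.eval _ _ (n - 2)) ⋙ forget AddCommGrpCat).IsMittagLeffler) (h1 : ((K ⋙ HomologicalComplex.eval _ _ (n - 1)) ⋙ forget AddCommGrpCat).IsMittagLeffler) (hH : ∃ (C₀ : AddCommGrpCat.{u}) (c : (Functor.const ℕᵒᵖ).obj C₀ ⟶ K ⋙ HomologicalComplex.homologyFunctor _ _ (n - 1)), DerCA.IsEssConstant (K ⋙ HomologicalComplex.homologyFunctor _ _ (n - 1)) C₀ c) : IsIso (limit.post K (HomologicalComplex.homologyFunctor _ _ n)) := by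
  rw [Groth.Agent.Lib.MLSeq.Basic.ml_iff] at h1 h2
  obtain ⟨C₀, c, i, s, -, hk⟩ := hH
  have hH' := Groth.Agent.H77.MLUtil.ml_of_factor c i s hk
  have hrel : (ComplexShape.up ℤ).Rel (n - 1) n := sub_add_cancel n 1
  have hrel' : (ComplexShape.up ℤ).Rel (n - 2) (n - 1) := show n - 2 + 1 = n - 1 by omega
  rw [ConcreteCategory.isIso_iff_bijective]
  exact ⟨Groth.Agent.Lib.MLSeq.Complex.post_injective K (φ := id) monotone_id (fun i => ⟨i, le_rfl⟩) hrel
      (Groth.Agent.Lib.MLSeq.Complex.ml_cycles K hrel' h2 hH'),
    Groth.Agent.Lib.MLSeq.Complex.post_surjective K (φ := id) (l := n + 1) monotone_id (fun i => ⟨i, le_rfl⟩)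
      hrel rfl h1⟩

end Groth.Agent.S6807
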