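import Groth.Statements.S6814
import Mathlib.AlgebraicTopology.SimplexCategory.Truncated
import Mathlib.CategoryTheory.Functor.KanExtension.Pointwise

set_option autoImplicit false
open CategoryTheory CategoryTheory.Limits Opposite
universe v u
open CategoryTheory CategoryTheory.SimplicialObject CategoryTheory.SimplicialObject.Truncated

namespace Groth.Agent.S6814

section
open CategoryTheory CategoryTheory.Limits Opposite SimplexCategory Simplicial

variable {C : Type u} [Category.{v} C] {n : ℕ} {U : (SimplexCategory.Truncated (n + 1))ᵒᵖ ⥤ C}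

abbrev topU (U : (SimplexCategory.Truncated (n + 1))ᵒᵖ ⥤ C) : C :=
  U.obj (op ⟨SimplexCategory.mk (n + 1), (SimplexCategory.len_mk (n + 1)).le⟩)

abbrev tp (n : ℕ) : (SimplexCategory.Truncated (n + 1))ᵒᵖ :=
  op ⟨SimplexCategory.mk (n + 1), (SimplexCategory.len_mk (n + 1)).le⟩

/-- A map of truncated objects into the top one. -/
abbrev toTop {j : SimplexCategory.Truncated (n + 1)} (β : j.obj ⟶ ⦋n + 1⦌) :
    tp n ⟶ op j :=
  (ObjectProperty.homMk β : j ⟶ ⟨SimplexCategory.mk (n + 1), (SimplexCategory.len_mk (n + 1)).le⟩).op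

/-- Families compatible with the face relations. -/
def Compat {S : C} (g : Fin (n + 3) → (S ⟶ topU U)) : Prop :=
  ∀ i j : Fin (n + 2), i ≤ j →
    g (Fin.castSucc i) ≫ U.map (SimplexCategory.Truncated.δ (n + 1) j
      ((SimplexCategory.len_mk n).trans_le (Nat.le_succ n)) (SimplexCategory.len_mk (n + 1)).le).op =
    g j.succ ≫ U.map (SimplexCategory.Truncated.δ (n + 1) i
      ((SimplexCategory.len_mk n).trans_le (Nat.le_succ n)) (SimplexCategory.len_mk (n + 1)).le).op

variable {S : C} {g : Fin (n + 3) → (S ⟶ topU U)}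

theorem indep_lt (hg : Compat g) {j : SimplexCategory.Truncated (n + 1)} (hj : j.obj.len ≤ n + 1)
    {k l : Fin (n + 3)} (hkl : k < l) (γ δ' : j.obj ⟶ ⦋n + 1⦌)
    (h : γ ≫ SimplexCategory.δ k = δ' ≫ SimplexCategory.δ l) :
    g k ≫ U.map (toTop γ) = g l ≫ U.map (toTop δ') := by
  obtain ⟨i, rfl⟩ : ∃ i : Fin (n + 2), i.castSucc = k :=
    ⟨k.castPred (fun h => by rw [h] at hkl; exact absurd hkl (not_lt.2 (Fin.le_last l))), Fin.castSucc_castPred _ _⟩
  obtain ⟨m, rfl⟩ : ∃ m : Fin (n + 2), m.succ = l :=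
    ⟨l.pred (fun h => by rw [h] at hkl; exact absurd hkl (Fin.not_lt_zero _)), Fin.succ_pred _ _⟩
  have him : i ≤ m := by
    rw [Fin.le_def]
    have := Fin.lt_def.1 hkl
    simp only [Fin.val_castSucc, Fin.val_succ] at this
    omega
  have hmiss : ∀ x, δ'.toOrderHom x ≠ i := fun x hx => by
    have h1 := congrArg (fun φ : j.obj ⟶ ⦋n + 2⦌ => φ.toOrderHom x) h
    have h2 : i.castSucc.succAbove (γ.toOrderHom x) = m.succ.succAbove (δ'.toOrderHom x) := h1
    rw [hx, Fin.succAbove_of_castSucc_lt _ _ hkl] at h2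
    exact Fin.succAbove_ne _ _ h2
  obtain ⟨β, rfl⟩ := eq_comp_δ_of_not_surjective' δ' i hmiss
  have hγ : γ = β ≫ SimplexCategory.δ m := by
    rw [← cancel_mono (SimplexCategory.δ i.castSucc), h, Category.assoc, Category.assoc, δ_comp_δ him]
  subst hγ
  let b : j ⟶ (⟨⦋n⦌, (SimplexCategory.len_mk n).trans_le (Nat.le_succ n)⟩ : SimplexCategory.Truncated (n + 1)) :=
    ObjectProperty.homMk β
  have e : ∀ q : Fin (n + 2), toTop (β ≫ SimplexCategory.δ q) = (SimplexCategory.Truncated.δ (n + 1) q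
      ((SimplexCategory.len_mk n).trans_le (Nat.le_succ n)) (SimplexCategory.len_mk (n + 1)).le).op ≫ b.op :=
    fun q => rfl
  rw [e, e, U.map_comp, U.map_comp]
  simp only [← Category.assoc]
  exact congrArg (· ≫ U.map b.op) (hg i m him)

theorem indep (hg : Compat g) {j : SimplexCategory.Truncated (n + 1)}
    (k l : Fin (n + 3)) (γ δ' : j.obj ⟶ ⦋n + 1⦌)
    (h : γ ≫ SimplexCategory.δ k = δ' ≫ SimplexCategory.δ l) :
    g k ≫ U.map (toTop γ) = g l ≫ U.map (toTop δ') := by
  rcases lt_trichotomy k l with hkl | rfl | hkl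
  · exact indep_lt hg j.property hkl γ δ' h
  · rw [cancel_mono] at h
    rw [h]
  · exact (indep_lt hg j.property hkl δ' γ h.symm).symm

theorem exists_face {j : SimplexCategory.Truncated (n + 1)} (α : j.obj ⟶ ⦋n + 2⦌) :
    ∃ (k : Fin (n + 3)) (β : j.obj ⟶ ⦋n + 1⦌), α = β ≫ SimplexCategory.δ k := by
  refine eq_comp_δ_of_not_surjective α fun hs => ?_
  have h1 := Fintype.card_le_of_surjective _ hs
  have h2 : j.obj.len ≤ n + 1 := j.property
  simp [SimplexCategory.len_mk] at h1
  omega

abbrev Ltr (n : ℕ) : (SimplexCategory.Truncated (n + 1))ᵒᵖ ⥤ (SimplexCategory.Truncated (n + 2))ᵒᵖ :=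
  (SimplexCategory.Truncated.incl (n + 1) (n + 2) (Nat.le_succ _)).op

abbrev Ytop (n : ℕ) : (SimplexCategory.Truncated (n + 2))ᵒᵖ :=
  op ⟨SimplexCategory.mk (n + 2), (SimplexCategory.len_mk (n + 2)).le⟩

/-- The underlying map of an arrow out of the top object. -/
def arr {j : (SimplexCategory.Truncated (n + 1))ᵒᵖ} (a : Ytop n ⟶ (Ltr n).obj j) :
    j.unop.obj ⟶ ⦋n + 2⦌ := a.unop.hom

variable {T : C} (π : Fin (n + 3) → (T ⟶ topU U))

theorem exists_cone (hg : Compat g) :
    ∃ c : ∀ A : StructuredArrow (Ytop n) (Ltr n), S ⟶ U.obj A.right,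
      (∀ A k β, arr A.hom = β ≫ SimplexCategory.δ k → c A = g k ≫ U.map (toTop β)) ∧
      ∀ ⦃A B : StructuredArrow (Ytop n) (Ltr n)⦄ (φ : A ⟶ B), c A ≫ U.map φ.right = c B := by
  choose k β hkβ using fun A : StructuredArrow (Ytop n) (Ltr n) => exists_face (arr A.hom)
  refine ⟨fun A => g (k A) ≫ U.map (toTop (β A)), fun A l γ h => indep hg _ _ _ _ ((hkβ A).symm.trans h),
    fun A B φ => ?_⟩
  have hw : arr B.hom = φ.right.unop.hom ≫ arr A.hom := by
    rw [← StructuredArrow.w φ]
    rfl
  have h2 : toTop (β A) ≫ φ.right = toTop (φ.right.unop.hom ≫ β A) := rfl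
  rw [Category.assoc, ← U.map_comp, h2]
  exact indep hg _ _ _ _ (by rw [Category.assoc, ← hkβ, ← hkβ, hw])

/-- The arrow given by a face. -/
def faceArr (k : Fin (n + 3)) : StructuredArrow (Ytop n) (Ltr n) :=
  StructuredArrow.mk (S := Ytop n) (Y := tp n)
    (SimplexCategory.Truncated.δ (n + 2) k ((SimplexCategory.len_mk (n + 1)).trans_le (Nat.le_succ (n + 1)))
      (SimplexCategory.len_mk (n + 2)).le).op

theorem cone_face_compat (s : Cone (StructuredArrow.proj (Ytop n) (Ltr n) ⋙ U)) :
    Compat (fun k => s.π.app (faceArr k)) := fun i j hij => by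
  let Z : (SimplexCategory.Truncated (n + 1))ᵒᵖ :=
    op ⟨⦋n⦌, (SimplexCategory.len_mk n).trans_le (Nat.le_succ n)⟩
  let fm : ∀ (k : Fin (n + 3)) (q : Fin (n + 2)), Ytop n ⟶ (Ltr n).obj Z := fun k q =>
    (faceArr k).hom ≫ (Ltr n).map (SimplexCategory.Truncated.δ (n + 1) q
      ((SimplexCategory.len_mk n).trans_le (Nat.le_succ n)) (SimplexCategory.len_mk (n + 1)).le).op
  have e : fm i.castSucc j = fm j.succ i := by
    apply Quiver.Hom.unop_inj
    apply ObjectProperty.hom_ext
    exact (δ_comp_δ hij).symm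
  let φ₁ : faceArr i.castSucc ⟶ StructuredArrow.mk (fm i.castSucc j) :=
    StructuredArrow.homMk (SimplexCategory.Truncated.δ (n + 1) j
      ((SimplexCategory.len_mk n).trans_le (Nat.le_succ n)) (SimplexCategory.len_mk (n + 1)).le).op rfl
  let φ₂ : faceArr j.succ ⟶ StructuredArrow.mk (fm i.castSucc j) :=
    StructuredArrow.homMk (SimplexCategory.Truncated.δ (n + 1) i
      ((SimplexCategory.len_mk n).trans_le (Nat.le_succ n)) (SimplexCategory.len_mk (n + 1)).le).op e.symm
  exact (s.w φ₁).trans (s.w φ₂).symm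

theorem exists_limit (hπ : Compat π)
    (huniv : ∀ (S : C) (g : Fin (n + 3) → (S ⟶ topU U)), Compat g → ∃! t : S ⟶ T, ∀ k, t ≫ π k = g k) :
    ∃ c : Cone (StructuredArrow.proj (Ytop n) (Ltr n) ⋙ U), Nonempty (IsLimit c) ∧
      ∀ (S : C) (s : Cone (StructuredArrow.proj (Ytop n) (Ltr n) ⋙ U)) (u : S ⟶ s.pt)
        (hu : IsIso u) (hs : IsLimit s) (t' : S ⟶ T), (∀ k, t' ≫ π k = u ≫ s.π.app (faceArr k)) → IsIso t' := by
  obtain ⟨cc, hcc, hnat⟩ := exists_cone hπ
  let c : Cone (StructuredArrow.proj (Ytop n) (Ltr n) ⋙ U) :=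
    { pt := T
      π := { app := fun A => cc A
             naturality := fun A B φ => by
               exact (Category.id_comp _).trans (hnat φ).symm } }
  have hface : ∀ k, c.π.app (faceArr k) = π k := fun k => by
    refine (hcc (faceArr k) k (𝟙 _) (Category.id_comp _).symm).trans ?_
    refine (congrArg (π k ≫ ·) (U.map_id (tp n))).trans ?_
    exact Category.comp_id _
  have happ : ∀ (s : Cone (StructuredArrow.proj (Ytop n) (Ltr n) ⋙ U)) A k β,
      arr A.hom = β ≫ SimplexCategory.δ k → s.π.app A = s.π.app (faceArr k) ≫ U.map (toTop β) := by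
    intro s A k β h
    have hw : (faceArr k).hom ≫ (Ltr n).map (toTop β) = A.hom :=
      Quiver.Hom.unop_inj (ObjectProperty.hom_ext _ h.symm)
    exact (s.w (StructuredArrow.homMk (toTop β) hw : faceArr k ⟶ A)).symm
  choose lift hlift huniq using fun s => (huniv _ _ (cone_face_compat s))
  have hc : IsLimit c :=
    { lift := lift
      fac := fun s A => by
        obtain ⟨k, β, h⟩ := exists_face (arr A.hom)
        rw [happ c A k β h, happ s A k β h, hface]
        exact ((Category.assoc _ _ _).symm).trans (congrArg (· ≫ U.map (toTop β)) (hlift s k))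
      uniq := fun s m hm => huniq s m fun k => by rw [← hface]; exact hm _ }
  refine ⟨c, ⟨hc⟩, fun S s u hu hs t' ht' => ?_⟩
  have : t' = u ≫ (hs.conePointUniqueUpToIso hc).hom := by
    refine ExistsUnique.unique (huniv _ _ (cone_face_compat { pt := S, π :=
      { app := fun A => u ≫ s.π.app A
        naturality := fun A B φ => by simpa using congrArg (u ≫ ·) (s.w φ).symm } })) ?_ ?_
    · exact ht'
    · intro k
      rw [Category.assoc, ← hface]
      exact congrArg (u ≫ ·) (IsLimit.conePointUniqueUpToIso_hom_comp hs hc _)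
  rw [this]
  infer_instance

end

/-- Let `U` be an `(n+1)`-truncated simplicial object of a category `C` (so the truncation level is at
least `1`), and let `T` be an object with morphisms `π_0, …, π_{n+2} : T ⟶ U_{n+1}` satisfying the
face relations `d_j π_i = d_i π_{j+1}` for `i ≤ j` and universal among such families (that is, `T`
represents the functor of `(n+3)`-tuples of morphisms to `U_{n+1}` satisfying the face relations).
Then `U` extends to an `(n+2)`-truncated simplicial object right adjoint to restriction: the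
pointwise right Kan extension of `U` along the inclusion of `(n+1)`-truncated into `(n+2)`-truncated
simplex categories exists, and for any right Kan extension `V` of `U` the morphism `V_{n+2} ⟶ T`
matching the faces of `V` with the `π_k` is an isomorphism (the new top term is the representing
object). -/
theorem result {C : Type u} [Category.{v} C] (n : ℕ) (U : (SimplexCategory.Truncated (n + 1))ᵒᵖ ⥤ C) (T : C) (π : Fin (n + 3) → (T ⟶ U.obj (op ⟨SimplexCategory.mk (n + 1), (SimplexCategory.len_mk (n + 1)).le⟩))) (hπ : ∀ i j : Fin (n + 2), i ≤ j → π (Fin.castSucc i) ≫ U.map (SimplexCategory.Truncated.δ (n + 1) j ((SimplexCategory.len_mk n).trans_le (Nat.le_succ n)) (SimplexCategory.len_mk (n + 1)).le).op = π j.succ ≫ U.map (SimplexCategory.Truncated.δ (n + 1) i ((SimplexCategory.len_mk n).trans_le (Nat.le_succ n)) (SimplexCategory.len_mk (n + 1)).le).op) (huniv : ∀ (S : C) (g : Fin (n + 3) → (S ⟶ U.obj (op ⟨SimplexCategory.mk (n + 1), (SimplexCategory.len_mk (n + 1)).le⟩))), (∀ i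 j : Fin (n + 2), i ≤ j → g (Fin.castSucc i) ≫ U.map (SimplexCategory.Truncated.δ (n + 1) j ((SimplexCategory.len_mk n).trans_le (Nat.le_succ n)) (SimplexCategory.len_mk (n + 1)).le).op = g j.succ ≫ U.map (SimplexCategory.Truncated.δ (n + 1) i ((SimplexCategory.len_mk n).trans_le (Nat.le_succ n)) (SimplexCategory.len_mk (n + 1)).le).op) → ∃! t : S ⟶ T, ∀ k : Fin (n + 3), t ≫ π k = g k) : (SimplexCategory.Truncated.incl (n + 1) (n + 2) (Nat.le_succ _)).op.HasPointwiseRightKanExtension U ∧ ∀ (V : (SimplexCategory.Truncated (n + 2))ᵒᵖ ⥤ C) (α : (SimplexCategory.Truncated.incl (n + 1) (n + 2) (Nat.le_succ _)).op ⋙ V ⟶ U) [V.IsRightKanExtension α] (t : V.obj (op ⟨SimplexCategory.mk (n + 2), (SimplexCategory.len_mk (n + 2)).le⟩) ⟶ T), (∀ k : Fin (n + 3), t ≫ π k = V.map (SimplexCategory.Truncated.δ (n + 2) k ((SimplexCategory.len_mk (n + 1)).trans_le (Nat.le_succ (n + 1))) (SimplexCategory.len_mk (n + 2)).le).op ≫ α.app (op ⟨SimplexCategory.mk (n + 1), (SimplexCategory.len_mk (n + 1)).le⟩))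 → IsIso t := by
  have hu : ∀ (S : C) (g : Fin (n + 3) → (S ⟶ topU U)), Compat g → ∃! t : S ⟶ T, ∀ k, t ≫ π k = g k :=
    huniv
  obtain ⟨c, ⟨hc⟩, hiso⟩ := exists_limit π hπ hu
  haveI hp : (Ltr n).HasPointwiseRightKanExtension U := fun Y => by
    by_cases hY : Y.unop.obj.len ≤ n + 1
    · let X : (SimplexCategory.Truncated (n + 1))ᵒᵖ := op ⟨Y.unop.obj, hY⟩
      let e : (Ltr n).obj X ≅ Y := eqToIso (by rfl)
      haveI : (SimplexCategory.Truncated.incl (n + 1) (n + 2) (Nat.le_succ _)).Full := inferInstance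
      exact ⟨⟨_, limitOfDiagramInitial (StructuredArrow.mkIdInitial (T := Ltr n) (Y := X)) _⟩⟩
    · have hl : Y.unop.obj.len = n + 2 := le_antisymm Y.unop.property (by omega)
      have : Y = Ytop n := Opposite.unop_injective (ObjectProperty.FullSubcategory.ext (SimplexCategory.ext hl))
      subst this
      exact ⟨⟨c, hc⟩⟩
  refine ⟨hp, fun V α _ t ht => ?_⟩
  exact hiso _ ((CategoryTheory.Functor.RightExtension.mk V α).coneAt (Ytop n)) (𝟙 _) inferInstance
    ((Functor.isPointwiseRightKanExtensionOfIsRightKanExtension V α) (Ytop n)) t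
    fun k => by
      rw [Category.id_comp]
      exact ht k

end Groth.Agent.S6814
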