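import Groth.Statements.S6815
import Mathlib.AlgebraicTopology.SimplicialObject.Homotopy
import Mathlib.CategoryTheory.Limits.Shapes.Products
import Mathlib.CategoryTheory.Limits.FunctorCategory.Shapes.Products


set_option autoImplicit false
open CategoryTheory CategoryTheory.Limits
universe w v u
open CategoryTheory CategoryTheory.SimplicialObject

namespace Groth.Agent.S6815

/-- Homotopies between the factors of two product morphisms of simplicial objects assemble to a homotopy
between the products. -/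
theorem result {C : Type u} [Category.{v} C] {T : Type w} [HasLimitsOfShape (Discrete T) C] {X Y : T → SimplicialObject C} (a b : ∀ t, X t ⟶ Y t) (h : ∀ t, Nonempty (SimplicialObject.Homotopy (a t) (b t))) : Nonempty (SimplicialObject.Homotopy (Limits.Pi.map a) (Limits.Pi.map b)) := by
  let H := fun t => (h t).some
  let π : ∀ (Z : T → SimplicialObject C) (k : SimplexCategoryᵒᵖ) (t : T), (∏ᶜ Z).obj k ⟶ (Z t).obj k := fun Z k t => (Pi.π Z t).app k
  have ext : ∀ (Z : T → SimplicialObject C) (k : SimplexCategoryᵒᵖ) {W : C} (u w : W ⟶ (∏ᶜ Z).obj k),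
      (∀ t, u ≫ π Z k t = w ≫ π Z k t) → u = w := fun Z k W u w huw => by
    refine (isLimitOfPreserves ((evaluation _ C).obj k) (limit.isLimit (Discrete.functor Z))).hom_ext fun ⟨t⟩ => huw t
  let L : ∀ {W : C} (k : SimplexCategoryᵒᵖ), (∀ t, W ⟶ (Y t).obj k) → (W ⟶ (∏ᶜ Y).obj k) := fun {W} k u =>
    (isLimitOfPreserves ((evaluation _ C).obj k) (limit.isLimit (Discrete.functor Y))).lift
      { pt := W, π := Discrete.natTrans fun j => u j.as }
  have hL : ∀ {W : C} (k : SimplexCategoryᵒᵖ) (u : ∀ t, W ⟶ (Y t).obj k) (t : T), L k u ≫ π Y k t = u t :=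
    fun {W} k u t => (isLimitOfPreserves ((evaluation _ C).obj k) (limit.isLimit (Discrete.functor Y))).fac _ ⟨t⟩
  have hδ : ∀ (Z : T → SimplicialObject C) {n : ℕ} (i : Fin (n + 2)) (t : T),
      (∏ᶜ Z : SimplicialObject C).δ i ≫ π Z _ t = π Z _ t ≫ (Z t).δ i := fun Z n i t => (Pi.π Z t).naturality _
  have hσ : ∀ (Z : T → SimplicialObject C) {n : ℕ} (i : Fin (n + 1)) (t : T),
      (∏ᶜ Z : SimplicialObject C).σ i ≫ π Z _ t = π Z _ t ≫ (Z t).σ i := fun Z n i t => (Pi.π Z t).naturality _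
  have hmap : ∀ (c : ∀ t, X t ⟶ Y t) (k : SimplexCategoryᵒᵖ) (t : T),
      (Limits.Pi.map c).app k ≫ π Y k t = π X k t ≫ (c t).app k := fun c k t => by
    change (Limits.Pi.map c ≫ Pi.π Y t).app k = (Pi.π X t ≫ c t).app k
    rw [Pi.map_π]
  let hP : ∀ {n : ℕ} (i : Fin (n + 1)), (∏ᶜ X : SimplicialObject C).obj (Opposite.op ⟨n⟩) ⟶
      (∏ᶜ Y : SimplicialObject C).obj (Opposite.op ⟨n + 1⟩) := fun {n} i => L _ (fun t => π X _ t ≫ (H t).h i)
  have hh : ∀ {n : ℕ} (i : Fin (n + 1)) (t : T), hP i ≫ π Y (Opposite.op ⟨n + 1⟩) t = π X (Opposite.op ⟨n⟩) t ≫ (H t).h i :=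
    fun {n} i t => hL _ (fun t => π X (Opposite.op ⟨n⟩) t ≫ (H t).h i) t
  refine ⟨{ h := hP, h_zero_comp_δ_zero := ?_, h_last_comp_δ_last := ?_, h_succ_comp_δ_castSucc_of_lt := ?_, h_succ_comp_δ_castSucc_succ := ?_, h_castSucc_comp_δ_succ_of_lt := ?_, h_comp_σ_castSucc_of_le := ?_, h_comp_σ_succ_of_lt := ?_ }⟩
  · intro n
    refine ext _ _ _ _ fun t => ?_
    rw [Category.assoc, hδ, ← Category.assoc, hh, Category.assoc, (H t).h_zero_comp_δ_zero, hmap]
  · intro n
    refine ext _ _ _ _ fun t => ?_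
    rw [Category.assoc, hδ, ← Category.assoc, hh, Category.assoc, (H t).h_last_comp_δ_last, hmap]
  · intro n i j hij
    refine ext _ _ _ _ fun t => ?_
    rw [Category.assoc, hδ, ← Category.assoc, hh, Category.assoc, Category.assoc, hh, (H t).h_succ_comp_δ_castSucc_of_lt i j hij, ← Category.assoc _ (π _ _ _), hδ, Category.assoc]
  · intro n j
    refine ext _ _ _ _ fun t => ?_
    rw [Category.assoc, hδ, ← Category.assoc, hh, Category.assoc, Category.assoc, hδ, ← Category.assoc (hP j.castSucc), hh, Category.assoc, (H t).h_succ_comp_δ_castSucc_succ j]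
  · intro n i j hji
    refine ext _ _ _ _ fun t => ?_
    rw [Category.assoc, hδ, ← Category.assoc, hh, Category.assoc, Category.assoc, hh, (H t).h_castSucc_comp_δ_succ_of_lt i j hji, ← Category.assoc _ (π _ _ _), hδ, Category.assoc]
  · intro n i j hij
    refine ext _ _ _ _ fun t => ?_
    rw [Category.assoc, hσ, ← Category.assoc, hh, Category.assoc, Category.assoc, hh, (H t).h_comp_σ_castSucc_of_le i j hij, ← Category.assoc _ (π _ _ _), hσ, Category.assoc]
  · intro n i j hji
    refine ext _ _ _ _ fun t => ?_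
    rw [Category.assoc, hσ, ← Category.assoc, hh, Category.assoc, Category.assoc, hh, (H t).h_comp_σ_succ_of_lt i j hji, ← Category.assoc _ (π _ _ _), hσ, Category.assoc]

end Groth.Agent.S6815
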