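import Groth.Statements.S6816
import Mathlib.Algebra.Homology.HomotopyCategory.DegreewiseSplit


set_option autoImplicit false
open CategoryTheory CategoryTheory.Limits
universe v u
open CochainComplex

namespace Groth.Agent.S6816

/-- The boundary morphisms `C ⟶ A⟦1⟧` attached to two degreewise splittings of a degreewise split
sequence `A ⟶ B ⟶ C` of cochain complexes are homotopic. -/
theorem result {C : Type u} [Category.{v} C] [Preadditive C] [HasBinaryBiproducts C] (S : ShortComplex (CochainComplex C ℤ)) (σ σ' : ∀ n : ℤ, (S.map (HomologicalComplex.eval C (ComplexShape.up ℤ) n)).Splitting) : Nonempty (Homotopy (CochainComplex.homOfDegreewiseSplit S σ) (CochainComplex.homOfDegreewiseSplit S σ')) := by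
  let se : ∀ k, S.X₃.X k ⟶ S.X₂.X k := fun k => (σ k).s
  let re : ∀ k, S.X₂.X k ⟶ S.X₁.X k := fun k => (σ k).r
  let se' : ∀ k, S.X₃.X k ⟶ S.X₂.X k := fun k => (σ' k).s
  let re' : ∀ k, S.X₂.X k ⟶ S.X₁.X k := fun k => (σ' k).r
  have hid : ∀ k, re k ≫ S.f.f k + S.g.f k ≫ se k = 𝟙 _ := fun k => (σ k).id
  have hid' : ∀ k, re' k ≫ S.f.f k + S.g.f k ≫ se' k = 𝟙 _ := fun k => (σ' k).id
  have hfr : ∀ k, S.f.f k ≫ re k = 𝟙 _ := fun k => (σ k).f_r
  have hgs' : ∀ k, se' k ≫ S.g.f k = 𝟙 _ := fun k => (σ' k).s_g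
  let h : ∀ k, S.X₃.X k ⟶ S.X₁.X k := fun k => se' k ≫ re k
  -- the two sections differ by `h`, the two retractions by `h`
  have hs : ∀ k, se k = se' k - h k ≫ S.f.f k := fun k => by
    rw [eq_sub_iff_add_eq, add_comm]
    have := se' k ≫= hid k
    rw [Preadditive.comp_add, Category.comp_id, reassoc_of% (hgs' k)] at this
    simpa [h] using this
  have hr : ∀ k, re k = re' k + S.g.f k ≫ h k := fun k => by
    have := hid' k =≫ re k
    rw [Preadditive.add_comp, Category.id_comp, Category.assoc, Category.assoc, hfr, Category.comp_id] at this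
    exact this.symm
  have main : ∀ n, se n ≫ S.X₂.d n (n + 1) ≫ re (n + 1) =
      S.X₃.d n (n + 1) ≫ h (n + 1) + -(h n ≫ S.X₁.d n (n + 1)) + se' n ≫ S.X₂.d n (n + 1) ≫ re' (n + 1) := fun n => by
    have e1 : se' n ≫ S.X₂.d n (n + 1) ≫ S.g.f (n + 1) ≫ h (n + 1) = S.X₃.d n (n + 1) ≫ h (n + 1) := by
      rw [← HomologicalComplex.Hom.comm_assoc, reassoc_of% (hgs' n)]
    have e2 : S.f.f n ≫ S.X₂.d n (n + 1) ≫ re (n + 1) = S.X₁.d n (n + 1) := by
      rw [HomologicalComplex.Hom.comm_assoc, hfr, Category.comp_id]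
    rw [hs n, Preadditive.sub_comp, Category.assoc, e2]
    nth_rw 1 [hr (n + 1)]
    rw [Preadditive.comp_add, Preadditive.comp_add, e1]
    abel
  let H : ∀ i j : ℤ, S.X₃.X i ⟶ (S.X₁⟦(1 : ℤ)⟧).X j := fun i j =>
    if hij : j + 1 = i then h i ≫ (S.X₁.shiftFunctorObjXIso 1 j i hij.symm).inv else 0
  refine ⟨{ hom := H, zero := fun i j hij => dif_neg hij, comm := fun n => ?_ }⟩
  rw [dNext_eq H (show (ComplexShape.up ℤ).Rel n (n + 1) by simp),
    prevD_eq H (show (ComplexShape.up ℤ).Rel (n - 1) n by simp)]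
  simp only [H, sub_add_cancel, dite_true]
  simp only [CochainComplex.homOfDegreewiseSplit_f, CochainComplex.cocycleOfDegreewiseSplit,
    CochainComplex.HomComplex.Cocycle.mk_coe, CochainComplex.HomComplex.Cochain.mk_v,
    CochainComplex.shiftFunctorObjXIso, CochainComplex.shiftFunctor_obj_d', HomologicalComplex.XIsoOfEq_rfl,
    Iso.refl_inv, Category.comp_id, Category.assoc]
  simp
  exact main n

end Groth.Agent.S6816
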