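import Groth.Statements.S6817
import Groth.Agent.Lib.Cosk.HEquiv

set_option autoImplicit false
open CategoryTheory
universe u
open SSet

namespace Groth.Agent.S6817

/-- A homomorphism of simplicial abelian groups whose underlying map of simplicial sets is a homotopy
equivalence induces a quasi-isomorphism of associated chain complexes. (The published statement
allows the composites with a homotopy inverse to be joined to the identities by chains of
homotopies; this row assumes single homotopies, in either direction.) -/
theorem result {X Y : SimplicialObject AddCommGrpCat.{u}} (f : X ⟶ Y) (g : (Y ⋙ forget AddCommGrpCat.{u} : SSet.{u}) ⟶ (X ⋙ forget AddCommGrpCat.{u} : SSet.{u})) (hX : Nonempty (SSet.Homotopy (Functor.whiskerRight f (forget AddCommGrpCat.{u}) ≫ g) (𝟙 _)) ∨ Nonempty (SSet.Homotopy (𝟙 _) (Functor.whiskerRight f (forget AddCommGrpCat.{u}) ≫ g))) (hY : Nonempty (SSet.Homotopy (g ≫ Functor.whiskerRight f (forget AddCommGrpCat.{u})) (𝟙 _)) ∨ Nonempty (SSet.Homotopy (𝟙 _) (g ≫ Functor.whiskerRight f (forget AddCommGrpCat.{u})))) : QuasiIso ((AlgebraicTopology.alternatingFaceMapComplex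 AddCommGrpCat.{u}).map f) := by
  exact Groth.AbFill.quasiIso_of_homotopyEquiv f g hX hY

end Groth.Agent.S6817
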