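import Groth.Statements.S6818
import Groth.Agent.H77.Skel


set_option autoImplicit false
open CategoryTheory CategoryTheory.Limits Opposite
universe v u
open CategoryTheory CategoryTheory.Abelian

namespace Groth.Agent.S6818

/-- For a simplicial object `U` of an abelian category and `n ≥ 0`, the subobjects `U'_m ⊆ U_m`
generated by the images of all `U_i ⟶ U_m` induced by maps `[m] ⟶ [i]` with `i ≤ n` form a
simplicial subobject equal to `U` in dimensions `≤ n` whose normalized part vanishes in dimensions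
`> n`. Here the normalized subobject of `U_m` is the joint kernel of the faces `d_1, …, d_m`; the
published statement uses the faces `d_0, …, d_{m-1}`, the mirror-image convention, and both versions
hold. -/
theorem result {A : Type u} [Category.{v} A] [Abelian A] (U : SimplicialObject A) (n : ℕ) (U' : ∀ m : ℕ, Subobject (U.obj (op (SimplexCategory.mk m)))) (hU' : ∀ m : ℕ, IsLUB (Set.range (fun φ : Σ i : Fin (n + 1), (SimplexCategory.mk m ⟶ SimplexCategory.mk i) => imageSubobject (U.map φ.2.op))) (U' m)) : (∀ (m m' : ℕ) (ψ : SimplexCategory.mk m' ⟶ SimplexCategory.mk m), imageSubobject ((U' m).arrow ≫ U.map ψ.op) ≤ U' m') ∧ (∀ i : ℕ, i ≤ n → U' i = ⊤) ∧ (∀ m : ℕ, n < m → U' m ⊓ AlgebraicTopology.NormalizedMooreComplex.objX U m = ⊥) := by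
  refine ⟨fun m m' ψ => ?_, fun i hi => ?_, fun m hm =>
    Groth.Agent.H77.Skel.inf_objX U (U' m) (Groth.Agent.H77.Skel.le_kernel_of_lub U hm (U' m) (hU' m))⟩
  · refine imageSubobject_le _ ((U' m').factorThru ((U' m).arrow ≫ U.map ψ.op) ?_) (Subobject.factorThru_arrow _ _ _)
    have h : U' m ≤ (Subobject.pullback (U.map ψ.op)).obj (U' m') := (hU' m).2 (by
      rintro _ ⟨⟨i, θ⟩, rfl⟩
      have hle : imageSubobject (U.map (ψ ≫ θ).op) ≤ U' m' := (hU' m').1 ⟨⟨i, ψ ≫ θ⟩, rfl⟩
      have hf : ((Subobject.pullback (U.map ψ.op)).obj (U' m')).Factors (U.map θ.op) := by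
        rw [pullback_factors_iff, ← U.map_comp, ← op_comp]
        refine Subobject.factors_of_le _ hle ((Subobject.factors_iff _ _).2 ⟨factorThruImageSubobject _, ?_⟩)
        exact imageSubobject_arrow_comp _
      exact imageSubobject_le _ (Subobject.factorThru _ _ hf) (Subobject.factorThru_arrow _ _ _))
    rw [← pullback_factors_iff]
    exact (Subobject.factors_iff _ _).2 ⟨Subobject.ofLE _ _ h, Subobject.ofLE_arrow h⟩
  · refine top_le_iff.1 (le_trans ?_ ((hU' i).1 ⟨⟨⟨i, Nat.lt_succ_of_le hi⟩, 𝟙 _⟩, rfl⟩))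
    simp only [op_id, CategoryTheory.Functor.map_id, imageSubobject_mono]
    exact Subobject.mk_le_mk_of_comm (𝟙 _) (Category.id_comp _)

end Groth.Agent.S6818
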