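import Groth.Statements.S6820
import Mathlib.Tactic.Ring
import Mathlib.Tactic.Linarith
import Mathlib.RingTheory.Noetherian.Basic
import Mathlib.Algebra.Module.LocalizedModule.Basic
import Mathlib.Algebra.Module.Submodule.Ker

set_option autoImplicit false
universe u
open Smoothing

namespace Groth.Agent.S6820

/-- Let A be a Noetherian ring, M a finite A-module, S a multiplicative subset of A and π an element of
A such that on the localised module S⁻¹M the kernels of multiplication by π and by π² agree. Then
there is an element s of S such that for every n > 0 the kernels of multiplication by sⁿπ and by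
(sⁿπ)² on M agree. (Kernel equalities are written as implications, the reverse inclusions being
automatic.) -/
theorem result {A : Type u} [CommRing A] [IsNoetherianRing A]
    (M : Type u) [AddCommGroup M] [Module A M] [Module.Finite A M] (S : Submonoid A) (π : A)
    (h : ∀ m : LocalizedModule S M, π ^ 2 • m = 0 → π • m = 0) :
    ∃ s ∈ S, ∀ n : ℕ, 0 < n → ∀ m : M, (s ^ n * π) ^ 2 • m = 0 → (s ^ n * π) • m = 0 := by
  -- one element of `S` killing `π • ker π²`
  let K : Submodule A M := LinearMap.ker (LinearMap.lsmul A M (π ^ 2))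
  obtain ⟨T, hT⟩ := IsNoetherian.noetherian (R := A) (M := M) K
  have h0 : ∀ m ∈ K, ∃ t : S, (t : A) • π • m = 0 := by
    intro m hm
    have hm' : π ^ 2 • LocalizedModule.mkLinearMap S M m = 0 := by
      rw [← map_smul, show π ^ 2 • m = 0 from hm, map_zero]
    have := h _ hm'
    rw [← map_smul, IsLocalizedModule.eq_zero_iff S] at this
    obtain ⟨t, ht⟩ := this
    exact ⟨t, ht⟩
  classical
  have hfin : ∀ T' : Finset M, T' ⊆ T → ∃ t : S, ∀ m ∈ T', (t : A) • π • m = 0 := by
    intro T'
    induction T' using Finset.induction_on with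
    | empty => exact fun _ => ⟨1, fun m hm => absurd hm (Finset.notMem_empty m)⟩
    | insert a s _ ih =>
      intro hsub
      obtain ⟨t, ht⟩ := ih ((Finset.subset_insert a s).trans hsub)
      obtain ⟨t', ht'⟩ := h0 a (hT ▸ Submodule.subset_span (hsub (Finset.mem_insert_self a s)))
      refine ⟨t * t', fun m hm => ?_⟩
      rcases Finset.mem_insert.1 hm with rfl | hm
      · rw [Submonoid.coe_mul, mul_smul, ht', smul_zero]
      · rw [Submonoid.coe_mul, mul_comm, mul_smul, ht m hm, smul_zero]
  obtain ⟨t, ht⟩ := hfin T subset_rfl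
  have htK : ∀ m ∈ K, (t : A) • π • m = 0 := by
    intro m hm
    have : K ≤ LinearMap.ker (LinearMap.lsmul A M ((t : A) * π)) := by
      rw [← hT, Submodule.span_le]
      intro x hx
      show ((t : A) * π) • x = 0
      rw [mul_smul]; exact ht x hx
    rw [← mul_smul]
    exact this hm
  -- stabilisation of the kernels of powers of `t`
  obtain ⟨N, hN⟩ := monotone_stabilizes_iff_noetherian.2 (inferInstance : IsNoetherian A M)
    { toFun := fun k => LinearMap.ker (LinearMap.lsmul A M ((t : A) ^ k))
      monotone' := fun a b hab x hx => by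
        show (t : A) ^ b • x = 0
        rw [← Nat.sub_add_cancel hab, pow_add, mul_smul, show (t : A) ^ a • x = 0 from hx, smul_zero] }
  refine ⟨(t : A) ^ (N + 1), S.pow_mem t.2 _, fun n hn m hm => ?_⟩
  have e2 : π ^ 2 • (((t : A) ^ (N + 1)) ^ (2 * n)) • m = 0 := by
    rw [← mul_smul, show π ^ 2 * ((t : A) ^ (N + 1)) ^ (2 * n) = (((t : A) ^ (N + 1)) ^ n * π) ^ 2 by ring]
    exact hm
  have e3 := htK _ e2
  rw [← mul_smul, ← mul_smul] at e3
  have h1 : π • m ∈ LinearMap.ker (LinearMap.lsmul A M ((t : A) ^ (1 + (N + 1) * (2 * n)))) := by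
    show (t : A) ^ (1 + (N + 1) * (2 * n)) • π • m = 0
    rw [← mul_smul, ← e3]
    congr 1
    ring
  have hle : N ≤ 1 + (N + 1) * (2 * n) := by nlinarith
  have hle' : N ≤ (N + 1) * n := by nlinarith
  have h2 : π • m ∈ LinearMap.ker (LinearMap.lsmul A M ((t : A) ^ ((N + 1) * n))) := by
    have a := hN _ hle
    have b := hN _ hle'
    exact (b.symm.trans a).ge h1
  rw [mul_smul, ← pow_mul]
  exact h2


end Groth.Agent.S6820
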