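import Groth.Statements.S6824
import Groth.Agent.Lib.Smoothing.Char.Resolve

set_option autoImplicit false
universe u
open Smoothing

namespace Groth.Agent.S6824

/-- Let k be a field of characteristic p > 0, A a finitely presented k-algebra, φ : A → Λ a k-algebra
map with Λ Noetherian and geometrically regular over k, and 𝔮 ⊆ Λ a prime minimal over the radical
of H_{A/k}Λ. Then k → A → Λ ⊇ 𝔮 can be resolved. -/
theorem result {k A Λ : Type u} [Field k] (p : ℕ) [Fact p.Prime]
    [CharP k p] [CommRing A] [Algebra k A] [Algebra.FinitePresentation k A] [CommRing Λ] [Algebra k Λ]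
    [IsNoetherianRing Λ] (hreg : CAlg.IsGeometricallyRegular k Λ) (φ : A →ₐ[k] Λ) (𝔮 : Ideal Λ)
    [𝔮.IsPrime] (hmin : 𝔮 ∈ (Smoothing.singRad k φ).minimalPrimes) : Smoothing.Resolvable k φ 𝔮 := by
  obtain ⟨L, _, _, _, _, _, _⟩ : ∃ (L : Type u) (_ : CommRing L) (_ : IsLocalRing L) (_ : Algebra Λ L)
      (_ : IsLocalization.AtPrime L 𝔮) (_ : Algebra k L), IsScalarTower k Λ L :=
    ⟨Localization.AtPrime 𝔮, inferInstance, inferInstance, inferInstance, inferInstance, inferInstance,
      inferInstance⟩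
  obtain ⟨hL, hinj, hinj'⟩ := Groth.Agent.Lib.Smoothing.Char.Inj.regular_and_injective p hreg 𝔮 L
  exact Groth.Agent.Lib.Smoothing.Char.Resolve.resolvable p φ 𝔮 hmin L hinj hinj'

end Groth.Agent.S6824
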