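import Groth.Statements.S6832
import Groth.Agent.Lib.ModSiteLoc.Ops

set_option autoImplicit false
universe u
open CategoryTheory CategoryTheory.Limits TopologicalSpace
open ModSite

namespace Groth.Agent.S6832

/-- On a ringed space (X, O), if θ : G → F is a surjective map of O-modules with G of finite type and F
of finite presentation, then Ker(θ) is of finite type. (Part (1) of the source is the case G = O^r.) -/
theorem result {X : TopCat.{u}} (O : TopCat.Sheaf CommRingCat.{u} X)
    {G F : ModSite.Mod O} (θ : G ⟶ F) [Epi θ] [SheafOfModules.IsFiniteType (R := ModSite.ringSh O) G]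
    [SheafOfModules.IsFinitePresentation (R := ModSite.ringSh O) F] : SheafOfModules.IsFiniteType (R := ModSite.ringSh O) (kernel θ) := by
  exact Lib.ModSiteLoc.Ops.isFiniteType_kernel θ

end Groth.Agent.S6832
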