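import Groth.Statements.S6834
import Groth.Agent.Lib.ModSiteLoc.Sum
import Groth.Agent.Lib.ModSiteLoc.Top
import Groth.Agent.Lib.DerivedOX.Grothendieck
import Mathlib.CategoryTheory.Abelian.GrothendieckAxioms.Colim
import Mathlib.Topology.Compactness.Compact

set_option autoImplicit false
universe u
open CategoryTheory CategoryTheory.Limits TopologicalSpace
open ModSite

namespace Groth.Agent.S6834

/-- Let (X, O) be a ringed space with X quasi-compact, I a directed preordered set (nonempty, with upper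
bounds for pairs), (F_i) a system of O-modules over I and F = colim F_i. If F is of finite type then
F_i → F is surjective for some i; if moreover all transition maps are injective then F_i → F is an
isomorphism for some i. -/
theorem result {X : TopCat.{u}} (O : TopCat.Sheaf CommRingCat.{u} X)
    [CompactSpace X] {I : Type u} [Preorder I] [Nonempty I] [IsDirected I (· ≤ ·)] (D : I ⥤ ModSite.Mod O)
    (c : Cocone D) (hc : IsColimit c) [SheafOfModules.IsFiniteType (R := ModSite.ringSh O) c.pt] :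
    (∃ i : I, Epi (c.ι.app i)) ∧
      ((∀ (i j : I) (f : i ⟶ j), Mono (D.map f)) → ∃ i : I, IsIso (c.ι.app i)) := by
  classical
  haveI := Groth.Agent.Lib.DerivedOX.Grothendieck.isGrothendieckAbelian_sheafOfModules (ModSite.ringSh O)
  let q : (∐ fun i : I => D.obj i) ⟶ c.pt := Limits.Sigma.desc fun i => c.ι.app i
  haveI : Epi q := Preadditive.epi_of_cancel_zero _ fun {Z} k hk => hc.hom_ext fun i => by
    rw [comp_zero]
    have := congrArg (fun g => Limits.Sigma.ι (fun i : I => D.obj i) i ≫ g) hk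
    simpa [q] using this
  have hft := Lib.ModSiteLoc.Bridge.isFiniteType_iff (O := O) (M := c.pt).1 inferInstance
  have hloc : ∀ x : X, ∃ (V : Opens X) (i : I) (n : ℕ) (t : Fin n → ModSite.sect (D.obj i) V),
      x ∈ V ∧ Lib.ModSiteLoc.Basic.Gen (O := O) c.pt
        fun k => Lib.ModSiteLoc.Basic.ap (c.ι.app i) (t k) := by
    intro x
    obtain ⟨U, hxU, n, s, hs⟩ := Lib.ModSiteLoc.Top.exists_point hft x
    obtain ⟨R, hR, hR'⟩ := Lib.ModSiteLoc.Basic.exists_lift (O := O) q s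
    obtain ⟨U₁, h₁, hx₁, hU₁⟩ := Lib.ModSiteLoc.Top.exists_nhd hR hxU
    obtain ⟨z, hz⟩ := hR' _ hU₁
    obtain ⟨R₂, hR₂, hR₂'⟩ := Lib.ModSiteLoc.Basic.exists_forall
      (J := Opens.grothendieckTopology X) (U := U₁) (p := fun (k : Fin n) (W : Opens X) (g : W ⟶ U₁) => ∃ T : Finset I, Lib.ModSiteLoc.Basic.ap (Lib.DerCat.Compact.cut _ T)
        (Lib.ModSiteLoc.Basic.rs _ g (z k)) = Lib.ModSiteLoc.Basic.rs _ g (z k))
      (fun k W W' g h ⟨T, hT⟩ => ⟨T, by
        rw [← Lib.ModSiteLoc.Basic.rs_rs g h, Lib.ModSiteLoc.Basic.ap_rs, hT]⟩)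
      (fun k => Lib.ModSiteLoc.Sum.exists_cover (O := O) (z k))
    obtain ⟨U₂, h₂, hx₂, hU₂⟩ := Lib.ModSiteLoc.Top.exists_nhd hR₂ hx₁
    choose T hT using hR₂' _ hU₂
    obtain ⟨i, hi⟩ := Finset.exists_le (Finset.univ.biUnion T)
    have hle : ∀ j ∈ Finset.univ.biUnion T, j ≤ i := hi
    refine ⟨U₂, i, n, fun k => ∑ j ∈ (T k).attach, Lib.ModSiteLoc.Basic.ap
      (D.map (homOfLE (hle j.1 (Finset.mem_biUnion.2 ⟨k, Finset.mem_univ k, j.2⟩))))
        (Lib.ModSiteLoc.Basic.ap (Lib.DerCat.Compact.proj (fun i : I => D.obj i) j.1)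
          (Lib.ModSiteLoc.Basic.rs _ (homOfLE h₂) (z k))), hx₂, ?_⟩
    convert (hs.res (homOfLE (h₂.trans h₁))) using 1
    funext k
    have h3 := congrArg (Lib.ModSiteLoc.Basic.rs c.pt (homOfLE h₂)) (hz k)
    rw [Lib.ModSiteLoc.Basic.rs_rs, ← Lib.ModSiteLoc.Basic.ap_rs] at h3
    refine Eq.trans ?_ h3
    conv_rhs => rw [← hT k, Lib.ModSiteLoc.Sum.ap_cut]
    rw [map_sum, map_sum, ← Finset.sum_attach (T k)]
    refine Finset.sum_congr rfl fun j _ => ?_
    have e1 : D.map (homOfLE (hle j.1 (Finset.mem_biUnion.2 ⟨k, Finset.mem_univ k, j.2⟩))) ≫ c.ι.app i =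
        Limits.Sigma.ι (fun i : I => D.obj i) j.1 ≫ q := by
      rw [c.w]; simp [q]
    exact congrArg (fun g => Lib.ModSiteLoc.Basic.ap g (Lib.ModSiteLoc.Basic.ap
      (Lib.DerCat.Compact.proj (fun i : I => D.obj i) j.1)
        (Lib.ModSiteLoc.Basic.rs _ (homOfLE h₂) (z k)))) e1
  choose V st n t hxV hgen using hloc
  obtain ⟨K, hK⟩ := isCompact_univ.elim_finite_subcover (fun x : X => (V x : Set X)) (fun x => (V x).2)
    (fun y _ => Set.mem_iUnion.2 ⟨y, hxV y⟩)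
  obtain ⟨m, hm⟩ := Finset.exists_le (K.image st)
  haveI hepi : Epi (c.ι.app m) := Lib.ModSiteLoc.Basic.epi_of_exists_lift (O := O) _ fun U b => by
    refine ⟨{ arrows := fun W g => ∃ y, Lib.ModSiteLoc.Basic.ap (c.ι.app m) y =
                Lib.ModSiteLoc.Basic.rs c.pt g b
              downward_closed := ?_ }, ?_, fun W g hg => hg⟩
    · rintro W W' g ⟨y, hy⟩ h
      refine ⟨Lib.ModSiteLoc.Basic.rs _ h y, ?_⟩
      rw [Lib.ModSiteLoc.Basic.ap_rs, hy]
      exact Lib.ModSiteLoc.Basic.rs_rs (M := c.pt) g h b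
    · intro y hy
      obtain ⟨x, hx, hyx⟩ := Set.mem_iUnion₂.1 (hK (Set.mem_univ y))
      let g₀ : U ⊓ V x ⟶ U := homOfLE inf_le_left
      let v : U ⊓ V x ⟶ V x := homOfLE inf_le_right
      obtain ⟨R, hR, hR'⟩ := hgen x v (Lib.ModSiteLoc.Basic.rs c.pt g₀ b)
      obtain ⟨W, hW, hyW, hRW⟩ := Lib.ModSiteLoc.Top.exists_nhd hR (show y ∈ U ⊓ V x from ⟨hy, hyx⟩)
      obtain ⟨a, ha⟩ := hR' _ hRW
      refine ⟨W, homOfLE hW ≫ g₀, ?_, hyW⟩
      have hle : st x ≤ m := hm _ (Finset.mem_image_of_mem _ hx)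
      refine ⟨∑ k, a k • Lib.ModSiteLoc.Basic.ap (D.map (homOfLE hle))
        (Lib.ModSiteLoc.Basic.rs _ (homOfLE hW ≫ v) (t x k)), ?_⟩
      rw [Lib.ModSiteLoc.Basic.ap_sum, ← Lib.ModSiteLoc.Basic.rs_rs g₀, ha]
      refine Finset.sum_congr rfl fun k _ => congrArg (a k • ·) ?_
      rw [← Lib.ModSiteLoc.Basic.ap_rs]
      exact congrArg (fun g => Lib.ModSiteLoc.Basic.ap g
        (Lib.ModSiteLoc.Basic.rs _ (homOfLE hW ≫ v) (t x k))) (c.w (homOfLE hle))
  refine ⟨⟨m, hepi⟩, fun hmono => ⟨m, ?_⟩⟩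
  haveI : ∀ (i j : I) (f : i ⟶ j), Mono (D.map f) := hmono
  haveI : Mono (c.ι.app m) := hc.mono_ι_app_of_isFiltered m
  exact isIso_of_mono_of_epi _

end Groth.Agent.S6834
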