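import Groth.Statements.S6842
import Groth.Agent.Lib.ModSiteLoc.Sum
import Groth.Agent.Lib.ModSiteLoc.Top
import Mathlib.Topology.Compactness.Compact

set_option autoImplicit false
universe u
open CategoryTheory CategoryTheory.Limits TopologicalSpace
open ModSite

namespace Groth.Agent.S6842

/-- Let (X, O) be a ringed space, (F_i)_{i ∈ I} a family of O-modules and U ⊆ X a quasi-compact open.
Then the canonical map ⊕_i F_i(U) → (⊕_i F_i)(U) is bijective: every section of the direct sum over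
U is a finite sum of images of sections of the F_i over U (surjectivity), and such a finite sum
vanishes only if each term's section is zero (injectivity). -/
theorem result {X : TopCat.{u}} (O : TopCat.Sheaf CommRingCat.{u} X)
    {I : Type u} (F : I → ModSite.Mod O) [HasCoproduct F] (U : Opens X) (hU : IsCompact (U : Set X)) :
    (∀ s : ModSite.sect (∐ F) U, ∃ (S : Finset I) (t : ∀ i, ModSite.sect (F i) U),
        s = ∑ i ∈ S, ((Sigma.ι F i).val.app (Opposite.op U)).hom (t i)) ∧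
      ∀ (S : Finset I) (t : ∀ i, ModSite.sect (F i) U),
        ∑ i ∈ S, ((Sigma.ι F i).val.app (Opposite.op U)).hom (t i) = 0 → ∀ i ∈ S, t i = 0 := by
  classical
  refine ⟨fun s => ?_, fun S t h => Lib.ModSiteLoc.Sum.eq_zero_of_sum_eq_zero (O := O) S t h⟩
  obtain ⟨R, hR, hR'⟩ := Lib.ModSiteLoc.Sum.exists_cover (O := O) (F := F) s
  choose V hVU hxV hV using fun x : U => Lib.ModSiteLoc.Top.exists_nhd hR x.2
  choose T hT using fun x : U => hR' _ (hV x)
  obtain ⟨K, hK⟩ := hU.elim_finite_subcover (fun x : U => (V x : Set X)) (fun x => (V x).2)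
    (fun y hy => Set.mem_iUnion.2 ⟨⟨y, hy⟩, hxV ⟨y, hy⟩⟩)
  refine ⟨K.biUnion T,
    fun i => Lib.ModSiteLoc.Basic.ap (Lib.DerCat.Compact.proj F i) s, ?_⟩
  refine Eq.trans ?_ (Lib.ModSiteLoc.Sum.ap_cut (O := O) (K.biUnion T) s)
  refine Lib.ModSiteLoc.Basic.eq_of_locally (O := O) (U := U)
    (S := { arrows := fun W _ => ∃ x ∈ K, W ≤ V x
            downward_closed := fun ⟨x, hx, h⟩ g => ⟨x, hx, g.le.trans h⟩ }) ?_ ?_
  · intro y hy
    obtain ⟨x, hx, hyx⟩ := Set.mem_iUnion₂.1 (hK hy)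
    exact ⟨V x, homOfLE (hVU x), ⟨x, hx, le_rfl⟩, hyx⟩
  · rintro W g ⟨x, hx, hW⟩
    have h1 := Lib.ModSiteLoc.Sum.cut_mono (O := O) (Finset.subset_biUnion_of_mem T hx) (hT x)
    have h2 := congrArg (Lib.ModSiteLoc.Basic.rs (∐ F) (homOfLE hW)) h1
    rw [← Lib.ModSiteLoc.Basic.ap_rs, Lib.ModSiteLoc.Basic.rs_rs,
      Subsingleton.elim (homOfLE hW ≫ homOfLE (hVU x)) g] at h2
    rw [← Lib.ModSiteLoc.Basic.ap_rs]
    exact h2.symm

end Groth.Agent.S6842
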