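import Groth.Statements.S6846
import Groth.Agent.Lib.ModSiteLoc.Top

set_option autoImplicit false
universe u
open CategoryTheory CategoryTheory.Limits TopologicalSpace
open ModSite

namespace Groth.Agent.S6846

/-- Let i : (Z, O_Z) → (X, O_X) be a morphism of ringed spaces. Suppose the underlying continuous map
embeds Z homeomorphically as a closed subset of X, and that the comorphism i♯ : O_X → i_*O_Z is
surjective as a map of sheaves (locally surjective). Then, given any O_Z-module F, finite type of F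
is equivalent to finite type of the pushforward O_X-module i_*F. -/
theorem result {Z X : TopCat.{u}} (i : Z ⟶ X)
    (O_Z : TopCat.Sheaf CommRingCat.{u} Z) (O_X : TopCat.Sheaf CommRingCat.{u} X)
    (c : O_X ⟶ ((TopologicalSpace.Opens.map i).sheafPushforwardContinuous CommRingCat.{u}
      (Opens.grothendieckTopology X) (Opens.grothendieckTopology Z)).obj O_Z)
    (hi : Topology.IsClosedEmbedding i) (hc : Sheaf.IsLocallySurjective c) (F : ModSite.Mod O_Z) :
    SheafOfModules.IsFiniteType (R := ModSite.ringSh O_X)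
        ((ModSite.RMor.ofFlat (TopologicalSpace.Opens.map i) c).push.obj F) ↔
      SheafOfModules.IsFiniteType (R := ModSite.ringSh O_Z) F := by
  constructor
  · intro h
    rw [Lib.ModSiteLoc.Bridge.isFiniteType_iff] at h ⊢
    refine Lib.ModSiteLoc.Top.exists_cover (fun _ _ v hv => hv.res v) fun z => ?_
    obtain ⟨U, hzU, n, s, hs⟩ := Lib.ModSiteLoc.Top.exists_point h (i z)
    refine ⟨(Opens.map i).obj U, hzU, n, fun k => s k, fun W v t => ?_⟩
    refine ⟨Lib.ModSiteLoc.Ops.genSieve (O := O_Z) (M := F) (U := (Opens.map i).obj U) (fun k => s k) v t, ?_, fun _ _ h => h⟩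
    intro w hw
    obtain ⟨U', hU', hW⟩ := hi.isInducing.isOpen_iff.1 W.2
    let V : Opens X := ⟨U', hU'⟩ ⊓ U
    have hwV : i w ∈ V := ⟨(Set.ext_iff.1 hW w).2 hw, v.le hw⟩
    have hle : (Opens.map i).obj V ≤ W := fun y hy => (Set.ext_iff.1 hW y).1 hy.1
    obtain ⟨S, hS, hS'⟩ := hs (homOfLE inf_le_right : V ⟶ U)
      (Lib.ModSiteLoc.Basic.rs (O := O_Z) F (homOfLE hle) t)
    obtain ⟨V', hV', hwV', hSV⟩ := Lib.ModSiteLoc.Top.exists_nhd hS hwV
    obtain ⟨a, ha⟩ := hS' _ hSV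
    refine ⟨(Opens.map i).obj V', homOfLE ((show (Opens.map i).obj V' ≤ (Opens.map i).obj V from fun y hy => hV' hy).trans hle),
      ⟨fun k => (c.hom.app (Opposite.op V')).hom (a k), ?_⟩, hwV'⟩
    have ha' : Lib.ModSiteLoc.Basic.rs (O := O_Z) F ((Opens.map i).map (homOfLE hV'))
        (Lib.ModSiteLoc.Basic.rs (O := O_Z) F (homOfLE hle) t) =
        ∑ k, (show O_Z.obj.obj (Opposite.op ((Opens.map i).obj V')) from (c.hom.app (Opposite.op V')).hom (a k)) •
          Lib.ModSiteLoc.Basic.rs (O := O_Z) F ((Opens.map i).map (homOfLE hV' ≫ homOfLE inf_le_right : V' ⟶ U)) (s k) := ha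
    rw [Lib.ModSiteLoc.Basic.rs_rs] at ha'
    exact ha'
  · intro h
    rw [Lib.ModSiteLoc.Bridge.isFiniteType_iff] at h ⊢
    have hempty : ∀ {U : Opens X}, (U : Set X) ⊆ (Set.range i)ᶜ →
        ∀ t : ModSite.sect F ((Opens.map i).obj U), t = 0 := fun {U} hU t =>
      Lib.ModSiteLoc.Basic.eq_of_locally (O := O_Z) (S := ⊥)
        (fun w hw => absurd ⟨w, rfl⟩ (hU hw)) (fun _ _ hg => hg.elim)
    refine Lib.ModSiteLoc.Top.exists_cover (fun _ _ v hv => hv.res v) fun x => ?_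
    by_cases hx : x ∈ Set.range i
    swap
    · refine ⟨⟨(Set.range i)ᶜ, hi.isClosed_range.isOpen_compl⟩, hx, 0, Fin.elim0, fun W v t => ?_⟩
      refine ⟨⊤, GrothendieckTopology.top_mem _ _, fun W' g _ => ⟨Fin.elim0, ?_⟩⟩
      rw [Finset.univ_eq_empty, Finset.sum_empty]
      exact hempty (fun y hy => v.le (g.le hy)) _
    obtain ⟨z, rfl⟩ := hx
    obtain ⟨W₀, hzW, n, s, hs⟩ := Lib.ModSiteLoc.Top.exists_point h z
    obtain ⟨U₀', hU₀', hW₀⟩ := hi.isInducing.isOpen_iff.1 W₀.2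
    let U₀ : Opens X := ⟨U₀', hU₀'⟩
    have hle₀ : (Opens.map i).obj U₀ ≤ W₀ := fun y hy => (Set.ext_iff.1 hW₀ y).1 hy
    refine ⟨U₀, (Set.ext_iff.1 hW₀ z).2 hzW, n,
      fun k => Lib.ModSiteLoc.Basic.rs (O := O_Z) F (homOfLE hle₀) (s k), fun U v t => ?_⟩
    refine ⟨Lib.ModSiteLoc.Ops.genSieve (O := O_X)
      (M := (ModSite.RMor.ofFlat (Opens.map i) c).push.obj F)
      (fun k => Lib.ModSiteLoc.Basic.rs (O := O_Z) F (homOfLE hle₀) (s k)) v t, ?_, fun _ _ h => h⟩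
    intro y hy
    by_cases hyr : y ∈ Set.range i
    swap
    · refine ⟨U ⊓ ⟨(Set.range i)ᶜ, hi.isClosed_range.isOpen_compl⟩, homOfLE inf_le_left,
        ⟨fun _ => 0, ?_⟩, ⟨hy, hyr⟩⟩
      have he : ((U ⊓ ⟨(Set.range i)ᶜ, hi.isClosed_range.isOpen_compl⟩ : Opens X) : Set X) ⊆ (Set.range i)ᶜ :=
        fun _ hy => hy.2
      exact (hempty he _).trans (hempty he _).symm
    obtain ⟨w, rfl⟩ := hyr
    obtain ⟨S, hS, hS'⟩ := hs ((Opens.map i).map v ≫ homOfLE hle₀) t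
    obtain ⟨W', hW', hwW', hSW⟩ := Lib.ModSiteLoc.Top.exists_nhd hS (show w ∈ (Opens.map i).obj U from hy)
    obtain ⟨a, ha⟩ := hS' _ hSW
    obtain ⟨U'', hU'', hW''⟩ := hi.isInducing.isOpen_iff.1 W'.2
    let V : Opens X := ⟨U'', hU''⟩ ⊓ U
    have hleV : (Opens.map i).obj V ≤ W' := fun y hy => (Set.ext_iff.1 hW'' y).1 hy.1
    have hwV : i w ∈ V := ⟨(Set.ext_iff.1 hW'' w).2 hwW', hy⟩
    obtain ⟨T, hT, hT'⟩ := Lib.ModSiteLoc.Basic.exists_forall (J := Opens.grothendieckTopology X) (U := V)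
      (p := fun (k : Fin n) (V' : Opens X) (g : V' ⟶ V) => ∃ b : O_X.obj.obj (Opposite.op V'),
        (c.hom.app (Opposite.op V')).hom b = Lib.ModSiteLoc.Basic.rr O_Z ((Opens.map i).map g)
          (Lib.ModSiteLoc.Basic.rr O_Z (homOfLE hleV) (a k)))
      (fun k V₁ V₂ g g' ⟨b, hb⟩ => ⟨Lib.ModSiteLoc.Basic.rr O_X g' b, by
        refine (ConcreteCategory.congr_hom (c.hom.naturality g'.op) b).trans ?_
        refine (congrArg (Lib.ModSiteLoc.Basic.rr O_Z ((Opens.map i).map g')) hb).trans ?_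
        rw [Lib.ModSiteLoc.Basic.rr_rr]
        rfl⟩)
      (fun k => ⟨_, Presheaf.imageSieve_mem (Opens.grothendieckTopology X) c.hom
        (U := Opposite.op V) (Lib.ModSiteLoc.Basic.rr O_Z (homOfLE hleV) (a k)), fun V' g hg => hg⟩)
    obtain ⟨V', hV', hwV', hTV⟩ := Lib.ModSiteLoc.Top.exists_nhd hT hwV
    choose b hb using hT' _ hTV
    refine ⟨V', homOfLE (hV'.trans inf_le_right), ⟨b, ?_⟩, hwV'⟩
    have h1 := congrArg (Lib.ModSiteLoc.Basic.rs (O := O_Z) F
      ((Opens.map i).map (homOfLE hV') ≫ homOfLE hleV)) ha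
    rw [Lib.ModSiteLoc.Basic.rs_rs, Lib.ModSiteLoc.Basic.rs_sum] at h1
    simp only [Lib.ModSiteLoc.Basic.rs_rs] at h1
    show Lib.ModSiteLoc.Basic.rs (O := O_Z) F ((Opens.map i).map (homOfLE (hV'.trans inf_le_right))) t =
      ∑ k, (show O_Z.obj.obj (Opposite.op ((Opens.map i).obj V')) from (c.hom.app (Opposite.op V')).hom (b k)) • Lib.ModSiteLoc.Basic.rs (O := O_Z) F
        ((Opens.map i).map (homOfLE (hV'.trans inf_le_right) ≫ v))
        (Lib.ModSiteLoc.Basic.rs (O := O_Z) F (homOfLE hle₀) (s k))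
    simp only [hb, Lib.ModSiteLoc.Basic.rr_rr, Lib.ModSiteLoc.Basic.rs_rs]
    exact h1

end Groth.Agent.S6846
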