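import Groth.Statements.S6848
import Groth.Agent.Lib.ModSiteLoc.Top

set_option autoImplicit false
universe u
open CategoryTheory CategoryTheory.Limits TopologicalSpace
open ModSite

namespace Groth.Agent.S6848

/-- On a ringed space (X, O), let F be an O-module of finite presentation and x a point with F_x ≅
O_{X,x}^r as O_{X,x}-modules (stalks are taken at the point of the site of opens of X given by x).
Then there is an open neighbourhood U of x with F|_U ≅ O_U^r, the free O_U-module on r generators. -/
theorem result {X : TopCat.{u}} (O : TopCat.Sheaf CommRingCat.{u} X)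
    (F : ModSite.Mod O) [SheafOfModules.IsFinitePresentation (R := ModSite.ringSh O) F] (x : X) (r : ℕ)
    (hx : Nonempty (ModSite.stalkMod (Opens.pointGrothendieckTopology x) F
      ≃ₗ[ModSite.stalkRing (Opens.pointGrothendieckTopology x) O]
        (Fin r → ModSite.stalkRing (Opens.pointGrothendieckTopology x) O))) :
    ∃ U : Opens X, x ∈ U ∧ Nonempty ((ModSite.restr O U).obj F ≅ SheafOfModules.free (ULift.{u} (Fin r))) := by
  obtain ⟨e⟩ := hx
  obtain ⟨U, hU, h⟩ := Lib.ModSiteLoc.Top.exists_freeAt_of_stalk (O := O) (M := F) x r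
    (Lib.ModSiteLoc.Bridge.isFinitePresentation_iff.1 inferInstance)
    (Module.Basis.ofEquivFun e)
  exact ⟨U, hU, Lib.ModSiteLoc.Top.nonempty_iso_of_freeAt h⟩

end Groth.Agent.S6848
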