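import Groth.Statements.S6851
-- import your own Groth.Agent.* helpers here
import Groth.Agent.Lib.RG57.InvMod.Stalk
import Groth.Agent.Lib.ModTensor.Invertible

set_option autoImplicit false
universe u
open CategoryTheory CategoryTheory.Limits TopologicalSpace
open ModSite

namespace Groth.Agent.S6851

/-- Let (X, O) be a ringed space all of whose stalks O_{X,x} are local rings with maximal ideals m_x, L
an invertible O-module (F ↦ L ⊗_O F is an equivalence of Mod(O)) and s a section of L over an open
U. Then the set X_s of points x ∈ U whose germ s_x does not lie in m_x L_x is open, and for every x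
∈ X_s the map O_{X,x} → L_x, a ↦ a s_x, is bijective; that is, s : O_{X_s} → L|_{X_s} is an
isomorphism, isomorphy being checked on stalks. Stalks and germs are taken at the point of the site
of opens of X given by x. (The published statement also produces the section s' of the inverse of L
with s' s = 1; that consequence is not restated here.) -/
theorem result {X : TopCat.{u}} (O : TopCat.Sheaf CommRingCat.{u} X)
    (hO : ∀ x : X, IsLocalRing (ModSite.stalkRing (Opens.pointGrothendieckTopology x) O)) (L : ModSite.Mod O)
    (hL : ((ModSite.tensorBi O).obj L).IsEquivalence) (U : Opens X) (s : ModSite.sect L U) :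
    IsOpen {x : X | ∃ hx : x ∈ U, ModSite.germ (Opens.pointGrothendieckTopology x) L U ⟨⟨hx⟩⟩ s ∉
        (@IsLocalRing.maximalIdeal (ModSite.stalkRing (Opens.pointGrothendieckTopology x) O) _ (hO x)) •
          (⊤ : Submodule (ModSite.stalkRing (Opens.pointGrothendieckTopology x) O)
            (ModSite.stalkAb (Opens.pointGrothendieckTopology x) L))} ∧
      ∀ (x : X) (hx : x ∈ U), ModSite.germ (Opens.pointGrothendieckTopology x) L U ⟨⟨hx⟩⟩ s ∉
          (@IsLocalRing.maximalIdeal (ModSite.stalkRing (Opens.pointGrothendieckTopology x) O) _ (hO x)) •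
            (⊤ : Submodule (ModSite.stalkRing (Opens.pointGrothendieckTopology x) O)
              (ModSite.stalkAb (Opens.pointGrothendieckTopology x) L)) →
        Function.Bijective (fun a : ModSite.stalkRing (Opens.pointGrothendieckTopology x) O =>
          a • ModSite.germ (Opens.pointGrothendieckTopology x) L U ⟨⟨hx⟩⟩ s) := by
  obtain ⟨L', ⟨e⟩⟩ := Groth.Agent.Lib.ModTensor.Invertible.exists_inv hL
  let P := CategoryTheory.MonoidalCategoryStruct.tensorObj ((Groth.Agent.Lib.ModTensor.Monoidal.G O).obj L)
    ((Groth.Agent.Lib.ModTensor.Monoidal.G O).obj L')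
  let E : Groth.Agent.Lib.RG57.InvMod.Stalk.Pairing L L' :=
    (Groth.Agent.Lib.ModTensor.Monoidal.adj O).unit.app P ≫ (Groth.Agent.Lib.ModTensor.Monoidal.G O).map e.hom
  haveI : IsIso (Groth.Agent.Lib.ModTensor.Monoidal.adj O).counit :=
    Groth.Agent.Lib.ModTensor.Monoidal.isIso_counit O
  haveI : IsIso ((Groth.Agent.Lib.ModTensor.Monoidal.L O).map ((Groth.Agent.Lib.ModTensor.Monoidal.adj O).unit.app P)) :=
    IsIso.of_isIso_fac_right ((Groth.Agent.Lib.ModTensor.Monoidal.adj O).left_triangle_components P)
  haveI : IsIso ((Groth.Agent.Lib.ModTensor.Monoidal.L O).map ((Groth.Agent.Lib.ModTensor.Monoidal.G O).map e.hom)) :=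
    inferInstance
  obtain ⟨h₁, h₂⟩ := (Groth.Agent.Lib.ModTensor.Monoidal.isIso_map_iff E).1 (by
    rw [Functor.map_comp]
    infer_instance)
  exact @Groth.Agent.Lib.RG57.InvMod.Stalk.isOpen_and_bijective X O L L' E h₁ h₂ hO U s

end Groth.Agent.S6851
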