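import Groth.Statements.S6855
-- import your own Groth.Agent.* helpers here

set_option autoImplicit false
universe u
open CategoryTheory CategoryTheory.Limits TopologicalSpace
open ModSite

namespace Groth.Agent.S6855

/-- Let X be a topological space and O a sheaf of rings on X. Then the support of O, the set of points x
with nonzero stalk O_x, is closed in X. -/
theorem result {X : TopCat.{u}} (O : TopCat.Sheaf CommRingCat.{u} X) :
    IsClosed {x : X | Nontrivial (O.presheaf.stalk x)} := by
  rw [← isOpen_compl_iff, isOpen_iff_forall_mem_open]
  intro x hx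
  have hx' : Subsingleton (O.presheaf.stalk x) := not_nontrivial_iff_subsingleton.1 hx
  obtain ⟨W, hW, iU, iV, h⟩ := O.presheaf.germ_eq x (U := ⊤) (V := ⊤) trivial trivial
    (1 : O.presheaf.obj (Opposite.op ⊤)) 0 (hx'.elim _ _)
  rw [map_one, map_zero] at h
  refine ⟨(W : Set X), fun y hy => ?_, W.2, hW⟩
  refine not_nontrivial_iff_subsingleton.2 (subsingleton_of_zero_eq_one ?_)
  simpa using (congrArg (O.presheaf.germ W y hy) h).symm

end Groth.Agent.S6855
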