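import Groth.Statements.S6857
import Groth.Agent.H95.Units.ClosedPush
import Groth.Agent.Lib.TopShSet.Basic

set_option autoImplicit false
set_option linter.style.haveILetI false
universe u
open CategoryTheory CategoryTheory.Limits TopologicalSpace
open CohTop

namespace Groth.Agent.S6857

section
open CategoryTheory CategoryTheory.Limits TopologicalSpace Opposite

variable {X Y : TopCat.{u}} (i : Y ⟶ X)

theorem res_res (G : CohTop.Ab Y) {A B D : (Opens Y)ᵒᵖ} (f : A ⟶ B) (g : B ⟶ D) (h : A ⟶ D)
    (s : G.obj.obj A) : G.obj.map g (G.obj.map f s) = G.obj.map h s := by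
  rw [← ConcreteCategory.comp_apply, ← Functor.map_comp, Subsingleton.elim (f ≫ g) h]

/-- Direct image along an embedding is fully faithful. -/
noncomputable def pushFF (hi : Topology.IsInducing i) :
    (TopCat.Sheaf.pushforward AddCommGrpCat.{u} i).FullyFaithful where
  preimage {F G} φ :=
    ⟨{ app := fun W => F.obj.map (eqToHom (congrArg op (Groth.TopShSet.map_ext i hi W.unop)).symm) ≫
          φ.hom.app (op (Groth.TopShSet.ext i W.unop)) ≫ G.obj.map (eqToHom (congrArg op (Groth.TopShSet.map_ext i hi W.unop)))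
       naturality := fun W W' f => by
        ext s
        change G.obj.map _ (φ.hom.app _ (F.obj.map _ (F.obj.map f s))) =
          G.obj.map f (G.obj.map _ (φ.hom.app _ (F.obj.map _ s)))
        have h : Groth.TopShSet.ext i W'.unop ≤ Groth.TopShSet.ext i W.unop := Groth.TopShSet.ext_mono i f.unop.le
        have hn := NatTrans.naturality_apply φ.hom (homOfLE h).op
          (F.obj.map (eqToHom (congrArg op (Groth.TopShSet.map_ext i hi W.unop)).symm) s)
        change φ.hom.app _ (F.obj.map ((Opens.map i).map (homOfLE h)).op _) =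
          G.obj.map ((Opens.map i).map (homOfLE h)).op _ at hn
        rw [res_res F _ _ (f ≫ eqToHom (congrArg op (Groth.TopShSet.map_ext i hi W'.unop)).symm),
          ← res_res F (eqToHom (congrArg op (Groth.TopShSet.map_ext i hi W.unop)).symm)
            ((Opens.map i).map (homOfLE h)).op
            (f ≫ eqToHom (congrArg op (Groth.TopShSet.map_ext i hi W'.unop)).symm) s]
        refine (congrArg (G.obj.map _) hn).trans ?_
        exact (res_res G _ _ (eqToHom (congrArg op (Groth.TopShSet.map_ext i hi W.unop)) ≫ f) _).trans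
          (res_res G _ _ _ _).symm }⟩
  map_preimage {F G} φ := by
    refine Sheaf.hom_ext (NatTrans.ext (funext fun O => ?_))
    ext s
    obtain ⟨O⟩ := O
    change G.obj.map (eqToHom (congrArg op (Groth.TopShSet.map_ext i hi ((Opens.map i).obj O))))
      (φ.hom.app _ (F.obj.map (eqToHom (congrArg op (Groth.TopShSet.map_ext i hi ((Opens.map i).obj O))).symm) s)) = φ.hom.app (op O) s
    have hn := NatTrans.naturality_apply φ.hom (homOfLE (Groth.TopShSet.le_ext i O)).op
      (F.obj.map (eqToHom (congrArg op (Groth.TopShSet.map_ext i hi ((Opens.map i).obj O))).symm) s)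
    change φ.hom.app _ (F.obj.map ((Opens.map i).map (homOfLE (Groth.TopShSet.le_ext i O))).op _) =
      G.obj.map ((Opens.map i).map (homOfLE (Groth.TopShSet.le_ext i O))).op _ at hn
    refine Eq.trans ?_ (hn.symm.trans (congrArg _
      ((res_res F _ _ (𝟙 _) s).trans (ConcreteCategory.congr_hom (F.obj.map_id _) s))))
    exact congrArg (fun t => G.obj.map t _) (Subsingleton.elim _ _)
  preimage_map {F G} ψ := by
    refine Sheaf.hom_ext (NatTrans.ext (funext fun W => ?_))
    ext s
    change G.obj.map _ (ψ.hom.app _ (F.obj.map _ s)) = ψ.hom.app W s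
    rw [NatTrans.naturality_apply ψ.hom, res_res G _ _ (𝟙 _), G.obj.map_id]
    rfl

theorem isIso_counit (hi : Topology.IsInducing i) (F : CohTop.Ab Y) :
    IsIso ((TopCat.Sheaf.pullbackPushforwardAdjunction AddCommGrpCat.{u} i).counit.app F) := by
  haveI := (pushFF i hi).full
  haveI := (pushFF i hi).faithful
  infer_instance

open Classical in
/-- The stalk functor on abelian sheaves. -/
noncomputable abbrev stalkF (x : X) : CohTop.Ab X ⥤ AddCommGrpCat.{u} :=
  TopCat.Sheaf.forget AddCommGrpCat.{u} X ⋙ TopCat.Presheaf.stalkFunctor AddCommGrpCat.{u} x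

theorem isZero_stalk_push (hi : IsClosed (Set.range i)) (F : CohTop.Ab Y) (x : X)
    (hx : x ∉ Set.range i) : IsZero (CohTop.stalk ((CohTop.push i).obj F) x) := by
  let P : TopCat.Presheaf AddCommGrpCat.{u} X := ((CohTop.push i).obj F).obj
  let O : Opens X := ⟨(Set.range i)ᶜ, hi.isOpen_compl⟩
  rw [AddCommGrpCat.isZero_iff_subsingleton]
  refine subsingleton_of_forall_eq 0 fun a => ?_
  obtain ⟨O', hxO', s, rfl⟩ := TopCat.Presheaf.exists_germ_eq (F := P) a
  have hW : (Opens.map i).obj (O' ⊓ O) = ⊥ :=
    le_bot_iff.1 fun y hy => ((hy.2 : i y ∈ (Set.range i)ᶜ) ⟨y, rfl⟩).elim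
  haveI : Subsingleton (P.obj (op (O' ⊓ O))) :=
    AddCommGrpCat.subsingleton_of_isZero (TopCat.Sheaf.isTerminalOfEqEmpty F hW).isZero
  rw [← map_zero (P.germ O' x hxO').hom]
  exact P.germ_ext (O' ⊓ O) ⟨hxO', hx⟩ (homOfLE inf_le_left) (homOfLE inf_le_left) (Subsingleton.elim _ _)

open Classical in
/-- The skyscraper functor is compatible with direct images. -/
noncomputable def skyIso (y : Y) :
    skyscraperSheafFunctor (C := AddCommGrpCat.{u}) y ⋙ CohTop.push i ≅
      skyscraperSheafFunctor (i y) :=
  Iso.refl _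

open Classical in
/-- Stalks of inverse images. -/
noncomputable def stalkPull (y : Y) : CohTop.pull i ⋙ stalkF y ≅ stalkF (i y) :=
  Adjunction.leftAdjointUniq
    ((TopCat.Sheaf.pullbackPushforwardAdjunction AddCommGrpCat.{u} i).comp (stalkSkyscraperSheafAdjunction y))
    ((stalkSkyscraperSheafAdjunction (i y)).ofNatIsoRight (skyIso i y).symm)

theorem isIso_unit (hi : Topology.IsClosedEmbedding i) (G : CohTop.Ab X)
    (h : ∀ x : X, x ∉ Set.range i → IsZero (CohTop.stalk G x)) :
    IsIso ((TopCat.Sheaf.pullbackPushforwardAdjunction AddCommGrpCat.{u} i).unit.app G) := by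
  let adj := TopCat.Sheaf.pullbackPushforwardAdjunction AddCommGrpCat.{u} i
  haveI : ∀ x, IsIso ((TopCat.Presheaf.stalkFunctor AddCommGrpCat.{u} x).map (adj.unit.app G).hom) := fun x => by
    change IsIso ((stalkF x).map (adj.unit.app G))
    by_cases hx : x ∈ Set.range i
    · obtain ⟨y, rfl⟩ := hx
      rw [← NatIso.isIso_map_iff (stalkPull i y)]
      haveI : IsIso (adj.counit.app ((TopCat.Sheaf.pullback AddCommGrpCat.{u} i).obj G)) :=
        isIso_counit i hi.isInducing ((CohTop.pull i).obj G)
      haveI : IsIso ((CohTop.pull i).map (adj.unit.app G)) := by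
        have e := @asIso _ _ _ _ _ (isIso_counit i hi.isInducing ((CohTop.pull i).obj G))
        have he : (CohTop.pull i).map (adj.unit.app G) =
            (@asIso _ _ _ _ _ (isIso_counit i hi.isInducing ((CohTop.pull i).obj G))).inv :=
          (Iso.comp_hom_eq_id _).1 (adj.left_triangle_components G)
        exact he ▸ Iso.isIso_inv _
      exact inferInstanceAs (IsIso ((stalkF y).map ((CohTop.pull i).map (adj.unit.app G))))
    · exact CategoryTheory.Limits.IsZero.isIso (h x hx) (isZero_stalk_push i hi.isClosed_range _ x hx) _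
  exact TopCat.Presheaf.isIso_of_stalkFunctor_map_iso _

end


/-- Let i : Z → X be the inclusion of a closed subset of a topological space (a closed embedding). Then
i_* : Ab(Z) → Ab(X) is exact (right exactness being the content, i_* is a right adjoint) and fully
faithful, an abelian sheaf on X lies in its essential image exactly when its stalks at points
outside i(Z) are zero (support contained in Z), and i⁻¹ ∘ i_* is isomorphic to the identity functor
(existence of an isomorphism of functors is asserted). -/
theorem result {Z X : TopCat.{u}} (i : Z ⟶ X)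
    (hi : Topology.IsClosedEmbedding i) :
    PreservesFiniteColimits (CohTop.push i) ∧ (CohTop.push i).Full ∧ (CohTop.push i).Faithful ∧
      (∀ F : CohTop.Ab X, (CohTop.push i).essImage F ↔ ∀ x : X, x ∉ Set.range i → IsZero (CohTop.stalk F x)) ∧
      Nonempty (CohTop.push i ⋙ CohTop.pull i ≅ 𝟭 (CohTop.Ab Z)) := by
  refine ⟨(H95.Units.ClosedPush.push_preservesFiniteLimits_and_colimits hi).2,
    (pushFF i hi.isInducing).full, (pushFF i hi.isInducing).faithful, fun F => ⟨?_, fun h => ?_⟩, ?_⟩
  · rintro ⟨F', ⟨e⟩⟩ x hx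
    exact (isZero_stalk_push i hi.isClosed_range F' x hx).of_iso ((stalkF x).mapIso e).symm
  · exact ⟨_, ⟨(@asIso _ _ _ _ _ (isIso_unit i hi F h)).symm⟩⟩
  · haveI : IsIso (TopCat.Sheaf.pullbackPushforwardAdjunction AddCommGrpCat.{u} i).counit := by
      haveI : ∀ F, IsIso ((TopCat.Sheaf.pullbackPushforwardAdjunction AddCommGrpCat.{u} i).counit.app F) :=
        fun F => isIso_counit i hi.isInducing F
      exact @NatIso.isIso_of_isIso_app _ _ _ _ _ _ _ this
    exact ⟨@asIso _ _ _ _ _ this⟩

end Groth.Agent.S6857
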