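import Groth.Statements.S6860
import Mathlib.RingTheory.Smooth.StandardSmooth

set_option autoImplicit false
universe u
open Smoothing

namespace Groth.Agent.S6860

/-- Let R → A be standard smooth and E ⊆ A a finite subset. Then A admits a standard smooth presentation
A = R[x₁, …, x_N]/(f₁, …, f_c) (a submersive presentation: finitely many generators and relations,
an injection from the relations to the variables picking the distinguished variables, and the
Jacobian of the relations with respect to the distinguished variables invertible in A) in which
every element of E is the class of a distinguished variable. (The published statement arranges E to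
be exactly the classes of the first n = |E| variables, all of them distinguished, with c ≥ n; this
row states that E is contained in the set of classes of the distinguished variables, which is what
that arrangement gives.) -/
theorem result {R A : Type u} [CommRing R] [CommRing A] [Algebra R A]
    [Algebra.IsStandardSmooth R A] (E : Finset A) :
    ∃ (ι σ : Type) (_ : Finite ι) (_ : Finite σ) (P : Algebra.SubmersivePresentation R A ι σ),
      (↑E : Set A) ⊆ Set.range (P.val ∘ P.map) := by
  open MvPolynomial in
  classical
  obtain ⟨ι, σ, _, _, ⟨P⟩⟩ := ‹Algebra.IsStandardSmooth R A›.out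
  let k := E.card
  let e : Fin k → A := fun i => (E.equivFin.symm i : A)
  let v : Fin k → MvPolynomial (Fin k) A := fun i => X i - C (e i)
  let N := Algebra.PreSubmersivePresentation.naive (v := v) id Function.injective_id
  let N' : Algebra.SubmersivePresentation A (MvPolynomial (Fin k) A ⧸ Ideal.span (Set.range v)) (Fin k) (Fin k) :=
    ⟨N, by
      rw [Algebra.PreSubmersivePresentation.jacobian_eq_jacobiMatrix_det]
      have : N.jacobiMatrix = 1 := by
        ext i j : 2
        rw [Algebra.PreSubmersivePresentation.jacobiMatrix_naive]
        simp only [v, map_sub, pderiv_C, sub_zero, id]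
        rcases eq_or_ne i j with rfl | h
        · simp
        · rw [pderiv_X_of_ne h.symm, Matrix.one_apply_ne h]
      rw [this, Matrix.det_one, map_one]
      exact isUnit_one⟩
  let ev : (MvPolynomial (Fin k) A ⧸ Ideal.span (Set.range v)) →ₐ[A] A :=
    Ideal.Quotient.liftₐ _ (aeval e) fun p hp => by
      refine (Ideal.span_le (I := RingHom.ker (aeval (R := A) e))).2 ?_ hp
      rintro _ ⟨i, rfl⟩
      simp [v]
  let eq : (MvPolynomial (Fin k) A ⧸ Ideal.span (Set.range v)) ≃ₐ[A] A :=
    AlgEquiv.ofAlgHom ev (Algebra.ofId A _) (by ext) (by
      apply Ideal.Quotient.algHom_ext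
      apply MvPolynomial.algHom_ext
      intro i
      show algebraMap A (MvPolynomial (Fin k) A ⧸ Ideal.span (Set.range v)) (aeval e (X i)) =
        Ideal.Quotient.mk _ (X i)
      rw [aeval_X, IsScalarTower.algebraMap_apply A (MvPolynomial (Fin k) A) _,
        Ideal.Quotient.algebraMap_eq, MvPolynomial.algebraMap_eq, eq_comm, Ideal.Quotient.eq]
      exact Ideal.subset_span ⟨i, rfl⟩)
  refine ⟨Fin k ⊕ ι, Fin k ⊕ σ, inferInstance, inferInstance, (N'.ofAlgEquiv eq).comp P, ?_⟩
  intro a ha
  refine ⟨Sum.inl (E.equivFin ⟨a, ha⟩), ?_⟩
  show eq (Ideal.Quotient.mk _ (X (E.equivFin ⟨a, ha⟩))) = a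
  show aeval e (X (E.equivFin ⟨a, ha⟩)) = a
  simp [e]

end Groth.Agent.S6860
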