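import Groth.Statements.S6861
import Groth.Agent.Lib.Smoothing.Neron.Blowup

set_option autoImplicit false
universe u
open Smoothing

namespace Groth.Agent.S6861

/-- Let R ⊆ Λ be an extension of discrete valuation rings of ramification index 1 (m_R Λ = m_Λ) whose
residue field extension is separable (geometrically reduced), π a uniformizer of R, A a flat
R-algebra of finite type with an R-algebra map A → Λ, and 𝔭 ⊆ A the inverse image of m_Λ. Assume R →
A is smooth at 𝔭. Let A' = A[𝔭/π] ⊆ A_π be the affine blowup algebra (Néron's blowup) and A' → Λ the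
induced map, i.e. the A-algebra map compatible with A_π → Λ_π (it exists and is unique; it is taken
as a datum here). Then R → A' is smooth at the inverse image 𝔭' of m_Λ in A'. (The source also gives
a short exact sequence relating the differentials of A and A' at 𝔭'; that part is not restated.) -/
theorem result {R Λ A : Type u} [CommRing R] [IsDomain R]
    [IsDiscreteValuationRing R] [CommRing Λ] [IsDomain Λ] [IsDiscreteValuationRing Λ] [Algebra R Λ]
    [NoZeroSMulDivisors R Λ] [IsLocalHom (algebraMap R Λ)]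
    (he : (IsLocalRing.maximalIdeal R).map (algebraMap R Λ) = IsLocalRing.maximalIdeal Λ)
    (hsep : Algebra.IsGeometricallyReduced (IsLocalRing.ResidueField R) (IsLocalRing.ResidueField Λ))
    [CommRing A] [Algebra R A] [Module.Flat R A] [Algebra.FiniteType R A] [Algebra A Λ] [IsScalarTower R A Λ]
    (π : R) (hπ : IsLocalRing.maximalIdeal R = Ideal.span {π})
    (hsm : Algebra.IsSmoothAt R ((IsLocalRing.maximalIdeal Λ).comap (algebraMap A Λ)))
    (φ' : BlowUp.affineAlgebra A ((IsLocalRing.maximalIdeal Λ).comap (algebraMap A Λ)) (algebraMap R A π) →ₐ[A] Λ)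
    (hφ' : ∀ a' : BlowUp.affineAlgebra A ((IsLocalRing.maximalIdeal Λ).comap (algebraMap A Λ)) (algebraMap R A π),
      algebraMap Λ (Localization.Away (algebraMap A Λ (algebraMap R A π))) (φ' a') =
        Localization.awayMap (algebraMap A Λ) (algebraMap R A π) a'.val) :
    Algebra.IsSmoothAt R ((IsLocalRing.maximalIdeal Λ).comap φ'.toRingHom) := by
  classical
  let p := (IsLocalRing.maximalIdeal Λ).comap (algebraMap A Λ)
  have hπ0 : π ≠ 0 := fun h =>
    IsDiscreteValuationRing.not_a_field R (by rw [hπ, h, Ideal.span_singleton_zero])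
  have hπp : ∀ x ∈ IsLocalRing.maximalIdeal R, algebraMap R A x ∈ p := fun x hx => by
    show algebraMap A Λ (algebraMap R A x) ∈ IsLocalRing.maximalIdeal Λ
    rw [← IsScalarTower.algebraMap_apply, ← he]
    exact Ideal.mem_map_of_mem _ hx
  let _ : Algebra (R ⧸ IsLocalRing.maximalIdeal R) (A ⧸ p) := (Ideal.Quotient.lift _
    (algebraMap R (A ⧸ p)) fun x hx => by
      rw [IsScalarTower.algebraMap_apply R A (A ⧸ p)]
      exact Ideal.Quotient.eq_zero_iff_mem.2 (hπp x hx)).toAlgebra
  have : IsScalarTower R (R ⧸ IsLocalRing.maximalIdeal R) (A ⧸ p) :=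
    IsScalarTower.of_algebraMap_eq fun r => rfl
  let g₀ : A ⧸ p →+* IsLocalRing.ResidueField Λ :=
    Ideal.Quotient.lift p ((IsLocalRing.residue Λ).comp (algebraMap A Λ)) fun x hx =>
      (IsLocalRing.residue_eq_zero_iff _).2 hx
  have hg₀ : Function.Injective g₀ := (injective_iff_map_eq_zero g₀).2 fun x hx => by
    obtain ⟨x, rfl⟩ := Ideal.Quotient.mk_surjective x
    exact Ideal.Quotient.eq_zero_iff_mem.2 ((IsLocalRing.residue_eq_zero_iff _).1 hx)
  let _ : Algebra (IsLocalRing.ResidueField R) (A ⧸ p) :=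
    inferInstanceAs (Algebra (R ⧸ IsLocalRing.maximalIdeal R) (A ⧸ p))
  let g : A ⧸ p →ₐ[IsLocalRing.ResidueField R] IsLocalRing.ResidueField Λ :=
    { g₀ with
      commutes' := fun r => by
        obtain ⟨r, rfl⟩ := Ideal.Quotient.mk_surjective r
        show IsLocalRing.residue Λ (algebraMap A Λ (algebraMap R A r)) = _
        rw [← IsScalarTower.algebraMap_apply]
        rfl }
  have : Algebra.FiniteType R (A ⧸ p) := inferInstance
  have : Algebra.FiniteType (IsLocalRing.ResidueField R) (A ⧸ p) :=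
    Algebra.FiniteType.of_restrictScalars_finiteType R (R ⧸ IsLocalRing.maximalIdeal R) (A ⧸ p)
  have : Algebra.IsSmoothAt (R ⧸ IsLocalRing.maximalIdeal R) (⊥ : Ideal (A ⧸ p)) :=
    Groth.Agent.Lib.Smoothing.Neron.Blowup.isSmoothAt_bot g hg₀
  obtain ⟨n, φ, hφ⟩ := Algebra.FiniteType.iff_quotient_mvPolynomial''.1 ‹Algebra.FiniteType R A›
  obtain ⟨m, f, hf⟩ := Submodule.fg_iff_exists_fin_generating_family.1
    (IsNoetherian.noetherian (RingHom.ker φ.toRingHom))
  obtain ⟨c, r, e, f', gs, Y, h, u, cols, t, α, hf', hgs, hY, hh, hu, hhf, hdet, htα⟩ :=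
    Groth.Agent.Lib.Smoothing.Neron.Blowup.exists_centre π hπ φ hφ f hf.symm p
  refine Groth.Agent.Lib.Smoothing.Neron.Blowup.isSmoothAt_affineAlgebra p rfl π
    (IsSMulRegular.of_ne_zero hπ0) ?_ φ hφ f hf.symm f' gs Y h u cols t α hf' hgs hY hh hu hhf
    hdet htα φ'
  rw [← IsScalarTower.algebraMap_apply, Algebra.algebraMap_eq_smul_one]
  exact smul_ne_zero hπ0 one_ne_zero

end Groth.Agent.S6861
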