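import Groth.Statements.S6862
import Groth.Agent.H22.Jacobson

set_option autoImplicit false
universe u
open CAlg

namespace Groth.Agent.S6862

/-- Let `R` be a commutative ring and `P'`, `P`, `P''` finitely generated projective `R`-modules in an
exact sequence `0 → P' → P → P'' → 0`. Whenever two of the three are stably free, the remaining one
is stably free too (all three cases are stated). -/
theorem result {R : Type u} [CommRing R] {P' P P'' : Type u}
    [AddCommGroup P'] [Module R P'] [Module.Finite R P'] [Module.Projective R P']
    [AddCommGroup P] [Module R P] [Module.Finite R P] [Module.Projective R P]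
    [AddCommGroup P''] [Module R P''] [Module.Finite R P''] [Module.Projective R P'']
    (f : P' →ₗ[R] P) (g : P →ₗ[R] P'') (hf : Function.Injective f) (hg : Function.Surjective g)
    (hfg : Function.Exact f g) :
    (Module.IsStablyFree R P' → Module.IsStablyFree R P → Module.IsStablyFree R P'') ∧
    (Module.IsStablyFree R P' → Module.IsStablyFree R P'' → Module.IsStablyFree R P) ∧
    (Module.IsStablyFree R P → Module.IsStablyFree R P'' → Module.IsStablyFree R P') := by
  obtain ⟨s, hs⟩ := Module.projective_lifting_property g LinearMap.id hg
  obtain ⟨e, -⟩ := hfg.splitSurjectiveEquiv hf ⟨s, hs⟩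
  obtain ⟨h1, h2⟩ := H22.Jacobson.stablyFree_two_out_of_three e
  exact ⟨h1, h2, fun h h'' =>
    (H22.Jacobson.stablyFree_two_out_of_three (e.trans (LinearEquiv.prodComm R P' P''))).1 h'' h⟩

end Groth.Agent.S6862
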