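import Groth.Statements.S6863
import Groth.Agent.H22.Jacobson

set_option autoImplicit false
universe u
open TensorProduct
open CAlg

namespace Groth.Agent.S6863

/-- Let `I` be an ideal of a commutative ring `R` contained in the Jacobson radical (equivalently, `1 +
i` is a unit for each `i ∈ I`). Then each finitely generated stably free module `E` over `R/I`
lifts: there is a finite stably free `R`-module `M` with `M/IM ≅ E` (existence of an isomorphism
only; the published statement names no map). -/
theorem result {R : Type u} [CommRing R] (I : Ideal R)
    (hI : I ≤ Ideal.jacobson (⊥ : Ideal R)) (E : Type u) [AddCommGroup E] [Module (R ⧸ I) E]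
    [Module.Finite (R ⧸ I) E] [Module.IsStablyFree (R ⧸ I) E] :
    ∃ (M : Type u) (_ : AddCommGroup M) (_ : Module R M), Module.Finite R M ∧ Module.IsStablyFree R M ∧
      Nonempty ((R ⧸ I) ⊗[R] M ≃ₗ[R ⧸ I] E) := by
  exact H22.Jacobson.exists_stablyFree_lift hI E

end Groth.Agent.S6863
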