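import Groth.Statements.S6866
import Groth.Agent.H22.TFree

set_option autoImplicit false
universe u
open TensorProduct
open CAlg

namespace Groth.Agent.S6866

/-- If `M` is a torsion free module over a domain `R` and `R → R'` is a flat ring map to another domain,
then `R' ⊗_R M` is torsion free over `R'`. -/
theorem result (R R' : Type u) [CommRing R] [IsDomain R] [CommRing R']
    [IsDomain R'] [Algebra R R'] [Module.Flat R R'] (M : Type u) [AddCommGroup M] [Module R M]
    [Module.IsTorsionFree R M] : Module.IsTorsionFree R' (R' ⊗[R] M) := by
  exact H22.TFree.isTorsionFree_baseChange R' M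

end Groth.Agent.S6866
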