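import Groth.Statements.S6867
import Groth.Agent.H22.TFree

set_option autoImplicit false
universe u
open CAlg

namespace Groth.Agent.S6867

/-- For a domain `R`, a finite `R`-module `M` is torsion free exactly when it admits an injective
`R`-linear map into `Rⁿ` for some `n`. -/
theorem result (R : Type u) [CommRing R] [IsDomain R] (M : Type u)
    [AddCommGroup M] [Module R M] [Module.Finite R M] :
    Module.IsTorsionFree R M ↔ ∃ (n : ℕ) (f : M →ₗ[R] (Fin n → R)), Function.Injective f := by
  exact ⟨fun _ => H22.TFree.exists_injective_of_isTorsionFree M,
    fun ⟨_, f, hf⟩ => H22.TFree.isTorsionFree_of_injective f hf⟩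

end Groth.Agent.S6867
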