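import Groth.Statements.S6868
import Mathlib.RingTheory.Ideal.AssociatedPrime.Localization
import Mathlib.RingTheory.Nakayama

set_option autoImplicit false
universe u
open CAlg

namespace Groth.Agent.S6868

/-- (1) ⇔ (3) ⇔ (4): for a Noetherian domain `R` and a nonzero finite `R`-module `M`, torsion-freeness
of `M` is equivalent to `(0)` being the unique associated prime of `M`, and also to the conjunction:
`(0)` belongs to the support of `M` and `M` satisfies Serre's condition `(S_1)`. (The published
statement also lists embedding into a finite free module and the absence of embedded associated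
primes; this row states the other three conditions.) -/
theorem result (R : Type u) [CommRing R]
    [IsDomain R] [IsNoetherianRing R] (M : Type u) [AddCommGroup M] [Module R M] [Module.Finite R M] [Nontrivial M] :
    (Module.IsTorsionFree R M ↔ associatedPrimes R M = {⊥}) ∧
    (Module.IsTorsionFree R M ↔
      (⟨⊥, Ideal.isPrime_bot⟩ : PrimeSpectrum R) ∈ Module.support R M ∧ LocCoh.HasSk 1 R M) := by
  classical
  constructor
  · constructor
    · intro h
      ext q
      rw [Set.mem_singleton_iff]
      constructor
      · intro hq
        obtain ⟨-, x, hx⟩ := isAssociatedPrime_iff.mp (AssociatedPrimes.mem_iff.mp hq)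
        have hx0 : x ≠ 0 := by
          intro h0
          refine (AssociatedPrimes.mem_iff.mp hq).isPrime.ne_top ((Ideal.eq_top_iff_one _).mpr ?_)
          rw [hx, Submodule.mem_colon_singleton, h0]; simp
        rw [eq_bot_iff]
        intro r hr
        rw [hx, Submodule.mem_colon_singleton, Submodule.mem_bot] at hr
        exact (smul_eq_zero.mp hr).resolve_right hx0
      · rintro rfl
        obtain ⟨x, hx⟩ := exists_ne (0 : M)
        refine AssociatedPrimes.mem_iff.mpr (isAssociatedPrime_iff.mpr ⟨Ideal.isPrime_bot, x, ?_⟩)
        ext r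
        simp only [Submodule.mem_colon_singleton, Submodule.mem_bot]
        exact ⟨fun h => by simp [h], fun h => (smul_eq_zero.mp h).resolve_right hx⟩
    · intro h
      refine Module.isTorsionFree_iff_smul_eq_zero.mpr fun r x hrx => ?_
      by_contra! hne
      have : r ∈ {r : R | ∃ x : M, x ≠ 0 ∧ r • x = 0} := ⟨x, hne.2, hrx⟩
      rw [← biUnion_associatedPrimes_eq_zero_divisors, h] at this
      simp [hne.1] at this
  · constructor
    · intro htf
      refine ⟨?_, fun p _ => ?_⟩
      · obtain ⟨x, hx⟩ := exists_ne (0 : M)
        exact Module.mem_support_iff'.mpr ⟨x, fun r hr h => hr ((smul_eq_zero.mp h).resolve_right hx ▸ rfl)⟩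
      · by_cases hp0 : p = ⊥
        · subst hp0
          refine le_trans (min_le_right _ _) ((Module.supportDim_le_ringKrullDim ..).trans ?_)
          rw [IsLocalization.AtPrime.ringKrullDim_eq_height (⊥ : Ideal R), Ideal.height_bot]
          exact WithBot.coe_le_coe.mpr zero_le
        · obtain ⟨x, hxp, hx0⟩ := Submodule.exists_mem_ne_zero_of_ne_bot hp0
          refine (min_le_left _ _).trans ?_
          rw [show ((1 : ℕ) : WithBot ℕ∞) = ((1 : ℕ∞) : WithBot ℕ∞) from rfl, WithBot.coe_le_coe]
          unfold LocCoh.depth LocCoh.idealDepth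
          split_ifs
          · exact le_top
          refine le_trans (le_of_eq (by simp)) (le_iSup₂ [algebraMap R (Localization.AtPrime p) x] ⟨?_, ?_⟩)
          · rw [RingTheory.Sequence.isWeaklyRegular_cons_iff]
            refine ⟨?_, RingTheory.Sequence.IsWeaklyRegular.nil _ _⟩
            intro a b hab
            have hsm : IsSMulRegular M x := fun u v huv => smul_right_injective M hx0 huv
            obtain ⟨⟨u, s⟩, rfl⟩ := IsLocalizedModule.mk'_surjective p.primeCompl (LocalizedModule.mkLinearMap p.primeCompl M) a
            obtain ⟨⟨v, t⟩, rfl⟩ := IsLocalizedModule.mk'_surjective p.primeCompl (LocalizedModule.mkLinearMap p.primeCompl M) b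
            simp only [Function.uncurry_apply_pair, algebraMap_smul, ← IsLocalizedModule.mk'_smul,
              IsLocalizedModule.mk'_eq_mk'_iff] at hab ⊢
            obtain ⟨c, hc⟩ := hab
            refine ⟨c, hsm ?_⟩
            simpa only [Submonoid.smul_def, smul_comm x] using hc
          · simpa using (IsLocalization.AtPrime.to_map_mem_maximal_iff _ p x).mpr hxp
    · rintro ⟨hbot, hS⟩
      refine Module.isTorsionFree_iff_smul_eq_zero.mpr fun r x hrx => ?_
      by_contra! hne
      obtain ⟨p, hp, hle⟩ := exists_le_isAssociatedPrime_of_isNoetherianRing R x hne.2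
      have hrp : r ∈ p := hle (Submodule.mem_colon_singleton.mpr ((Submodule.mem_bot R).mpr hrx))
      have hpp : p.IsPrime := hp.isPrime
      have hp0 : p ≠ ⊥ := fun h => hne.1 (by simpa [h] using hrp)
      let Rp := Localization.AtPrime p
      have hass : IsLocalRing.maximalIdeal Rp ∈ associatedPrimes Rp (LocalizedModule p.primeCompl M) :=
        Module.associatedPrimes.mem_associatedPrimes_atPrime_of_mem_associatedPrimes hp
      have hdim : (1 : WithBot ℕ∞) ≤ Module.supportDim Rp (LocalizedModule p.primeCompl M) := by
        have hsupp : ∀ q : PrimeSpectrum Rp, q ∈ Module.support Rp (LocalizedModule p.primeCompl M) := by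
          intro q
          obtain ⟨z, hz⟩ := Module.mem_support_iff'.mp hbot
          refine Module.mem_support_iff'.mpr ⟨LocalizedModule.mkLinearMap p.primeCompl M z, fun a ha h => ?_⟩
          obtain ⟨a, s, rfl⟩ := IsLocalization.exists_mk'_eq p.primeCompl a
          have ha0 : algebraMap R Rp a ∉ q.asIdeal := fun h' => ha (by
            rw [IsLocalization.mk'_eq_mul_mk'_one]; exact q.asIdeal.mul_mem_right _ h')
          have h1 : algebraMap R Rp a • LocalizedModule.mkLinearMap p.primeCompl M z = 0 := by
            rw [← IsLocalization.mk'_spec Rp a s, mul_comm, mul_smul, h, smul_zero]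
          rw [algebraMap_smul, ← map_smul,
            IsLocalizedModule.eq_zero_iff p.primeCompl (LocalizedModule.mkLinearMap p.primeCompl M)] at h1
          obtain ⟨c, hc⟩ := h1
          refine hz (c * a) ?_ (by rw [mul_smul]; exact hc)
          simp only [Ideal.mem_bot, mul_eq_zero, not_or]
          exact ⟨fun h0 => c.2 (by simp [h0]), fun h0 => ha0 (by simp [h0])⟩
        have hlt : (⟨⊥, Ideal.isPrime_bot⟩ : PrimeSpectrum Rp) < IsLocalRing.closedPoint Rp := by
          refine (bot_lt_iff_ne_bot.mpr fun h0 : IsLocalRing.maximalIdeal Rp = ⊥ => hp0 ?_ : _)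
          rw [← Localization.AtPrime.under_maximalIdeal (I := p), h0]
          exact Ideal.comap_bot_of_injective _
            (IsLocalization.injective Rp p.primeCompl_le_nonZeroDivisors)
        let l : LTSeries (Module.support Rp (LocalizedModule p.primeCompl M)) :=
          ⟨1, ![⟨_, hsupp ⟨⊥, Ideal.isPrime_bot⟩⟩, ⟨_, hsupp (IsLocalRing.closedPoint Rp)⟩],
            fun i => by fin_cases i; exact hlt⟩
        exact le_trans (by simp [l]) (le_iSup (fun p : LTSeries _ => ((p.length : ℕ∞) : WithBot ℕ∞)) l)
      have h1 := le_trans (le_min le_rfl hdim) (hS p)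
      rw [show (1 : WithBot ℕ∞) = ((1 : ℕ∞) : WithBot ℕ∞) from rfl, WithBot.coe_le_coe] at h1
      unfold LocCoh.depth LocCoh.idealDepth at h1
      split_ifs at h1 with htop
      · have : Nontrivial (LocalizedModule p.primeCompl M) := by
          obtain ⟨-, y, hy⟩ := isAssociatedPrime_iff.mp hass
          refine ⟨y, 0, fun h0 => (IsLocalRing.maximalIdeal.isMaximal Rp).ne_top ((Ideal.eq_top_iff_one _).mpr ?_)⟩
          rw [hy, Submodule.mem_colon_singleton, h0]; simp
        exact Submodule.top_ne_ideal_smul_of_le_jacobson_annihilator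
          (IsLocalRing.maximalIdeal_le_jacobson _) htop.symm
      · simp only [← Order.add_one_le_iff, le_iSup_iff] at h1
        have h2 : ∃ rs : List Rp, (RingTheory.Sequence.IsWeaklyRegular (LocalizedModule p.primeCompl M) rs ∧
            ∀ r ∈ rs, r ∈ IsLocalRing.maximalIdeal Rp) ∧ rs ≠ [] := by
          by_contra! hcon
          have := h1 0 fun rs => le_of_eq_of_le rfl (iSup_le fun hrs => by simp [hcon rs hrs])
          simp at this
        obtain ⟨_ | ⟨y, t⟩, ⟨hw, hmem⟩, hnil⟩ := h2
        · exact hnil rfl
        have hy := ((RingTheory.Sequence.isWeaklyRegular_cons_iff _ y t).mp hw).1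
        obtain ⟨-, z, hz⟩ := isAssociatedPrime_iff.mp hass
        have hyz := hmem y (List.mem_cons_self ..)
        rw [hz, Submodule.mem_colon_singleton, Submodule.mem_bot] at hyz
        have hz0 : z = 0 := hy (by simpa using hyz)
        refine (IsLocalRing.maximalIdeal.isMaximal Rp).ne_top ((Ideal.eq_top_iff_one _).mpr ?_)
        rw [hz, Submodule.mem_colon_singleton, hz0]; simp

end Groth.Agent.S6868
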