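import Groth.Statements.S6869
import Groth.Agent.H22.TFree

set_option autoImplicit false
universe u
open CAlg

namespace Groth.Agent.S6869

/-- For a domain `R` and a finite `R`-module `M`, the evaluation map `M → M**` into the double dual is
injective exactly when `M` is torsion free. -/
theorem result (R : Type u) [CommRing R] [IsDomain R] (M : Type u)
    [AddCommGroup M] [Module R M] [Module.Finite R M] :
    Function.Injective (Module.Dual.eval R M) ↔ Module.IsTorsionFree R M := by
  refine ⟨fun h => H22.TFree.isTorsionFree_of_injective _ h, fun _ => H22.TFree.eval_injective_of_isTorsionFree M⟩

end Groth.Agent.S6869
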