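import Groth.Statements.S6870
import Groth.Agent.H22.TFree

set_option autoImplicit false
universe u
open CAlg

namespace Groth.Agent.S6870

/-- Let `R` be a domain, `M` a finite `R`-module and `j : M → M**` the evaluation map into the double
dual. Then one nonzero `c ∈ R` kills the kernel of `j` and multiplies `M**` into the image of `j`.
(The published statement says only that the kernel and cokernel of `j` are torsion; this row gives
one such `c` for both.) -/
theorem result (R : Type u) [CommRing R] [IsDomain R] (M : Type u)
    [AddCommGroup M] [Module R M] [Module.Finite R M] :
    ∃ c : R, c ≠ 0 ∧ (∀ x : M, Module.Dual.eval R M x = 0 → c • x = 0) ∧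
      ∀ y : Module.Dual R (Module.Dual R M), c • y ∈ LinearMap.range (Module.Dual.eval R M) := by
  exact H22.TFree.exists_eval_torsion M

end Groth.Agent.S6870
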