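import Groth.Statements.S6871
import Groth.Agent.Lib.QDepth.Reflexive
import Groth.Agent.H22.TFree
import Mathlib.Algebra.Module.LocalizedModule.Exact

set_option autoImplicit false
universe u
open CAlg

namespace Groth.Agent.S6871

/-- Let `R` be a Noetherian domain and `M` a finite `R`-module. Then `M` is reflexive if and only if
`M_𝔭` is a reflexive `R_𝔭`-module for every prime `𝔭`, if and only if `M_𝔪` is a reflexive
`R_𝔪`-module for every maximal ideal `𝔪`. -/
theorem result (R : Type u) [CommRing R] [IsDomain R] [IsNoetherianRing R] (M : Type u)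
    [AddCommGroup M] [Module R M] [Module.Finite R M] :
    (Module.IsReflexive R M ↔
      ∀ (p : Ideal R) [p.IsPrime], Module.IsReflexive (Localization.AtPrime p) (LocalizedModule p.primeCompl M)) ∧
    (Module.IsReflexive R M ↔
      ∀ (m : Ideal R) (_ : m.IsMaximal),
        Module.IsReflexive (Localization.AtPrime m) (LocalizedModule m.primeCompl M)) := by
  have key : ∀ (p : Ideal R) [p.IsPrime], Module.IsReflexive R M →
      Module.IsReflexive (Localization.AtPrime p) (LocalizedModule p.primeCompl M) := by
    intro p _ hM
    obtain ⟨n, m, g, h, hg, hgh⟩ := Lib.QDepth.exists_exact_of_isReflexive (R := R) M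
    have hfree : ∀ k : ℕ, Module.Free (Localization.AtPrime p) (LocalizedModule p.primeCompl (Fin k → R)) ∧
        Module.Finite (Localization.AtPrime p) (LocalizedModule p.primeCompl (Fin k → R)) := fun k =>
      ⟨Module.Free.of_basis ((Pi.basisFun R (Fin k)).ofIsLocalizedModule (Localization.AtPrime p) p.primeCompl (LocalizedModule.mkLinearMap p.primeCompl _)),
        Module.Finite.of_isLocalizedModule p.primeCompl (LocalizedModule.mkLinearMap p.primeCompl _)⟩
    obtain ⟨_, _⟩ := hfree n
    obtain ⟨_, _⟩ := hfree m
    have : Module.Finite (Localization.AtPrime p) (LocalizedModule p.primeCompl M) :=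
      Module.Finite.of_isLocalizedModule p.primeCompl (LocalizedModule.mkLinearMap p.primeCompl _)
    exact H22.TFree.isReflexive_of_exact (LocalizedModule.map p.primeCompl g)
      (LocalizedModule.map p.primeCompl h) (LocalizedModule.map_injective p.primeCompl g hg)
      (LocalizedModule.map_exact p.primeCompl g h hgh)
  have back : (∀ (m : Ideal R) (_ : m.IsMaximal),
      Module.IsReflexive (Localization.AtPrime m) (LocalizedModule m.primeCompl M)) → Module.IsReflexive R M := by
    intro H
    refine ⟨⟨fun x y hxy => ?_, fun Φ => ?_⟩⟩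
    · by_contra hne
      have hI : (⊥ : Submodule R M).colon ({x - y} : Set M) ≠ ⊤ := fun h => by
        have := Submodule.mem_colon_singleton.1 (h ▸ Submodule.mem_top (x := (1 : R)))
        exact hne (sub_eq_zero.1 (by simpa using this))
      obtain ⟨m, hm, hle⟩ := Ideal.exists_le_maximal _ hI
      obtain ⟨r, hr, h0⟩ := (Lib.QDepth.eval_bijective_at m (H m hm)).1 (x - y) (by rw [map_sub, hxy, sub_self])
      exact hr (hle (Submodule.mem_colon_singleton.2 (by simpa using h0)))
    · by_contra hne
      have hI : (LinearMap.range (Module.Dual.eval R M)).colon ({Φ} : Set _) ≠ ⊤ := fun h => by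
        obtain ⟨g, hg⟩ := Submodule.mem_colon_singleton.1 (h ▸ Submodule.mem_top (x := (1 : R)))
        exact hne ⟨g, by simpa using hg⟩
      obtain ⟨m, hm, hle⟩ := Ideal.exists_le_maximal _ hI
      obtain ⟨r, hr, g, hg⟩ := (Lib.QDepth.eval_bijective_at m (H m hm)).2 Φ
      exact hr (hle (Submodule.mem_colon_singleton.2 ⟨g, hg⟩))
  refine ⟨⟨fun h p _ => key p h, fun H => back fun m hm => ?_⟩, ⟨fun h m hm => ?_, back⟩⟩
  · exact H m
  · exact key m h

end Groth.Agent.S6871
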