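import Groth.Statements.S6881
import Mathlib.RingTheory.IntegralClosure.IntegralRestrict
import Mathlib.LinearAlgebra.Dual.Defs
import Mathlib.RingTheory.DedekindDomain.IntegralClosure

set_option autoImplicit false
universe u
open CAlg

namespace Groth.Agent.S6881

/-- For `A` a Noetherian integrally closed domain with fraction field `K` and `L/K` a finite field
extension, if the integral closure of `A` in `L` is a finitely generated `A`-module then it is a
reflexive `A`-module. -/
theorem result (A K L : Type u) [CommRing A] [IsDomain A] [IsNoetherianRing A]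
    [IsIntegrallyClosed A] [Field K] [Algebra A K] [IsFractionRing A K] [Field L] [Algebra K L] [FiniteDimensional K L]
    [Algebra A L] [IsScalarTower A K L] [Module.Finite A ↥(integralClosure A L)] :
    Module.IsReflexive A ↥(integralClosure A L) := by
  classical
  let B := integralClosure A L
  haveI : IsNoetherian A B := isNoetherian_of_isNoetherianRing_of_finite A B
  haveI : Algebra.IsAlgebraic K L := Algebra.IsAlgebraic.of_finite K L
  have hinjAK : Function.Injective (algebraMap A K) := IsFractionRing.injective A K
  haveI : IsLocalization (Algebra.algebraMapSubmonoid B (nonZeroDivisors A)) L :=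
    IsIntegralClosure.isLocalization A K L B
  let ι : B →ₗ[A] L := (IsScalarTower.toAlgHom A B L).toLinearMap
  haveI hloc : IsLocalizedModule (nonZeroDivisors A) ι :=
    (isLocalizedModule_iff_isLocalization (S := nonZeroDivisors A)).mpr inferInstance
  have hu : ∀ x : nonZeroDivisors A, IsUnit (algebraMap A (Module.End A K) x) :=
    IsLocalizedModule.map_units (Algebra.linearMap A K)
  let ext : (B →ₗ[A] A) → L →ₗ[K] K := fun f => LinearMap.extendScalarsOfIsLocalization (nonZeroDivisors A) K
    (IsLocalizedModule.lift (nonZeroDivisors A) ι ((Algebra.linearMap A K).comp f) hu)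
  have hextb : ∀ (f : B →ₗ[A] A) (b : B), ext f (b : L) = algebraMap A K (f b) := fun f b =>
    LinearMap.congr_fun (IsLocalizedModule.lift_comp (nonZeroDivisors A) ι ((Algebra.linearMap A K).comp f) hu) b
  have huniq : ∀ F G : L →ₗ[K] K, (∀ b : B, F b = G b) → F = G := fun F G h =>
    LinearMap.restrictScalars_injective A (IsLocalizedModule.ext (nonZeroDivisors A) ι hu (LinearMap.ext h))
  have hden : ∀ l : L, ∃ d : A, d ≠ 0 ∧ ∃ b : B, (b : L) = d • l := by
    intro l
    obtain ⟨⟨b, d⟩, hb⟩ := IsLocalizedModule.surj (nonZeroDivisors A) ι l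
    exact ⟨d, nonZeroDivisors.coe_ne_zero d, b, hb.symm⟩
  have hne : ∀ {a : A}, a ≠ 0 → algebraMap A K a ≠ 0 := fun ha h => ha (hinjAK (h.trans (map_zero _).symm))
  -- a `K`-basis in `B` and functionals representing the coordinates
  let v₀ := Module.finBasis K L
  choose e he bb hbb using fun i => hden (v₀ i)
  let v : Module.Basis (Fin (Module.finrank K L)) K L := v₀.isUnitSMul (w := fun i => algebraMap A K (e i))
    fun i => isUnit_iff_ne_zero.mpr (hne (he i))
  have hv : ∀ i, v i = (bb i : L) := fun i => by
    rw [Module.Basis.isUnitSMul_apply, algebraMap_smul, hbb]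
  obtain ⟨s, hs⟩ := Module.Finite.fg_top (R := A) (M := B)
  have hG : ∀ i, ∃ d : A, d ≠ 0 ∧ ∃ G : B →ₗ[A] A, ext G = algebraMap A K d • v.coord i := by
    intro i
    obtain ⟨⟨d, hd⟩, hds⟩ := IsLocalization.exist_integer_multiples (nonZeroDivisors A) s (fun b => v.coord i (b : L))
    let F : B →ₗ[A] K := (((algebraMap A K d) • v.coord i).restrictScalars A).comp ι
    have hF : ∀ b : B, F b ∈ LinearMap.range (Algebra.linearMap A K) := by
      intro b
      have hb : b ∈ Submodule.span A (s : Set B) := hs ▸ Submodule.mem_top
      induction hb using Submodule.span_induction with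
      | mem b hb => obtain ⟨a, ha⟩ := hds b hb; exact ⟨a, ha.trans (Algebra.smul_def _ _)⟩
      | zero => rw [map_zero]; exact zero_mem _
      | add b c _ _ hb hc => rw [map_add]; exact add_mem hb hc
      | smul c b _ hb => rw [map_smul]; exact Submodule.smul_mem _ c hb
    let G : B →ₗ[A] A := (LinearEquiv.ofInjective (Algebra.linearMap A K) hinjAK).symm.toLinearMap.comp
      (LinearMap.codRestrict _ F hF)
    refine ⟨d, nonZeroDivisors.ne_zero hd, G, huniq _ _ fun b => ?_⟩
    rw [hextb]
    exact congrArg Subtype.val
      ((LinearEquiv.ofInjective (Algebra.linearMap A K) hinjAK).apply_symm_apply ⟨F b, hF b⟩)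
  choose d hd G hG using hG
  have hsep : ∀ l : L, (∀ f, ext f l = 0) → l = 0 := by
    intro l hl
    refine v.ext_elem fun i => ?_
    have h := hl (G i)
    rw [hG, LinearMap.smul_apply, smul_eq_mul] at h
    rw [map_zero, Finsupp.zero_apply]
    exact (mul_eq_zero.mp h).resolve_left (hne (hd i))
  -- the overring of elements on which all functionals are integral
  let L' : Submodule A L := ⨅ f : B →ₗ[A] A, (LinearMap.range (Algebra.linearMap A K)).comap ((ext f).restrictScalars A)
  have hmem : ∀ l, l ∈ L' ↔ ∀ f, ∃ a, algebraMap A K a = ext f l := fun l => by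
    simp [L', Submodule.mem_iInf]
  have hBmem : ∀ b : B, (b : L) ∈ L' := fun b => (hmem _).mpr fun f => ⟨f b, (hextb f b).symm⟩
  have hmul : ∀ x ∈ L', ∀ y ∈ L', x * y ∈ L' := by
    intro x hx y hy
    rw [hmem] at hx hy ⊢
    intro f
    let F : B →ₗ[A] K := (((ext f).comp (LinearMap.mulRight K y)).restrictScalars A).comp ι
    have hF : ∀ b : B, F b ∈ LinearMap.range (Algebra.linearMap A K) := by
      intro b
      obtain ⟨a, ha⟩ := hy (f.comp (LinearMap.mulLeft A b))
      refine ⟨a, ha.trans ?_⟩
      have h : ext (f.comp (LinearMap.mulLeft A b)) = (ext f).comp (LinearMap.mulLeft K (b : L)) :=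
        huniq _ _ fun c => by
          rw [hextb]
          exact (hextb f (b * c)).symm
      rw [h]; rfl
    let g : B →ₗ[A] A := (LinearEquiv.ofInjective (Algebra.linearMap A K) hinjAK).symm.toLinearMap.comp
      (LinearMap.codRestrict _ F hF)
    have hg : ext g = (ext f).comp (LinearMap.mulRight K y) := huniq _ _ fun b => by
      rw [hextb]
      exact congrArg Subtype.val
        ((LinearEquiv.ofInjective (Algebra.linearMap A K) hinjAK).apply_symm_apply ⟨F b, hF b⟩)
    obtain ⟨a, ha⟩ := hx g
    exact ⟨a, ha.trans (LinearMap.congr_fun hg x)⟩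
  -- `L'` is finite
  let ev₀ : L' → (Fin (Module.finrank K L) → A) := fun l i => ((hmem _).mp l.2 (G i)).choose
  have hev₀ : ∀ (l : L') i, algebraMap A K (ev₀ l i) = ext (G i) l := fun l i => ((hmem _).mp l.2 (G i)).choose_spec
  let ev : L' →ₗ[A] (Fin (Module.finrank K L) → A) :=
    { toFun := ev₀
      map_add' := fun x y => funext fun i => hinjAK (by
        rw [Pi.add_apply, map_add, hev₀, hev₀, hev₀, Submodule.coe_add, map_add])
      map_smul' := fun c x => funext fun i => hinjAK (by
        rw [RingHom.id_apply, Pi.smul_apply, smul_eq_mul, map_mul, hev₀, hev₀, Submodule.coe_smul,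
          ← algebraMap_smul K c (x : L), map_smul, smul_eq_mul]) }
  have hev : Function.Injective ev := by
    rw [injective_iff_map_eq_zero]
    intro l hl
    refine Subtype.ext (v.ext_elem fun i => ?_)
    have h := hev₀ l i
    rw [show ev₀ l i = ev l i from rfl, hl, Pi.zero_apply, map_zero, hG, LinearMap.smul_apply, smul_eq_mul] at h
    rw [ZeroMemClass.coe_zero, map_zero, Finsupp.zero_apply]
    exact (mul_eq_zero.mp h.symm).resolve_left (hne (hd i))
  haveI : Module.Finite A L' := Module.Finite.of_injective ev hev
  let S : Subalgebra A L := L'.toSubalgebra (by simpa using hBmem 1) fun x y hx hy => hmul x hx y hy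
  haveI : Module.Finite A S := ‹Module.Finite A L'›
  have hint : ∀ l ∈ L', IsIntegral A l := fun l hl =>
    (Algebra.IsIntegral.isIntegral (R := A) (⟨l, hl⟩ : S)).map S.val
  constructor
  refine ⟨(injective_iff_map_eq_zero _).mpr fun b hb => ?_, fun φ => ?_⟩
  · refine Subtype.ext (hsep _ fun f => ?_)
    rw [hextb, show f b = Module.Dual.eval A B b f from rfl, hb, LinearMap.zero_apply, map_zero]
  · let l : L := ∑ i, (algebraMap A K (φ (G i)) / algebraMap A K (d i)) • v i
    have key : ∀ f, ext f l = algebraMap A K (φ f) := by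
      intro f
      have hf : (∏ i, d i) • f = ∑ i, ((∏ j ∈ Finset.univ.erase i, d j) * f (bb i)) • G i := by
        refine LinearMap.ext fun b => hinjAK ?_
        rw [LinearMap.smul_apply, LinearMap.sum_apply, smul_eq_mul, map_mul, map_sum, ← hextb]
        conv_lhs => rw [← v.sum_repr (b : L), map_sum, Finset.mul_sum]
        refine Finset.sum_congr rfl fun i _ => ?_
        rw [map_smul, hv, hextb, LinearMap.smul_apply, smul_eq_mul, smul_eq_mul, map_mul, map_mul, ← hextb (G i),
          hG, LinearMap.smul_apply, smul_eq_mul, Module.Basis.coord_apply,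
          ← Finset.prod_erase_mul _ d (Finset.mem_univ i), map_mul]
        ring
      have h2 := congrArg (fun g => algebraMap A K (φ g)) hf
      simp only [map_smul, map_sum, smul_eq_mul, map_mul] at h2
      refine mul_left_cancel₀ (hne ((Finset.prod_ne_zero_iff (s := Finset.univ) (f := d)).mpr fun i _ => hd i)) ?_
      rw [h2]
      simp only [l, map_sum, Finset.mul_sum, map_smul, hv, hextb, smul_eq_mul]
      refine Finset.sum_congr rfl fun i _ => ?_
      rw [← Finset.prod_erase_mul _ d (Finset.mem_univ i), map_mul]
      field_simp [hne (hd i)]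
    refine ⟨⟨l, hint l ((hmem _).mpr fun f => ⟨φ f, (key f).symm⟩)⟩, LinearMap.ext fun f => hinjAK ?_⟩
    rw [← key f]
    exact (hextb f _).symm

end Groth.Agent.S6881
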