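import Groth.Statements.S6882
import Groth.Agent.H22.TFree
import Mathlib.LinearAlgebra.FreeModule.PID
import Mathlib.RingTheory.DiscreteValuationRing.Basic

set_option autoImplicit false
universe u
open CAlg

namespace Groth.Agent.S6882

/-- For a finite module `M` over a discrete valuation ring `R`, the evaluation map from `M` to its
double dual `M**` is surjective. -/
theorem result (R : Type u) [CommRing R] [IsDomain R]
    [IsDiscreteValuationRing R] (M : Type u) [AddCommGroup M] [Module R M] [Module.Finite R M] :
    Function.Surjective (Module.Dual.eval R M) := by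
  classical
  obtain ⟨n, v, j, a, ha, -, hvj, -⟩ := H22.TFree.exists_squeeze (R := R) M
  let S : Submodule R (Fin n → R) := LinearMap.range j
  have : Module.Free R S := inferInstance
  have : Module.IsReflexive R S := inferInstance
  intro y
  let π : M →ₗ[R] S := j.rangeRestrict
  obtain ⟨t, ht⟩ := (Module.bijective_dual_eval R S).2 (y ∘ₗ π.dualMap)
  obtain ⟨x, rfl⟩ := j.surjective_rangeRestrict t
  refine ⟨x, LinearMap.ext fun φ => ?_⟩
  have hker : LinearMap.ker π ≤ LinearMap.ker φ := fun z hz => by
    have hjz : j z = 0 := congrArg Subtype.val (LinearMap.mem_ker.1 hz)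
    have h := congrArg φ (hvj z)
    rw [hjz, map_zero, map_zero, map_smul] at h
    exact (smul_eq_zero.1 h.symm).resolve_left ha
  let ψ : S →ₗ[R] R := (LinearMap.ker π).liftQ φ hker ∘ₗ
    (π.quotKerEquivOfSurjective j.surjective_rangeRestrict).symm.toLinearMap
  have hψ : π.dualMap ψ = φ := by
    ext z
    have h : (π.quotKerEquivOfSurjective j.surjective_rangeRestrict).symm (π z) =
        Submodule.Quotient.mk z := by
      rw [LinearEquiv.symm_apply_eq]
      rfl
    simp [ψ, LinearMap.dualMap_apply, h]
  have h := LinearMap.congr_fun ht ψ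
  have h' : ψ (π x) = y (π.dualMap ψ) := h
  rw [hψ] at h'
  rw [Module.Dual.eval_apply, ← h', ← hψ]
  rfl

end Groth.Agent.S6882
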