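import Groth.Statements.S6886
import Groth.Agent.H61.SplitAlg
import Mathlib
-- import your own Groth.Agent.* helpers here

set_option autoImplicit false
universe u
open TensorProduct
open CAlg

namespace Groth.Agent.S6886

theorem eq_pol {A : Type u} [CommRing A] (P : Polynomial A) (hP : P.Monic) :
    P = Groth.Agent.H61.SplitAlg.pol (fun j : Fin P.natDegree => P.coeff j) := by
  ext j
  rcases lt_or_ge j P.natDegree with hj | hj
  · exact (Groth.Agent.H61.SplitAlg.coeff_pol_lt (fun j : Fin P.natDegree => P.coeff j) ⟨j, hj⟩).symm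
  · rw [Groth.Agent.H61.SplitAlg.coeff_pol_ge _ hj]
    split_ifs with h
    · rw [h]; exact hP.coeff_natDegree
    · exact Polynomial.coeff_eq_zero_of_natDegree_lt (by omega)

/-- The splitting algebra. -/
theorem exists_splitting {A : Type u} [CommRing A] {r : ℕ} (c : Fin r → A) :
    ∏ i, (Polynomial.X - Polynomial.C (Ideal.Quotient.mk (Groth.Agent.H61.SplitAlg.ideal c) (MvPolynomial.X i))) =
      (Groth.Agent.H61.SplitAlg.pol c).map (algebraMap A (MvPolynomial (Fin r) A ⧸ Groth.Agent.H61.SplitAlg.ideal c)) := by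
  have := (Groth.Agent.H61.SplitAlg.ideal_le_ker_iff c (Ideal.Quotient.mk (Groth.Agent.H61.SplitAlg.ideal c))).1 (le_of_eq (Ideal.mk_ker).symm)
  exact this

open TensorProduct in
theorem conclude {R S : Type u} [CommRing R] [CommRing S] [Algebra R S] (R' : Type u) [CommRing R'] [Algebra R R']
    {N : ℕ} (ρ : Fin N → R') (T : Polynomial R) (hT : ∏ j, (Polynomial.X - Polynomial.C (ρ j)) = T.map (algebraMap R R'))
    {n : ℕ} (g : Fin n → S) (hg : Submodule.span R (Set.range g) = ⊤) (hT0 : ∀ i, Polynomial.aeval (g i) T = 0) :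
    ∃ φ : MvPolynomial (Fin n) R' →ₐ[R'] R' ⊗[R] S, Function.Surjective φ ∧
      ∀ i, φ (∏ j, (MvPolynomial.X i - MvPolynomial.C (ρ j))) = 0 := by
  refine ⟨MvPolynomial.aeval fun i => (1 : R') ⊗ₜ[R] g i, fun z => ?_, fun i => ?_⟩
  · induction z using TensorProduct.induction_on with
    | zero => exact ⟨0, map_zero _⟩
    | add a b ha hb => obtain ⟨x, rfl⟩ := ha; obtain ⟨y, rfl⟩ := hb; exact ⟨x + y, map_add _ _ _⟩
    | tmul a s =>
      obtain ⟨co, rfl⟩ := (Submodule.mem_span_range_iff_exists_fun R).1 (hg.ge (Submodule.mem_top (x := s)))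
      refine ⟨∑ j, MvPolynomial.C (algebraMap R R' (co j) * a) * MvPolynomial.X j, ?_⟩
      simp only [map_sum, map_mul, MvPolynomial.aeval_C, MvPolynomial.aeval_X, TensorProduct.tmul_sum]
      refine Finset.sum_congr rfl fun j _ => ?_
      rw [Algebra.TensorProduct.algebraMap_apply, Algebra.TensorProduct.algebraMap_apply, Algebra.algebraMap_self_apply, Algebra.algebraMap_self_apply,
        Algebra.TensorProduct.tmul_mul_tmul, Algebra.TensorProduct.tmul_mul_tmul, mul_one, mul_one, one_mul, ← Algebra.smul_def, TensorProduct.smul_tmul]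
  · have h1 : (MvPolynomial.aeval fun i => (1 : R') ⊗ₜ[R] g i : MvPolynomial (Fin n) R' →ₐ[R'] R' ⊗[R] S)
        (∏ j, (MvPolynomial.X i - MvPolynomial.C (ρ j))) =
        Polynomial.aeval ((1 : R') ⊗ₜ[R] g i) (T.map (algebraMap R R')) := by
      rw [← hT, map_prod, map_prod]
      refine Finset.prod_congr rfl fun j _ => ?_
      simp
    rw [h1, Polynomial.aeval_map_algebraMap, ← Algebra.TensorProduct.includeRight_apply, Polynomial.aeval_algHom_apply, hT0, map_zero]


/-- Let `R → S` be a finite ring map. One can find an extension `R ⊆ R'` of rings, with `R'` finite and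
free as an `R`-module, for which the ring `S ⊗_R R'` arises as a quotient of `R'[T_1, …,
T_n]/(P_1(T_1), …, P_n(T_n))` with each `P_i(T) = ∏_j (T - α_{ij})` a product of linear factors over
`R'`. -/
theorem result (R S : Type u) [CommRing R] [CommRing S] [Algebra R S]
    [Module.Finite R S] :
    ∃ (R' : Type u) (_ : CommRing R') (_ : Algebra R R'), Module.Finite R R' ∧ Module.Free R R' ∧
      Function.Injective (algebraMap R R') ∧
      ∃ (n : ℕ) (d : Fin n → ℕ) (α : (i : Fin n) → Fin (d i) → R')
        (φ : MvPolynomial (Fin n) R' →ₐ[R'] R' ⊗[R] S), Function.Surjective φ ∧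
          ∀ i, φ (∏ j, (MvPolynomial.X i - MvPolynomial.C (α i j))) = 0 := by
  classical
  obtain ⟨n, g, hg⟩ := Module.Finite.exists_fin (R := R) (M := S)
  choose P hPm hP using fun i => Algebra.IsIntegral.isIntegral (R := R) (g i)
  set T := ∏ i, P i with hT
  have hTm : T.Monic := Polynomial.monic_prod_of_monic _ _ fun i _ => hPm i
  set c := fun j : Fin T.natDegree => T.coeff j with hc
  obtain ⟨bb⟩ := Groth.Agent.H61.SplitAlg.nonempty_basis _ c
  have hsplit := exists_splitting c
  rw [← eq_pol T hTm] at hsplit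
  let R' := MvPolynomial (Fin T.natDegree) R ⧸ Groth.Agent.H61.SplitAlg.ideal c
  have hinj : Function.Injective (algebraMap R R') := by
    rw [injective_iff_map_eq_zero]
    intro x hx
    have h0 : x • bb ⟨0, Nat.factorial_pos _⟩ = 0 := by rw [← algebraMap_smul R', hx]; exact @zero_smul R' R' _ _ _ _
    have := congrArg (fun v => bb.repr v ⟨0, Nat.factorial_pos _⟩) h0
    simpa using this
  obtain ⟨φ, hφ, hφ'⟩ := conclude R' (fun j => Ideal.Quotient.mk _ (MvPolynomial.X j)) T hsplit g hg
    (fun i => (map_prod (Polynomial.aeval (g i)) P Finset.univ).trans (Finset.prod_eq_zero (Finset.mem_univ i) (hP i)))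
  exact ⟨R', inferInstance, inferInstance, Module.Finite.of_basis bb, Module.Free.of_basis bb, hinj,
    n, fun _ => T.natDegree, fun _ j => Ideal.Quotient.mk _ (MvPolynomial.X j), φ, hφ, hφ'⟩

end Groth.Agent.S6886
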