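import Groth.Statements.S6887
import Mathlib.LinearAlgebra.Matrix.Charpoly.LinearMap
import Mathlib.RingTheory.Nakayama
import Mathlib.RingTheory.Finiteness.Basic
import Mathlib.RingTheory.Ideal.Quotient.Operations
import Mathlib.LinearAlgebra.Matrix.Block
import Mathlib.RingTheory.Finiteness.Ideal

set_option autoImplicit false
universe u
open Polynomial
open CAlg

namespace Groth.Agent.S6887

/-- Let `(A, I)` be a Zariski pair (`I` inside the Jacobson radical) and `A → B` a finite ring map.
Suppose `B/IB ≅ B₁ × B₂` as `A`-algebras with `A → B₁` surjective, and `b ∈ B` maps to `(1, 0)`.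
Then there is a monic `f ∈ A[x]` with `f(b) = 0` whose reduction modulo `I` is `(x - 1) x^d` for
some `d ≥ 1`. -/
theorem result (A B : Type u) [CommRing A] [CommRing B]
    [Algebra A B] [Module.Finite A B] (I : Ideal A) (hI : I ≤ Ideal.jacobson (⊥ : Ideal A))
    (B₁ B₂ : Type u) [CommRing B₁] [CommRing B₂] [Algebra A B₁] [Algebra A B₂]
    (e : (B ⧸ I.map (algebraMap A B)) ≃ₐ[A] B₁ × B₂) (h₁ : Function.Surjective (algebraMap A B₁)) (b : B)
    (hb : e (Ideal.Quotient.mk (I.map (algebraMap A B)) b) = (1, 0)) :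
    ∃ (f : A[X]) (d : ℕ), f.Monic ∧ Polynomial.aeval b f = 0 ∧ 1 ≤ d ∧
      f.map (Ideal.Quotient.mk I) = (X - 1) * X ^ d := by
  classical
  let J := I.map (algebraMap A B)
  let q := Ideal.Quotient.mkₐ A J
  have hmem : ∀ z : B, z ∈ J ↔ e (q z) = 0 := fun z => by
    rw [map_eq_zero_iff e e.injective]; exact Ideal.Quotient.eq_zero_iff_mem.symm
  have hJ : ∀ z : B, z ∈ I • (⊤ : Submodule A B) ↔ z ∈ J := fun z => by
    rw [Ideal.smul_top_eq_map]; rfl
  haveI : Module.Finite A (B₁ × B₂) :=
    Module.Finite.of_surjective (e.toAlgHom.comp q).toLinearMap (e.surjective.comp Ideal.Quotient.mk_surjective)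
  haveI : Module.Finite A B₂ := Module.Finite.of_surjective (LinearMap.snd A B₁ B₂) Prod.snd_surjective
  obtain ⟨d, g, hg⟩ := Module.Finite.exists_fin (R := A) (M := B₂)
  have hlift : ∀ z : B₁ × B₂, ∃ x : B, e (q x) = z := fun z =>
    (e.surjective.comp Ideal.Quotient.mk_surjective) z
  choose L hL using hlift
  let G : Option (Fin (d + 1)) → B := fun o => o.elim b (fun i => L (0, Fin.snoc (α := fun _ => B₂) g 0 i))
  have hG : Submodule.span A (Set.range G) = ⊤ := by
    refine top_le_iff.1 (Submodule.le_of_le_smul_of_le_jacobson_bot (Module.Finite.fg_top) hI fun z _ => ?_)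
    have hgs : Submodule.span A (Set.range (Fin.snoc (α := fun _ => B₂) g 0)) = ⊤ := by
      refine top_le_iff.1 (hg.ge.trans (Submodule.span_mono ?_))
      rintro _ ⟨i, rfl⟩
      exact ⟨i.castSucc, Fin.snoc_castSucc ..⟩
    obtain ⟨a, ha⟩ := h₁ (e (q z)).1
    obtain ⟨w, hw⟩ := (Submodule.mem_span_range_iff_exists_fun A).1 (hgs ▸ Submodule.mem_top (x := (e (q z)).2))
    refine Submodule.mem_sup.2 ⟨a • b + ∑ i, w i • G (some i), ?_, z - (a • b + ∑ i, w i • G (some i)), ?_, add_sub_cancel _ _⟩
    · exact add_mem (Submodule.smul_mem _ _ (Submodule.subset_span ⟨none, rfl⟩))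
        (sum_mem fun i _ => Submodule.smul_mem _ _ (Submodule.subset_span ⟨some i, rfl⟩))
    · rw [hJ, hmem]
      simp only [map_sub, map_add, map_smul, map_sum]
      rw [show e (q b) = (1, 0) from hb]
      simp only [G, Option.elim_some, hL]
      refine Prod.ext ?_ ?_
      · simp [← ha, Algebra.algebraMap_eq_smul_one, Prod.fst_sum]
      · simp [hw, Prod.snd_sum]
  let f : Module.End A B := Algebra.lmul A B b
  let T : Option (Fin (d + 1)) → B := fun o => o.elim b 0
  have hT : ∀ o, b * G o - T o ∈ I • (⊤ : Submodule A B) := by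
    intro o
    rw [hJ, hmem]
    cases o with
    | none => simp [G, T, show e (q b) = (1, 0) from hb, Prod.ext_iff]
    | some i => simp [G, T, show e (q b) = (1, 0) from hb, hL, Prod.ext_iff]
  have hcoef : ∀ z ∈ I • (⊤ : Submodule A B), ∃ c : Option (Fin (d + 1)) → A, (∀ o, c o ∈ I) ∧ ∑ o, c o • G o = z := by
    intro z hz
    rw [← hG, Submodule.mem_ideal_smul_span_iff_exists_sum] at hz
    obtain ⟨c, hc, hz⟩ := hz
    refine ⟨c, hc, ?_⟩
    rw [← hz, Finsupp.sum_fintype _ _ (by simp)]
  choose c hc hcz using fun o => hcoef _ (hT o)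
  let E : Matrix (Option (Fin (d + 1))) (Option (Fin (d + 1))) A :=
    Matrix.diagonal (fun o => o.elim 1 0)
  let Mx : Matrix (Option (Fin (d + 1))) (Option (Fin (d + 1))) A := E + Matrix.of fun i j => c j i
  have hrep : Mx.Represents G f := by
    rw [Matrix.represents_iff']
    intro j
    simp only [Mx, Matrix.add_apply, add_smul, Finset.sum_add_distrib, Matrix.of_apply, hcz]
    rw [Finset.sum_eq_single j (fun i _ hij => by simp [E, hij]) (by simp)]
    cases j with
    | none => simp [E, T, G, f]
    | some i => simp [E, T, G, f]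
  refine ⟨Mx.charpoly, d + 1, Matrix.charpoly_monic _, ?_, by omega, ?_⟩
  · let M' : Matrix.isRepresentation A G := ⟨Mx, f, hrep⟩
    have he : Matrix.isRepresentation.toEnd A G hG M' = f :=
      Matrix.isRepresentation.eq_toEnd_of_represents A G hG M' hrep
    have h := Matrix.aeval_self_charpoly Mx
    rw [show Mx = (Matrix.isRepresentation A G).val M' from rfl, Polynomial.aeval_algHom_apply,
      map_eq_zero_iff _ Subtype.val_injective] at h
    have h' := congrArg (Matrix.isRepresentation.toEnd A G hG) h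
    rw [map_zero, ← Polynomial.aeval_algHom_apply, he] at h'
    rw [show f = Algebra.lmul A B b from rfl, Polynomial.aeval_algHom_apply] at h'
    simpa [M'] using LinearMap.congr_fun h' 1
  · rw [← Matrix.charpoly_map]
    have : Mx.map (Ideal.Quotient.mk I) = Matrix.diagonal (fun o : Option (Fin (d + 1)) => o.elim 1 0) := by
      ext i j
      simp only [Mx, E, Matrix.map_apply, Matrix.add_apply, Matrix.of_apply, map_add,
        Ideal.Quotient.eq_zero_iff_mem.2 (hc j i), add_zero]
      by_cases h : i = j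
      · subst h; cases i <;> simp
      · simp [h]
    rw [this, Matrix.charpoly_diagonal, Fintype.prod_option]
    simp

end Groth.Agent.S6887
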