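import Groth.Statements.S6888
import Mathlib.RingTheory.Henselian
import Mathlib.Algebra.Polynomial.Derivative
import Mathlib.RingTheory.Jacobson.Ideal
import Mathlib.Tactic.LinearCombination

set_option autoImplicit false
universe u
open Polynomial
open CAlg

namespace Groth.Agent.S6888

/-- Let `A` be absolutely integrally closed (every monic polynomial over `A` is a product of linear
factors) and `I ⊆ A` an ideal contained in the Jacobson radical such that `A → A/I` is surjective
(hence bijective) on idempotents. Then `(A, I)` is a henselian pair. (The published statement also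
records the converse, which holds for every henselian pair; this row states the sufficiency only.) -/
theorem result (A : Type u) [CommRing A]
    (hA : ∀ f : A[X], f.Monic → ∃ s : Multiset A, f = (s.map fun a => X - C a).prod) (I : Ideal A)
    (hI : I ≤ Ideal.jacobson (⊥ : Ideal A))
    (hidem : ∀ e : A ⧸ I, IsIdempotentElem e → ∃ e' : A, IsIdempotentElem e' ∧ Ideal.Quotient.mk I e' = e) :
    HenselianRing A I := by
  classical
  have jac0 : ∀ e : A, IsIdempotentElem e → e ∈ I → e = 0 := by
    intro e he hm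
    have hu : IsUnit (1 - e) := by
      have := Ideal.mem_jacobson_bot.1 (hI hm) (-1)
      simpa [sub_eq_add_neg, add_comm] using this
    exact (IsUnit.mul_right_eq_zero hu).1 (by rw [sub_mul, one_mul, he.eq, sub_self])
  refine ⟨hI, fun f hf a₀ h0 hu => ?_⟩
  obtain ⟨s, hs⟩ := hA f hf
  obtain ⟨m, r, hr⟩ : ∃ (m : ℕ) (r : Fin m → A), f = ∏ i, (X - C (r i)) := by
    refine ⟨s.toList.length, fun i => s.toList.get i, ?_⟩
    rw [hs, ← List.prod_ofFn]
    conv_lhs => rw [← s.coe_toList, Multiset.map_coe, Multiset.prod_coe]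
    congr 1
    conv_lhs => rw [← List.ofFn_get s.toList, List.map_ofFn]
    rfl
  let q := Ideal.Quotient.mk I
  let d : Fin m → A ⧸ I := fun i => q a₀ - q (r i)
  have hd : ∏ i, d i = 0 := by
    rw [← Ideal.Quotient.eq_zero_iff_mem.2 h0, hr, eval_prod, map_prod]
    simp [d, q]
  have hD : q (f.derivative.eval a₀) = ∑ i, ∏ j ∈ Finset.univ.erase i, d j := by
    rw [hr, derivative_prod_finset, eval_finsetSum, map_sum]
    simp [d, q, eval_prod]
  obtain ⟨v, hv⟩ := hu
  let e : Fin m → A ⧸ I := fun i => (v⁻¹ : (A ⧸ I)ˣ) * ∏ j ∈ Finset.univ.erase i, d j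
  have hsum : ∑ i, e i = 1 := by
    rw [← Finset.mul_sum, ← hD, ← hv, Units.inv_mul]
  have hde : ∀ i, d i * e i = 0 := by
    intro i
    rw [mul_left_comm, Finset.mul_prod_erase _ _ (Finset.mem_univ i), hd, mul_zero]
  have horth : ∀ i j, i ≠ j → e i * e j = 0 := by
    intro i j hij
    show ((v⁻¹ : (A ⧸ I)ˣ) : A ⧸ I) * (∏ l ∈ Finset.univ.erase i, d l) * e j = 0
    rw [← Finset.mul_prod_erase (Finset.univ.erase i) d (Finset.mem_erase.2 ⟨hij.symm, Finset.mem_univ _⟩)]
    linear_combination (v⁻¹ : (A ⧸ I)ˣ).val * (∏ l ∈ (Finset.univ.erase i).erase j, d l) * hde j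
  have hidm : ∀ i, IsIdempotentElem (e i) := by
    intro i
    have := congrArg (e i * ·) hsum
    simp only [Finset.mul_sum, mul_one] at this
    rwa [Finset.sum_eq_single i (fun j _ h => horth i j h.symm) (by simp)] at this
  choose E hE hEq using fun i => hidem (e i) (hidm i)
  have hEo : ∀ i j, i ≠ j → E i * E j = 0 := by
    intro i j hij
    refine jac0 _ ((hE i).mul (hE j)) (Ideal.Quotient.eq_zero_iff_mem.1 ?_)
    rw [map_mul, hEq, hEq, horth i j hij]
  have hEi : ∀ i, E i * ∑ j, E j = E i := by
    intro i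
    rw [Finset.mul_sum, Finset.sum_eq_single i (fun j _ h => hEo i j h.symm) (by simp), (hE i).eq]
  have hEs : ∑ i, E i = 1 := by
    have h1 : IsIdempotentElem (∑ i, E i) := by
      rw [IsIdempotentElem, Finset.sum_mul]; exact Finset.sum_congr rfl fun i _ => hEi i
    refine (sub_eq_zero.1 (jac0 _ h1.one_sub (Ideal.Quotient.eq_zero_iff_mem.1 ?_))).symm
    rw [map_sub, map_one, map_sum]
    simp only [hEq]
    rw [hsum, sub_self]
  refine ⟨∑ i, E i * r i, ?_, ?_⟩
  · have key : ∀ k, E k * f.eval (∑ i, E i * r i) = 0 := by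
      intro k
      rw [hr, eval_prod, ← Finset.mul_prod_erase _ _ (Finset.mem_univ k), ← mul_assoc]
      simp only [eval_sub, eval_X, eval_C]
      rw [mul_sub, Finset.mul_sum, Finset.sum_eq_single k
        (fun j _ h => by rw [← mul_assoc, hEo k j h.symm, zero_mul]) (by simp), ← mul_assoc, (hE k).eq,
        sub_self, zero_mul]
    rw [IsRoot.def, ← one_mul (f.eval _), ← hEs, Finset.sum_mul]
    exact Finset.sum_eq_zero fun k _ => key k
  · refine Ideal.Quotient.eq.1 ?_
    rw [map_sum]
    simp only [map_mul, hEq]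
    calc ∑ i, e i * q (r i) = ∑ i, e i * q a₀ := Finset.sum_congr rfl fun i _ => by linear_combination (-1 : A ⧸ I) * hde i
      _ = q a₀ := by rw [← Finset.sum_mul, hsum, one_mul]

end Groth.Agent.S6888
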