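import Groth.Statements.S6893
import Groth.Agent.H22.FlatMod

set_option autoImplicit false
universe u
open TensorProduct
open CAlg

namespace Groth.Agent.S6893

/-- Let `M` be a module over a ring `R` and `I₁, I₂ ⊆ R` ideals. Suppose flatness of `M/I₁M` as an
`R/I₁`-module holds, and likewise `M/I₂M` is a flat `R/I₂`-module; then the quotient `M/(I₁ ∩ I₂)M`
is also flat as a module over `R/(I₁ ∩ I₂)`. -/
theorem result {R : Type u} [CommRing R] (M : Type u) [AddCommGroup M] [Module R M]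
    (I₁ I₂ : Ideal R) [Module.Flat (R ⧸ I₁) ((R ⧸ I₁) ⊗[R] M)] [Module.Flat (R ⧸ I₂) ((R ⧸ I₂) ⊗[R] M)] :
    Module.Flat (R ⧸ (I₁ ⊓ I₂)) ((R ⧸ (I₁ ⊓ I₂)) ⊗[R] M) := by
  exact H22.FlatMod.flat_quotient
    (H22.FlatMod.flatAt_inf (H22.FlatMod.flatAt inferInstance) (H22.FlatMod.flatAt inferInstance))

end Groth.Agent.S6893
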