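import Groth.Statements.S6896
import Groth.Agent.H25.FittingLoc
-- import your own Groth.Agent.* helpers here

set_option autoImplicit false
universe u
open Fitt

namespace Groth.Agent.S6896

/-- Let `R` be a local ring, `M` a finite `R`-module and `k ≥ 0` with `Fit_k(M) = (f)` principal. Then
the quotient `M'` of `M` by the submodule `{x ∈ M | f x = 0}` can be generated by `k` elements. -/
theorem result {R : Type u} [CommRing R] [IsLocalRing R]
    (M : Type u) [AddCommGroup M] [Module R M] [Module.Finite R M] (k : ℕ) (f : R)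
    (hf : Fitt.ideal R M k = Ideal.span {f}) :
    ∃ g : Fin k → M ⧸ LinearMap.ker (f • (LinearMap.id : M →ₗ[R] M)),
      Submodule.span R (Set.range g) = ⊤ := by
  open Groth.Agent.H25.Fitting in
  set N := LinearMap.ker (f • (LinearMap.id : M →ₗ[R] M))
  by_cases hf0 : f = 0
  · refine ⟨fun _ => 0, ?_⟩
    have : Subsingleton (M ⧸ N) := by
      rw [Submodule.Quotient.subsingleton_iff]
      simp [N, hf0]
    exact Subsingleton.elim _ _
  obtain ⟨n, x, hx⟩ := Module.Finite.exists_fin (R := R) (M := M)
  obtain ⟨z, e, c, hz, he, hc, hcp⟩ := exists_minor x hx f hf (IsLocalRing.maximalIdeal R)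
    (fun d hd => by
      rw [IsLocalRing.mem_maximalIdeal, mem_nonunits_iff]
      exact fun hu => hf0 (hu.mul_left_eq_zero.mp hd))
  obtain ⟨g, hg⟩ := exists_span_sup x hx f c hf.le z hz e he hc
  refine ⟨N.mkQ ∘ g, eq_top_iff.mpr fun y _ => ?_⟩
  obtain ⟨y, rfl⟩ := N.mkQ_surjective y
  have h1 := Submodule.mem_map_of_mem (f := N.mkQ) (hg y)
  rw [Submodule.map_sup, Submodule.mkQ_map_self, sup_bot_eq, Submodule.map_span, ← Set.range_comp,
    map_smul] at h1
  exact (Submodule.smul_mem_iff_of_isUnit _
    (by rwa [IsLocalRing.mem_maximalIdeal, mem_nonunits_iff, not_not] at hcp)).mp h1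

end Groth.Agent.S6896
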