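import Groth.Statements.S6897
import Groth.Agent.H25.FittingLoc
import Mathlib.CategoryTheory.Abelian.Projective.Dimension
import Mathlib.Algebra.Category.ModuleCat.Projective
import Mathlib.Algebra.Category.ModuleCat.Ext.HasExt
import Mathlib.Algebra.Homology.ShortComplex.ModuleCat
-- import your own Groth.Agent.* helpers here

set_option autoImplicit false
universe u
open CategoryTheory
open Fitt

namespace Groth.Agent.S6897

/-- Let `M` be a finitely presented `R`-module and `k ≥ 0` such that `Fit_k(M) = (f)` for a
nonzerodivisor `f` and `Fit_{k-1}(M) = 0` (no condition when `k = 0`). Let `M' = Ker(f : M → M)`.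
Then: the projective dimension of `M` is at most `1`; `M'` coincides with the `f`-power torsion of
`M` and its projective dimension is at most `1`; every prime of `R` has a basic open neighbourhood
over which `M/M'` is free of rank `k`; and `M ≅ M/M' ⊕ M'` (existence of an isomorphism). -/
theorem result {R : Type u} [CommRing R] (M : Type u)
    [AddCommGroup M] [Module R M] [Module.FinitePresentation R M] (k : ℕ) (f : R) (hf0 : f ∈ nonZeroDivisors R)
    (hf : Fitt.ideal R M k = Ideal.span {f}) (hk : k = 0 ∨ Fitt.ideal R M (k - 1) = ⊥) :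
    HasProjectiveDimensionLT (ModuleCat.of R M) 2 ∧
    (∀ x : M, (∃ n : ℕ, f ^ n • x = 0) ↔ f • x = 0) ∧
    HasProjectiveDimensionLT (ModuleCat.of R ↥(LinearMap.ker (f • (LinearMap.id : M →ₗ[R] M)))) 2 ∧
    (∀ (p : Ideal R) [p.IsPrime], ∃ g : R, g ∉ p ∧
      Module.Free (Localization.Away g)
          (LocalizedModule (Submonoid.powers g) (M ⧸ LinearMap.ker (f • (LinearMap.id : M →ₗ[R] M)))) ∧
        Module.finrank (Localization.Away g)
          (LocalizedModule (Submonoid.powers g) (M ⧸ LinearMap.ker (f • (LinearMap.id : M →ₗ[R] M)))) = k) ∧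
    Nonempty (M ≃ₗ[R] (M ⧸ LinearMap.ker (f • (LinearMap.id : M →ₗ[R] M))) ×
      ↥(LinearMap.ker (f • (LinearMap.id : M →ₗ[R] M)))) := by
  open Groth.Agent.H25.Fitting CategoryTheory in
  have hP : Principal M k f := ⟨hf0, hf, fun j hj => by
    rcases hk with rfl | hk
    · omega
    · rwa [show j = k - 1 by omega]⟩
  set N := LinearMap.ker (f • (LinearMap.id : M →ₗ[R] M))
  have : Module.Projective R (M ⧸ N) := hP.projective_quot
  have pdProj : ∀ (X : Type u) [AddCommGroup X] [Module R X] [Module.Projective R X] (m : ℕ),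
      HasProjectiveDimensionLT (ModuleCat.of R X) (m + 1) := fun X _ _ _ m => by
    have : Projective (ModuleCat.of R X) := (IsProjective.iff_projective X).mp inferInstance
    exact hasProjectiveDimensionLT_of_ge _ 1 _ (by omega)
  obtain ⟨n, x, hx⟩ := Module.Finite.exists_fin (R := R) (M := M)
  have hsurj : Function.Surjective (Fintype.linearCombination R x) :=
    LinearMap.range_eq_top.mp (by rw [Fintype.range_linearCombination]; exact hx)
  have : Module.Finite R (rel (R := R) x) :=
    Module.Finite.iff_fg.mpr (Module.FinitePresentation.fg_ker _ hsurj)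
  have : Module.Projective R (rel (R := R) x) := hP.projective_rel x hx
  have hM : HasProjectiveDimensionLT (ModuleCat.of R M) 2 := by
    have hS := LinearMap.shortExact_shortComplexKer (f := Fintype.linearCombination R x) hsurj
    exact hS.hasProjectiveDimensionLT_X₃ 1 (pdProj (rel (R := R) x) 0) (pdProj (Fin n → R) 1)
  refine ⟨hM, hP.pow_smul_eq_zero_iff, ?_, fun p _ => hP.free_quot p, ?_⟩
  · have hS := LinearMap.shortExact_shortComplexKer (f := N.mkQ) N.mkQ_surjective
    have e : ModuleCat.of R (LinearMap.ker N.mkQ) ≅ ModuleCat.of R N :=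
      (LinearEquiv.ofEq _ _ N.ker_mkQ).toModuleIso
    have := hS.hasProjectiveDimensionLT_X₁ 2 hM (pdProj (M ⧸ N) 2)
    exact hasProjectiveDimensionLT_of_iso e 2
  · obtain ⟨s, hs⟩ := Module.projective_lifting_property N.mkQ LinearMap.id N.mkQ_surjective
    obtain ⟨e, -, -⟩ := ((LinearMap.exact_subtype_mkQ N).splitSurjectiveEquiv N.subtype_injective ⟨s, hs⟩)
    exact ⟨e.trans (LinearEquiv.prodComm _ _ _)⟩

end Groth.Agent.S6897
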