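import Groth.Statements.S6898
import Groth.Agent.H22.ProjMod
import Mathlib.RingTheory.Nakayama
import Mathlib.RingTheory.LocalRing.ResidueField.Basic

set_option autoImplicit false
universe u
open TensorProduct
open CAlg

namespace Groth.Agent.S6898

/-- Let `(A, 𝔪)` be a local ring and `u : M → N` a linear map between flat `A`-modules whose reduction
`M/𝔪M → N/𝔪N` is injective. If `I` is the content ideal of some `x ∈ M` (the least ideal `I` with `x
∈ IM`), then `I` is also the least ideal `J` with `u(x) ∈ J·N`. -/
theorem result {A : Type u} [CommRing A] [IsLocalRing A] {M N : Type u}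
    [AddCommGroup M] [Module A M] [Module.Flat A M] [AddCommGroup N] [Module A N] [Module.Flat A N] (u : M →ₗ[A] N)
    (hu : Function.Injective (u.baseChange (IsLocalRing.ResidueField A))) (x : M) (I : Ideal A)
    (hx : IsLeast {J : Ideal A | x ∈ J • (⊤ : Submodule A M)} I) :
    IsLeast {J : Ideal A | u x ∈ J • (⊤ : Submodule A N)} I := by
  classical
  let k := IsLocalRing.ResidueField A
  let 𝔪 := IsLocalRing.maximalIdeal A
  refine ⟨?_, fun J hJ => ?_⟩
  · have h : u x ∈ Submodule.map u (I • (⊤ : Submodule A M)) := Submodule.mem_map_of_mem hx.1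
    rw [Submodule.map_smul''] at h
    exact Submodule.smul_mono le_rfl le_top h
  have hfg : I.FG := by
    obtain ⟨s, hs, hxs⟩ : ∃ s : Finset A, Ideal.span (s : Set A) ≤ I ∧
        x ∈ Ideal.span (s : Set A) • (⊤ : Submodule A M) := by
      refine Submodule.smul_induction_on hx.1 (fun a ha m _ => ⟨{a}, ?_, ?_⟩) ?_
      · simpa [Ideal.span_le] using ha
      · exact Submodule.smul_mem_smul (Ideal.subset_span (by simp)) Submodule.mem_top
      · rintro y z ⟨s, hs, hy⟩ ⟨t, ht, hz⟩
        refine ⟨s ∪ t, ?_, add_mem (Submodule.smul_mono ?_ le_rfl hy)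
          (Submodule.smul_mono ?_ le_rfl hz)⟩
        · rw [Finset.coe_union, Ideal.span_union]
          exact sup_le hs ht
        · exact Ideal.span_mono (by simp)
        · exact Ideal.span_mono (by simp)
    exact ⟨s, le_antisymm hs (hx.2 hxs)⟩
  let J' : Ideal A := (J ⊓ I) ⊔ 𝔪 * I
  have hJ'I : J' ≤ I := sup_le inf_le_right Ideal.mul_le_right
  have hu' : u x ∈ J' • (⊤ : Submodule A N) := by
    have h : u x ∈ Submodule.map u (I • (⊤ : Submodule A M)) := Submodule.mem_map_of_mem hx.1
    rw [Submodule.map_smul''] at h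
    have h1 : u x ∈ (J • ⊤ : Submodule A N) ⊓ (I • ⊤) :=
      ⟨hJ, Submodule.smul_mono le_rfl le_top h⟩
    rw [H22.ProjMod.inf_smul_eq] at h1
    exact Submodule.smul_mono le_sup_left le_rfl h1
  suffices hxJ : x ∈ J' • (⊤ : Submodule A M) by
    have h1 : I ≤ J' := hx.2 hxJ
    have h2 : I ≤ J ⊓ I := Submodule.le_of_le_smul_of_le_jacobson_bot hfg
      (IsLocalRing.maximalIdeal_le_jacobson _) h1
    exact h2.trans inf_le_left
  have hmem : ∀ (K : Ideal A) {X : Type u} [AddCommGroup X] [Module A X] (y : X),
      y ∈ K • (⊤ : Submodule A X) ↔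
        ∃ z : K ⊗[A] X, TensorProduct.lid A X (K.subtype.rTensor X z) = y := by
    intro K X _ _ y
    constructor
    · intro hy
      refine Submodule.smul_induction_on hy (fun a ha m _ => ⟨(⟨a, ha⟩ : K) ⊗ₜ m, by simp⟩) ?_
      rintro a b ⟨z, rfl⟩ ⟨w, rfl⟩
      exact ⟨z + w, by rw [map_add, map_add]⟩
    · rintro ⟨z, rfl⟩
      induction z using TensorProduct.induction_on with
      | zero => simp
      | tmul a m => simpa using Submodule.smul_mem_smul a.2 Submodule.mem_top
      | add a b ha hb => rw [map_add, map_add]; exact add_mem ha hb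
  obtain ⟨z, hz⟩ := (hmem I x).1 hx.1
  obtain ⟨w, hw⟩ := (hmem J' (u x)).1 hu'
  let ι : J' →ₗ[A] I := Submodule.inclusion hJ'I
  let q : I →ₗ[A] I ⧸ LinearMap.range ι := (LinearMap.range ι).mkQ
  have hw' : ι.rTensor N w = u.lTensor I z := by
    refine Module.Flat.rTensor_preserves_injective_linearMap (M := N) I.subtype
      I.injective_subtype ((TensorProduct.lid A N).injective ?_)
    rw [← LinearMap.comp_apply, ← LinearMap.rTensor_comp, show I.subtype ∘ₗ ι = J'.subtype from rfl,
      hw, ← hz]
    clear hz hw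
    induction z using TensorProduct.induction_on with
    | zero => simp
    | tmul a m => simp
    | add a b ha hb => simp [ha, hb]
  have hq : Module.IsTorsionBySet A (I ⧸ LinearMap.range ι) (𝔪 : Set A) := by
    rintro y ⟨a, ha⟩
    obtain ⟨b, rfl⟩ := Submodule.mkQ_surjective _ y
    show a • (LinearMap.range ι).mkQ b = 0
    rw [← map_smul, Submodule.mkQ_apply, Submodule.Quotient.mk_eq_zero]
    exact ⟨⟨a * b.1, Submodule.mem_sup_right (Ideal.mul_mem_mul ha b.2)⟩, rfl⟩
  let : Module k (I ⧸ LinearMap.range ι) := hq.module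
  have : IsScalarTower A k (I ⧸ LinearMap.range ι) := hq.isScalarTower
  have hinj : Function.Injective (u.lTensor (I ⧸ LinearMap.range ι)) := by
    let eM := TensorProduct.AlgebraTensorModule.cancelBaseChange A k k (I ⧸ LinearMap.range ι) M
    let eN := TensorProduct.AlgebraTensorModule.cancelBaseChange A k k (I ⧸ LinearMap.range ι) N
    have hc : ∀ t, u.lTensor (I ⧸ LinearMap.range ι) (eM t) =
        eN ((u.baseChange k).lTensor (I ⧸ LinearMap.range ι) t) := by
      intro t
      induction t using TensorProduct.induction_on with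
      | zero => simp
      | tmul a b =>
        induction b using TensorProduct.induction_on with
        | zero => simp
        | tmul c m => simp [eM, eN]
        | add b c hb hc => simp only [TensorProduct.tmul_add, map_add, hb, hc]
      | add a b ha hb => simp only [map_add, ha, hb]
    intro a b hab
    obtain ⟨a, rfl⟩ := eM.surjective a
    obtain ⟨b, rfl⟩ := eM.surjective b
    rw [hc, hc] at hab
    exact congrArg eM (Module.Flat.lTensor_preserves_injective_linearMap _ hu (eN.injective hab))
  have h0 : q.rTensor M z = 0 := by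
    refine hinj ?_
    rw [map_zero, ← LinearMap.comp_apply, LinearMap.lTensor_comp_rTensor,
      ← LinearMap.rTensor_comp_lTensor, LinearMap.comp_apply, ← hw', ← LinearMap.comp_apply,
      ← LinearMap.rTensor_comp, LinearMap.range_mkQ_comp, LinearMap.rTensor_zero,
      LinearMap.zero_apply]
  obtain ⟨v, rfl⟩ := (rTensor_exact M (LinearMap.exact_map_mkQ_range ι)
    (Submodule.mkQ_surjective _) z).1 h0
  refine (hmem J' x).2 ⟨v, ?_⟩
  rw [← hz, ← LinearMap.comp_apply (I.subtype.rTensor M), ← LinearMap.rTensor_comp]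
  rfl

end Groth.Agent.S6898
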