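import Groth.Statements.S6899
import Groth.Agent.H48.MilGlue

set_option autoImplicit false
universe u
open TensorProduct
open EtAlg

namespace Groth.Agent.S6899

/-- Let `B' = B ×_A A'` be a fibre square of rings with `A' → A` surjective, and let `(N₁, M₁', φ₁) →
(N₂, M₂', φ₂)` be a morphism of glueing data (a `B`-linear `u : N₁ → N₂` and an `A'`-linear `v : M₁'
→ M₂'` compatible with the `φ_i`) with `u` and `v` surjective. Then the induced map of glued modules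
`N₁ ×_{φ₁} M₁' → N₂ ×_{φ₂} M₂'` is surjective. -/
theorem result (B' B A' A : Type u) [CommRing B'] [CommRing B] [CommRing A'] [CommRing A]
    [Algebra B' B] [Algebra B' A'] [Algebra B A] [Algebra A' A] [Algebra B' A] [IsScalarTower B' B A] [IsScalarTower B' A' A]
    (hsq : EtMil.IsFibreSquare B' B A' A)
    {N₁ N₂ M₁' M₂' : Type u} [AddCommGroup N₁] [Module B N₁] [Module B' N₁] [IsScalarTower B' B N₁]
    [AddCommGroup N₂] [Module B N₂] [Module B' N₂] [IsScalarTower B' B N₂]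
    [AddCommGroup M₁'] [Module A' M₁'] [Module B' M₁'] [IsScalarTower B' A' M₁']
    [AddCommGroup M₂'] [Module A' M₂'] [Module B' M₂'] [IsScalarTower B' A' M₂']
    (φ₁ : A ⊗[B] N₁ ≃ₗ[A] A ⊗[A'] M₁') (φ₂ : A ⊗[B] N₂ ≃ₗ[A] A ⊗[A'] M₂') (u : N₁ →ₗ[B] N₂) (v : M₁' →ₗ[A'] M₂')
    (hc : (v.baseChange A).comp φ₁.toLinearMap = φ₂.toLinearMap.comp (u.baseChange A))
    (hu : Function.Surjective u) (hv : Function.Surjective v) :
    ∀ y : N₂ × M₂', y ∈ EtMil.glue B' φ₂ → ∃ x : N₁ × M₁', x ∈ EtMil.glue B' φ₁ ∧ u x.1 = y.1 ∧ v x.2 = y.2 := by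
  rintro ⟨n₂, m₂⟩ hy
  obtain ⟨n₁, rfl⟩ := hu n₂
  obtain ⟨m₁, hm₁⟩ := Groth.Agent.H48.Mil.exists_one_tmul hsq.1 (φ₁ ((1 : A) ⊗ₜ[B] n₁))
  have h := LinearMap.congr_fun hc ((1 : A) ⊗ₜ[B] n₁)
  simp only [LinearMap.comp_apply, LinearEquiv.coe_coe, LinearMap.baseChange_tmul, ← hm₁] at h
  have hy' := Groth.Agent.H48.Mil.mem_glue.mp hy
  rw [← h] at hy'
  have hd : m₂ - v m₁ ∈ RingHom.ker (algebraMap A' A) • (⊤ : Submodule A' M₂') :=
    (Groth.Agent.H48.Mil.one_tmul_eq_zero_iff hsq.1 _).mp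
      (by rw [TensorProduct.tmul_sub, hy', sub_self])
  have key : ∃ d : M₁', v d = m₂ - v m₁ ∧ ((1 : A) ⊗ₜ[A'] d : A ⊗[A'] M₁') = 0 := by
    refine Submodule.smul_induction_on hd (fun i hi k _ => ?_) ?_
    · obtain ⟨k, rfl⟩ := hv k
      exact ⟨i • k, map_smul v i k, by
        rw [Groth.Agent.H48.Mil.one_tmul_algebraMap, RingHom.mem_ker.mp hi,
          TensorProduct.zero_tmul]⟩
    · rintro a b ⟨d, rfl, hd⟩ ⟨e, rfl, he⟩
      exact ⟨d + e, map_add v d e, by rw [TensorProduct.tmul_add, hd, he, add_zero]⟩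
  obtain ⟨d, hd₁, hd₂⟩ := key
  refine ⟨(n₁, m₁ + d), Groth.Agent.H48.Mil.mem_glue.mpr ?_, rfl, ?_⟩
  · rw [TensorProduct.tmul_add, hd₂, add_zero, hm₁]
  · simp [hd₁]

end Groth.Agent.S6899
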