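import Groth.Statements.S6900
import Groth.Agent.Lib.MilnorAlg.Descent

set_option autoImplicit false
universe u
open TensorProduct
open EtAlg

namespace Groth.Agent.S6900

open Groth.Agent.Lib.MilnorAlg TensorProduct in
theorem main {B' B A' D' D C' : Type u} [CommRing B'] [CommRing B] [CommRing A'] [CommRing D'] [CommRing D]
    [CommRing C'] [Algebra B' B] [Algebra B' A'] {A : Type u} [CommRing A] [Algebra B A] [Algebra A' A]
    [Algebra B' A] [IsScalarTower B' B A] [IsScalarTower B' A' A] (hsq : EtMil.IsFibreSquare B' B A' A)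
    [Algebra B' D'] [Algebra B D] [Algebra A' C']
    (eB : B ⊗[B'] D' ≃ₐ[B] D) (eA : A' ⊗[B'] D' ≃ₐ[A'] C') :
    (Algebra.FiniteType B' D' ↔ Algebra.FiniteType B D ∧ Algebra.FiniteType A' C') ∧
    (Module.Flat B' D' ↔ Module.Flat B D ∧ Module.Flat A' C') ∧
    (Module.Flat B' D' ∧ Algebra.FinitePresentation B' D' ↔
      (Module.Flat B D ∧ Algebra.FinitePresentation B D) ∧ (Module.Flat A' C' ∧ Algebra.FinitePresentation A' C')) ∧
    (Algebra.Smooth B' D' ↔ Algebra.Smooth B D ∧ Algebra.Smooth A' C') ∧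
    (Algebra.Etale B' D' ↔ Algebra.Etale B D ∧ Algebra.Etale A' C') := by
  refine ⟨⟨fun h => ?_, fun ⟨h₁, h₂⟩ => ?_⟩, ⟨fun h => ?_, fun ⟨h₁, h₂⟩ => ?_⟩,
    ⟨fun ⟨h, h'⟩ => ?_, fun ⟨⟨h₁, h₁'⟩, h₂, h₂'⟩ => ?_⟩, ⟨fun h => ?_, fun ⟨h₁, h₂⟩ => ?_⟩,
    ⟨fun h => ?_, fun ⟨h₁, h₂⟩ => ?_⟩⟩
  · exact ⟨Algebra.FiniteType.equiv inferInstance eB, Algebra.FiniteType.equiv inferInstance eA⟩
  · haveI := Algebra.FiniteType.equiv h₁ eB.symm
    haveI := Algebra.FiniteType.equiv h₂ eA.symm
    exact Descent.finiteType hsq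
  · exact ⟨Module.Flat.of_linearEquiv eB.symm.toLinearEquiv, Module.Flat.of_linearEquiv eA.symm.toLinearEquiv⟩
  · haveI := Module.Flat.of_linearEquiv eB.toLinearEquiv
    haveI := Module.Flat.of_linearEquiv eA.toLinearEquiv
    exact Groth.Agent.H48.Mil.flat_of_baseChange hsq D'
  · exact ⟨⟨Module.Flat.of_linearEquiv eB.symm.toLinearEquiv, Algebra.FinitePresentation.equiv eB⟩,
      Module.Flat.of_linearEquiv eA.symm.toLinearEquiv, Algebra.FinitePresentation.equiv eA⟩
  · haveI := Module.Flat.of_linearEquiv eB.toLinearEquiv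
    haveI := Module.Flat.of_linearEquiv eA.toLinearEquiv
    haveI := Algebra.FinitePresentation.equiv eB.symm
    haveI := Algebra.FinitePresentation.equiv eA.symm
    exact ⟨Groth.Agent.H48.Mil.flat_of_baseChange hsq D', Descent.finitePresentation hsq⟩
  · exact ⟨Algebra.Smooth.of_equiv eB, Algebra.Smooth.of_equiv eA⟩
  · haveI := Algebra.Smooth.of_equiv eB.symm
    haveI := Algebra.Smooth.of_equiv eA.symm
    exact Descent.smooth hsq
  · exact ⟨Algebra.Etale.of_equiv eB, Algebra.Etale.of_equiv eA⟩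
  · haveI := Algebra.Etale.of_equiv eB.symm
    haveI := Algebra.Etale.of_equiv eA.symm
    exact Descent.etale hsq

/-- Let `B' = B ×_A A'` be a fibre square of rings with `A' → A` surjective. Let `D` be a `B`-algebra
and `C'` an `A'`-algebra with a common base change `C = D ⊗_B A = C' ⊗_{A'} A`, and let `D' = D ×_C
C'` be the fibre product ring with its `B'`-algebra structure. Then `B' → D'` is of finite type
(resp. flat, resp. flat and of finite presentation, resp. smooth, resp. étale) if and only if `B →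
D` and `A' → C'` both are. -/
theorem result (B' B A' A : Type u) [CommRing B'] [CommRing B] [CommRing A'] [CommRing A]
    [Algebra B' B] [Algebra B' A'] [Algebra B A] [Algebra A' A] [Algebra B' A] [IsScalarTower B' B A] [IsScalarTower B' A' A]
    (hsq : EtMil.IsFibreSquare B' B A' A)
    (D' D C' C : Type u) [CommRing D'] [CommRing D] [CommRing C'] [CommRing C]
    [Algebra D' D] [Algebra D' C'] [Algebra D C] [Algebra C' C] [Algebra D' C] [IsScalarTower D' D C] [IsScalarTower D' C' C]
    (hsq' : EtMil.IsFibreSquare D' D C' C)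
    [Algebra B' D'] [Algebra B D] [Algebra A' C'] [Algebra A C]
    [Algebra B' D] [IsScalarTower B' B D] [IsScalarTower B' D' D]
    [Algebra B' C'] [IsScalarTower B' A' C'] [IsScalarTower B' D' C']
    [Algebra B C] [IsScalarTower B A C] [IsScalarTower B D C]
    [Algebra A' C] [IsScalarTower A' A C] [IsScalarTower A' C' C]
    [Algebra.IsPushout B D A C] [Algebra.IsPushout A' C' A C] :
    (Algebra.FiniteType B' D' ↔ Algebra.FiniteType B D ∧ Algebra.FiniteType A' C') ∧
    (Module.Flat B' D' ↔ Module.Flat B D ∧ Module.Flat A' C') ∧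
    (Module.Flat B' D' ∧ Algebra.FinitePresentation B' D' ↔
      (Module.Flat B D ∧ Algebra.FinitePresentation B D) ∧ (Module.Flat A' C' ∧ Algebra.FinitePresentation A' C')) ∧
    (Algebra.Smooth B' D' ↔ Algebra.Smooth B D ∧ Algebra.Smooth A' C') ∧
    (Algebra.Etale B' D' ↔ Algebra.Etale B D ∧ Algebra.Etale A' C') := by
  let φ : A ⊗[B] D ≃ₗ[A] A ⊗[A'] C' :=
    haveI : Algebra.IsPushout B A D C := Algebra.IsPushout.symm ‹Algebra.IsPushout B D A C›
    haveI : Algebra.IsPushout A' A C' C := Algebra.IsPushout.symm ‹Algebra.IsPushout A' C' A C›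
    (Algebra.IsPushout.equiv B A D C).toLinearEquiv.trans (Algebra.IsPushout.equiv A' A C' C).toLinearEquiv.symm
  have hmem : ∀ (d : D) (c : C'), (d, c) ∈ EtMil.glue B' φ ↔ algebraMap D C d = algebraMap C' C c := by
    intro d c
    haveI : Algebra.IsPushout B A D C := Algebra.IsPushout.symm ‹Algebra.IsPushout B D A C›
    haveI : Algebra.IsPushout A' A C' C := Algebra.IsPushout.symm ‹Algebra.IsPushout A' C' A C›
    show φ ((1 : A) ⊗ₜ[B] d) = (1 : A) ⊗ₜ[A'] c ↔ _
    simp only [φ, LinearEquiv.trans_apply, AlgEquiv.toLinearEquiv_apply, LinearEquiv.symm_apply_eq,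
      Algebra.IsPushout.equiv_tmul, map_one, one_mul]
  let ψ : D' →ₗ[B'] EtMil.glue B' φ :=
    LinearMap.codRestrict _ ((IsScalarTower.toAlgHom B' D' D).toLinearMap.prod (IsScalarTower.toAlgHom B' D' C').toLinearMap)
      fun z => (hmem _ _).2 (by
        show algebraMap D C (algebraMap D' D z) = algebraMap C' C (algebraMap D' C' z)
        rw [← IsScalarTower.algebraMap_apply, ← IsScalarTower.algebraMap_apply])
  have hψ : Function.Bijective ψ := by
    refine ⟨fun x y hxy => ?_, fun ⟨⟨d, c⟩, hdc⟩ => ?_⟩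
    · have h := congrArg Subtype.val hxy
      obtain ⟨h1, h2⟩ := Prod.mk.inj h
      obtain ⟨z, -, huniq⟩ := hsq'.2 (algebraMap D' D x) (algebraMap D' C' x) (by
        rw [← IsScalarTower.algebraMap_apply, ← IsScalarTower.algebraMap_apply])
      exact (huniq x ⟨rfl, rfl⟩).trans (huniq y ⟨h1.symm, h2.symm⟩).symm
    · obtain ⟨z, ⟨hz1, hz2⟩, -⟩ := hsq'.2 d c ((hmem d c).1 hdc)
      exact ⟨z, Subtype.ext (Prod.ext hz1 hz2)⟩
  let e := LinearEquiv.ofBijective ψ hψ
  let fB : B ⊗[B'] D' →ₐ[B] D :=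
    Algebra.TensorProduct.lift (Algebra.ofId B D) (IsScalarTower.toAlgHom B' D' D) fun _ _ => Commute.all _ _
  let fA : A' ⊗[B'] D' →ₐ[A'] C' :=
    Algebra.TensorProduct.lift (Algebra.ofId A' C') (IsScalarTower.toAlgHom B' D' C') fun _ _ => Commute.all _ _
  have hB : Function.Bijective fB := by
    have h := (Groth.Agent.H48.Mil.bijective_glueFst hsq φ).comp (LinearEquiv.lTensor B e).bijective
    convert h using 1
    funext x
    induction x using TensorProduct.induction_on with
    | zero => simp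
    | tmul b z => simp [fB, e, ψ, EtMil.glueFst, Algebra.smul_def] <;> rfl
    | add a b ha hb => simp only [Function.comp_apply, map_add] at ha hb ⊢; rw [ha, hb]
  have hA : Function.Bijective fA := by
    have h := (Groth.Agent.H48.Mil.bijective_glueSnd hsq φ).comp (LinearEquiv.lTensor A' e).bijective
    convert h using 1
    funext x
    induction x using TensorProduct.induction_on with
    | zero => simp
    | tmul b z => simp [fA, e, ψ, EtMil.glueSnd, Algebra.smul_def] <;> rfl
    | add a b ha hb => simp only [Function.comp_apply, map_add] at ha hb ⊢; rw [ha, hb]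
  exact main hsq (AlgEquiv.ofBijective fB hB) (AlgEquiv.ofBijective fA hA)

end Groth.Agent.S6900
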