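import Groth.Statements.S6902
import Groth.Agent.Lib.DR.KFlat

set_option autoImplicit false
universe u
open CategoryTheory CategoryTheory.Limits MonoidalCategory
open DRing

open Groth.Agent.Lib.DR.Basic Groth.Agent.Lib.DR.FiniteComplex Groth.Agent.Lib.DR.PseudoCoherent Groth.Agent.Lib.DR.TopCohomology
open CategoryTheory CategoryTheory.Limits CategoryTheory.Pretriangulated HomologicalComplex MonoidalCategory
open Groth.Agent.Lib.DR Groth.Agent.Lib.DerivedOX

namespace Groth.Agent.S6902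

/-- Let `0 → K₁• → K₂• → K₃• → 0` be a short exact sequence of complexes of `R`-modules such that every
term `K₃^n` is flat. If two out of the three complexes are K-flat, so is the third. -/
theorem result (R : Type u) [CommRing R] (S : ShortComplex (DRing.Cx R))
    (hS : S.ShortExact) (h3 : DRing.TermwiseFlat S.X₃) :
    (((∀ L : DRing.Cx R, (∀ i : ℤ, IsZero (L.homology i)) → ∀ i : ℤ, IsZero ((L ⊗ S.X₁).homology i))) → ((∀ L : DRing.Cx R, (∀ i : ℤ, IsZero (L.homology i)) → ∀ i : ℤ, IsZero ((L ⊗ S.X₂).homology i))) → (∀ L : DRing.Cx R, (∀ i : ℤ, IsZero (L.homology i)) → ∀ i : ℤ, IsZero ((L ⊗ S.X₃).homology i))) ∧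
    (((∀ L : DRing.Cx R, (∀ i : ℤ, IsZero (L.homology i)) → ∀ i : ℤ, IsZero ((L ⊗ S.X₁).homology i))) → ((∀ L : DRing.Cx R, (∀ i : ℤ, IsZero (L.homology i)) → ∀ i : ℤ, IsZero ((L ⊗ S.X₃).homology i))) → (∀ L : DRing.Cx R, (∀ i : ℤ, IsZero (L.homology i)) → ∀ i : ℤ, IsZero ((L ⊗ S.X₂).homology i))) ∧
    (((∀ L : DRing.Cx R, (∀ i : ℤ, IsZero (L.homology i)) → ∀ i : ℤ, IsZero ((L ⊗ S.X₂).homology i))) → ((∀ L : DRing.Cx R, (∀ i : ℤ, IsZero (L.homology i)) → ∀ i : ℤ, IsZero ((L ⊗ S.X₃).homology i))) → (∀ L : DRing.Cx R, (∀ i : ℤ, IsZero (L.homology i)) → ∀ i : ℤ, IsZero ((L ⊗ S.X₁).homology i))) := by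
  exact Groth.Agent.Lib.DR.KFlat.two_of_three hS (Groth.Agent.Lib.DR.KFlat.mono_obj_map_of_flat₃ hS h3)

end Groth.Agent.S6902
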