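import Groth.Statements.S6903
import Groth.Agent.Lib.DR.KFlatPure

set_option autoImplicit false
universe u
open CategoryTheory CategoryTheory.Limits MonoidalCategory
open DRing

open Groth.Agent.Lib.DR.Basic Groth.Agent.Lib.DR.FiniteComplex Groth.Agent.Lib.DR.PseudoCoherent Groth.Agent.Lib.DR.TopCohomology
open CategoryTheory CategoryTheory.Limits CategoryTheory.Pretriangulated HomologicalComplex MonoidalCategory
open Groth.Agent.Lib.DR Groth.Agent.Lib.DerivedOX

namespace Groth.Agent.S6903

/-- A filtered colimit of K-flat complexes of `R`-modules is K-flat. -/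
theorem result (R : Type u) [CommRing R] (J : Type u) [SmallCategory J] [IsFiltered J]
    (F : J ⥤ DRing.Cx R) (hF : ∀ j : J, (∀ L : DRing.Cx R, (∀ i : ℤ, IsZero (L.homology i)) → ∀ i : ℤ, IsZero ((L ⊗ F.obj j).homology i))) :
    (∀ L : DRing.Cx R, (∀ i : ℤ, IsZero (L.homology i)) → ∀ i : ℤ, IsZero ((L ⊗ colimit F).homology i)) := by
  exact fun L hL => (Groth.Agent.Lib.DR.KFlat.acyclic_iff _).2 (by
    have hL' := (Groth.Agent.Lib.DR.KFlat.acyclic_iff L).1 hL
    have := hF
    exact KFlatPure.acyclic_of_isColimit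
      (isColimitOfPreserves ((Groth.Agent.Lib.DR.KFlat.tcx R).obj L) (colimit.isColimit F))
      fun j => (Groth.Agent.Lib.DR.KFlat.isKFlat_iff _).1 (hF j) L hL')

end Groth.Agent.S6903
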