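import Groth.Statements.S6904
import Groth.Agent.Lib.DR.KFlatPure

set_option autoImplicit false
universe u
open CategoryTheory CategoryTheory.Limits MonoidalCategory
open DRing

open Groth.Agent.Lib.DR.Basic Groth.Agent.Lib.DR.FiniteComplex Groth.Agent.Lib.DR.PseudoCoherent Groth.Agent.Lib.DR.TopCohomology
open CategoryTheory CategoryTheory.Limits CategoryTheory.Pretriangulated HomologicalComplex MonoidalCategory
open Groth.Agent.Lib.DR Groth.Agent.Lib.DerivedOX

namespace Groth.Agent.S6904

/-- Let `K•` be a complex of `R`-modules such that `K• ⊗_R M` is acyclic for every finitely presented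
`R`-module `M`. Then `K•` is K-flat. -/
theorem result (R : Type u) [CommRing R] (K : DRing.Cx R)
    (hK : ∀ (M : Type u) [AddCommGroup M] [Module R M], Module.FinitePresentation R M →
      (∀ i : ℤ, IsZero ((DRing.tensorCx K (ModuleCat.of R M)).homology i))) :
    (∀ L : DRing.Cx R, (∀ i : ℤ, IsZero (L.homology i)) → ∀ i : ℤ, IsZero ((L ⊗ K).homology i)) := by
  intro L _ i
  refine KFlatPure.acyclic_tens_of_pure K (fun M _ _ i j k hij hjk => ?_) L i
  refine KFlatPure.exact_lTensor_of_fp _ _ (congrArg ModuleCat.Hom.hom (K.d_comp_d i j k))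
    (fun N _ _ hN => ?_) M
  have h := (Groth.Agent.Lib.DR.KFlat.acyclic_iff _).1 (hK N hN) j
  rw [HomologicalComplex.exactAt_iff' _ i j k (by simp; lia) (by simp; lia),
    ShortComplex.ShortExact.moduleCat_exact_iff_function_exact] at h
  exact (Function.Exact.iff_of_ladder_linearEquiv (e₁ := TensorProduct.comm R (K.X i) N)
    (e₂ := TensorProduct.comm R (K.X j) N) (e₃ := TensorProduct.comm R (K.X k) N)
    (TensorProduct.ext' fun _ _ => rfl) (TensorProduct.ext' fun _ _ => rfl)).2 h

end Groth.Agent.S6904
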