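import Groth.Statements.S6905
import Groth.Agent.Lib.DR.KFlat

set_option autoImplicit false
universe u
open CategoryTheory CategoryTheory.Limits MonoidalCategory
open DRing

open Groth.Agent.Lib.DR.Basic Groth.Agent.Lib.DR.FiniteComplex Groth.Agent.Lib.DR.PseudoCoherent Groth.Agent.Lib.DR.TopCohomology
open CategoryTheory CategoryTheory.Limits CategoryTheory.Pretriangulated HomologicalComplex MonoidalCategory
open Groth.Agent.Lib.DR Groth.Agent.Lib.DerivedOX

namespace Groth.Agent.S6905

/-- For every complex `M•` of `R`-modules there is a K-flat complex `K•` with flat terms together with a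
degreewise surjective quasi-isomorphism `K• → M•`. -/
theorem result (R : Type u) [CommRing R] (M : DRing.Cx R) :
    ∃ (K : DRing.Cx R) (f : K ⟶ M), (∀ L : DRing.Cx R, (∀ i : ℤ, IsZero (L.homology i)) → ∀ i : ℤ, IsZero ((L ⊗ K).homology i)) ∧
      DRing.TermwiseFlat K ∧ QuasiIso f ∧ ∀ i : ℤ, Function.Surjective (f.f i) := by
  refine ⟨_, (KProjRes.aug R).app M, Groth.Agent.Lib.DR.KFlat.isKFlat_res M, Groth.Agent.Lib.DR.KFlat.flat_of_cof (LeftRes.cof_resolution M),
    KProjRes.quasiIso_aug R M, fun i => ?_⟩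
  exact (ModuleCat.epi_iff_surjective _).1 (KProjRes.epi_aug R M i)

end Groth.Agent.S6905
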