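import Groth.Statements.S6908
import Groth.Agent.Lib.DR.KFlatTri

set_option autoImplicit false
universe u
open CategoryTheory CategoryTheory.Limits MonoidalCategory
open DRing

open Groth.Agent.Lib.DR.Basic Groth.Agent.Lib.DR.FiniteComplex Groth.Agent.Lib.DR.PseudoCoherent Groth.Agent.Lib.DR.TopCohomology
open CategoryTheory CategoryTheory.Limits CategoryTheory.Pretriangulated MonoidalCategory
open Groth.Agent.Lib.DR

namespace Groth.Agent.S6908

/-- For a morphism `a : K• → L•` of complexes of `R`-modules with `K•` K-flat, there are a K-flat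
complex `N•`, maps `b : K• → N•` and `c : N• → L•` with `c` a quasi-isomorphism and `a` homotopic to
`c ∘ b`; if the terms of `K•` are flat, `N•` may be chosen with flat terms as well. -/
theorem result (R : Type u) [CommRing R] (K L : DRing.Cx R) (a : K ⟶ L)
    (hK : (∀ L : DRing.Cx R, (∀ i : ℤ, IsZero (L.homology i)) → ∀ i : ℤ, IsZero ((L ⊗ K).homology i))) :
    (∃ (N : DRing.Cx R) (b : K ⟶ N) (c : N ⟶ L), (∀ L : DRing.Cx R, (∀ i : ℤ, IsZero (L.homology i)) → ∀ i : ℤ, IsZero ((L ⊗ N).homology i)) ∧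
      QuasiIso c ∧ Nonempty (Homotopy a (b ≫ c))) ∧
    (DRing.TermwiseFlat K → ∃ (N : DRing.Cx R) (b : K ⟶ N) (c : N ⟶ L), (∀ L : DRing.Cx R, (∀ i : ℤ, IsZero (L.homology i)) → ∀ i : ℤ, IsZero ((L ⊗ N).homology i)) ∧
      DRing.TermwiseFlat N ∧ QuasiIso c ∧ Nonempty (Homotopy a (b ≫ c))) := by
  obtain ⟨N, b, c, hN, hc, hbc, hf⟩ := KFlatTri.exists_factor a hK
  exact ⟨⟨N, b, c, hN, hc, ⟨Homotopy.ofEq hbc.symm⟩⟩,
    fun h => ⟨N, b, c, hN, hf h, hc, ⟨Homotopy.ofEq hbc.symm⟩⟩⟩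

end Groth.Agent.S6908
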