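import Groth.Statements.S6910
import Groth.Agent.H25.CongAR
-- import your own Groth.Agent.* helpers here

set_option autoImplicit false
universe u
open CAlg

namespace Groth.Agent.S6910

/-- Let `A` be a Noetherian ring, `I ⊆ A` an ideal inside the Jacobson radical, and `L → M → N` two
complexes `(f, g)` and `(f', g')` of finite `A`-modules with `f' ≡ f` modulo `I^{c+1}M` and `g' ≡ g`
modulo `I^{c+1}N`, such that the Artin–Rees bound holds with constant `c` for both `f` and `g`, and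
`(f, g)` is exact. Then for every `n` the submodules `I^{n+1}N + g(M) ∩ IⁿN` and `I^{n+1}N + g'(M) ∩
IⁿN` of `N` are equal; consequently the associated graded modules of `Coker g` and `Coker g'` with
respect to `I` coincide degreewise as subquotients of `N`. -/
theorem result {A : Type u} [CommRing A] [IsNoetherianRing A] (I : Ideal A)
    (hI : I ≤ Ideal.jacobson (⊥ : Ideal A)) {L M N : Type u} [AddCommGroup L] [Module A L] [Module.Finite A L]
    [AddCommGroup M] [Module A M] [Module.Finite A M] [AddCommGroup N] [Module A N] [Module.Finite A N]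
    (f f' : L →ₗ[A] M) (g g' : M →ₗ[A] N) (c : ℕ) (hgf : g.comp f = 0) (hgf' : g'.comp f' = 0)
    (hf : (∀ n : ℕ, c ≤ n → LinearMap.range f ⊓ (I ^ n • (⊤ : Submodule A M)) ≤ Submodule.map f (I ^ (n - c) • (⊤ : Submodule A L))))
    (hg : (∀ n : ℕ, c ≤ n → LinearMap.range g ⊓ (I ^ n • (⊤ : Submodule A N)) ≤ Submodule.map g (I ^ (n - c) • (⊤ : Submodule A M))))
    (hex : Function.Exact f g)
    (hff' : ∀ x : L, f x - f' x ∈ I ^ (c + 1) • (⊤ : Submodule A M))
    (hgg' : ∀ y : M, g y - g' y ∈ I ^ (c + 1) • (⊤ : Submodule A N)) (n : ℕ) :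
    I ^ (n + 1) • (⊤ : Submodule A N) ⊔ (LinearMap.range g ⊓ I ^ n • (⊤ : Submodule A N)) =
      I ^ (n + 1) • (⊤ : Submodule A N) ⊔ (LinearMap.range g' ⊓ I ^ n • (⊤ : Submodule A N)) := by
  have key : ∀ (g₁ g₂ : M →ₗ[A] N),
      (∀ y : M, g₁ y - g₂ y ∈ I ^ (c + 1) • (⊤ : Submodule A N)) →
      (∀ n, c ≤ n → LinearMap.range g₁ ⊓ (I ^ n • (⊤ : Submodule A N)) ≤ Submodule.map g₁ (I ^ (n - c) • (⊤ : Submodule A M))) →
      I ^ (n + 1) • (⊤ : Submodule A N) ⊔ (LinearMap.range g₁ ⊓ I ^ n • (⊤ : Submodule A N)) ≤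
        I ^ (n + 1) • (⊤ : Submodule A N) ⊔ (LinearMap.range g₂ ⊓ I ^ n • (⊤ : Submodule A N)) := by
    intro g₁ g₂ hd hb
    refine sup_le le_sup_left ?_
    rintro y ⟨⟨x, rfl⟩, hy⟩
    obtain ⟨x', hx', he⟩ : ∃ x', g₁ x' - g₂ x' ∈ I ^ (n + 1) • (⊤ : Submodule A N) ∧ g₁ x' = g₁ x := by
      rcases le_or_gt c n with h | h
      · obtain ⟨x', hx', he⟩ := hb n h ⟨⟨x, rfl⟩, hy⟩
        exact ⟨x', Groth.Agent.H25.CongAR.pow_mono (by omega) (Groth.Agent.H25.CongAR.sub_mem hd hx'), he⟩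
      · exact ⟨x, Groth.Agent.H25.CongAR.pow_mono (by omega) (hd x), rfl⟩
    rw [← he, show g₁ x' = (g₁ x' - g₂ x') + g₂ x' by abel]
    refine Submodule.add_mem_sup hx' ⟨⟨x', rfl⟩, ?_⟩
    rw [show g₂ x' = g₁ x' - (g₁ x' - g₂ x') by abel]
    exact Submodule.sub_mem _ (by rw [he]; exact hy) (Groth.Agent.H25.CongAR.pow_mono (Nat.le_succ n) hx')
  refine le_antisymm (key g g' hgg' hg) (key g' g (fun y => ?_)
    (fun n hn => Groth.Agent.H25.CongAR.bound hgf' hf hg hex hff' hgg' n hn))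
  rw [← neg_sub]
  exact Submodule.neg_mem _ (hgg' y)

end Groth.Agent.S6910
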