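import Groth.Statements.S6911
import Mathlib.RingTheory.Flat.Basic

set_option autoImplicit false
universe u
open TensorProduct
open CAlg

namespace Groth.Agent.S6911

/-- Let `A → B` be a flat map of Noetherian rings, `I ⊆ A` an ideal and `f : M → N` a map of finite
`A`-modules such that `c` works for `f` in the Artin–Rees lemma (`f(M) ∩ IⁿN ⊆ f(I^{n-c}M)` for `n ≥
c`). Then `c` works for `f ⊗ 1 : M ⊗_A B → N ⊗_A B` and the ideal `IB`. -/
theorem result {A B : Type u} [CommRing A] [IsNoetherianRing A] [CommRing B]
    [IsNoetherianRing B] [Algebra A B] [Module.Flat A B] (I : Ideal A) {M N : Type u} [AddCommGroup M] [Module A M]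
    [Module.Finite A M] [AddCommGroup N] [Module A N] [Module.Finite A N] (f : M →ₗ[A] N) (c : ℕ)
    (hf : (∀ n : ℕ, c ≤ n → LinearMap.range f ⊓ (I ^ n • (⊤ : Submodule A N)) ≤ Submodule.map f (I ^ (n - c) • (⊤ : Submodule A M)))) :
    ∀ n : ℕ, c ≤ n →
      LinearMap.range (f.baseChange B) ⊓ ((I.map (algebraMap A B)) ^ n • (⊤ : Submodule B (B ⊗[A] N))) ≤
        Submodule.map (f.baseChange B) ((I.map (algebraMap A B)) ^ (n - c) • (⊤ : Submodule B (B ⊗[A] M))) := by
  intro n hn
  rintro z ⟨⟨w, rfl⟩, hz⟩
  let K := I ^ n • (⊤ : Submodule A N)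
  let q : M →ₗ[A] N ⧸ K := K.mkQ ∘ₗ f
  have hmem : ∀ (J : Ideal A) (b : B) {X : Type u} [AddCommGroup X] [Module A X] (m : X),
      m ∈ J • (⊤ : Submodule A X) →
        b ⊗ₜ[A] m ∈ J.map (algebraMap A B) • (⊤ : Submodule B (B ⊗[A] X)) := by
    intro J b X _ _ m hm
    induction hm using Submodule.smul_induction_on' with
    | smul a ha x _ =>
      rw [TensorProduct.tmul_smul, ← algebraMap_smul B a (b ⊗ₜ[A] x)]
      exact Submodule.smul_mem_smul (Ideal.mem_map_of_mem _ ha) Submodule.mem_top
    | add x _ y _ hx hy => rw [TensorProduct.tmul_add]; exact add_mem hx hy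
  have hkill : ∀ y ∈ (I.map (algebraMap A B)) ^ n • (⊤ : Submodule B (B ⊗[A] N)),
      K.mkQ.baseChange B y = 0 := by
    rw [← Ideal.map_pow, Ideal.map]
    intro y hy
    induction hy using Submodule.smul_induction_on' with
    | smul c hc x hx =>
      clear hx
      rw [map_smul]
      induction hc using Submodule.span_induction with
      | mem c hc =>
        obtain ⟨a, ha, rfl⟩ := hc
        rw [algebraMap_smul]
        induction x using TensorProduct.induction_on with
        | zero => simp
        | tmul b m =>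
          rw [LinearMap.baseChange_tmul, ← TensorProduct.tmul_smul, ← map_smul,
            show K.mkQ (a • m) = 0 from (Submodule.Quotient.mk_eq_zero K).2
              (Submodule.smul_mem_smul ha Submodule.mem_top), TensorProduct.tmul_zero]
        | add x y hx hy => rw [map_add, smul_add, hx, hy, add_zero]
      | zero => rw [zero_smul]
      | add c d _ _ hc hd => rw [add_smul, hc, hd, add_zero]
      | smul c d _ hd => rw [smul_eq_mul, mul_smul, hd, smul_zero]
    | add x _ y _ hx hy => rw [map_add, hx, hy, add_zero]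
  have hq : q.baseChange B w = 0 := by
    rw [LinearMap.baseChange_comp]
    exact hkill _ hz
  obtain ⟨u, rfl⟩ := ((Module.Flat.lTensor_exact B q.exact_subtype_ker_map) w).1 hq
  clear hz hq
  induction u using TensorProduct.induction_on with
  | zero => simp
  | tmul b m =>
    have hm : f m.1 ∈ K := by
      rw [← Submodule.Quotient.mk_eq_zero]
      exact m.2
    obtain ⟨m', hm', he⟩ := hf n hn ⟨LinearMap.mem_range_self f m.1, hm⟩
    refine ⟨b ⊗ₜ m', ?_, ?_⟩
    · rw [← Ideal.map_pow]
      exact hmem _ b m' hm'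
    · simp [he]
  | add x y hx hy =>
    rw [map_add, map_add]
    exact add_mem hx hy

end Groth.Agent.S6911
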