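import Groth.Statements.S6913
import Groth.Agent.H22.TFree
import Mathlib.RingTheory.Localization.Module
import Mathlib.Algebra.Module.LocalizedModule.Basic

set_option autoImplicit false
universe u
open CAlg

namespace Groth.Agent.S6913

/-- Let `R` be a domain and `M` a finite `R`-module, of (finite) rank `r`. Then: some linear map `M →
R^r` has torsion kernel and torsion cokernel; some nonzero `f ∈ R` makes `M_f` free of rank `r` over
`R_f`; and some injective linear map `R^r → M` has torsion cokernel. -/
theorem result (R : Type u) [CommRing R] [IsDomain R] (M : Type u) [AddCommGroup M]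
    [Module R M] [Module.Finite R M] :
    (∃ h : M →ₗ[R] (Fin (Module.finrank R M) → R),
      (∀ x : M, h x = 0 → ∃ c : R, c ≠ 0 ∧ c • x = 0) ∧
      (∀ y : Fin (Module.finrank R M) → R, ∃ c : R, c ≠ 0 ∧ c • y ∈ LinearMap.range h)) ∧
    (∃ f : R, f ≠ 0 ∧ Module.Free (Localization.Away f) (LocalizedModule (Submonoid.powers f) M) ∧
      Module.finrank (Localization.Away f) (LocalizedModule (Submonoid.powers f) M) = Module.finrank R M) ∧
    (∃ g : (Fin (Module.finrank R M) → R) →ₗ[R] M, Function.Injective g ∧
      ∀ x : M, ∃ c : R, c ≠ 0 ∧ c • x ∈ LinearMap.range g) := by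
  classical
  obtain ⟨n, v, j, a, ha, hv, hvj, hjv⟩ := H22.TFree.exists_squeeze (R := R) M
  have hn : Module.finrank R M = n := by
    refine Module.finrank_eq_of_rank_eq (le_antisymm ?_ ?_)
    · rw [Module.rank_def]
      refine ciSup_le' fun ⟨s, hs⟩ => ?_
      have hli : LinearIndependent R fun i : s => j i.1 := by
        rw [linearIndependent_iff']
        intro t c hc i hi
        have h1 := congrArg v hc
        simp only [map_sum, map_smul, map_zero, hvj, smul_smul] at h1
        have h2 := linearIndependent_iff'.1 hs t (fun i => c i * a) h1 i hi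
        exact (mul_eq_zero.1 h2).resolve_right ha
      refine hli.cardinal_le_rank.trans ?_
      rw [rank_fin_fun]
    · have h := LinearMap.rank_le_of_injective v hv
      rwa [rank_fin_fun] at h
  rw [hn]
  refine ⟨⟨j, fun x hx => ⟨a, ha, by rw [← hvj, hx, map_zero]⟩,
    fun y => ⟨a, ha, v y, hjv y⟩⟩, ?_, ⟨v, hv, fun x => ⟨a, ha, j x, hvj x⟩⟩⟩
  have : Nontrivial (Localization.Away a) :=
    (IsLocalization.injective (Localization.Away a)
      (powers_le_nonZeroDivisors_of_noZeroDivisors ha)).nontrivial
  let mkM := LocalizedModule.mkLinearMap (Submonoid.powers a) M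
  have hu : IsUnit (algebraMap R (Localization.Away a) a) :=
    IsLocalization.map_units _ (⟨a, Submonoid.mem_powers a⟩ : Submonoid.powers a)
  have hli : LinearIndependent R (v ∘ fun i : Fin n => Pi.single i (1 : R)) :=
    (Pi.linearIndependent_single_one (Fin n) R).map' v (LinearMap.ker_eq_bot.2 hv)
  have hli' := hli.of_isLocalizedModule (Localization.Away a) (Submonoid.powers a) mkM
  have hsp : ⊤ ≤ Submodule.span (Localization.Away a)
      (Set.range (mkM ∘ (v ∘ fun i : Fin n => Pi.single i (1 : R)))) := by
    rintro x -
    have h := span_eq_top_of_isLocalizedModule (Localization.Away a) (Submonoid.powers a) mkM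
      (v := Set.univ) Submodule.span_univ
    have hx : x ∈ Submodule.span (Localization.Away a) (mkM '' Set.univ) := h ▸ Submodule.mem_top
    refine Submodule.span_le.2 ?_ hx
    rintro _ ⟨m, -, rfl⟩
    rw [SetLike.mem_coe]
    refine (Submodule.smul_mem_iff_of_isUnit _ hu).1 ?_
    rw [algebraMap_smul, ← map_smul, ← hvj, pi_eq_sum_univ' (j m), map_sum, map_sum]
    refine Submodule.sum_mem _ fun k _ => ?_
    rw [map_smul, map_smul, ← algebraMap_smul (Localization.Away a)]
    exact Submodule.smul_mem _ _ (Submodule.subset_span ⟨k, rfl⟩)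
  let b := Module.Basis.mk hli' hsp
  exact ⟨a, ha, Module.Free.of_basis b, by rw [Module.finrank_eq_card_basis b, Fintype.card_fin]⟩

end Groth.Agent.S6913
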