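import Groth.Statements.S6914
import Groth.Agent.H25.FittingBlowUp
import Mathlib.RingTheory.TensorProduct.Finite
-- import your own Groth.Agent.* helpers here

set_option autoImplicit false
universe u
open TensorProduct
open Fitt

namespace Groth.Agent.S6914

/-- Let `M` be a finite `R`-module, `k ≥ 0`, `I = Fit_k(M)` and `a ∈ I`; let `R₁ ≅ R[I/a]` be (a copy
of) the affine blow-up algebra and `M' = (M ⊗_R R₁)/(a-power torsion)` the strict transform. Then
`Fit_k(M') = R₁`. -/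
theorem result {R : Type u} [CommRing R] (M : Type u) [AddCommGroup M] [Module R M]
    [Module.Finite R M] (k : ℕ) (a : R) (ha : a ∈ Fitt.ideal R M k)
    (R₁ : Type u) [CommRing R₁] [Algebra R R₁] (e : R₁ ≃ₐ[R] ↥(BlowUp.affineAlgebra R (Fitt.ideal R M k) a)) :
    Fitt.ideal R₁ ((R₁ ⊗[R] M) ⧸ FlatCA.powTorsion R₁ (algebraMap R R₁ a) (R₁ ⊗[R] M)) k = ⊤ := by
  open Groth.Agent.H25.Fitting in
  set b := algebraMap R R₁ a
  set T := FlatCA.powTorsion R₁ b (R₁ ⊗[R] M)
  have hI : Fitt.ideal R₁ (R₁ ⊗[R] M) k = Ideal.span {b} :=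
    (ideal_baseChange R₁ k).trans (blowUp_map_eq e ha)
  have hb := blowUp_nzd e
  by_contra hne
  obtain ⟨m, hm, hle⟩ := Ideal.exists_le_maximal _ hne
  obtain ⟨n, x, hx⟩ := Module.Finite.exists_fin (R := R₁) (M := R₁ ⊗[R] M)
  obtain ⟨z, e', c, hz, he, hc, hcp⟩ := exists_minor x hx b hI m
    (fun d hd => by rw [(mul_left_mem_nonZeroDivisors_eq_zero_iff hb).mp hd]; exact zero_mem m)
  obtain ⟨g, hg⟩ := exists_span_sup x hx b c hI.le z hz e' he hc
  refine not_le_of_span c hcp (T.mkQ ∘ g) (fun y => ?_) hle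
  obtain ⟨y, rfl⟩ := T.mkQ_surjective y
  have h1 := Submodule.mem_map_of_mem (f := T.mkQ)
    ((sup_le_sup le_rfl (ker_le_powTorsion b) : Submodule.span R₁ (Set.range g) ⊔ _ ≤ Submodule.span R₁ (Set.range g) ⊔ T) (hg y))
  rwa [Submodule.map_sup, Submodule.mkQ_map_self, sup_bot_eq, Submodule.map_span, ← Set.range_comp,
    map_smul] at h1

end Groth.Agent.S6914
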