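import Groth.Statements.S6915
import Groth.Agent.H25.FittingBlowUp
import Mathlib.RingTheory.TensorProduct.Finite
import Mathlib.RingTheory.Nilpotent.Lemmas
-- import your own Groth.Agent.* helpers here

set_option autoImplicit false
universe u
open TensorProduct
open Fitt

namespace Groth.Agent.S6915

/-- Let `M` be a finite `R`-module, `k ≥ 0` and `I = Fit_k(M)`, and assume `M_𝔭` is free of rank `k` for
every prime `𝔭` not containing `I`. Then for every `a ∈ I` and (a copy `R₁` of) the affine blow-up
algebra `R[I/a]`, the strict transform `M' = (M ⊗_R R₁)/(a-power torsion)` is finite locally free of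
rank `k`: every prime of `R₁` has a basic open neighbourhood over which `M'` is free of rank `k`. -/
theorem result {R : Type u} [CommRing R] (M : Type u) [AddCommGroup M]
    [Module R M] [Module.Finite R M] (k : ℕ)
    (hfree : ∀ (p : Ideal R) [p.IsPrime], ¬ Fitt.ideal R M k ≤ p →
      Module.Free (Localization.AtPrime p) (LocalizedModule (Ideal.primeCompl p) M) ∧
        Module.finrank (Localization.AtPrime p) (LocalizedModule (Ideal.primeCompl p) M) = k)
    (a : R) (ha : a ∈ Fitt.ideal R M k) (R₁ : Type u) [CommRing R₁] [Algebra R R₁] (e : R₁ ≃ₐ[R] ↥(BlowUp.affineAlgebra R (Fitt.ideal R M k) a)) :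
    ∀ (p' : Ideal R₁) [p'.IsPrime], ∃ g : R₁, g ∉ p' ∧
      Module.Free (Localization.Away g) (LocalizedModule (Submonoid.powers g) ((R₁ ⊗[R] M) ⧸ FlatCA.powTorsion R₁ (algebraMap R R₁ a) (R₁ ⊗[R] M))) ∧
      Module.finrank (Localization.Away g) (LocalizedModule (Submonoid.powers g) ((R₁ ⊗[R] M) ⧸ FlatCA.powTorsion R₁ (algebraMap R R₁ a) (R₁ ⊗[R] M))) = k := by
  open Groth.Agent.H25.Fitting in
  set b := algebraMap R R₁ a
  have hb := blowUp_nzd e
  have hP : Principal (R₁ ⊗[R] M) k b := by
    refine ⟨hb, (ideal_baseChange R₁ k).trans (blowUp_map_eq e ha), fun j hj => ?_⟩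
    rw [ideal_baseChange]
    refine map_eq_bot_of_torsion hb rfl _ fun d hd => ?_
    let J : Ideal R := LinearMap.ker (LinearMap.toSpanSingleton R R d)
    suffices a ∈ J.radical by
      obtain ⟨N, hN⟩ := this
      exact ⟨N, by simpa [J] using hN⟩
    rw [Ideal.radical_eq_sInf, Submodule.mem_sInf]
    rintro (p : Ideal R) ⟨hJp, hp⟩
    by_contra hap
    obtain ⟨hfree', hrank⟩ := hfree p (fun hle => hap (hle ha))
    obtain ⟨s, hs, hsd⟩ := exists_mul_eq_zero_of_free (M := M) (Ideal.primeCompl p) (k := j)
      (by rw [hrank]; omega) hd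
    exact hs (hJp (show s ∈ J by simpa [J] using hsd))
  intro p' _
  rw [powTorsion_eq b fun x => (hP.pow_smul_eq_zero_iff x).mp]
  exact hP.free_quot p'

end Groth.Agent.S6915
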