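import Groth.Statements.S6917
import Groth.Agent.H48.Mil
import Groth.Agent.Lib.Ferrand.Ring
import Mathlib.Topology.Category.TopCat.Basic

set_option autoImplicit false
universe u
open CategoryTheory
open EtAlg

namespace Groth.Agent.S6917

/-- Let `B' = B ×_A A'` be a fibre square of rings with `A' → A` surjective. Then `Spec(B') = Spec(B)
⨿_{Spec(A)} Spec(A')`: the square of prime spectra is a pushout of topological spaces. -/
theorem result (B' B A' A : Type u) [CommRing B'] [CommRing B] [CommRing A'] [CommRing A]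
    [Algebra B' B] [Algebra B' A'] [Algebra B A] [Algebra A' A] [Algebra B' A] [IsScalarTower B' B A] [IsScalarTower B' A' A]
    (hsq : EtMil.IsFibreSquare B' B A' A) :
    IsPushout (TopCat.ofHom (ContinuousMap.mk (PrimeSpectrum.comap (algebraMap B A)) (PrimeSpectrum.continuous_comap _))) (TopCat.ofHom (ContinuousMap.mk (PrimeSpectrum.comap (algebraMap A' A)) (PrimeSpectrum.continuous_comap _)))
      (TopCat.ofHom (ContinuousMap.mk (PrimeSpectrum.comap (algebraMap B' B)) (PrimeSpectrum.continuous_comap _)))
      (TopCat.ofHom (ContinuousMap.mk (PrimeSpectrum.comap (algebraMap B' A')) (PrimeSpectrum.continuous_comap _))) := by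
  classical
  open PrimeSpectrum in
  have hS : Groth.Agent.Lib.Ferrand.IsSq (algebraMap B' B) (algebraMap B' A') (algebraMap B A)
      (algebraMap A' A) :=
    { comm := fun x => by
        rw [← IsScalarTower.algebraMap_apply, ← IsScalarTower.algebraMap_apply]
      surj := hsq.1
      ext := fun x y => Groth.Agent.H48.Mil.ext_square hsq
      lift := fun b a h => (hsq.2 b a h).exists }
  set r := algebraMap B' B
  set s := algebraMap B' A'
  set q := algebraMap B A
  set p := algebraMap A' A
  have hrinj : Function.Injective (PrimeSpectrum.comap r) :=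
    PrimeSpectrum.comap_injective_of_surjective r hS.surjective_left
  have hw : ∀ z, PrimeSpectrum.comap r (PrimeSpectrum.comap q z) =
      PrimeSpectrum.comap s (PrimeSpectrum.comap p z) := fun z => by
    ext x
    show q (r x) ∈ z.asIdeal ↔ p (s x) ∈ z.asIdeal
    rw [hS.comm]
  have hover : ∀ y y', PrimeSpectrum.comap r y = PrimeSpectrum.comap s y' →
      ∃ z, PrimeSpectrum.comap q z = y ∧ PrimeSpectrum.comap p z = y' := by
    intro y y' h
    have hle : RingHom.ker p ≤ y'.asIdeal := by
      intro i hi
      obtain ⟨j, hj, rfl⟩ := hS.exists_of_mem_ker (RingHom.mem_ker.mp hi)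
      have : j ∈ (PrimeSpectrum.comap r y).asIdeal := by
        show r j ∈ y.asIdeal
        rw [hj]; exact y.asIdeal.zero_mem
      rwa [h] at this
    let z : PrimeSpectrum A := ⟨y'.asIdeal.map p, Ideal.map_isPrime_of_surjective hS.surj hle⟩
    have hz : PrimeSpectrum.comap p z = y' := by
      ext1
      rw [PrimeSpectrum.comap_asIdeal, Ideal.comap_map_of_surjective p hS.surj]
      exact sup_eq_left.mpr (by rwa [← RingHom.ker_eq_comap_bot])
    exact ⟨z, hrinj (by rw [hw, hz, h]), hz⟩
  let D : ∀ {T : TopCat.{u}}, (TopCat.of (PrimeSpectrum B) ⟶ T) → (TopCat.of (PrimeSpectrum A') ⟶ T) →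
      PrimeSpectrum B' → T := fun f g x =>
    if h : ∃ y, PrimeSpectrum.comap r y = x then f h.choose
    else g ((hS.comap_surjective x).resolve_left h).choose
  have hD₁ : ∀ {T : TopCat.{u}} (f : TopCat.of (PrimeSpectrum B) ⟶ T)
      (g : TopCat.of (PrimeSpectrum A') ⟶ T) (y : PrimeSpectrum B),
      D f g (PrimeSpectrum.comap r y) = f y := by
    intro T f g y
    have hex : ∃ y', PrimeSpectrum.comap r y' = PrimeSpectrum.comap r y := ⟨y, rfl⟩
    simp only [D]
    rw [dif_pos hex, hrinj hex.choose_spec]
  have hD₂ : ∀ {T : TopCat.{u}} (f : TopCat.of (PrimeSpectrum B) ⟶ T)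
      (g : TopCat.of (PrimeSpectrum A') ⟶ T),
      (∀ z : PrimeSpectrum A, f (PrimeSpectrum.comap q z) = g (PrimeSpectrum.comap p z)) →
      ∀ y' : PrimeSpectrum A', D f g (PrimeSpectrum.comap s y') = g y' := by
    intro T f g hfg y'
    simp only [D]
    split_ifs with h
    · obtain ⟨z, hz, hz'⟩ := hover _ _ h.choose_spec
      rw [← hz, ← hz']
      exact hfg z
    · have hspec := ((hS.comap_surjective (PrimeSpectrum.comap s y')).resolve_left h).choose_spec
      congr 1
      generalize ((hS.comap_surjective (PrimeSpectrum.comap s y')).resolve_left h).choose = y''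
        at hspec
      obtain ⟨i, hi, hiy⟩ := SetLike.not_le_iff_exists.mp (show ¬ RingHom.ker r ≤
          (PrimeSpectrum.comap s y').asIdeal from fun hle => h
        ⟨⟨_, Ideal.map_isPrime_of_surjective hS.surjective_left hle⟩, by
          ext1
          rw [PrimeSpectrum.comap_asIdeal, Ideal.comap_map_of_surjective r hS.surjective_left]
          exact sup_eq_left.mpr (by rwa [← RingHom.ker_eq_comap_bot])⟩)
      have hiy' : s i ∉ y'.asIdeal := hiy
      have hiy'' : s i ∉ y''.asIdeal := by
        intro hm
        apply hiy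
        rw [← hspec]
        exact hm
      ext a
      obtain ⟨g, -, hg⟩ := hS.exists_of_mem_ker (a := s i * a) (by
        rw [map_mul, ← hS.comm, RingHom.mem_ker.mp hi, map_zero, zero_mul])
      have e : g ∈ (PrimeSpectrum.comap s y'').asIdeal ↔
          g ∈ (PrimeSpectrum.comap s y').asIdeal := by rw [hspec]
      change s g ∈ y''.asIdeal ↔ s g ∈ y'.asIdeal at e
      rw [hg] at e
      exact ⟨fun ha => (y'.isPrime.mem_or_mem (e.mp (Ideal.mul_mem_left _ _ ha))).resolve_left hiy',
        fun ha => (y''.isPrime.mem_or_mem (e.mpr (Ideal.mul_mem_left _ _ ha))).resolve_left hiy''⟩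
  refine IsPushout.of_isColimit' ⟨?_⟩ (Limits.PushoutCocone.IsColimit.mk _
    (fun S => TopCat.ofHom ⟨D S.inl S.inr, ?_⟩)
    (fun S => ?_) (fun S => ?_) (fun S m h₁ h₂ => ?_))
  · ext1 z
    exact hw z
  · have hc : ∀ z : PrimeSpectrum A,
        S.inl (PrimeSpectrum.comap q z) = S.inr (PrimeSpectrum.comap p z) := fun z =>
      congrArg (fun f => (ConcreteCategory.hom f) z) S.condition
    refine continuous_def.mpr fun U hU => hS.isOpen_iff.mpr ⟨?_, ?_⟩
    · rw [← Set.preimage_comp, show (D S.inl S.inr ∘ PrimeSpectrum.comap s) = ⇑(ConcreteCategory.hom S.inr) from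
        funext (hD₂ _ _ hc)]
      exact hU.preimage (ConcreteCategory.hom S.inr).continuous
    · rw [← Set.preimage_comp, show (D S.inl S.inr ∘ PrimeSpectrum.comap r) = ⇑(ConcreteCategory.hom S.inl) from
        funext (hD₁ _ _)]
      exact hU.preimage (ConcreteCategory.hom S.inl).continuous
  · ext1 y
    exact hD₁ _ _ y
  · ext1 y
    exact hD₂ _ _ (fun z => congrArg (fun f => (ConcreteCategory.hom f) z) S.condition) y
  · ext1 x
    rcases hS.comap_surjective x with ⟨y, rfl⟩ | ⟨y, rfl⟩
    · exact (congrArg (fun f => (ConcreteCategory.hom f) y) h₁).trans (hD₁ _ _ y).symm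
    · exact (congrArg (fun f => (ConcreteCategory.hom f) y) h₂).trans
        (hD₂ _ _ (fun z => congrArg (fun f => (ConcreteCategory.hom f) z) S.condition) y).symm

end Groth.Agent.S6917
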