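import Groth.Statements.S6918
import Groth.Agent.Lib.FlatCA.CompleteFlattenBC
-- import your own Groth.Agent.* helpers here

set_option autoImplicit false
universe u
open FlatMor

namespace Groth.Agent.S6918

/-- Let `R → S` be a ring map, `J ⊆ S` an ideal, `M` an `S`-module, `I ⊆ R` an ideal, `R → R'` a ring
map and `I' ⊇ IR'`; put `S' = S ⊗_R R'`, `M' = M ⊗_R R'`. If `M_𝔮` is flat over `R` for all primes
`𝔮 ⊇ IS + J` of `S`, then `M'_{𝔮'}` is flat over `R'` for all primes `𝔮' ⊇ I'S' + JS'` of `S'`. (The
published statement passes from an arbitrary pair `(R', I')` over `R` to a further pair `(R'',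
I'')`; this row takes the first pair to be `(R, I)`.) -/
theorem result {R S R' S' : Type u} [CommRing R] [CommRing S] [CommRing R'] [CommRing S']
    [Algebra R S] [Algebra R R'] [Algebra S S'] [Algebra R' S'] [Algebra R S'] [IsScalarTower R S S']
    [IsScalarTower R R' S'] [Algebra.IsPushout R S R' S']
    (I : Ideal R) (I' : Ideal R') (hII' : I.map (algebraMap R R') ≤ I')
    {M M' : Type u} [AddCommGroup M] [Module S M] [Module R M] [IsScalarTower R S M]
    [AddCommGroup M'] [Module S' M'] [Module R' M'] [IsScalarTower R' S' M'] [Module S M'] [IsScalarTower S S' M']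
    (f : M →ₗ[S] M') (hf : IsBaseChange S' f) (J : Ideal S)
    (h : (∀ (q : Ideal S) [q.IsPrime], I.map (algebraMap R S) ⊔ J ≤ q → FlatCA.FlatAt R q M)) :
    (∀ (q : Ideal S') [q.IsPrime], I'.map (algebraMap R' S') ⊔ J.map (algebraMap S S') ≤ q → FlatCA.FlatAt R' q M') := by
  intro q' _ hq'
  haveI : Module.Flat R (LocalizedModule (q'.comap (algebraMap S S')).primeCompl M) :=
    h (q'.comap (algebraMap S S')) (by
      refine sup_le ?_ (Ideal.map_le_iff_le_comap.1 (le_sup_right.trans hq'))
      rw [← Ideal.map_le_iff_le_comap, Ideal.map_map, ← IsScalarTower.algebraMap_eq,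
        IsScalarTower.algebraMap_eq R R' S', ← Ideal.map_map]
      exact (Ideal.map_mono hII').trans (le_sup_left.trans hq'))
  exact Groth.Agent.Lib.FlatCA.CompleteFlatten.flat_localized_of_baseChange (R := R) (S := S) inferInstance f hf q' inferInstance

end Groth.Agent.S6918
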