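import Groth.Statements.S6919
import Groth.Agent.Lib.FlatCA.LocalDescent
-- import your own Groth.Agent.* helpers here

set_option autoImplicit false
universe u
open FlatMor

namespace Groth.Agent.S6919

/-- Let `R → S` be a ring map, `J ⊆ S` an ideal, `M` an `S`-module and `I ⊆ R` an ideal; let `R → R'` be
a ring map and `I' ⊆ R'` an ideal containing `IR'`, and put `S' = S ⊗_R R'`, `M' = M ⊗_R R'`. Assume
that every prime of `R` containing `I` is the contraction of a prime of `R'` containing `I'`, and
that `R'_{𝔭'}` is flat over `R` for every prime `𝔭' ⊇ I'`. If `M'_{𝔮'}` is flat over `R'` for every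
prime `𝔮' ⊇ I'S' + JS'` of `S'`, then `M_𝔮` is flat over `R` for every prime `𝔮 ⊇ IS + J` of `S`.
(The published statement descends from a pair `(R'', I'')` to an arbitrary pair `(R', I')` over `R`;
this row takes `(R', I') = (R, I)`.) -/
theorem result {R S R' S' : Type u} [CommRing R] [CommRing S] [CommRing R'] [CommRing S']
    [Algebra R S] [Algebra R R'] [Algebra S S'] [Algebra R' S'] [Algebra R S'] [IsScalarTower R S S']
    [IsScalarTower R R' S'] [Algebra.IsPushout R S R' S']
    (I : Ideal R) (I' : Ideal R') (hII' : I.map (algebraMap R R') ≤ I')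
    {M M' : Type u} [AddCommGroup M] [Module S M] [Module R M] [IsScalarTower R S M]
    [AddCommGroup M'] [Module S' M'] [Module R' M'] [IsScalarTower R' S' M'] [Module S M'] [IsScalarTower S S' M']
    (f : M →ₗ[S] M') (hf : IsBaseChange S' f) (J : Ideal S)
    (hsurj : ∀ (p : Ideal R) [p.IsPrime], I ≤ p → ∃ (p' : Ideal R') (_ : p'.IsPrime), I' ≤ p' ∧ p'.comap (algebraMap R R') = p)
    (hflat : ∀ (p' : Ideal R') [p'.IsPrime], I' ≤ p' → Module.Flat R (Localization.AtPrime p'))
    (h : (∀ (q : Ideal S') [q.IsPrime], I'.map (algebraMap R' S') ⊔ J.map (algebraMap S S') ≤ q → FlatCA.FlatAt R' q M')) :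
    (∀ (q : Ideal S) [q.IsPrime], I.map (algebraMap R S) ⊔ J ≤ q → FlatCA.FlatAt R q M) := by
  intro q _ hq
  have hIp : I ≤ q.comap (algebraMap R S) := Ideal.map_le_iff_le_comap.1 (le_sup_left.trans hq)
  obtain ⟨p', _, hI'p, hp'⟩ := hsurj (q.comap (algebraMap R S)) hIp
  obtain ⟨Q, _, hQ₁, hQ₂⟩ := Groth.Agent.Lib.FlatCA.LocalDescent.exists_prime_pushout
    (inferInstance : Algebra.IsPushout R S R' S') q p' hp'.symm
  subst hQ₁ hQ₂
  haveI hRp := hflat (Q.comap (algebraMap R' S')) hI'p
  haveI hN : Module.Flat R' (LocalizedModule Q.primeCompl M') := h Q (sup_le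
    (Ideal.map_le_iff_le_comap.2 hI'p)
    (Ideal.map_le_iff_le_comap.2 (le_sup_right.trans hq)))
  -- `S'_Q` is flat over `S`
  haveI hSQ : Module.Flat S (Localization.AtPrime Q) := by
    have h1 := Groth.Agent.Lib.FlatCA.CompleteFlatten.flat_localized_of_baseChange (R := R) (S := R') (R' := S) (S' := S')
      (M := R') (M' := S') (Algebra.IsPushout.symm inferInstance) (Algebra.linearMap R' S')
      (IsBaseChange.linearMap R' S') Q (by
        haveI : Module.Flat R (LocalizedModule (Q.comap (algebraMap R' S')).primeCompl R') := Module.Flat.of_linearEquiv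
          ((IsLocalizedModule.linearEquiv (Q.comap (algebraMap R' S')).primeCompl (LocalizedModule.mkLinearMap (Q.comap (algebraMap R' S')).primeCompl R')
            (Algebra.linearMap R' (Localization.AtPrime (Q.comap (algebraMap R' S'))))).restrictScalars R)
        infer_instance)
    exact Module.Flat.of_linearEquiv ((IsLocalizedModule.linearEquiv Q.primeCompl (Algebra.linearMap S' (Localization.AtPrime Q))
      (LocalizedModule.mkLinearMap Q.primeCompl S')).restrictScalars S)
  -- `M'_Q` is flat over `R`
  letI : Module R M' := Module.compHom M' (algebraMap R R')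
  haveI : IsScalarTower R R' M' := IsScalarTower.of_algebraMap_smul fun _ _ => rfl
  haveI : IsScalarTower R S' M' := IsScalarTower.of_algebraMap_smul fun r x => by
    rw [IsScalarTower.algebraMap_apply R R' S', algebraMap_smul]
    rfl
  let L := LocalizedModule Q.primeCompl M'
  let θ := Localization.localRingHom (Q.comap (algebraMap R' S')) Q (algebraMap R' S') rfl
  letI : Module (Localization.AtPrime (Q.comap (algebraMap R' S'))) L := Module.compHom L θ
  haveI : IsScalarTower R' (Localization.AtPrime (Q.comap (algebraMap R' S'))) L := IsScalarTower.of_algebraMap_smul fun r x => by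
    show θ (algebraMap R' (Localization.AtPrime (Q.comap (algebraMap R' S'))) r) • x = r • x
    rw [Localization.localRingHom_to_map, algebraMap_smul, algebraMap_smul]
  haveI : Module.Flat (Localization.AtPrime (Q.comap (algebraMap R' S'))) L :=
    (Module.flat_iff_of_isLocalization (R := R') (Localization.AtPrime (Q.comap (algebraMap R' S'))) (Q.comap (algebraMap R' S')).primeCompl L).2 hN
  haveI : IsScalarTower R (Localization.AtPrime (Q.comap (algebraMap R' S'))) L := IsScalarTower.of_algebraMap_smul fun r x => by
    rw [IsScalarTower.algebraMap_apply R R' (Localization.AtPrime (Q.comap (algebraMap R' S'))), algebraMap_smul, algebraMap_smul]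
  have hR : Module.Flat R L := Module.Flat.trans R (Localization.AtPrime (Q.comap (algebraMap R' S'))) L
  exact (Groth.Agent.Lib.FlatCA.LocalDescent.flatAt_iff f hf Q).1 hR

end Groth.Agent.S6919
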