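import Groth.Statements.S6920
import Groth.Agent.Lib.DR.Basic
import Groth.Agent.Lib.DR.PseudoCoherent
import Groth.Agent.Lib.DR.TopCohomology
import Mathlib.Algebra.Category.Ring.Epi

set_option autoImplicit false
universe u
open CategoryTheory CategoryTheory.Limits MonoidalCategory
open DRing

open Groth.Agent.Lib.DR.Basic Groth.Agent.Lib.DR.FiniteComplex Groth.Agent.Lib.DR.PseudoCoherent Groth.Agent.Lib.DR.TopCohomology
open CategoryTheory CategoryTheory.Limits CategoryTheory.Pretriangulated

namespace Groth.Agent.S6920

/-- For an epimorphism of rings `φ : R → S` and a complex `I•` of `S`-modules, if the underlying complex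
of `R`-modules of `I•` is K-injective, then `I•` itself is K-injective over `S`. -/
theorem result (R S : Type u) [CommRing R] [CommRing S] (φ : R →+* S)
    (hφ : Epi (CommRingCat.ofHom φ)) (I : DRing.Cx S)
    [CochainComplex.IsKInjective ((DRing.restrictCx φ).obj I)] : CochainComplex.IsKInjective I := by
  have hlin : ∀ {M N : ModuleCat.{u} S}
      (f : (ModuleCat.restrictScalars.{u} φ).obj M ⟶ (ModuleCat.restrictScalars.{u} φ).obj N)
      (s : S) (m : M), f.hom ((s • m : M) : (ModuleCat.restrictScalars.{u} φ).obj M) = (s • (show N from f.hom m) : N) := by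
    intro M N f s m
    let := φ.toAlgebra
    have : Algebra.IsEpi R S := CommRingCat.epi_iff_epi.1 hφ
    let : Module R M := Module.compHom M φ
    let : Module R N := Module.compHom N φ
    have : IsScalarTower R S M := IsScalarTower.of_algebraMap_smul fun _ _ => rfl
    have : IsScalarTower R S N := IsScalarTower.of_algebraMap_smul fun _ _ => rfl
    let g : M →ₗ[R] N := f.hom
    let B : S →ₗ[R] S →ₗ[R] N := LinearMap.mk₂ R (fun a b => a • g (b • m))
      (fun a a' b => add_smul a a' _) (fun r a b => smul_assoc r a _)
      (fun a b b' => by simp only [add_smul, map_add, smul_add])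
      (fun r a b => by simp only [smul_assoc, LinearMap.map_smul, smul_comm a r])
    have h := congrArg (TensorProduct.lift B) (Algebra.tmul_comm R s (1 : S))
    simp only [TensorProduct.lift.tmul, B, LinearMap.mk₂_apply, one_smul] at h
    exact h.symm
  refine ⟨fun {L} f hL => ?_⟩
  let F := ModuleCat.restrictScalars.{u} φ
  have hL' : ((F.mapHomologicalComplex (ComplexShape.up ℤ)).obj L).Acyclic := fun i => by
    have h := hL i
    rw [HomologicalComplex.exactAt_iff] at h ⊢
    exact h.map F
  obtain ⟨h⟩ := CochainComplex.IsKInjective.nonempty_homotopy_zero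
    ((DRing.restrictCx φ).map f) hL'
  exact ⟨{
    hom := fun i j => ModuleCat.ofHom
      { toFun := fun x => (h.hom i j).hom x
        map_add' := fun x y => map_add (h.hom i j).hom x y
        map_smul' := fun s x => hlin (h.hom i j) s x }
    zero := fun i j hij => by
      ext x
      exact LinearMap.congr_fun (congrArg ModuleCat.Hom.hom (h.zero i j hij)) x
    comm := fun i => by
      apply F.map_injective
      have := h.comm i
      simp only [dNext_eq _ (show (ComplexShape.up ℤ).Rel i (i + 1) from rfl),
        prevD_eq _ (show (ComplexShape.up ℤ).Rel (i - 1) i by simp)] at this ⊢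
      exact this }⟩

end Groth.Agent.S6920
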