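import Groth.Statements.S6921
import Groth.Agent.H48.MilGlue

set_option autoImplicit false
universe u
open TensorProduct
open EtAlg

namespace Groth.Agent.S6921

/-- Let `B' = B ×_A A'` be a fibre square of rings with `A' → A` surjective, `B' → D'` a ring map, and
`D = D' ⊗_{B'} B`, `C' = D' ⊗_{B'} A'`, `C = D' ⊗_{B'} A`. Let `N` be a finite `D`-module, `M'` a
finite `C'`-module and `φ : N ⊗_D C ≅ M' ⊗_{C'} C` a `C`-linear isomorphism. Then the glued module
`N ×_φ M'` is a finite `D'`-module. -/
theorem result (B' B A' A : Type u) [CommRing B'] [CommRing B] [CommRing A'] [CommRing A]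
    [Algebra B' B] [Algebra B' A'] [Algebra B A] [Algebra A' A] [Algebra B' A] [IsScalarTower B' B A] [IsScalarTower B' A' A]
    (hsq : EtMil.IsFibreSquare B' B A' A)
    (D' D C' C : Type u) [CommRing D'] [CommRing D] [CommRing C'] [CommRing C]
    [Algebra B' D'] [Algebra B D] [Algebra A' C'] [Algebra A C]
    [Algebra D' D] [Algebra B' D] [IsScalarTower B' B D] [IsScalarTower B' D' D] [Algebra.IsPushout B' B D' D]
    [Algebra D' C'] [Algebra B' C'] [IsScalarTower B' A' C'] [IsScalarTower B' D' C'] [Algebra.IsPushout B' A' D' C']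
    [Algebra D' C] [Algebra B' C] [IsScalarTower B' A C] [IsScalarTower B' D' C] [Algebra.IsPushout B' A D' C]
    [Algebra D C] [IsScalarTower D' D C] [Algebra B C] [IsScalarTower B A C] [IsScalarTower B D C]
    [Algebra C' C] [IsScalarTower D' C' C] [Algebra A' C] [IsScalarTower A' A C] [IsScalarTower A' C' C]
    {N M' : Type u} [AddCommGroup N] [Module D N] [Module D' N] [IsScalarTower D' D N]
    [AddCommGroup M'] [Module C' M'] [Module D' M'] [IsScalarTower D' C' M'] (φ : C ⊗[D] N ≃ₗ[C] C ⊗[C'] M')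
    [Module.Finite D N] [Module.Finite C' M'] : Module.Finite D' ↥(EtMil.glue D' φ) := by
  classical
  have hB := Groth.Agent.H48.Mil.surjective_left hsq
  let eD := (Algebra.IsPushout.out (R := B') (S := B) (R' := D') (S' := D)).equiv
  let eC' := (Algebra.IsPushout.out (R := B') (S := A') (R' := D') (S' := C')).equiv
  let eC := (Algebra.IsPushout.out (R := B') (S := A) (R' := D') (S' := C)).equiv
  have hD : Function.Surjective (algebraMap D' D) := fun x => by
    obtain ⟨d, hd⟩ := Groth.Agent.H48.Mil.exists_one_tmul hB (eD.symm x)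
    refine ⟨d, ?_⟩
    have := congrArg eD hd
    simpa [eD, IsBaseChange.equiv_tmul] using this
  let g := (IsScalarTower.toAlgHom B' A' A).toLinearMap
  have key : ∀ t : A' ⊗[B'] D', algebraMap C' C (eC' t) = eC (g.rTensor D' t) := by
    intro t
    induction t using TensorProduct.induction_on with
    | zero => simp
    | tmul a d =>
      simp only [eC', eC, g, LinearMap.rTensor_tmul, IsBaseChange.equiv_tmul, AlgHom.toLinearMap_apply,
        IsScalarTower.coe_toAlgHom, Algebra.smul_def, map_mul]
      change algebraMap C' C (algebraMap A' C' a) * algebraMap C' C (algebraMap D' C' d) =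
        algebraMap A C (algebraMap A' A a) * algebraMap D' C d
      rw [← IsScalarTower.algebraMap_apply D' C' C, ← IsScalarTower.algebraMap_apply A' A C,
        ← IsScalarTower.algebraMap_apply A' C' C]
    | add x y hx hy => simp only [map_add, hx, hy]
  have hC : Function.Surjective (algebraMap C' C) := fun x => by
    obtain ⟨t, ht⟩ := LinearMap.rTensor_surjective D' (g := g) hsq.1 (eC.symm x)
    exact ⟨eC' t, by rw [key, ht, eC.apply_symm_apply]⟩
  have hker : ∀ c : C', algebraMap C' C c = 0 →
      ∃ x : D', algebraMap D' D x = 0 ∧ algebraMap D' C' x = c := by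
    intro c hc
    obtain ⟨t, rfl⟩ := eC'.surjective c
    have h0 : g.rTensor D' t = 0 := eC.injective (by rw [← key, hc, map_zero])
    obtain ⟨w, rfl⟩ := (rTensor_exact D' g.exact_subtype_ker_map hsq.1 t).mp h0
    clear h0 hc
    induction w using TensorProduct.induction_on with
    | zero => exact ⟨0, by simp⟩
    | tmul a d =>
      obtain ⟨j, hj, hja⟩ := Groth.Agent.H48.Mil.exists_of_mem_ker hsq (a := (a : A')) a.2
      refine ⟨algebraMap B' D' j * d, ?_, ?_⟩
      · rw [map_mul, ← IsScalarTower.algebraMap_apply, IsScalarTower.algebraMap_apply B' B D, hj,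
          map_zero, zero_mul]
      · rw [LinearMap.rTensor_tmul, map_mul, ← IsScalarTower.algebraMap_apply,
          IsScalarTower.algebraMap_apply B' A' C', hja]
        simp [eC', IsBaseChange.equiv_tmul, Algebra.smul_def]
    | add x y hx hy =>
      obtain ⟨u, hu, hu'⟩ := hx
      obtain ⟨v, hv, hv'⟩ := hy
      exact ⟨u + v, by rw [map_add, hu, hv, add_zero], by rw [map_add, hu', hv', map_add, map_add]⟩
  -- generators
  obtain ⟨Sn, hSn⟩ := Module.Finite.fg_top (R := D) (M := N)
  choose lift hlift using Groth.Agent.H48.Mil.glueFst_surjective_of_surjective (B' := D') hC φ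
  obtain ⟨T, hT, hT'⟩ := (Submodule.fg_span_iff_fg_span_finset_subset _).mp
    (Groth.Agent.H48.Mil.span_glueSnd_eq_top_of_surjective (B' := D') hC φ ▸
      Module.Finite.fg_top (R := C') (M := M'))
  choose w hw using fun t : (T : Set M') => hT t.2
  let G : Finset (EtMil.glue D' φ) := Sn.image lift ∪ Finset.univ.image w
  refine ⟨G, eq_top_iff.mpr fun z _ => ?_⟩
  set P := Submodule.span D' (G : Set (EtMil.glue D' φ))
  have h1 : ∀ n : N, ∃ q ∈ P, (q : N × M').1 = n := by
    intro n
    induction (hSn.ge (Submodule.mem_top (x := n))) using Submodule.span_induction with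
    | mem n hn =>
      exact ⟨lift n, Submodule.subset_span
        (Finset.mem_union_left _ (Finset.mem_image_of_mem _ hn)), hlift n⟩
    | zero => exact ⟨0, P.zero_mem, rfl⟩
    | add a b _ _ ha hb =>
      obtain ⟨u, hu, rfl⟩ := ha
      obtain ⟨v, hv, rfl⟩ := hb
      exact ⟨u + v, P.add_mem hu hv, rfl⟩
    | smul d n _ ih =>
      obtain ⟨u, hu, rfl⟩ := ih
      obtain ⟨d, rfl⟩ := hD d
      exact ⟨d • u, P.smul_mem d hu, (IsScalarTower.algebraMap_smul D d _).symm⟩
  obtain ⟨q, hq, hq1⟩ := h1 (z : N × M').1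
  have h0 : ((1 : C) ⊗ₜ[C'] ((z : N × M').2 - (q : N × M').2) : C ⊗[C'] M') = 0 := by
    rw [TensorProduct.tmul_sub, ← Groth.Agent.H48.Mil.mem_glue.mp z.2,
      ← Groth.Agent.H48.Mil.mem_glue.mp q.2, hq1, sub_self]
  have h2 : ∀ k : M', ∀ c : C', algebraMap C' C c = 0 → ∃ r ∈ P, (r : N × M') = (0, c • k) := by
    intro k
    have hk : k ∈ Submodule.span C' (T : Set M') := by
      rw [← hT', Groth.Agent.H48.Mil.span_glueSnd_eq_top_of_surjective (B' := D') hC φ]
      trivial
    induction hk using Submodule.span_induction with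
    | mem k hk =>
      intro c hc
      obtain ⟨x, hx, rfl⟩ := hker c hc
      refine ⟨x • w ⟨k, hk⟩, P.smul_mem x (Submodule.subset_span
        (Finset.mem_union_right _ (Finset.mem_image_of_mem _ (Finset.mem_univ _)))), ?_⟩
      refine Prod.ext ?_ ?_
      · change x • (w ⟨k, hk⟩ : N × M').1 = 0
        rw [← IsScalarTower.algebraMap_smul D x (w ⟨k, hk⟩ : N × M').1, hx, zero_smul]
      · change x • EtMil.glueSnd D' φ (w ⟨k, hk⟩) = algebraMap D' C' x • k
        rw [hw ⟨k, hk⟩, IsScalarTower.algebraMap_smul]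
    | zero => intro c _; exact ⟨0, P.zero_mem, by simp; rfl⟩
    | add a b _ _ ha hb =>
      intro c hc
      obtain ⟨u, hu, hu'⟩ := ha c hc
      obtain ⟨v, hv, hv'⟩ := hb c hc
      exact ⟨u + v, P.add_mem hu hv, by rw [Submodule.coe_add, hu', hv', smul_add]; simp⟩
    | smul a k _ ih =>
      intro c hc
      obtain ⟨u, hu, hu'⟩ := ih (c * a) (by rw [map_mul, hc, zero_mul])
      exact ⟨u, hu, by rw [hu', mul_smul]⟩
  have h3 : ∃ r ∈ P, (r : N × M') = (0, (z : N × M').2 - (q : N × M').2) := by
    refine Submodule.smul_induction_on ((Groth.Agent.H48.Mil.one_tmul_eq_zero_iff hC _).mp h0)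
      (fun c hc k _ => h2 k c (RingHom.mem_ker.mp hc)) ?_
    rintro a b ⟨u, hu, hu'⟩ ⟨v, hv, hv'⟩
    exact ⟨u + v, P.add_mem hu hv, by rw [Submodule.coe_add, hu', hv']; simp⟩
  obtain ⟨r, hr, hr'⟩ := h3
  have : z = q + r := Subtype.ext (Prod.ext (by simp [hr', hq1]) (by simp [hr']))
  rw [this]
  exact P.add_mem hq hr

end Groth.Agent.S6921
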