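import Groth.Statements.S6922
import Groth.Agent.H48.MilRel

set_option autoImplicit false
set_option linter.style.haveILetI false
set_option synthInstance.maxHeartbeats 100000
set_option maxHeartbeats 1000000
universe u
open TensorProduct
open EtAlg

namespace Groth.Agent.S6922

/-- In the relative situation (`B' = B ×_A A'` with `A' → A` surjective, `B' → D'`, `D = D' ⊗_{B'} B`,
`C' = D' ⊗_{B'} A'`, `C = D' ⊗_{B'} A`), let `N` be a flat `B`-module that is finitely presented as
a `D`-module and `M'` a flat `A'`-module that is finitely presented as a `C'`-module, with a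
`C`-isomorphism `φ : N ⊗_D C ≅ M' ⊗_{C'} C`, and suppose `B' → D'` is the composite of a flat ring
map `B' → D''` and a ring map `D'' → D'` of finite presentation. Then `N ×_φ M'` is finitely
presented over `D'`. -/
theorem result (B' B A' A : Type u) [CommRing B'] [CommRing B] [CommRing A'] [CommRing A]
    [Algebra B' B] [Algebra B' A'] [Algebra B A] [Algebra A' A] [Algebra B' A] [IsScalarTower B' B A] [IsScalarTower B' A' A]
    (hsq : EtMil.IsFibreSquare B' B A' A)
    (D' D C' C : Type u) [CommRing D'] [CommRing D] [CommRing C'] [CommRing C]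
    [Algebra B' D'] [Algebra B D] [Algebra A' C'] [Algebra A C]
    [Algebra D' D] [Algebra B' D] [IsScalarTower B' B D] [IsScalarTower B' D' D] [Algebra.IsPushout B' B D' D]
    [Algebra D' C'] [Algebra B' C'] [IsScalarTower B' A' C'] [IsScalarTower B' D' C'] [Algebra.IsPushout B' A' D' C']
    [Algebra D' C] [Algebra B' C] [IsScalarTower B' A C] [IsScalarTower B' D' C] [Algebra.IsPushout B' A D' C]
    [Algebra D C] [IsScalarTower D' D C] [Algebra B C] [IsScalarTower B A C] [IsScalarTower B D C]
    [Algebra C' C] [IsScalarTower D' C' C] [Algebra A' C] [IsScalarTower A' A C] [IsScalarTower A' C' C]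
    {N M' : Type u} [AddCommGroup N] [Module D N] [Module D' N] [IsScalarTower D' D N]
    [AddCommGroup M'] [Module C' M'] [Module D' M'] [IsScalarTower D' C' M'] (φ : C ⊗[D] N ≃ₗ[C] C ⊗[C'] M')
    [Module B N] [IsScalarTower B D N] [Module A' M'] [IsScalarTower A' C' M']
    [Module.FinitePresentation D N] [Module.Flat B N] [Module.FinitePresentation C' M'] [Module.Flat A' M']
    (D'' : Type u) [CommRing D''] [Algebra B' D''] [Algebra D'' D'] [IsScalarTower B' D'' D'] [Module.Flat B' D'']
    [Algebra.FinitePresentation D'' D'] :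
    Module.FinitePresentation D' ↥(EtMil.glue D' φ) := by
  classical
  haveI : IsScalarTower B' D C := .of_algebraMap_eq fun x => by
    rw [IsScalarTower.algebraMap_apply B' D' D, ← IsScalarTower.algebraMap_apply D' D C,
      ← IsScalarTower.algebraMap_apply]
  haveI : IsScalarTower B' C' C := .of_algebraMap_eq fun x => by
    rw [IsScalarTower.algebraMap_apply B' D' C', ← IsScalarTower.algebraMap_apply D' C' C,
      ← IsScalarTower.algebraMap_apply]
  haveI pD : Algebra.IsPushout B A D C :=
    (Algebra.IsPushout.comp_iff (R := B') (S := B) (T := A) (R' := D') (S' := D) (T' := C)).mp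
      inferInstance
  haveI pC : Algebra.IsPushout A' A C' C :=
    (Algebra.IsPushout.comp_iff (R := B') (S := A') (T := A) (R' := D') (S' := C') (T' := C)).mp
      inferInstance
  let cN := Algebra.IsPushout.cancelBaseChange B A D C N
  let cM := Algebra.IsPushout.cancelBaseChange A' A C' C M'
  let φ₀ : A ⊗[B] N ≃ₗ[A] A ⊗[A'] M' := cN.symm ≪≫ₗ φ.restrictScalars A ≪≫ₗ cM
  letI : Module B' N := Module.compHom N (algebraMap B' B)
  haveI : IsScalarTower B' B N := .of_algebraMap_smul fun _ _ => rfl
  letI : Module B' M' := Module.compHom M' (algebraMap B' A')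
  haveI : IsScalarTower B' A' M' := .of_algebraMap_smul fun _ _ => rfl
  have hmem : ∀ x : N × M', x ∈ EtMil.glue B' φ₀ ↔ x ∈ EtMil.glue D' φ := by
    intro x
    rw [Groth.Agent.H48.Mil.mem_glue, Groth.Agent.H48.Mil.mem_glue]
    simp only [φ₀, cN, cM, LinearEquiv.trans_apply, LinearEquiv.restrictScalars_apply,
      Algebra.IsPushout.cancelBaseChange_symm_tmul, map_one]
    rw [← Algebra.IsPushout.cancelBaseChange_tmul A' A C' C M' x.2]
    exact (Algebra.IsPushout.cancelBaseChange A' A C' C M').injective.eq_iff
  let G := EtMil.glue D' φ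
  letI : Module B' G := Module.compHom G (algebraMap B' D')
  haveI : IsScalarTower B' D' G := .of_algebraMap_smul fun _ _ => rfl
  have hsm₁ : ∀ (b : B') (n : N), b • n = algebraMap B' D' b • n := fun b n => by
    change algebraMap B' B b • n = _
    rw [← IsScalarTower.algebraMap_smul D (algebraMap B' B b) n, ← IsScalarTower.algebraMap_apply,
      ← IsScalarTower.algebraMap_smul D (algebraMap B' D' b) n, ← IsScalarTower.algebraMap_apply]
  have hsm₂ : ∀ (b : B') (n : M'), b • n = algebraMap B' D' b • n := fun b n => by
    change algebraMap B' A' b • n = _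
    rw [← IsScalarTower.algebraMap_smul C' (algebraMap B' A' b) n, ← IsScalarTower.algebraMap_apply,
      ← IsScalarTower.algebraMap_smul C' (algebraMap B' D' b) n, ← IsScalarTower.algebraMap_apply]
  let e : G ≃ₗ[B'] EtMil.glue B' φ₀ :=
    { toFun := fun z => ⟨z, (hmem _).mpr z.2⟩
      invFun := fun z => ⟨z, (hmem _).mp z.2⟩
      map_add' := fun _ _ => rfl
      map_smul' := fun b z => Subtype.ext (Prod.ext (hsm₁ b _).symm (hsm₂ b _).symm) }
  let fB : B ⊗[B'] G ≃ₗ[B] N := LinearEquiv.baseChange B' B _ _ e ≪≫ₗ
    LinearEquiv.ofBijective _ (Groth.Agent.H48.Mil.bijective_glueFst hsq φ₀)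
  let fA : A' ⊗[B'] G ≃ₗ[A'] M' := LinearEquiv.baseChange B' A' _ _ e ≪≫ₗ
    LinearEquiv.ofBijective _ (Groth.Agent.H48.Mil.bijective_glueSnd hsq φ₀)
  haveI : Module.Flat B (B ⊗[B'] G) := Module.Flat.of_linearEquiv fB
  haveI : Module.Flat A' (A' ⊗[B'] G) := Module.Flat.of_linearEquiv fA
  haveI : Module.Flat B' G := Groth.Agent.H48.Mil.flat_of_baseChange hsq G
  -- base changes over `D'`
  have hbD : Function.Bijective (LinearMap.liftBaseChange D (EtMil.glueFst D' φ)) := by
    have key : ∀ x, LinearMap.liftBaseChange D (EtMil.glueFst D' φ)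
        ((Algebra.IsPushout.cancelBaseChange B' B D' D G).symm x) = fB x := by
      intro x
      induction x using TensorProduct.induction_on with
      | zero => simp
      | tmul b z =>
        rw [Algebra.IsPushout.cancelBaseChange_symm_tmul, LinearMap.liftBaseChange_tmul,
          IsScalarTower.algebraMap_smul]
        rfl
      | add a c ha hc => simp only [map_add, ha, hc]
    have : (LinearMap.liftBaseChange D (EtMil.glueFst D' φ) : D ⊗[D'] G → N) =
        fB ∘ Algebra.IsPushout.cancelBaseChange B' B D' D G := funext fun x => by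
      obtain ⟨x, rfl⟩ := (Algebra.IsPushout.cancelBaseChange B' B D' D G).symm.surjective x
      simp [key]
    rw [this]
    exact fB.bijective.comp (LinearEquiv.bijective _)
  have hbC : Function.Bijective (LinearMap.liftBaseChange C' (EtMil.glueSnd D' φ)) := by
    have key : ∀ x, LinearMap.liftBaseChange C' (EtMil.glueSnd D' φ)
        ((Algebra.IsPushout.cancelBaseChange B' A' D' C' G).symm x) = fA x := by
      intro x
      induction x using TensorProduct.induction_on with
      | zero => simp
      | tmul b z =>
        rw [Algebra.IsPushout.cancelBaseChange_symm_tmul, LinearMap.liftBaseChange_tmul,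
          IsScalarTower.algebraMap_smul]
        rfl
      | add a c ha hc => simp only [map_add, ha, hc]
    have : (LinearMap.liftBaseChange C' (EtMil.glueSnd D' φ) : C' ⊗[D'] G → M') =
        fA ∘ Algebra.IsPushout.cancelBaseChange B' A' D' C' G := funext fun x => by
      obtain ⟨x, rfl⟩ := (Algebra.IsPushout.cancelBaseChange B' A' D' C' G).symm.surjective x
      simp [key]
    rw [this]
    exact fA.bijective.comp (LinearEquiv.bijective _)
  haveI : Module.FinitePresentation D (D ⊗[D'] G) :=
    Module.FinitePresentation.of_equiv (LinearEquiv.ofBijective _ hbD).symm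
  haveI : Module.FinitePresentation C' (C' ⊗[D'] G) :=
    Module.FinitePresentation.of_equiv (LinearEquiv.ofBijective _ hbC).symm
  have hdet : ∀ (Q : Type u) [AddCommGroup Q] [Module D' Q],
      Subsingleton (D ⊗[D'] Q) → Subsingleton (C' ⊗[D'] Q) → Subsingleton Q := by
    intro Q _ _ h₁ h₂
    let : Module B' Q := Module.compHom Q (algebraMap B' D')
    have : IsScalarTower B' D' Q := .of_algebraMap_smul fun _ _ => rfl
    have : Subsingleton (B ⊗[B'] Q) :=
      (Algebra.IsPushout.cancelBaseChange B' B D' D Q).symm.injective.subsingleton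
    have : Subsingleton (A' ⊗[B'] Q) :=
      (Algebra.IsPushout.cancelBaseChange B' A' D' C' Q).symm.injective.subsingleton
    exact Groth.Agent.H48.Mil.subsingleton_of_baseChange hsq Q
  haveI : Module.Finite D (D ⊗[D'] G) := Module.Finite.equiv (LinearEquiv.ofBijective _ hbD).symm
  haveI : Module.Finite C' (C' ⊗[D'] G) := Module.Finite.equiv (LinearEquiv.ofBijective _ hbC).symm
  haveI : Module.Finite D' G := Groth.Agent.H48.Mil.finite_of_detect D C' hdet G
  obtain ⟨n, π, hπ⟩ := Module.Finite.exists_fin' D' G
  let K := LinearMap.ker π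
  have hinj : ∀ (S S' : Type u) [CommRing S] [CommRing S'] [Algebra B' S] [Algebra D' S']
      [Algebra S S'] [Algebra B' S'] [IsScalarTower B' S S'] [IsScalarTower B' D' S']
      [Algebra.IsPushout B' S D' S'] [Module.FinitePresentation S' (S' ⊗[D'] G)],
      Module.Finite S' (S' ⊗[D'] K) := by
    intro S S' _ _ _ _ _ _ _ _ _ _
    let cK := Algebra.IsPushout.cancelBaseChange B' S D' S' K
    let cF := Algebra.IsPushout.cancelBaseChange B' S D' S' (Fin n → D')
    have hi : Function.Injective ((K.subtype.restrictScalars B').lTensor S) :=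
      LinearMap.lTensor_injective_of_exact_of_flat (π.restrictScalars B') hπ
        (K.subtype.restrictScalars B') K.subtype_injective (LinearMap.exact_subtype_ker_map π) S
    have key : ∀ x, K.subtype.baseChange S' (cK.symm x) =
        cF.symm ((K.subtype.restrictScalars B').lTensor S x) := by
      intro x
      induction x using TensorProduct.induction_on with
      | zero => simp
      | tmul b z => simp [cK, cF]
      | add a c ha hc => simp only [map_add, ha, hc]
    have hinj : Function.Injective (K.subtype.baseChange S') := by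
      intro x y hxy
      obtain ⟨x, rfl⟩ := cK.symm.surjective x
      obtain ⟨y, rfl⟩ := cK.symm.surjective y
      rw [key, key] at hxy
      rw [hi (cF.symm.injective hxy)]
    have hsurj : Function.Surjective (π.baseChange S') := LinearMap.baseChange_surjective (A := S') hπ
    have hker : LinearMap.ker (π.baseChange S') = LinearMap.range (K.subtype.baseChange S') := by
      refine SetLike.ext fun x => ?_
      simp only [LinearMap.mem_ker, LinearMap.mem_range, LinearMap.baseChange_eq_ltensor]
      exact lTensor_exact S' (LinearMap.exact_subtype_ker_map π) hπ x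
    have : Module.Finite S' (LinearMap.range (K.subtype.baseChange S')) :=
      Module.Finite.iff_fg.mpr (hker ▸ Module.FinitePresentation.fg_ker _ hsurj)
    exact Module.Finite.equiv (LinearEquiv.ofInjective _ hinj).symm
  haveI : Module.Finite D (D ⊗[D'] K) := hinj B D
  haveI : Module.Finite C' (C' ⊗[D'] K) := hinj A' C'
  exact Module.finitePresentation_of_surjective π hπ
    (Module.Finite.iff_fg.mp (Groth.Agent.H48.Mil.finite_of_detect D C' hdet K))

end Groth.Agent.S6922
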