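import Groth.Statements.S6923
import Groth.Agent.Lib.Henselian.NilSystem

set_option autoImplicit false
universe u
open Hensel

namespace Groth.Agent.S6923

/-- Let `A = lim A_n` be the limit of an inverse system of rings `(A_n)_{n ≥ 0}` in which each map
`A_{n+1} → A_n` is onto and every element of its kernel is nilpotent. Let `M_n` be `A_n`-modules
with compatible maps `M_{n+1} → M_n` such that `M_0` is finite projective, every `M_n` is finite and
flat over `A_n`, and the maps induce isomorphisms `M_{n+1} ⊗_{A_{n+1}} A_n → M_n` (i.e. are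
surjective with kernel `Ker(A_{n+1} → A_n) M_{n+1}`). Then the inverse limit of the `M_n` is a
finitely generated projective `A`-module whose base change to each `A_n` maps onto `M_n`
isomorphically: there is a finite projective `A`-module `P` with compatible maps `P → M_n`, each
surjective with kernel `Ker(A → A_n) P`, through which `P` maps bijectively onto the compatible
sequences in `∏ M_n`. -/
theorem result (A : Type u) [CommRing A] (An : ℕ → Type u)
    [∀ n, CommRing (An n)] (t : ∀ n, An (n + 1) →+* An n) (π : ∀ n, A →+* An n)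
    (ht : ∀ n, Function.Surjective (t n)) (hnil : ∀ n (x : An (n + 1)), t n x = 0 → IsNilpotent x)
    (hA : FlatCA.IsRingLimit A An t π)
    (M : ℕ → Type u) [∀ n, AddCommGroup (M n)] [∀ n, Module (An n) (M n)] (u : ∀ n, M (n + 1) →ₛₗ[t n] M n)
    [Module.Projective (An 0) (M 0)] (hfin : ∀ n, Module.Finite (An n) (M n)) (hflat : ∀ n, Module.Flat (An n) (M n))
    (hu : ∀ n, Function.Surjective (u n) ∧ LinearMap.ker (u n) = RingHom.ker (t n) • (⊤ : Submodule (An (n + 1)) (M (n + 1)))) :
    ∃ (P : Type u) (_ : AddCommGroup P) (_ : Module A P) (p : ∀ n, P →ₛₗ[π n] M n),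
      Module.Finite A P ∧ Module.Projective A P ∧ (∀ n (x : P), u n (p (n + 1) x) = p n x) ∧
      (∀ n, Function.Surjective (p n) ∧ LinearMap.ker (p n) = RingHom.ker (π n) • (⊤ : Submodule A P)) ∧
      (∀ x : (∀ n, M n), (∀ n, u n (x (n + 1)) = x n) → ∃! q : P, ∀ n, p n q = x n) := by
  haveI := hfin
  haveI := hflat
  haveI : Module.Finite (An 0) (M 0) := hfin 0
  obtain ⟨r, g0, hg0⟩ := Module.Finite.exists_fin (R := An 0) (M := M 0)
  choose L hL using fun n => (hu n).1
  let g : ∀ n, Fin r → M n := fun n => Nat.rec (motive := fun n => Fin r → M n) g0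
    (fun m x i => L m (x i)) n
  have hgu : ∀ n i, u n (g (n + 1) i) = g n i := fun n i => hL n _
  have hspan : ∀ n, Submodule.span (An n) (Set.range (g n)) = ⊤ := fun n => by
    induction n with
    | zero => exact hg0
    | succ n ih =>
      exact Lib.Henselian.NilSystem.span_eq_top (hnil n) (ht n) (hu n).2 (hgu n) ih
  have step : ∀ n (s : M n →ₗ[An n] Fin r → An n),
      (∀ m, Fintype.linearCombination (An n) (g n) (s m) = m) →
      ∃ s' : M (n + 1) →ₗ[An (n + 1)] Fin r → An (n + 1),
        (∀ m, Fintype.linearCombination (An (n + 1)) (g (n + 1)) (s' m) = m) ∧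
        ∀ m i, t n (s' m i) = s (u n m) i := fun n s hs =>
    Lib.Henselian.NilSystem.exists_section (ht n) (hnil n) (hu n).2 (hgu n) (hspan n) s hs
  obtain ⟨s0, hs0⟩ : ∃ s : M 0 →ₗ[An 0] Fin r → An 0,
      ∀ m, Fintype.linearCombination (An 0) (g 0) (s m) = m := by
    obtain ⟨s, hs⟩ := Module.projective_lifting_property (Fintype.linearCombination (An 0) (g 0))
      LinearMap.id (by rw [← LinearMap.range_eq_top, Fintype.range_linearCombination]; exact hspan 0)
    exact ⟨s, fun m => LinearMap.congr_fun hs m⟩
  choose S hS1 hS2 using step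
  let sec : ∀ n, {s : M n →ₗ[An n] Fin r → An n //
      ∀ m, Fintype.linearCombination (An n) (g n) (s m) = m} :=
    fun n => Nat.rec (motive := fun n => {s : M n →ₗ[An n] Fin r → An n //
      ∀ m, Fintype.linearCombination (An n) (g n) (s m) = m}) ⟨s0, hs0⟩
      (fun m s => ⟨S m s.1 s.2, hS1 m s.1 s.2⟩) n
  have hsec : ∀ n m i, t n ((sec (n + 1)).1 m i) = (sec n).1 (u n m) i := fun n => hS2 n _ _
  have hπ : ∀ n, Function.Surjective (π n) := fun n =>
    Lib.Henselian.NilSystem.surjective_of_isRingLimit n A An t π ht hA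
  have hlim : ∀ v : ∀ n, Fin r → An n, (∀ n i, t n (v (n + 1) i) = v n i) →
      ∃ w : Fin r → A, ∀ n i, π n (w i) = v n i := fun v hv => by
    choose w hw using fun i => hA.2.2 (fun n => v n i) (fun n => hv n i)
    exact ⟨w, fun n i => hw i n⟩
  choose E hE using fun j => hlim (fun n => (sec n).1 (g n j))
    (fun n i => by rw [hsec, hgu])
  let e := Fintype.linearCombination A E
  let f := fun n => Fintype.linearCombination (An n) (g n)
  have he : ∀ v n i, π n (e v i) = (sec n).1 (f n fun j => π n (v j)) i := fun v n i => by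
    simp only [e, f, Fintype.linearCombination_apply, map_sum, map_smul, Finset.sum_apply,
      Pi.smul_apply, smul_eq_mul, map_mul, hE]
  have he' : ∀ v, e (e v) = e v := fun v => funext fun i => hA.2.1 _ _ fun n => by
    rw [he, show (fun j => π n (e v j)) = (sec n).1 (f n fun j => π n (v j)) from funext (he v n),
      (sec n).2, he]
  let P := LinearMap.range e
  let p : ∀ n, P →ₛₗ[π n] M n := fun n =>
    { toFun := fun x => f n fun j => π n ((x : Fin r → A) j)
      map_add' := fun x y => by
        rw [← map_add]; congr 1; funext j; exact map_add (π n) _ _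
      map_smul' := fun a x => by
        rw [← map_smul]; congr 1; funext j; exact map_mul (π n) _ _ }
  have hp : ∀ n (x : P) i, π n ((x : Fin r → A) i) = (sec n).1 (p n x) i := by
    rintro n ⟨_, v, rfl⟩ i
    change π n (e v i) = (sec n).1 (f n fun j => π n (e v j)) i
    conv_lhs => rw [← he', he]
  refine ⟨P, inferInstance, inferInstance, p, inferInstance, ?_, fun n x => ?_, fun n => ⟨?_, ?_⟩,
    fun x hx => ?_⟩
  · exact Module.Projective.of_split P.subtype (LinearMap.rangeRestrict e) (LinearMap.ext
      fun ⟨y, v, hv⟩ => Subtype.ext (show e y = y by rw [← hv, he']))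
  · change u n (∑ j, π (n + 1) ((x : Fin r → A) j) • g (n + 1) j) =
      ∑ j, π n ((x : Fin r → A) j) • g n j
    rw [map_sum]
    refine Finset.sum_congr rfl fun j _ => ?_
    rw [LinearMap.map_smulₛₗ, hgu, ← RingHom.comp_apply, hA.1]
  · intro m
    choose w hw using fun i => hπ n ((sec n).1 m i)
    refine ⟨⟨e w, w, rfl⟩, ?_⟩
    change (f n fun j => π n (e w j)) = m
    rw [show (fun j => π n (e w j)) = (sec n).1 (f n fun j => π n (w j)) from funext (he w n),
      show (fun j => π n (w j)) = (sec n).1 m from funext hw, (sec n).2, (sec n).2]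
  · refine le_antisymm (fun x hx => ?_) (Submodule.smul_le.2 fun a ha y _ => ?_)
    · have hx' : ∀ i, (x : Fin r → A) i ∈ RingHom.ker (π n) := fun i => by
        rw [RingHom.mem_ker, hp, LinearMap.mem_ker.1 hx, map_zero]
        rfl
      have hxe : x = ∑ i, (x : Fin r → A) i • (LinearMap.rangeRestrict e (Pi.single i 1)) := by
        refine Subtype.ext ?_
        obtain ⟨_, v, rfl⟩ := x
        change e v = _
        conv_lhs => rw [← he', pi_eq_sum_univ' (e v)]
        simp
      rw [hxe]
      exact Submodule.sum_mem _ fun i _ => Submodule.smul_mem_smul (hx' i) trivial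
    · rw [LinearMap.mem_ker, LinearMap.map_smulₛₗ, RingHom.mem_ker.1 ha, zero_smul]
  · obtain ⟨w, hw⟩ := hlim (fun n => (sec n).1 (x n)) fun n i => by rw [hsec, hx]
    have hew : e w = w := funext fun i => hA.2.1 _ _ fun n => by
      rw [he, show (fun j => π n (w j)) = (sec n).1 (x n) from funext (hw n), (sec n).2, hw]
    refine ⟨⟨w, w, hew⟩, fun n => ?_, fun q hq => Subtype.ext (funext fun i => hA.2.1 _ _ fun n => ?_)⟩
    · change (f n fun j => π n (w j)) = x n
      rw [show (fun j => π n (w j)) = (sec n).1 (x n) from funext (hw n), (sec n).2]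
    · rw [hp, hq, hw]

end Groth.Agent.S6923
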