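import Groth.Statements.S6925
import Groth.Agent.Lib.FlatCA.CompleteFlatten
-- import your own Groth.Agent.* helpers here

set_option autoImplicit false
universe u
open TensorProduct
open FlatMor

namespace Groth.Agent.S6925

/-- Let `(R, 𝔪)` be a complete Noetherian local ring, `R → S` a ring map with `S` Noetherian and `M` a
finite `S`-module. Then among ideals contained in `𝔪`, there is a smallest one `I` with the
following property: whenever `𝔮` is a prime of `S` lying over `𝔪`, the module `(M/IM)_𝔮` is
`R/I`-flat. Namely, `I ⊆ 𝔪` has this property, and every ideal `J` with the property contains `I`. -/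
theorem result (R S : Type u) [CommRing R] [IsLocalRing R]
    [IsNoetherianRing R] [IsAdicComplete (IsLocalRing.maximalIdeal R) R] [CommRing S] [Algebra R S] [IsNoetherianRing S]
    (M : Type u) [AddCommGroup M] [Module S M] [Module R M] [IsScalarTower R S M] [Module.Finite S M] :
    ∃ I : Ideal R, I ≤ IsLocalRing.maximalIdeal R ∧
      (∀ (q : Ideal S) [q.IsPrime], q.comap (algebraMap R S) = IsLocalRing.maximalIdeal R →
        Module.Flat (R ⧸ I) ((R ⧸ I) ⊗[R] LocalizedModule q.primeCompl M)) ∧
      ∀ J : Ideal R, (∀ (q : Ideal S) [q.IsPrime], q.comap (algebraMap R S) = IsLocalRing.maximalIdeal R →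
        Module.Flat (R ⧸ J) ((R ⧸ J) ⊗[R] LocalizedModule q.primeCompl M)) → I ≤ J := by
  obtain ⟨I, hIm, hI, hmin, -⟩ := Groth.Agent.Lib.FlatCA.CompleteFlatten.exists_flattening R S M
  exact ⟨I, hIm, hI, hmin⟩

end Groth.Agent.S6925
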