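import Groth.Statements.S6927
import Groth.Agent.Lib.FlatCA.CompleteFlattenFT
import Groth.Agent.Lib.Flat55.Presented
import Mathlib.RingTheory.FinitePresentation
-- import your own Groth.Agent.* helpers here

set_option autoImplicit false
universe u
open TensorProduct
open FlatMor

namespace Groth.Agent.S6927

open Groth.Agent.Lib.Flat55.Relations Groth.Agent.Lib.FlatCA Groth.Agent.H19.FlatLocus MvPolynomial TensorProduct IsLocalRing

/-- Let `(R, 𝔪)` be a complete Noetherian local ring, `R → S` of finite type, `M` a finite `S`-module,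
and `I ⊆ 𝔪` the least ideal for which, at every prime `𝔮` of `S` lying over `𝔪`, the localization
`(M/IM)_𝔮` is an `R/I`-flat module. Then for every local homomorphism `φ : R → R'` of local rings
(`R'` arbitrary), with `S' = S ⊗_R R'` and `M' = M ⊗_R R'`: `M'_{𝔮'}` is flat over `R'` for every
prime `𝔮'` of `S'` over `𝔪'` if and only if `φ(I) = 0`. -/
theorem result {R S R' S' : Type u} [CommRing R] [IsLocalRing R]
    [IsNoetherianRing R] [IsAdicComplete (IsLocalRing.maximalIdeal R) R] [CommRing S]
    [CommRing R'] [IsLocalRing R'] [CommRing S']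
    [Algebra R S] [Algebra.FiniteType R S] [Algebra R R'] [IsLocalHom (algebraMap R R')] [Algebra S S'] [Algebra R' S']
    [Algebra R S'] [IsScalarTower R S S'] [IsScalarTower R R' S'] [Algebra.IsPushout R S R' S']
    {M M' : Type u} [AddCommGroup M] [Module S M] [Module R M] [IsScalarTower R S M] [Module.Finite S M]
    [AddCommGroup M'] [Module S' M'] [Module R' M'] [IsScalarTower R' S' M'] [Module S M'] [IsScalarTower S S' M']
    (f : M →ₗ[S] M') (hf : IsBaseChange S' f) (I : Ideal R) (hIm : I ≤ IsLocalRing.maximalIdeal R)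
    (hI : (∀ (q : Ideal S) [q.IsPrime], q.comap (algebraMap R S) = IsLocalRing.maximalIdeal R →
        Module.Flat (R ⧸ I) ((R ⧸ I) ⊗[R] LocalizedModule q.primeCompl M)))
    (hmin : ∀ J : Ideal R, (∀ (q : Ideal S) [q.IsPrime], q.comap (algebraMap R S) = IsLocalRing.maximalIdeal R →
        Module.Flat (R ⧸ J) ((R ⧸ J) ⊗[R] LocalizedModule q.primeCompl M)) → I ≤ J) :
    (∀ (q' : Ideal S') [q'.IsPrime], q'.comap (algebraMap R' S') = IsLocalRing.maximalIdeal R' → FlatCA.FlatAt R' q' M') ↔
      I ≤ RingHom.ker (algebraMap R R') := by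
  haveI : IsNoetherianRing S := Algebra.FiniteType.isNoetherianRing R S
  obtain ⟨I₀, -, hI₀, hmin₀, h4⟩ := CompleteFlatten.exists_flattening R S M
  obtain rfl : I = I₀ := le_antisymm (hmin _ hI₀) (hmin₀ _ hI)
  rw [← Ideal.map_eq_bot_iff_le_ker]
  refine ⟨fun hflat => ?_,
    fun h0 q' _ hq' => CompleteFlatten.flatAt_of_map_eq_bot inferInstance f hf hI h0 q' hq'⟩
  haveI : Algebra.FinitePresentation R S := Algebra.FinitePresentation.of_finiteType.1 inferInstance
  haveI : Module.FinitePresentation S M := Module.finitePresentation_of_finite S M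
  obtain ⟨n, m, k, π, g, e, hπ, he, -⟩ := exists_presentation (R := R) (S := S) (M := M)
  let φ := algebraMap R R'
  let g' : Fin k → Fin m → MvPolynomial (Fin n) R' := fun v => mapVec φ (g v)
  letI : Algebra (MvPolynomial (Fin n) R) (MvPolynomial (Fin n) R') := MvPolynomial.algebraMvPolynomial
  have hbc : IsBaseChange (MvPolynomial (Fin n) R') (Groth.Agent.Lib.Flat55.Presented.quotMap g g' fun _ _ => rfl) :=
    Groth.Agent.Lib.Flat55.Presented.isBaseChange_quotMap g g' fun _ _ => rfl
  let π' : MvPolynomial (Fin n) R' →ₐ[R'] S' := MvPolynomial.aeval fun i => algebraMap S S' (π (X i))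
  have hππ' : ∀ p, π' (MvPolynomial.map φ p) = algebraMap S S' (π p) := by
    refine RingHom.congr_fun (f := π'.toRingHom.comp (MvPolynomial.map φ))
      (g := (algebraMap S S').comp π.toRingHom) (MvPolynomial.ringHom_ext (fun r => ?_) fun i => ?_)
    · simp [π', φ, ← IsScalarTower.algebraMap_apply]
    · simp [π']
  have hπ' : Function.Surjective π' := fun x => by
    haveI : Algebra.IsPushout R R' S S' := Algebra.IsPushout.symm inferInstance
    induction x using Algebra.IsPushout.out (R := R) (S := R') (R' := S) (S' := S') |>.inductionOn with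
    | zero => exact ⟨0, map_zero _⟩
    | tmul s =>
      obtain ⟨p, rfl⟩ := hπ s
      exact ⟨MvPolynomial.map φ p, hππ' p⟩
    | smul r y hy =>
      obtain ⟨p, rfl⟩ := hy
      exact ⟨r • p, map_smul π' r p⟩
    | add a b ha hb =>
      obtain ⟨p, rfl⟩ := ha
      obtain ⟨p', rfl⟩ := hb
      exact ⟨p + p', map_add π' p p'⟩
  letI : Algebra (MvPolynomial (Fin n) R') S' := π'.toRingHom.toAlgebra
  letI : Module (MvPolynomial (Fin n) R') M' := Module.compHom M' π'.toRingHom
  haveI : IsScalarTower R' (MvPolynomial (Fin n) R') M' := ⟨fun r p x => by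
    show π' (r • p) • x = r • π' p • x
    rw [map_smul, smul_assoc]⟩
  letI : Module (MvPolynomial (Fin n) R) M' := Module.compHom M' (MvPolynomial.map φ)
  haveI : IsScalarTower (MvPolynomial (Fin n) R) (MvPolynomial (Fin n) R') M' := ⟨fun a b x => by
    show ((MvPolynomial.map φ) a * b) • x = (MvPolynomial.map φ) a • b • x
    rw [mul_smul]⟩
  have hes : ∀ p y, e.symm (p • y) = π p • e.symm y := fun p y => by
    apply e.injective
    rw [he, e.apply_symm_apply, e.apply_symm_apply]
  let fP : Quot g →ₗ[MvPolynomial (Fin n) R] M' :=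
    { toFun := fun y => f (e.symm y)
      map_add' := fun a b => by rw [map_add, map_add]
      map_smul' := fun p y => by
        rw [hes, map_smul, ← algebraMap_smul S' (π p), ← hππ']
        rfl }
  let Φ := hbc.lift fP
  have hΦ : Function.Bijective Φ := by
    let E := Groth.Agent.Lib.FlatCA.Impurity.baseChangeEquiv (A := R) (B := MvPolynomial (Fin n) R) (A' := R') (B' := MvPolynomial (Fin n) R') inferInstance _ hbc
    let F := Groth.Agent.Lib.FlatCA.Impurity.baseChangeEquiv (A := R) (B := S) (A' := R') (B' := S') inferInstance f hf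
    let G := (E.trans (AlgebraTensorModule.congr (LinearEquiv.refl R' R') e.symm)).trans F.symm
    have hG : ∀ w, Φ (E.symm w) = G (E.symm w) := by
      intro w
      induction w using TensorProduct.induction_on with
      | zero => simp
      | add a b ha hb => simp only [map_add, ha, hb]
      | tmul r y =>
        rw [show r ⊗ₜ[R] y = r • ((1 : R') ⊗ₜ[R] y) by rw [TensorProduct.smul_tmul', smul_eq_mul, mul_one],
          map_smul E.symm, LinearMap.map_smul_of_tower, map_smul G]
        congr 1
        simp only [G, LinearEquiv.trans_apply, LinearEquiv.apply_symm_apply,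
          AlgebraTensorModule.congr_tmul, LinearEquiv.refl_apply]
        rw [CompleteFlatten.baseChangeEquiv_symm_one_tmul, CompleteFlatten.baseChangeEquiv_symm_one_tmul]
        exact hbc.lift_eq fP y
    have : (Φ : Quot g' → M') = G := funext fun z => by
      obtain ⟨w, rfl⟩ := E.symm.surjective z
      exact hG w
    rw [this]
    exact G.bijective
  let Φe := LinearEquiv.ofBijective Φ hΦ
  have hQ : ∀ (Q : Ideal (MvPolynomial (Fin n) R')) [Q.IsPrime], Q.comap C = maximalIdeal R' →
      Module.Flat R' (QuotAt g' Q) := by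
    intro Q _ hQm
    haveI : IsLocalizedModule Q.primeCompl
        ((LocalizedModule.mkLinearMap Q.primeCompl (Quot g')).comp Φe.symm.toLinearMap) :=
      IsLocalizedModule.of_linearEquiv_right _ _ _
    rw [flat_iff_killed (R := R') Q.primeCompl
      ((LocalizedModule.mkLinearMap Q.primeCompl (Quot g')).comp Φe.symm.toLinearMap)]
    intro J y hy
    have hsmul : ∀ (p : MvPolynomial (Fin n) R') (y : M' ⊗[R'] J), π' p • y = p • y := fun p y => by
      induction y using TensorProduct.induction_on with
      | zero => simp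
      | add a b ha hb => rw [smul_add, smul_add, ha, hb]
      | tmul x j => rw [TensorProduct.smul_tmul', TensorProduct.smul_tmul']; rfl
    by_cases hker : RingHom.ker π'.toRingHom ≤ Q
    · let q' := Q.map π'.toRingHom
      haveI : q'.IsPrime := Ideal.map_isPrime_of_surjective hπ' hker
      have hc : q'.comap π'.toRingHom = Q := by
        rw [Ideal.comap_map_of_surjective π'.toRingHom hπ', ← RingHom.ker_eq_comap_bot, sup_eq_left.2 hker]
      have hq' : q'.comap (algebraMap R' S') = maximalIdeal R' := by
        rw [← hQm, ← hc, Ideal.comap_comap, show π'.toRingHom.comp C = algebraMap R' S' from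
          RingHom.ext fun r => π'.commutes r]
      obtain ⟨s, hs, hsy⟩ := (flat_iff_killed q'.primeCompl
        (LocalizedModule.mkLinearMap q'.primeCompl M')).1 (hflat q' hq') J y hy
      obtain ⟨p, rfl⟩ := hπ' s
      exact ⟨p, fun hp => hs (Ideal.mem_map_of_mem _ hp), (hsmul p y).symm.trans hsy⟩
    · obtain ⟨p, hp, hpQ⟩ := Set.not_subset.1 hker
      exact ⟨p, hpQ, by rw [← hsmul, show π' p = 0 from hp, zero_smul]⟩
  obtain ⟨R₀, _, _, _, _, θ, hθ, hθR, h₀⟩ := CompleteFlatten.exists_noetherian_stage g hQ
  haveI : IsLocalHom (algebraMap R R₀) := ⟨fun r hr => by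
    refine IsUnit.of_map (algebraMap R R') r ?_
    rw [← hθR]
    exact hr.map θ⟩
  letI : Algebra (MvPolynomial (Fin n) R) (MvPolynomial (Fin n) R₀) := MvPolynomial.algebraMvPolynomial
  let g₀ : Fin k → Fin m → MvPolynomial (Fin n) R₀ := fun v => mapVec (algebraMap R R₀) (g v)
  letI : Module (MvPolynomial (Fin n) R) (Quot g₀) :=
    inferInstanceAs (Module (MvPolynomial (Fin n) R) ((Fin m → MvPolynomial (Fin n) R₀) ⧸ _))
  have hI0 : I.map (algebraMap R R₀) = ⊥ := by
    refine CompleteFlatten.map_eq_bot_of_flatAt (S := MvPolynomial (Fin n) R) (S' := MvPolynomial (Fin n) R₀)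
      inferInstance (Groth.Agent.Lib.Flat55.Presented.quotMap g g₀ fun _ _ => rfl)
      (Groth.Agent.Lib.Flat55.Presented.isBaseChange_quotMap g g₀ fun _ _ => rfl) (fun N A' _ _ hA' => ?_) h₀
    rw [← h4 N A' hA']
    exact ⟨fun _ => Module.Flat.of_linearEquiv (AlgebraTensorModule.congr (LinearEquiv.refl A' A') e),
      fun _ => Module.Flat.of_linearEquiv (AlgebraTensorModule.congr (LinearEquiv.refl A' A') e.symm)⟩
  rw [← hθR, ← Ideal.map_map, hI0, Ideal.map_bot]

end Groth.Agent.S6927
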