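import Groth.Statements.S6928
import Groth.Agent.H47.FlatLocusColim

set_option autoImplicit false
universe u
open FlatMor TensorProduct

attribute [local instance] Algebra.TensorProduct.rightAlgebra

namespace Groth.Agent.S6928

/-- Let `R → S` be a ring map that is essentially of finite presentation, `J ⊆ S` an ideal and `M` a
finitely presented `S`-module. Let `(R_λ)` be a directed system of `R`-algebras with colimit `R'`,
and `I_λ ⊆ R_λ` ideals with `I_λ R_μ ⊆ I_μ`, `I' = colim I_λ`, `S' = S ⊗_R R'`, `M' = M ⊗_R R'`. If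
`M'_{𝔮'}` is flat over `R'` for every prime `𝔮' ⊇ I'S' + JS'`, then there is `λ` such that, with
`S_λ = S ⊗_R R_λ` and `M_λ = M ⊗_R R_λ`, `(M_λ)_𝔮` is flat over `R_λ` for every prime `𝔮 ⊇ I_λ S_λ +
J S_λ`. -/
theorem result {R S : Type u} [CommRing R] [CommRing S] [Algebra R S] (hS : FlatCA.EssFinitePresentation R S)
    {M : Type u} [AddCommGroup M] [Module S M] [Module R M] [IsScalarTower R S M] [Module.FinitePresentation S M]
    {ι : Type u} [Preorder ι] (G : ι → Type u) [∀ i, CommRing (G i)] [∀ i, Algebra R (G i)]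
    (g : ∀ i j, i ≤ j → G i →+* G j) (hgR : ∀ i j (h : i ≤ j), (g i j h).comp (algebraMap R (G i)) = algebraMap R (G j))
    (R' : Type u) [CommRing R'] [Algebra R R'] [∀ i, Algebra (G i) R'] [∀ i, IsScalarTower R (G i) R']
    (hcolim : FlatCA.IsDirectedColimitRing G g R')
    (Il : ∀ i, Ideal (G i)) (hIl : ∀ i j (h : i ≤ j), (Il i).map (g i j h) ≤ Il j)
    {S' : Type u} [CommRing S'] [Algebra S S'] [Algebra R' S'] [Algebra R S'] [IsScalarTower R S S']
    [IsScalarTower R R' S'] [Algebra.IsPushout R S R' S']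
    {M' : Type u} [AddCommGroup M'] [Module S' M'] [Module R' M'] [IsScalarTower R' S' M'] [Module S M']
    [IsScalarTower S S' M'] (f : M →ₗ[S] M') (hf : IsBaseChange S' f)
    (J : Ideal S)
    (h : ∀ (q' : Ideal S') [q'.IsPrime],
      (⨆ i, (Il i).map (algebraMap (G i) R')).map (algebraMap R' S') ⊔ J.map (algebraMap S S') ≤ q' →
        FlatCA.FlatAt R' q' M') :
    ∃ i : ι, ∀ (Si Mi : Type u) [CommRing Si] [Algebra S Si] [Algebra (G i) Si] [Algebra R Si] [IsScalarTower R S Si]
      [IsScalarTower R (G i) Si] [Algebra.IsPushout R S (G i) Si] [AddCommGroup Mi] [Module Si Mi] [Module (G i) Mi]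
      [IsScalarTower (G i) Si Mi] [Module S Mi] [IsScalarTower S Si Mi] (fi : M →ₗ[S] Mi), IsBaseChange Si fi →
      ∀ (q : Ideal Si) [q.IsPrime], (Il i).map (algebraMap (G i) Si) ⊔ J.map (algebraMap S Si) ≤ q → FlatCA.FlatAt (G i) q Mi := by
  classical
  obtain ⟨S₀, _, _, _, _, W, hfp, hloc⟩ := hS
  letI : Module S₀ M := Module.compHom M (algebraMap S₀ S)
  have : IsScalarTower S₀ S M := IsScalarTower.of_algebraMap_smul fun _ _ => rfl
  obtain ⟨M₀, _, _, _, l, hl⟩ := Groth.Agent.H47.FlatLocusColim.exists_descend (N := M) W (S := S)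
  let gA : ∀ i j, i ≤ j → G i →ₐ[R] G j := fun i j hij =>
    { g i j hij with commutes' := fun r => RingHom.congr_fun (hgR i j hij) r }
  let J₀ := J.comap (algebraMap S₀ S)
  -- the comparison map at the limit
  letI : Algebra S₀ S' := ((algebraMap S S').comp (algebraMap S₀ S)).toAlgebra
  have : IsScalarTower S₀ S S' := IsScalarTower.of_algebraMap_eq fun _ => rfl
  have : IsScalarTower R S₀ S' := IsScalarTower.of_algebraMap_eq fun r => by
    show algebraMap R S' r = algebraMap S S' (algebraMap S₀ S (algebraMap R S₀ r))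
    rw [← IsScalarTower.algebraMap_apply R S₀ S, ← IsScalarTower.algebraMap_apply R S S']
  let θ : R' ⊗[R] S₀ →ₐ[R] S' :=
    Algebra.TensorProduct.productMap (IsScalarTower.toAlgHom R R' S') (IsScalarTower.toAlgHom R S₀ S')
  letI : Algebra (R' ⊗[R] S₀) S' := θ.toRingHom.toAlgebra
  have : IsScalarTower R' (R' ⊗[R] S₀) S' :=
    IsScalarTower.of_algebraMap_eq (R := R') (S := R' ⊗[R] S₀) (A := S') fun c =>
      ((Algebra.TensorProduct.productMap_apply_tmul _ _ c 1).trans
        ((congrArg _ (map_one _)).trans (mul_one _))).symm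
  have : IsScalarTower S₀ (R' ⊗[R] S₀) S' :=
    IsScalarTower.of_algebraMap_eq (R := S₀) (S := R' ⊗[R] S₀) (A := S') fun b =>
      ((Algebra.TensorProduct.productMap_apply_tmul _ _ 1 b).trans
        ((congrArg (· * _) (map_one _)).trans (one_mul _))).symm
  have : Algebra.IsPushout R S₀ R' (R' ⊗[R] S₀) :=
    (inferInstance : Algebra.IsPushout R R' S₀ (R' ⊗[R] S₀)).symm
  have : Algebra.IsPushout S₀ S (R' ⊗[R] S₀) S' := (Algebra.IsPushout.comp_iff R S₀ R' (R' ⊗[R] S₀)).1 inferInstance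
  have : Algebra.IsPushout S₀ (R' ⊗[R] S₀) S S' := Algebra.IsPushout.symm inferInstance
  have : IsLocalization (Algebra.algebraMapSubmonoid (R' ⊗[R] S₀) W) S' :=
    (Algebra.isLocalization_iff_isPushout W S).2 inferInstance
  have : Module.Flat (R' ⊗[R] S₀) S' :=
    IsLocalization.flat S' (Algebra.algebraMapSubmonoid (R' ⊗[R] S₀) W)
  letI : Module S₀ M' := Module.compHom M' (algebraMap S₀ S')
  have : IsScalarTower S₀ S' M' := IsScalarTower.of_algebraMap_smul fun _ _ => rfl
  have : IsScalarTower S₀ S M' := IsScalarTower.of_algebraMap_smul fun s m => by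
    rw [← algebraMap_smul S' (algebraMap S₀ S s) m]
    rfl
  obtain ⟨i, hi⟩ := Groth.Agent.H47.FlatLocusColim.exists_stage (M₀ := M₀) W J₀ G gA R' hcolim Il
    (fun i j hij => hIl i j hij) fun q hqW hI hJ => by
    have hdisj : Disjoint (Algebra.algebraMapSubmonoid (R' ⊗[R] S₀) W : Set (R' ⊗[R] S₀)) q.asIdeal :=
      Set.disjoint_left.2 fun x hx hx' => by
        obtain ⟨w, hw, rfl⟩ := hx
        exact hqW w hw hx'
    let Q := q.asIdeal.map (algebraMap (R' ⊗[R] S₀) S')
    have : Q.IsPrime := IsLocalization.isPrime_of_isPrime_disjoint _ S' _ q.isPrime hdisj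
    have hQ : Q.comap (algebraMap (R' ⊗[R] S₀) S') = q.asIdeal :=
      IsLocalization.comap_map_of_isPrime_disjoint _ S' q.isPrime hdisj
    have hle : (⨆ i, (Il i).map (algebraMap (G i) R')).map (algebraMap R' S') ⊔
        J.map (algebraMap S S') ≤ Q := by
      refine sup_le ?_ ?_
      · rw [IsScalarTower.algebraMap_eq R' (R' ⊗[R] S₀) S', ← Ideal.map_map]
        exact Ideal.map_mono hI
      · rw [← IsLocalization.map_comap W S J, Ideal.map_map, ← IsScalarTower.algebraMap_eq,
          IsScalarTower.algebraMap_eq S₀ (R' ⊗[R] S₀) S', ← Ideal.map_map]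
        exact Ideal.map_mono hJ
    have hflat := (Groth.Agent.H47.FlatLocusColim.flatAt_iff_of_isBaseChange (A := R') (T := R' ⊗[R] S₀)
      ((f.restrictScalars S₀).comp l) (IsBaseChange.comp hl hf) Q).1 (h Q hle)
    have e : (Q.comap (algebraMap (R' ⊗[R] S₀) S')).primeCompl = q.asIdeal.primeCompl := by
      ext x
      show x ∉ Q.comap (algebraMap (R' ⊗[R] S₀) S') ↔ x ∉ q.asIdeal
      rw [hQ]
    rw [e] at hflat
    exact hflat
  refine ⟨i, fun Si Mi _ _ _ _ _ _ _ _ _ _ _ _ _ fi hfi q _ hq => ?_⟩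
  letI : Algebra S₀ Si := ((algebraMap S Si).comp (algebraMap S₀ S)).toAlgebra
  have : IsScalarTower S₀ S Si := IsScalarTower.of_algebraMap_eq fun _ => rfl
  have : IsScalarTower R S₀ Si := IsScalarTower.of_algebraMap_eq fun r => by
    show algebraMap R Si r = algebraMap S Si (algebraMap S₀ S (algebraMap R S₀ r))
    rw [← IsScalarTower.algebraMap_apply R S₀ S, ← IsScalarTower.algebraMap_apply R S Si]
  let θi : G i ⊗[R] S₀ →ₐ[R] Si :=
    Algebra.TensorProduct.productMap (IsScalarTower.toAlgHom R (G i) Si) (IsScalarTower.toAlgHom R S₀ Si)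
  letI : Algebra (G i ⊗[R] S₀) Si := θi.toRingHom.toAlgebra
  have : IsScalarTower (G i) (G i ⊗[R] S₀) Si :=
    IsScalarTower.of_algebraMap_eq (R := G i) (S := G i ⊗[R] S₀) (A := Si) fun c =>
      ((Algebra.TensorProduct.productMap_apply_tmul _ _ c 1).trans
        ((congrArg _ (map_one _)).trans (mul_one _))).symm
  have : IsScalarTower S₀ (G i ⊗[R] S₀) Si :=
    IsScalarTower.of_algebraMap_eq (R := S₀) (S := G i ⊗[R] S₀) (A := Si) fun b =>
      ((Algebra.TensorProduct.productMap_apply_tmul _ _ 1 b).trans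
        ((congrArg (· * _) (map_one _)).trans (one_mul _))).symm
  have : Algebra.IsPushout R S₀ (G i) (G i ⊗[R] S₀) :=
    (inferInstance : Algebra.IsPushout R (G i) S₀ (G i ⊗[R] S₀)).symm
  have : Algebra.IsPushout S₀ S (G i ⊗[R] S₀) Si :=
    (Algebra.IsPushout.comp_iff R S₀ (G i) (G i ⊗[R] S₀)).1 inferInstance
  have : Algebra.IsPushout S₀ (G i ⊗[R] S₀) S Si := Algebra.IsPushout.symm inferInstance
  have : IsLocalization (Algebra.algebraMapSubmonoid (G i ⊗[R] S₀) W) Si :=
    (Algebra.isLocalization_iff_isPushout W S).2 inferInstance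
  have : Module.Flat (G i ⊗[R] S₀) Si :=
    IsLocalization.flat Si (Algebra.algebraMapSubmonoid (G i ⊗[R] S₀) W)
  letI : Module S₀ Mi := Module.compHom Mi (algebraMap S₀ Si)
  have : IsScalarTower S₀ Si Mi := IsScalarTower.of_algebraMap_smul fun _ _ => rfl
  have : IsScalarTower S₀ S Mi := IsScalarTower.of_algebraMap_smul fun s m => by
    rw [← algebraMap_smul Si (algebraMap S₀ S s) m]
    rfl
  refine (Groth.Agent.H47.FlatLocusColim.flatAt_iff_of_isBaseChange (A := G i) (T := G i ⊗[R] S₀)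
      ((fi.restrictScalars S₀).comp l) (IsBaseChange.comp hl hfi) q).2
    (hi ⟨q.comap (algebraMap (G i ⊗[R] S₀) Si), inferInstance⟩ ?_ ?_ ?_)
  · intro w hw hmem
    refine (‹q.IsPrime›).ne_top (Ideal.eq_top_of_isUnit_mem _ hmem ?_)
    rw [← IsScalarTower.algebraMap_apply S₀ (G i ⊗[R] S₀) Si, IsScalarTower.algebraMap_apply S₀ S Si]
    exact (IsLocalization.map_units S ⟨w, hw⟩).map _
  · refine Ideal.map_le_iff_le_comap.2 fun a ha => ?_
    show algebraMap (G i ⊗[R] S₀) Si (algebraMap (G i) (G i ⊗[R] S₀) a) ∈ q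
    rw [← IsScalarTower.algebraMap_apply]
    exact hq (Ideal.mem_sup_left (Ideal.mem_map_of_mem _ ha))
  · refine Ideal.map_le_iff_le_comap.2 fun a ha => ?_
    show algebraMap (G i ⊗[R] S₀) Si (algebraMap S₀ (G i ⊗[R] S₀) a) ∈ q
    rw [← IsScalarTower.algebraMap_apply, IsScalarTower.algebraMap_apply S₀ S Si]
    exact hq (Ideal.mem_sup_right (Ideal.mem_map_of_mem _ ha))

end Groth.Agent.S6928
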