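import Groth.Statements.S6929
import Mathlib.RingTheory.Adjoin.Tower
import Mathlib.RingTheory.FiniteType

set_option autoImplicit false
universe u
open EtAlg

namespace Groth.Agent.S6929

/-- Let `R` be a Noetherian ring, `ι` a finite index type, and `φ_i : A_i → B_i`, `ψ_i : Q → B_i`
surjective `R`-algebra maps, where `Q` and all `A_i`, `B_i` are `R`-algebras of finite type. Then
the fibre product ring `P = Q ×_{∏ B_i} ∏ A_i` (pairs `(q, a)` with `ψ_i(q) = φ_i(a_i)` for all `i`)
is an `R`-algebra of finite type. -/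
theorem result (R : Type u) [CommRing R] [IsNoetherianRing R] {ι : Type u} [Fintype ι]
    (Q : Type u) [CommRing Q] [Algebra R Q] [Algebra.FiniteType R Q] (A B : ι → Type u) [∀ i, CommRing (A i)]
    [∀ i, CommRing (B i)] [∀ i, Algebra R (A i)] [∀ i, Algebra R (B i)] (hA : ∀ i, Algebra.FiniteType R (A i))
    (hB : ∀ i, Algebra.FiniteType R (B i)) (φ : ∀ i, A i →ₐ[R] B i) (ψ : ∀ i, Q →ₐ[R] B i)
    (hφ : ∀ i, Function.Surjective (φ i)) (hψ : ∀ i, Function.Surjective (ψ i)) :
    Algebra.FiniteType R ↥(AlgHom.equalizer ((AlgHom.pi ψ).comp (AlgHom.fst R Q (∀ i, A i)))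
      ((AlgHom.pi fun i => (φ i).comp (Pi.evalAlgHom R A i)).comp (AlgHom.snd R Q (∀ i, A i)))) := by
  classical
  let P := AlgHom.equalizer ((AlgHom.pi ψ).comp (AlgHom.fst R Q (∀ i, A i)))
    ((AlgHom.pi fun i => (φ i).comp (Pi.evalAlgHom R A i)).comp (AlgHom.snd R Q (∀ i, A i)))
  have hmem : ∀ (q : Q) (a : ∀ i, A i), (∀ i, ψ i q = φ i (a i)) → (q, a) ∈ P :=
    fun q a h => funext h
  have : Algebra.FiniteType R (∀ i, A i) := by
    choose T hT using fun i => (hA i).out
    let gens : Finset (∀ i, A i) := Finset.univ.biUnion fun i => insert (Pi.single i 1) ((T i).image (Pi.single i))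
    refine ⟨⟨gens, eq_top_iff.2 fun x _ => ?_⟩⟩
    rw [← Finset.univ_sum_single x]
    refine Subalgebra.sum_mem _ fun i _ => ?_
    have key : ∀ z ∈ Algebra.adjoin R (T i : Set (A i)),
        (Pi.single i z : ∀ i, A i) ∈ Algebra.adjoin R (gens : Set (∀ i, A i)) := by
      intro z hz
      induction hz using Algebra.adjoin_induction with
      | mem z hz =>
        exact Algebra.subset_adjoin (Finset.mem_biUnion.2 ⟨i, Finset.mem_univ _,
          Finset.mem_insert_of_mem (Finset.mem_image_of_mem _ hz)⟩)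
      | algebraMap r =>
        have h1 : (Pi.single i 1 : ∀ i, A i) ∈ Algebra.adjoin R (gens : Set (∀ i, A i)) :=
          Algebra.subset_adjoin (Finset.mem_biUnion.2 ⟨i, Finset.mem_univ _,
            Finset.mem_insert_self _ _⟩)
        rw [Algebra.algebraMap_eq_smul_one, Pi.single_smul]
        exact Subalgebra.smul_mem _ h1 r
      | add a b _ _ ha hb => rw [Pi.single_add]; exact add_mem ha hb
      | mul a b _ _ ha hb => rw [Pi.single_mul]; exact mul_mem ha hb
    exact key _ (hT i ▸ Algebra.mem_top)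
  have : Algebra.FiniteType R (Q × ∀ i, A i) := inferInstance
  choose s hs using hφ
  choose t ht using hψ
  have hfin : Module.Finite P (Q × ∀ i, A i) := by
    let gens : Finset (Q × ∀ i, A i) := insert (1, 0) (Finset.univ.image fun i => (0, Pi.single i 1))
    refine ⟨⟨gens, eq_top_iff.2 fun x _ => ?_⟩⟩
    set W := Submodule.span P (gens : Set (Q × ∀ i, A i))
    have hq : (x.1, fun i => s i (ψ i x.1)) ∈ P := hmem _ _ fun i => (hs i _).symm
    have ha : ∀ i, ∃ (q : Q) (a : ∀ j, A j), (q, a) ∈ P ∧ a i = x.2 i := fun i => by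
      refine ⟨t i (φ i (x.2 i)),
        Function.update (fun j => s j (ψ j (t i (φ i (x.2 i))))) i (x.2 i), hmem _ _ fun j => ?_, ?_⟩
      · by_cases hj : j = i
        · subst hj; simp [ht]
        · simp [hj, hs]
      · simp
    choose q a hqa hai using ha
    have e : x = (⟨_, hq⟩ : P) • ((1 : Q), (0 : ∀ i, A i)) +
        ∑ i, (⟨_, hqa i⟩ : P) • ((0 : Q), (Pi.single i 1 : ∀ i, A i)) := by
      refine Prod.ext ?_ ?_
      · simp [Subalgebra.smul_def, Prod.fst_sum]
      · funext j
        simp only [Subalgebra.smul_def, Prod.snd_add, Prod.snd_sum, Prod.smul_snd, smul_eq_mul,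
          Pi.add_apply, Finset.sum_apply, Pi.mul_apply, Pi.zero_apply, mul_zero, zero_add]
        rw [Finset.sum_eq_single j (fun i _ hi => by simp [Pi.single_eq_of_ne hi.symm]) (by simp)]
        simp [hai]
    rw [e]
    exact W.add_mem (W.smul_mem _ (Submodule.subset_span (by simp [gens])))
      (W.sum_mem fun i _ => W.smul_mem _ (Submodule.subset_span (by simp [gens])))
  exact ⟨fg_of_fg_of_fg R P (Q × ∀ i, A i) Algebra.FiniteType.out Module.Finite.fg_top
    Subtype.val_injective⟩

end Groth.Agent.S6929
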