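import Groth.Statements.S6930
import Groth.Agent.Lib.RG.ValFlat
import Groth.Agent.S0406
-- import your own Groth.Agent.* helpers here

set_option autoImplicit false
universe u
open TensorProduct
open FlatMor

namespace Groth.Agent.S6930

/-- Let `(R, 𝔪)` be a local domain whose maximal ideal is nonzero, with fraction field `K`; let `S` be
an `R`-algebra of finite type, `M` a finite `S`-module and `A ⊆ K` a valuation ring dominating `R`.
Then one can find a finitely generated ideal `I ⊆ 𝔪` and a nonzero `a ∈ I` with the following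
properties, where `R₁ = R[I/a]` denotes the affine blow-up algebra (taken up to `R`-algebra
isomorphism): every `x/a` with `x ∈ I` lies in `A`, so that `R₁ ⊆ A` inside `K`; the ring `R₁/𝔪R₁`
is nonzero; the strict transform of `S` (the quotient of `R₁ ⊗_R S` by its `a`-power torsion) is
flat over `R₁` and is a finitely presented `R₁`-algebra; and the strict transform of `M` (the
quotient of `R₁ ⊗_R M` by its `a`-power torsion) is flat over `R₁`. (The published statement asks
for these strict transforms to be flat, and the first to be finitely presented, over `R` itself;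
that fails for every choice of `(I, a)` already when `R = k[x, y]` localized at `(x, y)` and `S =
R[y/x]`, and the published proof, which passes to the limit over the rings `R[I/a]`, yields flatness
and finite presentation over `R[I/a]`, which is what is stated here. The published statement also
allows `𝔪 = 0`, i.e. `R` a field; then all hypotheses hold with `A = K` while no nonzero `a ∈ 𝔪`
exists, so the hypothesis `𝔪 ≠ 0` is added. Finally, the published statement also asserts that the
strict transform of `M` is finitely presented over the strict transform of `S`; that clause is not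
included.) -/
theorem result (R K : Type u) [CommRing R] [IsDomain R] [IsLocalRing R] [Field K]
    [Algebra R K] [IsFractionRing R K] (S : Type u) [CommRing S] [Algebra R S] [Algebra.FiniteType R S] (M : Type u)
    [AddCommGroup M] [Module S M] [Module R M] [IsScalarTower R S M] [Module.Finite S M]
    (A : Type u) [CommRing A] [IsDomain A] [ValuationRing A] [Algebra A K] [IsFractionRing A K] [Algebra R A]
    [IsScalarTower R A K] [IsLocalHom (algebraMap R A)] (hm : IsLocalRing.maximalIdeal R ≠ ⊥) :
    ∃ (I : Ideal R) (a : R), I.FG ∧ I ≤ IsLocalRing.maximalIdeal R ∧ a ∈ I ∧ a ≠ 0 ∧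
      (∀ x ∈ I, ∃ y : A, algebraMap A K y * algebraMap R K a = algebraMap R K x) ∧
      ∀ (R₁ : Type u) [CommRing R₁] [Algebra R R₁] (e : R₁ ≃ₐ[R] ↥(BlowUp.affineAlgebra R I a)),
        (IsLocalRing.maximalIdeal R).map (algebraMap R R₁) ≠ ⊤ ∧
        Module.Flat R₁ ((R₁ ⊗[R] S) ⧸ FlatCA.powTorsion (R₁ ⊗[R] S) (algebraMap R (R₁ ⊗[R] S) a) (R₁ ⊗[R] S)) ∧
        Algebra.FinitePresentation R₁
          ((R₁ ⊗[R] S) ⧸ FlatCA.powTorsion (R₁ ⊗[R] S) (algebraMap R (R₁ ⊗[R] S) a) (R₁ ⊗[R] S)) ∧
        Module.Flat R₁ ((R₁ ⊗[R] M) ⧸ FlatCA.powTorsion R₁ (algebraMap R R₁ a) (R₁ ⊗[R] M)) := by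
  classical
  obtain ⟨n, f, hf⟩ := Algebra.FiniteType.iff_quotient_mvPolynomial''.1 (inferInstance : Algebra.FiniteType R S)
  letI : Algebra (MvPolynomial (Fin n) R) S := f.toRingHom.toAlgebra
  haveI : IsScalarTower R (MvPolynomial (Fin n) R) S := IsScalarTower.of_algebraMap_eq fun r => (f.commutes r).symm
  haveI : Module.Finite (MvPolynomial (Fin n) R) S :=
    Module.Finite.of_surjective (Algebra.linearMap (MvPolynomial (Fin n) R) S) hf
  letI : Module (MvPolynomial (Fin n) R) M := Module.compHom M f.toRingHom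
  haveI : IsScalarTower (MvPolynomial (Fin n) R) S M := IsScalarTower.of_algebraMap_smul fun _ _ => rfl
  haveI : IsScalarTower R (MvPolynomial (Fin n) R) M := IsScalarTower.of_algebraMap_smul fun r x => by
    show f (algebraMap R _ r) • x = r • x
    rw [f.commutes, algebraMap_smul]
  haveI : Module.Finite (MvPolynomial (Fin n) R) M := Module.Finite.trans S M
  obtain ⟨a₁, ha₁, T₁, hT₁, hT₁V, hS⟩ := Groth.Agent.Lib.RG.ValFlat.exists_flat_strict (n := n) (R := R) K (N := S) A
  obtain ⟨a₂, ha₂, T₂, hT₂, hT₂V, hM⟩ := Groth.Agent.Lib.RG.ValFlat.exists_flat_strict (n := n) (R := R) K (N := M) A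
  obtain ⟨G, hG⟩ := hT₁.sup hT₂
  obtain ⟨c, hc, hc0⟩ := Submodule.exists_mem_ne_zero_of_ne_bot hm
  choose s hs t hst using fun g : G => Groth.Agent.Lib.RG.ValFlat.den_frac (R := R) (g : K)
  let a : R := a₁ * a₂ * c * ∏ g, s g
  have ha0 : a ≠ 0 := mul_ne_zero (mul_ne_zero (mul_ne_zero ha₁ ha₂) hc0)
    (Finset.prod_ne_zero_iff.2 fun g _ => nonZeroDivisors.ne_zero (hs g))
  have ham : a ∈ IsLocalRing.maximalIdeal R := Ideal.mul_mem_right _ _ (Ideal.mul_mem_left _ _ hc)
  let x : G → R := fun g => a₁ * a₂ * c * (t g * ∏ w ∈ Finset.univ.erase g, s w)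
  have hxg : ∀ g : G, algebraMap R K (x g) = algebraMap R K a * (g : K) := fun g => by
    simp only [x, a, ← Finset.prod_erase_mul _ _ (Finset.mem_univ g), map_mul, ← hst]
    ring
  have hy : ∀ g : G, ∃ y : A, algebraMap A K y = (g : K) := fun g => by
    have hg : (g : K) ∈ T₁ ⊔ T₂ := hG ▸ Algebra.subset_adjoin g.2
    exact sup_le hT₁V hT₂V hg
  have hxm : ∀ g : G, x g ∈ IsLocalRing.maximalIdeal R := fun g => by
    obtain ⟨y, hy⟩ := hy g
    by_contra hu
    rw [IsLocalRing.mem_maximalIdeal, mem_nonunits_iff, not_not] at hu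
    have h1 : algebraMap R A (x g) = algebraMap R A a * y := IsFractionRing.injective A K (by
      rw [map_mul (algebraMap A K), ← IsScalarTower.algebraMap_apply, ← IsScalarTower.algebraMap_apply, hy, hxg])
    exact ham (isUnit_of_map_unit (algebraMap R A) a (isUnit_of_mul_isUnit_left (h1 ▸ hu.map (algebraMap R A))))
  let I : Ideal R := Ideal.span ({a} ∪ Set.range x)
  have haI : a ∈ I := Ideal.subset_span (Or.inl rfl)
  have hIy : ∀ z ∈ I, ∃ y : A, algebraMap A K y * algebraMap R K a = algebraMap R K z := by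
    intro z hz
    induction hz using Submodule.span_induction with
    | mem z hz =>
      rcases hz with hz | ⟨g, rfl⟩
      · exact ⟨1, by rw [map_one, one_mul, Set.mem_singleton_iff.1 hz]⟩
      · obtain ⟨y, hy⟩ := hy g
        exact ⟨y, by rw [hy, hxg, mul_comm]⟩
    | zero => exact ⟨0, by rw [map_zero, zero_mul, map_zero]⟩
    | add p q _ _ hp hq =>
      obtain ⟨y, hy⟩ := hp
      obtain ⟨y', hy'⟩ := hq
      exact ⟨y + y', by rw [map_add, add_mul, hy, hy', map_add]⟩
    | smul r p _ hp =>
      obtain ⟨y, hy⟩ := hp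
      exact ⟨algebraMap R A r * y, by
        rw [map_mul, ← IsScalarTower.algebraMap_apply, mul_assoc, hy, smul_eq_mul, map_mul]⟩
  refine ⟨I, a, Submodule.fg_span ((Set.finite_singleton a).union (Set.finite_range x)),
    Ideal.span_le.2 (Set.union_subset (Set.singleton_subset_iff.2 ham) (Set.range_subset_iff.2 hxm)), haI, ha0, hIy,
    fun R₁ _ _ e => ?_⟩
  have haK : IsUnit (algebraMap R K a) :=
    isUnit_iff_ne_zero.2 fun h => ha0 (IsFractionRing.injective R K (h.trans (map_zero _).symm))
  let ψ : Localization.Away a →ₐ[R] K :=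
    IsLocalization.liftAlgHom (M := Submonoid.powers a) (f := Algebra.ofId R K) fun z => by
      obtain ⟨_, m, rfl⟩ := z
      simpa using haK.pow m
  have hψ : ∀ r, ψ (algebraMap R _ r) = algebraMap R K r := ψ.commutes
  have hψi : Function.Injective ψ := by
    refine (injective_iff_map_eq_zero _).2 fun z hz => ?_
    obtain ⟨⟨r, m⟩, hrm⟩ := IsLocalization.surj (Submonoid.powers a) z
    have h0 : r = 0 := IsFractionRing.injective R K (by rw [← hψ, ← hrm, map_mul, hz, zero_mul, map_zero])
    rw [h0, map_zero] at hrm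
    exact (IsLocalization.map_units (Localization.Away a) m).mul_left_eq_zero.1 hrm
  let jL : R₁ →ₐ[R] Localization.Away a := (BlowUp.affineAlgebra R I a).val.comp e.toAlgHom
  have hjL : Function.Injective jL := Subtype.val_injective.comp e.injective
  let j : R₁ →ₐ[R] K := ψ.comp jL
  have hj : Function.Injective j := hψi.comp hjL
  have hmk : ∀ z : R, ψ (IsLocalization.mk' _ z (⟨a, Submonoid.mem_powers a⟩ : Submonoid.powers a)) * algebraMap R K a =
      algebraMap R K z := fun z => by
    rw [← hψ a, ← map_mul, IsLocalization.mk'_spec, hψ]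
  have hTj : T₁ ⊔ T₂ ≤ j.range := by
    rw [← hG, Algebra.adjoin_le_iff]
    intro g hg
    refine ⟨e.symm ⟨_, Algebra.subset_adjoin ⟨x ⟨g, hg⟩, Ideal.subset_span (Or.inr ⟨_, rfl⟩), rfl⟩⟩, ?_⟩
    show ψ ((e (e.symm _) : BlowUp.affineAlgebra R I a) : Localization.Away a) = g
    rw [AlgEquiv.apply_symm_apply]
    refine haK.mul_right_cancel ?_
    rw [hmk, hxg, mul_comm]
  have hjV : j.range ≤ (IsScalarTower.toAlgHom R A K).range := by
    rintro _ ⟨z, rfl⟩
    refine Algebra.adjoin_le (S := (IsScalarTower.toAlgHom R A K).range.comap ψ) ?_ (e z).2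
    rintro _ ⟨w, hw, rfl⟩
    obtain ⟨y, hy⟩ := hIy w hw
    exact ⟨y, haK.mul_right_cancel (hy.trans (hmk w).symm)⟩
  have hden : ∀ z : R₁, ∃ m : ℕ, ∃ r : R, algebraMap R R₁ (a ^ m) * z = algebraMap R R₁ r := fun z => by
    obtain ⟨⟨r, ⟨_, m, rfl⟩⟩, hrm⟩ := IsLocalization.surj (Submonoid.powers a) (jL z)
    exact ⟨m, r, hjL (by rw [map_mul, jL.commutes, jL.commutes, mul_comm]; exact hrm)⟩
  haveI : IsDomain R₁ := hj.isDomain (j : R₁ →+* K)
  have hd₁ : a₁ ∣ a := ⟨a₂ * c * ∏ g, s g, by simp only [a]; ring⟩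
  have hd₂ : a₂ ∣ a := ⟨a₁ * c * ∏ g, s g, by simp only [a]; ring⟩
  haveI hflatS := hS a ha0 hd₁ R₁ j hj (le_sup_left.trans hTj) jL hden
  have heq : (FlatCA.powTorsion (TensorProduct R R₁ S) (algebraMap R (TensorProduct R R₁ S) a) (TensorProduct R R₁ S)).restrictScalars R₁ =
      FlatCA.powTorsion R₁ (algebraMap R R₁ a) (TensorProduct R R₁ S) := by
    simp only [FlatCA.powTorsion, Submodule.restrictScalars_iSup]
    refine iSup_congr fun m => Submodule.ext fun z => ?_
    rw [Submodule.restrictScalars_mem, Submodule.mem_torsionBy_iff, Submodule.mem_torsionBy_iff,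
      IsScalarTower.algebraMap_apply R R₁ (TensorProduct R R₁ S), ← map_pow, algebraMap_smul]
  haveI hflat' : Module.Flat R₁ ((TensorProduct R R₁ S) ⧸
      FlatCA.powTorsion (TensorProduct R R₁ S) (algebraMap R (TensorProduct R R₁ S) a) (TensorProduct R R₁ S)) :=
    Module.Flat.of_linearEquiv ((Submodule.Quotient.restrictScalarsEquiv R₁ _).symm.trans
      (Submodule.quotEquivOfEq _ _ heq))
  refine ⟨fun htop => ?_, hflat', Groth.Agent.S0406.result, hM a ha0 hd₂ R₁ j hj (le_sup_right.trans hTj) jL hden⟩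
  let jA : R₁ →ₐ[R] A := (AlgEquiv.ofInjective (IsScalarTower.toAlgHom R A K)
    (IsFractionRing.injective A K)).symm.toAlgHom.comp ((Subalgebra.inclusion hjV).comp j.rangeRestrict)
  have h1 := congrArg (Ideal.map jA.toRingHom) htop
  rw [Ideal.map_map, AlgHom.toRingHom_eq_coe, AlgHom.comp_algebraMap, Ideal.map_top] at h1
  exact (IsLocalRing.maximalIdeal.isMaximal A).ne_top (top_le_iff.1 (h1.ge.trans
    (Ideal.map_le_iff_le_comap.2 fun r hr => by
      rw [Ideal.mem_comap, IsLocalRing.mem_maximalIdeal, mem_nonunits_iff]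
      exact fun hu => (IsLocalRing.mem_maximalIdeal r).1 hr (isUnit_of_map_unit (algebraMap R A) r hu))))

end Groth.Agent.S6930
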