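import Groth.Statements.S6931
import Groth.Agent.H22.Rank

set_option autoImplicit false
universe u
open TensorProduct
open CAlg

namespace Groth.Agent.S6931

/-- For an injective map of domains `R → R'` and any `R`-module `M`, the rank of `R' ⊗_R M` over `R'`
equals the rank of `M` over `R` (rank over a domain = dimension over the fraction field after base
change). -/
theorem result (R R' : Type u) [CommRing R] [IsDomain R] [CommRing R'] [IsDomain R']
    [Algebra R R'] (h : Function.Injective (algebraMap R R')) (M : Type u) [AddCommGroup M] [Module R M] :
    Module.rank R' (R' ⊗[R] M) = Module.rank R M := by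
  let K := FractionRing R
  let K' := FractionRing R'
  have hg : Function.Injective ((algebraMap R' K').comp (algebraMap R R')) := by
    rw [RingHom.coe_comp]
    exact (IsFractionRing.injective R' K').comp h
  let σ : K →+* K' := IsFractionRing.lift (A := R) hg
  letI : Algebra K K' := σ.toAlgebra
  have : IsScalarTower R K K' := IsScalarTower.of_algebraMap_eq fun r => by
    rw [RingHom.algebraMap_toAlgebra, IsScalarTower.algebraMap_apply R R' K']
    exact (IsFractionRing.lift_algebraMap hg r).symm
  have h1 : Module.rank R' (R' ⊗[R] M) = Module.rank K' (K' ⊗[R'] (R' ⊗[R] M)) :=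
    (H22.Rank.rank_fractionRing R' (R' ⊗[R] M)).symm
  rw [h1, (TensorProduct.AlgebraTensorModule.cancelBaseChange R R' K' K' M).rank_eq,
    ← (TensorProduct.AlgebraTensorModule.cancelBaseChange R K K' K' M).rank_eq,
    Module.rank_baseChange, Cardinal.lift_id, H22.Rank.rank_fractionRing R M]

end Groth.Agent.S6931
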