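import Groth.Statements.S6932
import Groth.Agent.H19.FlatLocus.Main
import Mathlib.RingTheory.MvPolynomial.Localization
import Mathlib.RingTheory.Flat.Localization
import Mathlib.RingTheory.Flat.Stability
import Mathlib.RingTheory.FinitePresentation

set_option autoImplicit false
universe u
open CAlg

namespace Groth.Agent.S6932

attribute [local instance] MvPolynomial.algebraMvPolynomial in
theorem exists_fg_local {R S : Type u} [CommRing R] [CommRing S] [Algebra R S] {n : ℕ}
    (π : MvPolynomial (Fin n) R →ₐ[R] S) (hπ : Function.Surjective π) (p : Ideal R) [p.IsPrime]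
    (hfp : Algebra.FinitePresentation (Localization.AtPrime p)
      (Localization (Algebra.algebraMapSubmonoid S p.primeCompl))) :
    ∃ J : Ideal (MvPolynomial (Fin n) R), J.FG ∧ J ≤ RingHom.ker π ∧
      ∀ x ∈ RingHom.ker π, ∃ r : R, r ∉ p ∧ MvPolynomial.C r * x ∈ J := by
  classical
  let Rp := Localization.AtPrime p
  let Sp := Localization (Algebra.algebraMapSubmonoid S p.primeCompl)
  let P := MvPolynomial (Fin n) R
  let Pp := MvPolynomial (Fin n) Rp
  let M : Submonoid P := p.primeCompl.map MvPolynomial.C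
  haveI : IsScalarTower R Rp Sp := inferInstance
  let ρ : Pp →ₐ[Rp] Sp := MvPolynomial.aeval fun i => algebraMap S Sp (π (MvPolynomial.X i))
  have hρ : ∀ x : P, ρ (algebraMap P Pp x) = algebraMap S Sp (π x) := by
    have hh : ((ρ.toRingHom).comp (algebraMap P Pp)) = (algebraMap S Sp).comp π.toRingHom := by
      refine MvPolynomial.ringHom_ext (fun r => ?_) (fun i => ?_)
      · show ρ (MvPolynomial.map (algebraMap R Rp) (MvPolynomial.C r)) = algebraMap S Sp (π (MvPolynomial.C r))
        rw [MvPolynomial.map_C, MvPolynomial.aeval_C, ← MvPolynomial.algebraMap_eq, AlgHom.commutes,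
          ← IsScalarTower.algebraMap_apply, ← IsScalarTower.algebraMap_apply]
      · show ρ (MvPolynomial.map (algebraMap R Rp) (MvPolynomial.X i)) = _
        rw [MvPolynomial.map_X, MvPolynomial.aeval_X]
        rfl
    exact fun x => RingHom.congr_fun hh x
  have hρs : Function.Surjective ρ := by
    intro z
    obtain ⟨s, ⟨_, r, hr, rfl⟩, rfl⟩ :=
      IsLocalization.exists_mk'_eq (Algebra.algebraMapSubmonoid S p.primeCompl) z
    obtain ⟨x, rfl⟩ := hπ s
    obtain ⟨v, hv⟩ := (IsLocalization.map_units Rp (⟨r, hr⟩ : p.primeCompl)).exists_left_inv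
    refine ⟨algebraMap P Pp x * MvPolynomial.C v, ?_⟩
    rw [map_mul, hρ, MvPolynomial.aeval_C, IsLocalization.eq_mk'_iff_mul_eq, mul_assoc,
      ← IsScalarTower.algebraMap_apply R S Sp, IsScalarTower.algebraMap_apply R Rp Sp,
      ← map_mul, hv, map_one, mul_one]
  obtain ⟨T, hT⟩ := Algebra.FinitePresentation.ker_fG_of_surjective ρ hρs
  have key : ∀ q ∈ T, ∃ x ∈ RingHom.ker π, ∃ c : Pp, IsUnit c ∧ algebraMap P Pp x = c * q := by
    intro q hq
    have hq0 : ρ q = 0 := by
      have : q ∈ RingHom.ker ρ.toRingHom := hT ▸ Ideal.subset_span hq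
      exact this
    obtain ⟨⟨x, ⟨_, r, hr, rfl⟩⟩, hx⟩ := IsLocalization.surj M q
    have h1 : algebraMap S Sp (π x) = 0 := by rw [← hρ, ← hx, map_mul, hq0, zero_mul]
    obtain ⟨⟨_, r', hr', rfl⟩, hr0⟩ :=
      (IsLocalization.map_eq_zero_iff (Algebra.algebraMapSubmonoid S p.primeCompl) Sp _).mp h1
    refine ⟨MvPolynomial.C r' * x, ?_, algebraMap P Pp (MvPolynomial.C r') * algebraMap P Pp (MvPolynomial.C r),
      (IsLocalization.map_units Pp (⟨_, r', hr', rfl⟩ : M)).mul
        (IsLocalization.map_units Pp (⟨_, r, hr, rfl⟩ : M)), ?_⟩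
    · rw [RingHom.mem_ker, map_mul, ← MvPolynomial.algebraMap_eq, AlgHom.commutes]
      exact hr0
    · rw [map_mul, ← hx]; ring
  choose! x hx c hc hxc using key
  refine ⟨Ideal.span (T.image x : Set P), ⟨_, rfl⟩, ?_, fun y hy => ?_⟩
  · rw [Ideal.span_le]
    intro z hz
    obtain ⟨q, hq, rfl⟩ := Finset.mem_image.mp hz
    exact hx q hq
  · have h1 : algebraMap P Pp y ∈ (Ideal.span (T.image x : Set P)).map (algebraMap P Pp) := by
      have hy' : algebraMap P Pp y ∈ RingHom.ker ρ.toRingHom := by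
        show ρ _ = 0
        rw [hρ, RingHom.mem_ker.mp hy, map_zero]
      refine (?_ : RingHom.ker ρ.toRingHom ≤ _) hy'
      rw [← hT]
      refine Ideal.span_le.mpr fun q hq => ?_
      obtain ⟨v, hv⟩ := (hc q hq).exists_left_inv
      have : q = v * algebraMap P Pp (x q) := by rw [hxc q hq, ← mul_assoc, hv, one_mul]
      rw [SetLike.mem_coe, this]
      exact Ideal.mul_mem_left _ _ (Ideal.mem_map_of_mem _ (Ideal.subset_span (Finset.mem_image_of_mem x hq)))
    obtain ⟨m, ⟨r, hr, rfl⟩, hm⟩ := (IsLocalization.algebraMap_mem_map_algebraMap_iff M Pp _ _).mp h1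
    exact ⟨r, hr, hm⟩

theorem eq_zero_of_flat {R : Type u} [CommRing R] (s : Finset (PrimeSpectrum R))
    (hs : Function.Injective fun r : R => fun p : s => algebraMap R (Localization.AtPrime p.1.asIdeal) r)
    {N : Type u} [AddCommGroup N] [Module R N] [Module.Flat R N] (x : N)
    (hx : ∀ p ∈ s, ∃ r : R, r ∉ p.asIdeal ∧ r • x = 0) : x = 0 := by
  classical
  let A := ∀ p : s, Localization.AtPrime p.1.asIdeal
  have hι : Function.Injective (Algebra.linearMap R A) := hs
  have hinj := Module.Flat.rTensor_preserves_injective_linearMap (M := N) _ hι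
  have h0 : (1 : A) ⊗ₜ[R] x = 0 := by
    rw [← Finset.univ_sum_single (1 : A), TensorProduct.sum_tmul]
    refine Finset.sum_eq_zero fun p _ => ?_
    obtain ⟨r, hr, hrx⟩ := hx p.1 p.2
    obtain ⟨v, hv⟩ := (IsLocalization.map_units (Localization.AtPrime p.1.asIdeal)
      (⟨r, hr⟩ : p.1.asIdeal.primeCompl)).exists_left_inv
    have : Pi.single p ((1 : A) p) = r • (Pi.single p v : A) := by
      funext i
      rcases eq_or_ne i p with rfl | hne
      · rw [Pi.smul_apply, Pi.single_eq_same, Pi.single_eq_same, Algebra.smul_def, mul_comm, hv, Pi.one_apply]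
      · rw [Pi.smul_apply, Pi.single_eq_of_ne hne, Pi.single_eq_of_ne hne, smul_zero]
    rw [this, TensorProduct.smul_tmul, hrx, TensorProduct.tmul_zero]
  apply (TensorProduct.lid R N).symm.injective
  rw [map_zero, TensorProduct.lid_symm_apply]
  apply hinj
  rw [LinearMap.rTensor_tmul, map_zero, Algebra.linearMap_apply, map_one]
  exact h0

theorem exists_local_eq {R S : Type u} [CommRing R] [CommRing S] [Algebra R S] [Module.Flat R S]
    (s : Finset (PrimeSpectrum R))
    (hs : Function.Injective fun r : R => fun p : s => algebraMap R (Localization.AtPrime p.1.asIdeal) r)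
    {n : ℕ} (π : MvPolynomial (Fin n) R →ₐ[R] S) (hπ : Function.Surjective π)
    (hloc : ∀ (p : Ideal R) [p.IsPrime],
      Algebra.FinitePresentation (Localization.AtPrime p) (Localization (Algebra.algebraMapSubmonoid S p.primeCompl)))
    (J0 : Ideal (MvPolynomial (Fin n) R)) (hJ0fg : J0.FG) (hJ0 : J0 ≤ RingHom.ker π)
    (hJ0s : ∀ x ∈ RingHom.ker π, ∀ p ∈ s, ∃ r : R, r ∉ p.asIdeal ∧ MvPolynomial.C r * x ∈ J0)
    (q : PrimeSpectrum S) :
    ∃ (g : MvPolynomial (Fin n) R) (J : Ideal (MvPolynomial (Fin n) R)), π g ∉ q.asIdeal ∧ J.FG ∧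
      J ≤ RingHom.ker π ∧ ∀ x ∈ RingHom.ker π, ∃ k : ℕ, g ^ k * x ∈ J := by
  classical
  let P := MvPolynomial (Fin n) R
  let I : Ideal P := RingHom.ker π
  let p := q.asIdeal.comap (algebraMap R S)
  obtain ⟨Jp, hJpfg, hJp, hJpk⟩ := exists_fg_local π hπ p (hloc p)
  let J := J0 ⊔ Jp
  have hJI : J ≤ I := sup_le hJ0 hJp
  have hJfg : J.FG := Submodule.FG.sup hJ0fg hJpfg
  haveI : Algebra.FinitePresentation R (P ⧸ J) := Algebra.FinitePresentation.quotient hJfg
  let Q0 : Ideal P := q.asIdeal.comap π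
  have hIQ : I ≤ Q0 := fun x hx => by
    show π x ∈ q.asIdeal
    rw [RingHom.mem_ker.mp hx]; exact zero_mem _
  let bar : Ideal (P ⧸ J) := Q0.map (Ideal.Quotient.mk J)
  haveI : bar.IsPrime := Ideal.map_isPrime_of_surjective Ideal.Quotient.mk_surjective
    (by rw [Ideal.mk_ker]; exact hJI.trans hIQ)
  have hbar : bar.comap (Ideal.Quotient.mk J) = Q0 := by
    rw [Ideal.comap_map_of_surjective _ Ideal.Quotient.mk_surjective, ← RingHom.ker_eq_comap_bot,
      Ideal.mk_ker]
    exact sup_eq_left.mpr (hJI.trans hIQ)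
  -- the localization at the point is that of S
  let πb : (P ⧸ J) →ₐ[R] S := Ideal.Quotient.liftₐ J π fun x hx => hJI hx
  have hπb : Function.Surjective πb := fun z => (hπ z).imp' (Ideal.Quotient.mk J) fun x hx => by
    rw [← hx]; rfl
  have hcomap : ∀ y : P ⧸ J, πb y ∈ q.asIdeal ↔ y ∈ bar := by
    intro y
    obtain ⟨x, rfl⟩ := Ideal.Quotient.mk_surjective y
    rw [← Ideal.mem_comap (f := Ideal.Quotient.mk J) (K := bar), hbar]
    exact Iff.rfl
  let A := Localization.AtPrime q.asIdeal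
  let B := Localization.AtPrime bar
  let F : B →ₐ[R] A := IsLocalization.liftAlgHom (M := bar.primeCompl)
    (f := (IsScalarTower.toAlgHom R S A).comp πb)
    (fun y => IsLocalization.map_units A (⟨πb y, fun h => y.2 ((hcomap y).mp h)⟩ : q.asIdeal.primeCompl))
  have hFalg : ∀ y, F (algebraMap _ B y) = algebraMap S A (πb y) := fun y => IsLocalization.lift_eq _ y
  have hF : Function.Bijective F := by
    constructor
    · rw [injective_iff_map_eq_zero]
      intro z hz
      obtain ⟨y, t, rfl⟩ := IsLocalization.exists_mk'_eq bar.primeCompl z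
      rw [IsLocalization.mk'_eq_zero_iff]
      have hz' : algebraMap S A (πb y) = 0 := by
        have h1 : F (IsLocalization.mk' B y t) * F (algebraMap _ B (t : P ⧸ J)) = F (algebraMap _ B y) := by
          rw [← map_mul, IsLocalization.mk'_spec]
        rw [hz, zero_mul, hFalg] at h1
        exact h1.symm
      obtain ⟨⟨u, hu⟩, hu0⟩ := (IsLocalization.map_eq_zero_iff q.asIdeal.primeCompl A _).mp hz'
      obtain ⟨u', rfl⟩ := hπb u
      obtain ⟨x, hx⟩ := Ideal.Quotient.mk_surjective (u' * y)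
      have hxI : x ∈ I := by
        rw [RingHom.mem_ker]
        show πb (Ideal.Quotient.mk J x) = 0
        rw [hx, map_mul]; exact hu0
      obtain ⟨r, hr, hrx⟩ := hJpk x hxI
      refine ⟨⟨Ideal.Quotient.mk J (MvPolynomial.C r) * u', fun h => ?_⟩, ?_⟩
      · refine (Ideal.IsPrime.mem_or_mem inferInstance h).elim (fun h => hr ?_)
          (fun h => hu ((hcomap _).mpr h))
        have := (hcomap _).mpr h
        show algebraMap R S r ∈ q.asIdeal
        rwa [← MvPolynomial.algebraMap_eq, Ideal.Quotient.mk_algebraMap, AlgHom.commutes] at this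
      · show Ideal.Quotient.mk J (MvPolynomial.C r) * u' * y = 0
        rw [mul_assoc, ← hx, ← map_mul, Ideal.Quotient.eq_zero_iff_mem]
        exact Ideal.mem_sup_right hrx
    · intro z
      obtain ⟨y, ⟨t, ht⟩, rfl⟩ := IsLocalization.exists_mk'_eq q.asIdeal.primeCompl z
      obtain ⟨y', rfl⟩ := hπb y
      obtain ⟨t', rfl⟩ := hπb t
      refine ⟨IsLocalization.mk' B y' (⟨t', fun h => ht ((hcomap _).mpr h)⟩ : bar.primeCompl), ?_⟩
      rw [IsLocalization.eq_mk'_iff_mul_eq]
      show F _ * algebraMap S A (πb t') = _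
      rw [← hFalg, ← hFalg, ← map_mul]
      exact congrArg F (IsLocalization.mk'_spec _ _ _)
  haveI : Module.Flat R A := Module.Flat.trans R S A
  have hflat : Module.Flat R (LocalizedModule bar.primeCompl (P ⧸ J)) :=
    Module.Flat.of_linearEquiv ((IsLocalizedModule.iso bar.primeCompl
      (Algebra.linearMap (P ⧸ J) B)).restrictScalars R ≪≫ₗ (AlgEquiv.ofBijective F hF).toLinearEquiv)
  obtain ⟨_, ⟨_, ⟨g', rfl⟩, rfl⟩, hqg, hsub⟩ :=
    PrimeSpectrum.isBasis_basic_opens.exists_subset_of_mem_open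
      (show (⟨bar, inferInstance⟩ : PrimeSpectrum (P ⧸ J)) ∈ _ from hflat)
      (Groth.Agent.H19.FlatLocus.isOpen_flat_of_finitePresentation (R := R) (S := P ⧸ J) (M := P ⧸ J))
  obtain ⟨g, rfl⟩ := Ideal.Quotient.mk_surjective g'
  refine ⟨g, J, fun h => hqg (Ideal.mem_map_of_mem _ h), hJfg, hJI, fun x hx => ?_⟩
  -- `x` dies at every prime where `P ⧸ J` is flat
  let A' : Ideal (P ⧸ J) := LinearMap.ker (LinearMap.mulRight (P ⧸ J) (Ideal.Quotient.mk J x))
  have hA : Ideal.Quotient.mk J g ∈ A'.radical := by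
    rw [Ideal.radical_eq_sInf, Ideal.mem_sInf]
    rintro Q ⟨hAQ, hQ⟩
    by_contra hgQ
    haveI : Q.IsPrime := hQ
    have hfl : Module.Flat R (LocalizedModule Q.primeCompl (P ⧸ J)) := @hsub ⟨Q, hQ⟩ hgQ
    have h0 : LocalizedModule.mkLinearMap Q.primeCompl (P ⧸ J) (Ideal.Quotient.mk J x) = 0 := by
      refine eq_zero_of_flat (N := LocalizedModule Q.primeCompl (P ⧸ J)) s hs _ fun p hp => ?_
      obtain ⟨r, hr, hrx⟩ := hJ0s x hx p hp
      refine ⟨r, hr, ?_⟩
      rw [← LinearMap.map_smul_of_tower, Algebra.smul_def, ← Ideal.Quotient.mk_algebraMap,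
        MvPolynomial.algebraMap_eq, ← map_mul, Ideal.Quotient.eq_zero_iff_mem.mpr (Ideal.mem_sup_left hrx), map_zero]
    obtain ⟨u, hu⟩ := (IsLocalizedModule.eq_zero_iff Q.primeCompl _).mp h0
    exact u.2 (hAQ (show (u : P ⧸ J) * Ideal.Quotient.mk J x = 0 from hu))
  obtain ⟨k, hk⟩ := hA
  refine ⟨k, ?_⟩
  rw [← Ideal.Quotient.eq_zero_iff_mem, map_mul, map_pow]
  exact hk

/-- Let `R → S` be a ring map of finite type with `S` flat over `R`, such that `R → ∏_j R_{𝔭_j}` is
injective for some finite set of primes `𝔭_j` and each localization `S_𝔭` (at a prime `𝔭` of `R`) is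
a finitely presented `R_𝔭`-algebra. Then `S` is a finitely presented `R`-algebra. -/
theorem result {R S : Type u} [CommRing R] [CommRing S]
    [Algebra R S] [Algebra.FiniteType R S] [Module.Flat R S] (s : Finset (PrimeSpectrum R))
    (hs : Function.Injective fun r : R => fun p : s => algebraMap R (Localization.AtPrime p.1.asIdeal) r)
    (hloc : ∀ (p : Ideal R) [p.IsPrime],
      Algebra.FinitePresentation (Localization.AtPrime p) (Localization (Algebra.algebraMapSubmonoid S p.primeCompl))) :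
    Algebra.FinitePresentation R S := by
  classical
  obtain ⟨n, π, hπ⟩ := Algebra.FiniteType.iff_quotient_mvPolynomial''.mp (inferInstance : Algebra.FiniteType R S)
  let P := MvPolynomial (Fin n) R
  choose Jl hJlfg hJl hJlk using fun p : s => exists_fg_local π hπ p.1.asIdeal (hloc p.1.asIdeal)
  let J0 : Ideal P := Finset.univ.sup Jl
  have hJ0fg : J0.FG := Submodule.fg_finset_sup _ _ fun p _ => hJlfg p
  have hJ0 : J0 ≤ RingHom.ker π := Finset.sup_le fun p _ => hJl p
  have hJ0s : ∀ x ∈ RingHom.ker π, ∀ p ∈ s, ∃ r : R, r ∉ p.asIdeal ∧ MvPolynomial.C r * x ∈ J0 :=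
    fun x hx p hp => (hJlk ⟨p, hp⟩ x hx).imp fun r hr =>
      ⟨hr.1, Finset.le_sup (f := Jl) (Finset.mem_univ ⟨p, hp⟩) hr.2⟩
  choose g J hg hJfg hJ hJk using exists_local_eq s hs π hπ hloc J0 hJ0fg hJ0 hJ0s
  have htop : Ideal.span (Set.range fun q => π (g q)) = ⊤ := by
    by_contra hne
    obtain ⟨m, hm, hle⟩ := Ideal.exists_le_maximal _ hne
    exact hg ⟨m, hm.isPrime⟩ (hle (Ideal.subset_span ⟨_, rfl⟩))
  obtain ⟨t, ht, h1⟩ := Submodule.mem_span_finite_of_mem_span (htop ▸ Submodule.mem_top : (1 : S) ∈ _)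
  choose q hq using fun z : t => ht z.2
  let G : Ideal P := Ideal.span (Set.range fun z : t => g (q z))
  have h1' : (1 : S) ∈ G.map π.toRingHom := by
    refine (?_ : Submodule.span S (t : Set S) ≤ G.map π.toRingHom) h1
    refine Submodule.span_le.mpr fun z hz => ?_
    rw [SetLike.mem_coe, show z = π (g (q ⟨z, hz⟩)) from (hq ⟨z, hz⟩).symm]
    exact Ideal.mem_map_of_mem _ (Ideal.subset_span ⟨⟨z, hz⟩, rfl⟩)
  obtain ⟨a, ha, ha1⟩ := (Ideal.mem_map_iff_of_surjective π.toRingHom hπ).mp h1'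
  let J' : Ideal P := J0 ⊔ (Finset.univ.sup fun z : t => J (q z)) ⊔ Ideal.span {1 - a}
  have hJ'fg : J'.FG := Submodule.FG.sup (Submodule.FG.sup hJ0fg (Submodule.fg_finset_sup _ _ fun z _ => hJfg _))
    ⟨{1 - a}, by rw [Finset.coe_singleton]⟩
  have hker : RingHom.ker π = J' := by
    refine le_antisymm (fun x hx => ?_) (sup_le (sup_le hJ0 (Finset.sup_le fun z _ => hJ _)) ?_)
    · let A' : Ideal P := Submodule.comap (LinearMap.mulRight P x) J'
      have hG : G ≤ A'.radical := Ideal.span_le.mpr (by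
        rintro _ ⟨z, rfl⟩
        obtain ⟨k, hk⟩ := hJk (q z) x hx
        exact ⟨k, Ideal.mem_sup_left (Ideal.mem_sup_right
          (Finset.le_sup (f := fun z : t => J (q z)) (Finset.mem_univ z) hk))⟩)
      have hb : 1 - a ∈ A' := Ideal.mul_mem_right _ _ (Ideal.mem_sup_right (Ideal.mem_span_singleton_self _))
      have : (1 : P) ∈ A'.radical := by
        rw [← sub_add_cancel 1 a]
        exact add_mem (Ideal.le_radical hb) (hG ha)
      obtain ⟨k, hk⟩ := this
      rw [one_pow] at hk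
      have hk' : 1 * x ∈ J' := hk
      rwa [one_mul] at hk'
    · rw [Ideal.span_le, Set.singleton_subset_iff, SetLike.mem_coe, RingHom.mem_ker, map_sub, map_one]
      exact sub_eq_zero.mpr ha1.symm
  exact Algebra.FinitePresentation.of_surjective (f := π) hπ (hker ▸ hJ'fg : (RingHom.ker π).FG)

end Groth.Agent.S6932
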