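import Groth.Statements.S6933
import Mathlib.Algebra.Category.Grp.EpiMono
-- import your own Groth.Agent.* helpers here

set_option autoImplicit false
universe u
open CategoryTheory
open InjHull

namespace Groth.Agent.S6933

/-- An abelian group `J` that is injective as an object of the category of abelian groups is divisible:
`n J = J` for every nonzero integer `n`. (The published statement is an equivalence; this row states
the implication from injective to divisible.) -/
theorem result (J : Type u) [AddCommGroup J] (hJ : Injective (AddCommGrpCat.of J))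
    (n : ℤ) (hn : n ≠ 0) (x : J) : ∃ y : J, n • y = x := by
  let f : AddCommGrpCat.of (ULift.{u} ℤ) ⟶ AddCommGrpCat.of (ULift.{u} ℤ) :=
    AddCommGrpCat.ofHom (n • AddMonoidHom.id (ULift.{u} ℤ))
  have : Mono f := (AddCommGrpCat.mono_iff_injective f).mpr fun a b h => by
    have := congrArg ULift.down h
    simp only [f] at this
    exact ULift.ext _ _ (mul_left_cancel₀ hn (by simpa using this))
  let g : AddCommGrpCat.of (ULift.{u} ℤ) ⟶ AddCommGrpCat.of J :=
    AddCommGrpCat.ofHom ((zmultiplesHom J x).comp AddEquiv.ulift.toAddMonoidHom)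
  obtain ⟨h, hh⟩ := hJ.factors g f
  refine ⟨h ⟨1⟩, ?_⟩
  have := ConcreteCategory.congr_hom hh (⟨1⟩ : ULift.{u} ℤ)
  rw [← map_zsmul]
  have e : (AddCommGrpCat.Hom.hom h) (n • (⟨1⟩ : ULift.{u} ℤ)) = (1 : ℤ) • x := this
  simpa using e


end Groth.Agent.S6933
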