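import Groth.Statements.S6934
import Mathlib.Tactic.LinearCombination

set_option autoImplicit false
universe u
open EtAlg

namespace Groth.Agent.S6934

/-- Let `s : B → R`, `t : R' → R` be ring maps and `B' = B ×_R R'` the fibre product ring, i.e. a ring
`B'` with maps `p : B' → B`, `q : B' → R'`, `s ∘ p = t ∘ q`, such that `(p, q)` is injective with
image the pairs `(b, r')` with `s(b) = t(r')`. Let `h ∈ B'` with images `g = p(h)`, `f = q(h)`. Then
the square of localizations `B'_h → B_g`, `B'_h → R'_f`, `B_g → R_{s(g)}`, `R'_f → R_{t(f)} =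
R_{s(g)}` (the induced maps) is cartesian as well: `B'_h = B_g ×_{R_{s(g)}} R'_f`. -/
theorem result {B R R' B' : Type u} [CommRing B] [CommRing R] [CommRing R'] [CommRing B']
    (s : B →+* R) (t : R' →+* R) (p : B' →+* B) (q : B' →+* R') (hc : s.comp p = t.comp q)
    (hinj : ∀ x y : B', p x = p y → q x = q y → x = y) (hsurj : ∀ (b : B) (r' : R'), s b = t r' → ∃ x : B', p x = b ∧ q x = r')
    (h : B') (Bh Bg Rf Rsg : Type u) [CommRing Bh] [CommRing Bg] [CommRing Rf] [CommRing Rsg]
    [Algebra B' Bh] [IsLocalization.Away h Bh] [Algebra B Bg] [IsLocalization.Away (p h) Bg]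
    [Algebra R' Rf] [IsLocalization.Away (q h) Rf] [Algebra R Rsg] [IsLocalization.Away (s (p h)) Rsg]
    (pL : Bh →+* Bg) (qL : Bh →+* Rf) (sL : Bg →+* Rsg) (tL : Rf →+* Rsg)
    (hp : pL.comp (algebraMap B' Bh) = (algebraMap B Bg).comp p) (hq : qL.comp (algebraMap B' Bh) = (algebraMap R' Rf).comp q)
    (hs : sL.comp (algebraMap B Bg) = (algebraMap R Rsg).comp s) (ht : tL.comp (algebraMap R' Rf) = (algebraMap R Rsg).comp t) :
    (∀ x y : Bh, pL x = pL y → qL x = qL y → x = y) ∧
    (∀ (b : Bg) (r : Rf), sL b = tL r → ∃ x : Bh, pL x = b ∧ qL x = r) := by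
  have hp' : ∀ x, pL (algebraMap B' Bh x) = algebraMap B Bg (p x) := RingHom.congr_fun hp
  have hq' : ∀ x, qL (algebraMap B' Bh x) = algebraMap R' Rf (q x) := RingHom.congr_fun hq
  have hs' : ∀ x, sL (algebraMap B Bg x) = algebraMap R Rsg (s x) := RingHom.congr_fun hs
  have ht' : ∀ x, tL (algebraMap R' Rf x) = algebraMap R Rsg (t x) := RingHom.congr_fun ht
  have hc' : ∀ x, s (p x) = t (q x) := RingHom.congr_fun hc
  constructor
  · intro x y h1 h2
    obtain ⟨n, a, ha⟩ := IsLocalization.Away.surj h (x - y)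
    have e1 : algebraMap B Bg (p a) = 0 := by
      rw [← hp', ← ha, map_mul, map_sub, h1, sub_self, zero_mul]
    have e2 : algebraMap R' Rf (q a) = 0 := by
      rw [← hq', ← ha, map_mul, map_sub, h2, sub_self, zero_mul]
    obtain ⟨⟨_, k, rfl⟩, hk⟩ := (IsLocalization.map_eq_zero_iff (Submonoid.powers (p h)) Bg _).1 e1
    obtain ⟨⟨_, l, rfl⟩, hl⟩ := (IsLocalization.map_eq_zero_iff (Submonoid.powers (q h)) Rf _).1 e2
    have h0 : h ^ (k + l) * a = 0 := by
      refine hinj _ _ ?_ ?_
      · simp only [map_mul, map_pow, map_zero, pow_add]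
        linear_combination (p h) ^ l * hk
      · simp only [map_mul, map_pow, map_zero, pow_add]
        linear_combination (q h) ^ k * hl
    have h3 := congrArg (algebraMap B' Bh) h0
    rw [map_mul, ← ha, map_pow, map_zero] at h3
    have hu : IsUnit (algebraMap B' Bh h) := IsLocalization.Away.algebraMap_isUnit h
    rw [(hu.pow _).mul_right_eq_zero, (hu.pow _).mul_left_eq_zero] at h3
    exact sub_eq_zero.1 h3
  · intro b r hbr
    obtain ⟨n, b0, hb⟩ := IsLocalization.Away.surj (p h) b
    obtain ⟨m, r0, hr⟩ := IsLocalization.Away.surj (q h) r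
    have e : algebraMap R Rsg (s (p h ^ m * b0)) = algebraMap R Rsg (t (q h ^ n * r0)) := by
      rw [← hs', ← ht', map_mul, map_mul (algebraMap R' Rf), ← hb, ← hr, map_pow, map_pow,
        map_mul, map_mul, map_mul, map_mul, map_pow, map_pow, map_pow, map_pow, hbr, hs', ht', hc']
      ring
    obtain ⟨⟨_, K, rfl⟩, hK⟩ := (IsLocalization.eq_iff_exists (Submonoid.powers (s (p h))) Rsg).1 e
    obtain ⟨x0, hx1, hx2⟩ := hsurj (p h ^ (K + m) * b0) (q h ^ (K + n) * r0) (by
      simp only [map_mul, map_pow, ← hc', pow_add] at hK ⊢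
      linear_combination hK)
    refine ⟨IsLocalization.mk' Bh x0 ⟨h ^ (K + m + n), Submonoid.pow_mem _ (Submonoid.mem_powers h) _⟩, ?_, ?_⟩
    · have hu : IsUnit (algebraMap B Bg (p h) ^ (K + m + n)) :=
        (IsLocalization.Away.algebraMap_isUnit (p h)).pow _
      refine hu.mul_right_cancel ?_
      have h1 := congrArg pL (IsLocalization.mk'_spec Bh x0
        (⟨h ^ (K + m + n), Submonoid.pow_mem _ (Submonoid.mem_powers h) _⟩ : Submonoid.powers h))
      simp only [map_mul, map_pow, hp', hx1] at h1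
      rw [h1, ← hb]
      ring
    · have hu : IsUnit (algebraMap R' Rf (q h) ^ (K + m + n)) :=
        (IsLocalization.Away.algebraMap_isUnit (q h)).pow _
      refine hu.mul_right_cancel ?_
      have h1 := congrArg qL (IsLocalization.mk'_spec Bh x0
        (⟨h ^ (K + m + n), Submonoid.pow_mem _ (Submonoid.mem_powers h) _⟩ : Submonoid.powers h))
      simp only [map_mul, map_pow, hq', hx2] at h1
      rw [h1, ← hr]
      ring

end Groth.Agent.S6934
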