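import Groth.Statements.S6936
import Groth.Agent.Lib.DR.TopCohomology

set_option autoImplicit false
universe u
open CategoryTheory CategoryTheory.Limits
attribute [local instance] HasDerivedCategory.standard
open DRing
open CategoryTheory.Pretriangulated
open Groth.Agent.Lib.DR.Basic Groth.Agent.Lib.DR.FiniteComplex Groth.Agent.Lib.DR.PseudoCoherent Groth.Agent.Lib.DR.TopCohomology

namespace Groth.Agent.S6936

/-- Let R be a commutative ring, m an integer and K an object of D(R). If H^i(K) = 0 for every i > m +
1, H^(m+1)(K) is a finitely presented R-module and H^m(K) is a finitely generated R-module, then K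
is m-pseudo-coherent. -/
theorem result (R : Type u) [CommRing R]
    (m : ℤ) (K : Dual.D R) (hvan : ∀ i : ℤ, m + 1 < i → Subsingleton (Dual.HD R K i))
    (hfp : Module.FinitePresentation R (Dual.HD R K (m + 1))) (hfin : Module.Finite R (Dual.HD R K m)) :
    DRing.IsPseudoCoherent R m K := by
  rw [isPseudoCoherent_iff]
  refine pcn_of_homology good_ff projective_of_ff ((isLE_iff_subsingleton K (m + 1)).2 hvan) ?_
  intro i hi hi'
  obtain rfl | rfl : i = m ∨ i = m + 1 := by lia
  · exact pcn_single_of_finite _ _
  · have := pcn_single_of_finitePresentation ((DerivedCategory.homologyFunctor (ModuleCat.{u} R) (m + 1)).obj K) (m + 1)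
    simpa using this

end Groth.Agent.S6936
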