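import Groth.Statements.S6941
import Groth.Agent.Lib.DR.Descent

set_option autoImplicit false
universe u
open CategoryTheory CategoryTheory.Limits
attribute [local instance] HasDerivedCategory.standard
open DRing

open Groth.Agent.Lib.DR.Basic Groth.Agent.Lib.DR.FiniteComplex Groth.Agent.Lib.DR.PseudoCoherent Groth.Agent.Lib.DR.TopCohomology
open CategoryTheory CategoryTheory.Limits
open Groth.Agent.Lib.DR Groth.Agent.Lib.DR.Representative

namespace Groth.Agent.S6941

/-- Let R → R' be a faithfully flat homomorphism of commutative rings, K a cochain complex of R-modules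
and m an integer. If the termwise base change K ⊗_R R' is m-pseudo-coherent in D(R'), then K is
m-pseudo-coherent in D(R); if K ⊗_R R' is pseudo-coherent, then K is pseudo-coherent. -/
theorem result {R R' : Type u} [CommRing R] [CommRing R']
    [Algebra R R'] [Module.FaithfullyFlat R R'] (K : DRing.Cx R) (m : ℤ) :
    (DRing.IsPseudoCoherent R' m (DRing.toD (((ModuleCat.extendScalars (algebraMap R R')).mapHomologicalComplex
        (ComplexShape.up ℤ)).obj K)) → DRing.IsPseudoCoherent R m (DRing.toD K)) ∧
      (DRing.IsPseudoCoherent' R' (DRing.toD (((ModuleCat.extendScalars (algebraMap R R')).mapHomologicalComplex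
        (ComplexShape.up ℤ)).obj K)) → DRing.IsPseudoCoherent' R (DRing.toD K)) := by
  have hB := Descent.detects_faithfullyFlat (A := R) R'
  have hi : ∀ k, DRing.IsPseudoCoherent R' k (DRing.toD (((ModuleCat.extendScalars (algebraMap R R')).mapHomologicalComplex
      (ComplexShape.up ℤ)).obj K)) → PCn (ff R) k (DRing.toD K) := fun k h =>
    Descent.pcn_desc hB k _ fun i => ((isPseudoCoherent_iff k _).1 h).of_iso
      (ExactPush.mapQ (Descent.G (fun _ : Fin 1 => R') i) K).symm
  exact ⟨fun h => (isPseudoCoherent_iff _ _).2 (hi m h), fun h => (isPseudoCoherent'_iff_forall _).2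
    fun k => hi k ((isPseudoCoherent_iff _ _).2 ((isPseudoCoherent'_iff_forall _).1 h k))⟩

end Groth.Agent.S6941
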