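import Groth.Statements.S6945
import Groth.Agent.Lib.DR.LTensorModule

set_option autoImplicit false
universe u
open CategoryTheory CategoryTheory.Limits
attribute [local instance] HasDerivedCategory.standard
open DRing

open Groth.Agent.Lib.DR.Basic Groth.Agent.Lib.DR.FiniteComplex Groth.Agent.Lib.DR.PseudoCoherent Groth.Agent.Lib.DR.TopCohomology
open CategoryTheory CategoryTheory.Limits CategoryTheory.Pretriangulated
open Groth.Agent.Lib.DR.Representative Groth.Agent.Lib.DR.BaseChange Groth.Agent.Lib.DR.TorAmp Groth.Agent.Lib.DR.LTensorModule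

namespace Groth.Agent.S6945

/-- With the definition of tor amplitude: let R be a commutative ring, K an object of D(R) and a, b
integers, and assume the derived tensor product - ⊗^L_R M exists on D(R) for every R-module M. Then
K is isomorphic in D(R) to a complex of flat R-modules vanishing outside [a, b] if and only if H^i(K
⊗^L_R M) = 0 for every R-module M and every integer i outside [a, b]. -/
theorem result (R : Type u) [CommRing R]
    [∀ M : ModuleCat.{u} R, DRing.HasLTensor R M] (K : Dual.D R) (a b : ℤ) :
    DRing.HasTorAmplitudeIn R a b K ↔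
      ∀ (M : ModuleCat.{u} R) (i : ℤ), (i < a ∨ b < i) → Subsingleton (Dual.HD R ((DRing.LTensor R M).obj K) i) := by
  rw [hasTorAmplitudeIn_iff]
  constructor
  · intro h M i hi
    obtain ⟨E, hE, hp, ⟨e⟩⟩ := h
    have h0 : IsZero (((tens M).obj E).X i) := (MonoidalCategory.tensorRight M).map_isZero (hE i hi)
    have h1 : IsZero (((tens M).obj E).homology i) :=
      (HomologicalComplex.exactAt_iff_isZero_homology _ _).1 (HomologicalComplex.ExactAt.of_isZero h0)
    exact ModuleCat.subsingleton_of_isZero (h1.of_iso ((DerivedCategory.homologyFunctor _ i).mapIso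
      ((DRing.LTensor R M).mapIso e.symm ≪≫ ltFlat M E b (fun j hj => hE j (Or.inr hj)) hp) ≪≫ homologyQIso _ i))
  · intro h
    obtain ⟨e₁⟩ := nonempty_lt_unit K
    have hle : K.IsLE b := isLE_of_iso' e₁ ((isLE_iff_subsingleton _ b).2 fun i hi => h _ i (Or.inr hi))
    have hge : K.IsGE a := isGE_of_iso' e₁ ((isGE_iff_subsingleton _ a).2 fun i hi => h _ i (Or.inl hi))
    obtain ⟨E, hb, hp, ⟨e⟩⟩ := ba_free hle
    have hf : ∀ i, flat R (E.X i) := fun i => flat_of_free _ (hp i)
    refine (bdd_flat_of_isGE_tens E hb hf (isGE_of_iso' e.symm hge) fun M => ?_).of_iso e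
    exact isGE_of_iso' ((DRing.LTensor R M).mapIso e.symm ≪≫ ltFlat M E b hb hf)
      ((isGE_iff_subsingleton _ a).2 fun i hi => h M i (Or.inl hi))

end Groth.Agent.S6945
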