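import Groth.Statements.S6946
import Groth.Agent.Lib.DR.TorDim

set_option autoImplicit false
universe u
open CategoryTheory CategoryTheory.Limits
attribute [local instance] HasDerivedCategory.standard
open DRing

open Groth.Agent.Lib.DR.Basic Groth.Agent.Lib.DR.FiniteComplex Groth.Agent.Lib.DR.PseudoCoherent Groth.Agent.Lib.DR.TopCohomology
open CategoryTheory CategoryTheory.Limits
open Groth.Agent.Lib.DR Groth.Agent.Lib.DR.Representative Groth.Agent.Lib.DR.BaseChange Groth.Agent.Lib.DR.TorAmp Groth.Agent.Lib.DR.Perfect

namespace Groth.Agent.S6946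

/-- With the definition of tor dimension: let R be a commutative ring, M an R-module and d a natural
number. Then Tor_p^R(M, N) = 0 for every R-module N and every p > d if and only if M[0] is
isomorphic in D(R) to a complex of flat modules vanishing outside [-d, 0] (a flat resolution of M of
length d). In particular M has tor dimension 0 (Tor_p^R(M, N) = 0 for every N and every p > 0) if
and only if M is flat. -/
theorem result (R : Type u) [CommRing R] (M : Type u)
    [AddCommGroup M] [Module R M] (d : ℕ) :
    (DRing.HasTorDimLE R d M ↔ DRing.HasTorAmplitudeIn R (-(d : ℤ)) 0 (Dual.inD R M)) ∧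
      (DRing.HasTorDimLE R 0 M ↔ Module.Flat R M) := by
  refine ⟨(TorDim.hasTorDimLE_iff M d).trans (hasTorAmplitudeIn_iff _ _ _).symm, ?_⟩
  constructor
  · intro h
    exact TorDim.flat_of_bdd_zero M (by simpa using (TorDim.hasTorDimLE_iff M 0).1 h)
  · intro h N _ _ p hp
    exact Groth.Agent.Lib.Tor.Module.subsingleton_tor_of_flat_left R M N p hp

end Groth.Agent.S6946
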