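import Groth.Statements.S6950
import Groth.Agent.Lib.DR.Descent

set_option autoImplicit false
universe u
open CategoryTheory CategoryTheory.Limits
attribute [local instance] HasDerivedCategory.standard
open DRing

open Groth.Agent.Lib.DR.Basic Groth.Agent.Lib.DR.FiniteComplex Groth.Agent.Lib.DR.PseudoCoherent Groth.Agent.Lib.DR.TopCohomology
open CategoryTheory CategoryTheory.Limits
open Groth.Agent.Lib.DR Groth.Agent.Lib.DR.Representative

namespace Groth.Agent.S6950

/-- Let R → R' be a faithfully flat homomorphism of commutative rings, K a cochain complex of R-modules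
and a, b integers. If the termwise base change K ⊗_R R' has tor amplitude in [a, b] as an object of
D(R'), then K has tor amplitude in [a, b] as an object of D(R). -/
theorem result {R R' : Type u} [CommRing R] [CommRing R']
    [Algebra R R'] [Module.FaithfullyFlat R R'] (K : DRing.Cx R) (a b : ℤ)
    (hK : DRing.HasTorAmplitudeIn R' a b (DRing.toD (((ModuleCat.extendScalars (algebraMap R R')).mapHomologicalComplex
        (ComplexShape.up ℤ)).obj K))) :
    DRing.HasTorAmplitudeIn R a b (DRing.toD K) := by
  have hB := Descent.detects_faithfullyFlat (A := R) R'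
  exact (hasTorAmplitudeIn_iff _ _ _).2 (Descent.bdd_flat_desc hB _ a b fun i =>
    ((hasTorAmplitudeIn_iff _ _ _).1 hK).of_iso (ExactPush.mapQ (Descent.G (fun _ : Fin 1 => R') i) K).symm)

end Groth.Agent.S6950
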