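import Groth.Statements.S6951
import Groth.Agent.Lib.DR.TensorAmp
import Groth.Agent.Lib.DR.KProjRes

set_option autoImplicit false
universe u
open CategoryTheory CategoryTheory.Limits
attribute [local instance] HasDerivedCategory.standard
open DRing

open Groth.Agent.Lib.DR

namespace Groth.Agent.S6951

/-- Let R → A → B be homomorphisms of commutative rings with A → B faithfully flat, such that the
derived base change D(A) → D(B) exists, and let K be an object of D(A). Then for all integers a, b,
the following are equivalent: the restriction of K to D(R) is of tor amplitude within [a, b]; the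
restriction of K ⊗^L_A B to D(R) is of tor amplitude within [a, b]. -/
theorem result {R A B : Type u}
    [CommRing R] [CommRing A] [CommRing B] [Algebra R A] [Algebra A B] [Algebra R B] [IsScalarTower R A B]
    [Module.FaithfullyFlat A B] [DRing.HasLBaseChange (algebraMap A B)] (K : Dual.D A) (a b : ℤ) :
    DRing.HasTorAmplitudeIn R a b ((DRing.restrictD (algebraMap R A)).obj K) ↔
      DRing.HasTorAmplitudeIn R a b ((DRing.restrictD (algebraMap R B)).obj ((DRing.LBaseChange (algebraMap A B)).obj K)) := by
  let C₀ := DerivedCategory.Q.objPreimage K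
  let X := (KProjRes.res A).obj C₀
  have : IsIso (DerivedCategory.Q.map ((KProjRes.aug A).app C₀)) :=
    Localization.inverts DerivedCategory.Q (HomologicalComplex.quasiIso _ _) _ (KProjRes.quasiIso_aug A C₀)
  let e : DerivedCategory.Q.obj X ≅ K :=
    asIso (DerivedCategory.Q.map ((KProjRes.aug A).app C₀)) ≪≫ DerivedCategory.Q.objObjPreimageIso K
  let N : ModuleCat.{u} A := ModuleCat.of A B
  let Y := (BaseChange.ext (algebraMap A B)).obj X
  let eX : ((MonoidalCategory.tensorLeft N).mapHomologicalComplex (ComplexShape.up ℤ)).obj X ≅
      (DTen.resCx (algebraMap A B)).obj Y :=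
    HomologicalComplex.Hom.isoOfComponents
      (fun i => (TensorProduct.congr (FlatBC.resEquiv A B) (LinearEquiv.refl A (X.X i))).symm.toModuleIso ≪≫
        (AddEquiv.toLinearEquiv (M := TensorProduct A ((ModuleCat.restrictScalars.{u} (algebraMap A B)).obj (ModuleCat.of B B)) (X.X i))
          (M₂ := ((DTen.resCx (algebraMap A B)).obj Y).X i) (AddEquiv.refl _) fun r z => by
          induction z using TensorProduct.induction_on with
          | zero => rw [smul_zero]; exact (smul_zero (A := ((DTen.resCx (algebraMap A B)).obj Y).X i) r).symm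
          | tmul c x => rfl
          | add x y hx hy =>
            rw [smul_add]
            exact (congrArg₂ (· + ·) hx hy).trans (smul_add (A := ((DTen.resCx (algebraMap A B)).obj Y).X i) r x y).symm).toModuleIso)
      fun i j _ => ModuleCat.hom_ext (TensorProduct.ext' fun c x => rfl)
  let eY : DerivedCategory.Q.obj Y ≅ (DRing.LBaseChange (algebraMap A B)).obj K :=
    (BaseChange.bc (algebraMap A B) X).symm ≪≫ (DRing.LBaseChange (algebraMap A B)).mapIso e
  let l := ((ModuleCat.restrictScalars.{u} (algebraMap R A)).mapDerivedCategoryFactors.app X).symm ≪≫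
    (DRing.restrictD (algebraMap R A)).mapIso e
  let r := DerivedCategory.Q.mapIso ((DTen.resCx (algebraMap R A)).mapIso
      (LTensorCx.singleTensorIsoLeft N X ≪≫ eX) ≪≫
      (LocalAmp.resComp (algebraMap R A) (algebraMap A B) (algebraMap R B) (IsScalarTower.algebraMap_eq R A B) Y).symm) ≪≫
    ((ModuleCat.restrictScalars.{u} (algebraMap R B)).mapDerivedCategoryFactors.app Y).symm ≪≫
    (DRing.restrictD (algebraMap R B)).mapIso eY
  rw [PseudoCoherent.hasTorAmplitudeIn_iff, PseudoCoherent.hasTorAmplitudeIn_iff]
  exact ⟨fun h => ((TensorAmp.bdd_flat_restrict_single_tensor_iff N X a b).2 (h.of_iso l.symm)).of_iso r,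
    fun h => ((TensorAmp.bdd_flat_restrict_single_tensor_iff N X a b).1 (h.of_iso r.symm)).of_iso l⟩


end Groth.Agent.S6951
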