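import Groth.Statements.S6952
import Groth.Agent.Lib.DR.Nilp

set_option autoImplicit false
universe u
open CategoryTheory CategoryTheory.Limits
attribute [local instance] HasDerivedCategory.standard
open DRing

open Groth.Agent.Lib.DR.Basic Groth.Agent.Lib.DR.FiniteComplex Groth.Agent.Lib.DR.PseudoCoherent Groth.Agent.Lib.DR.TopCohomology
open CategoryTheory CategoryTheory.Limits CategoryTheory.Pretriangulated
open Groth.Agent.Lib.DR Groth.Agent.Lib.DR.Representative Groth.Agent.Lib.DR.BaseChange Groth.Agent.Lib.DR.Perfect

namespace Groth.Agent.S6952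

/-- Let R' → R be a surjective homomorphism of commutative rings whose kernel is a nilpotent ideal, such
that the derived base change D(R') → D(R) exists. Let K' be an object of D(R') and a, b integers.
Then K' ⊗^L R has tor amplitude in [a, b] over R if and only if K' has tor amplitude in [a, b] over
R'. -/
theorem result {R' R : Type u} [CommRing R']
    [CommRing R] (φ : R' →+* R) (hφ : Function.Surjective φ) (hnil : IsNilpotent (RingHom.ker φ))
    [DRing.HasLBaseChange φ] (K' : Dual.D R') (a b : ℤ) :
    DRing.HasTorAmplitudeIn R a b ((DRing.LBaseChange φ).obj K') ↔ DRing.HasTorAmplitudeIn R' a b K' := by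
  rw [hasTorAmplitudeIn_iff, hasTorAmplitudeIn_iff]
  exact ⟨fun h => Nilp.bdd_flat_of_LBC (fun _ : Fin 1 => φ) (fun _ => hφ) (Nilp.devisses_nilpotent _ hnil)
      K' a b (fun _ => h),
    fun h => bdd_LBaseChange φ (fun _ hM => hM) (ext_flat φ) h⟩

end Groth.Agent.S6952
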