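import Groth.Statements.S6953
import Groth.Agent.Lib.DR.TensorAmp

set_option autoImplicit false
universe u
open CategoryTheory CategoryTheory.Limits
attribute [local instance] HasDerivedCategory.standard
open DRing

open Groth.Agent.Lib.DR

namespace Groth.Agent.S6953

/-- Let A → B be a homomorphism of commutative rings, K an object of D(B) with tor amplitude in [a, b]
over B, and L a cochain complex of B-modules whose restriction of scalars to A lies in D(A) with tor
amplitude contained in [c, d]. Assume the derived tensor product - ⊗^L_B L exists on D(B). Then K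
⊗^L_B L, with scalars restricted to A, has tor amplitude in [a + c, b + d] over A. -/
theorem result {A B : Type u} [CommRing A] [CommRing B] [Algebra A B]
    (K : Dual.D B) (a b c d : ℤ) (hK : DRing.HasTorAmplitudeIn B a b K) (L : DRing.Cx B)
    (hL : DRing.HasTorAmplitudeIn A c d (DRing.toD ((DRing.restrictCx (algebraMap A B)).obj L)))
    [DRing.HasLTensorCx B L] :
    DRing.HasTorAmplitudeIn A (a + c) (b + d)
      ((DRing.restrictD (algebraMap A B)).obj ((DRing.LTensorCx B L).obj K)) := by
  obtain ⟨E, hE, hEf, ⟨e⟩⟩ := (PseudoCoherent.hasTorAmplitudeIn_iff a b K).1 hK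
  have hEK := KFlat.isKFlat_of_flat E b (fun i hi => hE i (Or.inr hi)) hEf
  let F := (KProjRes.res B).obj L
  have : IsIso (DerivedCategory.Q.map ((KProjRes.aug B).app L)) :=
    Localization.inverts DerivedCategory.Q (HomologicalComplex.quasiIso _ _) _ (KProjRes.quasiIso_aug B L)
  obtain ⟨e₁⟩ := LTensorCx.nonempty_iso_tensor L (KFlat.isKFlat_res L) e
    (asIso (DerivedCategory.Q.map ((KProjRes.aug B).app L)))
  obtain ⟨e₂⟩ := LTensorCx.nonempty_tensor_iso hEK (F := F) (F' := L)
    (asIso (DerivedCategory.Q.map ((KProjRes.aug B).app L)))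
  refine (PseudoCoherent.hasTorAmplitudeIn_iff _ _ _).2 ?_
  have h := TensorAmp.bdd_flat_restrict_tensor (algebraMap A B) hE hEf
    ((PseudoCoherent.hasTorAmplitudeIn_iff c d _).1 hL)
  exact h.of_iso (((DRing.restrictD (algebraMap A B)).mapIso (e₁ ≪≫ e₂)) ≪≫
    ((ModuleCat.restrictScalars.{u} (algebraMap A B)).mapDerivedCategoryFactors.app _)).symm


end Groth.Agent.S6953
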