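import Groth.Statements.S6954
import Groth.Agent.Lib.DR.TorAmp

set_option autoImplicit false
universe u
open CategoryTheory CategoryTheory.Limits
attribute [local instance] HasDerivedCategory.standard
open DRing

open Groth.Agent.Lib.DR.Basic Groth.Agent.Lib.DR.FiniteComplex Groth.Agent.Lib.DR.PseudoCoherent Groth.Agent.Lib.DR.TopCohomology
open CategoryTheory CategoryTheory.Limits CategoryTheory.Pretriangulated
open Groth.Agent.Lib.DR.Representative Groth.Agent.Lib.DR.BaseChange Groth.Agent.Lib.DR.TorAmp Groth.Agent.Lib.DR.Perfect Groth.Agent.Lib.DR.ProjAmp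

namespace Groth.Agent.S6954

/-- Let R be a commutative ring and K an object of D(R). Then K is perfect (isomorphic in D(R) to a
bounded complex of finite projective modules) if and only if K is pseudo-coherent (isomorphic to a
bounded above complex of finite free modules) and has finite tor dimension (isomorphic to a bounded
complex of flat modules). -/
theorem result (R : Type u) [CommRing R] (K : Dual.D R) :
    DRing.IsPerfect R K ↔ DRing.IsPseudoCoherent' R K ∧ DRing.HasFiniteTorDimCx R K := by
  rw [pf_iff]
  constructor
  · rintro h
    refine ⟨(isPseudoCoherent'_iff_forall K).2 h.pcn, ?_⟩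
    obtain ⟨a, b, h⟩ := h
    exact ⟨a, b, h.of_le flat_of_fproj⟩
  · rintro ⟨hK, a, c, h⟩
    exact pf_of_pcn_of_flat ((isPseudoCoherent'_iff_forall K).1 hK (a - 1)) h

end Groth.Agent.S6954
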