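import Groth.Statements.S6955
import Groth.Agent.Lib.DR.Perfect
import Groth.Agent.Lib.FlatCx.Elem
import Mathlib.CategoryTheory.Abelian.Projective.Extend

set_option autoImplicit false
universe u
open CategoryTheory CategoryTheory.Limits
attribute [local instance] HasDerivedCategory.standard
open DRing

open Groth.Agent.Lib.DR.Basic Groth.Agent.Lib.DR.FiniteComplex Groth.Agent.Lib.DR.PseudoCoherent Groth.Agent.Lib.DR.TopCohomology
open CategoryTheory CategoryTheory.Limits
open Groth.Agent.Lib.DR Groth.Agent.Lib.DR.Representative Groth.Agent.Lib.DR.Amplitude Groth.Agent.Lib.DR.ProjAmp Groth.Agent.Lib.FlatCx.Elem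

namespace Groth.Agent.S6955

/-- Let R be a commutative ring and M an R-module. Then M is perfect (M[0] is isomorphic in D(R) to a
bounded complex of finite projective modules) if and only if M admits a projective resolution of
finite length whose terms are finitely generated, i.e. a resolution 0 → F_d → ... → F_0 → M → 0 by
finite projective modules. -/
theorem result (R : Type u) [CommRing R] (M : Type u)
    [AddCommGroup M] [Module R M] :
    DRing.IsPerfectModule R M ↔
      ∃ (P : ProjectiveResolution (ModuleCat.of R M)) (d : ℕ),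
        (∀ i : ℕ, d < i → IsZero (P.complex.X i)) ∧ ∀ i : ℕ, Module.Finite R (P.complex.X i) := by
  constructor
  · intro h
    obtain ⟨a₁, b₁, h⟩ := (isPerfect_iff _).1 h
    let K : Dual.D R := Dual.inD R M
    have hle : K.IsLE 0 := (inferInstance :
      ((DerivedCategory.singleFunctor (ModuleCat.{u} R) 0).obj (ModuleCat.of R M)).IsLE 0)
    let a := min a₁ 0
    have ha : Bdd (fproj R) a 0 K := bdd_proj_of_ba good_fproj projective_of_fproj fproj_retract
      ((ba_ff_of_forall (Perfect.Pf.pcn ⟨a₁, b₁, h⟩) hle).of_le fproj_of_ff)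
      (isGE_mono h.isGE (by simp [a]))
      fun N => subsingleton_hom_single_of_bdd projective_of_fproj h N (a - 1) (Or.inl (by lia))
    obtain ⟨E, hE, hp, ⟨e⟩⟩ := ha
    have := isKProjective_of_bounds projective_of_fproj (fun i hi => hE i (Or.inr hi)) hp
    let S := (HomologicalComplex.single (ModuleCat.{u} R) (ComplexShape.up ℤ) 0).obj (ModuleCat.of R M)
    obtain ⟨φ, hφ⟩ : ∃ φ : E ⟶ S, DerivedCategory.Q.map φ =
        e.hom ≫ ((DerivedCategory.singleFunctorIsoCompQ (ModuleCat.{u} R) 0).app (ModuleCat.of R M)).hom :=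
      exists_Q_map_eq _
    have hq : QuasiIso φ := by
      rw [← DerivedCategory.isIso_Q_map_iff_quasiIso, hφ]
      exact (e ≪≫ (DerivedCategory.singleFunctorIsoCompQ (ModuleCat.{u} R) 0).app (ModuleCat.of R M)).isIso_hom
    let C : ChainComplex (ModuleCat.{u} R) ℕ := E.restriction ComplexShape.embeddingDownNat
    let f₀ : C.X 0 ⟶ ModuleCat.of R M := φ.f 0 ≫ (HomologicalComplex.singleObjXSelf _ _ _).hom
    have hf₀ : C.d 1 0 ≫ f₀ = 0 := by
      show E.d (-1) 0 ≫ φ.f 0 ≫ _ = 0
      rw [← Category.assoc, ← φ.comm, HomologicalComplex.single_obj_d, comp_zero, zero_comp]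
    let π : C ⟶ (ChainComplex.single₀ (ModuleCat.{u} R)).obj (ModuleCat.of R M) :=
      (ChainComplex.toSingle₀Equiv C _).symm ⟨f₀, hf₀⟩
    let sx := HomologicalComplex.singleObjXSelf (ComplexShape.down ℕ) 0 (ModuleCat.of R M)
    let sy := HomologicalComplex.singleObjXSelf (ComplexShape.up ℤ) 0 (ModuleCat.of R M)
    have hπ0 : π.f 0 = φ.f 0 ≫ sy.hom ≫ sx.inv :=
      (HomologicalComplex.mkHomToSingle_f f₀ (fun i hi => by obtain rfl : i = 1 := (by simpa using hi.symm); exact hf₀)).trans (Category.assoc _ _ _)
    have hb : ∀ i : ℤ, Function.Bijective (HomologicalComplex.homologyMap φ i) := fun i =>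
      (ConcreteCategory.isIso_iff_bijective _).1 inferInstance
    have hπ : QuasiIso π := by
      rw [quasiIso_iff]
      intro n
      rw [quasiIsoAt_iff_isIso_homologyMap, ConcreteCategory.isIso_iff_bijective]
      rcases n with _ | n
      · refine ⟨(injective_homologyMap_iff π (i := 1) (k := 0) (by simp) (by simp)).2 fun z _ y hy => ?_,
          (surjective_homologyMap_iff π (i := 1) (k := 0) (by simp) (by simp)).2 fun z' _ => ?_⟩
        · have hz : E.d 0 1 z = 0 := by
            rw [(hE 1 (Or.inr (by lia))).eq_of_tgt (E.d 0 1) 0]; rfl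
          have h0 : π.f 0 z = 0 := hy.symm.trans (by rw [HomologicalComplex.single_obj_d]; rfl)
          rw [hπ0] at h0
          exact (injective_homologyMap_iff φ (i := -1) (k := 1) (by simp) (by simp)).1 (hb 0).1 z hz 0 (by
            rw [map_zero]
            apply (sy ≪≫ sx.symm).toLinearEquiv.injective
            rw [map_zero]
            exact h0.symm)
        · obtain ⟨z, y, -, hzy⟩ := (surjective_homologyMap_iff φ (i := -1) (k := 1) (by simp) (by simp)).1
            (hb 0).2 ((sx.hom ≫ sy.inv) z') (by rw [HomologicalComplex.single_obj_d]; rfl)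
          refine ⟨z, 0, by simp <;> rfl, ?_⟩
          rw [map_zero, add_zero, hπ0]
          have hy0 : S.d (-1) 0 y = 0 := by
            rw [show S.d (-1) 0 = 0 from HomologicalComplex.single_obj_d _ _ _ _ _]; rfl
          rw [hy0, add_zero] at hzy
          refine (congrArg (sy.hom ≫ sx.inv).hom hzy).trans ?_
          exact congrArg (fun f => f.hom z') (sy ≪≫ sx.symm).inv_hom_id
      · have hz2 : IsZero (((ChainComplex.single₀ (ModuleCat.{u} R)).obj (ModuleCat.of R M)).X (n + 1)) :=
          HomologicalComplex.isZero_single_obj_X _ _ _ _ (by lia)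
        have := ModuleCat.subsingleton_of_isZero hz2
        refine ⟨(injective_homologyMap_iff π (i := n + 2) (k := n) (by simp) (by simp)).2 fun z hz y _ => ?_,
          (surjective_homologyMap_iff π (i := n + 2) (k := n) (by simp) (by simp)).2
            fun z' _ => ⟨0, 0, map_zero _, Subsingleton.elim _ _⟩⟩
        have he : E.ExactAt (-((n + 1 : ℕ) : ℤ)) := by
          rw [← quasiIsoAt_iff_exactAt' φ _ (HomologicalComplex.exactAt_single_obj _ _ _ _ (by lia))]
          infer_instance
        exact (isZero_homology_iff (i := (-((n + 2 : ℕ) : ℤ))) (k := (-((n : ℕ) : ℤ))) (by simp; lia) (by simp)).1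
          ((HomologicalComplex.exactAt_iff_isZero_homology _ _).1 he) z hz
    have hproj : ∀ n, CategoryTheory.Projective (C.X n) := fun n => projective_of_fproj _ (hp _)
    refine ⟨{ complex := C, projective := hproj, π := π, quasiIso := hπ }, (-a).toNat, fun i hi => ?_,
      fun i => (hp _).1⟩
    exact hE _ (Or.inl (show -(i : ℤ) < a by lia))
  · rintro ⟨P, d, hd, hfin⟩
    refine (isPerfect_iff _).2 ⟨-(d : ℤ), 0, P.cochainComplex, fun i hi => ?_, fun i => ?_, ?_⟩
    · rcases hi with hi | hi
      · exact (hd (-i).toNat (by lia)).of_iso (P.cochainComplexXIso i (-i).toNat (by lia))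
      · exact HomologicalComplex.isZero_extend_X _ _ i (fun k => by simp; lia)
    · by_cases hi : i ≤ 0
      · refine good_fproj.iso (P.cochainComplexXIso i (-i).toNat (by lia)).symm ⟨hfin _, ?_⟩
        exact (IsProjective.iff_projective (R := R) (P.complex.X (-i).toNat)).2 (show CategoryTheory.Projective (P.complex.X (-i).toNat) from inferInstance)
      · exact good_fproj.zero (HomologicalComplex.isZero_extend_X _ _ i (fun k => by simp; lia))
    · have : IsIso (DerivedCategory.Q.map P.π') := by
        rw [DerivedCategory.isIso_Q_map_iff_quasiIso]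
        infer_instance
      exact ⟨asIso (DerivedCategory.Q.map P.π') ≪≫
        ((DerivedCategory.singleFunctorIsoCompQ (ModuleCat.{u} R) 0).app (ModuleCat.of R M)).symm⟩

end Groth.Agent.S6955
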