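import Groth.Statements.S6956
import Groth.Agent.Lib.DR.Perfect
import Groth.Agent.Lib.DR.ExactPush
import Groth.Agent.Lib.DR.FlatBC
import Groth.Prelude.Def_DDual2
import Mathlib.RingTheory.Finiteness.Cardinality

set_option autoImplicit false
universe u
open CategoryTheory CategoryTheory.Limits
attribute [local instance] HasDerivedCategory.standard
open DRing

open Groth.Agent.Lib.DR.Basic Groth.Agent.Lib.DR.FiniteComplex Groth.Agent.Lib.DR.PseudoCoherent Groth.Agent.Lib.DR.TopCohomology
open Groth.Agent.Lib.DR Groth.Agent.Lib.DR.Perfect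

namespace Groth.Agent.S6956

/-- Restriction of a finite projective module along a perfect algebra is a perfect module. -/
lemma pmod_restrict {A B : Type u} [CommRing A] [CommRing B] [Algebra A B]
    (hB : pmod A (ModuleCat.of A B)) (S : ModuleCat.{u} B) (hS : fproj B S) :
    pmod A ((ModuleCat.restrictScalars.{u} (algebraMap A B)).obj S) := by
  let G := ModuleCat.restrictScalars.{u} (algebraMap A B)
  have hfree : ∀ n : ℕ, pmod A (G.obj (ModuleCat.of B (Fin n → B))) := by
    intro n
    induction n with
    | zero =>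
      exact good_pmod.zero (G.map_isZero (ModuleCat.isZero_of_subsingleton _))
    | succ n ih =>
      let e : ModuleCat.of B (Fin (n + 1) → B) ≅ ModuleCat.of B B ⊞ ModuleCat.of B (Fin n → B) :=
        (Fin.consLinearEquiv B (fun _ : Fin (n + 1) => B)).symm.toModuleIso ≪≫
          (ModuleCat.biprodIsoProd (ModuleCat.of B B) (ModuleCat.of B (Fin n → B))).symm
      have : PreservesBinaryBiproduct (ModuleCat.of B B) (ModuleCat.of B (Fin n → B)) G :=
        preservesBinaryBiproduct_of_preservesBiproduct G _ _
      have h1 : pmod A (G.obj (ModuleCat.of B B)) :=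
        good_pmod.iso (X := ModuleCat.of A B) (FlatBC.resEquiv A B).symm.toModuleIso hB
      exact good_pmod.iso ((G.mapBiprod _ _).symm ≪≫ G.mapIso e.symm) (good_pmod.biprod h1 ih)
  obtain ⟨_, _⟩ := hS
  obtain ⟨n, p, hp⟩ := Module.Finite.exists_fin' B S
  obtain ⟨i, hi⟩ := Module.projective_lifting_property p LinearMap.id hp
  let e : ModuleCat.of B (Fin n → B) ≅ S ⊞ ModuleCat.of B (LinearMap.ker p) :=
    (LinearMap.equivProdOfSurjectiveOfIsCompl p (LinearMap.id - i ∘ₗ p |>.codRestrict (LinearMap.ker p)
      fun x => by simp [← LinearMap.comp_apply p i, hi])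
      (LinearMap.range_eq_top.2 hp) (LinearMap.range_eq_top.2 fun y => ⟨y.1, Subtype.ext (by simp)⟩)
      (LinearMap.isCompl_of_proj fun y => Subtype.ext (by simp))).toModuleIso ≪≫
      (ModuleCat.biprodIsoProd S (ModuleCat.of B (LinearMap.ker p))).symm
  let F := G ⋙ DerivedCategory.singleFunctor (ModuleCat.{u} A) 0
  have : PreservesBinaryBiproduct S (ModuleCat.of B (LinearMap.ker p)) F :=
    preservesBinaryBiproduct_of_preservesBiproduct F _ _
  have h : Pf (F.obj S ⊞ F.obj (ModuleCat.of B (LinearMap.ker p))) :=
    Pf.of_iso (hfree n) (F.mapIso e ≪≫ F.mapBiprod _ _)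
  exact (pf_biprod_summands h).1


/-- Let A → B be a homomorphism of commutative rings such that B is perfect as an A-module, and let K be
a perfect object of D(B). Then K, with scalars restricted to A, is a perfect object of D(A). -/
theorem result {A B : Type u} [CommRing A] [CommRing B] [Algebra A B]
    (hB : DRing.IsPerfectModule A B) (K : Dual.D B) (hK : DRing.IsPerfect B K) :
    DRing.IsPerfect A ((DRing.restrictD (algebraMap A B)).obj K) := by
  obtain ⟨E, a, b, hE, hp, ⟨e⟩⟩ := hK
  refine (pf_iff _).2 (Pf.of_iso (pf_of_bounded _ a b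
    (fun i hi => (ModuleCat.restrictScalars.{u} (algebraMap A B)).map_isZero (hE i hi))
    (fun i => pmod_restrict ((pf_iff _).1 hB) (E.X i) (hp i)))
    ((ExactPush.mapQ _ E).symm ≪≫ (DRing.restrictD (algebraMap A B)).mapIso e))

end Groth.Agent.S6956
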