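import Groth.Statements.S6958
import Groth.Agent.Lib.DR.FlatBC
import Groth.Agent.Lib.DR.Representative

set_option autoImplicit false
universe u
open CategoryTheory CategoryTheory.Limits
attribute [local instance] HasDerivedCategory.standard
open DRing

open Groth.Agent.Lib.DR.Basic Groth.Agent.Lib.DR.FiniteComplex Groth.Agent.Lib.DR.PseudoCoherent Groth.Agent.Lib.DR.TopCohomology
open Groth.Agent.Lib.DR
open scoped TensorProduct

namespace Groth.Agent.S6958

/-- Let A → B be a flat homomorphism of commutative rings and M a perfect A-module. Then B ⊗_A M is a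
perfect B-module. -/
theorem result {A B : Type u} [CommRing A] [CommRing B] [Algebra A B]
    [Module.Flat A B] (M : Type u) [AddCommGroup M] [Module A M] (hM : DRing.IsPerfectModule A M) :
    DRing.IsPerfectModule B (TensorProduct A B M) := by
  obtain ⟨a, b, h⟩ := (isPerfect_iff _).1 hM
  exact (isPerfect_iff _).2 ⟨a, b, FlatBC.bdd_inD (BaseChange.ext_fproj _) h⟩

end Groth.Agent.S6958
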