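import Groth.Statements.S6959
import Groth.Agent.Lib.DR.TensorBdd

set_option autoImplicit false
universe u
open CategoryTheory CategoryTheory.Limits
attribute [local instance] HasDerivedCategory.standard
open DRing

open Groth.Agent.Lib.DR.Basic Groth.Agent.Lib.DR.FiniteComplex Groth.Agent.Lib.DR.PseudoCoherent Groth.Agent.Lib.DR.TopCohomology
open CategoryTheory CategoryTheory.Limits CategoryTheory.Pretriangulated
open Groth.Agent.Lib.DR

namespace Groth.Agent.S6959

/-- Let R be a commutative ring, K a perfect object of D(R) and L a cochain complex of R-modules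
defining a perfect object of D(R); assume the derived tensor product - ⊗^L_R L exists on D(R). Then
K ⊗^L_R L is a perfect object of D(R). -/
theorem result (R : Type u) [CommRing R] (K : Dual.D R) (hK : DRing.IsPerfect R K)
    (L : DRing.Cx R) (hL : DRing.IsPerfect R (DRing.toD L)) [DRing.HasLTensorCx R L] :
    DRing.IsPerfect R ((DRing.LTensorCx R L).obj K) := by
  obtain ⟨P, a, b, hP, hPf, ⟨eP⟩⟩ := hK
  obtain ⟨F, a', b', hF, hFf, ⟨eF⟩⟩ := hL
  have hFfl : ∀ i, Module.Flat R (F.X i) := fun i => by
    have := (hFf i).2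
    exact Module.Flat.of_projective
  obtain ⟨e⟩ := LTensorCx.nonempty_iso_tensor L (Groth.Agent.Lib.DR.KFlat.isKFlat_of_flat F b'
    (fun i hi => hF i (Or.inr hi)) hFfl) eP eF
  refine ⟨_, a + a', b + b', fun i hi => ?_, fun i => TensorBdd.fproj_tens P F (fun i hi => hP i (Or.inr hi))
    (fun i hi => hF i (Or.inr hi)) hPf hFf i, ⟨e.symm⟩⟩
  rcases hi with hi | hi
  · exact TensorBdd.isZero_tens_below P F (fun i hi => hP i (Or.inl hi)) (fun i hi => hF i (Or.inl hi)) i hi
  · exact TensorBdd.isZero_tens_above P F (fun i hi => hP i (Or.inr hi)) (fun i hi => hF i (Or.inr hi)) i hi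

end Groth.Agent.S6959
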