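import Groth.Statements.S6962
import Groth.Agent.Lib.DR.RegularPerfect

set_option autoImplicit false
universe u
open CategoryTheory CategoryTheory.Limits
attribute [local instance] HasDerivedCategory.standard
open DRing

open Groth.Agent.Lib.DR.Basic Groth.Agent.Lib.DR.FiniteComplex Groth.Agent.Lib.DR.PseudoCoherent Groth.Agent.Lib.DR.TopCohomology
open CategoryTheory CategoryTheory.Limits
open Groth.Agent.Lib.DR Groth.Agent.Lib.DR.Perfect Groth.Agent.Lib.DR.Coherent

namespace Groth.Agent.S6962

lemma finite_homology {R : Type u} [CommRing R] [IsNoetherianRing R] {K : Dual.D R} (h : Pf K) (i : ℤ) :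
    Module.Finite R (Dual.HD R K i) :=
  (fp_homology_of_pcn isCoh_of_isNoetherianRing (h.pcn i) i).2 rfl


/-- Let R be a regular commutative ring, i.e. R is Noetherian and its localization at every prime ideal
is a regular local ring. Then an R-module M is perfect (M[0] is isomorphic in D(R) to a bounded
complex of finite projective modules) if and only if M is finitely generated. -/
theorem result (R : Type u) [CommRing R] [IsNoetherianRing R]
    (hreg : ∀ p : PrimeSpectrum R, IsRegularLocalRing (Localization.AtPrime p.asIdeal))
    (M : Type u) [AddCommGroup M] [Module R M] :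
    DRing.IsPerfectModule R M ↔ Module.Finite R M := by
  constructor
  · intro h
    have := finite_homology ((pf_iff _).1 h) 0
    exact Module.Finite.equiv (homologySingle (ModuleCat.of R M) 0).toLinearEquiv
  · intro h
    exact (pf_iff _).2 (RegularPerfect.pmod_of_regular hreg M)

end Groth.Agent.S6962
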