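import Groth.Statements.S6963
import Groth.Agent.Lib.DR.RHomRes

set_option autoImplicit false
universe u
open CategoryTheory CategoryTheory.Limits
attribute [local instance] HasDerivedCategory.standard
open DRing

open Groth.Agent.Lib Groth.Agent.Lib.DR CategoryTheory.Limits MonoidalCategory

namespace Groth.Agent.S6963

theorem exists_rhom {A : Type u} [CommRing A] {K : Dual.D A} {E : DRing.Cx A} (eK : DRing.toD E ≅ K)
    [DRing.HasRHomCx E] {S : DRing.Cx A} {a b : ℤ} (hz : DRing.VanishesOutside S a b)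
    (hp : DRing.TermwiseFiniteProjective S) (eS : DRing.toD S ≅ K) :
    Nonempty ((DRing.RHomCx E).obj (Dual.inD A A) ≅ DerivedCategory.Q.obj (DRing.homCx S (𝟙_ (DRing.Cx A)))) := by
  have : ∀ q, Projective (S.X q) := fun q =>
    have := (hp q).2
    (IsProjective.iff_projective (R := A) (S.X q)).1 this
  have : S.IsStrictlyLE b := (CochainComplex.isStrictlyLE_iff _ _).2 fun i hi => hz i (Or.inr hi)
  have : S.IsKProjective := CochainComplex.isKProjective_of_projective S b
  obtain ⟨q, hq⟩ := Basic.exists_Q_map_eq (show DerivedCategory.Q.obj S ⟶ DerivedCategory.Q.obj E from eS.hom ≫ eK.inv)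
  have : QuasiIso q := by
    rw [← DerivedCategory.isIso_Q_map_iff_quasiIso, hq]
    exact (eS ≪≫ eK.symm).isIso_hom
  obtain ⟨e⟩ := RHomRes.nonempty_RHomCx_iso_homD q
  exact ⟨e.app _ ≪≫ (DComp.homD S).mapIso ((DerivedCategory.singleFunctorIsoCompQ (ModuleCat.{u} A) 0).app
    (ModuleCat.of A A)) ≪≫ (DComp.homDIso S).app (𝟙_ (DRing.Cx A))⟩

theorem bounded_dual {A : Type u} [CommRing A] {S : DRing.Cx A} {a b : ℤ} (hz : DRing.VanishesOutside S a b)
    (hp : DRing.TermwiseFiniteProjective S) :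
    DRing.VanishesOutside (DRing.homCx S (𝟙_ (DRing.Cx A))) (-b) (-a) ∧
      DRing.TermwiseFiniteProjective (DRing.homCx S (𝟙_ (DRing.Cx A))) := by
  refine ⟨fun q hq => RelHomInv.isZero_homCx_X S q (-q) (by omega) (hz _ (hq.elim (fun h => Or.inr (by omega))
    fun h => Or.inl (by omega))), fun q => ?_⟩
  have := (hp (-q)).1
  have := (hp (-q)).2
  let e := LinearEquiv.ofBijective _ (RelHomInv.bijective_dual S q (-q) (by omega))
  exact ⟨Module.Finite.equiv e.symm, Module.Projective.of_equiv e.symm⟩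


/-- Let A be a commutative ring and K a perfect object of D(A), represented by a cochain complex E for
which RHom_A(E, -) exists; write K^∨ = RHom_A(E, A). Then K^∨ is a perfect object of D(A), and for
every cochain complex E' representing K^∨ for which RHom_A(E', -) exists, RHom_A(E', A) is
isomorphic to K in D(A) (existence of an isomorphism only; the canonical one is the double-duality
map). -/
theorem result (A : Type u) [CommRing A] (K : Dual.D A) (hK : DRing.IsPerfect A K)
    (E : DRing.Cx A) (eK : DRing.toD E ≅ K) [DRing.HasRHomCx E] :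
    DRing.IsPerfect A ((DRing.RHomCx E).obj (Dual.inD A A)) ∧
      ∀ (E' : DRing.Cx A) (eK' : DRing.toD E' ≅ (DRing.RHomCx E).obj (Dual.inD A A)) [DRing.HasRHomCx E'],
        Nonempty ((DRing.RHomCx E').obj (Dual.inD A A) ≅ K) := by

  obtain ⟨S, a, b, hz, hp, ⟨eS⟩⟩ := hK
  obtain ⟨e⟩ := exists_rhom eK hz hp eS
  obtain ⟨hz', hp'⟩ := bounded_dual hz hp
  refine ⟨⟨_, _, _, hz', hp', ⟨e.symm⟩⟩, fun E' eK' _ => ?_⟩
  obtain ⟨e'⟩ := exists_rhom eK' hz' hp' e.symm
  let U : DRing.Cx A := 𝟙_ (DRing.Cx A)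
  have h1 := EvalHomCx.isIso_evalHomCx S U U hp (EvalHomCx.finitary_of_bounded S U U (Finset.Icc a b) fun p h =>
    hz p (by rw [Finset.mem_Icc, not_and_or, not_le, not_le] at h; exact h))
  exact ⟨e' ≪≫ DerivedCategory.Q.mapIso ((λ_ S).symm ≪≫ whiskerRightIso (DComp.homUnitIso.app U) S ≪≫
    @asIso _ _ _ _ (EvalHomCx.evalHomCx S U U) h1).symm ≪≫ eS⟩


end Groth.Agent.S6963
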