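import Groth.Statements.S6964
import Groth.Agent.Lib.DR.ProjAmp

set_option autoImplicit false
universe u
open CategoryTheory CategoryTheory.Limits
attribute [local instance] HasDerivedCategory.standard
open DRing

open Groth.Agent.Lib.DR.Basic Groth.Agent.Lib.DR.FiniteComplex Groth.Agent.Lib.DR.PseudoCoherent Groth.Agent.Lib.DR.TopCohomology
open CategoryTheory CategoryTheory.Limits CategoryTheory.Pretriangulated Groth.Agent.Lib.DR.Representative Groth.Agent.Lib.DR.ProjAmp Groth.Agent.Lib.DR.Amplitude

namespace Groth.Agent.S6964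

/-- Let R be a commutative ring, K an object of D(R) and a, b integers. These four conditions are
equivalent: (1) the projective amplitude of K lies in [a, b], meaning K is isomorphic in D(R) to a
complex of projective R-modules vanishing outside [a, b]; (2) Hom(K, N[i]) = 0 in D(R) for every
R-module N and every integer i outside [-b, -a]; (3) H^n(K) = 0 for all n > b and Hom(K, N[i]) = 0
for every R-module N and every i > -a; (4) H^n(K) = 0 for all n outside [a - 1, b] and Hom(K, N[-a +
1]) = 0 for every R-module N. -/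
theorem result (R : Type u) [CommRing R] (K : Dual.D R) (a b : ℤ) :
    [∃ P : DRing.Cx R, DRing.VanishesOutside P a b ∧ (∀ i : ℤ, Module.Projective R (P.X i)) ∧
        Nonempty (DRing.toD P ≅ K),
      ∀ (N : Type u) [AddCommGroup N] [Module R N] (i : ℤ), (i < -b ∨ -a < i) →
        Subsingleton (DRing.ExtD R K (Dual.inD R N) i),
      (∀ n : ℤ, b < n → Subsingleton (Dual.HD R K n)) ∧
        ∀ (N : Type u) [AddCommGroup N] [Module R N] (i : ℤ), -a < i → Subsingleton (DRing.ExtD R K (Dual.inD R N) i),
      (∀ n : ℤ, (n < a - 1 ∨ b < n) → Subsingleton (Dual.HD R K n)) ∧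
        ∀ (N : Type u) [AddCommGroup N] [Module R N], Subsingleton (DRing.ExtD R K (Dual.inD R N) (-a + 1))].TFAE := by
  tfae_have 1 → 2 := by
    rintro ⟨P, hP⟩ N _ _ i hi
    rw [subsingleton_ext_iff]
    exact subsingleton_hom_single_of_bdd (P := proj R) projective_of_proj (a := a) (b := b)
      ⟨P, hP⟩ _ _ (by lia)
  tfae_have 2 → 3 := by
    intro h
    refine ⟨(isLE_iff_subsingleton K b).1 (isLE_of_hom_single fun p N hp => ?_),
      fun N _ _ i hi => h N i (Or.inr hi)⟩
    simpa using (subsingleton_ext_iff K N (-p)).1 (h N (-p) (Or.inl (by lia)))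
  tfae_have 3 → 4 := by
    rintro ⟨h1, h2⟩
    refine ⟨fun n hn => hn.elim (fun hn => ModuleCat.subsingleton_of_isZero
      (isZero_homology_of_hom_single K n fun I _ => ?_)) (h1 n), fun N _ _ => h2 N _ (by lia)⟩
    simpa using (subsingleton_ext_iff K I (-n)).1 (h2 I (-n) (by lia))
  tfae_have 4 → 1 := by
    rintro ⟨h1, h2⟩
    have hh : Bdd (proj R) a b K := by
      refine bdd_proj_of_hom ((isGE_iff_subsingleton K (a - 1)).2 fun i hi => h1 i (Or.inl hi))
        ((isLE_iff_subsingleton K b).2 fun i hi => h1 i (Or.inr hi)) fun N => ?_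
      have := (subsingleton_ext_iff K N (-a + 1)).1 (h2 N)
      rwa [show -(-a + 1) = a - 1 by lia] at this
    exact hh
  tfae_finish

end Groth.Agent.S6964
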