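import Groth.Statements.S6965
import Groth.Agent.Lib.DMod.InjAmp

set_option autoImplicit false
universe u
open CategoryTheory CategoryTheory.Limits
attribute [local instance] HasDerivedCategory.standard
open DRing

namespace Groth.Agent.S6965

/-- Let R be a commutative ring, K an object of D(R) and a, b integers. These three conditions are
equivalent: (1) the injective amplitude of K lies in [a, b], meaning K is isomorphic in D(R) to a
complex of injective R-modules vanishing outside [a, b]; (2) Hom(N[0], K[i]) = 0 in D(R) for every
R-module N and every integer i outside [a, b]; (3) Hom((R/I)[0], K[i]) = 0 in D(R) for every ideal I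
of R and every integer i outside [a, b]. -/
theorem result (R : Type u) [CommRing R] (K : Dual.D R) (a b : ℤ) :
    [DRing.HasInjAmplitudeIn R a b K,
      ∀ (N : Type u) [AddCommGroup N] [Module R N] (i : ℤ), (i < a ∨ b < i) →
        Subsingleton (DRing.ExtD R (Dual.inD R N) K i),
      ∀ (I : Ideal R) (i : ℤ), (i < a ∨ b < i) → Subsingleton (DRing.ExtD R (Dual.inD R (R ⧸ I)) K i)].TFAE := by
  exact Groth.Agent.Lib.DMod.InjAmp.tfae K a b

end Groth.Agent.S6965
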