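import Groth.Statements.S6966
import Groth.Agent.Lib.Tor.ExtTorShift

set_option autoImplicit false
universe u
open CategoryTheory CategoryTheory.Limits
attribute [local instance] HasDerivedCategory.standard
open CAlg

namespace Groth.Agent.S6966

/-- Let R be a commutative ring, I an ideal of R and M an R-module. Then the following two conditions
coincide: for each a ∈ I, the endomorphism of M given by multiplication by a can be written as a
composite M → P → M with P some projective R-module; and for every R-module N and every a ∈ I, a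
annihilates Ext^1_R(M, N) = Hom(M[0], N[1]) in D(R). -/
theorem result (R : Type u) [CommRing R] (I : Ideal R) (M : Type u)
    [AddCommGroup M] [Module R M] :
    (∀ a ∈ I, ∃ (P : Type u) (_ : AddCommGroup P) (_ : Module R P) (_ : Module.Projective R P)
        (f : M →ₗ[R] P) (g : P →ₗ[R] M), g ∘ₗ f = a • LinearMap.id) ↔
      ∀ (N : Type u) [AddCommGroup N] [Module R N], ∀ a ∈ I,
        ∀ x : DRing.ExtD R (Dual.inD R M) (Dual.inD R N) 1, a • x = 0 := by
  let α : R → (M →ₗ[R] M) := fun a => a • LinearMap.id
  have hbridge : ∀ a, Groth.Agent.Lib.Tor.ExtTorShift.ExtZero 0 (α a) ↔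
      ∀ (N : Type u) [AddCommGroup N] [Module R N] (x : DRing.ExtD R (Dual.inD R M) (Dual.inD R N) 1), a • x = 0 := by
    intro a
    have hsm : ∀ (N : Type u) [AddCommGroup N] [Module R N] (x : DRing.ExtD R (Dual.inD R M) (Dual.inD R N) 1),
        (DerivedCategory.singleFunctor (ModuleCat.{u} R) 0).map (ModuleCat.ofHom (α a)) ≫ x = a • x := by
      intro N _ _ x
      have : (ModuleCat.ofHom (α a) : ModuleCat.of R M ⟶ ModuleCat.of R M) = a • 𝟙 _ := rfl
      rw [this, Functor.map_smul, CategoryTheory.Functor.map_id, Linear.smul_comp, Category.id_comp]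
    constructor
    · intro h N _ _ x
      have := congrArg Abelian.Ext.hom (h (ModuleCat.of R N) (Abelian.Ext.homEquiv.symm x))
      rw [Abelian.Ext.comp_hom, Abelian.Ext.mk₀_hom, Abelian.Ext.zero_hom, ShiftedHom.mk₀_comp] at this
      simpa [hsm] using this
    · intro h N x
      ext
      rw [Abelian.Ext.comp_hom, Abelian.Ext.mk₀_hom, Abelian.Ext.zero_hom, ShiftedHom.mk₀_comp]
      exact (hsm N x.hom).trans (h N x.hom)
  constructor
  · intro h N _ _ a ha
    refine (hbridge a).1 ((Groth.Agent.Lib.Tor.ExtTorShift.extZero_zero_iff (α a)).2 ?_) N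
    obtain ⟨P, _, _, _, f, g, hfg⟩ := h a ha
    obtain ⟨g', hg'⟩ := Module.projective_lifting_property (Finsupp.linearCombination R id : (M →₀ R) →ₗ[R] M) g
      (Finsupp.linearCombination_id_surjective R M)
    exact ⟨g' ∘ₗ f, by rw [← LinearMap.comp_assoc, hg', hfg]⟩
  · intro h a ha
    obtain ⟨g, hg⟩ := (Groth.Agent.Lib.Tor.ExtTorShift.extZero_zero_iff (α a)).1
      ((hbridge a).2 fun N _ _ x => h N a ha x)
    exact ⟨M →₀ R, inferInstance, inferInstance, inferInstance, g, Finsupp.linearCombination R id, hg.symm⟩

end Groth.Agent.S6966
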