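import Groth.Statements.S6967


set_option autoImplicit false
universe u
open CAlg

namespace Groth.Agent.S6967

/-- Let R be a commutative ring, I an ideal of R and 0 → K → P → M → 0 a short exact sequence of
R-modules with P projective. If multiplication by a on M factors through a projective R-module for
every a ∈ I, then multiplication by a on K factors through a projective R-module for every a ∈ I. -/
theorem result (R : Type u) [CommRing R] (I : Ideal R)
    {K P M : Type u} [AddCommGroup K] [Module R K] [AddCommGroup P] [Module R P] [Module.Projective R P]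
    [AddCommGroup M] [Module R M] (f : K →ₗ[R] P) (g : P →ₗ[R] M) (hf : Function.Injective f)
    (hg : Function.Surjective g) (hfg : LinearMap.range f = LinearMap.ker g)
    (hM : ∀ a ∈ I, ∃ (P : Type u) (_ : AddCommGroup P) (_ : Module R P) (_ : Module.Projective R P)
        (f : M →ₗ[R] P) (g : P →ₗ[R] M), g ∘ₗ f = a • LinearMap.id) :
    ∀ a ∈ I, ∃ (P : Type u) (_ : AddCommGroup P) (_ : Module R P) (_ : Module.Projective R P)
        (f : K →ₗ[R] P) (g : P →ₗ[R] K), g ∘ₗ f = a • LinearMap.id := by
  intro a ha
  obtain ⟨Q, _, _, _, α, β, hαβ⟩ := hM a ha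
  obtain ⟨q, hq⟩ := Module.projective_lifting_property g β hg
  let e := LinearEquiv.ofInjective f hf
  have hmem : ∀ x, (a • LinearMap.id - q ∘ₗ α ∘ₗ g : P →ₗ[R] P) x ∈ LinearMap.range f := by
    intro x
    rw [hfg, LinearMap.mem_ker]
    have h1 := LinearMap.congr_fun hq (α (g x))
    have h2 := LinearMap.congr_fun hαβ (g x)
    simp only [LinearMap.comp_apply, LinearMap.smul_apply, LinearMap.id_apply] at h1 h2
    simp [h1, h2]
  refine ⟨P, inferInstance, inferInstance, inferInstance, f,
    e.symm.toLinearMap ∘ₗ LinearMap.codRestrict _ _ hmem, LinearMap.ext fun x => hf ?_⟩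
  have h := congrArg Subtype.val (e.apply_symm_apply ⟨_, hmem (f x)⟩)
  refine h.trans ?_
  have hgf : g (f x) = 0 := by
    rw [← LinearMap.mem_ker, ← hfg]
    exact LinearMap.mem_range_self f x
  simp [hgf]

end Groth.Agent.S6967
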