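import Groth.Statements.S6969
import Mathlib.RingTheory.Finiteness.Finsupp


set_option autoImplicit false
universe u
open CAlg

namespace Groth.Agent.S6969

/-- Let R be a commutative ring and φ : M → N an R-linear map which factors through a projective
R-module. If M is finitely generated, then φ factors through a finitely generated projective
R-module. -/
theorem result (R : Type u) [CommRing R] {M N : Type u} [AddCommGroup M]
    [Module R M] [Module.Finite R M] [AddCommGroup N] [Module R N] (φ : M →ₗ[R] N)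
    (h : ∃ (P : Type u) (_ : AddCommGroup P) (_ : Module R P) (_ : Module.Projective R P) (f : M →ₗ[R] P)
      (g : P →ₗ[R] N), g ∘ₗ f = φ) :
    ∃ (P : Type u) (_ : AddCommGroup P) (_ : Module R P) (_ : Module.Projective R P) (_ : Module.Finite R P)
      (f : M →ₗ[R] P) (g : P →ₗ[R] N), g ∘ₗ f = φ := by
  classical
  obtain ⟨P, _, _, hP, f, g, hgf⟩ := h
  obtain ⟨s, hs⟩ := Module.projective_def'.1 hP
  obtain ⟨n, x, hx⟩ := Module.Finite.exists_fin (R := R) (M := M)
  let S : Finset P := Finset.univ.biUnion fun i : Fin n => (s (f (x i))).support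
  let e : Fin S.card → P := fun j => (S.equivFin.symm j : P)
  have he : Function.Injective e := Subtype.val_injective.comp S.equivFin.symm.injective
  let r : (P →₀ R) →ₗ[R] (Fin S.card →₀ R) := Finsupp.lcomapDomain e he
  let ι : (Fin S.card →₀ R) →ₗ[R] (P →₀ R) := Finsupp.lmapDomain R R e
  refine ⟨ULift.{u} (Fin S.card) →₀ R, inferInstance, inferInstance, inferInstance, inferInstance,
    (Finsupp.domLCongr Equiv.ulift.symm).toLinearMap ∘ₗ r ∘ₗ s ∘ₗ f,
    g ∘ₗ Finsupp.linearCombination R id ∘ₗ ι ∘ₗ (Finsupp.domLCongr Equiv.ulift).toLinearMap, ?_⟩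
  refine LinearMap.ext_on_range hx fun i => ?_
  have hr : ι (r (s (f (x i)))) = s (f (x i)) := by
    refine Finsupp.mapDomain_comapDomain e he _ fun z hz => ?_
    exact ⟨S.equivFin ⟨z, Finset.mem_biUnion.2 ⟨i, Finset.mem_univ _, hz⟩⟩, by simp [e]⟩
  have h2 : ∀ w : Fin S.card →₀ R,
      Finsupp.domLCongr (R := R) (M := R) Equiv.ulift (Finsupp.domLCongr (R := R) (M := R) Equiv.ulift.symm w) = w :=
    fun w => by simp [Finsupp.equivMapDomain_eq_mapDomain, ← Finsupp.mapDomain_comp, Function.comp_def, ← Function.id_def, Finsupp.mapDomain_id]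
  have h3 := LinearMap.congr_fun hs (f (x i))
  simp only [LinearMap.comp_apply, LinearMap.id_apply, LinearEquiv.coe_coe] at h3 ⊢
  rw [h2, hr, h3, ← LinearMap.comp_apply, hgf]

end Groth.Agent.S6969
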