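import Groth.Statements.S6970
import Groth.Agent.Lib.DR.Lift
import Groth.Agent.Lib.DR.Nilp
import Groth.Agent.H22.Nil

set_option autoImplicit false
universe u
open CategoryTheory CategoryTheory.Limits
attribute [local instance] HasDerivedCategory.standard
open DRing

open Groth.Agent.Lib.DR.Basic Groth.Agent.Lib.DR.FiniteComplex Groth.Agent.Lib.DR.PseudoCoherent Groth.Agent.Lib.DR.TopCohomology
open CategoryTheory CategoryTheory.Limits CategoryTheory.Pretriangulated ZeroObject
open Groth.Agent.Lib.DR Groth.Agent.Lib.DR.Representative Groth.Agent.Lib.DR.BaseChange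

namespace Groth.Agent.S6970

theorem projective_prod {R : Type u} [CommRing R] {M N : ModuleCat.{u} R}
    (hM : Module.Projective R M) (h : Module.Projective R N) :
    Module.Projective R (ModuleCat.of R (M × N)) :=
  (inferInstance : Module.Projective R (M × N))

theorem projective_right {R : Type u} [CommRing R] {M N : Type u} [AddCommGroup M] [Module R M]
    [AddCommGroup N] [Module R N] (h : Module.Projective R (M × N)) : Module.Projective R N :=
  Module.Projective.of_split (LinearMap.inr R M N) (LinearMap.snd R M N) (LinearMap.ext fun _ => rfl)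


/-- Let R be a commutative ring and I a nilpotent ideal of R such that the derived base change D(R) →
D(R/I) exists. Let K be an object of D(R) and E a bounded above cochain complex of projective
R/I-modules which is isomorphic in D(R/I) to K ⊗^L_R R/I. Then there is a bounded above cochain
complex P of projective R-modules which is isomorphic to K in D(R) and whose termwise reduction P
⊗_R R/I is isomorphic to E as a complex of R/I-modules. -/
theorem result (R : Type u) [CommRing R] (I : Ideal R)
    (hI : IsNilpotent I) [DRing.HasLBaseChange (Ideal.Quotient.mk I)] (K : Dual.D R)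
    (E : DRing.Cx (R ⧸ I)) (b : ℤ) (hEb : DRing.VanishesAbove E b)
    (hEp : ∀ i : ℤ, Module.Projective (R ⧸ I) (E.X i))
    (hE : Nonempty (DRing.toD E ≅ (DRing.LBaseChange (Ideal.Quotient.mk I)).obj K)) :
    ∃ (P : DRing.Cx R) (b' : ℤ), DRing.VanishesAbove P b' ∧ (∀ i : ℤ, Module.Projective R (P.X i)) ∧
      Nonempty (DRing.toD P ≅ K) ∧ Nonempty ((((ModuleCat.extendScalars (Ideal.Quotient.mk I)).mapHomologicalComplex (ComplexShape.up ℤ)).obj P) ≅ E) := by
  obtain ⟨eE⟩ := hE
  have hle : K.IsLE b := Nilp.isLE_of_LBC (fun _ : Fin 1 => Ideal.Quotient.mk I)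
    (fun _ => Ideal.Quotient.mk_surjective) (Nilp.devisses_nilpotent _ (by rwa [Ideal.mk_ker])) K b
    fun _ => isLE_of_iso' eE (isLE_Q_of_isZero E b hEb)
  obtain ⟨Q, hQ, hQp, ⟨eQ⟩⟩ := ba_proj hle
  have hX : ∀ i, ∃ X : ModuleCat.{u} R, proj R X ∧ Nonempty (TensorProduct R (R ⧸ I) X ≃ₗ[R ⧸ I] E.X i) :=
    fun i => by
      have := hEp i
      obtain ⟨P, hP, e⟩ := H22.Nil.exists_projective_lift hI (E.X i)
      exact ⟨ModuleCat.of R P, hP, e⟩
  choose X hX hXe using hX
  obtain ⟨P, b', hP, hPX, hPK, hPE⟩ := Lift.exists_lift_D I (proj R) (fun e h => good_proj.iso e h)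
    (fun _ h => h) (fun M N hM => ⟨fun h => projective_right h, fun h => projective_prod hM h⟩)
    (fun M N f _ _ h => LinearMap.range_eq_top.1 (H22.Nil.top_le_of_le_sup_smul hI h.ge))
    K Q b hQ hQp eQ E b hEb X hX (fun i => (hXe i).some) eE
  exact ⟨P, b', hP, fun i => good_proj.iso (hPX i).some.symm (hX i), hPK, hPE⟩

end Groth.Agent.S6970
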