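import Groth.Statements.S6972
import Groth.Agent.Lib.DR.Lift
import Groth.Agent.Lib.Henselian.Projective
import Mathlib.RingTheory.LocalRing.Module
import Mathlib.LinearAlgebra.Dimension.Constructions

set_option autoImplicit false
universe u
open CategoryTheory CategoryTheory.Limits
attribute [local instance] HasDerivedCategory.standard
open DRing

open Groth.Agent.Lib.DR.Basic Groth.Agent.Lib.DR.FiniteComplex Groth.Agent.Lib.DR.PseudoCoherent Groth.Agent.Lib.DR.TopCohomology
open CategoryTheory CategoryTheory.Limits CategoryTheory.Pretriangulated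
open Groth.Agent.Lib.DR Groth.Agent.Lib.DR.Representative Groth.Agent.Lib.DR.BaseChange

namespace Groth.Agent.S6972

/-- The cohomology complex of a complex of vector spaces. -/
theorem exists_min {k : Type u} [CommRing k] (hfree : ∀ M : ModuleCat.{u} k, Module.Projective k M)
    (F : DRing.Cx k) : ∃ (H : DRing.Cx k) (g : H ⟶ F), QuasiIso g ∧ (∀ i j, H.d i j = 0) ∧
      ∀ i, ∃ π : LinearMap.ker (F.d i (i + 1)).hom →ₗ[k] H.X i, Function.Surjective π := by
  let N := fun i => (LinearMap.range (F.d (i - 1) i).hom).submoduleOf (LinearMap.ker (F.d i (i + 1)).hom)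
  let X := fun i => ModuleCat.of k (LinearMap.ker (F.d i (i + 1)).hom ⧸ N i)
  have hs : ∀ i, ∃ s : X i →ₗ[k] LinearMap.ker (F.d i (i + 1)).hom, ∀ x, Submodule.Quotient.mk (s x) = x :=
    fun i => by
      have := hfree (X i)
      obtain ⟨s, hs⟩ := Module.projective_lifting_property (N i).mkQ LinearMap.id (N i).mkQ_surjective
      exact ⟨s, fun x => LinearMap.congr_fun hs x⟩
  choose s hs using hs
  let H : DRing.Cx k := CochainComplex.of X (fun _ => 0) fun _ => comp_zero
  have hd : ∀ i j, H.d i j = 0 := fun i j => by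
    by_cases h : i + 1 = j
    · subst h; simp [H]
    · exact H.shape i j h
  let g : H ⟶ F :=
    { f := fun i => ModuleCat.ofHom ((LinearMap.ker (F.d i (i + 1)).hom).subtype ∘ₗ s i)
      comm' := by
        rintro i _ rfl
        rw [hd, zero_comp]
        exact ModuleCat.hom_ext (LinearMap.ext fun x => LinearMap.mem_ker.1 (s i x).2) }
  refine ⟨H, g, (Lift.quasiIso_iff_hex g).2 fun i j hij e q _ hq => ?_, hd,
    fun i => ⟨(N i).mkQ, (N i).mkQ_surjective⟩⟩
  have h1 : (s (j + 1) e).1 + F.d j (j + 1) q = 0 := hq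
  have he : e = 0 := by
    rw [← hs (j + 1) e]
    refine (Submodule.Quotient.mk_eq_zero _).2 ?_
    show (s (j + 1) e).1 ∈ LinearMap.range (F.d (j + 1 - 1) (j + 1)).hom
    rw [add_sub_cancel_right]
    exact ⟨-q, by rw [map_neg]; exact neg_eq_of_add_eq_zero_left h1⟩
  subst he
  have hq' : q ∈ LinearMap.ker (F.d j (j + 1)).hom := by
    rw [map_zero, ZeroMemClass.coe_zero, zero_add] at h1
    exact h1
  let e' : X j := Submodule.Quotient.mk ⟨q, hq'⟩
  have h2 : (⟨q, hq'⟩ - s j e' : LinearMap.ker (F.d j (j + 1)).hom) ∈ N j := by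
    rw [← Submodule.Quotient.mk_eq_zero, Submodule.Quotient.mk_sub, hs, sub_self]
  obtain ⟨q', hq''⟩ : q - (s j e').1 ∈ LinearMap.range (F.d (j - 1) j).hom := h2
  obtain rfl : i = j - 1 := by lia
  refine ⟨e', q', ?_, ?_⟩
  · rw [hd]
    exact neg_zero
  · show (s j e').1 + F.d (j - 1) j q' = q
    rw [show F.d (j - 1) j q' = q - (s j e').1 from hq'']
    abel

/-- Cohomology of a complex with zero differentials. -/
theorem nonempty_HD_iso {k : Type u} [CommRing k] (H : DRing.Cx k) (hd : ∀ i j, H.d i j = 0) (X : Dual.D k)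
    (e : DerivedCategory.Q.obj H ≅ X) (i : ℤ) : Nonempty (H.X i ≅ (DerivedCategory.homologyFunctor _ i).obj X) :=
  ⟨(ShortComplex.LeftHomologyData.ofZeros (H.sc i) (hd _ _) (hd _ _)).homologyIso.symm ≪≫
    (homologyQIso H i).symm ≪≫ (DerivedCategory.homologyFunctor _ i).mapIso e⟩

theorem ff_right {R : Type u} [CommRing R] [IsLocalRing R] {M N : ModuleCat.{u} R}
    (h : ff R (ModuleCat.of R (M × N))) : ff R N := by
  have : Module.Finite R (M × N) := h.1
  have : Module.Free R (M × N) := h.2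
  have : Module.Projective R (M × N) := Module.Projective.of_free
  have hN : Module.Finite R N := Module.Finite.of_surjective (LinearMap.snd R M N) LinearMap.snd_surjective
  have : Module.Projective R N :=
    Module.Projective.of_split (LinearMap.inr R M N) (LinearMap.snd R M N) (LinearMap.ext fun _ => rfl)
  exact ⟨hN, Module.free_of_flat_of_isLocalRing⟩

theorem ff_prod {R : Type u} [CommRing R] {M N : ModuleCat.{u} R} (hM : ff R M) (h : ff R N) :
    ff R (ModuleCat.of R (M × N)) := by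
  obtain ⟨_, _⟩ := hM
  obtain ⟨_, _⟩ := h
  exact ⟨(inferInstance : Module.Finite R (M × N)), (inferInstance : Module.Free R (M × N))⟩


/-- Let R be a local commutative ring with residue field κ such that the derived base change D(R) → D(κ)
exists, and let K be a pseudo-coherent object of D(R). Write d_i for the κ-dimension of H^i(K ⊗^L_R
κ). Then every H^i(K ⊗^L_R κ) is finite dimensional and vanishes for i large; there is a bounded
above cochain complex P of finite free R-modules with rank P^i = d_i for all i which is isomorphic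
to K in D(R); and any two such complexes are isomorphic as complexes of R-modules. -/
theorem result (R : Type u) [CommRing R] [IsLocalRing R]
    [DRing.HasLBaseChange (IsLocalRing.residue R)] (K : Dual.D R) (hK : DRing.IsPseudoCoherent' R K) :
    let κ := IsLocalRing.ResidueField R
    let Kκ := (DRing.LBaseChange (IsLocalRing.residue R)).obj K
    let Minimal := fun P : DRing.Cx R => (∃ b : ℤ, DRing.VanishesAbove P b) ∧
      (∀ i : ℤ, Module.Free R (P.X i) ∧ Module.Finite R (P.X i) ∧
        Module.finrank R (P.X i) = Module.finrank κ (Dual.HD κ Kκ i)) ∧ Nonempty (DRing.toD P ≅ K)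
    (∀ i : ℤ, Module.Finite κ (Dual.HD κ Kκ i)) ∧ (∃ b : ℤ, ∀ i : ℤ, b < i → Subsingleton (Dual.HD κ Kκ i)) ∧
      (∃ P : DRing.Cx R, Minimal P) ∧ ∀ P Q : DRing.Cx R, Minimal P → Minimal Q → Nonempty (P ≅ Q) := by
  intro κ Kκ Minimal
  let m := IsLocalRing.maximalIdeal R
  let mk' : R →+* R ⧸ m := Ideal.Quotient.mk m
  have : DRing.HasLBaseChange mk' := (inferInstance : DRing.HasLBaseChange (IsLocalRing.residue R))
  have hfree : ∀ M : ModuleCat.{u} (R ⧸ m), Module.Free (R ⧸ m) M := fun M =>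
    letI := Ideal.Quotient.field m
    Module.Free.of_divisionRing (R ⧸ m) M
  have hproj : ∀ M : ModuleCat.{u} (R ⧸ m), Module.Projective (R ⧸ m) M := fun M => have := hfree M; inferInstance
  have hnoe : IsNoetherianRing (R ⧸ m) :=
    letI := Ideal.Quotient.field m
    inferInstance
  let L := (DRing.LBaseChange mk').obj K
  let r := fun i => Module.finrank (R ⧸ m) ((DerivedCategory.homologyFunctor (ModuleCat.{u} (R ⧸ m)) i).obj L)
  -- a complex of vector spaces computing the fibre
  have hrep : ∀ P : DRing.Cx R, (∃ b, DRing.VanishesAbove P b) → (∀ i, fproj R (P.X i)) →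
      Nonempty (DRing.toD P ≅ K) → ∃ (H : DRing.Cx (R ⧸ m)) (g : H ⟶ (ext mk').obj P), QuasiIso g ∧
        (∀ i j, H.d i j = 0) ∧ Nonempty (DerivedCategory.Q.obj H ≅ L) ∧
        ∀ i, Module.Finite (R ⧸ m) (H.X i) ∧ r i = Module.finrank (R ⧸ m) (H.X i) ∧
          ∃ π : LinearMap.ker (((ext mk').obj P).d i (i + 1)).hom →ₗ[R ⧸ m] H.X i, Function.Surjective π := by
    rintro P ⟨b, hb⟩ hP ⟨e⟩
    obtain ⟨H, g, hg, hd, hπ⟩ := exists_min hproj ((ext mk').obj P)
    have : IsIso (DerivedCategory.Q.map g) := (DerivedCategory.isIso_Q_map_iff_quasiIso (φ := g)).2 hg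
    let e' : DerivedCategory.Q.obj H ≅ L := asIso (DerivedCategory.Q.map g) ≪≫
      (bcFlat mk' P b hb fun i => flat_of_fproj _ (hP i)).symm ≪≫ (DRing.LBaseChange mk').mapIso e
    refine ⟨H, g, hg, hd, ⟨e'⟩, fun i => ?_⟩
    obtain ⟨π, hπ⟩ := hπ i
    have hfin : Module.Finite (R ⧸ m) (((ext mk').obj P).X i) := (ext_fproj mk' _ (hP i)).1
    have : Module.Finite (R ⧸ m) (LinearMap.ker (((ext mk').obj P).d i (i + 1)).hom) :=
      Module.Finite.of_fg (IsNoetherian.noetherian _)
    obtain ⟨c⟩ := nonempty_HD_iso H hd L e' i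
    exact ⟨Module.Finite.of_surjective π hπ, c.toLinearEquiv.finrank_eq.symm, π, hπ⟩
  obtain ⟨Q, c, hQ, hQf, ⟨eQ⟩⟩ := hK
  obtain ⟨H, g, -, hd, ⟨eH⟩, hH⟩ := hrep Q ⟨c, hQ⟩ (fun i => fproj_of_ff _ (hQf i)) ⟨eQ⟩
  have hLle : L.IsLE c := (ba_LBaseChange mk' (fun M hM => flat_of_fproj M (fproj_of_ff M hM)) (ext_ff mk')
    (P := ff R) ⟨Q, hQ, hQf, ⟨eQ⟩⟩).isLE
  have hz : ∀ i, c < i → IsZero (H.X i) := fun i hi =>
    ((DerivedCategory.isLE_iff _ _).1 hLle i hi).of_iso (nonempty_HD_iso H hd L eH i).some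
  refine ⟨fun i => ?_, ⟨c, (isLE_iff_subsingleton _ c).1 hLle⟩, ?_, ?_⟩
  · have := (hH i).1
    have h := Module.Finite.equiv (nonempty_HD_iso H hd L eH i).some.toLinearEquiv
    exact h
  · let X : ℤ → ModuleCat.{u} R := fun i => ModuleCat.of R
      (Module.Free.ChooseBasisIndex (R ⧸ m) (H.X i) →₀ R)
    have := fun i => hfree (H.X i)
    have := fun i => (hH i).1
    classical
    obtain ⟨P, b', hP, hPX, hPK, -⟩ := Lift.exists_lift_D m (ff R) (fun e h => good_ff.iso e h)
      (fun M h => (fproj_of_ff M h).2) (fun M N hM => ⟨fun h => ff_right h, fun h => ff_prod hM h⟩)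
      (fun M N f _ hN h => LinearMap.range_eq_top.1 (top_le_iff.1
        (Submodule.le_of_le_smul_of_le_jacobson_bot hN.1.fg_top
          (IsLocalRing.maximalIdeal_le_jacobson ⊥) h.ge)))
      K Q c hQ hQf eQ H c hz X
      (fun i => ⟨(inferInstance : Module.Finite R (_ →₀ R)), (inferInstance : Module.Free R (_ →₀ R))⟩)
      (fun i => TensorProduct.finsuppScalarRight R (R ⧸ m) (R ⧸ m) _ ≪≫ₗ
        (Module.Free.chooseBasis (R ⧸ m) (H.X i)).repr.symm) eH
    refine ⟨P, ⟨b', hP⟩, fun i => ?_, hPK⟩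
    obtain ⟨e⟩ := hPX i
    refine ⟨Module.Free.of_equiv e.symm.toLinearEquiv, Module.Finite.equiv e.symm.toLinearEquiv, ?_⟩
    rw [e.toLinearEquiv.finrank_eq]
    refine Eq.trans ?_ (hH i).2.1.symm
    rw [Module.finrank_eq_card_chooseBasisIndex (R ⧸ m) (H.X i)]
    exact Module.finrank_finsupp_self R
  · rintro P P' ⟨hPb, hP, hPK⟩ ⟨hP'b, hP', hP'K⟩
    have hPf : ∀ i, fproj R (P.X i) := fun i => ⟨(hP i).2.1, have := (hP i).1; inferInstance⟩
    have hP'f : ∀ i, fproj R (P'.X i) := fun i => ⟨(hP' i).2.1, have := (hP' i).1; inferInstance⟩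
    have hmin : ∀ S : DRing.Cx R, (∃ b, DRing.VanishesAbove S b) → (∀ i, fproj R (S.X i)) →
        (∀ i, Module.Free R (S.X i) ∧ Module.finrank R (S.X i) = r i) →
        Nonempty (DRing.toD S ≅ K) → ∀ i j x, (1 : R ⧸ m) ⊗ₜ[R] (S.d i j x) = 0 := by
      intro S hb hS hr hK' i j x
      by_cases hij : i + 1 = j
      swap
      · rw [S.shape i j hij]
        exact TensorProduct.tmul_zero _ _
      subst hij
      obtain ⟨H', -, -, -, -, hH'⟩ := hrep S hb hS hK'
      obtain ⟨-, hr', π, hπ⟩ := hH' i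
      have hfin : Module.Finite (R ⧸ m) (((ext mk').obj S).X i) := (ext_fproj mk' _ (hS i)).1
      have := (hr i).1
      have := (hS i).1
      let d' := (((ext mk').obj S).d i (i + 1)).hom
      have hdim : Module.finrank (R ⧸ m) (((ext mk').obj S).X i) = Module.finrank R (S.X i) :=
        Module.finrank_baseChange (R := R ⧸ m) (S := R) (M' := S.X i)
      have htop : LinearMap.ker d' = ⊤ := by
        letI := Ideal.Quotient.field m
        have : Module.Finite (R ⧸ m) (LinearMap.ker d') := Module.Finite.of_fg (IsNoetherian.noetherian _)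
        refine Submodule.eq_top_of_finrank_eq (le_antisymm (Submodule.finrank_le _) ?_)
        rw [hdim, (hr i).2, hr']
        exact LinearMap.finrank_le_finrank_of_surjective hπ
      exact LinearMap.ext_iff.1 (LinearMap.ker_eq_top.1 htop) ((1 : R ⧸ m) ⊗ₜ[R] x)
    have hdP := hmin P hPb hPf (fun i => ⟨(hP i).1, (hP i).2.2⟩) hPK
    have hdP' := hmin P' hP'b hP'f (fun i => ⟨(hP' i).1, (hP' i).2.2⟩) hP'K
    obtain ⟨b₁, hb₁⟩ := hPb
    obtain ⟨b₂, hb₂⟩ := hP'b
    obtain ⟨e₁⟩ := hPK
    obtain ⟨e₂⟩ := hP'K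
    have := isKProjective_of_bounds (fun M h => projective_of_fproj M h) hb₁ hPf
    have := isKProjective_of_bounds (fun M h => projective_of_fproj M h) hb₂ hP'f
    obtain ⟨u, hu⟩ := exists_Q_map_eq (e₁ ≪≫ e₂.symm).hom
    obtain ⟨v, hv⟩ := exists_Q_map_eq (e₁ ≪≫ e₂.symm).inv
    have key : ∀ (S : DRing.Cx R) [CochainComplex.IsKProjective S] (w : S ⟶ S),
        (∀ i, fproj R (S.X i)) → (∀ i j x, (1 : R ⧸ m) ⊗ₜ[R] (S.d i j x) = 0) →
        DerivedCategory.Q.map w = 𝟙 _ → ∀ i, Function.Bijective (w.f i) := by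
      intro S _ w hS hd hw i
      obtain ⟨h⟩ := nonempty_homotopy_of_Q_map_eq (φ := w) (ψ := 𝟙 S) (hw.trans (CategoryTheory.Functor.map_id _ _).symm)
      have := (hS i).1
      have hker : ∀ y, (1 : R ⧸ m) ⊗ₜ[R] y = 0 → y ∈ m • (⊤ : Submodule R (S.X i)) := fun y hy =>
        (Lib.Henselian.Projective.one_tmul_eq_zero_iff m y).1 hy
      have hw' : ∀ x, (1 : R ⧸ m) ⊗ₜ[R] (w.f i x) = (1 : R ⧸ m) ⊗ₜ[R] x := fun x => by
        have hx := congrArg (fun f : S.X i ⟶ S.X i => f x) (h.comm i)
        rw [dNext_eq h.hom (show (ComplexShape.up ℤ).Rel i (i + 1) from rfl),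
          prevD_eq h.hom (show (ComplexShape.up ℤ).Rel (i - 1) i from sub_add_cancel i 1)] at hx
        simp only [HomologicalComplex.id_f, ModuleCat.hom_add, LinearMap.add_apply, ModuleCat.hom_comp,
          LinearMap.comp_apply, ModuleCat.hom_id, LinearMap.id_apply] at hx
        have hI : ∀ y, S.d i (i + 1) y ∈ m • (⊤ : Submodule R (S.X (i + 1))) := fun y =>
          (Lib.Henselian.Projective.one_tmul_eq_zero_iff m _).1 (hd i (i + 1) y)
        rw [hx, TensorProduct.tmul_add, TensorProduct.tmul_add, hd,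
          (Lib.Henselian.Projective.one_tmul_eq_zero_iff m _).2
            (Submodule.smul_top_le_comap_smul_top m (h.hom (i + 1) i).hom (hI x)), zero_add, zero_add]
      have hsurj := Lib.Henselian.Projective.surjective_of_one_tmul_eq m
        (IsLocalRing.maximalIdeal_le_jacobson ⊥) (w.f i).hom hw'
      exact ⟨OrzechProperty.injective_of_surjective_endomorphism _ hsurj, hsurj⟩
    have hwv := key P (u ≫ v) hPf hdP (by rw [Functor.map_comp, hu, hv, Iso.hom_inv_id])
    have hvw := key P' (v ≫ u) hP'f hdP' (by rw [Functor.map_comp, hu, hv, Iso.inv_hom_id])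
    have : ∀ i, IsIso (u.f i) := fun i => (ConcreteCategory.isIso_iff_bijective _).2
      ⟨Function.Injective.of_comp (f := v.f i) (hwv i).1, Function.Surjective.of_comp (g := v.f i) (hvw i).2⟩
    exact ⟨HomologicalComplex.Hom.isoOfComponents (fun i => asIso (u.f i)) fun i j _ => u.comm i j⟩

end Groth.Agent.S6972
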