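import Groth.Statements.S6973
import Groth.Agent.Lib.DR.Lift
import Groth.Agent.Lib.Henselian.Projective

set_option autoImplicit false
universe u
open CategoryTheory CategoryTheory.Limits
attribute [local instance] HasDerivedCategory.standard
open DRing

open Groth.Agent.Lib.DR.Basic Groth.Agent.Lib.DR.FiniteComplex Groth.Agent.Lib.DR.PseudoCoherent Groth.Agent.Lib.DR.TopCohomology
open CategoryTheory CategoryTheory.Limits CategoryTheory.Pretriangulated ZeroObject
open Groth.Agent.Lib.DR Groth.Agent.Lib.DR.Representative Groth.Agent.Lib.DR.BaseChange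

namespace Groth.Agent.S6973

theorem fp_right {R : Type u} [CommRing R] {M N : ModuleCat.{u} R}
    (h : fproj R (ModuleCat.of R (M × N))) : fproj R N := by
  have : Module.Finite R (M × N) := h.1
  have : Module.Projective R (M × N) := h.2
  exact ⟨Module.Finite.of_surjective (LinearMap.snd R M N) LinearMap.snd_surjective,
    Module.Projective.of_split (LinearMap.inr R M N) (LinearMap.snd R M N) (LinearMap.ext fun _ => rfl)⟩

theorem fp_prod {R : Type u} [CommRing R] {M N : ModuleCat.{u} R} (hM : fproj R M) (h : fproj R N) :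
    fproj R (ModuleCat.of R (M × N)) := by
  obtain ⟨_, _⟩ := hM
  obtain ⟨_, _⟩ := h
  exact ⟨(inferInstance : Module.Finite R (M × N)), (inferInstance : Module.Projective R (M × N))⟩


/-- Let (R, I) be a henselian pair such that the derived base change D(R) → D(R/I) exists, K a
pseudo-coherent object of D(R), and E a bounded above cochain complex of finite projective
R/I-modules which is isomorphic in D(R/I) to K ⊗^L_R R/I. Then there is a bounded above cochain
complex P of finite projective R-modules, isomorphic to K in D(R), whose termwise reduction P ⊗_R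
R/I is isomorphic to E as a complex, and such that P^i is free for every i for which E^i is free. -/
theorem result (R : Type u) [CommRing R]
    (I : Ideal R) [HenselianRing R I] [DRing.HasLBaseChange (Ideal.Quotient.mk I)] (K : Dual.D R)
    (hK : DRing.IsPseudoCoherent' R K) (E : DRing.Cx (R ⧸ I)) (b : ℤ) (hEb : DRing.VanishesAbove E b)
    (hEp : DRing.TermwiseFiniteProjective E)
    (hE : Nonempty (DRing.toD E ≅ (DRing.LBaseChange (Ideal.Quotient.mk I)).obj K)) :
    ∃ (P : DRing.Cx R) (b' : ℤ), DRing.VanishesAbove P b' ∧ DRing.TermwiseFiniteProjective P ∧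
      Nonempty (DRing.toD P ≅ K) ∧ Nonempty ((((ModuleCat.extendScalars (Ideal.Quotient.mk I)).mapHomologicalComplex (ComplexShape.up ℤ)).obj P) ≅ E) ∧
      ∀ i : ℤ, Module.Free (R ⧸ I) (E.X i) → Module.Free R (P.X i) := by
  obtain ⟨eE⟩ := hE
  obtain ⟨Q, c, hQ, hQf, ⟨eQ⟩⟩ := hK
  have hX : ∀ i, ∃ X : ModuleCat.{u} R, fproj R X ∧ (Module.Free (R ⧸ I) (E.X i) → Module.Free R X) ∧
      Nonempty (TensorProduct R (R ⧸ I) X ≃ₗ[R ⧸ I] E.X i) := fun i => by
    have := (hEp i).1
    have := (hEp i).2
    by_cases hfree : Module.Free (R ⧸ I) (E.X i)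
    · classical
      rcases subsingleton_or_nontrivial (R ⧸ I) with hs | hnt
      · have := Module.subsingleton (R ⧸ I) (E.X i)
        have := Module.subsingleton (R ⧸ I) (TensorProduct R (R ⧸ I) PUnit.{u+1})
        exact ⟨ModuleCat.of R PUnit, ⟨inferInstance, inferInstance⟩, fun _ => inferInstance,
          ⟨LinearEquiv.ofSubsingleton _ _⟩⟩
      let ι := Module.Free.ChooseBasisIndex (R ⧸ I) (E.X i)
      exact ⟨ModuleCat.of R (ι → R), ⟨inferInstance, inferInstance⟩, fun _ => inferInstance,
        ⟨TensorProduct.piScalarRight R (R ⧸ I) (R ⧸ I) ι ≪≫ₗ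
          (Module.Free.chooseBasis (R ⧸ I) (E.X i)).equivFun.symm⟩⟩
    · obtain ⟨X, _, _, h1, h2, h3⟩ :=
        Lib.Henselian.Projective.exists_finite_projective_lift I (E.X i)
      exact ⟨ModuleCat.of R X, ⟨h1, h2⟩, fun h => absurd h hfree, h3⟩
  choose X hX hXf hXe using hX
  obtain ⟨P, b', hP, hPX, hPK, hPE⟩ := Lift.exists_lift_D I (fproj R) (fun e h => good_fproj.iso e h)
    (fun M h => h.2)
    (fun M N hM => ⟨fun h => fp_right h, fun h => fp_prod hM h⟩)
    (fun M N f _ hN h => LinearMap.range_eq_top.1 (top_le_iff.1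
      (Submodule.le_of_le_smul_of_le_jacobson_bot hN.1.fg_top HenselianRing.jac h.ge)))
    K Q c hQ (fun i => fproj_of_ff _ (hQf i)) eQ E b hEb X hX
    (fun i => (hXe i).some) eE
  exact ⟨P, b', hP, fun i => good_fproj.iso (hPX i).some.symm (hX i), hPK, hPE,
    fun i h => have := hXf i h; Module.Free.of_equiv (hPX i).some.symm.toLinearEquiv⟩

end Groth.Agent.S6973
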