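import Groth.Statements.S6974
import Groth.Agent.Lib.DR.FibreApp

set_option autoImplicit false
universe u
open CategoryTheory CategoryTheory.Limits
attribute [local instance] HasDerivedCategory.standard
open DRing

open Groth.Agent.Lib.DR.Basic Groth.Agent.Lib.DR.FiniteComplex Groth.Agent.Lib.DR.PseudoCoherent Groth.Agent.Lib.DR.TopCohomology
open CategoryTheory CategoryTheory.Limits
open Groth.Agent.Lib.DR Groth.Agent.Lib.DR.Representative Groth.Agent.Lib.DR.BaseChange Groth.Agent.Lib.DR.TorAmp

namespace Groth.Agent.S6974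

/-- Let R be a commutative ring such that the derived base change D(R) → D(R/m) exists for every ideal
m, let K be a pseudo-coherent object of D(R) and a, b integers. If for every maximal ideal m of R
the cohomology H^i(K ⊗^L_R R/m) vanishes for all i outside [a, b], then K is perfect and has tor
amplitude in [a, b]. -/
theorem result (R : Type u) [CommRing R]
    [∀ m : Ideal R, DRing.HasLBaseChange (Ideal.Quotient.mk m)] (K : Dual.D R)
    (hK : DRing.IsPseudoCoherent' R K) (a b : ℤ)
    (h : ∀ (m : Ideal R), m.IsMaximal → ∀ i : ℤ, (i < a ∨ b < i) →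
      Subsingleton (Dual.HD (R ⧸ m) ((DRing.LBaseChange (Ideal.Quotient.mk m)).obj K) i)) :
    DRing.IsPerfect R K ∧ DRing.HasTorAmplitudeIn R a b K := by
  have hB : Bdd (fproj R) a b K := FibreApp.bdd_fproj_of_mem_sup ((isPseudoCoherent'_iff_forall K).1 hK) a b
    fun E c hE hp e m hm i j k hij hjk hj =>
      FibreApp.mem_sup_of_subsingleton m E hE (fun i => flat_of_fproj _ (fproj_of_ff _ (hp i))) e i j k hij hjk
        (h m hm j hj)
  exact ⟨(Perfect.pf_iff K).2 ⟨a, b, hB⟩, (hasTorAmplitudeIn_iff a b K).2 (hB.of_le flat_of_fproj)⟩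

end Groth.Agent.S6974
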