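import Groth.Statements.S6975
import Groth.Agent.Lib.DR.FibreApp

set_option autoImplicit false
universe u
open CategoryTheory CategoryTheory.Limits
attribute [local instance] HasDerivedCategory.standard
open DRing

open Groth.Agent.Lib.DR.Basic Groth.Agent.Lib.DR.FiniteComplex Groth.Agent.Lib.DR.PseudoCoherent Groth.Agent.Lib.DR.TopCohomology
open CategoryTheory CategoryTheory.Limits
open Groth.Agent.Lib.DR Groth.Agent.Lib.DR.Representative Groth.Agent.Lib.DR.BaseChange Groth.Agent.Lib.DR.TorAmp

namespace Groth.Agent.S6975

/-- Let R be a local commutative ring with residue field κ such that the derived base change D(R) → D(κ)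
exists, and let K be a pseudo-coherent object of D(R). If there is an integer a with H^i(K ⊗^L_R κ)
= 0 for all i < a, then K is perfect. -/
theorem result (R : Type u) [CommRing R] [IsLocalRing R]
    [DRing.HasLBaseChange (IsLocalRing.residue R)] (K : Dual.D R) (hK : DRing.IsPseudoCoherent' R K) (a : ℤ)
    (h : ∀ i : ℤ, i < a → Subsingleton (Dual.HD (IsLocalRing.ResidueField R)
      ((DRing.LBaseChange (IsLocalRing.residue R)).obj K) i)) :
    DRing.IsPerfect R K := by
  have hall := (isPseudoCoherent'_iff_forall K).1 hK
  obtain ⟨c, hc⟩ := (hall 0).exists_isLE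
  let κmap : R →+* R ⧸ IsLocalRing.maximalIdeal R := Ideal.Quotient.mk _
  have : DRing.HasLBaseChange κmap := (inferInstance : DRing.HasLBaseChange (IsLocalRing.residue R))
  have hB : Bdd (fproj R) a c K := FibreApp.bdd_fproj_of_mem_sup hall a c
    fun E c' hE hp e m hm i j k hij hjk hj => by
      obtain rfl := IsLocalRing.eq_maximalIdeal hm
      refine FibreApp.mem_sup_of_subsingleton _ E hE (fun i => flat_of_fproj _ (fproj_of_ff _ (hp i))) e i j k hij hjk ?_
      rcases hj with hj | hj
      · exact h j hj
      · exact (isLE_iff_subsingleton _ c).1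
          (ba_LBaseChange κmap (fun M hM => flat_of_fproj M (fproj_of_ff M hM)) (ext_ff κmap)
            (ba_ff_of_forall hall hc)).isLE j hj
  exact (Perfect.pf_iff K).2 ⟨a, c, hB⟩

end Groth.Agent.S6975
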