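import Groth.Statements.S6976
import Groth.Agent.Lib.DR.TorAmp

set_option autoImplicit false
universe u
open CategoryTheory CategoryTheory.Limits
attribute [local instance] HasDerivedCategory.standard
open DRing

open Groth.Agent.Lib.DR.Basic Groth.Agent.Lib.DR.FiniteComplex Groth.Agent.Lib.DR.PseudoCoherent Groth.Agent.Lib.DR.TopCohomology
open CategoryTheory CategoryTheory.Limits CategoryTheory.Pretriangulated
open Groth.Agent.Lib.DR.Representative Groth.Agent.Lib.DR.BaseChange Groth.Agent.Lib.DR.TorAmp Groth.Agent.Lib.DR.Perfect Groth.Agent.Lib.DR.ProjAmp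

namespace Groth.Agent.S6976

/-- Let R be a commutative ring, K a pseudo-coherent object of D(R) and a, b integers. Then K is
isomorphic in D(R) to a complex of projective R-modules vanishing outside [a, b] if and only if K is
perfect with tor amplitude in [a, b]. -/
theorem result (R : Type u) [CommRing R]
    (K : Dual.D R) (hK : DRing.IsPseudoCoherent' R K) (a b : ℤ) :
    (∃ P : DRing.Cx R, DRing.VanishesOutside P a b ∧ (∀ i : ℤ, Module.Projective R (P.X i)) ∧
        Nonempty (DRing.toD P ≅ K)) ↔ DRing.IsPerfect R K ∧ DRing.HasTorAmplitudeIn R a b K := by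
  rw [pf_iff, hasTorAmplitudeIn_iff]
  constructor
  · intro hP
    have h : Bdd (proj R) a b K := hP
    have hf := h.of_le flat_of_proj
    exact ⟨pf_of_pcn_of_flat ((isPseudoCoherent'_iff_forall K).1 hK (a - 1)) hf, hf⟩
  · rintro ⟨h, hf⟩
    exact (bdd_fproj_of_pf h hf).of_le proj_of_fproj

end Groth.Agent.S6976
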