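import Groth.Statements.S6977
import Groth.Agent.Lib.DR.FibreGl


set_option autoImplicit false
universe u
open CategoryTheory CategoryTheory.Limits
attribute [local instance] HasDerivedCategory.standard
open DRing

open TensorProduct
open Groth.Agent.Lib.DR
open Groth.Agent.Lib.DR.Basic Groth.Agent.Lib.DR.FiniteComplex Groth.Agent.Lib.DR.PseudoCoherent
open Groth.Agent.Lib.DR.Representative Groth.Agent.Lib.DR.BaseChange Groth.Agent.Lib.DR.TorAmp

namespace Groth.Agent.S6977

/-- Let A → B be a flat local homomorphism of local commutative rings such that B/m_A B is a regular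
local ring of dimension d, and assume the derived base change D(A) → D(κ_A) to the residue field of
A exists. Let a, b be integers and K a pseudo-coherent object of D(B) such that H^i((K regarded in
D(A)) ⊗^L_A κ_A) = 0 for every i outside [a, b]. Then K is perfect as an object of D(B) and has tor
amplitude in [a - d, b] over B. -/
theorem result {A B : Type u} [CommRing A] [CommRing B] [IsLocalRing A]
    [IsLocalRing B] [Algebra A B] [IsLocalHom (algebraMap A B)] [Module.Flat A B] (d : ℕ)
    [IsRegularLocalRing (B ⧸ (IsLocalRing.maximalIdeal A).map (algebraMap A B))]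
    (hd : ringKrullDim (B ⧸ (IsLocalRing.maximalIdeal A).map (algebraMap A B)) = d)
    [DRing.HasLBaseChange (IsLocalRing.residue A)] (a b : ℤ) (K : Dual.D B) (hK : DRing.IsPseudoCoherent' B K)
    (h : ∀ i : ℤ, (i < a ∨ b < i) → Subsingleton (Dual.HD (IsLocalRing.ResidueField A)
      ((DRing.LBaseChange (IsLocalRing.residue A)).obj ((DRing.restrictD (algebraMap A B)).obj K)) i)) :
    DRing.IsPerfect B K ∧ DRing.HasTorAmplitudeIn B (a - d) b K := by
  have hall := (isPseudoCoherent'_iff_forall K).1 hK
  have : DRing.HasLBaseChange (Ideal.Quotient.mk (IsLocalRing.maximalIdeal A)) :=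
    (inferInstance : DRing.HasLBaseChange (IsLocalRing.residue A))
  let J := (IsLocalRing.maximalIdeal A).map (algebraMap A B)
  have hJ : J ≤ IsLocalRing.maximalIdeal B := Ideal.map_le_iff_le_comap.2 fun x hx =>
    map_nonunit (algebraMap A B) x hx
  have hB : Bdd (fproj B) (a - d) b K := FibreApp.bdd_fproj_of_mem_sup hall (a - d) b
    fun E c hE hp e n hn i j k hij hjk hj => by
      obtain rfl := IsLocalRing.eq_maximalIdeal hn
      refine FibreApp.mem_sup_of_exactAt _ E i j k hij hjk ?_
      rw [← Ideal.Quotient.factor_comp_mk hJ]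
      refine FibreGl.exactAt_comp_of_gl _ _ d (fun M => FibreGl.gl_of_regular d hd M) E c hE
        (fun i => (hp i).2) a b (fun l hl => ?_) j hj
      refine FibreGl.exactAt_of_mem_sup J E (l - 1) l (l + 1) (by omega) rfl fun y hy => ?_
      let R := ((ModuleCat.restrictScalars.{u} (algebraMap A B)).mapHomologicalComplex (.up ℤ)).obj E
      have h' := FibreApp.mem_sup_of_subsingleton (IsLocalRing.maximalIdeal A) R
        (K := (DRing.restrictD (algebraMap A B)).obj K)
        (fun i hi => (ModuleCat.restrictScalars.{u} (algebraMap A B)).map_isZero (hE i hi))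
        (fun i => LocalAmp.flat_restrict _ (RingHom.flat_algebraMap_iff.2 inferInstance) _
          (flat_of_fproj _ (fproj_of_ff _ (hp i))))
        (((ModuleCat.restrictScalars.{u} (algebraMap A B)).mapDerivedCategoryFactors.app E).symm ≪≫
          (DRing.restrictD (algebraMap A B)).mapIso e)
        (l - 1) l (l + 1) (by omega) rfl (h l hl) y ((FibreGl.mem_map_smul_top_iff (IsLocalRing.maximalIdeal A) (E.X (l + 1)) _).2 hy)
      obtain ⟨_, ⟨x, rfl⟩, w, hw, hxw⟩ := Submodule.mem_sup.1 h'
      exact Submodule.mem_sup.2 ⟨_, ⟨x, rfl⟩, w,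
        (FibreGl.mem_map_smul_top_iff (IsLocalRing.maximalIdeal A) (E.X l) w).1 hw, hxw⟩
  exact ⟨(isPerfect_iff K).2 ⟨_, _, hB⟩, (hasTorAmplitudeIn_iff _ _ K).2 (hB.of_le flat_of_fproj)⟩


end Groth.Agent.S6977
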