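import Groth.Statements.S6979
import Groth.Agent.Lib.DR.Nilp

set_option autoImplicit false
universe u
open CategoryTheory CategoryTheory.Limits
attribute [local instance] HasDerivedCategory.standard
open DRing

open Groth.Agent.Lib.DR.Basic Groth.Agent.Lib.DR.FiniteComplex Groth.Agent.Lib.DR.PseudoCoherent Groth.Agent.Lib.DR.TopCohomology
open CategoryTheory CategoryTheory.Limits CategoryTheory.Pretriangulated
open Groth.Agent.Lib.DR Groth.Agent.Lib.DR.Representative Groth.Agent.Lib.DR.BaseChange Groth.Agent.Lib.DR.Perfect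

namespace Groth.Agent.S6979

/-- Let R be a commutative ring and I a nilpotent ideal of R such that the derived base change D(R) →
D(R/I) exists, and let K be an object of D(R). If K ⊗^L_R R/I is a perfect object of D(R/I), then K
is a perfect object of D(R). -/
theorem result (R : Type u) [CommRing R] (I : Ideal R)
    (hI : IsNilpotent I) [DRing.HasLBaseChange (Ideal.Quotient.mk I)] (K : Dual.D R)
    (hK : DRing.IsPerfect (R ⧸ I) ((DRing.LBaseChange (Ideal.Quotient.mk I)).obj K)) :
    DRing.IsPerfect R K := by
  rw [pf_iff] at hK ⊢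
  have hker : RingHom.ker (Ideal.Quotient.mk I) = I := Ideal.mk_ker
  refine Nilp.pf_of_LBC (fun _ : Fin 1 => Ideal.Quotient.mk I) (fun _ => Ideal.Quotient.mk_surjective)
    (Nilp.devisses_nilpotent _ (by rwa [hker])) (fun M _ _ hM => ?_) K (fun _ => hK)
  obtain ⟨n, hn⟩ := hI
  have hM0 : I • (⊤ : Submodule R M) = ⊤ := by
    have := hM 0
    rwa [hker] at this
  have hk : ∀ k, I ^ k • (⊤ : Submodule R M) = ⊤ := fun k => by
    induction k with
    | zero => rw [pow_zero, Ideal.one_eq_top, Submodule.top_smul]
    | succ k ih => rw [pow_succ, Submodule.mul_smul, hM0, ih]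
  have h0 := hk n
  rw [hn, Submodule.zero_eq_bot, Submodule.bot_smul] at h0
  exact (Submodule.subsingleton_iff R).1 (subsingleton_of_bot_eq_top h0)

end Groth.Agent.S6979
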