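import Groth.Statements.S6980
import Groth.Agent.Lib.DR.Nilp
import Mathlib.RingTheory.Ideal.Quotient.PowTransition

set_option autoImplicit false
universe u
open CategoryTheory CategoryTheory.Limits
attribute [local instance] HasDerivedCategory.standard
open DRing

open Groth.Agent.Lib.DR.Basic Groth.Agent.Lib.DR.FiniteComplex Groth.Agent.Lib.DR.PseudoCoherent Groth.Agent.Lib.DR.TopCohomology
open CategoryTheory CategoryTheory.Limits CategoryTheory.Pretriangulated
open Groth.Agent.Lib.DR Groth.Agent.Lib.DR.Representative Groth.Agent.Lib.DR.BaseChange Groth.Agent.Lib.DR.Perfect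

namespace Groth.Agent.S6980

theorem pf_comp {A B C : Type u} [CommRing A] [CommRing B] [CommRing C] (φ : A →+* B) (ψ : B →+* C)
    (χ : A →+* C) (h : ψ.comp φ = χ) [DRing.HasLBaseChange φ] (hψ : DRing.HasLBaseChange ψ)
    [DRing.HasLBaseChange χ] (K : Dual.D A) (hK : Pf ((DRing.LBaseChange χ).obj K)) :
    Pf ((DRing.LBaseChange ψ).obj ((DRing.LBaseChange φ).obj K)) := by
  subst h
  obtain ⟨e⟩ := BaseChangeU.nonempty_LBaseChange_comp φ ψ K
  exact hK.of_iso e.symm


/-- Let R be a commutative ring, I and J ideals of R such that the derived base changes D(R) → D(R/I),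
D(R/J), D(R/IJ) exist, and K an object of D(R). If K ⊗^L_R R/I is perfect in D(R/I) and K ⊗^L_R R/J
is perfect in D(R/J), then K ⊗^L_R R/IJ is perfect in D(R/IJ). -/
theorem result (R : Type u) [CommRing R] (I J : Ideal R)
    [DRing.HasLBaseChange (Ideal.Quotient.mk I)] [DRing.HasLBaseChange (Ideal.Quotient.mk J)]
    [DRing.HasLBaseChange (Ideal.Quotient.mk (I * J))] (K : Dual.D R)
    (hI : DRing.IsPerfect (R ⧸ I) ((DRing.LBaseChange (Ideal.Quotient.mk I)).obj K))
    (hJ : DRing.IsPerfect (R ⧸ J) ((DRing.LBaseChange (Ideal.Quotient.mk J)).obj K)) :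
    DRing.IsPerfect (R ⧸ (I * J)) ((DRing.LBaseChange (Ideal.Quotient.mk (I * J))).obj K) := by
  rw [pf_iff] at hI hJ ⊢
  have hle : ∀ s : Fin 2, I * J ≤ ![I, J] s := Fin.forall_fin_two.2 ⟨Ideal.mul_le_left, Ideal.mul_le_right⟩
  let φ := fun s => Ideal.Quotient.factor (hle s)
  have : ∀ s, DRing.HasLBaseChange (φ s) := fun s => BaseChangeU.hasLBaseChange (φ s)
  let mk' := Ideal.Quotient.mk (I * J)
  have hker : ∀ s, RingHom.ker (φ s) = (![I, J] s).map mk' := fun s => by
    exact Ideal.Quotient.factor_ker (hle s)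
  have hmul : I.map mk' * J.map mk' = ⊥ := by rw [← Ideal.map_mul, Ideal.map_quotient_self]
  refine Nilp.pf_of_LBC φ (fun s => Ideal.Quotient.factor_surjective (hle s)) ?_ (fun M _ _ hM => ?_) _ ?_
  · rw [show (fun s => RingHom.ker (φ s)) = ![I.map mk', J.map mk'] from
      funext (Fin.forall_fin_two.2 ⟨hker 0, hker 1⟩)]
    exact Nilp.devisses_mul _ _ hmul
  · have hI1 : I.map mk' • (⊤ : Submodule (R ⧸ I * J) M) = ⊤ := by
      have := hM 0
      rwa [hker 0] at this
    have hJ1 : J.map mk' • (⊤ : Submodule (R ⧸ I * J) M) = ⊤ := by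
      have := hM 1
      rwa [hker 1] at this
    have h0 : (I.map mk' * J.map mk') • (⊤ : Submodule (R ⧸ I * J) M) = ⊤ := by rw [Submodule.mul_smul, hJ1, hI1]
    rw [hmul, Submodule.bot_smul] at h0
    exact (Submodule.subsingleton_iff (R ⧸ I * J)).1 (subsingleton_of_bot_eq_top h0)
  · refine Fin.forall_fin_two.2 ⟨?_, ?_⟩
    · exact pf_comp (C := R ⧸ I) mk' (φ 0) (Ideal.Quotient.mk I) (Ideal.Quotient.factor_comp_mk (hle 0)) (this 0) K hI
    · exact pf_comp (C := R ⧸ J) mk' (φ 1) (Ideal.Quotient.mk J) (Ideal.Quotient.factor_comp_mk (hle 1)) (this 1) K hJ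

end Groth.Agent.S6980
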