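import Groth.Statements.S6982
import Groth.Agent.Lib.DR.PolyEval

set_option autoImplicit false
universe u
open CategoryTheory CategoryTheory.Limits
attribute [local instance] HasDerivedCategory.standard
open DRing

open Groth.Agent.Lib.DR

namespace Groth.Agent.S6982

/-- Let R be a commutative ring, K an object of D(R) and φ : R[x] → R the R-algebra homomorphism sending
x to 0; assume the derived base change D(R[x]) → D(R) along φ exists. Then the derived base change
along φ of K (regarded as an object of D(R[x]) via φ) is isomorphic in D(R) to K ⊕ K[1]. -/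
theorem result (R : Type u) [CommRing R]
    [DRing.HasLBaseChange (Polynomial.evalRingHom (0 : R))] (K : Dual.D R)
    [HasBinaryBiproduct K ((shiftFunctor (Dual.D R) (1 : ℤ)).obj K)] :
    Nonempty ((DRing.LBaseChange (Polynomial.evalRingHom (0 : R))).obj
        ((DRing.restrictD (Polynomial.evalRingHom (0 : R))).obj K) ≅
      K ⊞ (shiftFunctor (Dual.D R) (1 : ℤ)).obj K) := by
  let C₀ := DerivedCategory.Q.objPreimage K
  let P := (KProjRes.res R).obj C₀
  have : IsIso (DerivedCategory.Q.map ((KProjRes.aug R).app C₀)) :=
    Localization.inverts DerivedCategory.Q (HomologicalComplex.quasiIso _ _) _ (KProjRes.quasiIso_aug R C₀)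
  let e : DerivedCategory.Q.obj P ≅ K :=
    asIso (DerivedCategory.Q.map ((KProjRes.aug R).app C₀)) ≪≫ DerivedCategory.Q.objObjPreimageIso K
  obtain ⟨i⟩ := PolyEval.nonempty_iso P
  exact ⟨((DRing.restrictD (Polynomial.evalRingHom (0 : R))) ⋙ DRing.LBaseChange (Polynomial.evalRingHom (0 : R))).mapIso e.symm ≪≫
    i ≪≫ biprod.mapIso e ((shiftFunctor (Dual.D R) (1 : ℤ)).mapIso e)⟩


end Groth.Agent.S6982
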