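import Groth.Statements.S6988
import Groth.Agent.Lib.DR.ToSingle

set_option autoImplicit false
universe u
open CategoryTheory CategoryTheory.Limits
attribute [local instance] HasDerivedCategory.standard
open DRing

open Groth.Agent.Lib Groth.Agent.Lib.DR

namespace Groth.Agent.S6988

/-- Let R be a commutative ring, K a pseudo-coherent object of D(R) and i an integer. Then some finitely
presented R-module M admits a morphism K → M[-i] in D(R) that is injective on H^i (here H^i(M[-i]) =
M). -/
theorem result (R : Type u) [CommRing R] (K : Dual.D R)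
    (hK : DRing.IsPseudoCoherent' R K) (i : ℤ) :
    ∃ (M : Type u) (_ : AddCommGroup M) (_ : Module R M) (_ : Module.FinitePresentation R M)
      (f : K ⟶ (shiftFunctor (Dual.D R) (-i)).obj (Dual.inD R M)),
      Mono ((DerivedCategory.homologyFunctor (ModuleCat.{u} R) i).map f) := by

  obtain ⟨E, b, hb, hf, ⟨e⟩⟩ := hK
  let P := LinearMap.range (E.d (i - 1) i).hom
  have := (hf i).1
  have := (hf i).2
  have := (hf (i - 1)).1
  have := Module.finitePresentation_of_projective R (E.X i)
  have hN : Module.FinitePresentation R (E.X i ⧸ P) :=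
    Module.finitePresentation_of_surjective P.mkQ (Submodule.mkQ_surjective P) (by
      rw [Submodule.ker_mkQ]; exact Module.Finite.iff_fg.1 inferInstance)
  obtain ⟨f, ε, h⟩ := ToSingle.exists_hom E e i (E.X i ⧸ P) P.mkQ
    (fun y => (Submodule.Quotient.mk_eq_zero P).2 ⟨y, rfl⟩)
  refine ⟨_, inferInstance, inferInstance, hN, f, ?_⟩
  rw [ModuleCat.mono_iff_injective, injective_iff_map_eq_zero]
  intro x hx
  obtain ⟨z, hz⟩ := RGamma.cls_surjective E i (ε x)
  have hx' : x = ε.symm (RGamma.cls E i z) := by rw [hz, LinearEquiv.symm_apply_apply]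
  rw [hx'] at hx ⊢
  obtain ⟨y, hy⟩ := (Submodule.Quotient.mk_eq_zero P).1 ((h z).1 hx)
  rw [(RGamma.cls_eq_zero_iff E i z).2 ⟨y, hy⟩, map_zero]


end Groth.Agent.S6988
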