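import Groth.Statements.S6989
import Groth.Agent.Lib.DR.ToSingle
import Groth.Agent.Lib.DR.Coherent

set_option autoImplicit false
universe u
open CategoryTheory CategoryTheory.Limits
attribute [local instance] HasDerivedCategory.standard
open DRing

open Groth.Agent.Lib Groth.Agent.Lib.DR

namespace Groth.Agent.S6989

/-- Let A be a Noetherian commutative ring, K an object of D(A) whose cohomology vanishes in large
degrees and whose cohomology modules are all finitely generated, m a maximal ideal of A and i an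
integer such that m H^i(K) ≠ H^i(K). Then some finitely generated A-module E killed by a power of m
receives a morphism K → E[-i] in D(A) whose induced map H^i(K) → H^i(E[-i]) is nonzero. -/
theorem result (A : Type u) [CommRing A]
    [IsNoetherianRing A] (K : Dual.D A) (hb : ∃ b : ℤ, ∀ j : ℤ, b < j → Subsingleton (Dual.HD A K j))
    (hfin : ∀ j : ℤ, Module.Finite A (Dual.HD A K j)) (m : Ideal A) [m.IsMaximal] (i : ℤ)
    (hi : m • (⊤ : Submodule A (Dual.HD A K i)) ≠ ⊤) :
    ∃ (E : Type u) (_ : AddCommGroup E) (_ : Module A E) (_ : Module.Finite A E) (n : ℕ)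
      (_ : m ^ n • (⊤ : Submodule A E) = ⊥) (f : K ⟶ (shiftFunctor (Dual.D A) (-i)).obj (Dual.inD A E)),
      (DerivedCategory.homologyFunctor (ModuleCat.{u} A) i).map f ≠ 0 := by

  obtain ⟨b, hb⟩ := hb
  have hle : K.IsLE b := (DerivedCategory.isLE_iff K b).2 fun j hj =>
    have := hb j hj
    ModuleCat.isZero_of_subsingleton _
  have hpc : ∀ n, FiniteComplex.PCn (PseudoCoherent.ff A) n K := fun n =>
    Coherent.pcn_of_finitePresentation_homology Coherent.isCoh_of_isNoetherianRing hle (hfin n) fun j _ =>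
      have := hfin j
      Module.finitePresentation_of_finite _ _
  obtain ⟨E, hE, hp, ⟨e⟩⟩ := Representative.ba_ff_of_forall hpc hle
  have := (hp i).1
  let B := LinearMap.range (E.d (i - 1) i).hom
  let N := E.X i ⧸ B
  let Z : Submodule A N := (LinearMap.ker (E.d i (i + 1)).hom).map B.mkQ
  obtain ⟨k, hk⟩ := m.exists_pow_inf_eq_pow_smul Z
  let P : Submodule A N := m ^ (k + 1) • ⊤
  obtain ⟨f, ε, h⟩ := ToSingle.exists_hom E e i (N ⧸ P) (P.mkQ ∘ₗ B.mkQ)
    (fun y => by
      show P.mkQ (B.mkQ ((E.d (i - 1) i).hom y)) = 0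
      rw [show B.mkQ ((E.d (i - 1) i).hom y) = 0 from (Submodule.Quotient.mk_eq_zero B).2 ⟨y, rfl⟩, map_zero])
  refine ⟨N ⧸ P, inferInstance, inferInstance, inferInstance, k + 1, ?_, f, fun h0 => hi (eq_top_iff.2 fun x _ => ?_)⟩
  · rw [eq_bot_iff, Submodule.smul_le]
    rintro r hr q -
    obtain ⟨q, rfl⟩ := Submodule.Quotient.mk_surjective _ q
    exact (Submodule.mem_bot A).2 ((Submodule.Quotient.mk_eq_zero P).2 (Submodule.smul_mem_smul hr Submodule.mem_top))
  · obtain ⟨z, hz⟩ := RGamma.cls_surjective E i (ε x)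
    have h1 : B.mkQ z.1 ∈ P := (Submodule.Quotient.mk_eq_zero P).1 ((h z).1 (by rw [h0]; rfl))
    have h2 : B.mkQ z.1 ∈ m ^ (k + 1) • ⊤ ⊓ Z := ⟨h1, Submodule.mem_map_of_mem z.2⟩
    rw [hk (k + 1) (by omega), Nat.add_sub_cancel_left, pow_one] at h2
    replace h2 : B.mkQ z.1 ∈ m • Z := Submodule.smul_mono le_rfl inf_le_right h2
    let κ : RGamma.Cyc E i →ₗ[A] N := B.mkQ ∘ₗ (LinearMap.ker (E.d i (i + 1)).hom).subtype
    have h3 : m • Z = (m • (⊤ : Submodule A (RGamma.Cyc E i))).map κ := by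
      rw [Submodule.map_smul'', Submodule.map_top, LinearMap.range_comp, Submodule.range_subtype]
    rw [h3] at h2
    obtain ⟨w, hw, hwz⟩ := h2
    have h4 : RGamma.cls E i z = RGamma.cls E i w := by
      obtain ⟨y, hy⟩ := (Submodule.Quotient.eq B).1 hwz
      refine sub_eq_zero.1 ((map_sub (RGamma.cls E i) z w).symm.trans ?_)
      refine (RGamma.cls_eq_zero_iff E i _).2 ⟨-y, ?_⟩
      rw [map_neg, hy]
      exact neg_sub _ _
    have h5 : x ∈ (m • (⊤ : Submodule A (RGamma.Cyc E i))).map (ε.symm.toLinearMap ∘ₗ RGamma.cls E i) :=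
      ⟨w, hw, by show ε.symm (RGamma.cls E i w) = x; rw [← h4, hz, LinearEquiv.symm_apply_apply]⟩
    rw [Submodule.map_smul''] at h5
    exact Submodule.smul_mono le_rfl le_top h5


end Groth.Agent.S6989
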