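import Groth.Statements.S6990
import Groth.Agent.Lib.DR.ProjAmp

set_option autoImplicit false
universe u
open CategoryTheory CategoryTheory.Limits
attribute [local instance] HasDerivedCategory.standard
open DRing

open Groth.Agent.Lib.DR.Basic Groth.Agent.Lib.DR.FiniteComplex Groth.Agent.Lib.DR.PseudoCoherent Groth.Agent.Lib.DR.TopCohomology
open CategoryTheory CategoryTheory.Limits CategoryTheory.Pretriangulated Groth.Agent.Lib.DR.Representative Groth.Agent.Lib.DR.ProjAmp Groth.Agent.Lib.DR.Amplitude

namespace Groth.Agent.S6990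

open CategoryTheory.Pretriangulated in
/-- Let R be a commutative ring, a, b integers, L an object of D(R) isomorphic to a complex of
projective R-modules vanishing outside [a, b], and K an object of D(R). (1) If H^i(K) = 0 for all i
≥ a, then every morphism L → K in D(R) is zero. (2) If H^i(K) = 0 for all i ≥ a + 1, then for every
distinguished triangle K → M → L → K[1] there is an isomorphism M ≅ K ⊕ L carrying K → M to the
first inclusion and whose composite with the second projection is M → L. -/
theorem result (R : Type u) [CommRing R] (a b : ℤ)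
    (L : Dual.D R) (hL : ∃ P : DRing.Cx R, DRing.VanishesOutside P a b ∧ (∀ i : ℤ, Module.Projective R (P.X i)) ∧
      Nonempty (DRing.toD P ≅ L)) (K : Dual.D R) :
    ((∀ i : ℤ, a ≤ i → Subsingleton (Dual.HD R K i)) → Subsingleton (L ⟶ K)) ∧
      ((∀ i : ℤ, a + 1 ≤ i → Subsingleton (Dual.HD R K i)) → ∀ (T : Triangle (Dual.D R)), T ∈ distinguishedTriangles →
        T.obj₁ = K → T.obj₃ = L → ∀ [HasBinaryBiproduct T.obj₁ T.obj₃],
          ∃ e : T.obj₂ ≅ T.obj₁ ⊞ T.obj₃, T.mor₁ ≫ e.hom = biprod.inl ∧ e.hom ≫ biprod.snd = T.mor₂) := by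
  obtain ⟨P, hP, hPp, ⟨e⟩⟩ := hL
  have := isKProjective_of_bounds (P := proj R) projective_of_proj (fun i hi => hP i (Or.inr hi)) hPp
  have key : ∀ X : Dual.D R, DerivedCategory.IsLE X (a - 1) → ∀ f : L ⟶ X, f = 0 := fun X hX f => by
    rw [← cancel_epi e.hom, comp_zero]
    exact hom_eq_zero_of_isKProjective (fun i hi => hP i (Or.inl hi)) hX _
  refine ⟨fun h => subsingleton_of_forall_eq 0
    (key K ((isLE_iff_subsingleton K (a - 1)).2 fun i hi => h i (by lia))), fun h T hT h1 h3 => ?_⟩
  subst h1 h3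
  intro _
  have hK : DerivedCategory.IsLE T.obj₁ a := (isLE_iff_subsingleton T.obj₁ a).2 fun i hi => h i (by lia)
  obtain ⟨e', he₁, he₂⟩ := exists_iso_binaryBiproduct_of_distTriang T hT
    (key _ ((isLE_shift_iff' T.obj₁ 1 a (a - 1) (by lia)).2 hK) T.mor₃)
  exact ⟨e', he₁, he₂.symm⟩

end Groth.Agent.S6990
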