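import Groth.Statements.S6991
import Groth.Agent.H54.RelPCApp
-- import your own Groth.Agent.* helpers here

set_option autoImplicit false
universe u
open CAlg

namespace Groth.Agent.S6991

/-- Let R → A be a finite type homomorphism of commutative rings, M an A-module, and α : R[x_1, ...,
x_n] → A, β : R[y_1, ..., y_k] → A surjective R-algebra homomorphisms. Then M is finitely presented
as an R[x_1, ..., x_n]-module through α if and only if M is finitely presented as an R[y_1, ...,
y_k]-module through β. If this holds, M is a finitely presented A-module. -/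
theorem result {R A : Type u} [CommRing R] [CommRing A] [Algebra R A]
    [Algebra.FiniteType R A] (M : Type u) [AddCommGroup M] [Module A M] {n k : ℕ}
    (α : MvPolynomial (Fin n) R →ₐ[R] A) (hα : Function.Surjective α)
    (β : MvPolynomial (Fin k) R →ₐ[R] A) (hβ : Function.Surjective β) :
    (@Module.FinitePresentation (MvPolynomial (Fin n) R) M _ _ (Module.compHom M α.toRingHom) ↔
      @Module.FinitePresentation (MvPolynomial (Fin k) R) M _ _ (Module.compHom M β.toRingHom)) ∧
      (@Module.FinitePresentation (MvPolynomial (Fin n) R) M _ _ (Module.compHom M α.toRingHom) →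
        Module.FinitePresentation A M) := by
  refine ⟨((Groth.Agent.H54.RelPCApp.relModule_zero_iff α hα M).2).symm.trans
    (Groth.Agent.H54.RelPCApp.relModule_zero_iff β hβ M).2, fun h => ?_⟩
  let _ : Algebra (MvPolynomial (Fin n) R) A := α.toRingHom.toAlgebra
  let _ : Module (MvPolynomial (Fin n) R) M := Module.compHom M α.toRingHom
  have : IsScalarTower (MvPolynomial (Fin n) R) A M := IsScalarTower.of_algebraMap_smul fun _ _ => rfl
  have : Module.FinitePresentation (MvPolynomial (Fin n) R) M := h
  have : Module.Finite A M := Module.Finite.of_restrictScalars_finite (MvPolynomial (Fin n) R) A M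
  obtain ⟨k, f, hf⟩ := Module.Finite.exists_fin' A M
  refine Module.finitePresentation_of_surjective f hf ?_
  let π : (Fin k → MvPolynomial (Fin n) R) →ₗ[MvPolynomial (Fin n) R] (Fin k → A) :=
    LinearMap.compLeft (Algebra.linearMap _ A) (Fin k)
  have hπ : Function.Surjective π := fun v => ⟨fun i => (hα (v i)).choose, funext fun i => (hα (v i)).choose_spec⟩
  have h1 := Module.FinitePresentation.fg_ker ((f.restrictScalars (MvPolynomial (Fin n) R)) ∘ₗ π)
    (hf.comp hπ)
  have h2 := h1.map π
  rw [LinearMap.ker_comp, Submodule.map_comap_eq_of_surjective hπ] at h2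
  exact Submodule.FG.of_restrictScalars (MvPolynomial (Fin n) R) h2

end Groth.Agent.S6991
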