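import Groth.Statements.S6992
import Groth.Agent.H54.RelPCApp
-- import your own Groth.Agent.* helpers here

set_option autoImplicit false
universe u
open CAlg

namespace Groth.Agent.S6992

/-- Let R be a commutative ring, A → B a finite homomorphism of finite type R-algebras, M a B-module,
and α : R[x_1, ..., x_n] → A, β : R[y_1, ..., y_k] → B surjective R-algebra homomorphisms. Then M is
finitely presented as an R[x_1, ..., x_n]-module through α and A → B (M is finitely presented
relative to R as an A-module) if and only if M is finitely presented as an R[y_1, ..., y_k]-module
through β (M is finitely presented relative to R as a B-module). -/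
theorem result {R A B : Type u} [CommRing R] [CommRing A] [CommRing B]
    [Algebra R A] [Algebra A B] [Algebra R B] [IsScalarTower R A B] [Algebra.FiniteType R A]
    [Algebra.FiniteType R B] [Module.Finite A B] (M : Type u) [AddCommGroup M] [Module B M] [Module A M]
    [IsScalarTower A B M] {n k : ℕ} (α : MvPolynomial (Fin n) R →ₐ[R] A) (hα : Function.Surjective α)
    (β : MvPolynomial (Fin k) R →ₐ[R] B) (hβ : Function.Surjective β) :
    @Module.FinitePresentation (MvPolynomial (Fin n) R) M _ _ (Module.compHom M α.toRingHom) ↔
      @Module.FinitePresentation (MvPolynomial (Fin k) R) M _ _ (Module.compHom M β.toRingHom) := by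
  exact Groth.Agent.H54.RelPCApp.fp_finite_iff M α hα β hβ

end Groth.Agent.S6992
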