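import Groth.Statements.S6995
import Groth.Agent.Lib.DR.GapSplit

set_option autoImplicit false
universe u
open CategoryTheory CategoryTheory.Limits
attribute [local instance] HasDerivedCategory.standard
open DRing

open Groth.Agent.Lib.DR

namespace Groth.Agent.S6995

/-- Let R be a Noetherian regular commutative ring of finite Krull dimension d ≥ 1, K a perfect object
of D(R) and k an integer such that H^i(K) = 0 for every i with k - d + 2 ≤ i ≤ k. Then K splits in
D(R) as the direct sum of its canonical truncations: there is an isomorphism K ≅ τ_(≤ k-d+1) K ⊕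
τ_(≥ k+1) K under which the truncation map τ_(≤ k-d+1) K → K becomes the first inclusion and K →
τ_(≥ k+1) K the second projection. -/
theorem result (R : Type u) [CommRing R] [IsNoetherianRing R]
    (hreg : ∀ p : PrimeSpectrum R, IsRegularLocalRing (Localization.AtPrime p.asIdeal)) (d : ℕ) (hd1 : 1 ≤ d)
    (hd : ringKrullDim R = d) (K : Dual.D R) (hK : DRing.IsPerfect R K) (k : ℤ)
    (hgap : ∀ i : ℤ, k - d + 2 ≤ i → i ≤ k → Subsingleton (Dual.HD R K i))
    [HasBinaryBiproduct
      (((DerivedCategory.TStructure.t : Triangulated.TStructure (Dual.D R)).truncLT (k - d + 2)).obj K)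
      (((DerivedCategory.TStructure.t : Triangulated.TStructure (Dual.D R)).truncGE (k + 1)).obj K)] :
    ∃ e : K ≅
      ((DerivedCategory.TStructure.t : Triangulated.TStructure (Dual.D R)).truncLT (k - d + 2)).obj K ⊞
        ((DerivedCategory.TStructure.t : Triangulated.TStructure (Dual.D R)).truncGE (k + 1)).obj K,
      ((DerivedCategory.TStructure.t : Triangulated.TStructure (Dual.D R)).truncLTι (k - d + 2)).app K ≫ e.hom =
          biprod.inl ∧
        e.hom ≫ biprod.snd =
          ((DerivedCategory.TStructure.t : Triangulated.TStructure (Dual.D R)).truncGEπ (k + 1)).app K := by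
  obtain ⟨E, a₀, b₀, hE, hp, ⟨eK⟩⟩ := hK
  let t : Triangulated.TStructure (Dual.D R) := DerivedCategory.TStructure.t
  have hle : K.IsLE b₀ := by
    have : E.IsStrictlyLE b₀ := (CochainComplex.isStrictlyLE_iff E b₀).2 fun i hi => hE i (Or.inr hi)
    exact t.isLE_of_iso eK b₀
  have hle' : (k : ℤ) - d + 2 ≤ k + 1 := by omega
  have := SplitTrunc.isIso_natTrans_of_gap (K := K) (k - d + 2) (k + 1) hle' fun i h1 h2 => by
    have := hgap i h1 (by omega)
    exact @ModuleCat.isZero_of_subsingleton R _ ((DerivedCategory.homologyFunctor (ModuleCat R) i).obj K) (this : Subsingleton (Dual.HD R K i))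
  let j := asIso ((t.natTransTruncLTOfLE (k - d + 2) (k + 1) hle').app K)
  have h0 : t.IsLE ((t.truncLT (k - d + 2)).obj K) (k - d + 1) :=
    t.isLE_truncLT_obj K (k - d + 2) (k - d + 1) (by omega)
  have hLTle : t.IsLE ((t.truncLT (k + 1)).obj K) (k - d + 1) :=
    t.isLE_of_iso (show (t.truncLT (k - d + 2)).obj K ≅ _ from j) _
  have hL : t.IsLE ((shiftFunctor (Dual.D R) (1 : ℤ)).obj ((t.truncLT (k + 1)).obj K)) (k + 1 - d - 1) :=
    t.isLE_shift ((t.truncLT (k + 1)).obj K) (k - d + 1) 1 (k + 1 - d - 1)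
  have hge : t.IsGE ((t.truncGE (k + 1)).obj K) (k + 1) := inferInstance
  have hz : (t.truncGEδLT (k + 1)).app K = 0 := by
    refine GapSplit.hom_eq_zero_of_gl d (GapSplit.hasProjectiveDimensionLT_of_regular hreg d hd) (k + 1)
      (max b₀ (k + 1)) hge ?_ hL _
    have : t.IsLE K (max b₀ (k + 1)) := t.isLE_of_le K b₀ _ (by omega)
    exact inferInstanceAs (t.IsLE _ _)
  have : HasBinaryBiproduct ((t.truncLT (k + 1)).obj K) ((t.truncGE (k + 1)).obj K) :=
    (inferInstance : HasBinaryBiproducts (Dual.D R)).has_binary_biproduct _ _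
  obtain ⟨e, h1, h2⟩ := SplitTrunc.exists_split_of_δ hz
  refine ⟨e ≪≫ biprod.mapIso j.symm (Iso.refl _), ?_, ?_⟩
  · change _ ≫ e.hom ≫ biprod.map j.inv (𝟙 _) = _
    rw [← t.natTransTruncLTOfLE_ι_app (k - d + 2) (k + 1) hle' K, Category.assoc]
    refine (congrArg (_ ≫ ·) ((Category.assoc _ _ _).symm.trans
      ((congrArg (· ≫ biprod.map j.inv (𝟙 _)) h1).trans (biprod.inl_map _ _)))).trans ?_
    exact (Category.assoc _ _ _).symm.trans ((congrArg (· ≫ biprod.inl) j.hom_inv_id).trans (Category.id_comp _))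
  · change (e.hom ≫ biprod.map j.inv (𝟙 _)) ≫ biprod.snd = _
    rw [Category.assoc, biprod.map_snd, Category.comp_id, h2]


end Groth.Agent.S6995
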