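import Groth.Statements.S6997
import Groth.Agent.Lib.DR.RHom

set_option autoImplicit false
universe u
open CategoryTheory CategoryTheory.Limits
attribute [local instance] HasDerivedCategory.standard
open DRing

open Groth.Agent.Lib.DR.Basic Groth.Agent.Lib.DR.FiniteComplex Groth.Agent.Lib.DR.PseudoCoherent Groth.Agent.Lib.DR.TopCohomology
open CategoryTheory CategoryTheory.Limits CategoryTheory.Pretriangulated
open Groth.Agent.Lib.DR

namespace Groth.Agent.S6997

open MonoidalCategory in
/-- Let R be a commutative ring and K, L, M cochain complexes of R-modules. Then the Hom complex Hom(K,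
Hom(L, M)) is isomorphic, as a cochain complex of R-modules, to Hom(Tot(K ⊗ L), M) (existence of an
isomorphism of complexes; the canonical one is given by adjunction with signs). -/
theorem result (R : Type u) [CommRing R] (K L M : DRing.Cx R) :
    Nonempty (DRing.homCx K (DRing.homCx L M) ≅ DRing.homCx (K ⊗ L) M) := by
  exact ⟨HomCx.homCxIso K L M⟩

end Groth.Agent.S6997
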