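import Groth.Statements.S6999
import Groth.Agent.Lib.DR.ExtColim
import Groth.Agent.Lib.DR.PseudoCoherent

set_option autoImplicit false
universe u
open CategoryTheory CategoryTheory.Limits
attribute [local instance] HasDerivedCategory.standard
open DRing

open Groth.Agent.Lib.DR

namespace Groth.Agent.S6999

/-- Let R be a commutative ring, m an integer, K an m-pseudo-coherent object of D(R), and (M_j) a
diagram of R-modules over a small filtered category with colimit cocone M. Then the canonical map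
colim_j Hom(K, M_j[n]) → Hom(K, M[n]) in D(R) is bijective for n < -m and injective for n = -m.
Unfolded: for n < -m every morphism K → M[n] factors through M_j[n] → M[n] for some j; and for n ≤
-m, a morphism K → M_j[n] whose composite with M_j[n] → M[n] is zero already has zero composite with
M_j[n] → M_(j')[n] for some j → j'. -/
theorem result (R : Type u) [CommRing R] (m : ℤ) (K : Dual.D R)
    (hK : DRing.IsPseudoCoherent R m K) {J : Type u} [SmallCategory J] [IsFiltered J]
    (F : J ⥤ ModuleCat.{u} R) (c : Cocone F) (hc : IsColimit c) :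
    (∀ n : ℤ, n < -m → ∀ x : K ⟶ (shiftFunctor (Dual.D R) n).obj (Dual.inD R c.pt),
      ∃ (j : J) (y : K ⟶ (shiftFunctor (Dual.D R) n).obj (Dual.inD R (F.obj j))),
        y ≫ (shiftFunctor (Dual.D R) n).map
          ((DerivedCategory.singleFunctor (ModuleCat.{u} R) 0).map (c.ι.app j)) = x) ∧
    (∀ n : ℤ, n ≤ -m → ∀ (j : J) (y : K ⟶ (shiftFunctor (Dual.D R) n).obj (Dual.inD R (F.obj j))),
      y ≫ (shiftFunctor (Dual.D R) n).map
          ((DerivedCategory.singleFunctor (ModuleCat.{u} R) 0).map (c.ι.app j)) = 0 →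
      ∃ (j' : J) (f : j ⟶ j'), y ≫ (shiftFunctor (Dual.D R) n).map
          ((DerivedCategory.singleFunctor (ModuleCat.{u} R) 0).map (F.map f)) = 0) := by
  obtain ⟨E, a, b, α, hE, hff, Z, g, h, hd, hZ⟩ := (PseudoCoherent.isPseudoCoherent_iff m K).1 hK
  have hEp : E.IsKProjective := FiniteComplex.isKProjective_of_bounds Representative.projective_of_free'
    (fun i hi => hE i (Or.inr hi)) fun i => (hff i).2
  let t : Triangulated.TStructure (Dual.D R) := DerivedCategory.TStructure.t
  let T : ℤ → ModuleCat R → Dual.D R := fun k M =>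
    (shiftFunctor (Dual.D R) (-k)).obj ((DerivedCategory.singleFunctor (ModuleCat R) 0).obj M)
  have hT : ∀ k M, t.IsGE (T k M) k := fun k M =>
    t.isGE_shift ((DerivedCategory.singleFunctor (ModuleCat R) 0).obj M) 0 (-k) k
  have hinj : ∀ k M, m ≤ k → ∀ x : K ⟶ T k M, α ≫ x = 0 → x = 0 := fun k M hk x hx => by
    obtain ⟨y, rfl⟩ := Pretriangulated.Triangle.yoneda_exact₂ _ hd x hx
    have := hT k M
    rw [t.zero_of_isLE_of_isGE y (m - 1) k (by omega) hZ inferInstance]
    exact comp_zero
  have hsurj : ∀ k M, m < k → ∀ z : DerivedCategory.Q.obj E ⟶ T k M, ∃ x : K ⟶ T k M, α ≫ x = z := fun k M hk z => by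
    have := hT k M
    have hd' := Pretriangulated.inv_rot_of_distTriang _ hd
    have h0 : (Pretriangulated.Triangle.mk α g h).invRotate.mor₁ ≫ z = 0 :=
      t.zero_of_isLE_of_isGE _ m k hk (@Triangulated.TStructure.isLE_shift _ _ _ _ _ _ _ t Z (m - 1) (-1) m (by omega) hZ) inferInstance
    obtain ⟨x, hx⟩ := Pretriangulated.Triangle.yoneda_exact₂ _ hd' z h0
    exact ⟨x, hx.symm⟩
  constructor
  · intro n hn x
    obtain ⟨k, rfl⟩ : ∃ k, n = -k := ⟨-n, by simp⟩
    obtain ⟨j, y, hy⟩ := (ExtColim.colim_cx hc E hff k).1 (α ≫ x)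
    obtain ⟨y', hy'⟩ := hsurj k (F.obj j) (by omega) y
    refine ⟨j, y', ?_⟩
    refine sub_eq_zero.1 (hinj k c.pt (by omega) _ ?_)
    refine (Preadditive.comp_sub _ _ _).trans (sub_eq_zero.2 ?_)
    exact (Category.assoc _ _ _).symm.trans ((congrArg (· ≫ _) hy').trans hy)
  · intro n hn j y hy
    obtain ⟨k, rfl⟩ : ∃ k, n = -k := ⟨-n, by simp⟩
    obtain ⟨j', f, hf⟩ := (ExtColim.colim_cx hc E hff k).2 j (α ≫ y)
      ((Category.assoc _ _ _).trans ((congrArg (α ≫ ·) hy).trans comp_zero))
    exact ⟨j', f, hinj k (F.obj j') (by omega) _ ((Category.assoc _ _ _).symm.trans hf)⟩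


end Groth.Agent.S6999
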