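import Groth.Statements.S7001
import Groth.Agent.Lib.DR.FlatBC
import Groth.Agent.Lib.DR.Representative

set_option autoImplicit false
universe u
open CategoryTheory CategoryTheory.Limits
attribute [local instance] HasDerivedCategory.standard
open DRing

open Groth.Agent.Lib.DR.Basic Groth.Agent.Lib.DR.FiniteComplex Groth.Agent.Lib.DR.PseudoCoherent Groth.Agent.Lib.DR.TopCohomology
open Groth.Agent.Lib.DR
open scoped TensorProduct

namespace Groth.Agent.S7001

/-- Let A → B be a flat homomorphism of commutative rings, d a natural number and M an A-module of tor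
dimension at most d, in the sense that M[0] is isomorphic in D(A) to a complex of flat A-modules
vanishing outside [-d, 0]. Then (B ⊗_A M)[0] is isomorphic in D(B) to a complex of flat B-modules
vanishing outside [-d, 0]. -/
theorem result {A B : Type u} [CommRing A] [CommRing B] [Algebra A B]
    [Module.Flat A B] (d : ℕ) (M : Type u) [AddCommGroup M] [Module A M]
    (hM : DRing.HasTorAmplitudeIn A (-(d : ℤ)) 0 (Dual.inD A M)) :
    DRing.HasTorAmplitudeIn B (-(d : ℤ)) 0 (Dual.inD B (TensorProduct A B M)) := by
  exact (hasTorAmplitudeIn_iff _ _ _).2 (FlatBC.bdd_inD (BaseChange.ext_flat _) ((hasTorAmplitudeIn_iff _ _ _).1 hM))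

end Groth.Agent.S7001
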