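import Groth.Statements.S7002
import Groth.Agent.Lib.DR.FibreSplit

set_option autoImplicit false
universe u
open CategoryTheory CategoryTheory.Limits
attribute [local instance] HasDerivedCategory.standard
open DRing

open Groth.Agent.Lib.DR

namespace Groth.Agent.S7002

/-- Let R be a commutative ring, p a prime ideal of R with residue field κ(p), such that the derived
base change D(R) → D(κ(p)) exists; let i be an integer and K a cochain complex of R-modules which is
pseudo-coherent in D(R) and satisfies H^i(K ⊗^L_R κ(p)) = 0. Then there is an element f ∈ R with f ∉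
p such that, for the termwise localization K_f of K over R_f, the truncation τ_(≥ i+1) K_f is
perfect in D(R_f), its tor amplitude lying in [i+1, b] for some integer b, and K_f ≅ τ_(≥ i+1) K_f ⊕
τ_(≤ i-1) K_f in D(R_f) by an isomorphism carrying K_f → τ_(≥ i+1) K_f to the first projection and
τ_(≤ i-1) K_f → K_f to the second inclusion. -/
theorem result (R : Type u) [CommRing R]
    (p : Ideal R) [p.IsPrime] [DRing.HasLBaseChange (algebraMap R p.ResidueField)] (i : ℤ) (K : DRing.Cx R)
    (hK : DRing.IsPseudoCoherent' R (DRing.toD K))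
    (hi : Subsingleton (Dual.HD p.ResidueField ((DRing.LBaseChange (algebraMap R p.ResidueField)).obj (DRing.toD K)) i)) :
    ∃ f : R, f ∉ p ∧
      let Kf := DRing.toD (((ModuleCat.extendScalars (algebraMap R (Localization.Away f))).mapHomologicalComplex
        (ComplexShape.up ℤ)).obj K)
      let t := (DerivedCategory.TStructure.t : Triangulated.TStructure (Dual.D (Localization.Away f)))
      let Kge := (t.truncGE (i + 1)).obj Kf
      let Klt := (t.truncLT i).obj Kf
      DRing.IsPerfect (Localization.Away f) Kge ∧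
        (∃ b : ℤ, DRing.HasTorAmplitudeIn (Localization.Away f) (i + 1) b Kge) ∧
        ∀ [HasBinaryBiproduct Kge Klt], ∃ e : Kf ≅ Kge ⊞ Klt,
          e.hom ≫ biprod.fst = (t.truncGEπ (i + 1)).app Kf ∧ (t.truncLTι i).app Kf ≫ e.hom = biprod.inr := by
  obtain ⟨E, c, hE, hff, ⟨e⟩⟩ := hK
  have hflat : ∀ j, PseudoCoherent.flat R (E.X j) := fun j => BaseChange.flat_of_free _ (hff j).2
  have hex : ((BaseChange.ext (algebraMap R p.ResidueField)).obj E).ExactAt i := by
    rw [HomologicalComplex.exactAt_iff_isZero_homology]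
    exact (@ModuleCat.isZero_of_subsingleton p.ResidueField _ ((DerivedCategory.homologyFunctor _ i).obj
      ((DRing.LBaseChange (algebraMap R p.ResidueField)).obj (DRing.toD K))) hi).of_iso
      ((Basic.homologyQIso _ i).symm ≪≫ (DerivedCategory.homologyFunctor _ i).mapIso
        ((BaseChange.bcFlat (algebraMap R p.ResidueField) E c hE hflat).symm ≪≫ (DRing.LBaseChange _).mapIso e))
  obtain ⟨f, hf, hex', r, hr, hr'⟩ := FibreSplit.exists_away p (E := E) hff i hex
  refine ⟨f, hf, ?_⟩
  intro Kf t Kge Klt
  let Rf := Localization.Away f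
  have : Module.Flat R Rf := IsLocalization.flat _ (Submonoid.powers f)
  let F := BaseChange.ext (algebraMap R Rf)
  have : E.IsKProjective := FiniteComplex.isKProjective_of_bounds Representative.projective_of_free' hE fun j => (hff j).2
  obtain ⟨s, hs⟩ := Basic.exists_Q_map_eq (E := E) (K := K) e.hom
  have : IsIso (DerivedCategory.Q.map s) := by rw [hs]; exact e.isIso_hom
  have : QuasiIso s := (DerivedCategory.isIso_Q_map_iff_quasiIso _ s).1 inferInstance
  have : QuasiIso (F.map s) := inferInstance
  let eKf : DerivedCategory.Q.obj (F.obj E) ≅ Kf := asIso (DerivedCategory.Q.map (F.map s))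
  have hff' : ∀ j, Module.Finite Rf ((F.obj E).X j) ∧ Module.Free Rf ((F.obj E).X j) :=
    fun j => BaseChange.ext_ff (algebraMap R Rf) (E.X j) (hff j)
  have hp' : ∀ j, Module.Projective Rf ((F.obj E).X j) := fun j => by
    have := (hff' j).2
    infer_instance
  let P := (F.obj E).truncGE (i + 1)
  have hPp : ∀ j, Module.Projective Rf (P.X j) := SplitTrunc.projective_truncGE hp' i hr hr'
  have hPf : ∀ j, Module.Finite Rf (P.X j) := fun j => by
    rcases lt_trichotomy j (i + 1) with hj | hj | hj
    · have := ModuleCat.subsingleton_of_isZero (((F.obj E).truncGE (i + 1)).isZero_of_isStrictlyGE (i + 1) j hj)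
      show Module.Finite Rf (P.X j)
      infer_instance
    · subst hj
      have := (hff' (i + 1)).1
      exact Module.Finite.equiv (TorAmp.opcyclesIso (F.obj E) (i + 1) ≪≫
        ((F.obj E).truncGEXIsoOpcycles (i + 1)).symm).toLinearEquiv
    · have := (hff' j).1
      exact Module.Finite.equiv ((F.obj E).truncGEXIso (i + 1) j hj).toLinearEquiv.symm
  have hPv : DRing.VanishesOutside P (i + 1) (max c (i + 1)) := fun j hj => by
    rcases hj with hj | hj
    · exact ((F.obj E).truncGE (i + 1)).isZero_of_isStrictlyGE (i + 1) j hj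
    · exact ((ModuleCat.extendScalars (algebraMap R Rf)).map_isZero (hE j (by omega))).of_iso
        ((F.obj E).truncGEXIso (i + 1) j (by omega))
  obtain ⟨eP⟩ := SplitTrunc.nonempty_truncGE_iso eKf (i + 1)
  refine ⟨⟨P, i + 1, max c (i + 1), hPv, fun j => ⟨hPf j, hPp j⟩, ⟨eP⟩⟩,
    ⟨max c (i + 1), P, hPv, fun j => by have := hPp j; infer_instance, ⟨eP⟩⟩, ?_⟩
  intro _
  have hz : IsZero ((DerivedCategory.homologyFunctor (ModuleCat Rf) i).obj Kf) :=
    ((F.obj E).exactAt_iff_isZero_homology i |>.1 hex').of_iso
      ((DerivedCategory.homologyFunctor (ModuleCat Rf) i).mapIso eKf.symm ≪≫ Basic.homologyQIso _ i)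
  have := SplitTrunc.isIso_natTrans i hz
  have : HasBinaryBiproduct ((t.truncLT (i + 1)).obj Kf) ((t.truncGE (i + 1)).obj Kf) :=
    (inferInstance : HasBinaryBiproducts (Dual.D Rf)).has_binary_biproduct _ _
  have : HasBinaryBiproduct Klt Kge :=
    (inferInstance : HasBinaryBiproducts (Dual.D Rf)).has_binary_biproduct _ _
  obtain ⟨d, h1, h2⟩ := SplitTrunc.exists_split P (max c (i + 1)) hPv hPp eP
  have hle' : i ≤ i + 1 := by omega
  let j := asIso ((t.natTransTruncLTOfLE i (i + 1) hle').app Kf)
  refine ⟨d ≪≫ biprod.mapIso j.symm (Iso.refl _) ≪≫ biprod.braiding _ _, ?_, ?_⟩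
  · simp only [Iso.trans_hom, biprod.mapIso_hom, biprod.braiding_hom, Category.assoc, biprod.lift_fst,
      biprod.map_snd]
    exact (congrArg (fun q => d.hom ≫ biprod.map _ _ ≫ q) (biprod.lift_fst _ _)).trans
      ((congrArg (d.hom ≫ ·) ((biprod.map_snd _ _).trans (Category.comp_id _))).trans h2)
  · rw [← t.natTransTruncLTOfLE_ι_app i (i + 1) hle' Kf, Category.assoc]
    refine (congrArg (_ ≫ ·) ((Category.assoc _ _ _).symm.trans (congrArg (· ≫ _) h1))).trans ?_
    simp only [Iso.trans_hom, biprod.mapIso_hom, biprod.braiding_hom, biprod.inl_map_assoc]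
    show j.hom ≫ j.inv ≫ biprod.inl ≫ biprod.lift biprod.snd biprod.fst = _
    rw [Iso.hom_inv_id_assoc]
    apply biprod.hom_ext
    · exact ((Category.assoc _ _ _).trans ((congrArg (biprod.inl ≫ ·) (biprod.lift_fst _ _)).trans biprod.inl_snd)).trans
        biprod.inr_fst.symm
    · exact ((Category.assoc _ _ _).trans ((congrArg (biprod.inl ≫ ·) (biprod.lift_snd _ _)).trans biprod.inl_fst)).trans
        biprod.inr_snd.symm


end Groth.Agent.S7002
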