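import Groth.Statements.S7004
import Groth.Agent.Lib.DR.SplitTrunc

set_option autoImplicit false
universe u
open CategoryTheory CategoryTheory.Limits
attribute [local instance] HasDerivedCategory.standard
open DRing

open Groth.Agent.Lib.DR

namespace Groth.Agent.S7004

/-- Let R be a commutative ring, a an integer and K an object of D(R) whose cohomology vanishes in large
degrees, such that Hom(K, M[-a]) = 0 in D(R) for every R-module M. Then K ≅ τ_(≤ a-1) K ⊕ τ_(≥ a+1)
K by an isomorphism carrying τ_(≤ a-1) K → K to the first inclusion and K → τ_(≥ a+1) K to the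
second projection, and τ_(≥ a+1) K is isomorphic in D(R) to a complex of projective modules
vanishing outside [a+1, b] for some integer b. (The published statement also asserts that the
decomposition is unique; that part is not restated.) -/
theorem result (R : Type u) [CommRing R] (a : ℤ) (K : Dual.D R)
    (hKb : ∃ b : ℤ, ∀ i : ℤ, b < i → Subsingleton (Dual.HD R K i))
    (h : ∀ (M : Type u) [AddCommGroup M] [Module R M],
      Subsingleton (K ⟶ (shiftFunctor (Dual.D R) (-a)).obj (Dual.inD R M)))
    [HasBinaryBiproduct (((DerivedCategory.TStructure.t : Triangulated.TStructure (Dual.D R)).truncLT a).obj K) (((DerivedCategory.TStructure.t : Triangulated.TStructure (Dual.D R)).truncGE (a + 1)).obj K)] :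
    (∃ e : K ≅ ((DerivedCategory.TStructure.t : Triangulated.TStructure (Dual.D R)).truncLT a).obj K ⊞ ((DerivedCategory.TStructure.t : Triangulated.TStructure (Dual.D R)).truncGE (a + 1)).obj K,
      ((DerivedCategory.TStructure.t : Triangulated.TStructure (Dual.D R)).truncLTι a).app K ≫ e.hom = biprod.inl ∧
        e.hom ≫ biprod.snd = ((DerivedCategory.TStructure.t : Triangulated.TStructure (Dual.D R)).truncGEπ (a + 1)).app K) ∧
      ∃ (P : DRing.Cx R) (b : ℤ), DRing.VanishesOutside P (a + 1) b ∧ (∀ i : ℤ, Module.Projective R (P.X i)) ∧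
        Nonempty (DRing.toD P ≅ ((DerivedCategory.TStructure.t : Triangulated.TStructure (Dual.D R)).truncGE (a + 1)).obj K) := by
  obtain ⟨b, hb⟩ := hKb
  have hle := (PseudoCoherent.isLE_iff_subsingleton K b).2 hb
  obtain ⟨P, c, hP, hp, ⟨eP⟩⟩ := SplitTrunc.exists_proj_truncGE a b hle
    fun M M' _ _ _ _ g _ x y _ => (h M).elim x y
  have := SplitTrunc.isIso_natTrans a (SplitTrunc.isZero_homology_of_vanishing a b hle h)
  let t : Triangulated.TStructure (Dual.D R) := DerivedCategory.TStructure.t
  have : HasBinaryBiproduct ((t.truncLT (a + 1)).obj K) ((t.truncGE (a + 1)).obj K) :=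
    (inferInstance : HasBinaryBiproducts (Dual.D R)).has_binary_biproduct _ _
  obtain ⟨e, h1, h2⟩ := SplitTrunc.exists_split P c hP hp eP
  have hle' : a ≤ a + 1 := by omega
  let j := asIso ((t.natTransTruncLTOfLE a (a + 1) hle').app K)
  refine ⟨⟨e ≪≫ biprod.mapIso j.symm (Iso.refl _), ?_, ?_⟩, P, c, hP, hp, ⟨eP⟩⟩
  · change _ ≫ e.hom ≫ biprod.map j.inv (𝟙 _) = _
    rw [← t.natTransTruncLTOfLE_ι_app a (a + 1) (by omega) K, Category.assoc]
    refine (congrArg (_ ≫ ·) ((Category.assoc _ _ _).symm.trans
      ((congrArg (· ≫ biprod.map j.inv (𝟙 _)) h1).trans (biprod.inl_map _ _)))).trans ?_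
    exact (Category.assoc _ _ _).symm.trans ((congrArg (· ≫ biprod.inl) j.hom_inv_id).trans (Category.id_comp _))
  · change (e.hom ≫ biprod.map j.inv (𝟙 _)) ≫ biprod.snd = _
    rw [Category.assoc, biprod.map_snd, Category.comp_id, h2]


end Groth.Agent.S7004
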