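import Groth.Statements.S7005
import Groth.Agent.H21.RelFP

set_option autoImplicit false
universe u
open CAlg

namespace Groth.Agent.S7005

/-- Let R → A be a finite type homomorphism of commutative rings, α : R[x_1, ..., x_n] → A a surjective
R-algebra homomorphism and M an A-module which is finitely presented as an R[x_1, ..., x_n]-module
through α. Let A → A' be a ring homomorphism of finite presentation and γ : R[z_1, ..., z_k] → A' a
surjective R-algebra homomorphism. Then A' ⊗_A M is finitely presented as an R[z_1, ..., z_k]-module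
through γ. -/
theorem result {R A A' : Type u} [CommRing R] [CommRing A]
    [CommRing A'] [Algebra R A] [Algebra A A'] [Algebra R A'] [IsScalarTower R A A'] [Algebra.FiniteType R A]
    [Algebra.FinitePresentation A A'] (M : Type u) [AddCommGroup M] [Module A M] {n k : ℕ}
    (α : MvPolynomial (Fin n) R →ₐ[R] A) (hα : Function.Surjective α)
    (hM : @Module.FinitePresentation (MvPolynomial (Fin n) R) (M) _ _ (Module.compHom (M) α.toRingHom))
    (γ : MvPolynomial (Fin k) R →ₐ[R] A') (hγ : Function.Surjective γ) :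
    @Module.FinitePresentation (MvPolynomial (Fin k) R) (TensorProduct A A' M) _ _ (Module.compHom (TensorProduct A A' M) γ.toRingHom) := by
  obtain ⟨m, ψ, hψ, hker⟩ := Algebra.FinitePresentation.out (R := A) (A := A')
  let μ : MvPolynomial (Fin m) (MvPolynomial (Fin n) R) →ₐ[R] MvPolynomial (Fin m) A :=
    MvPolynomial.mapAlgHom α
  have hμ : Function.Surjective μ := MvPolynomial.map_surjective α.toRingHom hα
  have hkμ : RingHom.ker μ = (RingHom.ker α).map MvPolynomial.C := MvPolynomial.ker_mapAlgHom α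
  obtain ⟨s, hs⟩ := hker
  classical
  let J : Ideal (MvPolynomial (Fin m) (MvPolynomial (Fin n) R)) :=
    Ideal.span (↑(s.image (Function.surjInv hμ)) : Set _)
  have hJ : J.map μ = RingHom.ker ψ := by
    rw [Ideal.map_span, Finset.coe_image, Set.image_image]
    simp only [Function.surjInv_eq hμ, Set.image_id']
    exact hs
  let Φ : MvPolynomial (Fin m) (MvPolynomial (Fin n) R) →ₐ[R] A' := (ψ.restrictScalars R).comp μ
  have hΦJ : ∀ x ∈ J, Φ x = 0 := fun x hx => by
    have : μ x ∈ RingHom.ker ψ := hJ ▸ Ideal.mem_map_of_mem μ hx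
    exact this
  let π : (MvPolynomial (Fin m) (MvPolynomial (Fin n) R) ⧸ J) →ₐ[R] A' := Ideal.Quotient.liftₐ J Φ hΦJ
  have hπ : Function.Surjective π := fun y => by
    obtain ⟨a, rfl⟩ := hψ y
    obtain ⟨b, rfl⟩ := hμ a
    exact ⟨Ideal.Quotient.mk J b, Ideal.Quotient.lift_mk J _ _⟩
  have : Algebra.FinitePresentation R (MvPolynomial (Fin m) (MvPolynomial (Fin n) R)) :=
    Algebra.FinitePresentation.mvPolynomial_of_finitePresentation (Fin m)
  have : Algebra.FinitePresentation R (MvPolynomial (Fin m) (MvPolynomial (Fin n) R) ⧸ J) :=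
    Algebra.FinitePresentation.quotient ⟨s.image (Function.surjInv hμ), rfl⟩
  obtain ⟨Q, _, _, _, φ, π', hc, hs', hk⟩ : ∃ (Q : Type u) (_ : CommRing Q) (_ : Algebra R Q)
      (_ : Algebra.FinitePresentation R Q) (φ : MvPolynomial (Fin n) R →+* Q) (π' : Q →ₐ[R] A'),
      (∀ p, π' (φ p) = algebraMap A A' (α p)) ∧ Function.Surjective π' ∧
        RingHom.ker π'.toRingHom ≤ (RingHom.ker α.toRingHom).map φ := by
    refine ⟨MvPolynomial (Fin m) (MvPolynomial (Fin n) R) ⧸ J, inferInstance, inferInstance, ‹_›,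
      (Ideal.Quotient.mk J).comp MvPolynomial.C, π, fun p => ?_, hπ, ?_⟩
    · show ψ (MvPolynomial.map α.toRingHom (MvPolynomial.C p)) = algebraMap A A' (α p)
      rw [MvPolynomial.map_C]
      exact ψ.commutes _
    intro x hx
    obtain ⟨y, rfl⟩ := Ideal.Quotient.mk_surjective x
    have hy : y ∈ (J.map μ).comap μ := by
      rw [Ideal.mem_comap, hJ]
      exact hx
    rw [Ideal.comap_map_of_surjective μ hμ, ← RingHom.ker_eq_comap_bot, hkμ] at hy
    obtain ⟨u, hu, v, hv, rfl⟩ := Submodule.mem_sup.mp hy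
    rw [map_add, Ideal.Quotient.eq_zero_iff_mem.mpr hu, zero_add]
    have := Ideal.mem_map_of_mem (Ideal.Quotient.mk J) hv
    erw [Ideal.map_map] at this
    exact this
  exact (Groth.Agent.H21.RelFP.iff_pres π' hs' γ hγ _).1
    (Groth.Agent.H21.RelFP.baseChangeHom φ α.toRingHom π'.toRingHom hc hα hs' hk M hM)

end Groth.Agent.S7005
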