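import Groth.Statements.S7007
import Groth.Agent.H21.RelFP

set_option autoImplicit false
universe u
open CAlg

namespace Groth.Agent.S7007

/-- Let R → A be a finite type homomorphism of commutative rings with a surjective R-algebra
homomorphism α : R[x_1, ..., x_n] → A, M an A-module, f_1, ..., f_r elements of A generating the
unit ideal, and for each i a surjective R-algebra homomorphism γ_i : R[z_1, ..., z_(k_i)] → A_(f_i).
Then M is finitely presented as an R[x_1, ..., x_n]-module through α if and only if, for every i,
the localization M_(f_i) is finitely presented as an R[z_1, ..., z_(k_i)]-module through γ_i. -/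
theorem result {R A : Type u} [CommRing R] [CommRing A] [Algebra R A]
    {n : ℕ} (α : MvPolynomial (Fin n) R →ₐ[R] A) (hα : Function.Surjective α) (M : Type u) [AddCommGroup M]
    [Module A M] {r : ℕ} (f : Fin r → A) (hf : Ideal.span (Set.range f) = ⊤) (k : Fin r → ℕ)
    (γ : ∀ i, MvPolynomial (Fin (k i)) R →ₐ[R] Localization.Away (f i)) (hγ : ∀ i, Function.Surjective (γ i)) :
    @Module.FinitePresentation (MvPolynomial (Fin n) R) (M) _ _ (Module.compHom (M) α.toRingHom) ↔
      ∀ i, @Module.FinitePresentation (MvPolynomial (Fin (k i)) R) (LocalizedModule (Submonoid.powers (f i)) M) _ _ (Module.compHom (LocalizedModule (Submonoid.powers (f i)) M) (γ i).toRingHom) := by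
  obtain ⟨g, rfl⟩ : ∃ g : Fin r → MvPolynomial (Fin n) R, f = fun i => α (g i) :=
    ⟨fun i => (hα (f i)).choose, funext fun i => (hα (f i)).choose_spec.symm⟩
  let _ : Algebra (MvPolynomial (Fin n) R) A := α.toRingHom.toAlgebra
  let _ : Module (MvPolynomial (Fin n) R) M := Module.compHom M α.toRingHom
  have : IsScalarTower (MvPolynomial (Fin n) R) A M :=
    IsScalarTower.of_algebraMap_smul fun _ _ => rfl
  let π : ∀ i, Localization.Away (g i) →ₐ[R] Localization.Away (α (g i)) := fun i =>
    { (Groth.Agent.H21.RelFP.locMap (A := A) (g i) : Localization.Away (g i) →+* Localization.Away (α (g i))) with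
      commutes' := fun c => by
        show Groth.Agent.H21.RelFP.locMap (A := A) (g i) (algebraMap R (Localization.Away (g i)) c) =
          algebraMap R (Localization.Away (α (g i))) c
        rw [IsScalarTower.algebraMap_apply R (MvPolynomial (Fin n) R),
          Groth.Agent.H21.RelFP.locMap_algebraMap, IsScalarTower.algebraMap_apply R A (Localization.Away (α (g i)))]
        exact congrArg _ (α.commutes c) }
  have key : ∀ i, Groth.Agent.H21.RelFP.FPvia (π i).toRingHom
      (LocalizedModule (Submonoid.powers (α (g i))) M) ↔ _ := fun i =>
    Groth.Agent.H21.RelFP.iff_pres (π i) (Groth.Agent.H21.RelFP.locMap_surjective (g i) hα) (γ i) (hγ i) _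
  constructor
  · intro h i
    have : Module.FinitePresentation (MvPolynomial (Fin n) R) M := h
    exact (key i).1 (Groth.Agent.H21.RelFP.fpVia_away (g i) M)
  · intro h
    exact Groth.Agent.H21.RelFP.of_span hα M g hf fun i => (key i).2 (h i)

end Groth.Agent.S7007
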