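import Groth.Statements.S7010
import Groth.Agent.Lib.DR.ProjAmp

set_option autoImplicit false
universe u
open CategoryTheory CategoryTheory.Limits
attribute [local instance] HasDerivedCategory.standard
open DRing

open Groth.Agent.Lib.DR.Basic Groth.Agent.Lib.DR.FiniteComplex Groth.Agent.Lib.DR.PseudoCoherent Groth.Agent.Lib.DR.TopCohomology
open CategoryTheory CategoryTheory.Limits CategoryTheory.Pretriangulated Groth.Agent.Lib.DR.Representative Groth.Agent.Lib.DR.ProjAmp Groth.Agent.Lib.DR.Amplitude

namespace Groth.Agent.S7010

open CategoryTheory.Pretriangulated in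
/-- The inclusion of the perfect objects in the subcategory generated by R: let R be a commutative ring
and P a property of objects of D(R) which is closed under isomorphisms, holds for R[0], is stable
under all shifts, is closed under extensions (if it holds for the outer terms of a distinguished
triangle it holds for the middle term) and is closed under taking direct summands. Then P holds for
every perfect object of D(R). -/
theorem result (R : Type u) [CommRing R]
    (P : ObjectProperty (Dual.D R)) [P.IsClosedUnderIsomorphisms] (hR : P (Dual.inD R R))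
    (hshift : ∀ (K : Dual.D R) (n : ℤ), P K → P ((shiftFunctor (Dual.D R) n).obj K))
    (hext : ∀ T : Triangle (Dual.D R), T ∈ distinguishedTriangles → P T.obj₁ → P T.obj₃ → P T.obj₂)
    (hsum : ∀ (X Y : Dual.D R) [HasBinaryBiproduct X Y], P (X ⊞ Y) → P X)
    (K : Dual.D R) (hK : DRing.IsPerfect R K) : P K := by
  obtain ⟨E, a, b, hE, hp, ⟨e⟩⟩ := hK
  have hz : ∀ {X : Dual.D R}, IsZero X → P X := fun {X} hX => by
    refine hsum X (Dual.inD R R) (P.prop_of_iso (Iso.symm ?_) hR)
    exact
      { hom := biprod.snd
        inv := biprod.inr
        hom_inv_id := biprod.hom_ext' _ _ (hX.eq_of_src _ _) (by simp)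
        inv_hom_id := biprod.inr_snd }
  have hadd : ∀ X Y : Dual.D R, P X → P Y → P (X ⊞ Y) := fun X Y hX hY =>
    hext _ (binaryBiproductTriangle_distinguished X Y) hX hY
  let G := DerivedCategory.singleFunctor (ModuleCat.{u} R) 0
  have hfree : ∀ n : ℕ, P (G.obj (ModuleCat.of R (Fin n → R))) := by
    intro n
    induction n with
    | zero =>
      have : IsZero (ModuleCat.of R (Fin 0 → R)) := ModuleCat.isZero_of_subsingleton _
      exact hz (Functor.map_isZero G this)
    | succ n ih =>
      have := preservesBinaryBiproduct_of_preservesBiproduct G (ModuleCat.of R R)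
        (ModuleCat.of R (Fin n → R))
      exact P.prop_of_iso ((G.mapBiprod _ _).symm ≪≫ G.mapIso
        (ModuleCat.biprodIsoProd _ _ ≪≫ (Fin.consLinearEquiv R fun _ : Fin (n + 1) => R).toModuleIso))
        (hadd _ _ hR ih)
  have hmod : ∀ M : ModuleCat.{u} R, fproj R M → P (G.obj M) := fun M hM => by
    obtain ⟨_, _⟩ := hM
    obtain ⟨n, f, g, hf, hg, hfg⟩ := Module.Finite.exists_comp_eq_id_of_projective R M
    have := isLE_of_isZero (isZero_zero (Dual.D R)) 0
    obtain ⟨Z, p, δ, hd⟩ := distinguished_cocone_triangle (G.map (ModuleCat.ofHom g))
    have hmono : Mono (G.map (ModuleCat.ofHom g)) := by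
      have : IsSplitMono (G.map (ModuleCat.ofHom g)) := ⟨⟨{ retraction := G.map (ModuleCat.ofHom f)
                                                            id := by
                                                              rw [← G.map_comp, ← ModuleCat.ofHom_comp, hfg]
                                                              exact G.map_id _ }⟩⟩
      infer_instance
    obtain ⟨e', -⟩ := exists_iso_binaryBiproduct_of_distTriang _ hd
      ((Triangle.mor₃_eq_zero_iff_mono₁ _ hd).2 hmono)
    exact hsum _ _ (P.prop_of_iso e' (hfree n))
  refine P.prop_of_iso e (bdd_induction good_fproj P hz (fun T hT => hext T hT) E a b hE hp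
    fun S i _ _ ⟨e'⟩ => ?_)
  exact P.prop_of_iso (singleShift S (-i) i 0 (by lia))
    (hshift _ (-i) (hmod S (good_fproj.iso e'.symm (hp i))))

end Groth.Agent.S7010
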