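import Groth.Statements.S7011
import Groth.Agent.Lib.DR.Lift
import Groth.Agent.H22.Jacobson

set_option autoImplicit false
universe u
open CategoryTheory CategoryTheory.Limits
attribute [local instance] HasDerivedCategory.standard
open DRing

open Groth.Agent.Lib.DR.Basic Groth.Agent.Lib.DR.FiniteComplex Groth.Agent.Lib.DR.PseudoCoherent Groth.Agent.Lib.DR.TopCohomology
open CategoryTheory CategoryTheory.Limits CategoryTheory.Pretriangulated ZeroObject
open Groth.Agent.Lib.DR Groth.Agent.Lib.DR.Representative Groth.Agent.Lib.DR.BaseChange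

namespace Groth.Agent.S7011

theorem sf_right {R : Type u} [CommRing R] {M N : ModuleCat.{u} R}
    (hM : Module.Finite R M ∧ Module.IsStablyFree R M)
    (h : Module.Finite R (ModuleCat.of R (M × N)) ∧ Module.IsStablyFree R (ModuleCat.of R (M × N))) :
    Module.Finite R N ∧ Module.IsStablyFree R N := by
  have := hM.1
  have hMN : Module.Finite R (M × N) := h.1
  have hN : Module.Finite R N := Module.Finite.of_surjective (LinearMap.snd R M N) LinearMap.snd_surjective
  exact ⟨hN, (H22.Jacobson.stablyFree_two_out_of_three (LinearEquiv.refl R (M × N))).1 hM.2 h.2⟩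

theorem sf_prod {R : Type u} [CommRing R] {M N : ModuleCat.{u} R}
    (hM : Module.Finite R M ∧ Module.IsStablyFree R M) (h : Module.Finite R N ∧ Module.IsStablyFree R N) :
    Module.Finite R (ModuleCat.of R (M × N)) ∧ Module.IsStablyFree R (ModuleCat.of R (M × N)) := by
  have := hM.1
  have := h.1
  exact ⟨(inferInstance : Module.Finite R (M × N)),
    (H22.Jacobson.stablyFree_two_out_of_three (LinearEquiv.refl R (M × N))).2 hM.2 h.2⟩

theorem free_lift {R : Type u} [CommRing R] {I : Ideal R} (hI : I ≤ Ideal.jacobson ⊥) (E : Type u)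
    [AddCommGroup E] [Module (R ⧸ I) E] [Module.Finite (R ⧸ I) E] [Module.Free (R ⧸ I) E] :
    ∃ (P : Type u) (_ : AddCommGroup P) (_ : Module R P), Module.Finite R P ∧ Module.Free R P ∧
      Nonempty (TensorProduct R (R ⧸ I) P ≃ₗ[R ⧸ I] E) := by
  classical
  rcases subsingleton_or_nontrivial (R ⧸ I) with hs | hnt
  · have := Module.subsingleton (R ⧸ I) E
    have := Module.subsingleton (R ⧸ I) (TensorProduct R (R ⧸ I) PUnit.{u+1})
    exact ⟨PUnit, inferInstance, inferInstance, inferInstance, inferInstance,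
      ⟨LinearEquiv.ofSubsingleton _ _⟩⟩
  let ι := Module.Free.ChooseBasisIndex (R ⧸ I) E
  exact ⟨ι → R, inferInstance, inferInstance, inferInstance, inferInstance,
    ⟨TensorProduct.piScalarRight R (R ⧸ I) (R ⧸ I) ι ≪≫ₗ (Module.Free.chooseBasis (R ⧸ I) E).equivFun.symm⟩⟩


/-- Let R be a commutative ring and I an ideal contained in the Jacobson radical of R (every element of
1 + I is a unit), such that the derived base change D(R) → D(R/I) exists. Let K be a pseudo-coherent
object of D(R) and E a bounded above cochain complex of finitely generated stably free R/I-modules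
which is isomorphic in D(R/I) to K ⊗^L_R R/I. Then there is a bounded above cochain complex P of
finitely generated stably free R-modules, isomorphic to K in D(R), whose termwise reduction P ⊗_R
R/I is isomorphic to E as a complex, and such that P^i is free for every i for which E^i is free. -/
theorem result (R : Type u) [CommRing R] (I : Ideal R)
    (hI : I ≤ Ideal.jacobson (⊥ : Ideal R)) [DRing.HasLBaseChange (Ideal.Quotient.mk I)] (K : Dual.D R)
    (hK : DRing.IsPseudoCoherent' R K) (E : DRing.Cx (R ⧸ I)) (b : ℤ) (hEb : DRing.VanishesAbove E b)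
    (hEs : ∀ i : ℤ, Module.Finite (R ⧸ I) (E.X i) ∧ Module.IsStablyFree (R ⧸ I) (E.X i))
    (hE : Nonempty (DRing.toD E ≅ (DRing.LBaseChange (Ideal.Quotient.mk I)).obj K)) :
    ∃ (P : DRing.Cx R) (b' : ℤ), DRing.VanishesAbove P b' ∧
      (∀ i : ℤ, Module.Finite R (P.X i) ∧ Module.IsStablyFree R (P.X i)) ∧
      Nonempty (DRing.toD P ≅ K) ∧ Nonempty ((((ModuleCat.extendScalars (Ideal.Quotient.mk I)).mapHomologicalComplex (ComplexShape.up ℤ)).obj P) ≅ E) ∧
      ∀ i : ℤ, Module.Free (R ⧸ I) (E.X i) → Module.Free R (P.X i) := by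
  obtain ⟨eE⟩ := hE
  obtain ⟨Q, c, hQ, hQf, ⟨eQ⟩⟩ := hK
  let sf : ObjectProperty (ModuleCat.{u} R) := fun M => Module.Finite R M ∧ Module.IsStablyFree R M
  have hX : ∀ i, ∃ X : ModuleCat.{u} R, sf X ∧ (Module.Free (R ⧸ I) (E.X i) → Module.Free R X) ∧
      Nonempty (TensorProduct R (R ⧸ I) X ≃ₗ[R ⧸ I] E.X i) := fun i => by
    have := (hEs i).1
    have := (hEs i).2
    by_cases hfree : Module.Free (R ⧸ I) (E.X i)
    · obtain ⟨X, _, _, h1, h2, h3⟩ := free_lift hI (E.X i)
      exact ⟨ModuleCat.of R X, ⟨h1, inferInstance⟩, fun _ => h2, h3⟩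
    · obtain ⟨X, _, _, h1, h2, h3⟩ := H22.Jacobson.exists_stablyFree_lift hI (E.X i)
      exact ⟨ModuleCat.of R X, ⟨h1, h2⟩, fun h => absurd h hfree, h3⟩
  choose X hX hXf hXe using hX
  have hiso : ∀ {M N : ModuleCat.{u} R}, (M ≅ N) → sf M → sf N := fun {M N} e h =>
    ⟨have := h.1; Module.Finite.equiv e.toLinearEquiv, have := h.2; Module.IsStablyFree.equiv e.toLinearEquiv⟩
  obtain ⟨P, b', hP, hPX, hPK, hPE⟩ := Lift.exists_lift_D I sf hiso
    (fun M h => have := h.2; inferInstance)
    (fun M N hM => ⟨fun h => sf_right hM h, fun h => sf_prod hM h⟩)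
    (fun M N f _ hN h => LinearMap.range_eq_top.1 (top_le_iff.1
      (Submodule.le_of_le_smul_of_le_jacobson_bot hN.1.fg_top hI h.ge)))
    K Q c hQ (fun i => ⟨(hQf i).1, have := (hQf i).2; inferInstance⟩) eQ E b hEb X hX
    (fun i => (hXe i).some) eE
  exact ⟨P, b', hP, fun i => hiso (hPX i).some.symm (hX i), hPK, hPE,
    fun i h => have := hXf i h; Module.Free.of_equiv (hPX i).some.symm.toLinearEquiv⟩

end Groth.Agent.S7011
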