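import Groth.Statements.S7012
import Groth.Agent.Lib.DR.Lift

set_option autoImplicit false
universe u
open CategoryTheory CategoryTheory.Limits
attribute [local instance] HasDerivedCategory.standard
open DRing

open Groth.Agent.Lib.DR.Basic Groth.Agent.Lib.DR.FiniteComplex Groth.Agent.Lib.DR.PseudoCoherent Groth.Agent.Lib.DR.TopCohomology
open CategoryTheory CategoryTheory.Limits CategoryTheory.Pretriangulated ZeroObject
open Groth.Agent.Lib.DR Groth.Agent.Lib.DR.Representative Groth.Agent.Lib.DR.BaseChange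

namespace Groth.Agent.S7012

/-- Let R be a commutative ring, I an ideal of R and Pc a class of R-modules closed under isomorphisms
such that: (1) every module in Pc is projective; (2) if P₁ and P₁ ⊕ P₂ belong to Pc then P₂ belongs
to Pc; (3) every homomorphism between modules of Pc which is surjective modulo I is surjective. Let
E be a bounded above acyclic cochain complex of R/I-modules each of whose terms is isomorphic to
P/IP for some P in Pc. Then there is a bounded above acyclic cochain complex of R-modules with all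
terms in Pc whose termwise reduction modulo I is isomorphic to E as a complex. -/
theorem result (R : Type u) [CommRing R] (I : Ideal R)
    (Pc : ObjectProperty (ModuleCat.{u} R)) [Pc.IsClosedUnderIsomorphisms]
    (h1 : ∀ X : ModuleCat.{u} R, Pc X → Module.Projective R X)
    (h2 : ∀ X Y : ModuleCat.{u} R, Pc X → Pc (ModuleCat.of R (X × Y)) → Pc Y)
    (h3 : ∀ (X Y : ModuleCat.{u} R) (f : X ⟶ Y), Pc X → Pc Y →
      LinearMap.range f.hom ⊔ I • (⊤ : Submodule R Y) = ⊤ → Function.Surjective f.hom)
    (E : DRing.Cx (R ⧸ I)) (b : ℤ) (hEb : DRing.VanishesAbove E b) (hEa : E.Acyclic)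
    (hEt : ∀ i : ℤ, ∃ X : ModuleCat.{u} R, Pc X ∧ Nonempty (TensorProduct R (R ⧸ I) X ≃ₗ[R ⧸ I] E.X i)) :
    ∃ (P : DRing.Cx R) (b' : ℤ), DRing.VanishesAbove P b' ∧ P.Acyclic ∧ (∀ i : ℤ, Pc (P.X i)) ∧
      Nonempty ((((ModuleCat.extendScalars (Ideal.Quotient.mk I)).mapHomologicalComplex (ComplexShape.up ℤ)).obj P) ≅ E) := by
  choose X hX hXe using hEt
  let Q : DRing.Cx R := 0
  have hQz : IsZero Q := isZero_zero _
  let mk' := Ideal.Quotient.mk I
  have hQ0 : ∀ i, IsZero (Q.X i) := fun i => (HomologicalComplex.eval _ _ i).map_isZero hQz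
  have hQ' : IsZero (DerivedCategory.Q.obj ((ext mk').obj Q)) :=
    DerivedCategory.Q.map_isZero ((ext mk').map_isZero hQz)
  have hE' := (acyclic_iff_isZero_Q E).1 hEa
  let g : E ⟶ (ext mk').obj Q := 0
  have : IsIso (DerivedCategory.Q.map g) := ⟨0, hE'.eq_of_src _ _, hQ'.eq_of_src _ _⟩
  obtain ⟨P, f, hf, hP, hPX, hPE⟩ := Lift.exists_lift I Pc (fun e h => Pc.prop_of_iso e h) h1 h2 h3 Q E g
    ((DerivedCategory.isIso_Q_map_iff_quasiIso (φ := g)).1 this) b (fun i _ => hQ0 i) hEb X hX
    (fun i j _ => Pc.prop_of_iso ((LinearEquiv.toModuleIso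
      (LinearEquiv.ofBijective (LinearMap.fst R (X j) (Q.X i))
        ⟨fun a c h => Prod.ext h ((ModuleCat.subsingleton_of_isZero (hQ0 i)).elim _ _),
          LinearMap.fst_surjective⟩)).symm) (hX j))
    (fun i => (hXe i).some)
  have := (DerivedCategory.isIso_Q_map_iff_quasiIso (φ := f)).2 hf
  exact ⟨P, b, hP, (acyclic_iff_isZero_Q P).2
    ((DerivedCategory.Q.map_isZero hQz).of_iso (asIso (DerivedCategory.Q.map f))),
    fun i => Pc.prop_of_iso (hPX i).some.symm (hX i), hPE⟩

end Groth.Agent.S7012
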