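import Groth.Statements.S7014
import Groth.Agent.Lib.DR.CountSum


set_option autoImplicit false
universe u
open CategoryTheory CategoryTheory.Limits
attribute [local instance] HasDerivedCategory.standard
open DRing


namespace Groth.Agent.S7014

/-- Let R be a commutative ring and K an object of D(R) such that for every sequence (E_n) of objects of
D(R) the canonical map from the direct sum of the Hom(K, E_n) to Hom(K, ⊕_n E_n) is bijective. Let
L_0 → L_1 → L_2 → ... be a sequence of cochain complexes of R-modules with colimit L (computed
termwise). Then every morphism K → L in D(R) factors through L_n → L for some n, and a morphism K →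
L_n in D(R) whose composite with L_n → L vanishes already has vanishing composite with L_n → L_m for
some m ≥ n. -/
theorem result (R : Type u) [CommRing R] (K : Dual.D R)
    (hK : ∀ (E : ℕ → Dual.D R) [HasCoproduct fun i : ULift.{u + 1} ℕ => E i.down],
      Function.Bijective (CohDer.homSumToHomCoprod K (fun i : ULift.{u + 1} ℕ => E i.down)))
    (L : ℕ ⥤ DRing.Cx R) (c : Cocone L) (hc : IsColimit c) :
    (∀ x : K ⟶ DRing.toD c.pt, ∃ (n : ℕ) (y : K ⟶ DRing.toD (L.obj n)),
        y ≫ DerivedCategory.Q.map (c.ι.app n) = x) ∧
      (∀ (n : ℕ) (y : K ⟶ DRing.toD (L.obj n)), y ≫ DerivedCategory.Q.map (c.ι.app n) = 0 →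
        ∃ (m : ℕ) (h : n ≤ m), y ≫ DerivedCategory.Q.map (L.map (homOfLE h)) = 0) := by
  exact Groth.Agent.Lib.DR.CountSum.main L (Groth.Agent.Lib.DR.CountSum.finSum_of_bijective hK) c hc


end Groth.Agent.S7014
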