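import Groth.Statements.S7015
import Groth.Agent.Lib.DR.PairingFinite

set_option autoImplicit false
universe u
open CategoryTheory MonoidalCategory
open DRing

open Groth.Agent.Lib.DR MonoidalCategory TensorProduct

namespace Groth.Agent.S7015

/-- Let R be a commutative ring and M, N R-modules such that N is a left dual of M for the tensor
product of R-modules, i.e. there are a coevaluation R → M ⊗ N and an evaluation N ⊗ M → R satisfying
the triangle identities (an exact pairing). Then M and N are finitely generated projective
R-modules. -/
theorem result (R : Type u) [CommRing R] (M N : Type u) [AddCommGroup M]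
    [Module R M] [AddCommGroup N] [Module R N] [ExactPairing (ModuleCat.of R M) (ModuleCat.of R N)] :
    Module.Finite R M ∧ Module.Projective R M ∧ Module.Finite R N ∧ Module.Projective R N := by

  let A := ModuleCat.of R M
  let B := ModuleCat.of R N
  have hA := ExactPairing.evaluation_coevaluation A B
  have hB := ExactPairing.coevaluation_evaluation A B
  let w : M ⊗[R] N := (η_ A B).hom (1 : R)
  let ev : N ⊗[R] M →ₗ[R] R := (ε_ A B).hom
  let Φ : M ⊗[R] N →ₗ[R] M →ₗ[R] M := TensorProduct.lift (LinearMap.mk₂ R
    (fun a b => ((ev ∘ₗ TensorProduct.mk R N M b).smulRight a))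
    (fun a a' b => by ext; simp) (fun c a b => by ext; simp only [LinearMap.smulRight_apply, LinearMap.smul_apply]; exact (smul_comm _ _ _).symm)
    (fun a b b' => by ext; simp [add_smul]) (fun c a b => by ext; simp [mul_smul]))
  let Ψ : M ⊗[R] N →ₗ[R] N →ₗ[R] N := TensorProduct.lift (LinearMap.mk₂ R
    (fun a b => ((ev ∘ₗ (TensorProduct.mk R N M).flip a).smulRight b))
    (fun a a' b => by ext; simp [add_smul]) (fun c a b => by ext; simp [mul_smul])
    (fun a b b' => by ext; simp) (fun c a b => by ext; simp only [LinearMap.smulRight_apply, LinearMap.smul_apply]; exact (smul_comm _ _ _).symm))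
  have hΦ : ∀ z, Φ z ∈ LinearMap.range (dualTensorHom R M M) := fun z => by
    induction z using TensorProduct.induction_on with
    | zero => rw [map_zero]; exact zero_mem _
    | add a b ha hb => rw [map_add]; exact add_mem ha hb
    | tmul a b => exact ⟨(ev ∘ₗ TensorProduct.mk R N M b) ⊗ₜ a, LinearMap.ext fun x => by simp [Φ]⟩
  have hΨ : ∀ z, Ψ z ∈ LinearMap.range (dualTensorHom R N N) := fun z => by
    induction z using TensorProduct.induction_on with
    | zero => rw [map_zero]; exact zero_mem _
    | add a b ha hb => rw [map_add]; exact add_mem ha hb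
    | tmul a b => exact ⟨(ev ∘ₗ (TensorProduct.mk R N M).flip a) ⊗ₜ b, LinearMap.ext fun x => by simp [Ψ]⟩
  have e1 : Φ w = LinearMap.id := LinearMap.ext fun x => by
    have key : ∀ z : M ⊗[R] N, TensorProduct.rid R M (ev.lTensor M (TensorProduct.assoc R M N M (z ⊗ₜ x))) = Φ z x :=
      fun z => by
        induction z using TensorProduct.induction_on with
        | zero => simp
        | add a b ha hb => simp only [TensorProduct.add_tmul, map_add, ha, hb, LinearMap.add_apply]
        | tmul a b => simp [Φ]
    have h := ConcreteCategory.congr_hom hA ((1 : R) ⊗ₜ[R] (show A from x))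
    rw [← key w]
    refine (congrArg (TensorProduct.rid R M) h).trans ?_
    show TensorProduct.rid R M ((TensorProduct.rid R M).symm (TensorProduct.lid R M ((1 : R) ⊗ₜ x))) = x
    simp
  have e2 : Ψ w = LinearMap.id := LinearMap.ext fun x => by
    have key : ∀ z : M ⊗[R] N, TensorProduct.lid R N (ev.rTensor N ((TensorProduct.assoc R N M N).symm (x ⊗ₜ z))) = Ψ z x :=
      fun z => by
        induction z using TensorProduct.induction_on with
        | zero => simp
        | add a b ha hb => simp only [TensorProduct.tmul_add, map_add, ha, hb, LinearMap.add_apply]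
        | tmul a b => simp [Ψ]
    have h := ConcreteCategory.congr_hom hB ((show B from x) ⊗ₜ[R] (1 : R))
    rw [← key w]
    refine (congrArg (TensorProduct.lid R N) h).trans ?_
    show TensorProduct.lid R N ((TensorProduct.lid R N).symm (TensorProduct.rid R N (x ⊗ₜ (1 : R)))) = x
    simp
  obtain ⟨hM, hM'⟩ := PairingFinite.finite_projective_of_id_mem (e1 ▸ hΦ w)
  obtain ⟨hN, hN'⟩ := PairingFinite.finite_projective_of_id_mem (e2 ▸ hΨ w)
  exact ⟨hM, hM', hN, hN'⟩


end Groth.Agent.S7015
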