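import Groth.Statements.S7016
import Groth.Agent.Lib.DR.PairingFinite

set_option autoImplicit false
universe u
open CategoryTheory CategoryTheory.Limits
attribute [local instance] HasDerivedCategory.standard
open DRing

open Groth.Agent.Lib.DR CategoryTheory.Limits

namespace Groth.Agent.S7016

open MonoidalCategory in
/-- Let R be a commutative ring and M, N cochain complexes of R-modules such that N is a left dual of M
for the tensor product of cochain complexes of R-modules (coevaluation R[0] → M ⊗ N and evaluation N
⊗ M → R[0] with the triangle identities, an exact pairing). Then M and N are bounded and every term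
M^n, N^n is a finitely generated projective R-module. -/
theorem result (R : Type u) [CommRing R] (M N : DRing.Cx R)
    [ExactPairing M N] :
    (∃ a b : ℤ, DRing.VanishesOutside M a b) ∧ (∃ a b : ℤ, DRing.VanishesOutside N a b) ∧
      DRing.TermwiseFiniteProjective M ∧ DRing.TermwiseFiniteProjective N := by

  obtain ⟨s, hp, hz⟩ := PairingFinite.bounded_finite_projective (M := M) (N := N)
  obtain ⟨a, ha⟩ := s.bddBelow
  obtain ⟨b, hb⟩ := s.bddAbove
  have hs : ∀ i, i < a ∨ b < i → i ∉ s := fun i hi h => by
    rcases hi with hi | hi
    · exact absurd (ha (Finset.mem_coe.2 h)) (not_le.2 hi)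
    · exact absurd (hb (Finset.mem_coe.2 h)) (not_le.2 hi)
  exact ⟨⟨a, b, fun i hi => (hz i (hs i hi)).1⟩, ⟨a, b, fun i hi => (hz i (hs i hi)).2⟩,
    fun i => (hp i).1, fun i => (hp i).2⟩


end Groth.Agent.S7016
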