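import Groth.Statements.S7017
import Groth.Agent.Lib.DR.Coherent

set_option autoImplicit false
universe u
open CategoryTheory CategoryTheory.Limits
attribute [local instance] HasDerivedCategory.standard
open DRing

open Groth.Agent.Lib.DR.Basic Groth.Agent.Lib.DR.FiniteComplex Groth.Agent.Lib.DR.PseudoCoherent Groth.Agent.Lib.DR.TopCohomology
open CategoryTheory CategoryTheory.Limits CategoryTheory.Pretriangulated Groth.Agent.Lib.DR.Representative Groth.Agent.Lib.DR.Coherent

namespace Groth.Agent.S7017

open CategoryTheory.Pretriangulated in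
/-- Let R be a commutative ring and K → L → M → K[1] a distinguished triangle in D(R). Whenever two of
K, L, M are pseudo-coherent (isomorphic in D(R) to bounded above complexes of finite free modules),
the remaining one is as well. -/
theorem result (R : Type u) [CommRing R] (T : Triangle (Dual.D R))
    (hT : T ∈ distinguishedTriangles) :
    (DRing.IsPseudoCoherent' R T.obj₁ → DRing.IsPseudoCoherent' R T.obj₂ → DRing.IsPseudoCoherent' R T.obj₃) ∧
      (DRing.IsPseudoCoherent' R T.obj₁ → DRing.IsPseudoCoherent' R T.obj₃ → DRing.IsPseudoCoherent' R T.obj₂) ∧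
      (DRing.IsPseudoCoherent' R T.obj₂ → DRing.IsPseudoCoherent' R T.obj₃ → DRing.IsPseudoCoherent' R T.obj₁) := by
  simp only [isPseudoCoherent'_iff_forall]
  exact ⟨fun h₁ h₂ m => PCn.cone good_ff projective_of_ff T hT (h₁ _) (h₂ m),
    fun h₁ h₃ m => PCn.ext good_ff projective_of_ff T hT (h₁ m) (h₃ m),
    fun h₂ h₃ m => PCn.fiber good_ff projective_of_ff T hT (h₂ m) (h₃ _)⟩

end Groth.Agent.S7017
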