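import Groth.Statements.S7018
import Groth.Agent.Lib.DR.TorAmp

set_option autoImplicit false
universe u
open CategoryTheory CategoryTheory.Limits
attribute [local instance] HasDerivedCategory.standard
open DRing

open Groth.Agent.Lib.DR.Basic Groth.Agent.Lib.DR.FiniteComplex Groth.Agent.Lib.DR.PseudoCoherent Groth.Agent.Lib.DR.TopCohomology
open CategoryTheory CategoryTheory.Limits CategoryTheory.Pretriangulated
open Groth.Agent.Lib.DR.Representative Groth.Agent.Lib.DR.BaseChange Groth.Agent.Lib.DR.TorAmp Groth.Agent.Lib.DR.Perfect Groth.Agent.Lib.DR.ProjAmp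

namespace Groth.Agent.S7018

/-- Let R be a commutative ring such that the derived tensor product - ⊗^L_R M exists on D(R) for every
R-module M, let a, b be integers and K, L objects of D(R). Tor amplitude in [a, b] of the direct sum
K ⊕ L implies tor amplitude in [a, b] of each summand K and L. -/
theorem result (R : Type u) [CommRing R] [∀ M : ModuleCat.{u} R, DRing.HasLTensor R M]
    (a b : ℤ) (K L : Dual.D R) [HasBinaryBiproduct K L] (h : DRing.HasTorAmplitudeIn R a b (K ⊞ L)) :
    DRing.HasTorAmplitudeIn R a b K ∧ DRing.HasTorAmplitudeIn R a b L := by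
  exact ⟨bdd_flat_retract ⟨biprod.inl, biprod.fst, biprod.inl_fst⟩ h,
    bdd_flat_retract ⟨biprod.inr, biprod.snd, biprod.inr_snd⟩ h⟩

end Groth.Agent.S7018
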