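import Groth.Statements.S7026
import Groth.Agent.H54.RelPCApp
-- import your own Groth.Agent.* helpers here

set_option autoImplicit false
universe u
open CategoryTheory CategoryTheory.Limits
attribute [local instance] HasDerivedCategory.standard
open DerCA

namespace Groth.Agent.S7026

/-- Let R be a Noetherian commutative ring, R → A a finite type ring homomorphism, m an integer, K an
object of D(A) and M an A-module. Then: m-pseudo-coherence of K relative to R is equivalent to
H^i(K) vanishing for all large i together with H^i(K) being a finitely generated A-module for each i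
≥ m; pseudo-coherence of K relative to R (every degree) is equivalent to the same with H^i(K)
finitely generated for every i; and the A-module M is pseudo-coherent relative to R exactly when M
is finitely generated. -/
theorem result {R A : Type u} [CommRing R]
    [IsNoetherianRing R] [CommRing A] [Algebra R A] [Algebra.FiniteType R A] (m : ℤ) (K : Dual.D A)
    (M : Type u) [AddCommGroup M] [Module A M] :
    (DerCA.IsRelPseudoCoherent R A m K ↔
      (∃ b : ℤ, ∀ i : ℤ, b < i → Subsingleton (Dual.HD A K i)) ∧ ∀ i : ℤ, m ≤ i → Module.Finite A (Dual.HD A K i)) ∧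
    (DerCA.IsRelPseudoCoherentAll R A K ↔
      (∃ b : ℤ, ∀ i : ℤ, b < i → Subsingleton (Dual.HD A K i)) ∧ ∀ i : ℤ, Module.Finite A (Dual.HD A K i)) ∧
    (DerCA.IsRelPseudoCoherentModuleAll R A M ↔ Module.Finite A M) := by
  obtain ⟨n, α, hα⟩ := Groth.Agent.H54.RelPCApp.exists_pres ‹Algebra.FiniteType R A›
  have h := fun k => Groth.Agent.H54.RelPCApp.noetherian α hα k K
  refine ⟨h m, ⟨fun hK => ⟨((h m).1 (hK m)).1, fun i => ((h i).1 (hK i)).2 i le_rfl⟩,
    fun hK k => (h k).2 ⟨hK.1, fun i _ => hK.2 i⟩⟩, ?_⟩
  refine ⟨fun hM => (Groth.Agent.H54.RelPCApp.relModule_zero_iff α hα M).1.1 (hM 0), fun hM k => ?_⟩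
  have hN := ((Groth.Agent.S6942.result (MvPolynomial (Fin n) R) 0
    ((DRing.restrictD α.toRingHom).obj (Dual.inD A M))
    ((Groth.Agent.H54.PCRestrict.res α.toRingHom).obj (ModuleCat.of A M))).2).2
      ((Groth.Agent.H54.RelPC.finite_res_iff α.toRingHom hα (ModuleCat.of A M)).2 hM)
  exact (Groth.Agent.H54.RelPC.relModule_iff α hα k M).2
    ((Groth.Agent.Lib.DR.Representative.isPseudoCoherent'_iff_forall _).1 hN k)

end Groth.Agent.S7026
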