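import Groth.Statements.S7031
import Groth.Agent.Lib.DR.RegularPerfect

set_option autoImplicit false
universe u
open CategoryTheory CategoryTheory.Limits
attribute [local instance] HasDerivedCategory.standard
open DRing

open Groth.Agent.Lib.DR.Basic Groth.Agent.Lib.DR.FiniteComplex Groth.Agent.Lib.DR.PseudoCoherent Groth.Agent.Lib.DR.TopCohomology
open CategoryTheory CategoryTheory.Limits
open Groth.Agent.Lib.DR Groth.Agent.Lib.DR.Perfect Groth.Agent.Lib.DR.Coherent

namespace Groth.Agent.S7031

lemma finite_homology {R : Type u} [CommRing R] [IsNoetherianRing R] {K : Dual.D R} (h : Pf K) (i : ℤ) :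
    Module.Finite R (Dual.HD R K i) :=
  (fp_homology_of_pcn isCoh_of_isNoetherianRing (h.pcn i) i).2 rfl


/-- Let R be a regular commutative ring (Noetherian, with regular local rings at all primes) such that
the derived tensor product - ⊗^L_R M exists on D(R) for every R-module M, and let K be an object of
D(R). Then K is perfect if and only if H^i(K) = 0 outside a bounded range of degrees and every
H^i(K) is a finitely generated R-module. -/
theorem result (R : Type u) [CommRing R] [IsNoetherianRing R]
    (hreg : ∀ p : PrimeSpectrum R, IsRegularLocalRing (Localization.AtPrime p.asIdeal)) [∀ M : ModuleCat.{u} R, DRing.HasLTensor R M] (K : Dual.D R) :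
    DRing.IsPerfect R K ↔
      (∃ a b : ℤ, ∀ i : ℤ, (i < a ∨ b < i) → Subsingleton (Dual.HD R K i)) ∧ ∀ i : ℤ, Module.Finite R (Dual.HD R K i) := by
  rw [pf_iff]
  constructor
  · intro h
    refine ⟨?_, finite_homology h⟩
    obtain ⟨a, b, h⟩ := h
    exact ⟨a, b, fun i hi => hi.elim ((isGE_iff_subsingleton K a).1 h.isGE i)
      ((isLE_iff_subsingleton K b).1 h.isLE i)⟩
  · rintro ⟨⟨a, b, h⟩, hfin⟩
    exact pf_of_homology K a b ((isGE_iff_subsingleton K a).2 fun i hi => h i (Or.inl hi))
      ((isLE_iff_subsingleton K b).2 fun i hi => h i (Or.inr hi))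
      fun i => RegularPerfect.pmod_of_regular hreg (Dual.HD R K i)

end Groth.Agent.S7031
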