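import Groth.Statements.S7032
import Groth.Agent.Lib.DR.TorAmp

set_option autoImplicit false
universe u
open CategoryTheory CategoryTheory.Limits
attribute [local instance] HasDerivedCategory.standard
open DRing

open Groth.Agent.Lib.DR.Basic Groth.Agent.Lib.DR.FiniteComplex Groth.Agent.Lib.DR.PseudoCoherent Groth.Agent.Lib.DR.TopCohomology
open CategoryTheory CategoryTheory.Limits CategoryTheory.Pretriangulated
open Groth.Agent.Lib.DR.Representative Groth.Agent.Lib.DR.BaseChange Groth.Agent.Lib.DR.TorAmp Groth.Agent.Lib.DR.Perfect Groth.Agent.Lib.DR.ProjAmp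

namespace Groth.Agent.S7032

/-- Let R be a commutative ring such that the derived tensor product - ⊗^L_R M exists on D(R) for every
R-module M, let a, b be integers and K a bounded cochain complex of R-modules such that for every i
the module K^i (placed in degree 0) has tor amplitude in [a - i, b - i]. Then K has tor amplitude in
[a, b]. -/
theorem result (R : Type u) [CommRing R] [∀ M : ModuleCat.{u} R, DRing.HasLTensor R M] (a b : ℤ) (K : DRing.Cx R)
    (c d : ℤ) (hcd : DRing.VanishesOutside K c d)
    (hK : ∀ i : ℤ, DRing.HasTorAmplitudeIn R (a - i) (b - i) (Dual.inD R (K.X i))) :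
    DRing.HasTorAmplitudeIn R a b (DRing.toD K) := by
  refine bdd_induction (P := ⊤) ⟨fun _ => trivial, fun _ _ => trivial, fun _ _ => trivial⟩
    (Bdd (flat R) a b) (fun h => bdd_zero good_flat h a b) (fun T hT => bdd_flat_ext T hT) K c d hcd (fun _ => trivial)
    fun S i _ _ ⟨e⟩ => ?_
  exact (((hasTorAmplitudeIn_iff _ _ _).1 (hK i)).shift good_flat (-i) a b (by lia) (by lia)).of_iso
    (singleShift (K.X i) (-i) i 0 (by lia) ≪≫ (DerivedCategory.singleFunctor _ i).mapIso e.symm)

end Groth.Agent.S7032
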