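import Groth.Statements.S7033
import Groth.Agent.Lib.DR.TorAmp

set_option autoImplicit false
universe u
open CategoryTheory CategoryTheory.Limits
attribute [local instance] HasDerivedCategory.standard
open DRing

open Groth.Agent.Lib.DR.Basic Groth.Agent.Lib.DR.FiniteComplex Groth.Agent.Lib.DR.PseudoCoherent Groth.Agent.Lib.DR.TopCohomology
open CategoryTheory CategoryTheory.Limits CategoryTheory.Pretriangulated
open Groth.Agent.Lib.DR.Representative Groth.Agent.Lib.DR.BaseChange Groth.Agent.Lib.DR.TorAmp Groth.Agent.Lib.DR.Perfect Groth.Agent.Lib.DR.ProjAmp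

namespace Groth.Agent.S7033

/-- Let R be a commutative ring such that the derived tensor product - ⊗^L_R M exists on D(R) for every
R-module M, let a, b be integers and K an object of D(R) whose cohomology vanishes outside a bounded
range, such that for every i the module H^i(K) (placed in degree 0) has tor amplitude in [a - i, b -
i]. Then K has tor amplitude in [a, b]. -/
theorem result (R : Type u) [CommRing R] [∀ M : ModuleCat.{u} R, DRing.HasLTensor R M] (a b : ℤ) (K : Dual.D R)
    (hb : ∃ c d : ℤ, ∀ i : ℤ, (i < c ∨ d < i) → Subsingleton (Dual.HD R K i))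
    (hK : ∀ i : ℤ, DRing.HasTorAmplitudeIn R (a - i) (b - i) (Dual.inD R (Dual.HD R K i))) :
    DRing.HasTorAmplitudeIn R a b K := by
  obtain ⟨c, d, h⟩ := hb
  refine homology_induction (Bdd (flat R) a b) (fun e h => h.of_iso e) (fun h => bdd_zero good_flat h a b)
    (fun T hT => bdd_flat_ext T hT) K c d ((isGE_iff_subsingleton K c).2 fun i hi => h i (Or.inl hi))
    ((isLE_iff_subsingleton K d).2 fun i hi => h i (Or.inr hi)) fun i _ _ => ?_
  exact (((hasTorAmplitudeIn_iff _ _ _).1 (hK i)).shift good_flat (-i) a b (by lia) (by lia)).of_iso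
    (singleShift _ (-i) i 0 (by lia))

end Groth.Agent.S7033
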