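import Groth.Statements.S7034
import Groth.Agent.Lib.DR.TorAmp

set_option autoImplicit false
universe u
open CategoryTheory CategoryTheory.Limits
attribute [local instance] HasDerivedCategory.standard
open DRing

open Groth.Agent.Lib.DR.Basic Groth.Agent.Lib.DR.FiniteComplex Groth.Agent.Lib.DR.PseudoCoherent Groth.Agent.Lib.DR.TopCohomology
open CategoryTheory CategoryTheory.Limits CategoryTheory.Pretriangulated
open Groth.Agent.Lib.DR.Representative Groth.Agent.Lib.DR.BaseChange Groth.Agent.Lib.DR.TorAmp Groth.Agent.Lib.DR.Perfect Groth.Agent.Lib.DR.ProjAmp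

namespace Groth.Agent.S7034

/-- Let R be a commutative ring of global dimension at most d, i.e. every R-module has projective
dimension at most d, such that the derived tensor product - ⊗^L_R M exists on D(R) for every
R-module M. Then: (1) for every R-module M, M[0] is isomorphic in D(R) to a complex of flat modules
vanishing outside [-d, 0]; (2) every object K of D(R) with H^i(K) = 0 for all i outside [a, b] is
isomorphic in D(R) to a complex of flat modules vanishing outside [a - d, b]. -/
theorem result (R : Type u) [CommRing R] (d : ℕ)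
    (hgl : ∀ (M : Type u) [AddCommGroup M] [Module R M], HasProjectiveDimensionLT (ModuleCat.of R M) (d + 1))
    [∀ M : ModuleCat.{u} R, DRing.HasLTensor R M] :
    (∀ (M : Type u) [AddCommGroup M] [Module R M], DRing.HasTorAmplitudeIn R (-(d : ℤ)) 0 (Dual.inD R M)) ∧
      (∀ (K : Dual.D R) (a b : ℤ), (∀ i : ℤ, (i < a ∨ b < i) → Subsingleton (Dual.HD R K i)) →
        DRing.HasTorAmplitudeIn R (a - d) b K) := by
  have h1 : ∀ (M : ModuleCat.{u} R), Bdd (flat R) (-(d : ℤ)) 0
      ((DerivedCategory.singleFunctor (ModuleCat.{u} R) 0).obj M) := fun M => by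
    have := hgl M
    refine (bdd_proj_of_hom (isGE_mono (show DerivedCategory.IsGE ((DerivedCategory.singleFunctor (ModuleCat.{u} R) 0).obj M) 0 from inferInstance) (by lia)) inferInstance fun N => ?_).of_le flat_of_proj
    have : Subsingleton (Abelian.Ext.{u} M N (d + 1)) :=
      HasProjectiveDimensionLT.subsingleton M (d + 1) (d + 1) le_rfl N
    exact ((extEquiv ((DerivedCategory.singleFunctor (ModuleCat.{u} R) 0).obj M) N (d + 1 : ℕ)
      (-(d : ℤ) - 1) (by lia)).symm.trans Abelian.Ext.homEquiv.symm).subsingleton
  refine ⟨fun M _ _ => h1 (ModuleCat.of R M), fun K a b h => ?_⟩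
  refine homology_induction (Bdd (flat R) (a - d) b) (fun e h => h.of_iso e)
    (fun h => bdd_zero good_flat h _ _) (fun T hT => bdd_flat_ext T hT) K a b
    ((isGE_iff_subsingleton K a).2 fun i hi => h i (Or.inl hi))
    ((isLE_iff_subsingleton K b).2 fun i hi => h i (Or.inr hi)) fun i hai hib => ?_
  exact (((h1 _).shift good_flat (-i) (i - d) i (by lia) (by lia)).of_iso
    (singleShift _ (-i) i 0 (by lia))).mono (by lia) (by lia)

end Groth.Agent.S7034
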