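import Groth.Statements.S7035
import Groth.Agent.Lib.DR.FibreGl


set_option autoImplicit false
universe u
open CategoryTheory CategoryTheory.Limits
attribute [local instance] HasDerivedCategory.standard
open DRing

open TensorProduct
open Groth.Agent.Lib.DR
open Groth.Agent.Lib.DR.Basic Groth.Agent.Lib.DR.FiniteComplex Groth.Agent.Lib.DR.PseudoCoherent
open Groth.Agent.Lib.DR.Representative Groth.Agent.Lib.DR.BaseChange Groth.Agent.Lib.DR.TorAmp

namespace Groth.Agent.S7035

/-- Let A → B be a flat homomorphism of commutative rings and d a natural number such that for every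
prime p of A, with residue field κ(p), every module over κ(p) ⊗_A B has projective dimension at most
d; assume the derived tensor products - ⊗^L M exist on D(κ(p) ⊗_A B) for all p and the derived base
changes D(B) → D(B/m) exist for all ideals m of B. Let a, b be integers and K an object of D(B)
which is pseudo-coherent over B and, with scalars restricted to A, has tor amplitude in [a, b]. Then
K is perfect over B and has tor amplitude in [a - d, b] over B. -/
theorem result {A B : Type u} [CommRing A] [CommRing B] [Algebra A B]
    [Module.Flat A B] (d : ℕ)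
    (hgl : ∀ (p : PrimeSpectrum A) (M : Type u) [AddCommGroup M]
      [Module (TensorProduct A p.asIdeal.ResidueField B) M],
      HasProjectiveDimensionLT (ModuleCat.of (TensorProduct A p.asIdeal.ResidueField B) M) (d + 1))
    [∀ (p : PrimeSpectrum A) (M : ModuleCat.{u} (TensorProduct A p.asIdeal.ResidueField B)),
      DRing.HasLTensor (TensorProduct A p.asIdeal.ResidueField B) M]
    [∀ m : Ideal B, DRing.HasLBaseChange (Ideal.Quotient.mk m)] (a b : ℤ) (K : Dual.D B)
    (hK : DRing.IsPseudoCoherent' B K)
    (hKa : DRing.HasTorAmplitudeIn A a b ((DRing.restrictD (algebraMap A B)).obj K)) :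
    DRing.IsPerfect B K ∧ DRing.HasTorAmplitudeIn B (a - d) b K := by
  have hall := (isPseudoCoherent'_iff_forall K).1 hK
  have hA : Bdd (flat A) a b ((DRing.restrictD (algebraMap A B)).obj K) := (hasTorAmplitudeIn_iff a b _).1 hKa
  have hB : Bdd (fproj B) (a - d) b K := FibreApp.bdd_fproj_of_mem_sup hall (a - d) b
    fun E c hE hp e m hm i j k hij hjk hj => by
      refine FibreApp.mem_sup_of_exactAt m E i j k hij hjk ?_
      let p : Ideal A := m.comap (algebraMap A B)
      letI := Ideal.Quotient.field m
      let f₁ : p.ResidueField →ₐ[A] B ⧸ m := Ideal.ResidueField.liftₐ p (Algebra.ofId A (B ⧸ m))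
        (fun x hx => Ideal.Quotient.eq_zero_iff_mem.2 hx)
        (fun x hx => isUnit_iff_ne_zero.2 fun h => hx ((Ideal.Quotient.eq_zero_iff_mem (I := m) (a := algebraMap A B x)).1 h))
      let φ : TensorProduct A p.ResidueField B →+* B ⧸ m :=
        (Algebra.TensorProduct.lift f₁ (IsScalarTower.toAlgHom A B (B ⧸ m)) fun _ _ => Commute.all _ _).toRingHom
      letI : Algebra B (TensorProduct A p.ResidueField B) := Algebra.TensorProduct.rightAlgebra
      have hφ : φ.comp (algebraMap B (TensorProduct A p.ResidueField B)) = Ideal.Quotient.mk m := by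
        refine RingHom.ext fun x => ?_
        change f₁ 1 * Ideal.Quotient.mk m x = _
        rw [map_one, one_mul]
      rw [← hφ]
      refine FibreGl.exactAt_comp_of_gl _ φ d (fun M => hgl ⟨p, inferInstance⟩ M) E c hE
        (fun i => (hp i).2) a b (fun l hl => FibreGl.exactAt_fibre p.ResidueField E l ?_) j hj
      exact FibreGl.exactAt_of_bdd_flat (algebraMap A p.ResidueField)
        (((ModuleCat.restrictScalars.{u} (algebraMap A B)).mapHomologicalComplex (.up ℤ)).obj E) c
        (fun i hi => (ModuleCat.restrictScalars.{u} (algebraMap A B)).map_isZero (hE i hi))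
        (fun i => LocalAmp.flat_restrict _ (RingHom.flat_algebraMap_iff.2 inferInstance) _
          (flat_of_fproj _ (fproj_of_ff _ (hp i))))
        (hA.of_iso ((DRing.restrictD (algebraMap A B)).mapIso e.symm ≪≫
          (ModuleCat.restrictScalars.{u} (algebraMap A B)).mapDerivedCategoryFactors.app E)) l hl
  exact ⟨(isPerfect_iff K).2 ⟨_, _, hB⟩, (hasTorAmplitudeIn_iff _ _ K).2 (hB.of_le flat_of_fproj)⟩


end Groth.Agent.S7035
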