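import Groth.Statements.S7037
import Groth.Agent.Lib.DR.TensorBdd

set_option autoImplicit false
universe u
open CategoryTheory CategoryTheory.Limits
attribute [local instance] HasDerivedCategory.standard
open DRing

open Groth.Agent.Lib.DR.Basic Groth.Agent.Lib.DR.FiniteComplex Groth.Agent.Lib.DR.PseudoCoherent Groth.Agent.Lib.DR.TopCohomology
open CategoryTheory CategoryTheory.Limits CategoryTheory.Pretriangulated
open Groth.Agent.Lib.DR

namespace Groth.Agent.S7037

/-- Let R be a commutative ring, K a pseudo-coherent object of D(R), and L a cochain complex of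
R-modules which is pseudo-coherent as an object of D(R); assume the derived tensor product - ⊗^L_R L
exists on D(R). Then K ⊗^L_R L is pseudo-coherent. -/
theorem result (R : Type u) [CommRing R] (K : Dual.D R) (hK : DRing.IsPseudoCoherent' R K)
    (L : DRing.Cx R) (hL : DRing.IsPseudoCoherent' R (DRing.toD L)) [DRing.HasLTensorCx R L] :
    DRing.IsPseudoCoherent' R ((DRing.LTensorCx R L).obj K) := by
  obtain ⟨P, b, hPb, hPf, ⟨eP⟩⟩ := hK
  obtain ⟨F, b', hFb, hFf, ⟨eF⟩⟩ := hL
  obtain ⟨e⟩ := LTensorCx.nonempty_iso_tensor L (Groth.Agent.Lib.DR.KFlat.isKFlat_of_flat F b' hFb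
    fun i => by
      have := (hFf i).2
      exact Module.Flat.of_free) eP eF
  exact ⟨_, b + b', fun i hi => TensorBdd.isZero_tens_above P F hPb hFb i hi,
    fun i => TensorBdd.ff_tens P F hPb hFb hPf hFf i, ⟨e.symm⟩⟩

end Groth.Agent.S7037
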