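import Groth.Statements.S7038
import Mathlib.RingTheory.Support
-- import your own Groth.Agent.* helpers here

set_option autoImplicit false
universe u
open LocCoh

namespace Groth.Agent.S7038

/-- For an ideal I of a commutative ring R and an R-module M, if every element of M is killed by a power
of I then the support of M is contained in the closed set V(I); conversely, when I is finitely
generated and the support of M is contained in V(I), every element of M is killed by a power of I.
(Finite generation is used only for the converse.) -/
theorem result {R : Type u} [CommRing R] (I : Ideal R)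
    (M : Type u) [AddCommGroup M] [Module R M] :
    (LocCoh.IsPowerTorsion I M → Module.support R M ⊆ PrimeSpectrum.zeroLocus (I : Set R)) ∧
    (I.FG → Module.support R M ⊆ PrimeSpectrum.zeroLocus (I : Set R) → LocCoh.IsPowerTorsion I M) := by
  constructor
  · intro hM p hp
    rw [Module.mem_support_iff'] at hp
    obtain ⟨m, hm⟩ := hp
    obtain ⟨n, hn⟩ := hM m
    intro a ha
    by_contra hap
    exact hm (a ^ n) (fun h => hap (p.isPrime.mem_of_pow_mem n h)) (hn _ (Ideal.pow_mem_pow ha n))
  · intro hfg hsupp m
    have h1 : I ≤ (Submodule.span R {m}).annihilator.radical := by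
      intro a ha
      rw [Ideal.radical_eq_sInf]
      refine Ideal.mem_sInf.mpr fun J ⟨hJ, hJp⟩ => ?_
      refine hsupp (a := (⟨J, hJp⟩ : PrimeSpectrum R)) (Module.mem_support_iff'.mpr ⟨m, ?_⟩) ha
      intro r hr h0
      exact hr (hJ ((Submodule.mem_annihilator_span_singleton m r).mpr h0))
    obtain ⟨n, hn⟩ := Ideal.exists_pow_le_of_le_radical_of_fg h1 hfg
    exact ⟨n, fun a ha => (Submodule.mem_annihilator_span_singleton m a).mp (hn ha)⟩


end Groth.Agent.S7038
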