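import Groth.Statements.S7039
-- import your own Groth.Agent.* helpers here

set_option autoImplicit false
universe u
open LocCoh

namespace Groth.Agent.S7039

/-- For a finitely generated ideal I of a commutative ring R and any R-module M, the quotient of M by
its submodule of I-power torsion elements has no nonzero element annihilated by I. -/
theorem result {R : Type u} [CommRing R] (I : Ideal R) (hI : I.FG)
    (M : Type u) [AddCommGroup M] [Module R M] :
    LocCoh.torsionBy I (M ⧸ DRing.torsionSub I M) = ⊥ := by
  rw [Submodule.eq_bot_iff]
  intro x hx
  induction x using Submodule.Quotient.induction_on with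
  | _ m =>
    rw [Submodule.mem_torsionBySet_iff] at hx
    rw [Submodule.Quotient.mk_eq_zero]
    classical
    obtain ⟨s, hs⟩ := hI
    have hmem : ∀ a ∈ s, ∃ n : ℕ, ∀ b ∈ I ^ n, b • (a • m) = 0 := fun a ha => by
      have := hx ⟨a, hs ▸ Ideal.subset_span ha⟩
      rw [← Submodule.Quotient.mk_smul, Submodule.Quotient.mk_eq_zero] at this
      exact this
    choose n hn using hmem
    let N := s.attach.sup fun a => n a.1 a.2
    refine ⟨N + 1, fun b hb => ?_⟩
    rw [pow_succ] at hb
    induction hb using Submodule.mul_induction_on' with
    | mem_mul_mem c hc a ha =>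
      rw [mul_smul]
      rw [← hs] at ha
      induction ha using Submodule.span_induction with
      | mem a ha =>
        exact hn a ha c (Ideal.pow_le_pow_right
          (Finset.le_sup (f := fun a : {x // x ∈ s} => n a.1 a.2) (Finset.mem_attach s ⟨a, ha⟩)) hc)
      | zero => simp
      | add x y _ _ hx hy => simp [add_smul, hx, hy]
      | smul r x _ hx => rw [smul_assoc, smul_comm, hx, smul_zero]
    | add x _ y _ hx hy => simp [add_smul, hx, hy]


end Groth.Agent.S7039
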