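import Groth.Statements.S7040
import Mathlib.Algebra.Homology.ShortComplex.ModuleCat
-- import your own Groth.Agent.* helpers here

set_option autoImplicit false
universe u
open CategoryTheory
open LocCoh

namespace Groth.Agent.S7040

/-- For a finitely generated ideal I of a commutative ring R, the property of being an I-power torsion
module (every element killed by a power of I) is a Serre class in the category of R-modules: it
holds for 0 and is closed under subobjects, quotients and extensions. -/
theorem result {R : Type u} [CommRing R] (I : Ideal R) (hI : I.FG) :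
    ObjectProperty.IsSerreClass (C := ModuleCat.{u} R) (fun M => LocCoh.IsPowerTorsion I M) := by
  refine { exists_zero := ?_, toIsClosedUnderSubobjects := ?_, toIsClosedUnderQuotients := ?_, toIsClosedUnderExtensions := ?_ }
  · exact ⟨ModuleCat.of R PUnit.{u+1}, ModuleCat.isZero_of_subsingleton _,
      fun m => ⟨0, fun a _ => Subsingleton.elim _ _⟩⟩
  · constructor
    intro X Y f hf hY m
    obtain ⟨n, hn⟩ := hY (f.hom m)
    refine ⟨n, fun a ha => ?_⟩
    have := (ModuleCat.mono_iff_injective f).mp hf
    exact this (by simp [hn a ha])
  · constructor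
    intro X Y f hf hX m
    obtain ⟨x, rfl⟩ := (ModuleCat.epi_iff_surjective f).mp hf m
    obtain ⟨n, hn⟩ := hX x
    exact ⟨n, fun a ha => by rw [← map_smul, hn a ha, map_zero]⟩
  · constructor
    intro S hS h1 h3 m
    classical
    obtain ⟨n, hn⟩ := h3 (S.g m)
    obtain ⟨s, hs⟩ := (Ideal.FG.pow hI (n := n))
    have hmem : ∀ a ∈ s, ∃ k : ℕ, ∀ b ∈ I ^ k, b • (a • m) = 0 := fun a ha => by
      have h0 : S.g (a • m) = 0 := by rw [map_smul]; exact hn a (hs ▸ Ideal.subset_span ha)
      obtain ⟨y, hy⟩ := ((ShortComplex.ShortExact.moduleCat_exact_iff_function_exact S).mp hS.exact _).mp h0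
      obtain ⟨k, hk⟩ := h1 y
      exact ⟨k, fun b hb => by rw [← hy, ← map_smul, hk b hb, map_zero]⟩
    choose k hk using hmem
    let K := s.attach.sup fun a => k a.1 a.2
    refine ⟨K + n, fun b hb => ?_⟩
    rw [pow_add] at hb
    induction hb using Submodule.mul_induction_on' with
    | mem_mul_mem c hc a ha =>
      rw [mul_smul]
      rw [← hs] at ha
      induction ha using Submodule.span_induction with
      | mem a ha =>
        exact hk a ha c (Ideal.pow_le_pow_right
          (Finset.le_sup (f := fun a : {x // x ∈ s} => k a.1 a.2) (Finset.mem_attach s ⟨a, ha⟩)) hc)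
      | zero => simp
      | add x y _ _ hx hy => simp [add_smul, hx, hy]
      | smul r x _ hx => rw [smul_assoc, smul_comm, hx, smul_zero]
    | add x _ y _ hx hy => simp [add_smul, hx, hy]


end Groth.Agent.S7040
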