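import Groth.Statements.S7041
import Mathlib.RingTheory.TensorProduct.Basic
import Mathlib.RingTheory.Ideal.Quotient.Operations
-- import your own Groth.Agent.* helpers here

set_option autoImplicit false
universe u
open TensorProduct
open LocCoh

namespace Groth.Agent.S7041

/-- Let R → R' be a homomorphism of commutative rings and I an ideal of R such that the induced map
R/I^n → R'/I^n R' is bijective for every n > 0. Then for every R-module M in which every element is
killed by a power of I, the map M → R' ⊗_R M sending m to 1 ⊗ m is bijective. -/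
theorem result {R R' : Type u} [CommRing R] [CommRing R'] [Algebra R R']
    (I : Ideal R)
    (hq : ∀ n : ℕ, 0 < n → Function.Bijective
      (Ideal.quotientMap (Ideal.map (algebraMap R R') (I ^ n)) (algebraMap R R') Ideal.le_comap_map))
    (M : Type u) [AddCommGroup M] [Module R M] (hM : LocCoh.IsPowerTorsion I M) :
    Function.Bijective (fun m : M => (1 : R') ⊗ₜ[R] m) := by
  classical
  have hcomap : ∀ n : ℕ, ∀ a : R, 0 < n → algebraMap R R' a ∈ (I ^ n).map (algebraMap R R') → a ∈ I ^ n := by
    intro n a hn ha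
    rw [← Ideal.Quotient.eq_zero_iff_mem]
    refine (hq n hn).1 ?_
    rw [map_zero, Ideal.quotientMap_mk, Ideal.Quotient.eq_zero_iff_mem]
    exact ha
  have hex : ∀ (n : ℕ), 0 < n → ∀ s : R', ∃ a : R, s - algebraMap R R' a ∈ (I ^ n).map (algebraMap R R') := by
    intro n hn s
    obtain ⟨a, ha⟩ := (hq n hn).2 (Ideal.Quotient.mk _ s)
    obtain ⟨a, rfl⟩ := Ideal.Quotient.mk_surjective a
    rw [Ideal.quotientMap_mk, Ideal.Quotient.eq] at ha
    exact ⟨a, by rw [← neg_sub]; exact neg_mem ha⟩
  -- killing exponents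
  have hkill : ∀ m : M, ∃ n : ℕ, 0 < n ∧ ∀ c ∈ I ^ n, c • m = 0 := fun m => by
    obtain ⟨n, hn⟩ := hM m
    exact ⟨n + 1, n.succ_pos, fun c hc => hn c (Ideal.pow_le_pow_right n.le_succ hc)⟩
  choose e he0 he using hkill
  choose γ hγ using fun (m : M) (s : R') => hex (e m) (he0 m) s
  let act : R' → M → M := fun s m => γ m s • m
  have key : ∀ (s : R') (m : M) (n : ℕ), 0 < n → (∀ c ∈ I ^ n, c • m = 0) → ∀ a : R,
      s - algebraMap R R' a ∈ (I ^ n).map (algebraMap R R') → act s m = a • m := by
    intro s m n hn hnm a ha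
    obtain ⟨c, hc⟩ := hex (max n (e m)) (lt_max_of_lt_left hn) s
    have h1 : ∀ k b, k ≤ max n (e m) → 0 < k → (∀ c ∈ I ^ k, c • m = 0) →
        s - algebraMap R R' b ∈ (I ^ k).map (algebraMap R R') → b • m = c • m := by
      intro k b hk hk0 hkm hb
      rw [← sub_eq_zero, ← sub_smul]
      refine hkm _ (hcomap k _ hk0 ?_)
      rw [map_sub, show algebraMap R R' b - algebraMap R R' c =
        (s - algebraMap R R' c) - (s - algebraMap R R' b) by ring]
      exact sub_mem (Ideal.map_mono (Ideal.pow_le_pow_right hk) hc) hb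
    exact (h1 _ _ (le_max_right _ _) (he0 m) (he m) (hγ m s)).trans
      (h1 n a (le_max_left _ _) hn hnm ha).symm
  let B : R' →ₗ[R] M →ₗ[R] M := LinearMap.mk₂ R act
    (fun s s' m => by
      rw [key (s + s') m (e m) (he0 m) (he m) (γ m s + γ m s') (by
        rw [map_add, add_sub_add_comm]; exact add_mem (hγ m s) (hγ m s')), add_smul])
    (fun r s m => by
      rw [key (r • s) m (e m) (he0 m) (he m) (r * γ m s) (by
        rw [map_mul, Algebra.smul_def, ← mul_sub]; exact Ideal.mul_mem_left _ _ (hγ m s)), mul_smul])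
    (fun s m m' => by
      obtain ⟨a, ha⟩ := hex (max (e m) (e m')) (lt_max_of_lt_left (b := e m) (c := e m') (he0 m)) s
      have h1 : ∀ c ∈ I ^ (max (e m) (e m')), c • m = 0 := fun c hc =>
        he m c (Ideal.pow_le_pow_right (le_max_left _ _) hc)
      have h2 : ∀ c ∈ I ^ (max (e m) (e m')), c • m' = 0 := fun c hc =>
        he m' c (Ideal.pow_le_pow_right (le_max_right _ _) hc)
      have h0 := lt_max_of_lt_left (c := e m') (he0 m)
      rw [key s m _ h0 h1 a ha, key s m' _ h0 h2 a ha,
        key s (m + m') _ h0 (fun c hc => by rw [smul_add, h1 c hc, h2 c hc, add_zero]) a ha, smul_add])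
    (fun r s m => by
      rw [key s (r • m) (e m) (he0 m) (fun c hc => by rw [smul_comm, he m c hc, smul_zero]) _ (hγ m s),
        smul_comm])
  let inv := TensorProduct.lift B
  have hinv : ∀ m, inv (1 ⊗ₜ[R] m) = m := fun m => by
    show act 1 m = m
    rw [key 1 m (e m) (he0 m) (he m) 1 (by simp), one_smul]
  refine ⟨Function.LeftInverse.injective (g := inv) hinv, fun z => ⟨inv z, ?_⟩⟩
  induction z with
  | zero => simp
  | add x y hx hy =>
    rw [map_add]
    exact (TensorProduct.tmul_add _ _ _).trans (congrArg₂ (· + ·) hx hy)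
  | tmul s m =>
    show (1 : R') ⊗ₜ[R] (γ m s • m) = s ⊗ₜ[R] m
    rw [← TensorProduct.smul_tmul, ← Algebra.algebraMap_eq_smul_one, eq_comm, ← sub_eq_zero,
      ← TensorProduct.sub_tmul]
    have hzero : ∀ z ∈ (I ^ e m).map (algebraMap R R'), z ⊗ₜ[R] m = 0 := by
      intro z hz
      rw [← Submodule.restrictScalars_mem R, ← Ideal.smul_top_eq_map] at hz
      refine Submodule.smul_induction_on hz (fun c hc y _ => ?_) fun a b ha hb => ?_
      · rw [TensorProduct.smul_tmul, he m c hc, TensorProduct.tmul_zero]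
      · rw [TensorProduct.add_tmul, ha, hb, add_zero]
    exact hzero _ (hγ m s)


end Groth.Agent.S7041
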