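import Groth.Statements.S7042
import Groth.Agent.Lib.DR.DComp.Crit
import Groth.Agent.Lib.DR.DComp.Module

set_option autoImplicit false
universe u
attribute [local instance] HasDerivedCategory.standard
open DRing

open Groth.Agent.Lib.DR.DComp

namespace Groth.Agent.S7042

/-- Let I be a finitely generated ideal of a commutative ring A and let M be an A-module which, placed
in degree 0, is derived complete with respect to I, and in which every element is killed by a power
of I. Then a single power of I kills M. -/
theorem result {A : Type u} [CommRing A]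
    (I : Ideal A) (hI : I.FG) (M : Type u) [AddCommGroup M] [Module A M]
    (hc : DRing.IsDerivedComplete I (Dual.inD A M)) (ht : LocCoh.IsPowerTorsion I M) :
    ∃ n : ℕ, I ^ n • (⊤ : Submodule A M) = ⊥ := by
  rw [isDerivedComplete_inD_iff] at hc
  classical
  obtain ⟨s, rfl⟩ := hI
  have : ∀ f ∈ s, ∃ N : ℕ, ∀ m : M, f ^ N • m = 0 := fun f hf =>
    exists_pow_smul_eq_zero (hc f (Ideal.subset_span hf)) fun m => by
      obtain ⟨n, hn⟩ := ht m
      exact ⟨n, hn _ (Ideal.pow_mem_pow (Ideal.subset_span hf) n)⟩
  choose! N hN using this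
  refine ⟨s.card * s.sup N + 1, eq_bot_iff.2 ((Submodule.smul_mono_left (pow_le_powSpan s _)).trans ?_)⟩
  rw [Submodule.smul_le]
  intro r hr x _
  rw [Submodule.mem_bot]
  induction hr using Submodule.span_induction with
  | mem r hr =>
    obtain ⟨f, hf, rfl⟩ := hr
    show f ^ s.sup N • x = 0
    rw [← Nat.sub_add_cancel (Finset.le_sup (f := N) hf), pow_add, mul_smul, hN f hf, smul_zero]
  | zero => exact zero_smul _ _
  | add a b _ _ ha hb => rw [add_smul, ha, hb, add_zero]
  | smul a b _ hb => rw [smul_assoc, hb, smul_zero]

end Groth.Agent.S7042
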