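import Groth.Statements.S7043
import Groth.Agent.Lib.DR.DComp.Crit
import Groth.Agent.Lib.DR.DComp.Module

set_option autoImplicit false
universe u
attribute [local instance] HasDerivedCategory.standard
open DRing

open Groth.Agent.Lib.DR.DComp

namespace Groth.Agent.S7043

/-- Let f be an element of a commutative ring A and let M be an A-module which, placed in degree 0, is
derived complete with respect to the ideal (f). Then the ideal J = ⋂ f^n A annihilates the submodule
⋂ f^n M, which is the kernel of M → lim M/f^n M. (The case M = A says that J has square zero when A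
itself is derived complete.) -/
theorem result {A : Type u} [CommRing A] (f : A)
    (M : Type u) [AddCommGroup M] [Module A M]
    (hc : DRing.IsDerivedComplete (Ideal.span {f}) (Dual.inD A M)) :
    (⨅ n : ℕ, Ideal.span {f ^ n}) • (⨅ n : ℕ, (Ideal.span {f ^ n}) • (⊤ : Submodule A M)) = (⊥ : Submodule A M) := by
  rw [isDerivedComplete_inD_iff] at hc
  rw [eq_bot_iff, Submodule.smul_le]
  intro r hr x hx
  rw [Submodule.mem_bot]
  refine smul_eq_zero_of_mem_iInf (hc f (Ideal.mem_span_singleton_self f)) (fun n => ?_) fun n => ?_
  · obtain ⟨c, hc'⟩ := Ideal.mem_span_singleton'.1 ((Submodule.mem_iInf _).1 hr n)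
    exact ⟨c, by rw [mul_comm, hc']⟩
  · have h := (Submodule.mem_iInf _).1 hx n
    rw [Submodule.ideal_span_singleton_smul] at h
    obtain ⟨y, -, hy⟩ := h
    exact ⟨y, hy⟩

end Groth.Agent.S7043
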