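import Groth.Statements.S7047
import Groth.Agent.Lib.DR.DComp.Crit

set_option autoImplicit false
universe u
attribute [local instance] HasDerivedCategory.standard
open DRing

open Groth.Agent.Lib.DR.DComp

namespace Groth.Agent.S7047

/-- For a commutative ring A and an object K of D(A), the set of elements f of A such that every
morphism from A_f (placed in degree 0) to any shift K[n] vanishes is a radical ideal of A. -/
theorem result {A : Type u} [CommRing A] (K : Dual.D A) :
    ∃ J : Ideal A, J.IsRadical ∧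
      (J : Set A) = {f : A | ∀ n : ℤ, Subsingleton (Dual.inD A (Localization.Away f) ⟶ K⟦n⟧)} := by
  refine ⟨⨅ i : ℤ, dcIdeal A (Dual.HD A K i), ?_, Set.ext fun f => ?_⟩
  · intro f ⟨n, hn⟩
    exact (Submodule.mem_iInf _).2 fun i => isRadical_dcIdeal ⟨n, (Submodule.mem_iInf _).1 hn i⟩
  · show f ∈ (⨅ i : ℤ, dcIdeal A (Dual.HD A K i)) ↔ ∀ n : ℤ, _
    simp only [Submodule.mem_iInf, subsingleton_hom_shift_iff, mem_dcIdeal]
    refine ⟨fun h n => ⟨(h n).1, (h (n - 1)).2⟩, fun h i => ⟨(h i).1, ?_⟩⟩
    have := (h (i + 1)).2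
    rwa [add_sub_cancel_right] at this

end Groth.Agent.S7047
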