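import Groth.Statements.S7054
import Groth.Agent.Lib.DR.DComp.Crit

set_option autoImplicit false
universe u
attribute [local instance] HasDerivedCategory.standard
open DRing

open Groth.Agent.Lib.DR.DComp

namespace Groth.Agent.S7054

/-- For a commutative ring A and an ideal I such that A, placed in degree 0, is derived complete with
respect to I, every object of D(A) isomorphic to a bounded above complex of finite free A-modules is
derived complete with respect to I. -/
theorem result {A : Type u} [CommRing A] (I : Ideal A)
    (hA : DRing.IsDerivedComplete I (Dual.inD A A)) (K : Dual.D A) (hK : DRing.IsPseudoCoherent' A K) :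
    DRing.IsDerivedComplete I K := by
  obtain ⟨E, b, -, hff, ⟨e⟩⟩ := hK
  rw [isDerivedComplete_inD_iff] at hA
  rw [isDerivedComplete_iff]
  intro f hf i
  have hX : ∀ j, DC f (E.X j) := fun j =>
    have := (hff j).1
    have := (hff j).2
    dc_of_finite_free (hA f hf) _
  exact (dc_homology E i (hX _) (hX _) (hX _)).congr
    ((Groth.Agent.Lib.RGamma.hdIso E i).symm ≪≫
      (DerivedCategory.homologyFunctor (ModuleCat.{u} A) i).mapIso e).toLinearEquiv

end Groth.Agent.S7054
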