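import Groth.Statements.S7058
import Groth.Agent.Lib.DR.DComp.Completion

set_option autoImplicit false
universe u
attribute [local instance] HasDerivedCategory.standard
open CategoryTheory
open DRing

open Groth.Agent.Lib.DR.DComp Groth.Agent.Lib.RGamma

namespace Groth.Agent.S7058

/-- Let A be a commutative ring, I a finitely generated ideal, and assume the derived completion functor
(left adjoint to the inclusion of derived complete objects of D(A)) exists. If K is a cochain
complex of A-modules and some f in I acts bijectively on every term of K, then the derived
completion of K is zero. -/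
theorem result {A : Type u} [CommRing A] (I : Ideal A) (hI : I.FG)
    [DRing.HasDerivedCompletion I] (K : DRing.Cx A) (f : A) (hf : f ∈ I)
    (hK : ∀ i : ℤ, Function.Bijective (fun x : K.X i => f • x)) :
    Limits.IsZero ((DRing.derivedCompletion I).obj (DRing.toD K)).obj := by
  have h := pBij_toDerivedCompletion' (I := I) (DRing.toD K)
  have hc := isDerivedComplete_completion (I := I) (DRing.toD K)
  rw [Limits.IsZero.iff_id_eq_zero]
  apply (h _ hc).1
  show DRing.toDerivedCompletion I (DRing.toD K) ≫ 𝟙 _ = _
  rw [perp_of_bijective f hf K hK _ hc (DRing.toDerivedCompletion I (DRing.toD K)), Limits.zero_comp]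
  exact Limits.zero_comp.symm

end Groth.Agent.S7058
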