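import Groth.Statements.S7059
import Groth.Agent.Lib.DR.DComp.PowerSeries
import Groth.Agent.Lib.DR.DComp.Crit
import Mathlib.RingTheory.AdicCompletion.Completeness
import Mathlib.RingTheory.AdicCompletion.Functoriality

set_option autoImplicit false
universe u
attribute [local instance] HasDerivedCategory.standard
open DRing

open Groth.Agent.Lib.DR.DComp

namespace Groth.Agent.S7059

/-- Let A be a Noetherian commutative ring, I an ideal and M an A-module which, placed in degree 0 of
D(A), is derived complete with respect to I. If M/IM is a finite module, then M is I-adically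
complete, and M (identified with its I-adic completion) is a finite module over the I-adic
completion of A. -/
theorem result {A : Type u} [CommRing A]
    [IsNoetherianRing A] (I : Ideal A) (M : Type u) [AddCommGroup M] [Module A M]
    (hc : DRing.IsDerivedComplete I (Dual.inD A M))
    (hf : Module.Finite A (M ⧸ I • (⊤ : Submodule A M))) :
    IsAdicComplete I M ∧ Module.Finite (AdicCompletion I A) (AdicCompletion I M) := by
  rw [isDerivedComplete_inD_iff] at hc
  obtain ⟨s, rfl⟩ := IsNoetherian.noetherian I
  have hH : IsHausdorff (Ideal.span (s : Set A)) M :=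
    isHausdorff_of_finite_quotient s (fun f hf => hc f (Ideal.subset_span hf)) hf
  have hP := isPrecomplete_of_dc ⟨s, rfl⟩ hc
  have hM : IsAdicComplete (Ideal.span (s : Set A)) M := { toIsHausdorff := hH, toIsPrecomplete := hP }
  refine ⟨hM, ?_⟩
  obtain ⟨n, π, hπ⟩ := Module.Finite.exists_fin' A (M ⧸ Ideal.span (s : Set A) • (⊤ : Submodule A M))
  choose g hg using fun i => Submodule.Quotient.mk_surjective _ (π (Pi.single i 1))
  let G : (Fin n → A) →ₗ[A] M := Fintype.linearCombination A g
  have hG : Function.Surjective (Submodule.mkQ (Ideal.span (s : Set A) • (⊤ : Submodule A M)) ∘ₗ G) := fun q => by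
    obtain ⟨c, rfl⟩ := hπ q
    refine ⟨c, ?_⟩
    have e : Submodule.mkQ (Ideal.span (s : Set A) • (⊤ : Submodule A M)) ∘ₗ G = π := by
      refine LinearMap.pi_ext fun i x => ?_
      simp only [G, LinearMap.comp_apply, Fintype.linearCombination_apply_single, map_smul, Submodule.mkQ_apply, hg]
      rw [← map_smul]
      congr 1
      funext j
      simp [Pi.single_apply]
    exact LinearMap.congr_fun e c
  have hs' := AdicCompletion.map_surjective_of_mkQ_comp_surjective (I := Ideal.span (s : Set A)) hG
  have hfin : Module.Finite (AdicCompletion (Ideal.span (s : Set A)) A)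
      (AdicCompletion (Ideal.span (s : Set A)) (Fin n → A)) :=
    Module.Finite.equiv (AdicCompletion.piEquivFin (Ideal.span (s : Set A)) n).symm
  exact Module.Finite.of_surjective (AdicCompletion.map (Ideal.span (s : Set A)) G) hs' 

end Groth.Agent.S7059
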