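import Groth.Statements.S7061
import Groth.Agent.Lib.DR.DComp.Classical

set_option autoImplicit false
universe u
attribute [local instance] HasDerivedCategory.standard
open TensorProduct
open CategoryTheory
open DRing

open Groth.Agent.Lib Groth.Agent.Lib.DR CategoryTheory.Limits

namespace Groth.Agent.S7061

/-- Let A be a Noetherian commutative ring and I an ideal, and assume the derived completion functor
exists. For a finite A-module M and a flat A-module N, the derived completion of M ⊗_A N (placed in
degree 0) has vanishing cohomology in every nonzero degree, and there is an A-linear isomorphism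
from its degree-0 cohomology to the I-adic completion of M ⊗_A N which carries the map M ⊗_A N =
H^0((M ⊗_A N)[0]) → H^0(((M ⊗_A N)[0])^∧) induced by the canonical morphism to the derived
completion to the canonical map from M ⊗_A N to its I-adic completion. -/
theorem result {A : Type u} [CommRing A] [IsNoetherianRing A]
    (I : Ideal A) [DRing.HasDerivedCompletion I]
    (M N : Type u) [AddCommGroup M] [Module A M] [Module.Finite A M] [AddCommGroup N] [Module A N] [Module.Flat A N] :
    (∀ i : ℤ, i ≠ 0 → Subsingleton (Dual.HD A ((DRing.derivedCompletion I).obj (Dual.inD A (M ⊗[A] N))).obj i)) ∧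
      ∃ e : Dual.HD A ((DRing.derivedCompletion I).obj (Dual.inD A (M ⊗[A] N))).obj 0 ≃ₗ[A]
          AdicCompletion I (M ⊗[A] N),
        ∀ x : M ⊗[A] N,
          e ((((DerivedCategory.singleFunctorCompHomologyFunctorIso (ModuleCat.{u} A) 0).inv.app
                (ModuleCat.of A (M ⊗[A] N))) ≫
              (DerivedCategory.homologyFunctor (ModuleCat.{u} A) 0).map
                (DRing.toDerivedCompletion I (Dual.inD A (M ⊗[A] N)))).hom x) =
            AdicCompletion.of I (M ⊗[A] N) x := by

  let X := Dual.inD A (M ⊗[A] N)
  have hsub : ∀ i : ℤ, i ≠ 0 → Subsingleton (Dual.HD A X i) := fun i hi => by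
    refine ModuleCat.subsingleton_of_isZero (IsZero.of_iso ?_
      ((DerivedCategory.homologyFunctor (ModuleCat.{u} A) i).mapIso
        ((DerivedCategory.singleFunctorIsoCompQ (ModuleCat.{u} A) 0).app (ModuleCat.of A (M ⊗[A] N))) ≪≫
        RGamma.hdIso _ i))
    exact (HomologicalComplex.ExactAt.of_isZero
      (HomologicalComplex.isZero_single_obj_X (ComplexShape.up ℤ) (0 : ℤ) _ i hi)).isZero_homology
  let ι := ((DerivedCategory.singleFunctorCompHomologyFunctorIso (ModuleCat.{u} A) 0).app
    (ModuleCat.of A (M ⊗[A] N))).symm.toLinearEquiv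
  have h : ∀ i, DComp.AR A (Dual.HD A X i) ∧ DComp.Bd A (Dual.HD A X i) := fun i => by
    by_cases hi : i = 0
    · subst hi
      exact ⟨DComp.ar_tensor.congr ι, DComp.bd_tensor.congr ι⟩
    · have := hsub i hi
      exact ⟨fun J g k => ⟨0, fun y _ => ⟨0, zero_mem _, Subsingleton.elim _ _⟩⟩,
        fun g => ⟨0, fun n x _ => Subsingleton.elim _ _⟩⟩
  have hI := IsNoetherian.noetherian I
  refine ⟨fun i hi => ?_, ?_⟩
  · obtain ⟨e, -⟩ := DComp.exists_equiv_adicCompletion hI X h i
    have := hsub i hi
    have : Subsingleton (AdicCompletion I (Dual.HD A X i)) :=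
      ⟨fun a b => AdicCompletion.ext fun n => Subsingleton.elim _ _⟩
    exact e.toEquiv.subsingleton
  · obtain ⟨e, he⟩ := DComp.exists_equiv_adicCompletion hI X h 0
    refine ⟨e.trans ((AdicCompletion.congr I ι).symm.restrictScalars A), fun x => ?_⟩
    have he' := he (ι x)
    show (AdicCompletion.congr I ι).symm _ = _
    rw [LinearEquiv.symm_apply_eq]
    exact he'


end Groth.Agent.S7061
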