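import Groth.Statements.S7063
import Groth.Agent.H48.GlueTor

set_option autoImplicit false
universe u
open EtGlue

namespace Groth.Agent.S7063

/-- For a glueing pair (R → R', f), the group Tor_1^R(R', R/R[f^∞]) vanishes, where R[f^∞] is the
submodule of elements of R killed by a power of f (Tor computed by resolving the second argument). -/
theorem result {R R' : Type u} [CommRing R] [CommRing R']
    [Algebra R R'] (f : R) (h : EtGlue.IsGlueingPair R R' f) :
    Subsingleton (DRing.Tor R 1 R' (R ⧸ DRing.torsionSub (Ideal.span ({f} : Set R)) R)) := by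
  set T := DRing.torsionSub (Ideal.span ({f} : Set R)) R
  have hloc : Module.Flat R (LocalizedModule (Submonoid.powers f) (R ⧸ T)) := by
    haveI : Module.Flat R (LocalizedModule (Submonoid.powers f) R) := inferInstance
    let G := IsLocalizedModule.map (Submonoid.powers f)
      (LocalizedModule.mkLinearMap (Submonoid.powers f) R)
      (LocalizedModule.mkLinearMap (Submonoid.powers f) (R ⧸ T)) T.mkQ
    have hG : Function.Bijective G := by
      refine ⟨?_, IsLocalizedModule.map_surjective _ _ _ _ T.mkQ_surjective⟩
      rw [injective_iff_map_eq_zero]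
      intro z hz
      obtain ⟨⟨m, s⟩, hs⟩ := IsLocalizedModule.surj (Submonoid.powers f)
        (LocalizedModule.mkLinearMap (Submonoid.powers f) R) z
      have h0 : LocalizedModule.mkLinearMap (Submonoid.powers f) (R ⧸ T) (T.mkQ m) = 0 := by
        rw [← IsLocalizedModule.map_apply (Submonoid.powers f)
          (LocalizedModule.mkLinearMap (Submonoid.powers f) R)
          (LocalizedModule.mkLinearMap (Submonoid.powers f) (R ⧸ T)) T.mkQ m, ← hs,
          Submonoid.smul_def, map_smul, hz, smul_zero]
      obtain ⟨⟨_, a, rfl⟩, ha⟩ := (IsLocalizedModule.eq_zero_iff (Submonoid.powers f) _).1 h0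
      rw [Submonoid.smul_def, ← map_smul, Submodule.mkQ_apply, Submodule.Quotient.mk_eq_zero] at ha
      obtain ⟨b, hb⟩ := ha
      have h1 : LocalizedModule.mkLinearMap (Submonoid.powers f) R m = 0 := by
        refine (IsLocalizedModule.eq_zero_iff (Submonoid.powers f) _).2
          ⟨⟨f ^ (b + a), b + a, rfl⟩, ?_⟩
        change f ^ (b + a) • m = 0
        rw [pow_add, mul_smul]
        exact hb _ (Ideal.pow_mem_pow (Ideal.mem_span_singleton_self f) b)
      rw [h1] at hs
      exact (Module.End.isUnit_iff _).1 (IsLocalizedModule.map_units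
        (LocalizedModule.mkLinearMap (Submonoid.powers f) R) s) |>.1 (hs.trans (map_zero _).symm)
    exact Module.Flat.of_linearEquiv (LinearEquiv.ofBijective G hG).symm
  exact Groth.Agent.H48.subsingleton_tor_one_of_isGlueingPair h _

end Groth.Agent.S7063
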