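import Groth.Statements.S7065
import Mathlib.RingTheory.Spectrum.Prime.Topology

set_option autoImplicit false
set_option linter.style.haveILetI false
set_option linter.style.haveILetI false
universe u
open EtGlue

namespace Groth.Agent.S7065

/-- Let R → R' be a homomorphism of commutative rings and f an element of R such that the induced map
R/fR → R'/fR' is bijective. Then Spec(R') ⊔ Spec(R_f) → Spec(R) is surjective: every prime of R is
the contraction of a prime of R' or of a prime of R_f. -/
theorem result {R R' : Type u} [CommRing R] [CommRing R']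
    [Algebra R R'] (f : R)
    (hq : Function.Bijective
      (Ideal.quotientMap (Ideal.map (algebraMap R R') (Ideal.span {f})) (algebraMap R R') Ideal.le_comap_map))
    (p : PrimeSpectrum R) :
    (∃ q : PrimeSpectrum R', PrimeSpectrum.comap (algebraMap R R') q = p) ∨
      ∃ q : PrimeSpectrum (Localization.Away f), PrimeSpectrum.comap (algebraMap R (Localization.Away f)) q = p := by
  by_cases hp : f ∈ p.asIdeal
  · left
    let e := RingEquiv.ofBijective _ hq
    let g : R' →+* R ⧸ Ideal.span {f} := e.symm.toRingHom.comp (Ideal.Quotient.mk _)
    have hg : g.comp (algebraMap R R') = Ideal.Quotient.mk (Ideal.span {f}) := by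
      ext x
      exact (RingEquiv.symm_apply_eq e).2 rfl
    have hle : Ideal.span {f} ≤ p.asIdeal := (Ideal.span_singleton_le_iff_mem _).2 hp
    have hprime : (p.asIdeal.map (Ideal.Quotient.mk (Ideal.span {f}))).IsPrime :=
      Ideal.map_isPrime_of_surjective Ideal.Quotient.mk_surjective (by rw [Ideal.mk_ker]; exact hle)
    refine ⟨PrimeSpectrum.comap g ⟨_, hprime⟩, PrimeSpectrum.ext ?_⟩
    show ((p.asIdeal.map (Ideal.Quotient.mk (Ideal.span {f}))).comap g).comap (algebraMap R R') = _
    rw [Ideal.comap_comap, hg, Ideal.comap_map_of_surjective _ Ideal.Quotient.mk_surjective,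
      ← RingHom.ker_eq_comap_bot, Ideal.mk_ker, sup_eq_left.2 hle]
  · right
    refine Set.mem_range.1 ?_
    rw [PrimeSpectrum.localization_away_comap_range (Localization.Away f) f]
    exact hp

end Groth.Agent.S7065
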