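import Groth.Statements.S7075
import Groth.Agent.H56.RelPC.RelPerfBC

set_option autoImplicit false
universe u
attribute [local instance] HasDerivedCategory.standard
open TensorProduct
open Dual2

namespace Groth.Agent.S7075

/-- Let R → A be a flat homomorphism of finite presentation of commutative rings, R → R' any ring map
and A' = R' ⊗_R A. If K in D(A) is R-perfect then its derived base change K ⊗^L_A A' (the total left
derived functor of extension of scalars, assumed to exist) is R'-perfect in D(A'). -/
theorem result (R A R' : Type u) [CommRing R] [CommRing A] [Algebra R A] [CommRing R'] [Algebra R R']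
    [Module.Flat R A] [Algebra.FinitePresentation R A]
    [DRing.HasLBaseChange (Algebra.TensorProduct.includeRight.toRingHom : A →+* R' ⊗[R] A)]
    (K : Dual.D A) (hK : Dual2.IsRelPerfect R A K) :
    Dual2.IsRelPerfect R' (R' ⊗[R] A)
      ((DRing.LBaseChange (Algebra.TensorProduct.includeRight.toRingHom : A →+* R' ⊗[R] A)).obj K) := by
  exact Groth.Agent.H56.RelPC.RelPerfBC.isRelPerfect_LBaseChange R A R' K hK

end Groth.Agent.S7075
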