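import Groth.Statements.S7077
import Groth.Agent.Lib.DR.ProjAmp

set_option autoImplicit false
universe u
attribute [local instance] HasDerivedCategory.standard
open CategoryTheory
open DRing

open Groth.Agent.Lib.DR.Basic Groth.Agent.Lib.DR.FiniteComplex Groth.Agent.Lib.DR.PseudoCoherent Groth.Agent.Lib.DR.TopCohomology
open CategoryTheory CategoryTheory.Limits CategoryTheory.Pretriangulated Groth.Agent.Lib.DR.Representative Groth.Agent.Lib.DR.ProjAmp Groth.Agent.Lib.DR.Amplitude

namespace Groth.Agent.S7077

/-- (1)⇔(2): let R be a commutative ring and K an object of D(R) whose cohomology modules vanish outside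
degrees -1 and 0. Then H^{-1}(K) vanishes and H^0(K) is a projective R-module if and only if
Ext^1_R(K, M) = Hom_{D(R)}(K, M[1]) vanishes for every R-module M. -/
theorem result {R : Type u} [CommRing R] (K : Dual.D R)
    (hK : ∀ i : ℤ, i ≠ -1 → i ≠ 0 → Subsingleton (Dual.HD R K i)) :
    (Subsingleton (Dual.HD R K (-1)) ∧ Module.Projective R (Dual.HD R K 0)) ↔
      ∀ (M : Type u) [AddCommGroup M] [Module R M], Subsingleton (K ⟶ (Dual.inD R M)⟦(1 : ℤ)⟧) := by
  have hle : DerivedCategory.IsLE K 0 :=
    (isLE_iff_subsingleton K 0).2 fun i hi => hK i (by lia) (by lia)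
  refine ⟨fun ⟨h1, h0⟩ M _ _ => ?_, fun h => ?_⟩
  · refine (subsingleton_ext_iff K M 1).2 ?_
    have hge : DerivedCategory.IsGE K 0 := (isGE_iff_subsingleton K 0).2 fun i hi => by
      by_cases h : i = -1
      · exact h ▸ h1
      · exact hK i h (by lia)
    obtain ⟨N, ⟨e⟩⟩ := DerivedCategory.exists_iso_singleFunctor_obj_of_isGE_of_isLE K 0
    have : Module.Projective R N := Module.Projective.of_equiv
      ((DerivedCategory.homologyFunctor (ModuleCat.{u} R) 0).mapIso e ≪≫ homologySingle N 0).toLinearEquiv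
    exact subsingleton_hom_single_of_bdd (P := proj R) projective_of_proj
      ((bdd_single good_proj (P := proj R) this 0).of_iso e.symm) _ _ (by lia)
  · have hh : Bdd (proj R) 0 0 K := by
      refine bdd_proj_of_hom ((isGE_iff_subsingleton K (0 - 1)).2 fun i hi => hK i (by lia) (by lia))
        hle fun N => ?_
      exact (subsingleton_ext_iff K N 1).1 (h N)
    refine ⟨(isGE_iff_subsingleton K 0).1 hh.isGE (-1) (by lia), ?_⟩
    obtain ⟨E, hE, hp, ⟨e⟩⟩ := hh
    have : CochainComplex.IsStrictlyGE E 0 := (E.isStrictlyGE_iff 0).2 fun i hi => hE i (Or.inl hi)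
    have : CochainComplex.IsStrictlyLE E 0 := (E.isStrictlyLE_iff 0).2 fun i hi => hE i (Or.inr hi)
    obtain ⟨N, ⟨e'⟩⟩ := CochainComplex.exists_iso_single E 0
    let e'' : E ≅ (HomologicalComplex.single (ModuleCat.{u} R) (ComplexShape.up ℤ) 0).obj N := e'
    have : Module.Projective R N := good_proj.iso
      (HomologicalComplex.Hom.isoApp e'' 0 ≪≫
        HomologicalComplex.singleObjXSelf (ComplexShape.up ℤ) 0 N) (hp 0)
    exact Module.Projective.of_equiv ((DerivedCategory.homologyFunctor (ModuleCat.{u} R) 0).mapIso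
      (e.symm ≪≫ DerivedCategory.Q.mapIso e' ≪≫
        ((DerivedCategory.singleFunctorIsoCompQ _ 0).app N).symm) ≪≫
      homologySingle N 0).symm.toLinearEquiv

end Groth.Agent.S7077
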