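import Groth.Statements.S7078
import Groth.Agent.Lib.DR.ProjAmp

set_option autoImplicit false
universe u
attribute [local instance] HasDerivedCategory.standard
open CategoryTheory
open DRing

open Groth.Agent.Lib.DR.Basic Groth.Agent.Lib.DR.FiniteComplex Groth.Agent.Lib.DR.PseudoCoherent Groth.Agent.Lib.DR.TopCohomology
open CategoryTheory CategoryTheory.Limits CategoryTheory.Pretriangulated Groth.Agent.Lib.DR.Representative Groth.Agent.Lib.DR.ProjAmp Groth.Agent.Lib.DR.Amplitude

namespace Groth.Agent.S7078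

/-- For a commutative ring R and an object K of D(R) whose cohomology modules vanish outside degrees -1
and 0, K is represented by a two-term complex K^{-1} → K^0 with K^0 a free R-module. -/
theorem result {R : Type u} [CommRing R] (K : Dual.D R)
    (hK : ∀ i : ℤ, i ≠ -1 → i ≠ 0 → Subsingleton (Dual.HD R K i)) :
    ∃ E : DRing.Cx R, DRing.VanishesOutside E (-1) 0 ∧ Module.Free R (E.X 0) ∧ Nonempty (DRing.toD E ≅ K) := by
  have hle : DerivedCategory.IsLE K 0 :=
    (isLE_iff_subsingleton K 0).2 fun i hi => hK i (by lia) (by lia)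
  have hge : DerivedCategory.IsGE K (-1) :=
    (isGE_iff_subsingleton K (-1)).2 fun i hi => hK i (by lia) (by lia)
  have hba : BA (free R) 0 K := ba_free hle
  obtain ⟨E, hb, hp, ⟨e⟩⟩ := hba
  have : CochainComplex.IsGE E (-1) :=
    (DerivedCategory.isGE_Q_obj_iff E (-1)).1 (isGE_of_iso' e.symm hge)
  have : QuasiIso (CochainComplex.πTruncGE E (-1)) := (E.quasiIso_πTruncGE_iff (-1)).2 inferInstance
  have hX := E.truncGEXIso (-1) 0 (by lia)
  refine ⟨E.truncGE (-1), fun i hi => ?_, (have : Module.Free R (E.X 0) := hp 0; Module.Free.of_equiv hX.symm.toLinearEquiv),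
    ⟨(asIso (DerivedCategory.Q.map (CochainComplex.πTruncGE E (-1)))).symm ≪≫ e⟩⟩
  rcases hi with hi | hi
  · exact (E.truncGE (-1)).isZero_of_isStrictlyGE (-1) i hi
  · exact (hb i hi).of_iso (E.truncGEXIso (-1) i (by lia))

end Groth.Agent.S7078
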