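import Groth.Statements.S7079
import Groth.Agent.Lib.DR.ProjAmp
import Groth.Agent.Lib.DR.Coherent

set_option autoImplicit false
universe u
attribute [local instance] HasDerivedCategory.standard
open CategoryTheory
open DRing

open Groth.Agent.Lib.DR.Basic Groth.Agent.Lib.DR.FiniteComplex Groth.Agent.Lib.DR.PseudoCoherent Groth.Agent.Lib.DR.TopCohomology
open CategoryTheory CategoryTheory.Limits CategoryTheory.Pretriangulated Groth.Agent.Lib.DR.Representative Groth.Agent.Lib.DR.ProjAmp Groth.Agent.Lib.DR.Amplitude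

namespace Groth.Agent.S7079

/-- For a Noetherian commutative ring R and an object K of D(R) whose cohomology modules vanish outside
degrees -1 and 0 and are finite modules in those two degrees, K is represented by a two-term complex
K^{-1} → K^0 with K^0 finite free and K^{-1} finite. -/
theorem result {R : Type u} [CommRing R] [IsNoetherianRing R] (K : Dual.D R)
    (hK : ∀ i : ℤ, i ≠ -1 → i ≠ 0 → Subsingleton (Dual.HD R K i))
    (h1 : Module.Finite R (Dual.HD R K (-1))) (h0 : Module.Finite R (Dual.HD R K 0)) :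
    ∃ E : DRing.Cx R, DRing.VanishesOutside E (-1) 0 ∧ Module.Free R (E.X 0) ∧ Module.Finite R (E.X 0) ∧
      Module.Finite R (E.X (-1)) ∧ Nonempty (DRing.toD E ≅ K) := by
  have hle : DerivedCategory.IsLE K 0 :=
    (isLE_iff_subsingleton K 0).2 fun i hi => hK i (by lia) (by lia)
  have hge : DerivedCategory.IsGE K (-1) :=
    (isGE_iff_subsingleton K (-1)).2 fun i hi => hK i (by lia) (by lia)
  have hfin : ∀ i, Module.Finite R (Dual.HD R K i) := fun i => by
    by_cases ha : i = -1
    · exact ha ▸ h1
    by_cases hb : i = 0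
    · exact hb ▸ h0
    have := hK i ha hb
    exact finite_of_subsingleton' _
  have hm1 : ∀ E : DRing.Cx R, (∀ i, ff R (E.X i)) →
      Module.Finite R ((CochainComplex.truncGE E (-1)).X (-1)) := fun E hp => by
    have := (hp (-1)).1
    have : Module.Finite R ↑(HomologicalComplex.opcycles E (-1) : ModuleCat.{u} R) :=
      Module.Finite.of_surjective (E.pOpcycles (-1)).hom ((ModuleCat.epi_iff_surjective _).1 inferInstance)
    exact Module.Finite.equiv (E.truncGEXIsoOpcycles (-1)).symm.toLinearEquiv
  have hba : BA (ff R) 0 K := ba_ff_of_forall (fun m =>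
    Groth.Agent.Lib.DR.Coherent.pcn_of_finitePresentation_homology
      Groth.Agent.Lib.DR.Coherent.isCoh_of_isNoetherianRing hle (hfin m)
      fun i _ => have := hfin i; Module.finitePresentation_of_finite _ _) hle
  obtain ⟨E, hb, hp, ⟨e⟩⟩ := hba
  have : CochainComplex.IsGE E (-1) :=
    (DerivedCategory.isGE_Q_obj_iff E (-1)).1 (isGE_of_iso' e.symm hge)
  have : QuasiIso (CochainComplex.πTruncGE E (-1)) := (E.quasiIso_πTruncGE_iff (-1)).2 inferInstance
  have hX := E.truncGEXIso (-1) 0 (by lia)
  refine ⟨E.truncGE (-1), fun i hi => ?_, (have : Module.Free R (E.X 0) := (hp 0).2; Module.Free.of_equiv hX.symm.toLinearEquiv), (have := (hp 0).1; Module.Finite.equiv hX.symm.toLinearEquiv),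
    hm1 E hp,
    ⟨(asIso (DerivedCategory.Q.map (CochainComplex.πTruncGE E (-1)))).symm ≪≫ e⟩⟩
  rcases hi with hi | hi
  · exact (E.truncGE (-1)).isZero_of_isStrictlyGE (-1) i hi
  · exact (hb i hi).of_iso (E.truncGEXIso (-1) i (by lia))

end Groth.Agent.S7079
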