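import Groth.Statements.S7081
import Groth.Agent.Lib.DR.TwoTerm

set_option autoImplicit false
universe u
attribute [local instance] HasDerivedCategory.standard
open CategoryTheory
open DRing

open Groth.Agent.Lib.DR.Basic Groth.Agent.Lib.DR.FiniteComplex Groth.Agent.Lib.DR.PseudoCoherent Groth.Agent.Lib.DR.TopCohomology
open CategoryTheory CategoryTheory.Limits CategoryTheory.Pretriangulated
open Groth.Agent.Lib.DR.TwoTerm

namespace Groth.Agent.S7081

/-- Let R be a commutative ring and φ : K₁ → K₂, ψ : K₂ → K₃ morphisms in D(R) between objects whose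
cohomology vanishes outside degrees -1 and 0. If φ induces the zero map on H^0 and ψ induces the
zero map on H^{-1}, then the composite K₁ → K₃ is zero. -/
theorem result {R : Type u} [CommRing R] {K₁ K₂ K₃ : Dual.D R}
    (φ : K₁ ⟶ K₂) (ψ : K₂ ⟶ K₃)
    (h₁ : ∀ i : ℤ, i ≠ -1 → i ≠ 0 → Subsingleton (Dual.HD R K₁ i))
    (h₂ : ∀ i : ℤ, i ≠ -1 → i ≠ 0 → Subsingleton (Dual.HD R K₂ i))
    (h₃ : ∀ i : ℤ, i ≠ -1 → i ≠ 0 → Subsingleton (Dual.HD R K₃ i))
    (hφ : (DerivedCategory.homologyFunctor (ModuleCat.{u} R) 0).map φ = 0)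
    (hψ : (DerivedCategory.homologyFunctor (ModuleCat.{u} R) (-1)).map ψ = 0) :
    φ ≫ ψ = 0 := by
  obtain ⟨P, M, p, g, k, hd, hP, -, -⟩ := exists_peel_top K₂ 0 (isLE_of_outside h₂)
  have hg : φ ≫ g = 0 := eq_zero_of_homologyMap_eq_zero (n := 0) (isLE_of_outside h₁) inferInstance _
    (by rw [Functor.map_comp, hφ, zero_comp])
  obtain ⟨χ, hχ⟩ : ∃ χ : K₁ ⟶ P, φ = χ ≫ p := Triangle.coyoneda_exact₂ _ hd φ hg
  have hp : p ≫ ψ = 0 := eq_zero_of_homologyMap_eq_zero (n := -1) (isLE_mono hP (by lia))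
    (isGE_of_outside h₃) _ (by rw [Functor.map_comp, hψ, comp_zero])
  rw [hχ, Category.assoc, hp, comp_zero]

end Groth.Agent.S7081
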