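import Groth.Statements.S7082
import Groth.Agent.Lib.DR.TwoTermExt

set_option autoImplicit false
universe u
attribute [local instance] HasDerivedCategory.standard
open CategoryTheory
open DRing

open Groth.Agent.Lib.DR.Basic Groth.Agent.Lib.DR.FiniteComplex Groth.Agent.Lib.DR.PseudoCoherent Groth.Agent.Lib.DR.TopCohomology
open CategoryTheory CategoryTheory.Limits CategoryTheory.Pretriangulated
open Groth.Agent.Lib.DR.TwoTerm Groth.Agent.Lib.DR.TwoTermExt

namespace Groth.Agent.S7082

/-- (1)⇔(3): let R be a commutative ring, I an ideal and K an object of D(R) whose cohomology vanishes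
outside degrees -1 and 0. Then I annihilates Ext^1_R(K, N) = Hom_{D(R)}(K, N[1]) for every R-module
N if and only if, for every two-term complex E in degrees -1 and 0 with E^0 projective that
represents K, and every a in I, multiplication by a on E^{-1} factors through the differential
E^{-1} → E^0. -/
theorem result {R : Type u} [CommRing R] (I : Ideal R) (K : Dual.D R)
    (hK : ∀ i : ℤ, i ≠ -1 → i ≠ 0 → Subsingleton (Dual.HD R K i)) :
    (∀ (N : Type u) [AddCommGroup N] [Module R N] (a : R), a ∈ I →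
        ∀ ξ : K ⟶ (Dual.inD R N)⟦(1 : ℤ)⟧, a • ξ = 0) ↔
      ∀ (E : DRing.Cx R), DRing.VanishesOutside E (-1) 0 → Module.Projective R (E.X 0) →
        Nonempty (DRing.toD E ≅ K) → ∀ a : R, a ∈ I →
          ∃ h : E.X 0 ⟶ E.X (-1), E.d (-1) 0 ≫ h = a • 𝟙 (E.X (-1)) := by
  constructor
  · intro H E hE hE0 ⟨e⟩ a ha
    exact (smul_ext_eq_zero_iff E (fun i h1 h2 => hE i (by lia)) hE0 a).1
      fun N _ _ ξ => smul_ext_eq_zero_congr e.symm (fun N _ _ ξ => H N a ha ξ) N ξ
  · intro H N _ _ a ha
    obtain ⟨E, hE, hE0, ⟨e⟩⟩ := exists_twoTerm K (isLE_of_outside hK) (isGE_of_outside hK)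
    exact smul_ext_eq_zero_congr e
      ((smul_ext_eq_zero_iff E (fun i h1 h2 => hE i (by lia)) hE0 a).2 (H E hE hE0 ⟨e⟩ a ha)) N

end Groth.Agent.S7082
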