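import Groth.Statements.S7083
import Groth.Agent.Lib.DR.TwoTerm

set_option autoImplicit false
universe u
attribute [local instance] HasDerivedCategory.standard
open CategoryTheory
open DRing

open Groth.Agent.Lib.DR.Basic Groth.Agent.Lib.DR.FiniteComplex Groth.Agent.Lib.DR.PseudoCoherent Groth.Agent.Lib.DR.TopCohomology
open CategoryTheory CategoryTheory.Limits CategoryTheory.Pretriangulated
open Groth.Agent.Lib.DR.TwoTerm

namespace Groth.Agent.S7083

/-- Let R be a commutative ring, I an ideal, and α : K → K' a morphism in D(R) between objects whose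
cohomology vanishes outside degrees -1 and 0, such that H^0(α) is an isomorphism and H^{-1}(α) is
surjective. If I annihilates Ext^1_R(K, N) = Hom_{D(R)}(K, N[1]) for every R-module N, then I
annihilates Ext^1_R(K', N) for every R-module N. -/
theorem result {R : Type u} [CommRing R] (I : Ideal R) {K K' : Dual.D R}
    (α : K ⟶ K')
    (hK : ∀ i : ℤ, i ≠ -1 → i ≠ 0 → Subsingleton (Dual.HD R K i))
    (hK' : ∀ i : ℤ, i ≠ -1 → i ≠ 0 → Subsingleton (Dual.HD R K' i))
    (h0 : IsIso ((DerivedCategory.homologyFunctor (ModuleCat.{u} R) 0).map α))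
    (h1 : Epi ((DerivedCategory.homologyFunctor (ModuleCat.{u} R) (-1)).map α))
    (hI : ∀ (N : Type u) [AddCommGroup N] [Module R N] (a : R), a ∈ I →
        ∀ ξ : K ⟶ (Dual.inD R N)⟦(1 : ℤ)⟧, a • ξ = 0)
    (N : Type u) [AddCommGroup N] [Module R N] (a : R) (ha : a ∈ I) (ξ : K' ⟶ (Dual.inD R N)⟦(1 : ℤ)⟧) :
    a • ξ = 0 := by
  refine eq_zero_of_coneLE (coneLE_of_outside α hK hK' h0 h1) (m := -1) ?_ (by lia) _ ?_
  · exact isGE_of_iso' (singleShift (ModuleCat.of R N) 1 (-1) 0 (by lia)).symm inferInstance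
  · rw [Linear.comp_smul]
    exact hI N a ha _

end Groth.Agent.S7083
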