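import Groth.Statements.S7084
import Groth.Agent.Lib.DR.Nilp
import Groth.Agent.Lib.DR.LTensorModule

set_option autoImplicit false
universe u
attribute [local instance] HasDerivedCategory.standard
open CategoryTheory
open LocCoh

open CategoryTheory.Limits TensorProduct
open Groth.Agent.Lib.DR Groth.Agent.Lib.DR.Basic Groth.Agent.Lib.DR.FiniteComplex Groth.Agent.Lib.DR.PseudoCoherent Groth.Agent.Lib.DR.Representative Groth.Agent.Lib.DR.BaseChange Groth.Agent.Lib.DR.TorAmp Groth.Agent.Lib.DR.LTensorModule

namespace Groth.Agent.S7084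

/-- Parts (1)–(2) in the case of a module killed by a power of the ideal: let R be a commutative ring, I
an ideal and K an object of D(R) such that K ⊗^L_R R/I has no cohomology in positive degrees. Then
for every R-module N annihilated by some power of I, K ⊗^L_R N has no cohomology in positive
degrees. (The published statement allows any I-power torsion module N; this row takes N annihilated
by a single power of I, the case the published argument carries out in full, which contains the case
N = R/I^n.) The derived tensor products with modules are total left derived functors, assumed to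
exist. -/
theorem result {R : Type u} [CommRing R] (I : Ideal R)
    [DRing.HasLTensor R (ModuleCat.of R (R ⧸ I))] (K : Dual.D R)
    (hK : ∀ i : ℤ, 0 < i → Subsingleton (Dual.HD R ((DRing.LTensor R (ModuleCat.of R (R ⧸ I))).obj K) i))
    (N : Type u) [AddCommGroup N] [Module R N] (n : ℕ) (hN : I ^ n • (⊤ : Submodule R N) = ⊥)
    [DRing.HasLTensor R (ModuleCat.of R N)] (i : ℤ) (hi : 0 < i) :
    Subsingleton (Dual.HD R ((DRing.LTensor R (ModuleCat.of R N)).obj K) i) := by
  obtain ⟨G, hG, hGp, ⟨e⟩⟩ := BaseChangeU.exists_rep K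
  have hflat : ∀ t, flat R (G.X t) := fun t => flat_of_proj _ (hGp t)
  let φ : R →+* R ⧸ I := Ideal.Quotient.mk I
  have hbar : ∀ j, 0 < j → ((ext φ).obj G).ExactAt j := by
    intro j hj
    have h0 : ((tens (ModuleCat.of R (R ⧸ I))).obj G).ExactAt j := by
      rw [HomologicalComplex.exactAt_iff_isZero_homology]
      exact (ModuleCat.isZero_iff_subsingleton.2 (hK j hj)).of_iso
        ((homologyQIso _ j).symm ≪≫ (DerivedCategory.homologyFunctor (ModuleCat.{u} R) j).mapIso
          ((lt _ G).symm ≪≫ (DRing.LTensor R (ModuleCat.of R (R ⧸ I))).mapIso e))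
    rw [HomologicalComplex.exactAt_iff' _ (j - 1) j (j + 1) (by simp) (by simp),
      ShortComplex.ShortExact.moduleCat_exact_iff_function_exact] at h0 ⊢
    refine (Function.Exact.iff_of_ladder_linearEquiv (e₁ := TensorProduct.comm R (G.X (j - 1)) (R ⧸ I))
      (e₂ := TensorProduct.comm R (G.X j) (R ⧸ I)) (e₃ := TensorProduct.comm R (G.X (j + 1)) (R ⧸ I))
      (f₁₂ := ((G.d (j - 1) j).hom.rTensor (R ⧸ I))) (f₂₃ := ((G.d j (j + 1)).hom.rTensor (R ⧸ I)))
      (g₁₂ := ((G.d (j - 1) j).hom.lTensor (R ⧸ I))) (g₂₃ := ((G.d j (j + 1)).hom.lTensor (R ⧸ I)))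
      (TensorProduct.ext' fun _ _ => rfl) (TensorProduct.ext' fun _ _ => rfl)).2 h0
  have hle : (DerivedCategory.Q.obj ((ext φ).obj G)).IsLE 0 :=
    (DerivedCategory.isLE_iff _ _).2 fun j hj =>
      ((HomologicalComplex.exactAt_iff_isZero_homology _ _).1 (hbar j hj)).of_iso (homologyQIso _ j)
  obtain ⟨H, hH, hHp, ⟨eH⟩⟩ := ba_free hle
  have := isKProjective_of_bounds projective_of_free' hH hHp
  have := BaseChangeU.isKProjective_ext φ G
  have hN' : ∀ (M : ModuleCat.{u} (R ⧸ I)), ((tens M).obj ((ext φ).obj G)).ExactAt i := by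
    intro M
    obtain ⟨f⟩ := Nilp.nonempty_tens_iso_of_kproj M eH
    have h0 : ((tens M).obj H).ExactAt i :=
      HomologicalComplex.ExactAt.of_isZero ((MonoidalCategory.tensorRight M).map_isZero (hH i hi))
    rw [HomologicalComplex.exactAt_iff_isZero_homology] at h0 ⊢
    exact h0.of_iso ((homologyQIso _ i).symm ≪≫
      ((DerivedCategory.homologyFunctor _ i).mapIso f).symm ≪≫ homologyQIso _ i)
  have hkill : ∀ (M : Type u) [AddCommGroup M] [Module R M], I • (⊤ : Submodule R M) = ⊥ →
      Function.Exact ((G.d (i - 1) i).hom.lTensor M) ((G.d i (i + 1)).hom.lTensor M) := fun M _ _ hM =>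
    Nilp.exact_killed (fun _ : Fin 1 => φ) (fun _ => Ideal.Quotient.mk_surjective) G _ i _ (by lia) rfl 0
      hN' M (by rw [Ideal.mk_ker]; exact hM)
  have H : ∀ (k : ℕ) (M : Type u) [AddCommGroup M] [Module R M], I ^ k • (⊤ : Submodule R M) = ⊥ →
      Function.Exact ((G.d (i - 1) i).hom.lTensor M) ((G.d i (i + 1)).hom.lTensor M) := by
    intro k
    induction k with
    | zero =>
      intro M _ _ h
      refine hkill M (le_bot_iff.1 (le_trans ?_ h.le))
      rw [pow_zero, Ideal.one_eq_top, Submodule.top_smul]
      exact le_top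
    | succ k ih =>
      intro M _ _ h
      refine Nilp.exact_ext G hflat _ i _ M (I ^ k • (⊤ : Submodule R M)) (hkill _ ?_) (ih _ ?_)
      · apply Submodule.map_injective_of_injective (I ^ k • (⊤ : Submodule R M)).subtype_injective
        rw [Submodule.map_smul'', Submodule.map_subtype_top, Submodule.map_bot, ← h, pow_succ',
          Submodule.mul_smul]
      · rw [← Submodule.range_mkQ (I ^ k • (⊤ : Submodule R M)), ← Submodule.map_top, ← Submodule.map_smul'']
        exact LinearMap.le_ker_iff_map.1 (by rw [Submodule.ker_mkQ])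
  have h1 : ((tens (ModuleCat.of R N)).obj G).ExactAt i := by
    rw [HomologicalComplex.exactAt_iff' _ (i - 1) i (i + 1) (by simp) (by simp),
      ShortComplex.ShortExact.moduleCat_exact_iff_function_exact]
    exact (Function.Exact.iff_of_ladder_linearEquiv (e₁ := TensorProduct.comm R N (G.X (i - 1)))
      (e₂ := TensorProduct.comm R N (G.X i)) (e₃ := TensorProduct.comm R N (G.X (i + 1)))
      (TensorProduct.ext' fun _ _ => rfl) (TensorProduct.ext' fun _ _ => rfl)).2 (H n N hN)
  refine ModuleCat.isZero_iff_subsingleton.1 (((HomologicalComplex.exactAt_iff_isZero_homology _ _).1 h1).of_iso ?_)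
  exact (DerivedCategory.homologyFunctor (ModuleCat.{u} R) i).mapIso
    ((DRing.LTensor R (ModuleCat.of R N)).mapIso e.symm ≪≫ lt _ G) ≪≫ homologyQIso _ i

end Groth.Agent.S7084
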