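import Groth.Statements.S7085
import Mathlib.Algebra.Module.LocalizedModule.Basic
import Mathlib.RingTheory.Ideal.Operations
-- import your own Groth.Agent.* helpers here

set_option autoImplicit false
universe u
open LocCoh

namespace Groth.Agent.S7085

/-- Let R be a commutative ring, I an ideal generated by finitely many elements f_1, …, f_t, and M an
R-module. Then: M has no nonzero element killed by I if and only if it has no nonzero element killed
by I^n for every n ≥ 1; and M has no nonzero element killed by I if and only if an element of M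
vanishing in every localization M_{f_i} is zero. -/
theorem result {R : Type u} [CommRing R] {t : ℕ} (f : Fin t → R)
    (I : Ideal R) (hI : Ideal.span (Set.range f) = I) (M : Type u) [AddCommGroup M] [Module R M] :
    (LocCoh.torsionBy I M = ⊥ ↔ ∀ n : ℕ, 1 ≤ n → LocCoh.torsionBy (I ^ n) M = ⊥) ∧
    (LocCoh.torsionBy I M = ⊥ ↔
      ∀ m : M, (∀ i : Fin t, LocalizedModule.mkLinearMap (Submonoid.powers (f i)) M m = 0) → m = 0) := by
  subst hI
  have key : LocCoh.torsionBy (Ideal.span (Set.range f)) M = ⊥ ↔
      ∀ m : M, (∀ i, f i • m = 0) → m = 0 := by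
    simp only [LocCoh.torsionBy, Submodule.eq_bot_iff, Submodule.mem_torsionBySet_iff]
    refine ⟨fun h m hm => h m fun ⟨a, ha⟩ => ?_,
      fun h m hm => h m fun i => hm ⟨f i, Ideal.subset_span ⟨i, rfl⟩⟩⟩
    induction ha using Submodule.span_induction with
    | mem x hx => obtain ⟨i, rfl⟩ := hx; exact hm i
    | zero => simp
    | add x y _ _ hx hy => simp [add_smul, hx, hy]
    | smul r x _ hx => simp [mul_smul, hx]
  have hpow : ∀ n : ℕ, (∀ m : M, (∀ i, f i • m = 0) → m = 0) → ∀ m : M,
      (∀ a ∈ Ideal.span (Set.range f) ^ n, a • m = 0) → m = 0 := by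
    intro n h
    induction n with
    | zero => intro m hm; simpa using hm 1 (by simp)
    | succ n ih =>
      intro m hm
      refine ih m fun a ha => h _ fun i => ?_
      rw [← mul_smul, mul_comm]
      exact hm _ (by rw [pow_succ]; exact Ideal.mul_mem_mul ha (Ideal.subset_span ⟨i, rfl⟩))
  constructor
  · constructor
    · intro h n _
      rw [Submodule.eq_bot_iff]
      intro m hm
      rw [Submodule.mem_torsionBySet_iff] at hm
      exact hpow n (key.mp h) m fun a ha => hm ⟨a, ha⟩
    · intro h
      simpa using h 1 le_rfl
  · rw [key]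
    constructor
    · intro h m hm
      have : ∀ i, ∃ n : ℕ, f i ^ n • m = 0 := fun i => by
        obtain ⟨⟨_, n, rfl⟩, hn⟩ :=
          (IsLocalizedModule.eq_zero_iff (Submonoid.powers (f i)) _).mp (hm i)
        exact ⟨n, hn⟩
      choose n hn using this
      classical
      obtain ⟨N, hN⟩ : ∃ N : ℕ, Ideal.span (Set.range f) ^ N ≤
          Ideal.span (Set.range fun i => f i ^ n i) := by
        refine Ideal.exists_pow_le_of_le_radical_of_fg (Ideal.span_le.mpr ?_) (Submodule.fg_span (Set.finite_range f))
        rintro _ ⟨i, rfl⟩
        exact ⟨n i, Ideal.subset_span ⟨i, rfl⟩⟩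
      refine hpow N h m fun a ha => ?_
      have ha' := hN ha
      clear ha
      induction ha' using Submodule.span_induction with
      | mem x hx => obtain ⟨i, rfl⟩ := hx; exact hn i
      | zero => simp
      | add x y _ _ hx hy => simp [add_smul, hx, hy]
      | smul r x _ hx => simp [mul_smul, hx]
    · intro h m hm
      refine h m fun i => (IsLocalizedModule.eq_zero_iff (Submonoid.powers (f i)) _).mpr
        ⟨⟨f i, 1, pow_one _⟩, hm i⟩


end Groth.Agent.S7085
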