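import Groth.Statements.S7088
import Groth.Agent.Lib.DR.RHomRes

set_option autoImplicit false
universe u
attribute [local instance] HasDerivedCategory.standard
open CategoryTheory MonoidalCategory
open DRing

open Groth.Agent.Lib Groth.Agent.Lib.DR CategoryTheory.Limits MonoidalCategory

namespace Groth.Agent.S7088

theorem precomp_homotopy {R : Type u} [CommRing R] {S P : DRing.Cx R} (q : S ⟶ P) (r : P ⟶ S)
    (h : Homotopy (r ≫ q) (𝟙 P)) (K : DRing.Cx R) :
    Nonempty (Homotopy ((RHomRes.precomp q).app K ≫ (RHomRes.precomp r).app K) (𝟙 (DRing.homCx P K))) := by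
  obtain ⟨g, hg⟩ := HomCx.homEquiv.surjective (𝟙 (DRing.homCx P K))
  have e : HomCx.homEquiv (DRing.homCx P K ◁ (r ≫ q) ≫ g) =
      (RHomRes.precomp q).app K ≫ (RHomRes.precomp r).app K := by
    rw [MonoidalCategory.whiskerLeft_comp, Category.assoc, ← RHomRes.homEquiv_comp_precomp,
      ← RHomRes.homEquiv_comp_precomp, hg]
    exact congrArg (· ≫ (RHomRes.precomp r).app K) (Category.id_comp _)
  have h1 : Homotopy (DRing.homCx P K ◁ (r ≫ q) ≫ g) g :=
    ((DerivedOX.Bifunctor.homotopy₂ (KFlat.tbi R) (DRing.homCx P K) h).compRight g).trans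
      (Homotopy.ofEq ((congrArg (· ≫ g) (((KFlat.tcx R).obj (DRing.homCx P K)).map_id P)).trans (Category.id_comp g)))
  obtain ⟨h2⟩ := (HomCx.homotopy_iff _ _).2 ⟨h1⟩
  exact ⟨(Homotopy.ofEq e.symm).trans (h2.trans (Homotopy.ofEq hg))⟩


/-- Let R be a commutative ring, P a bounded above cochain complex of projective R-modules whose image
in D(R) is perfect, and K a K-flat complex of R-modules (tensoring with K carries acyclic complexes
to acyclic complexes). Then the Hom complex Hom•(P, K) is again K-flat. -/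
theorem result {R : Type u} [CommRing R] (P K : DRing.Cx R) (b : ℤ)
    (hPb : DRing.VanishesAbove P b) (hPp : ∀ i : ℤ, Module.Projective R (P.X i))
    (hperf : DRing.IsPerfect R (DRing.toD P))
    (hK : ∀ L : DRing.Cx R, (∀ i : ℤ, Limits.IsZero (L.homology i)) →
      ∀ i : ℤ, Limits.IsZero (((tensorRight K).obj L).homology i)) :
    ∀ L : DRing.Cx R, (∀ i : ℤ, Limits.IsZero (L.homology i)) →
      ∀ i : ℤ, Limits.IsZero (((tensorRight (DRing.homCx P K)).obj L).homology i) := by

  classical
  obtain ⟨S, a, c, hz, hp, ⟨eS⟩⟩ := hperf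
  have : ∀ q, Projective (P.X q) := fun q =>
    have := hPp q
    (IsProjective.iff_projective (R := R) (P.X q)).1 this
  have : P.IsStrictlyLE b := (CochainComplex.isStrictlyLE_iff _ _).2 hPb
  have : P.IsKProjective := CochainComplex.isKProjective_of_projective P b
  have : ∀ q, Projective (S.X q) := fun q =>
    have := (hp q).2
    (IsProjective.iff_projective (R := R) (S.X q)).1 this
  have : S.IsStrictlyLE c := (CochainComplex.isStrictlyLE_iff _ _).2 fun i hi => hz i (Or.inr hi)
  have : S.IsKProjective := CochainComplex.isKProjective_of_projective S c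
  obtain ⟨q, hq⟩ := Basic.exists_Q_map_eq (show DerivedCategory.Q.obj S ⟶ DerivedCategory.Q.obj P from eS.hom)
  obtain ⟨r, hr⟩ := Basic.exists_Q_map_eq (show DerivedCategory.Q.obj P ⟶ DerivedCategory.Q.obj S from eS.inv)
  obtain ⟨h1⟩ := Basic.nonempty_homotopy_of_Q_map_eq
    (show DerivedCategory.Q.map (r ≫ q) = DerivedCategory.Q.map (𝟙 P) by
      rw [Functor.map_comp, hq, hr, CategoryTheory.Functor.map_id]; exact eS.inv_hom_id)
  obtain ⟨h2⟩ := Basic.nonempty_homotopy_of_Q_map_eq
    (show DerivedCategory.Q.map (q ≫ r) = DerivedCategory.Q.map (𝟙 S) by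
      rw [Functor.map_comp, hq, hr, CategoryTheory.Functor.map_id]; exact eS.hom_inv_id)
  obtain ⟨k1⟩ := precomp_homotopy q r h1 K
  obtain ⟨k2⟩ := precomp_homotopy r q h2 K
  let he : HomotopyEquiv (DRing.homCx S K) (DRing.homCx P K) :=
    ⟨(RHomRes.precomp r).app K, (RHomRes.precomp q).app K, k2, k1⟩
  -- the bounded model
  let U : DRing.Cx R := 𝟙_ (DRing.Cx R)
  let D := DRing.homCx S U
  have hDf : DRing.IsKFlat R D := by
    refine KFlat.isKFlat_of_flat D (-a) (fun i hi => RelHomInv.isZero_homCx_X S i (-i) (by omega)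
      (hz _ (Or.inl (by omega)))) fun i => ?_
    have := (hp (-i)).1
    have := (hp (-i)).2
    let e := LinearEquiv.ofBijective _ (RelHomInv.bijective_dual S i (-i) (by omega))
    have := Module.Projective.of_equiv e.symm
    exact inferInstance
  have h3 := HomCxFinite.isIso_evalTenCx_of_right K S U (Finset.Icc a c) (fun p h =>
    hz p (by rw [Finset.mem_Icc, not_and_or, not_le, not_le] at h; exact h)) hp
  let eK : K ⊗ D ≅ DRing.homCx S K :=
    @asIso _ _ _ _ (HomCxFinite.evalTenCx K S U) h3 ≪≫ (DRing.homCxFunctor S).mapIso (ρ_ K)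
  have hKD : DRing.IsKFlat R (K ⊗ D) := fun L hL i =>
    IsZero.of_iso (hDf (L ⊗ K) (hK L hL) i)
      ((HomologicalComplex.homologyFunctor (ModuleCat.{u} R) (ComplexShape.up ℤ) i).mapIso (α_ L K D).symm)
  exact KFlat.isKFlat_of_homotopyEquiv he
    (KFlat.isKFlat_of_homotopyEquiv (HomotopyEquiv.ofIso eK) hKD)


end Groth.Agent.S7088
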