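import Groth.Statements.S7089
import Mathlib.CategoryTheory.Abelian.Projective.Resolution
import Mathlib.Algebra.Homology.ShortComplex.ModuleCat
import Mathlib.Algebra.DirectSum.Module
-- import your own Groth.Agent.* helpers here

set_option autoImplicit false
universe u
open CategoryTheory
open LocCoh

namespace Groth.Agent.S7089


section

variable {R : Type u} [CommRing R] (I : Ideal R)

/-- A power torsion module. -/
structure Stage where
  carrier : ModuleCat.{u} R
  tor : IsPowerTorsion I carrier

variable {I}

/-- The covering sum of quotients. -/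
noncomputable abbrev cover (s : Stage I) : ModuleCat.{u} R :=
  ModuleCat.of R (DirectSum s.carrier fun m => R ⧸ I ^ (s.tor m).choose)

/-- The covering map. -/
noncomputable def ov (s : Stage I) : cover s ⟶ s.carrier :=
  haveI := Classical.decEq s.carrier
  ModuleCat.ofHom (DirectSum.toModule R s.carrier s.carrier fun m =>
    Submodule.liftQ (I ^ (s.tor m).choose) (LinearMap.toSpanSingleton R s.carrier m)
      fun a ha => LinearMap.mem_ker.2 ((s.tor m).choose_spec a ha))

theorem ov_surjective (s : Stage I) : Function.Surjective (ov s).hom := by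
  classical
  intro m
  refine ⟨DirectSum.lof R s.carrier (fun m => R ⧸ I ^ (s.tor m).choose) m (Submodule.Quotient.mk 1), ?_⟩
  simp only [ov, ModuleCat.hom_ofHom, DirectSum.toModule_lof]
  erw [Submodule.liftQ_apply]
  exact one_smul R m

theorem cover_tor (s : Stage I) (x : cover s) : ∃ n : ℕ, ∀ a ∈ I ^ n, a • x = 0 := by
  classical
  induction x using DirectSum.induction_on with
  | zero => exact ⟨0, fun a _ => smul_zero a⟩
  | of m y =>
    refine ⟨(s.tor m).choose, fun a ha => ?_⟩
    obtain ⟨b, rfl⟩ := Ideal.Quotient.mk_surjective y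
    rw [← DirectSum.lof_eq_of R, ← map_smul]
    refine (congrArg _ ?_).trans (map_zero _)
    show Ideal.Quotient.mk _ (a * b) = 0
    exact Ideal.Quotient.eq_zero_iff_mem.2 (Ideal.mul_mem_right b _ ha)
  | add x y hx hy =>
    obtain ⟨n, hn⟩ := hx
    obtain ⟨k, hk⟩ := hy
    exact ⟨max n k, fun a ha => by
      rw [smul_add, hn a (Ideal.pow_le_pow_right (le_max_left _ _) ha),
        hk a (Ideal.pow_le_pow_right (le_max_right _ _) ha), add_zero]⟩

/-- The iterated kernels. -/
noncomputable def stage (s : Stage I) : ℕ → Stage I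
  | 0 => s
  | i + 1 => ⟨ModuleCat.of R (LinearMap.ker (ov (stage s i)).hom), fun x => by
      obtain ⟨n, hn⟩ := cover_tor (stage s i) x.1
      exact ⟨n, fun a ha => Subtype.ext (hn a ha)⟩⟩

/-- The differentials. -/
noncomputable def dd (s : Stage I) (i : ℕ) : cover (stage s (i + 1)) ⟶ cover (stage s i) :=
  ModuleCat.ofHom ((LinearMap.ker (ov (stage s i)).hom).subtype ∘ₗ (ov (stage s (i + 1))).hom)

/-- The resolution. -/
noncomputable def cx (s : Stage I) : ChainComplex (ModuleCat.{u} R) ℕ :=
  ChainComplex.of (fun i => cover (stage s i)) (dd s) fun i =>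
    ModuleCat.hom_ext (LinearMap.ext fun x => (LinearMap.mem_ker.1 ((ov (stage s (i + 1 + 1))).hom x).2 : _) |>
      fun h => (congrArg Subtype.val h))

end

/-- Let R be a commutative ring, I an ideal and M an R-module in which every element is killed by a
power of I. Then M has a left resolution by modules each of which is a direct sum of copies of R/I^n
for varying n: there are a chain complex K of R-modules, a quasi-isomorphism from K to M placed in
degree 0, and for each i an isomorphism of K_i with such a direct sum. -/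
theorem result {R : Type u} [CommRing R] (I : Ideal R)
    (M : Type u) [AddCommGroup M] [Module R M] (hM : LocCoh.IsPowerTorsion I M) :
    ∃ (K : ChainComplex (ModuleCat.{u} R) ℕ) (π : K ⟶ (ChainComplex.single₀ (ModuleCat.{u} R)).obj (ModuleCat.of R M)),
      QuasiIso π ∧ ∀ i : ℕ, ∃ (ι : Type u) (n : ι → ℕ),
        Nonempty (K.X i ≅ ModuleCat.of R (DirectSum ι fun j => R ⧸ I ^ n j)) := by
  classical
  let s0 : Stage I := ⟨ModuleCat.of R M, hM⟩
  refine ⟨cx s0, (ChainComplex.toSingle₀Equiv _ _).symm ⟨ov s0, ?_⟩, ⟨fun i => ?_⟩, fun i => ?_⟩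
  · rw [show (cx s0).d 1 0 = dd s0 0 from ChainComplex.of_d (fun i => cover (stage s0 i)) (dd s0) _]
    exact ModuleCat.hom_ext (LinearMap.ext fun x => LinearMap.mem_ker.1 ((ov (stage s0 1)).hom x).2)
  · cases i with
    | zero =>
      rw [ChainComplex.quasiIsoAt₀_iff, ShortComplex.quasiIso_iff_of_zeros']
      · refine (ShortComplex.exact_and_epi_g_iff_of_iso (S₂ := ShortComplex.mk (dd s0 0) (ov s0)
          (ModuleCat.hom_ext (LinearMap.ext fun x => LinearMap.mem_ker.1 ((ov (stage s0 1)).hom x).2))) ?_).2
          ⟨(ShortComplex.moduleCat_exact_iff _).2 fun x hx => ?_, (ModuleCat.epi_iff_surjective _).2 (ov_surjective s0)⟩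
        · exact ShortComplex.isoMk (Iso.refl _) (Iso.refl _) (Iso.refl _)
            (by simp [show (cx s0).d 1 0 = dd s0 0 from ChainComplex.of_d (fun i => cover (stage s0 i)) (dd s0) _]; exact (Category.id_comp _).trans (Category.comp_id _).symm)
            (by simp; rfl)
        · obtain ⟨y, hy⟩ := ov_surjective (stage s0 1) ⟨x, LinearMap.mem_ker.2 hx⟩
          exact ⟨y, congrArg Subtype.val hy⟩
      all_goals rfl
    | succ i =>
      rw [quasiIsoAt_iff_exactAt' _ _ (ChainComplex.exactAt_succ_single_obj _ _),
        HomologicalComplex.exactAt_iff' _ (i + 1 + 1) (i + 1) i (by simp) (by simp),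
        ShortComplex.moduleCat_exact_iff]
      intro x hx
      change ((cx s0).d (i + 1) i).hom x = 0 at hx
      rw [show (cx s0).d (i + 1) i = dd s0 i from ChainComplex.of_d (fun i => cover (stage s0 i)) (dd s0) _] at hx
      obtain ⟨y, hy⟩ := ov_surjective (stage s0 (i + 2)) ⟨x, LinearMap.mem_ker.2 (Subtype.ext hx)⟩
      refine ⟨y, ?_⟩
      change ((cx s0).d (i + 1 + 1) (i + 1)).hom y = x
      rw [show (cx s0).d (i + 1 + 1) (i + 1) = dd s0 (i + 1) from ChainComplex.of_d (fun i => cover (stage s0 i)) (dd s0) _]
      exact congrArg Subtype.val hy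
  · exact ⟨(stage s0 i).carrier, fun m => ((stage s0 i).tor m).choose, ⟨Iso.refl _⟩⟩


end Groth.Agent.S7089
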