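import Groth.Statements.S7090
import Groth.Agent.H48.FormalGlue
import Mathlib.LinearAlgebra.TensorProduct.Pi

set_option autoImplicit false
set_option linter.style.haveILetI false
universe u
open TensorProduct
open EtAlg

namespace Groth.Agent.S7090

/-- Let R → S be a flat homomorphism of commutative rings and I = (f_1, …, f_t) a finitely generated
ideal such that R/I → S/IS is bijective. Then for every R-module M the glueing complex 0 → M → (S
⊗_R M) × ∏ M_{f_i} → ∏ (S ⊗_R M)_{f_i} × ∏ M_{f_i f_j} is exact. Concretely: an element of M with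
zero image in S ⊗_R M and in every M_{f_i} is zero; and given x in S ⊗_R M and elements m_1, …, m_t
of M and N ≥ 0 such that x and m_i / f_i^N have the same image in (S ⊗_R M)_{f_i} for each i, and
m_i / f_i^N, m_j / f_j^N have the same image in M_{f_i f_j} for all i, j, there is m in M with 1 ⊗ m
= x and m / 1 = m_i / f_i^N in M_{f_i} for every i. -/
theorem result {R S : Type u} [CommRing R] [CommRing S] [Algebra R S] [Module.Flat R S]
    {t : ℕ} (f : Fin t → R) (I : Ideal R) (hI : Ideal.span (Set.range f) = I)
    (hq : Function.Bijective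
      (Ideal.quotientMap (Ideal.map (algebraMap R S) I) (algebraMap R S) Ideal.le_comap_map))
    (M : Type u) [AddCommGroup M] [Module R M] :
    (∀ m : M, (1 : S) ⊗ₜ[R] m = 0 →
        (∀ i : Fin t, LocalizedModule.mkLinearMap (Submonoid.powers (f i)) M m = 0) → m = 0) ∧
    ∀ (x : S ⊗[R] M) (N : ℕ) (m : Fin t → M),
      (∀ i : Fin t, EtGlue.locOfTensor R S (f i) M x =
          EtGlue.tensorOfLoc R S (f i) M (LocalizedModule.mk (m i) ⟨f i ^ N, Submonoid.pow_mem _ (Submonoid.mem_powers (f i)) N⟩)) →
      (∀ i j : Fin t, ∃ e : ℕ, (f i * f j) ^ e • (f j ^ N • m i - f i ^ N • m j) = 0) →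
        ∃ μ : M, (1 : S) ⊗ₜ[R] μ = x ∧
          ∀ i : Fin t, LocalizedModule.mkLinearMap (Submonoid.powers (f i)) M μ =
            LocalizedModule.mk (m i) ⟨f i ^ N, Submonoid.pow_mem _ (Submonoid.mem_powers (f i)) N⟩ := by
  classical
  have hIfg : I.FG := hI ▸ ⟨Finset.univ.image f, by simp⟩
  have hpow : ∀ k : Fin t → ℕ, ∃ n, I ^ n ≤ Ideal.span (Set.range fun i => f i ^ k i) := by
    intro k
    refine Ideal.exists_pow_le_of_le_radical_of_fg ?_ hIfg
    rw [← hI, Ideal.span_le]
    rintro _ ⟨i, rfl⟩
    exact ⟨k i, Ideal.subset_span ⟨i, rfl⟩⟩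
  let Mi := fun i : Fin t => LocalizedModule (Submonoid.powers (f i)) M
  let ψ : M →ₗ[R] (∀ i, Mi i) := LinearMap.pi fun i => LocalizedModule.mkLinearMap _ M
  have hker : Groth.Agent.H48.FG.IsITors I (LinearMap.ker ψ) := by
    intro m
    have h : ∀ i, ∃ k : ℕ, f i ^ k • (m : M) = 0 := fun i => by
      obtain ⟨⟨_, k, rfl⟩, hk⟩ := (IsLocalizedModule.eq_zero_iff (Submonoid.powers (f i))
        (LocalizedModule.mkLinearMap _ M)).1 (congrFun (LinearMap.mem_ker.1 m.2) i)
      exact ⟨k, hk⟩
    choose k hk using h
    obtain ⟨n, hn⟩ := hpow k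
    refine ⟨n, fun a ha => ?_⟩
    have ha' := hn ha
    clear ha
    induction ha' using Submodule.span_induction with
    | mem a h => obtain ⟨i, rfl⟩ := h; exact Subtype.ext (hk i)
    | zero => exact zero_smul _ _
    | add x y _ _ hx hy => rw [add_smul, hx, hy, add_zero]
    | smul c x _ hx => rw [smul_eq_mul, mul_smul, hx, smul_zero]
  refine ⟨fun m h₁ h₂ => ?_, fun x N m hloc hcoc => ?_⟩
  · have hm : m ∈ LinearMap.ker ψ := LinearMap.mem_ker.2 (funext h₂)
    have h := Module.Flat.lTensor_preserves_injective_linearMap (M := S) (LinearMap.ker ψ).subtype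
      (LinearMap.ker ψ).subtype_injective
      (show (LinearMap.ker ψ).subtype.lTensor S ((1 : S) ⊗ₜ[R] (⟨m, hm⟩ : LinearMap.ker ψ)) =
        (LinearMap.ker ψ).subtype.lTensor S 0 by simpa using h₁)
    exact congrArg Subtype.val ((Groth.Agent.H48.FG.mk_bijective_of_torsion hq hker).1
      (h.trans (map_zero _).symm))
  · let η : ∀ i, Mi i := fun i =>
      LocalizedModule.mk (m i) ⟨f i ^ N, Submonoid.pow_mem _ (Submonoid.mem_powers (f i)) N⟩
    have hx : ψ.lTensor S x = (1 : S) ⊗ₜ[R] η := by
      apply (TensorProduct.piRight R R S Mi).injective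
      funext i
      have hproj : ∀ z : S ⊗[R] M, TensorProduct.piRight R R S Mi (ψ.lTensor S z) i =
          (LocalizedModule.mkLinearMap (Submonoid.powers (f i)) M).lTensor S z := by
        intro z
        induction z using TensorProduct.induction_on with
        | zero => simp
        | tmul s y => simp [ψ, Mi]
        | add a b ha hb => simp only [map_add, Pi.add_apply, ha, hb]
      rw [hproj, TensorProduct.piRight_apply, TensorProduct.piRightHom_tmul]
      set l := (LocalizedModule.mkLinearMap (Submonoid.powers (f i)) M).lTensor S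
      have hmk : f i ^ N • η i = LocalizedModule.mkLinearMap (Submonoid.powers (f i)) M (m i) := by
        rw [LocalizedModule.smul'_mk]
        exact LocalizedModule.mk_cancel
          (⟨f i ^ N, Submonoid.pow_mem _ (Submonoid.mem_powers (f i)) N⟩ : Submonoid.powers (f i)) (m i)
      have h0 : LocalizedModule.mkLinearMap (Submonoid.powers (f i)) (S ⊗[R] M)
          (f i ^ N • x - (1 : S) ⊗ₜ[R] m i) = 0 := by
        rw [map_sub, map_smul, sub_eq_zero,
          show LocalizedModule.mkLinearMap (Submonoid.powers (f i)) (S ⊗[R] M) x =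
            EtGlue.tensorOfLoc R S (f i) M (η i) from hloc i, ← map_smul, hmk]
        exact IsLocalizedModule.map_apply ..
      obtain ⟨⟨_, k, rfl⟩, hk⟩ := (IsLocalizedModule.eq_zero_iff (Submonoid.powers (f i))
        (LocalizedModule.mkLinearMap (Submonoid.powers (f i)) (S ⊗[R] M))).1 h0
      have h1 := congrArg l hk
      rw [Submonoid.smul_def, map_smul, map_sub, map_smul, map_zero, LinearMap.lTensor_tmul,
        ← hmk, TensorProduct.tmul_smul] at h1
      change f i ^ k • (f i ^ N • l x - f i ^ N • ((1 : S) ⊗ₜ[R] η i)) = 0 at h1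
      have h1' : (f i ^ k * f i ^ N) • (l x - (1 : S) ⊗ₜ[R] η i) = 0 := by
        rw [mul_smul, smul_sub (f i ^ N)]; exact h1
      have hb : Function.Bijective (algebraMap R (Module.End R (Mi i)) (f i ^ k * f i ^ N)) := by
        refine (Module.End.isUnit_iff _).1 ?_
        exact IsLocalizedModule.map_units (LocalizedModule.mkLinearMap (Submonoid.powers (f i)) M)
          (⟨f i ^ k * f i ^ N, Submonoid.mul_mem _ ⟨k, rfl⟩ ⟨N, rfl⟩⟩ : Submonoid.powers (f i))
      have he : ∀ z : S ⊗[R] Mi i, (LinearEquiv.ofBijective _ hb).lTensor S z =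
          (f i ^ k * f i ^ N) • z := by
        intro z
        induction z using TensorProduct.induction_on with
        | zero => simp
        | tmul s y =>
          rw [LinearEquiv.lTensor_tmul, LinearEquiv.ofBijective_apply, Module.algebraMap_end_apply,
            TensorProduct.tmul_smul]
        | add a b ha hb => simp only [map_add, smul_add, ha, hb]
      exact sub_eq_zero.1 (((LinearEquiv.ofBijective _ hb).lTensor S).injective
        ((he _).trans (h1'.trans (map_zero _).symm)))
    have hcoc' : ∀ j, ∃ e : ℕ, ∀ i, (f i * f j) ^ e • (f j ^ N • m i - f i ^ N • m j) = 0 := by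
      intro j
      choose e he using fun i => hcoc i j
      refine ⟨Finset.univ.sup e, fun i => ?_⟩
      obtain ⟨d, hd⟩ := Nat.exists_eq_add_of_le (Finset.le_sup (f := e) (Finset.mem_univ i))
      rw [hd, pow_add, mul_comm, mul_smul, he, smul_zero]
    choose e he using hcoc'
    obtain ⟨n, hn⟩ := hpow fun j => N + e j
    have hη : ∀ a ∈ I ^ n, a • η ∈ LinearMap.range ψ := by
      intro a ha
      have ha' := hn ha
      clear ha
      induction ha' using Submodule.span_induction with
      | mem a h =>
        obtain ⟨j, rfl⟩ := h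
        refine ⟨f j ^ e j • m j, funext fun i => ?_⟩
        show LocalizedModule.mk (f j ^ e j • m j) 1 = f j ^ (N + e j) • η i
        rw [LocalizedModule.smul'_mk, LocalizedModule.mk_eq]
        refine ⟨⟨f i ^ e j, e j, rfl⟩, ?_⟩
        simp only [Submonoid.smul_def, one_smul]
        have h := he j i
        rw [mul_pow, smul_sub, sub_eq_zero, smul_smul, smul_smul] at h
        simp only [smul_smul]
        rw [show f i ^ e j * (f i ^ N * f j ^ e j) = f i ^ e j * f j ^ e j * f i ^ N by ring,
          show f i ^ e j * f j ^ (N + e j) = f i ^ e j * f j ^ e j * f j ^ N by ring]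
        exact h.symm
      | zero => simp
      | add x y _ _ hx hy => rw [add_smul]; exact add_mem hx hy
      | smul c x _ hx => rw [smul_eq_mul, mul_smul]; exact Submodule.smul_mem _ c hx
    obtain ⟨μ, hμ, hμη⟩ := Groth.Agent.H48.FG.exists_preimage hq ψ x hx n hη hker
    exact ⟨μ, hμ, fun i => congrFun hμη i⟩

end Groth.Agent.S7090
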