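import Groth.Statements.S7091
import Groth.Agent.Lib.DR.DComp.Completion

set_option autoImplicit false
universe u
attribute [local instance] HasDerivedCategory.standard
open CategoryTheory
open DRing

open Groth.Agent.Lib.DR.DComp Groth.Agent.Lib.RGamma

namespace Groth.Agent.S7091

/-- Let A be a commutative ring, I a finitely generated ideal, and assume the derived completion functor
(left adjoint to the inclusion of derived complete objects) exists. If a morphism K → L in D(A)
induces isomorphisms on cohomology in degrees ≥ 1 and a surjection in degree 0, then so does the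
induced morphism between the derived completions. -/
theorem result {A : Type u} [CommRing A] (I : Ideal A) (hI : I.FG)
    [DRing.HasDerivedCompletion I] {K L : Dual.D A} (φ : K ⟶ L)
    (hiso : ∀ i : ℤ, 1 ≤ i → IsIso ((DerivedCategory.homologyFunctor (ModuleCat.{u} A) i).map φ))
    (hepi : Epi ((DerivedCategory.homologyFunctor (ModuleCat.{u} A) 0).map φ)) :
    (∀ i : ℤ, 1 ≤ i → IsIso ((DerivedCategory.homologyFunctor (ModuleCat.{u} A) i).map
        ((DRing.derivedCompletion I).map φ).hom)) ∧
      Epi ((DerivedCategory.homologyFunctor (ModuleCat.{u} A) 0).map ((DRing.derivedCompletion I).map φ).hom) := by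
  obtain ⟨s, hs⟩ := hI
  obtain ⟨C, p, δ, hT⟩ := Pretriangulated.distinguished_cocone_triangle φ
  obtain ⟨D, p', δ', h, hT', hD, hh⟩ := exists_cone_completion (I := I) φ p δ hT
  have hC : ∀ i : ℤ, 0 ≤ i → Subsingleton (Dual.HD A C i) := fun i hi =>
    have := hiso (i + 1) (by omega)
    subsingleton_cone φ p δ hT i (if h0 : i = 0 then h0 ▸ hepi else by
      have := hiso i (by omega)
      exact inferInstance) inferInstance
  have hD' : ∀ i : ℤ, 0 ≤ i → Subsingleton (Dual.HD A D i) := fun i hi =>
    subsingleton_HD_of_pBij hs hh hD i fun j hj _ => hC j (hi.trans hj)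
  refine ⟨fun i hi => ?_, epi_of_cone _ p' δ' hT' 0 (hD' 0 le_rfl)⟩
  have := epi_of_cone _ p' δ' hT' i (hD' i (by omega))
  have := mono_of_cone _ p' δ' hT' i (hD' (i - 1) (by omega))
  exact isIso_of_mono_of_epi _

end Groth.Agent.S7091
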