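import Groth.Statements.S7092
import Groth.Agent.Lib.DR.DComp.Completion

set_option autoImplicit false
universe u
attribute [local instance] HasDerivedCategory.standard
open CategoryTheory
open DRing

open Groth.Agent.Lib.DR.DComp Groth.Agent.Lib.RGamma

namespace Groth.Agent.S7092

/-- Let A be a commutative ring, I an ideal generated by a finite set of r elements, and assume the
derived completion functor exists. If a morphism K → L in D(A) induces isomorphisms on cohomology in
degrees ≤ -1 and an injection in degree 0, then the induced morphism of derived completions induces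
isomorphisms on cohomology in degrees ≤ -r-1 and an injection in degree -r. -/
theorem result {A : Type u} [CommRing A] (I : Ideal A) (s : Finset A)
    (hs : Ideal.span (s : Set A) = I) [DRing.HasDerivedCompletion I] {K L : Dual.D A} (φ : K ⟶ L)
    (hiso : ∀ i : ℤ, i ≤ -1 → IsIso ((DerivedCategory.homologyFunctor (ModuleCat.{u} A) i).map φ))
    (hmono : Mono ((DerivedCategory.homologyFunctor (ModuleCat.{u} A) 0).map φ)) :
    (∀ i : ℤ, i ≤ -(s.card : ℤ) - 1 → IsIso ((DerivedCategory.homologyFunctor (ModuleCat.{u} A) i).map
        ((DRing.derivedCompletion I).map φ).hom)) ∧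
      Mono ((DerivedCategory.homologyFunctor (ModuleCat.{u} A) (-(s.card : ℤ))).map
        ((DRing.derivedCompletion I).map φ).hom) := by
  obtain ⟨C, p, δ, hT⟩ := Pretriangulated.distinguished_cocone_triangle φ
  obtain ⟨D, p', δ', h, hT', hD, hh⟩ := exists_cone_completion (I := I) φ p δ hT
  have hC : ∀ i : ℤ, i ≤ -1 → Subsingleton (Dual.HD A C i) := fun i hi =>
    have := hiso i hi
    subsingleton_cone φ p δ hT i inferInstance (if h0 : i + 1 = 0 then h0.symm ▸ hmono else by
      have := hiso (i + 1) (by omega)
      exact inferInstance)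
  have hD' : ∀ i : ℤ, i + (s.card : ℤ) ≤ -1 → Subsingleton (Dual.HD A D i) := fun i hi =>
    subsingleton_HD_of_pBij hs hh hD i fun j _ hj => hC j (hj.trans hi)
  refine ⟨fun i hi => ?_, mono_of_cone _ p' δ' hT' _ (hD' _ (by omega))⟩
  have := epi_of_cone _ p' δ' hT' i (hD' i (by omega))
  have := mono_of_cone _ p' δ' hT' i (hD' (i - 1) (by omega))
  exact isIso_of_mono_of_epi _

end Groth.Agent.S7092
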