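import Groth.Statements.S7094
import Groth.Agent.H56.RelPC.RelPerfFibre

set_option autoImplicit false
universe u
attribute [local instance] HasDerivedCategory.standard
open CategoryTheory
open Dual2

namespace Groth.Agent.S7094

/-- Let R → A be a flat homomorphism of finite presentation of commutative rings and K a pseudo-coherent
object of D(A). Then K is R-perfect if and only if H^i(K) = 0 for all sufficiently negative i and,
for each prime p of R, H^i(K ⊗^L_R κ(p)) = 0 for all sufficiently negative i; here K is viewed in
D(R) by restriction of scalars and the derived tensor product with the residue field κ(p) is the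
total left derived functor, assumed to exist. -/
theorem result (R A : Type u) [CommRing R] [CommRing A] [Algebra R A]
    [Module.Flat R A] [Algebra.FinitePresentation R A]
    [∀ p : PrimeSpectrum R, DRing.HasLTensor R (ModuleCat.of R p.asIdeal.ResidueField)]
    (K : Dual.D A) (hK : DRing.IsPseudoCoherent' A K) :
    Dual2.IsRelPerfect R A K ↔
      (∃ a : ℤ, ∀ i : ℤ, i < a → Subsingleton (Dual.HD A K i)) ∧
        ∀ p : PrimeSpectrum R, ∃ a : ℤ, ∀ i : ℤ, i < a →
          Subsingleton (Dual.HD R ((DRing.LTensor R (ModuleCat.of R p.asIdeal.ResidueField)).obj
            ((DRing.restrictD (algebraMap R A)).obj K)) i) := by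
  exact Groth.Agent.H56.RelPC.RelPerfFibre.isRelPerfect_iff K hK

end Groth.Agent.S7094
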