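import Groth.Statements.S7095
import Groth.Agent.Lib.DR.DComp.TensorSingle

set_option autoImplicit false
universe u
attribute [local instance] HasDerivedCategory.standard
open CategoryTheory
open DRing

open Groth.Agent.Lib.DR Groth.Agent.Lib.DR.PseudoCoherent CategoryTheory.Limits MonoidalCategory

namespace Groth.Agent.S7095

/-- Let A be a Noetherian commutative ring and I an ideal, and assume the derived completion functor and
the derived tensor product with a finite A-module M (total left derived functor) exist. For every
object K of D(A) whose cohomology is bounded above, K^∧ ⊗^L_A M is the derived completion of K ⊗^L_A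
M through the map K ⊗^L_A M → K^∧ ⊗^L_A M induced by the canonical morphism K → K^∧ to the derived
completion K^∧ of K: the object K^∧ ⊗^L_A M is derived complete with respect to I, and every
morphism from K ⊗^L_A M to a derived complete object of D(A) factors uniquely through that map. -/
theorem result {A : Type u} [CommRing A] [IsNoetherianRing A] (I : Ideal A)
    [DRing.HasDerivedCompletion I] (M : Type u) [AddCommGroup M] [Module A M] [Module.Finite A M]
    [DRing.HasLTensor A (ModuleCat.of A M)] (K : Dual.D A) (b : ℤ) (hK : ∀ i : ℤ, b < i → Subsingleton (Dual.HD A K i)) :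
    DRing.IsDerivedComplete I ((DRing.LTensor A (ModuleCat.of A M)).obj ((DRing.derivedCompletion I).obj K).obj) ∧
      ∀ E : Dual.D A, DRing.IsDerivedComplete I E →
        Function.Bijective (fun φ : (DRing.LTensor A (ModuleCat.of A M)).obj ((DRing.derivedCompletion I).obj K).obj ⟶ E =>
          (DRing.LTensor A (ModuleCat.of A M)).map (DRing.toDerivedCompletion I K) ≫ φ) := by

  obtain ⟨s, hs⟩ := IsNoetherian.noetherian I
  have hη := DComp.pBij_toDerivedCompletion' (I := I) K
  have hc := DComp.isDerivedComplete_completion (I := I) K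
  let N := ModuleCat.of A M
  let S : DRing.Cx A := (HomologicalComplex.single (ModuleCat.{u} A) (ComplexShape.up ℤ) 0).obj N
  let ι := (DerivedCategory.singleFunctorIsoCompQ (ModuleCat.{u} A) 0).app N
  have : Module.FinitePresentation A N := Module.finitePresentation_of_finite _ _
  obtain ⟨F, hFz, hFp, ⟨e⟩⟩ := Representative.ba_ff_of_forall
    (fun m => Coherent.pcn_single_of_fp' Coherent.isCoh_of_isNoetherianRing N 0 m)
    (X := (DerivedCategory.singleFunctor (ModuleCat.{u} A) 0).obj N) (b := 0) inferInstance
  have hFf : ∀ i, fproj A (F.X i) := fun i =>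
    have := (hFp i).2
    ⟨(hFp i).1, Module.Projective.of_free⟩
  have : ∀ q, Projective (F.X q) := fun q =>
    have := (hFf q).2
    (IsProjective.iff_projective (R := A) (F.X q)).1 this
  have : F.IsStrictlyLE 0 := (CochainComplex.isStrictlyLE_iff _ _).2 hFz
  have : F.IsKProjective := CochainComplex.isKProjective_of_projective F 0
  obtain ⟨q, hq⟩ := Basic.exists_Q_map_eq (show DerivedCategory.Q.obj F ⟶ DerivedCategory.Q.obj S from e.hom ≫ ι.hom)
  have hqi : QuasiIso q := by
    rw [← DerivedCategory.isIso_Q_map_iff_quasiIso, hq]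
    exact (e ≪≫ ι).isIso_hom
  have hw : ∀ (P : DRing.Cx A) [P.IsKProjective], IsIso (DerivedCategory.Q.map (P ◁ q)) := fun P _ =>
    DTenBasic.isIso_Q_map _ (LTensorCx.quasiIso_tensor_left (KFlat.isKFlat_of_isKProjective P) q)
  let α : ∀ (P : DRing.Cx A) [P.IsKProjective],
      (DRing.LTensor A N).obj (DerivedCategory.Q.obj P) ≅ DerivedCategory.Q.obj (P ⊗ F) := fun P _ =>
    LTensorModule.lt N P ≪≫ DerivedCategory.Q.mapIso (DComp.tensSingleIso N P) ≪≫
      (@asIso _ _ _ _ (DerivedCategory.Q.map (P ◁ q)) (hw P)).symm
  have hα : ∀ (P G : DRing.Cx A) [P.IsKProjective] [G.IsKProjective] (h : P ⟶ G),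
      (DRing.LTensor A N).map (DerivedCategory.Q.map h) ≫ (α G).hom =
        (α P).hom ≫ DerivedCategory.Q.map (h ▷ F) := fun P G _ _ h => by
    have := hw G
    have := hw P
    have n : (DRing.LTensor A N).map (DerivedCategory.Q.map h) ≫ (LTensorModule.lt N G).hom =
        (LTensorModule.lt N P).hom ≫ DerivedCategory.Q.map ((TorAmp.tens N).map h) :=
      (Derived.α (MonoidalCategory.tensorRight N)).naturality h
    simp only [α, Iso.trans_hom, Iso.symm_hom, asIso_inv, Functor.mapIso_hom, Category.assoc]
    rw [reassoc_of% n, ← Functor.map_comp_assoc, DComp.tensSingleIso_naturality, Functor.map_comp_assoc]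
    congr 2
    rw [IsIso.comp_inv_eq, Category.assoc, IsIso.eq_inv_comp, ← Functor.map_comp, ← Functor.map_comp,
      whisker_exchange]
  obtain ⟨h1, h2⟩ := DComp.tensor_completion (DRing.LTensor A N) F 0 hFz hFf α hα _ hη hc b
    (fun i hi => DComp.subsingleton_HD_of_pBij hs hη hc i fun j hj _ => hK j (by omega))
  exact ⟨h1, h2⟩


end Groth.Agent.S7095
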