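import Groth.Statements.S7097
import Groth.Agent.Lib.DR.DComp.CechHom

set_option autoImplicit false
universe u
attribute [local instance] HasDerivedCategory.standard
open CategoryTheory
open DRing

open Groth.Agent.Lib Groth.Agent.Lib.DR CategoryTheory.Limits MonoidalCategory

namespace Groth.Agent.S7097

/-- Let A be a commutative ring and I the ideal generated by a finite list of elements f_1, …, f_r, and
let K be an object of D(A). Assume the derived completion functor and the derived functor RHom_A(Č,
−) of the extended alternating Cech complex Č = (A → ∏ A_{f_i} → … → A_{f_1⋯f_r}) exist. Then the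
derived completion of K is isomorphic in D(A) to RHom_A(Č, K). (Existence of an isomorphism; the
derived completion is itself only determined up to isomorphism.) -/
theorem result {A : Type u} [CommRing A] (fs : List A) (I : Ideal A)
    (hI : Ideal.span {x : A | x ∈ fs} = I) [DRing.HasDerivedCompletion I]
    [DRing.HasRHomCx (DerCA.extCech (ModuleCat.of A A) fs)] (K : Dual.D A) :
    Nonempty (((DRing.derivedCompletion I).obj K).obj ≅
      (DRing.RHomCx (DerCA.extCech (ModuleCat.of A A) fs)).obj K) := by

  let C := DComp.cech fs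
  obtain ⟨J, hJ, -, ⟨e⟩⟩ := RGamma.exists_rep K
  let P : DRing.Cx A := (KProjRes.res A).obj C
  have : CochainComplex.IsKProjective P := KProjRes.isKProjective_res A C
  let q : P ⟶ C := (KProjRes.aug A).app C
  have : QuasiIso q := KProjRes.quasiIso_aug A C
  obtain ⟨eR⟩ := RHomRes.nonempty_RHomCx_iso_homD q
  have := RHomRes.isIso_precomp q J
  let eC : (DRing.RHomCx C).obj K ≅ DerivedCategory.Q.obj (DRing.homCx C J) :=
    eR.app K ≪≫ (DComp.homD P).mapIso e ≪≫ (DComp.homDIso P).app J ≪≫
      (asIso (DerivedCategory.Q.map ((RHomRes.precomp q).app J))).symm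
  let η : K ⟶ DerivedCategory.Q.obj (DRing.homCx C J) :=
    (e ≪≫ DerivedCategory.Q.mapIso (DComp.homUnitIso.app J)).hom ≫
      DerivedCategory.Q.map ((RHomRes.precomp
        (show C ⟶ 𝟙_ (DRing.Cx A) from ExtCech.aug (ModuleCat.of A A) fs)).app J)
  have hη : RGamma.PBij I η := DComp.pBij_comp (DComp.pBij_of_isIso _)
    (DComp.pBij_precomp_aug J fs fun f hf => hI ▸ Ideal.subset_span hf)
  obtain ⟨e', -⟩ := DComp.exists_iso_of_pBij (DComp.pBij_toDerivedCompletion' (I := I) K) hη
    (DComp.isDerivedComplete_completion (I := I) K) (DComp.isDerivedComplete_homCx_cech fs I hI J)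
  exact ⟨e' ≪≫ eC.symm⟩


end Groth.Agent.S7097
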