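import Groth.Statements.S7098
import Groth.Agent.Lib.DR.DComp.Completion
import Groth.Agent.Lib.DR.ExactPush
import Groth.Agent.Lib.DR.FlatBC

set_option autoImplicit false
universe u
attribute [local instance] HasDerivedCategory.standard
open DRing
open CategoryTheory CategoryTheory.Limits

open Groth.Agent.Lib.DR.DComp Groth.Agent.Lib.RGamma

namespace Groth.Agent.S7098

/-- (1)⇔(2): let A be a commutative ring, f an element of A and K an object of D(A). Then every morphism
A_f[0] → K[n] vanishes for every integer n if and only if every morphism E → K vanishes for every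
object E of D(A) obtained by restriction of scalars from D(A_f). -/
theorem result {A : Type u} [CommRing A] (f : A)
    (K : Dual.D A) :
    (∀ n : ℤ, Subsingleton (Dual.inD A (Localization.Away f) ⟶ K⟦n⟧)) ↔
      ∀ E : Dual.D (Localization.Away f),
        Subsingleton ((DRing.restrictD (algebraMap A (Localization.Away f))).obj E ⟶ K) := by
  constructor
  · intro h E
    have hc : DRing.IsDerivedComplete (Ideal.span {f}) K := by
      rw [isDerivedComplete_iff]
      intro g hg i
      have h' := fun j => (subsingleton_hom_shift_iff f K j).1 (h j)
      have hf : DC f (Dual.HD A K i) := ⟨(h' i).1, by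
        have := (h' (i + 1)).2
        rwa [add_sub_cancel_right] at this⟩
      exact forall_dc_of_span (s := {f}) rfl (by simpa using hf) g hg
    let C := DerivedCategory.Q.objPreimage E
    have hP : Perp (Ideal.span {f}) ((DRing.restrictD (algebraMap A (Localization.Away f))).obj E) :=
      (perp_of_bijective f (Ideal.mem_span_singleton_self f)
        (((ModuleCat.restrictScalars.{u} (algebraMap A (Localization.Away f))).mapHomologicalComplex
          (ComplexShape.up ℤ)).obj C)
        fun i => show Function.Bijective fun x : C.X i => (algebraMap A (Localization.Away f) f) • x from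
          (IsLocalization.Away.algebraMap_isUnit (S := Localization.Away f) f).smul_bijective).of_iso
        ((Groth.Agent.Lib.DR.ExactPush.mapQ _ C).symm ≪≫
          (DRing.restrictD (algebraMap A (Localization.Away f))).mapIso (DerivedCategory.Q.objObjPreimageIso E))
    exact subsingleton_of_forall_eq 0 fun φ => hP K hc φ
  · intro h n
    let φ := algebraMap A (Localization.Away f)
    let R' : ModuleCat.{u} (Localization.Away f) := ModuleCat.of _ (Localization.Away f)
    let ε : (DerivedCategory.singleFunctor (ModuleCat.{u} A) n).obj ((ModuleCat.restrictScalars.{u} φ).obj R') ≅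
        (DerivedCategory.singleFunctor (ModuleCat.{u} A) n).obj (ModuleCat.of A (Localization.Away f)) :=
      (DerivedCategory.singleFunctor (ModuleCat.{u} A) n).mapIso
        (LinearEquiv.toModuleIso (m₁ := ((ModuleCat.restrictScalars.{u} φ).obj R').isModule)
          (Groth.Agent.Lib.DR.FlatBC.resEquiv A (Localization.Away f)))
    have h0 : Subsingleton
        ((DerivedCategory.singleFunctor (ModuleCat.{u} A) n).obj (ModuleCat.of A (Localization.Away f)) ⟶ K) :=
      have := h ((DerivedCategory.singleFunctor (ModuleCat.{u} (Localization.Away f)) n).obj R')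
      (((Groth.Agent.Lib.DR.ExactPush.mapSingle (ModuleCat.restrictScalars.{u} φ) R' n) ≪≫ ε).homFromEquiv).symm.subsingleton
    let e := ((DerivedCategory.singleFunctors (ModuleCat.{u} A)).shiftIso n 0 n (add_zero n)).app
      (ModuleCat.of A (Localization.Away f))
    have h1 : Subsingleton ((DerivedCategory.singleFunctor (ModuleCat.{u} A) n).obj
        (ModuleCat.of A (Localization.Away f))⟦n⟧ ⟶ K⟦n⟧) :=
      (shiftEquiv (Dual.D A) n).fullyFaithfulFunctor.homEquiv.symm.subsingleton
    exact @Equiv.subsingleton _ _ e.homFromEquiv.symm h1

end Groth.Agent.S7098
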