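import Groth.Statements.S7099
import Groth.Agent.Lib.DR.RHomRes
import Groth.Agent.Lib.DR.DComp.TensorSingle

set_option autoImplicit false
universe u
attribute [local instance] HasDerivedCategory.standard
open CategoryTheory
open DRing

open Groth.Agent.Lib Groth.Agent.Lib.DR CategoryTheory.Limits MonoidalCategory

namespace Groth.Agent.S7099

theorem nonempty_away_tensor {A : Type u} [CommRing A] (f g : A) :
    Nonempty (TensorProduct A (Localization.Away f) (Localization.Away g) ≃ₗ[A] Localization.Away (f * g)) := by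
  let B := Localization.Away f
  let T := Localization (Algebra.algebraMapSubmonoid B (Submonoid.powers g))
  have hT : IsLocalization.Away (algebraMap A B g) T :=
    (IsLocalization.iff_of_le_of_exists_dvd (R := B) (S := T)
      (Algebra.algebraMapSubmonoid B (Submonoid.powers g)) (Submonoid.powers (algebraMap A B g))
      (Algebra.algebraMapSubmonoid_powers (S := B) g).le
      fun n hn => ⟨n, (Algebra.algebraMapSubmonoid_powers (S := B) g).ge hn, dvd_rfl⟩).1 Localization.isLocalization
  have := IsLocalization.Away.mul' B T f g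
  exact ⟨((Localization.tensorLeftAlgEquiv (Submonoid.powers g) B).restrictScalars A).toLinearEquiv ≪≫ₗ
    (IsLocalization.algEquiv (Submonoid.powers (f * g)) T (Localization.Away (f * g))).toLinearEquiv⟩

/-- A flat module in degree zero is K-flat. -/
theorem isKFlat_single {A : Type u} [CommRing A] (M : ModuleCat.{u} A) [Module.Flat A M] :
    DRing.IsKFlat A ((HomologicalComplex.single (ModuleCat.{u} A) (ComplexShape.up ℤ) 0).obj M) := by
  refine KFlat.isKFlat_of_flat _ 0 (fun i hi => HomologicalComplex.isZero_single_obj_X _ _ _ _ (by omega)) fun i => ?_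
  by_cases h : i = 0
  · subst h
    exact Module.Flat.of_linearEquiv (HomologicalComplex.singleObjXSelf (ComplexShape.up ℤ) (0 : ℤ) M).toLinearEquiv
  · have := ModuleCat.subsingleton_of_isZero (HomologicalComplex.isZero_single_obj_X (ComplexShape.up ℤ) (0 : ℤ) M i h)
    infer_instance


/-- Let A be a commutative ring, f and g elements of A, and K an object of D(A). Assuming the derived
functors RHom_A(A_f, −), RHom_A(A_g, −) and RHom_A(A_{fg}, −) (total right derived functors of the
Hom complexes out of the localizations placed in degree 0) exist, RHom_A(A_f, RHom_A(A_g, K)) is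
isomorphic in D(A) to RHom_A(A_{fg}, K). (Existence of an isomorphism only.) -/
theorem result {A : Type u} [CommRing A] (f g : A)
    [DRing.HasRHomCx ((HomologicalComplex.single (ModuleCat.{u} A) (ComplexShape.up ℤ) 0).obj
      (ModuleCat.of A (Localization.Away f)))]
    [DRing.HasRHomCx ((HomologicalComplex.single (ModuleCat.{u} A) (ComplexShape.up ℤ) 0).obj
      (ModuleCat.of A (Localization.Away g)))]
    [DRing.HasRHomCx ((HomologicalComplex.single (ModuleCat.{u} A) (ComplexShape.up ℤ) 0).obj
      (ModuleCat.of A (Localization.Away (f * g))))]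
    (K : Dual.D A) :
    Nonempty ((DRing.RHomCx ((HomologicalComplex.single (ModuleCat.{u} A) (ComplexShape.up ℤ) 0).obj
        (ModuleCat.of A (Localization.Away f)))).obj
      ((DRing.RHomCx ((HomologicalComplex.single (ModuleCat.{u} A) (ComplexShape.up ℤ) 0).obj
        (ModuleCat.of A (Localization.Away g)))).obj K) ≅
      (DRing.RHomCx ((HomologicalComplex.single (ModuleCat.{u} A) (ComplexShape.up ℤ) 0).obj
        (ModuleCat.of A (Localization.Away (f * g))))).obj K) := by

  let B := ModuleCat.of A (Localization.Away f)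
  let C := ModuleCat.of A (Localization.Away g)
  let D := ModuleCat.of A (Localization.Away (f * g))
  let Sf : DRing.Cx A := (HomologicalComplex.single (ModuleCat.{u} A) (ComplexShape.up ℤ) 0).obj B
  let Sg : DRing.Cx A := (HomologicalComplex.single (ModuleCat.{u} A) (ComplexShape.up ℤ) 0).obj C
  let Sfg : DRing.Cx A := (HomologicalComplex.single (ModuleCat.{u} A) (ComplexShape.up ℤ) 0).obj D
  have : Module.Flat A B := IsLocalization.flat (Localization.Away f) (Submonoid.powers f)
  let Pf : DRing.Cx A := (KProjRes.res A).obj Sf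
  let Pg : DRing.Cx A := (KProjRes.res A).obj Sg
  have : CochainComplex.IsKProjective Pf := KProjRes.isKProjective_res A Sf
  have : CochainComplex.IsKProjective Pg := KProjRes.isKProjective_res A Sg
  let qf : Pf ⟶ Sf := (KProjRes.aug A).app Sf
  let qg : Pg ⟶ Sg := (KProjRes.aug A).app Sg
  have hqf : QuasiIso qf := KProjRes.quasiIso_aug A Sf
  have hqg : QuasiIso qg := KProjRes.quasiIso_aug A Sg
  let P := Pf ⊗ Pg
  have : P.IsKProjective := RHom.isKProjective_tensor Pf Pg
  obtain ⟨eA⟩ := nonempty_away_tensor f g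
  let w : Sf ⊗ Sg ≅ Sfg := (DComp.tensSingleIso C Sf).symm ≪≫
    (HomologicalComplex.singleMapHomologicalComplex (MonoidalCategory.tensorRight C) (ComplexShape.up ℤ) 0).app B ≪≫
    (HomologicalComplex.single (ModuleCat.{u} A) (ComplexShape.up ℤ) 0).mapIso
      (show MonoidalCategory.tensorObj B C ≅ D from eA.toModuleIso)
  let q : P ⟶ Sfg := qf ▷ Pg ≫ Sf ◁ qg ≫ w.hom
  have h1 : QuasiIso (qf ▷ Pg) :=
    KFlat.quasiIso_tensor_of_isKFlat (KFlat.isKFlat_of_isKProjective Pg) qf
  have h2 : QuasiIso (Sf ◁ qg) := LTensorCx.quasiIso_tensor_left (isKFlat_single B) qg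
  have hq : QuasiIso q := inferInstance
  obtain ⟨eF⟩ := RHomRes.nonempty_RHomCx_iso_homD qf
  obtain ⟨eG⟩ := RHomRes.nonempty_RHomCx_iso_homD qg
  obtain ⟨eFG⟩ := RHomRes.nonempty_RHomCx_iso_homD q
  obtain ⟨G, -, ⟨e⟩⟩ := DTenBasic.exists_rep K
  exact ⟨eF.app _ ≪≫ (DComp.homD Pf).mapIso (eG.app K ≪≫ (DComp.homD Pg).mapIso e.symm ≪≫
      (DComp.homDIso Pg).app G) ≪≫ (DComp.homDIso Pf).app (DRing.homCx Pg G) ≪≫
    DerivedCategory.Q.mapIso (HomCx.homCxIso Pf Pg G) ≪≫ ((DComp.homDIso P).app G).symm ≪≫
    (DComp.homD P).mapIso e ≪≫ (eFG.app K).symm⟩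


end Groth.Agent.S7099
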