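import Groth.Statements.S7102
import Groth.Agent.Lib.DR.Representative
import Groth.Agent.Lib.DR.TorAmp
import Groth.Agent.Lib.DR.BaseChange
import Groth.Agent.Lib.DR.DTenBasic
import Mathlib.Algebra.Homology.BifunctorShift

set_option autoImplicit false
universe u
attribute [local instance] HasDerivedCategory.standard
open Dual2

open CategoryTheory CategoryTheory.Limits CategoryTheory.Pretriangulated MonoidalCategory
open Groth.Agent.Lib Groth.Agent.Lib.DR Groth.Agent.Lib.DR.FiniteComplex Groth.Agent.Lib.DR.PseudoCoherent Groth.Agent.Lib.DR.BaseChange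

namespace Groth.Agent.S7102

variable (R : Type u) {A : Type u} [CommRing R] [CommRing A] [Algebra R A]

/-- Relative perfection in pointwise form. -/
def RP (Y : Dual.D A) : Prop :=
  (∀ m, PCn (ff A) m Y) ∧ ∃ a b, Bdd (flat R) a b ((DRing.restrictD (algebraMap R A)).obj Y)

variable {R}

lemma rp_iff (Y : Dual.D A) : Dual2.IsRelPerfect R A Y ↔ RP R Y :=
  and_congr (Representative.isPseudoCoherent'_iff_forall Y) Iff.rfl

lemma RP.of_iso {X Y : Dual.D A} (h : RP R X) (e : X ≅ Y) : RP R Y :=
  ⟨fun m => (h.1 m).of_iso e, h.2.imp fun _ => Exists.imp fun _ hb =>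
    hb.of_iso ((DRing.restrictD (algebraMap R A)).mapIso e)⟩

lemma rp_zero {X : Dual.D A} (h : IsZero X) : RP R X :=
  ⟨fun m => pcn_of_isLE good_ff (Basic.isLE_of_isZero h _),
    0, 0, bdd_zero good_flat ((DRing.restrictD (algebraMap R A)).map_isZero h) 0 0⟩

lemma rp_ext (T : Triangle (Dual.D A)) (hT : T ∈ distTriang _) (h₁ : RP R T.obj₁) (h₃ : RP R T.obj₃) :
    RP R T.obj₂ := by
  refine ⟨fun m => PCn.ext good_ff projective_of_ff T hT (h₁.1 m) (h₃.1 m), ?_⟩
  obtain ⟨a, b, ha⟩ := h₁.2
  obtain ⟨c, d, hc⟩ := h₃.2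
  exact ⟨min a c, max b d, Groth.Agent.Lib.DR.TorAmp.bdd_flat_ext _
    ((DRing.restrictD (algebraMap R A)).map_distinguished T hT)
    (ha.mono (min_le_left _ _) (le_max_left _ _)) (hc.mono (min_le_right _ _) (le_max_right _ _))⟩

lemma RP.shift {X : Dual.D A} (h : RP R X) (k : ℤ) : RP R (X⟦k⟧) := by
  refine ⟨fun m => (h.1 (m + k)).shift good_ff k m (by lia), ?_⟩
  obtain ⟨a, b, ha⟩ := h.2
  exact ⟨a - k, b - k, (ha.shift good_flat k (a - k) (b - k) (by lia) (by lia)).of_iso
    (((DRing.restrictD (algebraMap R A)).commShiftIso k).app X).symm⟩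

lemma RP.left {X Y : Dual.D A} (h : RP R (X ⊞ Y)) : RP R X := by
  refine ⟨fun m => (PCn.biprod_summands good_ff projective_of_ff (h.1 m)).1, ?_⟩
  obtain ⟨a, b, ha⟩ := h.2
  exact ⟨a, b, Groth.Agent.Lib.DR.TorAmp.bdd_flat_retract
    ((⟨biprod.inl, biprod.fst, biprod.inl_fst⟩ : Retract X (X ⊞ Y)).map (DRing.restrictD (algebraMap R A))) ha⟩

lemma rp_biprod {X Y : Dual.D A} (hX : RP R X) (hY : RP R Y) : RP R (X ⊞ Y) :=
  rp_ext _ (binaryBiproductTriangle_distinguished X Y) hX hY

variable (P : DRing.Cx A)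

/-- `X ↦ Q (P ⊗ X[-n])`. -/
noncomputable abbrev sfun (n : ℤ) : ModuleCat.{u} A ⥤ Dual.D A :=
  HomologicalComplex.single (ModuleCat.{u} A) (ComplexShape.up ℤ) n ⋙ (KFlat.tcx A).obj P ⋙ DerivedCategory.Q

lemma rp_single (hP : RP R (DerivedCategory.Q.obj P)) (n : ℤ) (X : ModuleCat.{u} A) (hX : fproj A X) :
    RP R ((sfun P n).obj X) := by
  have : HasBinaryBiproducts (ModuleCat.{u} A) := HasBinaryBiproducts.of_hasBinaryProducts
  have h1 : RP R ((sfun P n).obj (ModuleCat.of A A)) := by
    let e : (HomologicalComplex.single (ModuleCat.{u} A) (ComplexShape.up ℤ) n).obj (ModuleCat.of A A) ≅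
        (𝟙_ (DRing.Cx A))⟦(-n)⟧ :=
      (((CochainComplex.singleFunctors (ModuleCat.{u} A)).shiftIso (-n) n 0 (by lia)).app (ModuleCat.of A A)).symm
    exact (hP.shift (-n)).of_iso ((DerivedCategory.Q.commShiftIso (-n)).app P).symm |>.of_iso
      (DerivedCategory.Q.mapIso (((shiftFunctor (DRing.Cx A) (-n)).mapIso (ρ_ P)).symm ≪≫
        (CochainComplex.mapBifunctorShift₂Iso P (𝟙_ (DRing.Cx A)) (curriedTensor (ModuleCat.{u} A)) (-n)).symm ≪≫
          ((KFlat.tcx A).obj P).mapIso e.symm))
  have : (sfun P n).Additive := inferInstance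
  have : PreservesFiniteBiproducts (sfun P n) := Functor.preservesFiniteBiproductsOfAdditive _
  have : PreservesBinaryBiproducts (sfun P n) := preservesBinaryBiproducts_of_preservesBiproducts _
  have h2 : ∀ k : ℕ, RP R ((sfun P n).obj (ModuleCat.of A (Fin k → A))) := by
    intro k
    induction k with
    | zero =>
      refine rp_zero ((sfun P n).map_isZero ?_)
      exact ModuleCat.isZero_of_subsingleton _
    | succ k ih =>
      let e : ModuleCat.of A A ⊞ ModuleCat.of A (Fin k → A) ≅ ModuleCat.of A (Fin (k + 1) → A) :=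
        ModuleCat.biprodIsoProd _ _ ≪≫ (Fin.consLinearEquiv A (fun _ : Fin (k + 1) => A)).toModuleIso
      exact (rp_biprod h1 ih).of_iso (((sfun P n).mapBiprod _ _).symm ≪≫ (sfun P n).mapIso e)
  obtain ⟨_, _⟩ := hX
  obtain ⟨k, π, hπ⟩ := Module.Finite.exists_fin' A X
  obtain ⟨s, hs⟩ := Module.projective_lifting_property π LinearMap.id hπ
  have hs' : ∀ x, π (s x) = x := fun x => LinearMap.congr_fun hs x
  let e' : (X × LinearMap.ker π) ≃ₗ[A] (Fin k → A) :=
    { toFun := fun w => s w.1 + w.2
      map_add' := fun w w' => by simp [add_add_add_comm]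
      map_smul' := fun a w => by simp [smul_add]
      invFun := fun y => (π y, ⟨y - s (π y), by simp [hs']⟩)
      left_inv := fun w => by
        have h0 : π (w.2 : Fin k → A) = 0 := w.2.2
        refine Prod.ext (by simp [hs', h0]) (Subtype.ext (by simp [hs', h0]))
      right_inv := fun y => by simp }
  let e : X ⊞ ModuleCat.of A (LinearMap.ker π) ≅ ModuleCat.of A (Fin k → A) :=
    ModuleCat.biprodIsoProd _ _ ≪≫ e'.toModuleIso
  exact ((h2 k).of_iso ((sfun P n).mapIso e.symm ≪≫ (sfun P n).mapBiprod _ _)).left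

lemma rp_tensor (hP : RP R (DerivedCategory.Q.obj P)) : ∀ (k : ℕ) (E : DRing.Cx A) (a b : ℤ),
    (∀ i, i < a ∨ b < i → IsZero (E.X i)) → (∀ i, fproj A (E.X i)) → b + 1 ≤ a + k →
      RP R (DerivedCategory.Q.obj (P ⊗ E)) := by
  intro k
  induction k with
  | zero =>
    intro E a b hE _ hk
    have hzero : IsZero E := by
      rw [IsZero.iff_id_eq_zero]
      ext i : 1
      exact (hE i (by lia)).eq_of_src _ _
    exact rp_zero ((((KFlat.tcx A).obj P) ⋙ DerivedCategory.Q).map_isZero hzero)
  | succ k ih =>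
    intro E a b hE hEp hk
    obtain ⟨S, φ, hz, hSp, hSz, hiso, -⟩ := exists_stupidTrunc good_fproj E (a + 1) hEp
    have hmono : ∀ i, Mono (φ.f i) := fun i => by
      by_cases h : a + 1 ≤ i
      · have := hiso i h; infer_instance
      · exact ⟨fun _ _ _ => (hz i (not_le.1 h)).eq_of_tgt _ _⟩
    have : Mono φ := HomologicalComplex.mono_of_mono_f φ hmono
    let T := ShortComplex.mk φ (cokernel.π φ) (cokernel.condition φ)
    have hT : T.ShortExact :=
      { exact := ShortComplex.exact_of_g_is_cokernel _ (cokernelIsCokernel φ) }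
    have hTi : ∀ i, (T.map (HomologicalComplex.eval (ModuleCat.{u} A) (.up ℤ) i)).ShortExact :=
      fun i => hT.map_of_exact _
    have hC : ∀ i, i ≠ a → IsZero ((cokernel φ).X i) := fun i hi => by
      have := (hTi i).epi_g
      by_cases h : a + 1 ≤ i
      · have := hiso i h
        refine IsZero.of_epi_eq_zero ((cokernel.π φ).f i) ?_
        rw [← cancel_epi (φ.f i), ← HomologicalComplex.comp_f, cokernel.condition]
        simp
      · exact IsZero.of_epi ((cokernel.π φ).f i) (hE i (Or.inl (by lia)))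
    have hCa : fproj A ((cokernel φ).X a) := by
      have : IsIso ((cokernel.π φ).f a) := (hTi a).isIso_g_iff.2 (hz a (by lia))
      exact good_fproj.iso (asIso ((cokernel.π φ).f a)) (hEp a)
    have hflat : ∀ i, Module.Flat A ((cokernel φ).X i) := fun i => by
      by_cases h : i = a
      · subst h
        haveI := hCa.2
        exact Module.Flat.of_projective
      · haveI := ModuleCat.subsingleton_of_isZero (hC i h)
        infer_instance
    have : (cokernel φ).IsStrictlyGE a :=
      ((cokernel φ).isStrictlyGE_iff a).2 fun i hi => hC i (by lia)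
    have : (cokernel φ).IsStrictlyLE a :=
      ((cokernel φ).isStrictlyLE_iff a).2 fun i hi => hC i (by lia)
    obtain ⟨M, ⟨e⟩⟩ := CochainComplex.exists_iso_single (cokernel φ) a
    have hM : fproj A M := good_fproj.iso ((HomologicalComplex.eval _ _ a).mapIso e ≪≫
      HomologicalComplex.singleObjXSelf (.up ℤ) a M) hCa
    have hses := SiteKFlat.Cx.shortExact_of_mono ((KFlat.tcx A).obj P) hT
      (KFlat.mono_obj_map_of_flat₃ hT hflat P)
    refine rp_ext _ (DerivedCategory.triangleOfSES_distinguished hses)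
      (ih S (a + 1) b (fun i hi => hi.elim (hz i) fun hi => hSz i (hE i (Or.inr hi))) hSp (by lia)) ?_
    exact (rp_single P hP a M hM).of_iso (DerivedCategory.Q.mapIso (((KFlat.tcx A).obj P).mapIso e.symm))

/-- Let R → A be a flat homomorphism of finite presentation of commutative rings, E a bounded cochain
complex of finite projective A-modules (a perfect object of D(A)) for which the derived functor −
⊗^L_A E exists, and M an R-perfect object of D(A). Then M ⊗^L_A E is R-perfect. -/
theorem result (R A : Type u) [CommRing R] [CommRing A] [Algebra R A]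
    [Module.Flat R A] [Algebra.FinitePresentation R A] (E : DRing.Cx A) (a b : ℤ)
    (hEb : DRing.VanishesOutside E a b) (hEp : DRing.TermwiseFiniteProjective E) [DRing.HasLTensorCx A E]
    (M : Dual.D A) (hM : Dual2.IsRelPerfect R A M) :
    Dual2.IsRelPerfect R A ((DRing.LTensorCx A E).obj M) := by
  obtain ⟨P, hP, ⟨eP⟩⟩ := DTenBasic.exists_rep M
  have hMrp := (rp_iff M).1 hM
  have hEflat : ∀ i, Module.Flat A (E.X i) := fun i => by
    haveI := (hEp i).2
    exact Module.Flat.of_projective
  obtain ⟨e⟩ := LTensorCx.nonempty_iso_tensor (E := E) (KFlat.isKFlat_of_flat E b (fun i hi => hEb i (Or.inr hi)) hEflat)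
    eP (Iso.refl _)
  exact (rp_iff _).2 ((rp_tensor P (hMrp.of_iso eP.symm) (b + 1 - a).toNat E a b hEb hEp (by lia)).of_iso e.symm)

end Groth.Agent.S7102
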