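import Groth.Statements.S7104
import Groth.Agent.H56.RelPC.FibBdd

set_option autoImplicit false
universe u
attribute [local instance] HasDerivedCategory.standard
open CategoryTheory
open Dual2

namespace Groth.Agent.S7104

/-- Let R be a commutative ring and A an R-algebra which is flat, of finite presentation, and a quotient
of the polynomial ring R[x_1, …, x_d]. Let q be a prime of A lying over the prime p of R, and K a
pseudo-coherent object of D(A). Write K_q for the derived base change of K to A_q (assumed to exist)
and view it in D(R_p) and in D(R) by restriction of scalars. If the cohomology of K_q ⊗^L_{R_p} κ(p)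
(derived tensor with the residue field, assumed to exist) vanishes outside the degrees in [a, b],
then K_q has tor amplitude in [a - d, b] as a complex of R-modules. -/
theorem result (R A : Type u) [CommRing R] [CommRing A] [Algebra R A]
    [Module.Flat R A] [Algebra.FinitePresentation R A] (d : ℕ)
    (ψ : MvPolynomial (Fin d) R →ₐ[R] A) (hψ : Function.Surjective ψ)
    (q : Ideal A) [q.IsPrime] (p : Ideal R) [p.IsPrime] (hpq : p = Ideal.comap (algebraMap R A) q)
    [DRing.HasLBaseChange (algebraMap A (Localization.AtPrime q))]
    [DRing.HasLTensor (Localization.AtPrime p) (ModuleCat.of (Localization.AtPrime p) p.ResidueField)]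
    (K : Dual.D A) (hK : DRing.IsPseudoCoherent' A K) (a b : ℤ)
    (hfib : ∀ i : ℤ, i < a ∨ b < i → Subsingleton (Dual.HD (Localization.AtPrime p)
      ((DRing.LTensor (Localization.AtPrime p) (ModuleCat.of (Localization.AtPrime p) p.ResidueField)).obj
        ((DRing.restrictD (Localization.localRingHom p q (algebraMap R A) hpq)).obj
          ((DRing.LBaseChange (algebraMap A (Localization.AtPrime q))).obj K))) i)) :
    DRing.HasTorAmplitudeIn R (a - d) b
      ((DRing.restrictD (algebraMap R (Localization.AtPrime q))).obj
        ((DRing.LBaseChange (algebraMap A (Localization.AtPrime q))).obj K)) := by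
  subst hpq
  open Groth.Agent.Lib Groth.Agent.Lib.DR Groth.Agent.Lib.DR.FiniteComplex Groth.Agent.Lib.DR.PseudoCoherent Groth.Agent.Lib.BettiExact.TorTensor Groth.Agent.H56.RelPC in
  exact (by
    let p := q.comap (algebraMap R A)
    let φ := Localization.localRingHom p q (algebraMap R A) rfl
    let σ := algebraMap A (Localization.AtPrime q)
    haveI : IsLocalHom φ := inferInstance
    have hφ : φ.comp (algebraMap R (Localization.AtPrime p)) = algebraMap R (Localization.AtPrime q) := by
      ext r
      simp only [RingHom.comp_apply, φ, Localization.localRingHom_to_map]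
      exact (IsScalarTower.algebraMap_apply R A (Localization.AtPrime q) r).symm
    obtain ⟨c, E, hc, hff, ⟨eE⟩⟩ := (Representative.isPseudoCoherent'_iff K).1 hK
    let qq : PrimeSpectrum A := ⟨q, inferInstance⟩
    let F := (extC σ).obj E
    have hFff : ∀ i, ff _ (F.X i) := fun i => BaseChange.ext_ff σ _ (hff i)
    have hFc : ∀ i, c < i → Limits.IsZero (F.X i) := fun i hi =>
      (ModuleCat.extendScalars σ).map_isZero (hc i hi)
    let eF : (DRing.LBaseChange σ).obj K ≅ DerivedCategory.Q.obj F :=
      (DRing.LBaseChange σ).mapIso eE.symm ≪≫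
        BaseChange.bcFlat σ E c hc fun i => BaseChange.flat_of_free _ (hff i).2
    let C := (resC φ).obj F
    haveI : Module.Flat A (Localization.AtPrime q) := IsLocalization.flat _ q.primeCompl
    haveI : Module.Flat R (Localization.AtPrime p) := IsLocalization.flat _ p.primeCompl
    haveI : Module.Flat R (Localization.AtPrime q) := Module.Flat.trans R A _
    have hφflat : φ.Flat := by
      letI := φ.toAlgebra
      haveI : IsScalarTower R (Localization.AtPrime p) (Localization.AtPrime q) :=
        IsScalarTower.of_algebraMap_eq' hφ.symm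
      show Module.Flat (Localization.AtPrime p) (Localization.AtPrime q)
      exact (Module.flat_iff_of_isLocalization (Localization.AtPrime p) p.primeCompl _).2 ‹_›
    have hCc : ∀ i, c < i → Limits.IsZero (C.X i) := fun i hi =>
      (ModuleCat.restrictScalars φ).map_isZero (hFc i hi)
    have hCf : ∀ i, flat _ (C.X i) := fun i =>
      LocalAmp.flat_restrict φ hφflat _ (BaseChange.flat_of_free _ (hFff i).2)
    let eC : (DRing.restrictD φ).obj ((DRing.LBaseChange σ).obj K) ≅ DerivedCategory.Q.obj C :=
      (DRing.restrictD φ).mapIso eF ≪≫ ExactPush.mapQ (ModuleCat.restrictScalars φ) F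
    let m := IsLocalRing.maximalIdeal (Localization.AtPrime p)
    have hel : ∀ j, (j < a ∨ b < j) → ∀ w : F.X j,
        F.d j (j + 1) w ∈ m.map φ • (⊤ : Submodule (Localization.AtPrime q) (F.X (j + 1))) →
          ∃ u : F.X (j - 1), w - F.d (j - 1) j u ∈ m.map φ • (⊤ : Submodule (Localization.AtPrime q) (F.X j)) := by
      intro j hj w hw
      have hz := hfib j hj
      have hex : ((TorAmp.tens (ModuleCat.of (Localization.AtPrime p) p.ResidueField)).obj C).ExactAt j := by
        rw [HomologicalComplex.exactAt_iff_isZero_homology]
        exact (ModuleCat.isZero_iff_subsingleton.2 hz).of_iso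
          (((DerivedCategory.homologyFunctor _ j).mapIso
            ((DRing.LTensor _ (ModuleCat.of (Localization.AtPrime p) p.ResidueField)).mapIso eC ≪≫
              LTensorModule.ltFlat _ C c hCc hCf)) ≪≫ Basic.homologyQIso _ j).symm
      obtain ⟨u, hu⟩ := FibBdd.exists_of_exactAt m C j hex w ((FibBdd.mem_res_iff φ m _ _).2 hw)
      exact ⟨u, (FibBdd.mem_res_iff φ m _ _).1 hu⟩
    haveI : IsLocalization.AtPrime (Localization.AtPrime q) qq.asIdeal := Localization.isLocalization
    haveI : IsLocalization.AtPrime (Localization.AtPrime p) (qq.asIdeal.comap (algebraMap R A)) :=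
      Localization.isLocalization
    have hfe : FibTorRing.FibExact (A := R) E a qq :=
      FibTorRing.fibExact_of_stalk φ hφ E a fun j hj => hel j (Or.inl hj)
    have hbd := FibTorRing.bdd_of_fibExact (q := qq) (q' := qq) (c := c) φ hφ le_rfl E hff hc hfe
    have hle : (DerivedCategory.Q.obj C).IsLE b := by
      have hleF := FibBdd.isLE_of_fibre (m.map φ) (((IsLocalRing.local_hom_TFAE φ).out 0 2).1 ‹IsLocalHom φ›)
        F hFff hFc fun j hj => hel j (Or.inr hj)
      refine (DerivedCategory.isLE_iff _ _).2 fun i hi => ?_
      exact ((ModuleCat.restrictScalars φ).map_isZero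
        ((DerivedCategory.isZero_of_isLE _ b i hi).of_iso (Basic.homologyQIso F i).symm)).of_iso
          (Basic.homologyQIso C i ≪≫ (F.sc i).mapHomologyIso (ModuleCat.restrictScalars φ))
    obtain ⟨G, hG, hGp, ⟨eG⟩⟩ := Representative.ba_free hle
    have hGf : ∀ i, flat _ (G.X i) := fun i => BaseChange.flat_of_free _ (hGp i)
    have hbd' := TorAmp.bdd_of_opcycles BaseChange.good_flat hG (fun i _ => hGf i) (Basic.isGE_of_iso' eG.symm hbd.isGE)
      (TorAmp.flat_coker G hG hGf (hbd.of_iso eG.symm))
    have hR : Bdd (flat R) a b ((DRing.restrictD (algebraMap R (Localization.AtPrime p))).obj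
        (DerivedCategory.Q.obj C)) :=
      FibBdd.bdd_restrict _ (RingHom.flat_algebraMap_iff.2 inferInstance) (hbd'.of_iso eG)
    refine (hR.mono (by omega) le_rfl).of_iso ?_
    exact ExactPush.mapQ (ModuleCat.restrictScalars (algebraMap R (Localization.AtPrime p))) C ≪≫
      DerivedCategory.Q.mapIso
        ((NatIso.mapHomologicalComplex
          (ModuleCat.restrictScalarsComp'.{u} (algebraMap R (Localization.AtPrime p)) φ
            (algebraMap R (Localization.AtPrime q)) hφ.symm).symm (ComplexShape.up ℤ)).app F) ≪≫
      (ExactPush.mapQ (ModuleCat.restrictScalars (algebraMap R (Localization.AtPrime q))) F).symm ≪≫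
      (DRing.restrictD (algebraMap R (Localization.AtPrime q))).mapIso eF.symm)

end Groth.Agent.S7104
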