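import Groth.Statements.S7105
import Groth.Agent.Lib.DR.TwoTerm

set_option autoImplicit false
universe u
attribute [local instance] HasDerivedCategory.standard
open CategoryTheory
open DRing

open Groth.Agent.Lib.DR.Basic Groth.Agent.Lib.DR.FiniteComplex Groth.Agent.Lib.DR.PseudoCoherent Groth.Agent.Lib.DR.TopCohomology
open CategoryTheory CategoryTheory.Limits CategoryTheory.Pretriangulated
open Groth.Agent.Lib.DR.TwoTerm

namespace Groth.Agent.S7105

/-- Let R be a commutative ring, M a cochain complex of R-modules with M^i = 0 for i > 0 and M^0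
projective, and K a cochain complex with K^i = 0 for all i ≤ -2. Then the canonical map
Hom_{K(R)}(M, K) → Hom_{D(R)}(M, K), from homotopy classes of chain maps to morphisms in the derived
category, is bijective. -/
theorem result {R : Type u} [CommRing R] (M K : DRing.Cx R)
    (hM : ∀ i : ℤ, 0 < i → Limits.IsZero (M.X i)) (hM0 : Module.Projective R (M.X 0))
    (hK : ∀ i : ℤ, i ≤ -2 → Limits.IsZero (K.X i)) :
    Function.Bijective (fun φ : (HomotopyCategory.quotient (ModuleCat.{u} R) (ComplexShape.up ℤ)).obj M ⟶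
        (HomotopyCategory.quotient (ModuleCat.{u} R) (ComplexShape.up ℤ)).obj K => DerivedCategory.Qh.map φ) := by
  have : Module.Projective R (M.X 0) := hM0
  let Q₀ := HomotopyCategory.quotient (ModuleCat.{u} R) (ComplexShape.up ℤ)
  let e := DerivedCategory.quotientCompQhIso (ModuleCat.{u} R)
  constructor
  · intro φ ψ h
    obtain ⟨f, rfl⟩ := Q₀.map_surjective φ
    obtain ⟨g, rfl⟩ := Q₀.map_surjective ψ
    dsimp only [Q₀] at h
    rw [← sub_eq_zero, ← Functor.map_sub]
    obtain ⟨H⟩ := nonempty_homotopy_of_Q_map_eq_zero hM hM0 hK (f - g) (by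
      rw [← cancel_epi (e.hom.app M), ← DerivedCategory.quotientCompQhIso_hom_naturality, Functor.map_sub,
        Functor.map_sub, h, sub_self, zero_comp, comp_zero])
    exact (HomotopyCategory.eq_of_homotopy _ _ H).trans (Q₀.map_zero _ _)
  · intro ξ
    obtain ⟨φ, hφ⟩ := exists_Q_map_eq' hM hM0 hK (e.inv.app M ≫ ξ ≫ e.hom.app K)
    refine ⟨Q₀.map φ, ?_⟩
    dsimp only [Q₀]
    rw [← cancel_mono (e.hom.app K), DerivedCategory.quotientCompQhIso_hom_naturality, hφ]
    simp [e]

end Groth.Agent.S7105
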