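import Groth.Statements.S7107
import Mathlib.SetTheory.Cardinal.Arithmetic
import Mathlib.Logic.Denumerable
import Mathlib.LinearAlgebra.Finsupp.Pi

set_option autoImplicit false
universe u
open CAlg

namespace Groth.Agent.S7107

/-- Let R be a ring and P, Q modules such that P ⊕ Q is isomorphic to a free module F on an infinite
basis. Then P ⊕ F is isomorphic to F. -/
theorem result (R : Type u) [CommRing R] (P Q : Type u) [AddCommGroup P] [Module R P]
    [AddCommGroup Q] [Module R Q] (ι : Type u) [Infinite ι] (e : (P × Q) ≃ₗ[R] (ι →₀ R)) :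
    Nonempty ((P × (ι →₀ R)) ≃ₗ[R] (ι →₀ R)) := by
  classical
  have hc : Cardinal.mk (ℕ × ι) = Cardinal.mk ι := by
    simp [Cardinal.mul_eq_right (Cardinal.aleph0_le_mk ι) (Cardinal.aleph0_le_mk ι)]
  obtain ⟨ε⟩ := Cardinal.eq.1 hc
  let F := ι →₀ R
  let eF : F ≃ₗ[R] (ℕ →₀ (P × Q)) :=
    (Finsupp.domLCongr ε.symm) ≪≫ₗ Finsupp.curryLinearEquiv R ≪≫ₗ
      Finsupp.mapRange.linearEquiv e.symm
  let sp : (ℕ →₀ (P × Q)) ≃ₗ[R] ((ℕ →₀ P) × (ℕ →₀ Q)) :=
    LinearEquiv.ofLinearMap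
      ((Finsupp.mapRange.linearMap (LinearMap.fst R P Q)).prod
        (Finsupp.mapRange.linearMap (LinearMap.snd R P Q)))
      ((Finsupp.mapRange.linearMap (LinearMap.inl R P Q)).coprod
        (Finsupp.mapRange.linearMap (LinearMap.inr R P Q)))
      (by ext <;> simp) (by
        refine Finsupp.lhom_ext fun i x => ?_
        simp [← Finsupp.single_add])
  let shift : (P × (ℕ →₀ P)) ≃ₗ[R] (ℕ →₀ P) :=
    ({ (Finsupp.optionEquiv : (Option ℕ →₀ P) ≃ P × (ℕ →₀ P)) with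
        map_add' := fun a b => by ext <;> simp [Finsupp.optionEquiv]
        map_smul' := fun a b => by ext <;> simp [Finsupp.optionEquiv] } :
          (Option ℕ →₀ P) ≃ₗ[R] P × (ℕ →₀ P)).symm ≪≫ₗ Finsupp.domLCongr
      ((Denumerable.eqv (Option ℕ)).trans (Denumerable.eqv ℕ).symm)
  exact ⟨(LinearEquiv.refl R P).prodCongr (eF ≪≫ₗ sp) ≪≫ₗ
    (LinearEquiv.prodAssoc R P (ℕ →₀ P) (ℕ →₀ Q)).symm ≪≫ₗ
    shift.prodCongr (LinearEquiv.refl R _) ≪≫ₗ (eF ≪≫ₗ sp).symm⟩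

end Groth.Agent.S7107
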