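import Groth.Statements.S7108
import Groth.Agent.S7107

set_option autoImplicit false
universe u
open CAlg

namespace Groth.Agent.S7108

/-- Every projective module P over a ring R becomes free after adding a suitable free module: P ⊕ F is
free for some free module F (here F is the free module on some index type). -/
theorem result (R : Type u) [CommRing R] (P : Type u) [AddCommGroup P]
    [Module R P] [Module.Projective R P] : ∃ ι : Type u, Module.Free R (P × (ι →₀ R)) := by
  classical
  obtain ⟨s, hs⟩ := Module.projective_def'.1 ‹Module.Projective R P›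
  let T : (P →₀ R) →ₗ[R] P := Finsupp.linearCombination R id
  have hTs : ∀ x, T (s x) = x := fun x => LinearMap.congr_fun hs x
  let ι : Type u := P ⊕ ULift.{u} ℕ
  let p : (P →₀ R) →ₗ[R] LinearMap.ker T :=
    LinearMap.codRestrict _ (LinearMap.id - s ∘ₗ T) fun x => by simp [hTs]
  let e0 : (P × LinearMap.ker T) ≃ₗ[R] (P →₀ R) :=
    LinearEquiv.ofLinearMap (s.coprod (LinearMap.ker T).subtype) (T.prod p)
      (by refine LinearMap.ext fun x => ?_; simp [p])
      (by refine LinearMap.ext fun ⟨a, b, hb⟩ => ?_
          have hb' : T b = 0 := hb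
          refine Prod.ext ?_ (Subtype.ext ?_) <;> simp [p, hTs, hb'])
  let e : (P × (LinearMap.ker T × (ULift.{u} ℕ →₀ R))) ≃ₗ[R] (ι →₀ R) :=
    (LinearEquiv.prodAssoc R P _ _).symm ≪≫ₗ e0.prodCongr (LinearEquiv.refl R _) ≪≫ₗ
      (Finsupp.sumFinsuppLEquivProdFinsupp R).symm
  obtain ⟨e'⟩ := Groth.Agent.S7107.result R P (LinearMap.ker T × (ULift.{u} ℕ →₀ R)) ι e
  exact ⟨ι, Module.Free.of_equiv e'.symm⟩

end Groth.Agent.S7108
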