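import Groth.Statements.S7111
import Groth.Agent.H25.BigProj
import Groth.Agent.S7109
import Mathlib.LinearAlgebra.Pi
-- import your own Groth.Agent.* helpers here

set_option autoImplicit false
universe u
open CAlg

namespace Groth.Agent.S7111

theorem big_prod {R : Type u} [CommRing R] {F P : Type u} [AddCommGroup F] [Module R F]
    [AddCommGroup P] [Module R P] (h : H25.BigProj.Big R P) : H25.BigProj.Big R (F × P) := by
  classical
  intro m hm T hT
  refine h m hm (T.image Prod.snd) ?_
  have := congrArg (Submodule.map (LinearMap.snd R F P)) hT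
  rw [Submodule.map_sup, Submodule.map_span, Submodule.map_smul'', Submodule.map_top,
    LinearMap.range_eq_top.2 Prod.snd_surjective] at this
  simpa using this

theorem descend {R : Type u} [CommRing R] [IsNoetherianRing (R ⧸ (⊥ : Ideal R).jacobson)]
    {P : Type u} [AddCommGroup P] [Module R P] [Module.Projective R P] (hB : H25.BigProj.Big R P)
    (s : P) : ∀ (n : ℕ) (K W : Submodule R ((Fin n → R) × P)), IsCompl K W → Module.Finite R K →
      Module.IsStablyFree R K → ((0, s) : (Fin n → R) × P) ∈ K →
      ∃ (K K' : Submodule R P), IsCompl K K' ∧ Module.Finite R K ∧ Module.IsStablyFree R K ∧ s ∈ K := by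
  intro n
  induction n with
  | zero =>
    intro K W hKW hfin hsf hs
    let e : ((Fin 0 → R) × P) ≃ₗ[R] P := LinearEquiv.ofLinearMap (LinearMap.snd R _ P) (LinearMap.inr R _ P)
      (LinearMap.ext fun x => rfl) (LinearMap.ext fun x => Prod.ext (Subsingleton.elim _ _) rfl)
    let eK : K ≃ₗ[R] K.map e.toLinearMap := e.submoduleMap K
    exact ⟨K.map e.toLinearMap, W.map e.toLinearMap,
      hKW.map (Submodule.orderIsoMapComap e), Module.Finite.equiv eK, Module.IsStablyFree.equiv eK,
      ⟨(0, s), hs, rfl⟩⟩
  | succ n ih =>
    intro K W hKW hfin hsf hs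
    let e : ((Fin (n + 1) → R) × P) ≃ₗ[R] R × ((Fin n → R) × P) :=
      ((Fin.consLinearEquiv R (fun _ : Fin (n + 1) => R)).symm.prodCongr (LinearEquiv.refl R P)).trans
        (LinearEquiv.prodAssoc R R (Fin n → R) P)
    let eK : K ≃ₗ[R] K.map e.toLinearMap := e.submoduleMap K
    have := Module.Finite.equiv eK
    have := Module.IsStablyFree.equiv eK
    obtain ⟨K₁, K₁', h1, h2, h3, h4⟩ := H25.BigProj.step (X := (Fin n → R) × P) (big_prod hB) (0, s)
      (K.map e.toLinearMap) (W.map e.toLinearMap) (hKW.map (Submodule.orderIsoMapComap e))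
      ⟨(0, s), hs, rfl⟩
    exact ih K₁ K₁' h1 h2 h3 h4

/-- Let R be a ring whose quotient by its Jacobson radical is Noetherian and P a projective R-module
such that for every maximal ideal m the localization P_m is not finitely generated over R_m (P has
infinite rank everywhere). Then every element s of P lies in a direct summand of P which is a finite
stably free module. -/
theorem result (R : Type u) [CommRing R]
    [IsNoetherianRing (R ⧸ (⊥ : Ideal R).jacobson)]
    (P : Type u) [AddCommGroup P] [Module R P] [Module.Projective R P]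
    (hP : ∀ (m : Ideal R) [m.IsMaximal],
      ¬ Module.Finite (Localization.AtPrime m) (LocalizedModule m.primeCompl P))
    (s : P) :
    ∃ (K K' : Submodule R P), IsCompl K K' ∧ Module.Finite R K ∧ Module.IsStablyFree R K ∧ s ∈ K := by
  obtain ⟨n, K, W, hKW, hfree, hfin, hs⟩ := Groth.Agent.S7109.result R P s
  exact descend (H25.BigProj.big_of_not_finite hP) s n K W hKW hfin inferInstance hs

end Groth.Agent.S7111
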