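import Groth.Statements.S7114
import Mathlib.RingTheory.Length
import Mathlib.Tactic

set_option autoImplicit false
universe u
open CAlg

namespace Groth.Agent.S7114

/-- Let R be a Noetherian local ring of Krull dimension one and x an element of the maximal ideal lying
in no minimal prime of R. Then for every n the length of R/xⁿR is at most n times the length of
R/xR, and equality holds when x is a nonzerodivisor. -/
theorem result (R : Type u) [CommRing R] [IsNoetherianRing R] [IsLocalRing R]
    (hdim : ringKrullDim R = 1) (x : R) (hx : x ∈ IsLocalRing.maximalIdeal R)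
    (hmin : ∀ p ∈ minimalPrimes R, x ∉ p) (n : ℕ) :
    Module.length R (R ⧸ Ideal.span {x ^ n}) ≤ (n : ℕ∞) * Module.length R (R ⧸ Ideal.span {x}) ∧
      (x ∈ nonZeroDivisors R →
        Module.length R (R ⧸ Ideal.span {x ^ n}) = (n : ℕ∞) * Module.length R (R ⧸ Ideal.span {x})) := by
  have key : ∀ i : ℕ, Module.length R (R ⧸ Ideal.span {x ^ (i + 1)}) ≤
      Module.length R (R ⧸ Ideal.span {x}) + Module.length R (R ⧸ Ideal.span {x ^ i}) ∧
      (x ∈ nonZeroDivisors R → Module.length R (R ⧸ Ideal.span {x ^ (i + 1)}) =
      Module.length R (R ⧸ Ideal.span {x}) + Module.length R (R ⧸ Ideal.span {x ^ i})) := by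
    intro i
    let A : Submodule R R := Ideal.span {x ^ (i + 1)}
    let g := Submodule.mapQ (Ideal.span {x} : Submodule R R) A (LinearMap.mulLeft R (x ^ i)) (by
      intro z hz
      obtain ⟨w, rfl⟩ := Ideal.mem_span_singleton'.1 hz
      exact Ideal.mem_span_singleton'.2 ⟨w, by simp [pow_succ]; ring⟩)
    let p := Submodule.factor (show A ≤ (Ideal.span {x ^ i} : Submodule R R) from
      Ideal.span_singleton_le_span_singleton.2 (pow_dvd_pow x i.le_succ))
    have hex : Function.Exact (LinearMap.range g).subtype p := by
      rw [LinearMap.exact_iff, Submodule.range_subtype]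
      refine le_antisymm (fun z hz => ?_) ?_
      · obtain ⟨z, rfl⟩ := Submodule.Quotient.mk_surjective A z
        rw [LinearMap.mem_ker] at hz
        obtain ⟨w, rfl⟩ := Ideal.mem_span_singleton'.1 ((Submodule.Quotient.mk_eq_zero _).1 hz)
        exact ⟨Submodule.Quotient.mk w, congrArg Submodule.Quotient.mk (mul_comm _ _)⟩
      · rintro _ ⟨w, rfl⟩
        obtain ⟨w, rfl⟩ := Submodule.Quotient.mk_surjective _ w
        exact (Submodule.Quotient.mk_eq_zero _).2 (Ideal.mem_span_singleton'.2 ⟨w, mul_comm _ _⟩)
    have hlen := Module.length_eq_add_of_exact (LinearMap.range g).subtype p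
      Subtype.val_injective (Submodule.factor_surjective _) hex
    refine ⟨?_, fun hnzd => ?_⟩
    · refine hlen.le.trans (add_le_add ?_ le_rfl)
      exact Module.length_le_of_surjective g.rangeRestrict g.surjective_rangeRestrict
    · refine hlen.trans ?_
      congr 1
      refine (LinearEquiv.length_eq (LinearEquiv.ofInjective g ?_)).symm
      refine (injective_iff_map_eq_zero g).2 fun z hz => ?_
      obtain ⟨z, rfl⟩ := Submodule.Quotient.mk_surjective _ z
      obtain ⟨w, hw⟩ := Ideal.mem_span_singleton'.1 ((Submodule.Quotient.mk_eq_zero _).1 hz)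
      refine (Submodule.Quotient.mk_eq_zero _).2 (Ideal.mem_span_singleton'.2 ⟨w, ?_⟩)
      refine (mem_nonZeroDivisors_iff_right.1 (pow_mem hnzd i) _ ?_ |> sub_eq_zero.1)
      simp only [LinearMap.mulLeft_apply] at hw
      rw [sub_mul, sub_eq_zero, mul_comm z, ← hw, pow_succ]
      ring
  induction n with
  | zero =>
    have h0 : Module.length R (R ⧸ Ideal.span {x ^ 0}) = 0 := by
      rw [pow_zero, Ideal.span_singleton_one, Module.length_eq_zero_iff]
      exact Ideal.Quotient.subsingleton_iff.2 rfl
    simp [h0]
  | succ i ih =>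
    push_cast
    rw [add_mul, one_mul, add_comm _ (Module.length R (R ⧸ Ideal.span {x}))]
    exact ⟨(key i).1.trans (add_le_add le_rfl ih.1), fun h => by rw [(key i).2 h, ih.2 h]⟩

end Groth.Agent.S7114
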