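import Groth.Statements.S7116
import Groth.Agent.H24.SopExtend
import Mathlib.Tactic

set_option autoImplicit false
universe u
open CAlg

namespace Groth.Agent.S7116

/-- Let R be a Noetherian local ring of Krull dimension d with maximal ideal m and let f be an element
of m contained in no minimal prime. Then there are g_1, ..., g_{d-1} in m and a natural number N
such that f, g_1, ..., g_{d-1} is a system of parameters (these d elements of m generate an ideal
with radical m) and, for every h in m^N, the elements f + h, g_1, ..., g_{d-1} again form a system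
of parameters and the lengths of R/(f, g_1, ..., g_{d-1}) and R/(f + h, g_1, ..., g_{d-1}) agree. -/
theorem result (R : Type u) [CommRing R] [IsNoetherianRing R] [IsLocalRing R]
    (d : ℕ) (hd : ringKrullDim R = d) (f : R) (hf : f ∈ IsLocalRing.maximalIdeal R)
    (hmin : ∀ p ∈ minimalPrimes R, f ∉ p) :
    ∃ (g : Fin (d - 1) → R) (N : ℕ), (∀ i, g i ∈ IsLocalRing.maximalIdeal R) ∧
      IsLocalRing.maximalIdeal R ≤ (Ideal.span (insert f (Set.range g))).radical ∧
      ∀ h ∈ IsLocalRing.maximalIdeal R ^ N,
        IsLocalRing.maximalIdeal R ≤ (Ideal.span (insert (f + h) (Set.range g))).radical ∧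
        Module.length R (R ⧸ Ideal.span (insert f (Set.range g))) =
          Module.length R (R ⧸ Ideal.span (insert (f + h) (Set.range g))) := by
  classical
  obtain ⟨g, hg, hrad⟩ := Groth.Agent.H24.SopExtend.exists_sop R d hd f hf hmin
  let J := Ideal.span (insert f (Set.range g))
  obtain ⟨N, hN⟩ := Ideal.exists_pow_le_of_le_radical_of_fg hrad (IsNoetherian.noetherian _)
  refine ⟨g, N + 1, hg, hrad, fun h hh => ?_⟩
  suffices Ideal.span (insert (f + h) (Set.range g)) = J by rw [this]; exact ⟨hrad, rfl⟩
  have hh' : h ∈ IsLocalRing.maximalIdeal R * J := by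
    rw [pow_succ'] at hh
    exact Ideal.mul_mono_right hN hh
  have hsplit : IsLocalRing.maximalIdeal R * J ≤
      (IsLocalRing.maximalIdeal R * Ideal.span {f}) ⊔ Ideal.span (Set.range g) := by
    rw [show J = Ideal.span {f} ⊔ Ideal.span (Set.range g) by rw [← Ideal.span_union]; rfl, Ideal.mul_sup]
    exact sup_le_sup_left Ideal.mul_le_right _
  obtain ⟨a, ha, b, hb, hab⟩ := Submodule.mem_sup.1 (hsplit hh')
  obtain ⟨e, he, rfl⟩ := Ideal.mem_mul_span_singleton.1 ha
  have hu : IsUnit (1 + e) := by
    have h1 := IsLocalRing.isUnit_one_sub_self_of_mem_nonunits (-e) (neg_mem he)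
    rwa [sub_neg_eq_add] at h1
  obtain ⟨v, hv⟩ := hu.exists_left_inv
  have hg' : Ideal.span (Set.range g) ≤ Ideal.span (insert (f + h) (Set.range g)) :=
    Ideal.span_mono (Set.subset_insert _ _)
  refine le_antisymm ?_ ?_
  · rw [Ideal.span_le, Set.insert_subset_iff]
    exact ⟨add_mem (Ideal.subset_span (Set.mem_insert _ _)) (show h ∈ J from (Ideal.mul_le_right : IsLocalRing.maximalIdeal R * J ≤ J) hh'),
      fun z hz => Ideal.subset_span (Set.mem_insert_of_mem _ hz)⟩
  · rw [Ideal.span_le, Set.insert_subset_iff]
    refine ⟨?_, fun z hz => Ideal.subset_span (Set.mem_insert_of_mem _ hz)⟩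
    have h1 : f = v * (f + h) - v * b := by
      rw [← hab]; linear_combination (-f) * hv
    have h2 : v * (f + h) - v * b ∈ Ideal.span (insert (f + h) (Set.range g)) :=
      sub_mem (Ideal.mul_mem_left _ _ (Ideal.subset_span (Set.mem_insert _ _)))
        (Ideal.mul_mem_left _ _ (hg' hb))
    rw [← h1] at h2
    exact h2

end Groth.Agent.S7116
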