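import Groth.Statements.S7117
import Groth.Agent.Lib.Cyc.LengthFormula
import Mathlib.Data.Set.Card.Arithmetic
import Mathlib.RingTheory.Ideal.KrullsHeightTheorem
import Mathlib.RingTheory.KrullDimension.NonZeroDivisors

set_option autoImplicit false
set_option backward.isDefEq.respectTransparency false
universe u
open CAlg

namespace Groth.Agent.S7117


open IsLocalRing
open scoped Pointwise

lemma sup_range_quot {R : Type u} [CommRing R] (p : Ideal R) {ι : Type} (h : ι → R) :
    (Ideal.span (Set.range h)).map (Ideal.Quotient.mk p) =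
      Ideal.span (Set.range fun i => Ideal.Quotient.mk p (h i)) := by
  rw [Ideal.map_span, ← Set.range_comp]
  rfl

/-- `dim R/p ≤ j` if `p` and `j` elements generate an `m`-primary ideal. -/
lemma coheight_le {R : Type u} [CommRing R] [IsNoetherianRing R] [IsLocalRing R]
    (p : PrimeSpectrum R) {j : ℕ} (h : Fin j → R) (hh : ∀ i, h i ∈ maximalIdeal R)
    (hm : maximalIdeal R ≤ (p.asIdeal ⊔ Ideal.span (Set.range h)).radical) :
    Order.coheight p ≤ (j : ℕ∞) := by
  classical
  rw [← WithBot.coe_le_coe, Order.coheight_eq_krullDim_Ici]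
  have hset : (PrimeSpectrum.zeroLocus (p.asIdeal : Set R)) = Set.Ici p := by
    ext q; exact Iff.rfl
  rw [← hset, ← ringKrullDim_quotient]
  have : Nontrivial (R ⧸ p.asIdeal) := Ideal.Quotient.nontrivial_iff.mpr p.2.ne_top
  have hl : IsLocalRing (R ⧸ p.asIdeal) :=
    IsLocalRing.of_surjective' (Ideal.Quotient.mk p.asIdeal) Ideal.Quotient.mk_surjective
  rw [← IsLocalRing.maximalIdeal_height_eq_ringKrullDim, WithBot.coe_le_coe]
  let s : Finset (R ⧸ p.asIdeal) := Finset.univ.image fun i => Ideal.Quotient.mk p.asIdeal (h i)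
  refine le_trans (Ideal.height_le_card_of_mem_minimalPrimes_span_finset (s := s) ?_)
    (by exact_mod_cast Finset.card_image_le.trans (Finset.card_fin j).le)
  refine ⟨⟨(maximalIdeal.isMaximal _).isPrime, ?_⟩, fun q hq _ => ?_⟩
  · rw [Ideal.span_le]
    intro x hx
    obtain ⟨i, -, rfl⟩ := Finset.mem_image.mp (Finset.mem_coe.mp hx)
    exact (IsLocalRing.mem_maximalIdeal _).mpr fun hu =>
      (IsLocalRing.mem_maximalIdeal _).mp (hh i)
        ((IsLocalHom.of_surjective _ Ideal.Quotient.mk_surjective).map_nonunit _ hu)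
  · intro x hx
    obtain ⟨y, rfl⟩ := Ideal.Quotient.mk_surjective x
    have hy : y ∈ maximalIdeal R := (IsLocalRing.mem_maximalIdeal _).mpr fun hu =>
      (IsLocalRing.mem_maximalIdeal _).mp hx (hu.map _)
    obtain ⟨n, hn⟩ := hm hy
    refine hq.1.mem_of_pow_mem n ?_
    rw [← map_pow]
    show y ^ n ∈ q.comap (Ideal.Quotient.mk p.asIdeal)
    refine (sup_le (fun z hz => ?_) (Ideal.span_le.mpr ?_) :
      p.asIdeal ⊔ Ideal.span (Set.range h) ≤ _) hn
    · rw [Ideal.mem_comap, Ideal.Quotient.eq_zero_iff_mem.mpr hz]; exact zero_mem _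
    · rintro _ ⟨i, rfl⟩
      exact hq.2 (Ideal.subset_span (Finset.mem_coe.mpr
        (Finset.mem_image_of_mem _ (Finset.mem_univ i))))

lemma cancel_one (a : ℕ) (y : WithBot ℕ∞) (h : (a : WithBot ℕ∞) + 1 ≤ y + 1) : (a : WithBot ℕ∞) ≤ y := by
  induction y with
  | bot =>
    rw [WithBot.bot_add, le_bot_iff, ← Nat.cast_one, ← Nat.cast_add] at h
    exact absurd h (WithBot.natCast_ne_bot _)
  | coe y =>
    induction y with
    | top => exact WithBot.coe_le_coe.mpr le_top
    | coe b =>
      norm_cast at h ⊢
      omega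

lemma range_sup {R : Type u} [CommRing R] (I : Ideal R) {a : ℕ} (f : Fin a → R)
    (hf : ∀ i, f i ∈ I) : Ideal.span (Set.range f) ≤ I :=
  Ideal.span_le.mpr (by rintro _ ⟨i, rfl⟩; exact hf i)

/-- A chain witness through the first `i` parameters. -/
lemma extend {R : Type u} [CommRing R] [IsNoetherianRing R] [IsLocalRing R] {d : ℕ}
    (g : Fin (d + 1) → R) (hg : ∀ i, g i ∈ maximalIdeal R)
    (hsop : maximalIdeal R ≤ (Ideal.span (Set.range g)).radical)
    (p : PrimeSpectrum R) (hp : ((d + 1 : ℕ) : ℕ∞) ≤ Order.coheight p) :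
    ∀ i : ℕ, i ≤ d → ∃ Q : PrimeSpectrum R, (∀ j : Fin (d + 1), j.val < i → g j ∈ Q.asIdeal) ∧
      ((d + 1 - i : ℕ) : ℕ∞) ≤ Order.coheight Q ∧
      ∃ l : LTSeries (PrimeSpectrum R), l.head = p ∧ l.last = Q ∧ l.length = i := by
  intro i
  induction i with
  | zero =>
    intro _
    exact ⟨p, fun j h => absurd h (Nat.not_lt_zero _), hp, RelSeries.singleton _ p, rfl, rfl, rfl⟩
  | succ i ih =>
    intro hi
    obtain ⟨Q, hQg, hQ, l, hl0, hl1, hll⟩ := ih (by omega)
    let gi : R := g ⟨i, by omega⟩
    have hgi : gi ∉ Q.asIdeal := by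
      intro hmem
      have hle : Order.coheight Q ≤ ((d - i : ℕ) : ℕ∞) := by
        refine coheight_le Q (fun j : Fin (d - i) => g ⟨i + 1 + j.val, by omega⟩) (fun j => hg _) ?_
        refine hsop.trans (Ideal.radical_mono (range_sup _ g fun j => ?_))
        rcases lt_trichotomy j.val i with h | h | h
        · exact Ideal.mem_sup_left (hQg j h)
        · exact Ideal.mem_sup_left (by
            convert hmem using 3)
        · refine Ideal.mem_sup_right (Ideal.subset_span ⟨⟨j.val - i - 1, by omega⟩, ?_⟩)
          exact congrArg g (Fin.ext (by simp only; omega))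
      have := hQ.trans hle
      norm_cast at this
      omega
    set J : Ideal R := Q.asIdeal ⊔ Ideal.span {gi}
    have hdim : ((d - i : ℕ) : WithBot ℕ∞) ≤ Order.krullDim (PrimeSpectrum.zeroLocus (J : Set R)) := by
      have h1 : ((d + 1 - i : ℕ) : WithBot ℕ∞) ≤ ringKrullDim (R ⧸ Q.asIdeal) := by
        have hset : (PrimeSpectrum.zeroLocus (Q.asIdeal : Set R)) = Set.Ici Q := by
          ext q; exact Iff.rfl
        rw [ringKrullDim_quotient, hset, ← Order.coheight_eq_krullDim_Ici]
        exact WithBot.coe_le_coe.mpr hQ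
      have : Nontrivial (R ⧸ Q.asIdeal) := Ideal.Quotient.nontrivial_iff.mpr Q.2.ne_top
      have : IsLocalRing (R ⧸ Q.asIdeal) :=
        IsLocalRing.of_surjective' (Ideal.Quotient.mk Q.asIdeal) Ideal.Quotient.mk_surjective
      have h2 := ringKrullDim_le_ringKrullDim_quotient_add_card {Ideal.Quotient.mk Q.asIdeal gi}
        (by
          intro x hx
          rw [Finset.coe_singleton, Set.mem_singleton_iff] at hx
          subst hx
          rw [SetLike.mem_coe, IsLocalRing.ringJacobson_eq_maximalIdeal, IsLocalRing.mem_maximalIdeal]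
          exact fun hu => (IsLocalRing.mem_maximalIdeal _).mp (hg _)
            ((IsLocalHom.of_surjective _ Ideal.Quotient.mk_surjective).map_nonunit _ hu))
      have e : ringKrullDim ((R ⧸ Q.asIdeal) ⧸ Ideal.span
          (({Ideal.Quotient.mk Q.asIdeal gi} : Finset (R ⧸ Q.asIdeal)) : Set (R ⧸ Q.asIdeal))) =
          ringKrullDim (R ⧸ J) := by
        rw [Finset.coe_singleton, ← Set.image_singleton, ← Ideal.map_span]
        exact ringKrullDim_eq_of_ringEquiv (DoubleQuot.quotQuotEquivQuotSup Q.asIdeal (Ideal.span {gi}))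
      rw [e, Finset.card_singleton, Nat.cast_one] at h2
      rw [← ringKrullDim_quotient]
      have h3 := h1.trans h2
      rw [show d + 1 - i = (d - i) + 1 by omega, Nat.cast_add, Nat.cast_one] at h3
      exact cancel_one _ _ h3
    obtain ⟨m, hm⟩ := Order.le_krullDim_iff.mp hdim
    let m' : LTSeries (PrimeSpectrum R) := m.map Subtype.val (fun _ _ h => h)
    have hhead : J ≤ (m'.head).asIdeal := m.head.2
    have hlt : Q < m'.head := by
      refine lt_of_le_of_ne (le_sup_left.trans hhead) fun h => hgi ?_
      rw [h]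
      exact hhead (Ideal.mem_sup_right (Ideal.mem_span_singleton_self gi))
    refine ⟨m'.head, fun j hj => ?_, ?_, l.snoc m'.head (by rw [hl1]; exact hlt), ?_, ?_, ?_⟩
    · rcases (Nat.lt_succ_iff.mp hj).lt_or_eq with h | h
      · exact hlt.le (hQg j h)
      · refine hhead (Ideal.mem_sup_right ?_)
        rw [show g j = gi from congrArg g (Fin.ext h)]
        exact Ideal.mem_span_singleton_self gi
    · rw [show d + 1 - (i + 1) = d - i by omega, ← hm]
      exact Order.length_le_coheight_head (p := m')
    · rw [RelSeries.head_snoc, hl0]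
    · rw [RelSeries.last_snoc]
    · simp [hll]

lemma length_localized_quotient {R : Type u} [CommRing R] (P : Ideal R) [P.IsPrime] (I : Ideal R) :
    Module.length (Localization.AtPrime P) (LocalizedModule P.primeCompl (R ⧸ I)) =
      Module.length (Localization.AtPrime P)
        (Localization.AtPrime P ⧸ I.map (algebraMap R (Localization.AtPrime P))) := by
  rw [← Ideal.localized'_eq_map (Localization.AtPrime P) P.primeCompl]
  exact (LinearEquiv.extendScalarsOfIsLocalization P.primeCompl (Localization.AtPrime P)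
    (IsLocalizedModule.linearEquiv P.primeCompl (LocalizedModule.mkLinearMap P.primeCompl (R ⧸ I))
      (Submodule.toLocalizedQuotient' (Localization.AtPrime P) P.primeCompl
        (Algebra.linearMap R (Localization.AtPrime P)) I))).length_eq

theorem encard_le (d : ℕ) : ∀ (R : Type u) [CommRing R] [IsNoetherianRing R] [IsLocalRing R]
    (g : Fin d → R), (∀ i, g i ∈ maximalIdeal R) →
    maximalIdeal R ≤ (Ideal.span (Set.range g)).radical →
    {p : PrimeSpectrum R | (d : ℕ∞) ≤ Order.coheight p}.encard ≤
      Module.length R (R ⧸ Ideal.span (Set.range g)) := by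
  induction d with
  | zero =>
    intro R _ _ _ g hg hsop
    have hne : Ideal.span (Set.range g) ≠ ⊤ := by simp
    have : Nontrivial (R ⧸ Ideal.span (Set.range g)) := Ideal.Quotient.nontrivial_iff.mpr hne
    refine le_trans ?_ (Order.one_le_iff_pos.mpr Module.length_pos)
    rw [Set.encard_le_one_iff]
    intro p q _ _
    have key : ∀ p : PrimeSpectrum R, p.asIdeal = maximalIdeal R := fun p =>
      le_antisymm (le_maximalIdeal p.2.ne_top) (hsop.trans (p.2.radical_le_iff.mpr (by simp)))
    exact PrimeSpectrum.ext ((key p).trans (key q).symm)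
  | succ d ih =>
    intro R _ _ _ g hg hsop
    classical
    set g' : Fin d → R := fun j => g j.castSucc with hg'
    set x := g (Fin.last d)
    set I := Ideal.span (Set.range g') with hI
    let PS : Set (PrimeSpectrum R) := {P | I ≤ P.asIdeal ∧ P.asIdeal ≠ maximalIdeal R}
    have hgspan : Ideal.span (Set.range g) ≤ I ⊔ Ideal.span {x} :=
      range_sup _ g fun j => Fin.lastCases (Ideal.mem_sup_right (Ideal.mem_span_singleton_self x))
        (fun i => Ideal.mem_sup_left (Ideal.subset_span (Set.mem_range_self i))) j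
    have hxP : ∀ P ∈ PS, x ∉ P.asIdeal := fun P hP hx => hP.2 (le_antisymm
      (le_maximalIdeal P.2.ne_top) (hsop.trans (P.2.radical_le_iff.mpr (hgspan.trans
        (sup_le hP.1 (by rwa [Ideal.span_le, Set.singleton_subset_iff]))))))
    have hmax : ∀ P ∈ PS, ∀ q, P < q → q.asIdeal = maximalIdeal R := by
      intro P hP q hPq
      by_contra hq
      have hqlt : q < IsLocalRing.closedPoint R :=
        lt_of_le_of_ne (le_maximalIdeal q.2.ne_top) fun he => hq (by rw [he]; rfl)
      have hle : Order.coheight P ≤ ((1 : ℕ) : ℕ∞) := by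
        refine coheight_le P (fun _ : Fin 1 => x) (fun _ => hg _) ?_
        refine hsop.trans (Ideal.radical_mono (hgspan.trans (sup_le (hP.1.trans le_sup_left) ?_)))
        rw [Set.range_const]
        exact le_sup_right
      have := le_trans (Order.length_le_coheight (x := P) (p :=
        ((RelSeries.singleton _ P).snoc q hPq).snoc (IsLocalRing.closedPoint R) (by simpa using hqlt))
          (by simp)) hle
      simp at this
    have hsupp : ∀ P : PrimeSpectrum R, P ∈ Module.support R (R ⧸ I) ↔ I ≤ P.asIdeal := fun P => by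
      rw [Module.support_eq_zeroLocus, Ideal.annihilator_quotient]
      exact Iff.rfl
    have hyp : Groth.Agent.Lib.Cyc.LengthFormula.Hyp (R ⧸ I) x := fun P hP hne =>
      ⟨hxP P ⟨(hsupp P).mp hP, hne⟩, hmax P ⟨(hsupp P).mp hP, hne⟩⟩
    have hfin : PS.Finite := hyp.finite.subset fun P hP => ⟨(hsupp P).mpr hP.1, hP.2⟩
    have hlen : Groth.Agent.Lib.Cyc.LengthFormula.total (R ⧸ I) x ≤
        Module.length R (R ⧸ Ideal.span (Set.range g)) := by
      have heq : Submodule.map (Submodule.mkQ I) (Ideal.span (Set.range g)) = x • (⊤ : Submodule R (R ⧸ I)) := by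
        apply le_antisymm
        · refine (Submodule.map_mono hgspan).trans ?_
          rw [Submodule.map_sup]
          refine sup_le (by rw [Submodule.mkQ_map_self]; exact bot_le) ?_
          rintro _ ⟨y, hy, rfl⟩
          obtain ⟨a, rfl⟩ := Ideal.mem_span_singleton.mp hy
          rw [show x * a = x • a from rfl, map_smul]
          exact Submodule.smul_mem_pointwise_smul _ _ _ trivial
        · intro w hw
          obtain ⟨v, -, rfl⟩ := (Submodule.mem_smul_pointwise_iff_exists _ _ _).1 hw
          obtain ⟨v, rfl⟩ := Submodule.mkQ_surjective _ v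
          exact ⟨x * v, Ideal.mul_mem_right _ _ (Ideal.subset_span ⟨_, rfl⟩), by
            rw [← smul_eq_mul, map_smul]⟩
      have hle : I ≤ Ideal.span (Set.range g) :=
        range_sup _ g' fun j => Ideal.subset_span ⟨_, rfl⟩
      rw [← (Submodule.quotientQuotientEquivQuotient I _ hle).length_eq, heq,
        Groth.Agent.Lib.Cyc.LengthFormula.length_quot_eq hyp]
      exact le_add_self
    refine le_trans ?_ hlen
    let S : PrimeSpectrum R → Set (PrimeSpectrum R) := fun P =>
      (fun q : PrimeSpectrum (Localization.AtPrime P.asIdeal) => q.comap (algebraMap R _)) ''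
        {q | (d : ℕ∞) ≤ Order.coheight q}
    have hsub : {p : PrimeSpectrum R | ((d + 1 : ℕ) : ℕ∞) ≤ Order.coheight p} ⊆
        ⋃ P ∈ hfin.toFinset, S P := by
      intro p hp
      obtain ⟨Q, hQg, hQc, l, hl0, hl1, hll⟩ := extend g hg hsop p hp d le_rfl
      have hQ : Q ∈ PS := by
        refine ⟨range_sup _ g' fun j => hQg _ j.isLt, fun h => ?_⟩
        rw [show d + 1 - d = 1 by omega, show Q = IsLocalRing.closedPoint R from PrimeSpectrum.ext h] at hQc
        rw [show IsLocalRing.closedPoint R = (⊤ : PrimeSpectrum R) from rfl, Order.coheight_top] at hQc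
        simp at hQc
      simp only [Set.mem_iUnion, Set.Finite.mem_toFinset]
      refine ⟨Q, hQ, ?_⟩
      let e := IsLocalization.AtPrime.primeSpectrumOrderIso (Localization.AtPrime Q.asIdeal) Q.asIdeal
      let l' : LTSeries (Set.Iic (⟨Q.asIdeal, Q.2⟩ : PrimeSpectrum R)) :=
        LTSeries.mk l.length (fun k => ⟨l.toFun k, (l.monotone (Fin.le_last k)).trans_eq hl1⟩)
          fun a b hab => (show l.toFun a < l.toFun b from l.strictMono hab)
      refine ⟨(l'.map e.symm e.symm.strictMono).head, ?_, ?_⟩
      · refine le_trans ?_ Order.length_le_coheight_head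
        exact le_of_eq (by simp [l', hll])
      · have h1 : e ((l'.map e.symm e.symm.strictMono).head) = l'.head := by
          rw [LTSeries.head_map, OrderIso.apply_symm_apply]
        rw [← hl0]
        exact congrArg Subtype.val h1
    refine (Set.encard_le_encard hsub).trans ((Finset.set_encard_biUnion_le _ _).trans ?_)
    unfold Groth.Agent.Lib.Cyc.LengthFormula.total
    rw [finsum_eq_finsetSum_of_support_subset (s := hfin.toFinset) _ ?_]
    · refine Finset.sum_le_sum fun P hP => ?_
      obtain ⟨hPI, hPm⟩ := hfin.mem_toFinset.mp hP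
      rw [finsum_eq_if, if_pos hPm]
      refine (Set.encard_image_le _ _).trans ?_
      let gP : Fin d → Localization.AtPrime P.asIdeal := fun j => algebraMap R _ (g' j)
      have hspan : Ideal.span (Set.range gP) = I.map (algebraMap R (Localization.AtPrime P.asIdeal)) := by
        rw [hI, Ideal.map_span, ← Set.range_comp]
        rfl
      have := ih (Localization.AtPrime P.asIdeal) gP (fun j => by
        have := hPI (Ideal.subset_span ⟨j, rfl⟩)
        exact (IsLocalization.AtPrime.to_map_mem_maximal_iff (Localization.AtPrime P.asIdeal) P.asIdeal _).mpr this) (by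
        rw [hspan, Ideal.radical_eq_sInf]
        refine le_sInf fun J hJ => ?_
        obtain ⟨hJI, hJp⟩ := hJ
        have hc : J.comap (algebraMap R _) ≤ P.asIdeal := by
          conv_rhs => rw [← Localization.AtPrime.comap_maximalIdeal (I := P.asIdeal)]
          exact Ideal.comap_mono (le_maximalIdeal hJp.ne_top)
        have hJc : J.comap (algebraMap R _) = P.asIdeal := by
          refine hc.eq_or_lt.resolve_right fun hlt => hPm (hmax ⟨_, hJp.comap _⟩ ⟨Ideal.map_le_iff_le_comap.mp hJI, fun he => ?_⟩ P hlt)
          change J.comap (algebraMap R _) = maximalIdeal R at he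
          exact hlt.not_ge (he ▸ le_maximalIdeal P.2.ne_top)
        rw [← Localization.AtPrime.map_eq_maximalIdeal, Ideal.map_le_iff_le_comap, hJc])
      refine this.trans ?_
      rw [hspan, ← length_localized_quotient P.asIdeal I, Groth.Agent.Lib.Cyc.LengthFormula.term]
      refine le_mul_of_one_le_left' ?_
      refine Order.one_le_iff_pos.mpr ?_
      have hu : ¬ IsUnit (Ideal.Quotient.mk P.asIdeal x) := fun hu =>
        (IsLocalRing.mem_maximalIdeal _).mp (hg (Fin.last d))
          ((have := Ideal.Quotient.nontrivial_iff.mpr P.2.ne_top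
            IsLocalHom.of_surjective (Ideal.Quotient.mk P.asIdeal) Ideal.Quotient.mk_surjective).map_nonunit _ hu)
      have : Nontrivial ((R ⧸ P.asIdeal) ⧸ Ideal.span {Ideal.Quotient.mk P.asIdeal x}) :=
        Ideal.Quotient.nontrivial_iff.mpr (by rwa [Ne, Ideal.span_singleton_eq_top])
      exact Module.length_pos
    · intro P hP
      rw [Function.mem_support] at hP
      rw [Finset.mem_coe, hfin.mem_toFinset]
      by_contra hPS
      apply hP
      rw [finsum_eq_if]
      split_ifs with hPm
      · exact Groth.Agent.Lib.Cyc.LengthFormula.term_eq_zero _ _ _ fun h =>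
          hPS ⟨(hsupp P).mp h, hPm⟩
      · rfl

/-- Let R be a Noetherian local ring of Krull dimension d with maximal ideal m, and suppose g_1, ...,
g_d in m form a system of parameters (they generate an ideal with radical m). Then the number of
minimal prime ideals p of R with R/p of Krull dimension d is at most the length of R/(g_1, ...,
g_d). -/
theorem result (R : Type u) [CommRing R] [IsNoetherianRing R] [IsLocalRing R]
    (d : ℕ) (hd : ringKrullDim R = d) (g : Fin d → R) (hg : ∀ i, g i ∈ IsLocalRing.maximalIdeal R)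
    (hsop : IsLocalRing.maximalIdeal R ≤ (Ideal.span (Set.range g)).radical) :
    (Set.ncard {p : Ideal R | p ∈ minimalPrimes R ∧ ringKrullDim (R ⧸ p) = d} : ℕ∞) ≤
      Module.length R (R ⧸ Ideal.span (Set.range g)) := by
  have hmin : {p : Ideal R | p ∈ minimalPrimes R ∧ ringKrullDim (R ⧸ p) = d} ⊆
      PrimeSpectrum.asIdeal '' {p : PrimeSpectrum R | (d : ℕ∞) ≤ Order.coheight p} := by
    rintro p ⟨hp, hpd⟩
    refine ⟨⟨p, hp.1.1⟩, ?_, rfl⟩
    have hset : (PrimeSpectrum.zeroLocus (p : Set R)) = Set.Ici (⟨p, hp.1.1⟩ : PrimeSpectrum R) := by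
      ext q; exact Iff.rfl
    rw [ringKrullDim_quotient, hset, ← Order.coheight_eq_krullDim_Ici] at hpd
    show (d : ℕ∞) ≤ _
    exact le_of_eq (WithBot.coe_injective (hpd.trans rfl)).symm
  refine le_trans ?_ ((Set.encard_le_encard hmin).trans ((Set.encard_image_le _ _).trans
    (encard_le d R g hg hsop)))
  rw [(Set.Finite.subset (minimalPrimes.finite_of_isNoetherianRing R) fun p hp => hp.1).cast_ncard_eq]

end Groth.Agent.S7117
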