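import Groth.Statements.S7119
import Groth.Agent.Lib.SquarefreeElt.Cat

set_option autoImplicit false
universe u
open CAlg

namespace Groth.Agent.S7119

/-- Let R be a Noetherian normal local domain of Krull dimension 2 and let p_1, ..., p_r be finitely
many prime ideals of height one. Then there is a nonzero element f lying in all the p_i such that
R/fR is reduced. -/
theorem result (R : Type u) [CommRing R] [IsDomain R]
    [IsNoetherianRing R] [IsLocalRing R] [IsIntegrallyClosed R] (hdim : ringKrullDim R = 2)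
    (s : Finset (Ideal R)) (hs : ∀ p ∈ s, p.IsPrime ∧ p.height = 1) :
    ∃ f : R, f ≠ 0 ∧ (∀ p ∈ s, f ∈ p) ∧ IsReduced (R ⧸ Ideal.span {f}) := by
  classical
  have hJ : (s.inf id).IsRadical := fun x hx => Submodule.mem_finsetInf.2 fun p hp =>
    (hs p hp).1.isRadical (Ideal.radical_mono (Finset.inf_le hp : s.inf id ≤ id p) hx)
  have hJ0 : s.inf id ≠ ⊥ := by
    intro h
    obtain ⟨p, hp, hpb⟩ := (Ideal.IsPrime.inf_le' (Ideal.isPrime_bot (α := R))).1 h.le
    have h1 := (hs p hp).2
    rw [show p = ⊥ from le_bot_iff.1 hpb, Ideal.height_bot] at h1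
    exact zero_ne_one h1
  obtain ⟨f, hf, hf0, hred⟩ := Groth.Agent.Lib.SquarefreeElt.Main.exists_squarefree (n := 1)
    (by rw [hdim]; rfl) (Groth.Agent.Lib.SquarefreeElt.Cat.dim_of_two hdim) (s.inf id) hJ hJ0
  exact ⟨f, hf0, fun p hp => Submodule.mem_finsetInf.1 hf p hp, hred⟩

end Groth.Agent.S7119
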