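import Groth.Statements.S7122
import Mathlib

set_option autoImplicit false
universe u
open CAlg

namespace Groth.Agent.S7122

lemma exists_T {R : Type*} [CommRing R] {M : Type*} [AddCommGroup M] [Module R M] (π : M →ₗ[R] R) (w : M)
    (hw : π w = 1) (u v a b : R) (h : a * u + b * v = 1) :
    ∃ T : (R × M) ≃ₗ[R] (R × M), T (1, 0) = (u, v • w) := by
  let F : (R × M) →ₗ[R] (R × M) :=
    { toFun := fun z => (u * z.1 - b * π z.2, z.2 + ((v * z.1 + a * π z.2) - π z.2) • w)
      map_add' := fun z z' => by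
        refine Prod.ext ?_ ?_ <;> simp [mul_add, add_smul, sub_smul] <;> ring_nf <;> abel
      map_smul' := fun c z => by
        refine Prod.ext ?_ ?_
        · simp; ring
        · simp [smul_add, smul_smul]; ring_nf }
  let G : (R × M) →ₗ[R] (R × M) :=
    { toFun := fun z => (a * z.1 + b * π z.2, z.2 + ((-v * z.1 + u * π z.2) - π z.2) • w)
      map_add' := fun z z' => by
        refine Prod.ext ?_ ?_ <;> simp [mul_add, add_smul, sub_smul] <;> ring_nf <;> abel
      map_smul' := fun c z => by
        refine Prod.ext ?_ ?_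
        · simp; ring
        · simp [smul_add, smul_smul]; ring_nf }
  refine ⟨LinearEquiv.ofLinearMap F G ?_ ?_, ?_⟩
  · apply LinearMap.ext
    rintro ⟨x, m⟩
    refine Prod.ext ?_ ?_
    · simp [F, G, hw]; linear_combination x * h
    · simp only [F, G, LinearMap.comp_apply, LinearMap.coe_mk, AddHom.coe_mk, LinearMap.id_apply,
        map_add, map_smul, hw, smul_eq_mul, mul_one]
      rw [add_assoc, ← add_smul, add_eq_left]
      convert zero_smul R w
      linear_combination π m * h
  · apply LinearMap.ext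
    rintro ⟨x, m⟩
    refine Prod.ext ?_ ?_
    · simp [F, G, hw]; linear_combination x * h
    · simp only [F, G, LinearMap.comp_apply, LinearMap.coe_mk, AddHom.coe_mk, LinearMap.id_apply,
        map_add, map_smul, hw, smul_eq_mul, mul_one]
      rw [add_assoc, ← add_smul, add_eq_left]
      convert zero_smul R w
      linear_combination π m * h
  · refine Prod.ext ?_ ?_ <;> simp [F]

lemma exists_aut (R : Type u) [CommRing R] [IsDomain R] [IsBezout R] : ∀ (n : ℕ) (f : Fin (n + 1) → R),
    ∃ (ψ : (Fin (n + 1) → R) ≃ₗ[R] (Fin (n + 1) → R)) (d : R), f = d • ψ (Pi.single 0 1) := by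
  intro n
  induction n with
  | zero =>
    intro f
    refine ⟨LinearEquiv.refl R _, f 0, ?_⟩
    ext i
    fin_cases i
    simp
  | succ n ih =>
    intro f
    obtain ⟨ψ, d, hd⟩ := ih (Fin.tail f)
    obtain ⟨e, he'⟩ := (IsBezout.span_pair_isPrincipal (f 0) d).principal
    have he : Ideal.span {f 0, d} = Ideal.span {e} := he'
    obtain ⟨u₀, hu⟩ : e ∣ f 0 := Ideal.mem_span_singleton.mp (he.le (Ideal.subset_span (by simp)))
    obtain ⟨v₀, hv⟩ : e ∣ d := Ideal.mem_span_singleton.mp (he.le (Ideal.subset_span (by simp)))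
    obtain ⟨u, v, a, b, hab, hu', hv'⟩ : ∃ u v a b : R, a * u + b * v = 1 ∧ f 0 = e * u ∧ d = e * v := by
      rcases eq_or_ne e 0 with rfl | hne
      · exact ⟨1, 0, 1, 0, by simp, by simpa using hu, by simpa using hv⟩
      · obtain ⟨a, b, hab⟩ := Ideal.mem_span_pair.mp (he.ge (Ideal.mem_span_singleton_self e))
        refine ⟨u₀, v₀, a, b, mul_left_cancel₀ hne ?_, hu, hv⟩
        rw [hu, hv] at hab
        linear_combination hab
    obtain ⟨T, hT⟩ := exists_T ((LinearMap.proj 0).comp ψ.symm.toLinearMap) (ψ (Pi.single 0 1)) (by simp) u v a b hab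
    refine ⟨((Fin.consLinearEquiv R (fun _ : Fin (n + 2) => R)).symm.trans T).trans
      (Fin.consLinearEquiv R (fun _ : Fin (n + 2) => R)), e, ?_⟩
    have h1 : (Fin.consLinearEquiv R (fun _ : Fin (n + 2) => R)).symm (Pi.single 0 1) = (1, 0) := by
      rw [LinearEquiv.symm_apply_eq]
      ext i
      refine Fin.cases ?_ ?_ i <;> simp [Fin.consLinearEquiv]
    rw [LinearEquiv.trans_apply, LinearEquiv.trans_apply, h1, hT]
    ext i
    refine Fin.cases ?_ ?_ i
    · simp [Fin.consLinearEquiv, hu']
    · intro j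
      have := congrFun hd j
      simp [Fin.consLinearEquiv, Fin.tail, hv', mul_assoc] at this ⊢
      exact this


/-- Let R be a Bézout domain, n ≥ 1, and f_1, ..., f_n elements generating the unit ideal. Then some
invertible n × n matrix over R has (f_1, ..., f_n) as its first row. -/
theorem result (R : Type u) [CommRing R] [IsDomain R] [IsBezout R]
    (n : ℕ) (f : Fin (n + 1) → R) (hf : Ideal.span (Set.range f) = ⊤) :
    ∃ A : Matrix (Fin (n + 1)) (Fin (n + 1)) R, IsUnit A.det ∧ A 0 = f := by
  obtain ⟨ψ, d, hd⟩ := exists_aut R n f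
  obtain ⟨u, rfl⟩ : IsUnit d := by
    rw [isUnit_iff_dvd_one, ← Ideal.mem_span_singleton]
    have h1 : (1 : R) ∈ Ideal.span (Set.range f) := hf ▸ Submodule.mem_top
    refine (Ideal.span_le.mpr ?_) h1
    rintro _ ⟨i, rfl⟩
    rw [hd]
    simp [Ideal.mem_span_singleton]
  let χ : (Fin (n + 1) → R) ≃ₗ[R] (Fin (n + 1) → R) := ψ.trans (LinearEquiv.smulOfUnit u)
  refine ⟨(LinearMap.toMatrix' χ.toLinearMap).transpose, ?_, ?_⟩
  · rw [Matrix.det_transpose, LinearMap.det_toMatrix']
    exact χ.isUnit_det'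
  · ext j
    rw [Matrix.transpose_apply, LinearMap.toMatrix'_apply, hd]
    simp [χ, Pi.single_apply, Units.smul_def]
    congr

end Groth.Agent.S7122
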