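import Groth.Statements.S7123
import Mathlib.RingTheory.Ideal.Quotient.Operations

set_option autoImplicit false
universe u
open CAlg

namespace Groth.Agent.S7123

open DirectSum in
/-- For a module P over a ring R these two conditions are equivalent: (1) P is a retract (direct
summand) of a direct sum of cyclic modules R/fR, f ranging over R; (2) for every surjection of
R-modules π : B → C whose kernel A satisfies fA = A ∩ fB for every f in R, each linear map P → C
lifts through π. -/
theorem result (R : Type u) [CommRing R] (P : Type u)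
    [AddCommGroup P] [Module R P] :
    (∃ (ι : Type u) (f : ι → R) (i : P →ₗ[R] (⨁ j, R ⧸ Ideal.span {f j}))
        (p : (⨁ j, R ⧸ Ideal.span {f j}) →ₗ[R] P), p ∘ₗ i = LinearMap.id) ↔
      ∀ (B C : Type u) [AddCommGroup B] [Module R B] [AddCommGroup C] [Module R C] (π : B →ₗ[R] C),
        Function.Surjective π →
        (∀ (f : R) (b : B), π (f • b) = 0 → ∃ a : B, π a = 0 ∧ f • a = f • b) →
        ∀ ψ : P →ₗ[R] C, ∃ φ : P →ₗ[R] B, π ∘ₗ φ = ψ := by
  classical
  constructor
  · rintro ⟨ι, f, i, p, hpi⟩ B C _ _ _ _ π hπ hπf ψ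
    have key : ∀ j, ∃ b : B, f j • b = 0 ∧
        π b = ψ (p (DirectSum.lof R ι (fun j => R ⧸ Ideal.span {f j}) j 1)) := by
      intro j
      obtain ⟨b, hb⟩ := hπ (ψ (p (DirectSum.lof R ι (fun j => R ⧸ Ideal.span {f j}) j 1)))
      have h0 : π (f j • b) = 0 := by
        rw [map_smul, hb, ← map_smul, ← map_smul, ← map_smul,
          show f j • (1 : R ⧸ Ideal.span {f j}) = 0 from by
            rw [Algebra.smul_def, mul_one, Ideal.Quotient.algebraMap_eq,
              Ideal.Quotient.eq_zero_iff_mem]
            exact Ideal.mem_span_singleton_self _]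
        simp
      obtain ⟨a, ha, hab⟩ := hπf (f j) b h0
      exact ⟨b - a, by rw [smul_sub, hab, sub_self], by rw [map_sub, ha, sub_zero, hb]⟩
    choose b hb hπb using key
    let L : (⨁ j, R ⧸ Ideal.span {f j}) →ₗ[R] B := DirectSum.toModule R ι B fun j =>
      Submodule.liftQ _ (LinearMap.toSpanSingleton R B (b j))
        ((Submodule.span_singleton_le_iff_mem _ _).2 (hb j))
    have hL : π ∘ₗ L = ψ ∘ₗ p := by
      refine DirectSum.linearMap_ext R fun j => Submodule.linearMap_qext _ (LinearMap.ext_ring ?_)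
      simp only [LinearMap.comp_apply, L, DirectSum.toModule_lof, Submodule.mkQ_apply,
        Submodule.liftQ_apply, LinearMap.toSpanSingleton_apply, one_smul, hπb]
      rfl
    exact ⟨L ∘ₗ i, by rw [← LinearMap.comp_assoc, hL, LinearMap.comp_assoc, hpi, LinearMap.comp_id]⟩
  · intro H
    let ι : Type u := {q : R × P // q.1 • q.2 = 0}
    let f : ι → R := fun q => q.1.1
    let π : (⨁ j, R ⧸ Ideal.span {f j}) →ₗ[R] P := DirectSum.toModule R ι P fun j =>
      Submodule.liftQ _ (LinearMap.toSpanSingleton R P j.1.2)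
        ((Submodule.span_singleton_le_iff_mem _ _).2 j.2)
    have hπ : ∀ j : ι, π (DirectSum.lof R ι (fun j => R ⧸ Ideal.span {f j}) j
        (Submodule.Quotient.mk 1)) = j.1.2 := fun j => by
      simp only [π, DirectSum.toModule_lof, Submodule.liftQ_apply,
        LinearMap.toSpanSingleton_apply, one_smul]
    have hs : Function.Surjective π := fun x => ⟨_, hπ ⟨(0, x), zero_smul R x⟩⟩
    have hf : ∀ (r : R) (b : ⨁ j, R ⧸ Ideal.span {f j}), π (r • b) = 0 →
        ∃ a, π a = 0 ∧ r • a = r • b := by
      intro r b hb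
      rw [map_smul] at hb
      let j : ι := ⟨(r, π b), hb⟩
      let c := DirectSum.lof R ι (fun j => R ⧸ Ideal.span {f j}) j (Submodule.Quotient.mk 1)
      refine ⟨b - c, by rw [map_sub, hπ j, sub_self], ?_⟩
      have hc : r • c = 0 := by
        rw [← map_smul, ← Submodule.Quotient.mk_smul, smul_eq_mul, mul_one,
          (Submodule.Quotient.mk_eq_zero _).2 (Ideal.mem_span_singleton_self r), map_zero]
      rw [smul_sub, hc, sub_zero]
    obtain ⟨i, hi⟩ := H _ P π hs hf LinearMap.id
    exact ⟨ι, f, i, π, hi⟩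

end Groth.Agent.S7123
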