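import Groth.Statements.S7124
import Mathlib.RingTheory.Valuation.ValuationRing
import Mathlib.RingTheory.Valuation.Integers
import Mathlib.LinearAlgebra.Dimension.Finite
import Mathlib.LinearAlgebra.FreeModule.Finite.Basic
import Mathlib.LinearAlgebra.Dimension.Free
import Mathlib.LinearAlgebra.Dimension.Constructions
import Mathlib.GroupTheory.Index
import Mathlib.RingTheory.LocalRing.ResidueField.Basic
import Mathlib.Tactic.FieldSimp
import Mathlib.Tactic.LinearCombination

set_option autoImplicit false
universe u
open CAlg

namespace Groth.Agent.S7124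

/-- Let A ⊆ B be an extension of valuation rings (both valuation domains, the inclusion injective and
local) with fraction fields K ⊆ L such that L/K is finite. Then the residue field of B is finite
over that of A, the value group of A has finite index in the value group of B, and (index of value
groups) · (residue degree) ≤ [L : K]. Here the value group of B is written as Lˣ modulo the units of
B, and that of A as the image of Kˣ in it. -/
theorem result (A B K L : Type u) [CommRing A] [IsDomain A]
    [ValuationRing A] [CommRing B] [IsDomain B] [ValuationRing B] [Field K] [Field L]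
    [Algebra A K] [IsFractionRing A K] [Algebra B L] [IsFractionRing B L] [Algebra A B] [Algebra K L]
    [Algebra A L] [IsScalarTower A K L] [IsScalarTower A B L] (hinj : Function.Injective (algebraMap A B))
    [IsLocalHom (algebraMap A B)] [FiniteDimensional K L] :
    let UB : Subgroup Lˣ := (Units.map (algebraMap B L).toMonoidHom).range
    let ΓA : Subgroup (Lˣ ⧸ UB) := ((QuotientGroup.mk' UB).comp (Units.map (algebraMap K L).toMonoidHom)).range
    Module.Finite (IsLocalRing.ResidueField A) (IsLocalRing.ResidueField B) ∧ ΓA.index ≠ 0 ∧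
      ΓA.index * Module.finrank (IsLocalRing.ResidueField A) (IsLocalRing.ResidueField B) ≤
        Module.finrank K L := by
  intro UB ΓA
  classical
  have hAN : ΓA.Normal := ⟨fun a ha b => by rwa [mul_comm b a, mul_inv_cancel_right]⟩
  let w : Valuation L (ValuationRing.ValueGroup B L) := ValuationRing.valuation B L
  have hw : w.Integers B := by
    refine ⟨IsFractionRing.injective B L, fun b => ?_, fun {x} hx => ?_⟩
    · exact ((ValuationRing.mem_integer_iff B L _).mpr ⟨b, rfl⟩)
    · exact (ValuationRing.mem_integer_iff B L x).mp hx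
  have hUB : ∀ z : Lˣ, w (z : L) = 1 → z ∈ UB := by
    intro z hz
    obtain ⟨b, hb⟩ := hw.exists_of_le_one hz.le
    have hbu : IsUnit b := hw.isUnit_iff_valuation_eq_one.mpr (by rw [hb, hz])
    exact ⟨hbu.unit, Units.ext (by simpa using hb)⟩
  have key : ∀ (T : Finset ((Lˣ ⧸ UB) ⧸ ΓA)) (ι : Type u) [Fintype ι] (b : ι → B),
      LinearIndependent (IsLocalRing.ResidueField A) (fun i => IsLocalRing.residue B (b i)) →
        T.card * Fintype.card ι ≤ Module.finrank K L := by
    intro T ι _ b hb
    choose g hg using fun q : (Lˣ ⧸ UB) ⧸ ΓA => QuotientGroup.mk_surjective q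
    choose x hx using fun q : Lˣ ⧸ UB => QuotientGroup.mk_surjective q
    let rep : T → L := fun q => ((x (g q.1) : Lˣ) : L)
    have hLI : LinearIndependent K (fun p : T × ι => rep p.1 * algebraMap B L (b p.2)) := by
      rw [Fintype.linearIndependent_iff]
      intro c hc p₀
      by_contra hp₀
      let vA : Valuation K (ValuationRing.ValueGroup A K) := ValuationRing.valuation A K
      let S : Finset T := Finset.univ.filter fun q => ∃ i, c (q, i) ≠ 0
      have hnorm : ∀ q ∈ S, ∃ (c₀ : K) (u : B), c₀ ≠ 0 ∧ IsUnit u ∧
          ∑ i, c (q, i) • (rep q * algebraMap B L (b i)) = algebraMap K L c₀ * rep q * algebraMap B L u := by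
        intro q hq
        obtain ⟨i₁, hi₁⟩ := (Finset.mem_filter.mp hq).2
        obtain ⟨i₀, -, hmax⟩ := Finset.exists_max_image (Finset.univ : Finset ι) (fun i => vA (c (q, i)))
          ⟨i₁, Finset.mem_univ _⟩
        have hc₀ : c (q, i₀) ≠ 0 := fun h => hi₁ (vA.zero_iff.mp (le_antisymm
          ((hmax i₁ (Finset.mem_univ _)).trans (by rw [h, map_zero])) bot_le))
        have hdiv : ∀ i, ∃ a : A, algebraMap A K a = c (q, i) / c (q, i₀) := fun i => by
          refine (ValuationRing.mem_integer_iff A K _).mp ?_
          show vA _ ≤ 1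
          rw [map_div₀]
          exact div_le_one_of_le₀ (hmax i (Finset.mem_univ _)) bot_le
        choose a ha using hdiv
        refine ⟨c (q, i₀), ∑ i, algebraMap A B (a i) * b i, hc₀, ?_, ?_⟩
        · rw [← IsLocalRing.residue_ne_zero_iff_isUnit, map_sum]
          intro h0
          have h1 := Fintype.linearIndependent_iff.mp hb (fun i => IsLocalRing.residue A (a i))
            (by rw [← h0]; refine Finset.sum_congr rfl fun i _ => ?_
                rw [map_mul, Algebra.smul_def]; rfl) i₀
          have ha0 : a i₀ = 1 := IsFractionRing.injective A K (by rw [ha, div_self hc₀, map_one])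
          rw [ha0, map_one] at h1
          exact one_ne_zero h1
        · rw [map_sum, Finset.mul_sum]
          refine Finset.sum_congr rfl fun i _ => ?_
          rw [map_mul, ← IsScalarTower.algebraMap_apply A B L, IsScalarTower.algebraMap_apply A K L, ha,
            map_div₀, Algebra.smul_def]
          have : algebraMap K L (c (q, i₀)) ≠ 0 := (map_ne_zero (algebraMap K L)).mpr hc₀
          field_simp
      choose c₀ u hc₀ hu hsum using hnorm
      have hne : ∀ q hq, algebraMap K L (c₀ q hq) * rep q * algebraMap B L (u q hq) ≠ 0 := fun q hq =>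
        mul_ne_zero (mul_ne_zero ((map_ne_zero (algebraMap K L)).mpr (hc₀ q hq)) (Units.ne_zero _))
          ((map_ne_zero_iff _ (IsFractionRing.injective B L)).mpr (hu q hq).ne_zero)
      let F : T → L := fun q => ∑ i, c (q, i) • (rep q * algebraMap B L (b i))
      have hdist : ∀ q ∈ S, ∀ q' ∈ S, w (F q) = w (F q') → q = q' := by
        intro q hq q' hq' h
        simp only [F, hsum q hq, hsum q' hq', map_mul,
          hw.isUnit_iff_valuation_eq_one.mp (hu q hq), hw.isUnit_iff_valuation_eq_one.mp (hu q' hq'), mul_one] at h
        let e : Kˣ := Units.mk0 (c₀ q hq) (hc₀ q hq) / Units.mk0 (c₀ q' hq') (hc₀ q' hq')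
        have hz : w ((Units.map (algebraMap K L).toMonoidHom e * (x (g q.1) / x (g q'.1)) : Lˣ) : L) = 1 := by
          rw [← mul_div_assoc]
          simp only [e, Units.val_mul, Units.val_div_eq_div_val, Units.coe_map, RingHom.toMonoidHom_eq_coe,
            MonoidHom.coe_coe, Units.val_mk0, map_div₀, map_mul]
          have n1 : w (algebraMap K L (c₀ q' hq')) ≠ 0 := (Valuation.ne_zero_iff _).mpr ((map_ne_zero (algebraMap K L)).mpr (hc₀ q' hq'))
          have n2 : w ((x (g q'.1) : Lˣ) : L) ≠ 0 := (Valuation.ne_zero_iff _).mpr (Units.ne_zero _)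
          have h' : w (algebraMap K L (c₀ q hq)) * w ((x (g q.1) : Lˣ) : L) =
              w (algebraMap K L (c₀ q' hq')) * w ((x (g q'.1) : Lˣ) : L) := h
          field_simp
          simpa [mul_comm] using h'
        have hmem := (QuotientGroup.eq_one_iff _).mpr (hUB _ hz)
        rw [QuotientGroup.mk_mul, QuotientGroup.mk_div, hx, hx] at hmem
        have h2 := congrArg (QuotientGroup.mk : Lˣ ⧸ UB → (Lˣ ⧸ UB) ⧸ ΓA) hmem
        rw [QuotientGroup.mk_mul, QuotientGroup.mk_div, hg, hg, QuotientGroup.mk_one,
          (QuotientGroup.eq_one_iff _).mpr (show (QuotientGroup.mk (Units.map (algebraMap K L).toMonoidHom e) : Lˣ ⧸ UB) ∈ ΓA from ⟨e, rfl⟩),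
          one_mul, div_eq_one] at h2
        exact Subtype.ext h2
      have hS : S.Nonempty := ⟨p₀.1, Finset.mem_filter.mpr ⟨Finset.mem_univ _, p₀.2, hp₀⟩⟩
      have htot : ∑ q ∈ S, F q = 0 := by
        rw [← hc, Fintype.sum_prod_type]
        refine Finset.sum_subset (Finset.subset_univ _) fun q _ hq => ?_
        refine Finset.sum_eq_zero fun i _ => ?_
        have : c (q, i) = 0 := by
          by_contra h
          exact hq (Finset.mem_filter.mpr ⟨Finset.mem_univ _, i, h⟩)
        rw [this, zero_smul]
      obtain ⟨j, hj, hjmax⟩ := Finset.exists_max_image S (fun q => w (F q)) hS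
      have := w.map_sum_eq_of_lt hj fun q hq => lt_of_le_of_ne (hjmax q (Finset.sdiff_subset hq))
        fun h => (Finset.mem_sdiff.mp hq).2 (Finset.mem_singleton.mpr (hdist q (Finset.sdiff_subset hq) j hj h))
      rw [htot, map_zero] at this
      exact (Valuation.ne_zero_iff _).mpr (by simp only [F, hsum j hj]; exact hne j hj) this.symm
    have := LinearIndependent.fintype_card_le_finrank hLI
    rwa [Fintype.card_prod, Fintype.card_coe] at this
  have hlift : ∀ (ι : Type u) [Fintype ι] (β : ι → IsLocalRing.ResidueField B),
      LinearIndependent (IsLocalRing.ResidueField A) β → ∀ T : Finset ((Lˣ ⧸ UB) ⧸ ΓA),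
        T.card * Fintype.card ι ≤ Module.finrank K L := by
    intro ι _ β hβ T
    choose b hb using fun i => IsLocalRing.residue_surjective (β i)
    exact key T ι b (by simpa [hb] using hβ)
  have hfin : Module.Finite (IsLocalRing.ResidueField A) (IsLocalRing.ResidueField B) := by
    have hrank : Module.rank (IsLocalRing.ResidueField A) (IsLocalRing.ResidueField B) ≤
        (Module.finrank K L : Cardinal) := by
      refine rank_le fun s hs => ?_
      have := hlift (↥s) (fun i => (i : IsLocalRing.ResidueField B)) hs {1}
      simpa using this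
    exact Module.rank_lt_aleph0_iff.mp (hrank.trans_lt (Cardinal.natCast_lt_aleph0))
  let bf := Module.finBasis (IsLocalRing.ResidueField A) (IsLocalRing.ResidueField B)
  have hcard : ∀ T : Finset ((Lˣ ⧸ UB) ⧸ ΓA),
      T.card * Module.finrank (IsLocalRing.ResidueField A) (IsLocalRing.ResidueField B) ≤ Module.finrank K L := by
    intro T
    have := hlift (ULift.{u} (Fin (Module.finrank (IsLocalRing.ResidueField A) (IsLocalRing.ResidueField B))))
      (fun i => bf i.down) (bf.linearIndependent.comp _ ULift.down_injective) T
    simpa using this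
  have hfinQ : Finite ((Lˣ ⧸ UB) ⧸ ΓA) := by
    by_contra hinf
    have := not_finite_iff_infinite.mp hinf
    obtain ⟨T, hT⟩ := Infinite.exists_subset_card_eq ((Lˣ ⧸ UB) ⧸ ΓA) (Module.finrank K L + 1)
    have h := hcard T
    rw [hT] at h
    have hpos : 0 < Module.finrank (IsLocalRing.ResidueField A) (IsLocalRing.ResidueField B) := Module.finrank_pos
    have := le_trans (Nat.le_mul_of_pos_right _ hpos) h
    omega
  refine ⟨hfin, Subgroup.index_ne_zero_of_finite, ?_⟩
  have : Fintype ((Lˣ ⧸ UB) ⧸ ΓA) := Fintype.ofFinite _
  rw [Subgroup.index, Nat.card_eq_fintype_card]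
  exact hcard Finset.univ

end Groth.Agent.S7124
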