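import Groth.Statements.S7125
import Mathlib
import Groth.Agent.Lib.RefHull.NormalAlg

set_option autoImplicit false
universe u
open CAlg

namespace Groth.Agent.S7125

/-- Let A and B be Noetherian local normal domains and A → B a flat homomorphism that is local, and let
f in A, h in B, n > 1 and a unit w of B satisfy f = w·hⁿ in B. Assume that for every height-one
prime p of A there is a height-one prime q of B lying over p such that A_p ⊆ B_q is weakly
unramified, i.e. p generates the maximal ideal of B_q. Then f = u·gⁿ for some g in A and some unit u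
of A. -/
theorem result (A B : Type u) [CommRing A] [IsDomain A]
    [IsNoetherianRing A] [IsLocalRing A] [IsIntegrallyClosed A] [CommRing B] [IsDomain B] [IsNoetherianRing B]
    [IsLocalRing B] [IsIntegrallyClosed B] [Algebra A B] [IsLocalHom (algebraMap A B)] [Module.Flat A B]
    (f : A) (h : B) (n : ℕ) (hn : 1 < n) (w : Bˣ) (hf : algebraMap A B f = (w : B) * h ^ n)
    (hram : ∀ (p : Ideal A) [p.IsPrime], p.height = 1 →
      ∃ (q : Ideal B) (_ : q.IsPrime), q.height = 1 ∧ q.comap (algebraMap A B) = p ∧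
        Ideal.map (algebraMap B (Localization.AtPrime q)) (Ideal.map (algebraMap A B) p) =
          IsLocalRing.maximalIdeal (Localization.AtPrime q)) :
    ∃ (g : A) (u : Aˣ), f = (u : A) * g ^ n := by
  classical
  have hn0 : n ≠ 0 := by omega
  by_cases hf0 : f = 0
  · exact ⟨0, 1, by rw [hf0, zero_pow hn0, mul_zero]⟩
  by_cases hfu : IsUnit f
  · exact ⟨1, hfu.unit, by rw [one_pow, mul_one, IsUnit.unit_spec]⟩
  haveI : Module.FaithfullyFlat A B := Module.FaithfullyFlat.of_flat_of_isLocalHom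
  let P : Set (Ideal A) := {p | p.IsPrime ∧ p.height = 1 ∧ f ∈ p}
  have hPmin : P ⊆ (Ideal.span {f}).minimalPrimes := by
    rintro p ⟨hp, hp1, hfp⟩
    refine ⟨⟨hp, by rwa [Ideal.span_le, Set.singleton_subset_iff]⟩, fun q ⟨hq, hfq⟩ hqp => ?_⟩
    by_contra hne
    haveI := hq
    have h1 : q ≠ ⊥ := fun h => hf0 (by simpa [h] using hfq (Ideal.subset_span rfl))
    have h2 := Ideal.height_strict_mono_of_isPrime (lt_of_le_not_ge hqp hne)
    rw [hp1, ENat.lt_one_iff_eq_zero, Ideal.height_eq_zero_iff_eq_bot] at h2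
    exact h1 h2
  have hPfin : P.Finite := (Ideal.finite_minimalPrimes_of_isNoetherianRing A _).subset hPmin
  haveI : Fintype P := hPfin.fintype
  haveI hPp : ∀ p : P, p.1.IsPrime := fun p => p.2.1
  have hloc : ∀ p : P, ∃ (π : A) (c : ℕ) (v : (Localization.AtPrime p.1)ˣ),
      IsLocalRing.maximalIdeal (Localization.AtPrime p.1) = Ideal.span {algebraMap A _ π} ∧
      algebraMap A (Localization.AtPrime p.1) f = v * algebraMap A _ π ^ (n * c) := by
    intro p
    let L := Localization.AtPrime p.1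
    have hp0 : p.1 ≠ ⊥ := Ideal.ne_bot_of_height_eq_one p.2.2.1
    have hinjL : Function.Injective (algebraMap A L) :=
      IsLocalization.injective L p.1.primeCompl_le_nonZeroDivisors
    have hLf : ¬ IsField L := fun hF => by
      rw [IsLocalRing.isField_iff_maximalIdeal_eq, ← IsLocalization.AtPrime.map_eq_maximalIdeal p.1 L,
        Ideal.map_eq_bot_iff_of_injective hinjL] at hF
      exact hp0 hF
    haveI : IsIntegrallyClosed L :=
      isIntegrallyClosed_of_isLocalization L p.1.primeCompl p.1.primeCompl_le_nonZeroDivisors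
    haveI : IsNoetherianRing L := IsLocalization.isNoetherianRing p.1.primeCompl L ‹_›
    haveI : IsDiscreteValuationRing L := by
      suffices huniq : ∃! Q : Ideal L, Q ≠ ⊥ ∧ Q.IsPrime from
        ((IsDiscreteValuationRing.TFAE L hLf).out 0 3).mpr (show IsIntegrallyClosed L ∧ _ from ⟨‹IsIntegrallyClosed L›, huniq⟩)
      refine ⟨IsLocalRing.maximalIdeal L, ⟨fun h => hLf (IsLocalRing.isField_iff_maximalIdeal_eq.mpr h), inferInstance⟩, ?_⟩
      rintro Q ⟨hQ0, hQ⟩
      haveI := hQ
      have hQc : (Q.comap (algebraMap A L)) = p.1 := by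
        by_contra hne
        have hle : Q.comap (algebraMap A L) ≤ p.1 := by
          exact le_of_le_of_eq (Ideal.comap_mono (IsLocalRing.le_maximalIdeal hQ.ne_top))
            (IsLocalization.AtPrime.under_maximalIdeal L p.1)
        have h2 := Ideal.height_strict_mono_of_isPrime (lt_of_le_of_ne hle hne)
        rw [p.2.2.1, ENat.lt_one_iff_eq_zero, Ideal.height_eq_zero_iff_eq_bot] at h2
        apply hQ0
        rw [← IsLocalization.map_under p.1.primeCompl L Q]
        show Ideal.map _ (Q.comap (algebraMap A L)) = ⊥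
        rw [h2]
        exact Ideal.map_bot
      rw [← IsLocalization.map_under p.1.primeCompl L Q]
      show Ideal.map _ (Q.comap (algebraMap A L)) = _
      rw [hQc, IsLocalization.AtPrime.map_eq_maximalIdeal]
    obtain ⟨ϖ, hϖ⟩ := IsDiscreteValuationRing.exists_irreducible L
    obtain ⟨⟨π, s⟩, hs⟩ := IsLocalization.surj p.1.primeCompl ϖ
    have hassoc : Associated ϖ (algebraMap A L π) :=
      ⟨(IsLocalization.map_units L s).unit, by rw [IsUnit.unit_spec]; exact hs⟩
    have hπirr : Irreducible (algebraMap A L π) := hassoc.irreducible hϖ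
    obtain ⟨m, v, hv⟩ := IsDiscreteValuationRing.eq_unit_mul_pow_irreducible
      (fun h => hf0 (hinjL (h.trans (map_zero _).symm))) hπirr
    have hmax := hπirr.maximalIdeal_eq
    obtain ⟨q, hq, hq1, hqp, hqmax⟩ := hram p.1 p.2.2.1
    let M := Localization.AtPrime q
    have hlift : ∀ a : p.1.primeCompl, IsUnit ((algebraMap B M).comp (algebraMap A B) a) := fun a =>
      IsLocalization.map_units M (⟨algebraMap A B a, fun h => a.2 (hqp.le h)⟩ : q.primeCompl)
    let φ : L →+* M := IsLocalization.lift hlift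
    have hφ : ∀ a, φ (algebraMap A L a) = algebraMap B M (algebraMap A B a) := IsLocalization.lift_eq hlift
    have hπM : IsLocalRing.maximalIdeal M = Ideal.span {φ (algebraMap A L π)} := by
      rw [← hqmax, ← Set.image_singleton, ← Ideal.map_span, ← hmax,
        ← IsLocalization.AtPrime.map_eq_maximalIdeal p.1 L, Ideal.map_map, Ideal.map_map]
      congr 1
      exact (RingHom.ext hφ).symm
    haveI : IsNoetherianRing M := IsLocalization.isNoetherianRing q.primeCompl M ‹_›
    have hinjM : Function.Injective (algebraMap B M) :=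
      IsLocalization.injective M q.primeCompl_le_nonZeroDivisors
    have hMf : ¬ IsField M := fun hF => by
      rw [IsLocalRing.isField_iff_maximalIdeal_eq, ← IsLocalization.AtPrime.map_eq_maximalIdeal q M,
        Ideal.map_eq_bot_iff_of_injective hinjM] at hF
      exact Ideal.ne_bot_of_height_eq_one hq1 hF
    haveI : IsDiscreteValuationRing M :=
      ((IsDiscreteValuationRing.TFAE M hMf).out 0 4).mpr (⟨⟨_, hπM⟩⟩ : (IsLocalRing.maximalIdeal M).IsPrincipal)
    have hπMirr : Irreducible (φ (algebraMap A L π)) :=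
      (IsDiscreteValuationRing.irreducible_iff_uniformizer _).mpr hπM
    have hh0 : algebraMap B M h ≠ 0 := fun e => hf0 (by
      have e' : algebraMap A B f = 0 := by
        rw [hf, hinjM (e.trans (map_zero _).symm), zero_pow hn0, mul_zero]
      exact FaithfulSMul.algebraMap_injective A B (e'.trans (map_zero _).symm))
    obtain ⟨c, v', hv'⟩ := IsDiscreteValuationRing.eq_unit_mul_pow_irreducible hh0 hπMirr
    have hmn : m = n * c := by
      have e1 : φ (algebraMap A L f) = algebraMap B M (w : B) * algebraMap B M h ^ n := by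
        rw [hφ, hf, map_mul, map_pow]
      rw [hv, hv', map_mul, map_pow, mul_pow, ← pow_mul, ← mul_assoc, mul_comm c n] at e1
      exact IsDiscreteValuationRing.unit_mul_pow_congr_pow hπMirr hπMirr
        ((Units.map φ.toMonoidHom) v) (Units.map (algebraMap B M).toMonoidHom w * v' ^ n) m (n * c) e1
    exact ⟨π, c, v, hmax, hmn ▸ hv⟩
  choose π c v hπ hv using hloc
  have hd : ∀ i j : P, ∃ d : A, d ∈ j.1 ∧ (i ≠ j → d ∉ i.1) := by
    intro i j
    by_cases hij : i = j
    · exact ⟨0, zero_mem _, fun h => absurd hij h⟩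
    have hnle : ¬ j.1 ≤ i.1 := fun hle => hij (Subtype.ext
      (le_antisymm ((hPmin i.2).2 ⟨j.2.1, (hPmin j.2).1.2⟩ hle) hle))
    obtain ⟨d, hd1, hd2⟩ := SetLike.not_le_iff_exists.mp hnle
    exact ⟨d, hd1, fun _ => hd2⟩
  choose d hd1 hd2 using hd
  let e : P → A := fun i => ∏ j ∈ Finset.univ.erase i, d i j ^ (c j + 1)
  set y := ∑ i, e i * π i ^ c i with hy
  have hyloc : ∀ i : P, ∃ r : (Localization.AtPrime i.1)ˣ,
      algebraMap A (Localization.AtPrime i.1) y = r * algebraMap A _ (π i) ^ c i := by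
    intro i
    let L := Localization.AtPrime i.1
    have hrest : ∀ j, j ≠ i → algebraMap A L (π i) ^ (c i + 1) ∣ algebraMap A L (e j * π j ^ c j) := by
      intro j hj
      rw [map_mul]
      refine dvd_mul_of_dvd_left ?_ _
      have hdi : algebraMap A L (π i) ∣ algebraMap A L (d j i) := by
        rw [← Ideal.mem_span_singleton, ← hπ i, ← IsLocalization.AtPrime.map_eq_maximalIdeal i.1 L]
        exact Ideal.mem_map_of_mem _ (hd1 j i)
      refine (pow_dvd_pow_of_dvd hdi _).trans ?_
      rw [← map_pow]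
      exact map_dvd _ (Finset.dvd_prod_of_mem _ (Finset.mem_erase.mpr ⟨Ne.symm hj, Finset.mem_univ _⟩))
    have hei : IsUnit (algebraMap A L (e i)) := by
      refine IsLocalization.map_units L (⟨e i, ?_⟩ : i.1.primeCompl)
      refine fun hmem => ?_
      obtain ⟨j, hj, hjm⟩ := (Ideal.IsPrime.prod_mem_iff).mp (hmem : e i ∈ i.1)
      exact hd2 i j (Ne.symm (Finset.mem_erase.mp hj).1) ((hPp i).mem_of_pow_mem _ hjm)
    obtain ⟨R, hR⟩ : algebraMap A L (π i) ^ (c i + 1) ∣ algebraMap A L (∑ j ∈ Finset.univ.erase i, e j * π j ^ c j) := by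
      rw [map_sum]
      exact Finset.dvd_sum fun j hj => hrest j (Finset.mem_erase.mp hj).1
    have hu : IsUnit (algebraMap A L (e i) + algebraMap A L (π i) * R) := by
      have hm : algebraMap A L (π i) * R ∈ IsLocalRing.maximalIdeal L := by
        rw [hπ i]; exact Ideal.mul_mem_right _ _ (Ideal.subset_span rfl)
      by_contra hcon
      refine (IsLocalRing.mem_maximalIdeal _).mp ?_ hei
      simpa using sub_mem ((IsLocalRing.mem_maximalIdeal _).mpr hcon) hm
    refine ⟨hu.unit, ?_⟩
    rw [IsUnit.unit_spec, hy, ← Finset.add_sum_erase _ _ (Finset.mem_univ i), map_add, map_mul, map_pow, hR]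
    ring
  have hfs : ∀ i : P, ∃ s t : A, s ∉ i.1 ∧ t ∉ i.1 ∧ f * s = y ^ n * t := by
    intro i
    let L := Localization.AtPrime i.1
    obtain ⟨r, hr⟩ := hyloc i
    obtain ⟨⟨t, s⟩, hts⟩ := IsLocalization.surj i.1.primeCompl ((v i * (r ^ n)⁻¹ : Lˣ) : L)
    have ht : t ∉ i.1 := fun h => by
      have h1 : IsUnit (algebraMap A L t) := by
        rw [← hts]; exact (Units.isUnit _).mul (IsLocalization.map_units L s)
      exact (IsLocalization.AtPrime.isUnit_to_map_iff L i.1 t).mp h1 h
    refine ⟨s, t, s.2, ht, IsLocalization.injective L i.1.primeCompl_le_nonZeroDivisors ?_⟩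
    simp only [Units.val_mul] at hts
    rw [map_mul, map_mul, map_pow, hr, hv i, ← hts, mul_pow, ← pow_mul, mul_comm (c i) n]
    have hrr : (r : L) ^ n * ((r ^ n)⁻¹ : Lˣ) = 1 := by rw [← Units.val_pow_eq_pow_val, Units.mul_inv]
    linear_combination -((v i : L) * algebraMap A L (π i) ^ (n * c i) * algebraMap A L s) * hrr
  choose s' t' hs' ht' hst' using hfs
  obtain ⟨p₀, hp₀⟩ : P.Nonempty := by
    have hne : Ideal.span {f} ≠ ⊤ := by rwa [Ne, Ideal.span_singleton_eq_top]
    obtain ⟨p, hp⟩ := Ideal.nonempty_minimalPrimes hne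
    haveI := hp.1.1
    refine ⟨p, hp.1.1, le_antisymm (Ideal.height_le_one_of_isPrincipal_of_mem_minimalPrimes _ p hp) ?_, hp.1.2 (Ideal.subset_span rfl)⟩
    rw [Order.one_le_iff_pos, pos_iff_ne_zero, Ne, Ideal.height_eq_zero_iff_eq_bot]
    exact fun h => hf0 (by simpa [h] using hp.1.2 (Ideal.subset_span (rfl : f ∈ ({f} : Set A))))
  have hy0 : y ≠ 0 := by
    intro h0
    have := hst' ⟨p₀, hp₀⟩
    rw [h0, zero_pow hn0, zero_mul] at this
    rcases mul_eq_zero.mp this with h1 | h1
    · exact hf0 h1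
    · exact hs' ⟨p₀, hp₀⟩ (h1 ▸ zero_mem _)
  let D := (Ideal.span {y ^ n}).colon {f}
  have hD : ∀ a, a ∈ D ↔ y ^ n ∣ f * a := fun a => by
    rw [Submodule.mem_colon_singleton, Ideal.mem_span_singleton, smul_eq_mul, mul_comm]
  obtain ⟨s, hsD, hs⟩ : ∃ s ∈ D, ∀ i : P, s ∉ i.1 := by
    by_contra hcon
    push Not at hcon
    have hsub : (D : Set A) ⊆ ⋃ i ∈ (↑(Finset.univ : Finset P) : Set P), (i.1 : Set A) := fun a ha => by
      obtain ⟨i, hi⟩ := hcon a ha
      exact Set.mem_biUnion (Finset.mem_coe.mpr (Finset.mem_univ i)) hi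
    obtain ⟨i, -, hi⟩ := (Ideal.subset_union_prime ⟨p₀, hp₀⟩ ⟨p₀, hp₀⟩ (fun i _ _ _ => hPp i)).mp hsub
    exact hs' i (hi ((hD _).mpr ⟨t' i, hst' i⟩))
  obtain ⟨q, hq⟩ := (hD s).mp hsD
  have hqi : ∀ i : P, q * s ^ (n - 1) ∉ i.1 := fun i => by
    refine fun h => ((hPp i).mem_or_mem h).elim (fun h1 => ?_) fun h1 => hs i ((hPp i).mem_of_pow_mem _ h1)
    have e1 : q * s' i = t' i * s := mul_left_cancel₀ (pow_ne_zero n hy0) (by
      linear_combination s * hst' i - s' i * hq)
    exact ((hPp i).mem_or_mem (e1 ▸ (Ideal.mul_mem_right _ _ h1) : t' i * s ∈ i.1)).elim (ht' i) (hs i)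
  have hfz : f * s ^ n = q * s ^ (n - 1) * y ^ n := by
    have : s ^ n = s * s ^ (n - 1) := by rw [← pow_succ', Nat.sub_add_cancel (by omega)]
    linear_combination f * this + s ^ (n - 1) * hq
  have hA : ∀ x : A, y ∣ x * s → f ∣ x ^ n := by
    rintro x ⟨t, ht⟩
    let K := FractionRing A
    have hfK : algebraMap A K f ≠ 0 := fun e => hf0 (IsFractionRing.injective A K (e.trans (map_zero _).symm))
    obtain ⟨a, ha⟩ := Groth.Agent.Lib.RefHull.NormalAlg.mem_range_of_forall_height_one
      (algebraMap A K (x ^ n) / algebraMap A K f) (fun p hp hp1 => by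
        by_cases hfp : f ∈ p
        · refine ⟨t ^ n, q * s ^ (n - 1), hqi ⟨p, hp, hp1, hfp⟩, ?_⟩
          rw [mul_div_assoc', div_eq_iff hfK, ← map_mul, ← map_mul]
          congr 1
          refine mul_left_cancel₀ (pow_ne_zero n hy0) ?_
          have e : x ^ n * s ^ n = y ^ n * t ^ n := by rw [← mul_pow, ← mul_pow, ht]
          linear_combination -x ^ n * hfz + f * e
        · exact ⟨x ^ n, f, hfp, mul_div_cancel₀ _ hfK⟩)
    refine ⟨a, IsFractionRing.injective A K ?_⟩
    rw [map_mul, ha, mul_div_cancel₀ _ hfK]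
  obtain ⟨b', hb'⟩ : algebraMap A B y ∣ algebraMap A B s * h := by
    rw [← IsIntegrallyClosed.pow_dvd_pow_iff hn0]
    refine (Units.dvd_mul_left (u := w)).mp ⟨algebraMap A B (q * s ^ (n - 1)), ?_⟩
    have e2 := congrArg (algebraMap A B) hfz
    simp only [map_mul, map_pow, hf] at e2 ⊢
    linear_combination e2
  obtain ⟨κ, av, z, hz, hrel⟩ := Module.Flat.isTrivialRelation_of_sum_smul_eq_zero
    (R := A) (M := B) (f := ![s, -y]) (x := ![h, b']) (by
      rw [Fin.sum_univ_two]
      simp only [Matrix.cons_val_zero, Matrix.cons_val_one, Algebra.smul_def, map_neg]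
      linear_combination hb')
  have hdiv : ∀ j, ∃ cj, algebraMap A B (av 0 j) = h * cj := by
    intro j
    have e1 := hrel j
    rw [Fin.sum_univ_two] at e1
    simp only [Matrix.cons_val_zero, Matrix.cons_val_one] at e1
    obtain ⟨a, ha⟩ := hA (av 0 j) ⟨av 1 j, by linear_combination e1⟩
    refine (IsIntegrallyClosed.pow_dvd_pow_iff hn0).mp ⟨(w : B) * algebraMap A B a, ?_⟩
    rw [← map_pow, ha, map_mul, hf]
    ring
  choose cj hcj using hdiv
  have hsum := hz 0
  simp only [Matrix.cons_val_zero, Algebra.smul_def, hcj] at hsum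
  have hh0 : h ≠ 0 := fun e => hf0 (by
    rw [e, zero_pow hn0, mul_zero] at hf
    exact FaithfulSMul.algebraMap_injective A B (hf.trans (map_zero _).symm))
  have h1 : (1 : B) = ∑ j, cj j * z j := mul_left_cancel₀ hh0 (by
    rw [mul_one, Finset.mul_sum]
    conv_lhs => rw [hsum]
    simp only [mul_assoc])
  obtain ⟨j, hj⟩ : ∃ j, IsUnit (cj j) := by
    by_contra hcon
    push Not at hcon
    refine (IsLocalRing.maximalIdeal.isMaximal B).ne_top ((Ideal.eq_top_iff_one _).mpr ?_)
    rw [h1]
    exact sum_mem fun j _ => Ideal.mul_mem_right _ _ ((IsLocalRing.mem_maximalIdeal _).mpr (hcon j))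
  have e0 := hrel j
  rw [Fin.sum_univ_two] at e0
  simp only [Matrix.cons_val_zero, Matrix.cons_val_one] at e0
  obtain ⟨a, ha⟩ := hA (av 0 j) ⟨av 1 j, by linear_combination e0⟩
  have hau : IsUnit (algebraMap A B a) := by
    have e2 := congrArg (algebraMap A B) ha
    rw [map_pow, map_mul, hcj, hf] at e2
    have e3 : cj j ^ n = (w : B) * algebraMap A B a := mul_left_cancel₀ (pow_ne_zero n hh0) (by linear_combination e2)
    exact (IsUnit.mul_iff.mp (e3 ▸ hj.pow n)).2
  obtain ⟨ua, rfl⟩ := isUnit_of_map_unit (algebraMap A B) a hau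
  exact ⟨av 0 j, ua⁻¹, by rw [ha, ← mul_assoc, mul_comm _ f, mul_assoc, Units.inv_mul, mul_one]⟩

end Groth.Agent.S7125
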