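import Groth.Statements.S7128
import Groth.Agent.Lib.WeaklyEt.OverField

set_option autoImplicit false
universe u
open EtAlg

open scoped TensorProduct

namespace Groth.Agent.S7128

/-- Reducedness descends from a ring over which weakly etale algebras are reduced. -/
lemma isReduced_aux (A B P : Type u) [CommRing A] [CommRing B] [CommRing P] [Algebra A B]
    [Algebra A P] [Algebra.WeaklyEtale A B]
    (hPP : Groth.Agent.Lib.WeaklyEt.Olivier.BezoutPP P)
    (hι : Function.Injective (Algebra.linearMap A P)) (b : B) (hb : b ^ 2 = 0) : b = 0 := by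
  let inr : B →ₐ[A] P ⊗[A] B := Algebra.TensorProduct.includeRight
  have hinr : Function.Injective inr := by
    have h2 : Function.Injective ((Algebra.linearMap A P).rTensor B) :=
      Module.Flat.rTensor_preserves_injective_linearMap _ hι
    intro x y hxy
    refine (TensorProduct.lid A B).symm.injective (h2 ?_)
    have e : ∀ z : B, (Algebra.linearMap A P).rTensor B ((1 : A) ⊗ₜ[A] z) = inr z := fun z => by
      rw [LinearMap.rTensor_tmul, Algebra.linearMap_apply, map_one]
      rfl
    rw [TensorProduct.lid_symm_apply, TensorProduct.lid_symm_apply, e, e, hxy]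
  obtain ⟨d, hd1, hd2⟩ := Groth.Agent.Lib.WeaklyEt.Olivier.exists_split (P := P) hPP
    (w := inr b) (z := inr b) (by rw [← map_mul, ← pow_two, hb, map_zero])
  refine hinr ?_
  rw [map_zero]
  linear_combination hd1 + hd2

/-- A weakly étale algebra over a reduced ring is itself reduced. -/
theorem result (A B : Type u) [CommRing A] [CommRing B] [Algebra A B] [IsReduced A]
    [Algebra.WeaklyEtale A B] : IsReduced B := by
  let P := ∀ p : PrimeSpectrum A, p.asIdeal.ResidueField
  let ι : A →+* P := Pi.ringHom fun p => algebraMap A p.asIdeal.ResidueField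
  letI : Algebra A P := ι.toAlgebra
  have hι : Function.Injective (Algebra.linearMap A P) := by
    intro a b h
    rw [← sub_eq_zero]
    refine IsNilpotent.eq_zero (mem_nilradical.mp ?_)
    rw [nilradical_eq_sInf, Ideal.mem_sInf]
    intro p hp
    haveI : p.IsPrime := hp
    refine (Ideal.algebraMap_residueField_eq_zero (I := p)).mp ?_
    rw [map_sub, sub_eq_zero]
    exact congrFun h (⟨p, hp⟩ : PrimeSpectrum A)
  have hPP := Groth.Agent.Lib.WeaklyEt.Olivier.bezoutPP_pi
    (fun p : PrimeSpectrum A => p.asIdeal.ResidueField)
  rw [isReduced_iff_pow_one_lt 2 (by norm_num)]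
  intro b hb
  exact isReduced_aux A B P hPP hι b hb

end Groth.Agent.S7128
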