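import Groth.Statements.S7130
import Groth.Agent.H56.AbsFlat
import Mathlib.RingTheory.Flat.Localization
import Mathlib.RingTheory.Ideal.Pure
import Mathlib.RingTheory.Localization.AtPrime.Basic

set_option autoImplicit false
universe u
open EtAlg

namespace Groth.Agent.S7130

/-- (2) ⇔ (3) ⇔ (4): for a ring A the following are equivalent: every A-module is flat; A is reduced of
Krull dimension zero, in the sense that every prime ideal of A is maximal; the local ring A_p is a
field for every prime p. (The further equivalent condition 'A has weak dimension at most zero'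
coincides with the first condition by definition and is not listed separately.) -/
theorem result (A : Type u) [CommRing A] :
    List.TFAE [∀ (M : Type u) [AddCommGroup M] [Module A M], Module.Flat A M,
      IsReduced A ∧ ∀ p : Ideal A, p.IsPrime → p.IsMaximal,
      ∀ (p : Ideal A) [p.IsPrime], IsField (Localization.AtPrime p)] := by
  classical
  tfae_have 1 → 2 := by
    intro h
    have hreg : ∀ a : A, ∃ x, a = a * x * a := by
      intro a
      have : (Ideal.span {a}).Pure := h _
      obtain ⟨y, hy, hay⟩ := Ideal.exists_eq_mul_of_pure (Ideal.mem_span_singleton_self a)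
      obtain ⟨c, rfl⟩ := Ideal.mem_span_singleton.1 hy
      exact ⟨c, by nth_rewrite 1 [hay]; ring⟩
    refine ⟨(isReduced_iff_pow_one_lt 2 one_lt_two).2 fun a ha => ?_, fun p hp => ?_⟩
    · obtain ⟨x, hx⟩ := hreg a
      rw [hx, mul_assoc, mul_comm x, ← mul_assoc, ← sq, ha, zero_mul]
    · refine Ideal.isMaximal_iff.2 ⟨fun h1 => hp.ne_top ((Ideal.eq_top_iff_one _).2 h1),
        fun J a hpJ hap haJ => ?_⟩
      obtain ⟨x, hx⟩ := hreg a
      have h0 : a * (a * x - 1) ∈ p := by
        rw [show a * (a * x - 1) = a * x * a - a by ring, ← hx, sub_self]
        exact p.zero_mem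
      have h1 := hpJ ((hp.mem_or_mem h0).resolve_left hap)
      have := J.sub_mem (J.mul_mem_right x haJ) h1
      simpa using this
  tfae_have 2 → 3 := by
    rintro ⟨hred, hmax⟩ p hp
    refine IsLocalRing.isField_iff_maximalIdeal_eq.2 (eq_bot_iff.2 fun x hx => ?_)
    have hnil : x ∈ nilradical (Localization.AtPrime p) := by
      rw [nilradical_eq_sInf]
      refine Submodule.mem_sInf.2 fun (q : Ideal (Localization.AtPrime p)) (hq : q.IsPrime) => ?_
      have hq' : (q.comap (algebraMap A (Localization.AtPrime p))).IsMaximal :=
        hmax _ (Ideal.IsPrime.comap _)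
      have hle : q ≤ IsLocalRing.maximalIdeal (Localization.AtPrime p) :=
        IsLocalRing.le_maximalIdeal hq.ne_top
      have h1 := hq'.eq_of_le (Ideal.IsPrime.comap _).ne_top (Ideal.comap_mono
        (f := algebraMap A (Localization.AtPrime p)) hle)
      have h2 : q = IsLocalRing.maximalIdeal (Localization.AtPrime p) := by
        exact (IsLocalization.map_comap p.primeCompl (Localization.AtPrime p) q).symm.trans
          ((congrArg (Ideal.map (algebraMap A (Localization.AtPrime p))) h1).trans
            (IsLocalization.map_comap p.primeCompl (Localization.AtPrime p) _))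
      rw [h2]; exact hx
    have : IsReduced (Localization.AtPrime p) := inferInstance
    simpa using hnil
  tfae_have 3 → 1 := by
    intro h M _ _
    apply Module.flat_of_localized_maximal
    intro P hP
    let := (h P).toField
    rw [← Module.flat_iff_of_isLocalization (Localization.AtPrime P) P.primeCompl]
    infer_instance
  tfae_finish

end Groth.Agent.S7130
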