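import Groth.Statements.S7132
import Groth.Agent.H48.DVRExt
import Mathlib.LinearAlgebra.Dimension.Localization
import Mathlib.RingTheory.Localization.Module
import Mathlib.LinearAlgebra.FiniteDimensional.Basic

set_option autoImplicit false
universe u
open EtAlg

namespace Groth.Agent.S7132

/-- For an injective local homomorphism A → B of discrete valuation rings whose fraction fields K ⊆ L
form a finite extension, the residue field of B is finite over that of A, and the ramification index
e times the residue degree f is at most [L : K]. -/
theorem result (A B K L : Type u) [CommRing A] [IsDomain A]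
    [IsDiscreteValuationRing A] [CommRing B] [IsDomain B] [IsDiscreteValuationRing B] [Algebra A B]
    (hinj : Function.Injective (algebraMap A B)) [IsLocalHom (algebraMap A B)]
    [Field K] [Field L] [Algebra A K] [IsFractionRing A K] [Algebra B L] [IsFractionRing B L]
    [Algebra K L] [Algebra A L] [IsScalarTower A K L] [IsScalarTower A B L] [FiniteDimensional K L] :
    Module.Finite (IsLocalRing.ResidueField A) (IsLocalRing.ResidueField B) ∧
      Ideal.ramificationIdx' (IsLocalRing.maximalIdeal A) (IsLocalRing.maximalIdeal B) *
          Module.finrank (IsLocalRing.ResidueField A) (IsLocalRing.ResidueField B) ≤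
        Module.finrank K L := by
  classical
  obtain ⟨a, ha⟩ := IsDiscreteValuationRing.exists_irreducible A
  obtain ⟨b, hb⟩ := IsDiscreteValuationRing.exists_irreducible B
  obtain ⟨he0, u, hu⟩ := Groth.Agent.H48.DVRExt.exists_unit_mul_pow hinj ha hb
  generalize Ideal.ramificationIdx' (IsLocalRing.maximalIdeal A) (IsLocalRing.maximalIdeal B) = e at he0 hu ⊢
  have main : ∀ {ι : Type u} [Fintype ι] (z : ι → IsLocalRing.ResidueField B),
      LinearIndependent (IsLocalRing.ResidueField A) z → e * Fintype.card ι ≤ Module.finrank K L := by
    intro ι _ z hz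
    choose ω hω using fun j => IsLocalRing.residue_surjective (z j)
    have step : ∀ c : Fin e × ι → A, ∑ p, algebraMap A B (c p) * (b ^ (p.1 : ℕ) * ω p.2) = 0 →
        ∀ p, a ∣ c p := by
      intro c hc
      suffices ∀ i : ℕ, ∀ p : Fin e × ι, (p.1 : ℕ) = i → a ∣ c p from fun p => this _ p rfl
      intro i₀
      induction i₀ using Nat.strong_induction_on with
      | _ i₀ ih =>
        intro p₀ hp₀
        rw [Fintype.sum_prod_type,
          ← Finset.add_sum_erase _ _ (Finset.mem_univ p₀.1)] at hc
        have hrest : b ^ (i₀ + 1) ∣ ∑ i ∈ Finset.univ.erase p₀.1,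
            ∑ j, algebraMap A B (c (i, j)) * (b ^ (i : ℕ) * ω j) := by
          refine Finset.dvd_sum fun i hi => Finset.dvd_sum fun j _ => ?_
          have hne : (i : ℕ) ≠ i₀ := fun h => Finset.ne_of_mem_erase hi (Fin.ext (h.trans hp₀.symm))
          rcases lt_or_gt_of_ne hne with hlt | hgt
          · obtain ⟨d, hd⟩ := ih _ hlt (i, j) rfl
            refine Dvd.dvd.mul_right ?_ _
            rw [hd, map_mul, hu]
            have := p₀.1.isLt
            exact ((pow_dvd_pow b (by omega : i₀ + 1 ≤ e)).mul_left _).mul_right _
          · exact ((pow_dvd_pow b (by omega : i₀ + 1 ≤ (i : ℕ))).mul_right _).mul_left _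
        have h1 : b ^ (i₀ + 1) ∣ b ^ i₀ * ∑ j, algebraMap A B (c (p₀.1, j)) * ω j := by
          have := (dvd_add_left hrest).1 (hc ▸ dvd_zero _)
          rw [Finset.mul_sum]
          convert this using 2 with j
          rw [hp₀]; ring
        rw [pow_succ, mul_dvd_mul_iff_left (pow_ne_zero _ hb.ne_zero)] at h1
        have h2 : ∑ j, IsLocalRing.residue A (c (p₀.1, j)) • z j = 0 := by
          rw [← (IsLocalRing.residue_eq_zero_iff _).2
            (hb.maximalIdeal_eq ▸ Ideal.mem_span_singleton.2 h1), map_sum]
          refine Finset.sum_congr rfl fun j _ => ?_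
          rw [map_mul, Algebra.smul_def, ← hω j]
          rfl
        have h3 := Fintype.linearIndependent_iff.1 hz _ h2 p₀.2
        rwa [IsLocalRing.residue_eq_zero_iff, ha.maximalIdeal_eq, Ideal.mem_span_singleton] at h3
    have hpow : ∀ (n : ℕ) (c : Fin e × ι → A),
        ∑ p, algebraMap A B (c p) * (b ^ (p.1 : ℕ) * ω p.2) = 0 → ∀ p, a ^ n ∣ c p := by
      intro n
      induction n with
      | zero => intro c _ p; simp
      | succ n ih =>
        intro c hc p
        choose d hd using step c hc
        have hd0 : ∑ p, algebraMap A B (d p) * (b ^ (p.1 : ℕ) * ω p.2) = 0 := by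
          refine (mul_eq_zero.1 ?_).resolve_left ((map_ne_zero_iff _ hinj).2 ha.ne_zero)
          rw [Finset.mul_sum, ← hc]
          refine Finset.sum_congr rfl fun q _ => ?_
          rw [hd q, map_mul]; ring
        rw [hd p, pow_succ']
        exact mul_dvd_mul_left a (ih d hd0 p)
    have hli : LinearIndependent K (fun p : Fin e × ι => algebraMap B L (b ^ (p.1 : ℕ) * ω p.2)) := by
      rw [← LinearIndependent.iff_fractionRing A K, Fintype.linearIndependent_iff]
      intro c hc p
      have hcB : ∑ p, algebraMap A B (c p) * (b ^ (p.1 : ℕ) * ω p.2) = 0 := by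
        apply IsFractionRing.injective B L
        rw [map_sum, map_zero]
        rw [← hc]
        refine Finset.sum_congr rfl fun q _ => ?_
        rw [Algebra.smul_def, IsScalarTower.algebraMap_apply A B L, map_mul]
      by_contra hp
      obtain ⟨m, v, hv⟩ := IsDiscreteValuationRing.eq_unit_mul_pow_irreducible hp ha
      have h := hpow (m + 1) c hcB p
      rw [hv, Units.dvd_mul_left, pow_dvd_pow_iff ha.ne_zero ha.not_isUnit] at h
      omega
    simpa [Fintype.card_prod] using hli.fintype_card_le_finrank
  have hfin : Module.Finite (IsLocalRing.ResidueField A) (IsLocalRing.ResidueField B) := by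
    have hr : Module.rank (IsLocalRing.ResidueField A) (IsLocalRing.ResidueField B) ≤
        Module.finrank K L :=
      rank_le fun s hs => by
        have := main (fun i : ↥s => (i : IsLocalRing.ResidueField B)) hs
        simp only [Fintype.card_coe] at this
        exact le_trans (Nat.le_mul_of_pos_left _ (Nat.pos_of_ne_zero he0)) this
    exact Module.rank_lt_aleph0_iff.1 (hr.trans_lt (Cardinal.natCast_lt_aleph0))
  refine ⟨hfin, ?_⟩
  have := main _ (Module.Free.chooseBasis (IsLocalRing.ResidueField A) (IsLocalRing.ResidueField B)).linearIndependent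
  rwa [← Module.finrank_eq_card_chooseBasisIndex] at this

end Groth.Agent.S7132
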