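import Groth.Statements.S7133
import Groth.Agent.H48.DVRExt
import Mathlib.FieldTheory.PurelyInseparable.Basic

set_option autoImplicit false
universe u
open EtAlg

namespace Groth.Agent.S7133

/-- For an injective local homomorphism A → B of discrete valuation rings whose fields of fractions are
K ⊆ L: if K has characteristic p > 0 and L/K is purely inseparable, then the ramification index of B
over A is a power of p. -/
theorem result (A B K L : Type u) [CommRing A] [IsDomain A]
    [IsDiscreteValuationRing A] [CommRing B] [IsDomain B] [IsDiscreteValuationRing B] [Algebra A B]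
    (hinj : Function.Injective (algebraMap A B)) [IsLocalHom (algebraMap A B)]
    [Field K] [Field L] [Algebra A K] [IsFractionRing A K] [Algebra B L] [IsFractionRing B L]
    [Algebra K L] [Algebra A L] [IsScalarTower A K L] [IsScalarTower A B L]
    (p : ℕ) (hp : p.Prime) [CharP K p] [IsPurelyInseparable K L] :
    ∃ k : ℕ, Ideal.ramificationIdx' (IsLocalRing.maximalIdeal A) (IsLocalRing.maximalIdeal B) =
      p ^ k := by
  obtain ⟨a, ha⟩ := IsDiscreteValuationRing.exists_irreducible A
  obtain ⟨b, hb⟩ := IsDiscreteValuationRing.exists_irreducible B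
  obtain ⟨_, u, hu⟩ := Groth.Agent.H48.DVRExt.exists_unit_mul_pow hinj ha hb
  generalize Ideal.ramificationIdx' (IsLocalRing.maximalIdeal A) (IsLocalRing.maximalIdeal B) = e at hu
  have : ExpChar K p := ExpChar.prime hp
  obtain ⟨k, c, hc⟩ := IsPurelyInseparable.pow_mem K p (algebraMap B L b)
  obtain ⟨x, s, hs, rfl⟩ := IsFractionRing.div_surjective (A := A) c
  have hs0 : s ≠ 0 := nonZeroDivisors.ne_zero hs
  have hsL : algebraMap A L s ≠ 0 := by
    rw [IsScalarTower.algebraMap_apply A K L]
    simpa using hs0
  have heq : b ^ p ^ k * algebraMap A B s = algebraMap A B x := by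
    apply IsFractionRing.injective B L
    rw [map_mul, map_pow, ← hc, map_div₀, ← IsScalarTower.algebraMap_apply A K L,
      ← IsScalarTower.algebraMap_apply A K L, ← IsScalarTower.algebraMap_apply A B L,
      ← IsScalarTower.algebraMap_apply A B L, div_mul_cancel₀ _ hsL]
  have hx0 : x ≠ 0 := by
    rintro rfl
    rw [map_zero, mul_eq_zero] at heq
    rcases heq with h | h
    · exact pow_ne_zero _ hb.ne_zero h
    · exact hs0 ((map_eq_zero_iff _ hinj).1 h)
  obtain ⟨i, u₁, rfl⟩ := IsDiscreteValuationRing.eq_unit_mul_pow_irreducible hx0 ha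
  obtain ⟨j, u₂, rfl⟩ := IsDiscreteValuationRing.eq_unit_mul_pow_irreducible hs0 ha
  rw [map_mul, map_mul, map_pow, map_pow, hu] at heq
  have key : p ^ k + e * j = e * i := by
    refine IsDiscreteValuationRing.unit_mul_pow_congr_pow hb hb
      (Units.map (algebraMap A B : A →* B) u₂ * u ^ j) (Units.map (algebraMap A B : A →* B) u₁ * u ^ i) _ _ ?_
    simp only [Units.val_mul, Units.coe_map, Units.val_pow_eq_pow_val, MonoidHom.coe_coe]
    linear_combination heq
  have hd : e ∣ p ^ k := (Nat.dvd_add_left (dvd_mul_right e j)).1 (key ▸ dvd_mul_right e i)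
  obtain ⟨k', _, h⟩ := (Nat.dvd_prime_pow hp).1 hd
  exact ⟨k', h⟩

end Groth.Agent.S7133
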