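import Groth.Statements.S7134
import Groth.Agent.H68.FlatFibre
import Groth.Agent.S2451
import Mathlib.RingTheory.RegularLocalRing.Defs
import Mathlib.RingTheory.DedekindDomain.Basic
import Mathlib.RingTheory.Flat.TorsionFree

set_option autoImplicit false
universe u
open EtAlg
open IsLocalRing

namespace Groth.Agent.S7134

/-- For an injective local homomorphism A → B of discrete valuation rings, A → B is formally smooth for
the adic topology of the maximal ideal of B if and only if A → B is weakly unramified and the
residue field of B is a separable (possibly transcendental, i.e. geometrically reduced) extension of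
the residue field of A. -/
theorem result (A B : Type u) [CommRing A]
    [IsDomain A] [IsDiscreteValuationRing A] [CommRing B] [IsDomain B] [IsDiscreteValuationRing B] [Algebra A B]
    (hinj : Function.Injective (algebraMap A B)) [IsLocalHom (algebraMap A B)] :
    CAlgX.IsAdicFormallySmooth A B (IsLocalRing.maximalIdeal B) ↔
      EtRam.IsWeaklyUnramified A B ∧
        Algebra.IsGeometricallyReduced (IsLocalRing.ResidueField A) (IsLocalRing.ResidueField B) := by
  let k := ResidueField A
  let l := ResidueField B
  haveI : Module.Flat A B := by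
    rw [IsDedekindDomain.flat_iff_torsion_eq_bot, Submodule.eq_bot_iff]
    rintro x ⟨⟨a, ha⟩, hax⟩
    rw [Submonoid.smul_def, Algebra.smul_def, mul_eq_zero] at hax
    exact hax.resolve_left fun h0 => nonZeroDivisors.ne_zero ha (hinj (by rw [h0, map_zero]))
  constructor
  · intro h
    haveI := H68.FlatFibre.isLocalRing_fiber (A := A) (B := B)
    haveI := H68.FlatFibre.isNoetherianRing_fiber (A := A) (B := B)
    let F := (maximalIdeal A).Fiber B
    let inc : B →ₐ[A] F := Algebra.TensorProduct.includeRight
    have hsurj : Function.Surjective inc := H68.FlatFibre.includeRight_surjective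
    obtain ⟨g, hg⟩ := H68.FlatFibre.exists_residueField_lift (A := A)
      ((Ideal.Quotient.mk ((maximalIdeal A).map (algebraMap A B))).comp (algebraMap A B))
      (by rw [← Ideal.map_map, Ideal.map_quotient_self])
    letI : Algebra (maximalIdeal A).ResidueField (B ⧸ (maximalIdeal A).map (algebraMap A B)) := g.toAlgebra
    haveI : IsScalarTower A (maximalIdeal A).ResidueField (B ⧸ (maximalIdeal A).map (algebraMap A B)) :=
      IsScalarTower.of_algebraMap_eq fun a => (hg a).symm
    have hker : ∀ b, inc b = 0 → b ∈ (maximalIdeal A).map (algebraMap A B) := fun b hb => by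
      have h0 := congrArg (Algebra.TensorProduct.lift (Algebra.ofId (maximalIdeal A).ResidueField _)
        (Ideal.Quotient.mkₐ A ((maximalIdeal A).map (algebraMap A B))) fun _ _ => Commute.all _ _) hb
      rw [Algebra.TensorProduct.includeRight_apply, Algebra.TensorProduct.lift_tmul, map_one, one_mul,
        map_zero] at h0
      exact Ideal.Quotient.eq_zero_iff_mem.mp h0
    have hreg : IsRegularLocalRing F := by
      let T := TensorProduct (maximalIdeal A).ResidueField (maximalIdeal A).ResidueField F
      haveI : IsRegularRing T :=
        H68.FlatFibre.isGeometricallyRegular_fiber h (maximalIdeal A).ResidueField inferInstance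
      haveI : IsRegularRing F := IsRegularRing.of_ringEquiv (R := T)
        (Algebra.TensorProduct.lid (maximalIdeal A).ResidueField F).toRingEquiv
      exact IsRegularLocalRing.of_isRegularRing_of_isLocalRing F
    obtain ⟨ϖ, hϖ⟩ := IsDiscreteValuationRing.exists_irreducible A
    have hdim : ringKrullDim F = 0 := by
      have : Ring.KrullDimLE 0 F := Ring.KrullDimLE.mk₀ fun P hP => by
        haveI := hP
        haveI : (P.comap inc.toRingHom).IsMaximal :=
          (Ideal.IsPrime.isMaximal inferInstance fun h0 => hϖ.ne_zero (hinj (by
            have : inc (algebraMap A B ϖ) ∈ P := by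
              rw [AlgHom.commutes, Algebra.TensorProduct.algebraMap_apply,
                show algebraMap A (maximalIdeal A).ResidueField ϖ = 0 from
                  Ideal.algebraMap_residueField_eq_zero.mpr hϖ.not_isUnit, TensorProduct.zero_tmul]
              exact zero_mem P
            rw [map_zero, ← Ideal.mem_bot (R := B), ← h0]
            exact this)))
        rw [← Ideal.map_comap_of_surjective inc.toRingHom hsurj P]
        exact Ideal.IsMaximal.map_of_surjective_of_ker_le hsurj (Ideal.comap_mono bot_le)
      exact le_antisymm (Ring.krullDimLE_iff.mp this) ringKrullDim_nonneg_of_nontrivial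
    have hm0 : maximalIdeal F = ⊥ := by
      have h1 := (isRegularLocalRing_iff F).mp hreg
      rw [hdim] at h1
      exact (Submodule.spanFinrank_eq_zero_iff_eq_bot (IsNoetherian.noetherian _)).mp (by exact_mod_cast h1)
    have hwu : EtRam.IsWeaklyUnramified A B := by
      refine le_antisymm (IsLocalRing.map_maximalIdeal_le _) fun b hb => hker b ?_
      haveI : IsLocalHom inc.toRingHom := IsLocalHom.of_surjective _ hsurj
      rw [← Ideal.mem_bot (R := F), ← hm0]
      exact map_nonunit inc.toRingHom b hb
    refine ⟨hwu, (S2451.result (k := k) (K := l)).mp ?_⟩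
    refine Algebra.FormallySmooth.iff_comp_surjective.mpr fun C _ _ J hJ ψ => ?_
    letI : Algebra A C := ((algebraMap k C).comp (residue A)).toAlgebra
    let ψ₀ : B →ₐ[A] C ⧸ J :=
      { ψ.toRingHom.comp (residue B) with commutes' := fun a => ψ.commutes (residue A a) }
    obtain ⟨χ, hχ⟩ := h C J hJ ψ₀ ⟨1, fun x hx => by
      rw [pow_one] at hx
      show ψ (residue B x) = 0
      rw [(residue_eq_zero_iff x).mpr hx, map_zero]⟩
    have h0 : ∀ x ∈ maximalIdeal B, χ x = 0 := by
      rw [← hwu]
      intro x hx
      have hx' := Ideal.mem_map_of_mem χ.toRingHom hx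
      rw [Ideal.map_map, show χ.toRingHom.comp (algebraMap A B) = (algebraMap k C).comp (residue A)
        from RingHom.ext χ.commutes, ← Ideal.map_map,
        show (maximalIdeal A).map (residue A) = ⊥ from Ideal.map_quotient_self _, Ideal.map_bot,
        Ideal.mem_bot] at hx'
      exact hx'
    refine ⟨{ Ideal.Quotient.lift (maximalIdeal B) χ.toRingHom h0 with commutes' := fun a => ?_ },
      AlgHom.ext fun y => ?_⟩
    · obtain ⟨a, rfl⟩ := residue_surjective a
      exact χ.commutes a
    · obtain ⟨y, rfl⟩ := residue_surjective y
      exact AlgHom.congr_fun hχ y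
  · rintro ⟨hwu, hgr⟩
    haveI : Algebra.FormallySmooth k l := (S2451.result (k := k) (K := l)).mpr hgr
    refine H68.SmallExt.isAdicFormallySmooth_of_flat (𝔞 := maximalIdeal A) ?_
      (IsLocalRing.map_maximalIdeal_le _)
    intro C _ _ _ _ J hC hJ _ _ ψ hψ
    have h0 : ∀ a ∈ maximalIdeal A, algebraMap A C a = 0 := fun a ha =>
      Ideal.mem_bot.mp (hC ▸ Ideal.mem_map_of_mem _ ha)
    letI : Algebra k C := (Ideal.Quotient.lift (maximalIdeal A) (algebraMap A C) h0).toAlgebra
    have hψ0 : ∀ x ∈ maximalIdeal B, ψ x = 0 := by
      rw [← hwu]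
      intro x hx
      have hx' := Ideal.mem_map_of_mem ψ.toRingHom hx
      rw [Ideal.map_map, show ψ.toRingHom.comp (algebraMap A B) = (Ideal.Quotient.mk J).comp (algebraMap A C)
        from RingHom.ext ψ.commutes, ← Ideal.map_map, hC, Ideal.map_bot, Ideal.mem_bot] at hx'
      exact hx'
    let ψ' : l →ₐ[k] C ⧸ J :=
      { Ideal.Quotient.lift (maximalIdeal B) ψ.toRingHom hψ0 with
        commutes' := fun a => by
          obtain ⟨a, rfl⟩ := residue_surjective a
          exact ψ.commutes a }
    obtain ⟨χ, hχ⟩ := Algebra.FormallySmooth.exists_lift J ⟨2, hJ⟩ ψ'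
    refine ⟨{ χ.toRingHom.comp (residue B) with commutes' := fun a => ?_ }, AlgHom.ext fun b => ?_⟩
    · exact χ.commutes (residue A a)
    · exact AlgHom.congr_fun hχ (residue B b)

end Groth.Agent.S7134
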