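import Groth.Statements.S7135
import Groth.Agent.H22.AdicIso

set_option autoImplicit false
universe u
open CAlg

namespace Groth.Agent.S7135

/-- Let A be a Noetherian ring, I an ideal and M, N finite A-modules. If M/IⁿM and N/IⁿN are isomorphic
for every n, then the I-adic completions of M and N are isomorphic as modules over the I-adic
completion of A. -/
theorem result (A : Type u) [CommRing A] [IsNoetherianRing A] (I : Ideal A)
    (M N : Type u) [AddCommGroup M] [Module A M] [Module.Finite A M] [AddCommGroup N] [Module A N]
    [Module.Finite A N]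
    (h : ∀ n : ℕ, Nonempty ((M ⧸ (I ^ n • ⊤ : Submodule A M)) ≃ₗ[A] (N ⧸ (I ^ n • ⊤ : Submodule A N)))) :
    Nonempty (AdicCompletion I M ≃ₗ[AdicCompletion I A] AdicCompletion I N) := by
  exact H22.AdicIso.nonempty_completion_equiv I h

end Groth.Agent.S7135
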