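import Groth.Statements.S7136
import Mathlib.RingTheory.Filtration
import Mathlib.Algebra.BigOperators.Pi
import Mathlib.LinearAlgebra.Pi
import Mathlib.RingTheory.Noetherian.Basic
-- import your own Groth.Agent.* helpers here

set_option autoImplicit false
universe u
open CAlg

namespace Groth.Agent.S7136

variable {A : Type u} [CommRing A]

lemma ar [IsNoetherianRing A] (I : Ideal A) {M : Type u} [AddCommGroup M] [Module A M] [Module.Finite A M]
    (N : Submodule A M) : ∃ c : ℕ, ∀ n, ∀ x ∈ N, x ∈ I ^ n • (⊤ : Submodule A M) → x ∈ I ^ (n - c) • N := by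
  obtain ⟨c, hc⟩ := I.exists_pow_inf_eq_pow_smul N
  refine ⟨c, fun n x hxN hxI => ?_⟩
  rcases lt_or_ge n c with h | h
  · rw [Nat.sub_eq_zero_of_le h.le, pow_zero, Ideal.one_eq_top, Submodule.top_smul]; exact hxN
  · exact Submodule.smul_mono le_rfl inf_le_right ((hc n h).le ⟨hxI, hxN⟩)

lemma mem_pi_smul {ι : Type} [Fintype ι] (J : Ideal A) {N : Type u} [AddCommGroup N] [Module A N]
    (v : ι → N) : v ∈ J • (⊤ : Submodule A (ι → N)) ↔ ∀ i, v i ∈ J • (⊤ : Submodule A N) := by
  classical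
  refine ⟨fun h i => ?_, fun h => ?_⟩
  · have := Submodule.mem_map_of_mem (f := (LinearMap.proj i : (ι → N) →ₗ[A] N)) h
    rw [Submodule.map_smul''] at this
    exact Submodule.smul_mono le_rfl le_top this
  · rw [← Finset.univ_sum_single v]
    refine sum_mem fun i _ => ?_
    have := Submodule.mem_map_of_mem (f := LinearMap.single A (fun _ : ι => N) i) (h i)
    rw [Submodule.map_smul''] at this
    exact Submodule.smul_mono le_rfl le_top this

/-- The two approximation properties of `Hom` modulo powers of `I`. -/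
lemma approx [IsNoetherianRing A] (I : Ideal A) (M N : Type u) [AddCommGroup M] [Module A M] [Module.Finite A M]
    [AddCommGroup N] [Module A N] [Module.Finite A N] :
    ∃ c : ℕ, (∀ (n : ℕ) (ψ : M →ₗ[A] N ⧸ (I ^ n • ⊤ : Submodule A N)), ∃ φ : M →ₗ[A] N, ∀ x : M, ∀ y : N,
        Submodule.Quotient.mk y = ψ x → y - φ x ∈ I ^ (n - c) • (⊤ : Submodule A N)) ∧
      ∀ (n : ℕ) (φ : M →ₗ[A] N), (∀ x, φ x ∈ I ^ n • (⊤ : Submodule A N)) →
        φ ∈ I ^ (n - c) • (⊤ : Submodule A (M →ₗ[A] N)) := by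
  classical
  obtain ⟨a, π, hπ⟩ := Module.Finite.exists_fin' A M
  obtain ⟨b, r, hr⟩ := Submodule.fg_iff_exists_fin_generating_family.mp (IsNoetherian.noetherian (LinearMap.ker π))
  let d : (Fin a → N) →ₗ[A] (Fin b → N) :=
    LinearMap.pi fun j => ∑ i, r j i • (LinearMap.proj i : (Fin a → N) →ₗ[A] N)
  have hd : ∀ v j, d v j = Fintype.linearCombination A v (r j) := fun v j => by
    simp [d, Fintype.linearCombination_apply, LinearMap.sum_apply]
  let Θ : (M →ₗ[A] N) →ₗ[A] (Fin a → N) := LinearMap.pi fun i => LinearMap.applyₗ (π (Pi.single i 1))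
  have hΘ : ∀ (φ : M →ₗ[A] N), Fintype.linearCombination A (Θ φ) = φ ∘ₗ π := fun φ => LinearMap.ext fun w => by
    conv_rhs => rw [pi_eq_sum_univ' w]
    simp [Fintype.linearCombination_apply, Θ]
  have hΘinj : Function.Injective Θ := fun φ φ' h => LinearMap.ext fun x => by
    obtain ⟨w, rfl⟩ := hπ x
    have h1 := hΘ φ
    rw [h, hΘ φ'] at h1
    exact (LinearMap.congr_fun h1 w).symm
  have hrange : LinearMap.range Θ = LinearMap.ker d := by
    refine le_antisymm ?_ fun v hv => ?_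
    · rintro _ ⟨φ, rfl⟩
      rw [LinearMap.mem_ker]
      funext j
      rw [hd, hΘ, LinearMap.comp_apply, show π (r j) = 0 from hr.le (Submodule.subset_span ⟨j, rfl⟩), map_zero]
      rfl
    · have hker : LinearMap.ker π ≤ LinearMap.ker (Fintype.linearCombination A v) := by
        rw [← hr, Submodule.span_le]
        rintro _ ⟨j, rfl⟩
        exact (hd v j).symm.trans (congrFun (LinearMap.mem_ker.mp hv) j)
      refine ⟨(LinearMap.ker π).liftQ _ hker ∘ₗ (π.quotKerEquivOfSurjective hπ).symm.toLinearMap, funext fun i => ?_⟩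
      change ((LinearMap.ker π).liftQ _ hker) ((π.quotKerEquivOfSurjective hπ).symm (π (Pi.single i 1))) = v i
      rw [show (π.quotKerEquivOfSurjective hπ).symm (π (Pi.single i 1)) = Submodule.Quotient.mk (Pi.single i 1)
        from (LinearEquiv.symm_apply_eq _).mpr rfl, Submodule.liftQ_apply]
      simp [Fintype.linearCombination_apply, Pi.single_apply]
  obtain ⟨c₁, hc₁⟩ := ar I (LinearMap.range d)
  obtain ⟨c₂, hc₂⟩ := ar I (LinearMap.ker d)
  refine ⟨c₁ + c₂, fun n ψ => ?_, fun n φ hφ => ?_⟩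
  · choose v hv using fun i => Submodule.Quotient.mk_surjective (I ^ n • ⊤ : Submodule A N) (ψ (π (Pi.single i 1)))
    have hvw : ∀ w, Submodule.Quotient.mk (Fintype.linearCombination A v w) = ψ (π w) := fun w => by
      conv_rhs => rw [pi_eq_sum_univ' w, map_sum, map_sum]
      rw [Fintype.linearCombination_apply, ← Submodule.mkQ_apply, map_sum]
      exact Finset.sum_congr rfl fun i _ => by rw [map_smul, map_smul, map_smul, Submodule.mkQ_apply, hv]
    have hdv : d v ∈ I ^ n • (⊤ : Submodule A (Fin b → N)) := (mem_pi_smul _ _).mpr fun j => by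
      rw [hd, ← Submodule.Quotient.mk_eq_zero, hvw,
        show π (r j) = 0 from hr.le (Submodule.subset_span ⟨j, rfl⟩), map_zero]
    have h1 := hc₁ n _ (LinearMap.mem_range_self d v) hdv
    rw [LinearMap.range_eq_map, ← Submodule.map_smul'', Submodule.mem_map] at h1
    obtain ⟨w, hw, hdw⟩ := h1
    obtain ⟨φ, hφ⟩ : ∃ φ, Θ φ = v - w := by
      rw [← LinearMap.mem_range, hrange, LinearMap.mem_ker, map_sub, hdw, sub_self]
    refine ⟨φ, fun x y hy => ?_⟩
    obtain ⟨z, rfl⟩ := hπ x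
    have e1 : φ (π z) = Fintype.linearCombination A (v - w) z := by rw [← hφ, hΘ]; rfl
    have e2 : Fintype.linearCombination A (v - w) z =
        Fintype.linearCombination A v z - Fintype.linearCombination A w z := by
      simp [Fintype.linearCombination_apply, smul_sub, Finset.sum_sub_distrib]
    rw [e1, e2, sub_sub_eq_add_sub, add_sub_right_comm]
    refine add_mem ?_ ?_
    · refine Submodule.smul_mono (Ideal.pow_le_pow_right (Nat.sub_le _ _)) le_rfl ?_
      rw [← Submodule.Quotient.eq, hy, hvw]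
    · rw [Fintype.linearCombination_apply]
      exact sum_mem fun i _ => Submodule.smul_mem _ _
        (Submodule.smul_mono (Ideal.pow_le_pow_right (by omega)) le_rfl ((mem_pi_smul _ w).mp hw i))
  · have h1 : Θ φ ∈ I ^ n • (⊤ : Submodule A (Fin a → N)) := (mem_pi_smul _ _).mpr fun i => hφ _
    have h2 := hc₂ n _ (hrange ▸ LinearMap.mem_range_self Θ φ) h1
    rw [← hrange, LinearMap.range_eq_map, ← Submodule.map_smul'', Submodule.mem_map] at h2
    obtain ⟨φ', hφ', he⟩ := h2
    exact hΘinj he ▸ Submodule.smul_mono (Ideal.pow_le_pow_right (by omega)) le_rfl hφ'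

/-- Let A be a Noetherian ring, I an ideal, and M, N finite A-modules; write N_n = N/IⁿN, so that
Hom_A(M/IⁿM, N_n) = Hom_A(M, N_n). Then (1) the inverse system (Hom_A(M, N_n))_n, with transition
maps induced by the projections N_k → N_n, is Mittag-Leffler; (2) there is c ≥ 0 such that for all n
the kernel and the cokernel of Hom_A(M, N)/IⁿHom_A(M, N) → Hom_A(M, N_n) are annihilated by I^c. -/
theorem result (A : Type u) [CommRing A] [IsNoetherianRing A]
    (I : Ideal A) (M N : Type u) [AddCommGroup M] [Module A M] [Module.Finite A M] [AddCommGroup N] [Module A N]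
    [Module.Finite A N] :
    let Nq : ℕ → Submodule A N := fun n => I ^ n • ⊤
    let pr : ∀ n k : ℕ, n ≤ k → (N ⧸ Nq k) →ₗ[A] (N ⧸ Nq n) :=
      fun n k hnk => Submodule.mapQ (Nq k) (Nq n) (LinearMap.id : N →ₗ[A] N) (Submodule.smul_mono_left (Ideal.pow_le_pow_right hnk))
    let red : ∀ n : ℕ, (M →ₗ[A] N) → (M →ₗ[A] N ⧸ Nq n) := fun n φ => (Nq n).mkQ ∘ₗ φ
    (∀ n : ℕ, ∃ m : ℕ, n ≤ m ∧ ∀ (k : ℕ) (hmk : m ≤ k) (hnm : n ≤ m) (ψ : M →ₗ[A] N ⧸ Nq m),
        ∃ ψ' : M →ₗ[A] N ⧸ Nq k, pr n k (hnm.trans hmk) ∘ₗ ψ' = pr n m hnm ∘ₗ ψ) ∧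
    ∃ c : ℕ, ∀ n : ℕ,
      (∀ φ : M →ₗ[A] N, red n φ = 0 → ∀ a ∈ I ^ c, a • φ ∈ (I ^ n • ⊤ : Submodule A (M →ₗ[A] N))) ∧
      (∀ (ψ : M →ₗ[A] N ⧸ Nq n), ∀ a ∈ I ^ c, ∃ φ : M →ₗ[A] N, red n φ = a • ψ) := by
  obtain ⟨c, h1, h2⟩ := approx I M N
  refine ⟨fun n => ⟨n + c, Nat.le_add_right n c, fun k hmk hnm ψ => ?_⟩, c, fun n => ⟨fun φ hφ a ha => ?_, fun ψ a ha => ?_⟩⟩
  · obtain ⟨φ, hφ⟩ := h1 (n + c) ψ
    refine ⟨(I ^ k • ⊤ : Submodule A N).mkQ ∘ₗ φ, LinearMap.ext fun x => ?_⟩
    obtain ⟨y, hy⟩ := Submodule.Quotient.mk_surjective _ (ψ x)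
    have := hφ x y hy
    rw [Nat.add_sub_cancel] at this
    simp only [LinearMap.comp_apply, ← hy, Submodule.mkQ_apply, Submodule.mapQ_apply, LinearMap.id_apply]
    exact ((Submodule.Quotient.eq _).mpr this).symm
  · have h := h2 n φ fun x => (Submodule.Quotient.mk_eq_zero _).mp (LinearMap.congr_fun hφ x)
    have h' := Submodule.smul_mem_smul ha h
    rw [← mul_smul, ← pow_add] at h'
    exact Submodule.smul_mono (Ideal.pow_le_pow_right (by omega)) le_rfl h'
  · obtain ⟨φ, hφ⟩ := h1 n ψ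
    refine ⟨a • φ, LinearMap.ext fun x => ?_⟩
    obtain ⟨y, hy⟩ := Submodule.Quotient.mk_surjective _ (ψ x)
    simp only [LinearMap.comp_apply, LinearMap.smul_apply, ← hy, Submodule.mkQ_apply, ← Submodule.Quotient.mk_smul]
    refine ((Submodule.Quotient.eq _).mpr ?_).symm
    rw [← smul_sub]
    have h' := Submodule.smul_mem_smul ha (hφ x y hy)
    rw [← mul_smul, ← pow_add] at h'
    exact Submodule.smul_mono (Ideal.pow_le_pow_right (by omega)) le_rfl h'

end Groth.Agent.S7136
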