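import Groth.Statements.S7137
import Groth.Agent.H22.PdAdd

set_option autoImplicit false
universe u
open CategoryTheory
open CAlg

namespace Groth.Agent.S7137

/-- Take a Noetherian local ring R, an ideal I and a finite module E ≠ 0 over R/I. Suppose that R/I, as
an R-module, and E, as an R/I-module, both have finite projective dimension. Then E, as an R-module,
has finite projective dimension too, and it equals pd_R(R/I) + pd_{R/I}(E). -/
theorem result (R : Type u) [CommRing R] [IsNoetherianRing R] [IsLocalRing R]
    (I : Ideal R) (E : Type u) [AddCommGroup E] [Module (R ⧸ I) E] [Module R E] [IsScalarTower R (R ⧸ I) E]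
    [Module.Finite (R ⧸ I) E] [Nontrivial E]
    (h1 : projectiveDimension (ModuleCat.of R (R ⧸ I)) ≠ ⊤)
    (h2 : projectiveDimension (ModuleCat.of (R ⧸ I) E) ≠ ⊤) :
    projectiveDimension (ModuleCat.of R E) ≠ ⊤ ∧
      projectiveDimension (ModuleCat.of R E) =
        projectiveDimension (ModuleCat.of R (R ⧸ I)) + projectiveDimension (ModuleCat.of (R ⧸ I) E) := by
  exact Groth.Agent.H22.PdAdd.main I E h1 h2

end Groth.Agent.S7137
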