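import Groth.Statements.S7138
import Groth.Agent.Lib.Henselian.LocalRing
import Groth.Agent.Lib.Henselian.Roots
import Groth.Agent.Lib.Cohen.DedekindGRing
import Mathlib.FieldTheory.PrimitiveElement
import Mathlib.FieldTheory.IntermediateField.Adjoin.Algebra
import Mathlib.FieldTheory.Minpoly.IsIntegrallyClosed
import Mathlib.RingTheory.Polynomial.GaussLemma
import Mathlib.Algebra.Polynomial.Eval.Irreducible

set_option autoImplicit false
universe u
open EtAlg

namespace Groth.Agent.S7138

open Polynomial IsLocalRing Groth.Agent.Lib.Henselian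

/-- Newton approximation with control of the root. -/
theorem root_near {C : Type u} [CommRing C] (I : Ideal C) [HenselianRing C I] (f : C[X]) (c ε : C) (hε : ε ∈ I)
    (hc : f.eval c = f.derivative.eval c ^ 2 * ε) :
    ∃ y ∈ I, f.eval (c + f.derivative.eval c * y) = 0 := by
  set e := f.derivative.eval c
  set q := taylor c f with hq
  let G := q.divX.divX
  let h : C[X] := Polynomial.C ε + X + X ^ 2 * G.comp (Polynomial.C e * X)
  have hq0 : q.coeff 0 = e ^ 2 * ε := by rw [hq, taylor_coeff_zero, hc]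
  have hq1 : q.coeff 1 = e := by rw [hq, taylor_coeff_one]
  have hsplit : q = Polynomial.C (q.coeff 0) + X * Polynomial.C (q.coeff 1) + X ^ 2 * G := by
    conv_lhs => rw [← X_mul_divX_add q, ← X_mul_divX_add q.divX, coeff_divX]
    simp only [G]
    ring
  obtain ⟨y, hy, hyI⟩ := Roots.exists_root_lift I h (a₀ := 0)
    (by simp only [h, eval_add, eval_C, eval_X, eval_mul, eval_pow]; simpa using hε) (by simp [h])
  rw [sub_zero] at hyI
  refine ⟨y, hyI, ?_⟩
  have hy' : ε + y + y ^ 2 * G.eval (e * y) = 0 := by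
    simpa only [h, IsRoot, eval_add, eval_C, eval_X, eval_mul, eval_pow, eval_comp] using hy
  have : q.eval (e * y) = f.eval (c + e * y) := by rw [hq, taylor_eval, add_comm]
  rw [← this, hsplit, hq0, hq1]
  simp only [eval_add, eval_mul, eval_pow, eval_X, eval_C]
  linear_combination e ^ 2 * hy'

theorem eval_map_sub_dvd {R S : Type u} [CommRing R] [CommRing S] [Algebra R S] (P : R) (N : ℕ) (p q : R[X])
    (h : ∀ i, P ^ N ∣ p.coeff i - q.coeff i) (x : S) : algebraMap R S P ^ N ∣ aeval x p - aeval x q := by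
  obtain ⟨s, hs⟩ : C (P ^ N) ∣ p - q := by
    rw [C_dvd_iff_dvd_coeff]
    intro i
    rw [coeff_sub]
    exact h i
  rw [← map_sub, hs, map_mul, aeval_C, map_pow]
  exact dvd_mul_right _ _

theorem isUnit_of_sub_one_mem {C : Type u} [CommRing C] (I : Ideal C) [HenselianRing C I] {x : C} (h : x - 1 ∈ I) :
    IsUnit x := by
  have h1 := Ideal.mem_jacobson_bot.1 (HenselianRing.jac h) 1
  rwa [mul_one, sub_add_cancel] at h1

theorem coe_aeval {R M : Type u} [CommRing R] [CommRing M] [Algebra R M] (S : Subalgebra R M) (x : S) (p : R[X]) :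
    ((aeval x p : S) : M) = aeval (x : M) p := (aeval_algHom_apply S.val x p).symm

open scoped IntermediateField in
/-- Separable extensions of a henselian field come from a dense subfield. -/
theorem core {A K R F M : Type u} [CommRing A] [IsDomain A] [Field K] [Algebra A K] [IsFractionRing A K]
    [CommRing R] [IsDomain R] [IsDiscreteValuationRing R] [HenselianLocalRing R] [Algebra A R]
    [Field F] [Algebra R F] [IsFractionRing R F] [Algebra A F] [IsScalarTower A R F] [Algebra K F] [IsScalarTower A K F]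
    (hdense : ∀ (x : R) (N : ℕ), ∃ a : A, x - algebraMap A R a ∈ maximalIdeal R ^ N)
    [Field M] [Algebra F M] [FiniteDimensional F M] [Algebra.IsSeparable F M] :
    ∃ (g : K[X]) (r : M), g.Monic ∧ Irreducible (g.map (algebraMap K F)) ∧
      aeval r (g.map (algebraMap K F)) = 0 ∧ (g.map (algebraMap K F)).Separable ∧
      IntermediateField.adjoin F {r} = ⊤ ∧ g.natDegree = Module.finrank F M := by
  classical
  letI : Algebra R M := ((algebraMap F M).comp (algebraMap R F)).toAlgebra
  haveI : IsScalarTower R F M := IsScalarTower.of_algebraMap_eq fun _ => rfl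
  obtain ⟨P₀, hP₀⟩ := IsDiscreteValuationRing.exists_irreducible R
  -- an integral primitive element
  obtain ⟨α, hα⟩ := Field.exists_primitive_element F M
  obtain ⟨⟨s, hs⟩, hsα⟩ := IsIntegral.exists_multiple_integral_of_isLocalization (nonZeroDivisors R) α
    (IsIntegral.of_finite F α)
  set θ₀ : M := s • α
  have hs0 : algebraMap R F s ≠ 0 := (map_ne_zero_iff _ (IsFractionRing.injective R F)).2 (nonZeroDivisors.ne_zero hs)
  have hθtop : F⟮θ₀⟯ = ⊤ := by
    rw [eq_top_iff, ← hα, IntermediateField.adjoin_simple_le_iff]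
    have : α = (algebraMap R F s)⁻¹ • θ₀ := by
      show α = _ • (s • α)
      rw [← IsScalarTower.algebraMap_smul F s α, smul_smul, inv_mul_cancel₀ hs0, one_smul]
    rw [this]
    exact IntermediateField.smul_mem _ (IntermediateField.mem_adjoin_simple_self F θ₀)
  set f := minpoly R θ₀ with hf
  have hfm : f.Monic := minpoly.monic hsα
  have hfF : minpoly F θ₀ = f.map (algebraMap R F) := minpoly.isIntegrallyClosed_eq_field_fractions F M hsα
  set n := Module.finrank F M with hn
  have hfn : f.natDegree = n := by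
    rw [← natDegree_map_eq_of_injective (IsFractionRing.injective R F) f, ← hfF,
      ← IntermediateField.adjoin.finrank (IsIntegral.of_finite F θ₀), hθtop, IntermediateField.finrank_top']
  let C₁ := integralClosure R M
  haveI : HenselianRing C₁ ((maximalIdeal R).map (algebraMap R C₁)) := Pair.henselianRing_of_isIntegral (maximalIdeal R) C₁
  set I := (maximalIdeal R).map (algebraMap R C₁) with hI
  let θ : C₁ := ⟨θ₀, hsα⟩
  have hfθ : aeval θ f = 0 := Subtype.ext (by rw [coe_aeval]; exact minpoly.aeval R θ₀)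
  have hder : aeval θ (derivative f) ≠ 0 := fun h => by
    apply (Algebra.IsSeparable.isSeparable F θ₀).aeval_derivative_ne_zero (minpoly.aeval F θ₀)
    rw [hfF, derivative_map, aeval_map_algebraMap]
    exact (coe_aeval C₁ θ (derivative f)).symm.trans (congrArg (fun c : C₁ => (c : M)) h)
  obtain ⟨a, ha0, hadvd⟩ := (Algebra.IsIntegral.isIntegral (R := R) (aeval θ (derivative f))).isAlgebraic.exists_nonzero_dvd
    (mem_nonZeroDivisors_of_ne_zero hder)
  obtain ⟨d, v, hv⟩ := IsDiscreteValuationRing.eq_unit_mul_pow_irreducible ha0 hP₀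
  set P := algebraMap R C₁ P₀ with hP
  have hPI : P ∈ I := Ideal.mem_map_of_mem _ hP₀.not_isUnit
  obtain ⟨w, hw⟩ : aeval θ (derivative f) ∣ P ^ d := by
    rw [hv, map_mul, map_pow] at hadvd
    exact ((v.map (algebraMap R C₁ : R →* C₁)).isUnit.dvd_mul_left).1 hadvd
  -- the approximating polynomial
  have hch : ∀ i, ∃ a : A, P₀ ^ (2 * d + 2) ∣ f.coeff i - algebraMap A R a := fun i => by
    obtain ⟨a, ha⟩ := hdense (f.coeff i) (2 * d + 2)
    rw [hP₀.maximalIdeal_eq, Ideal.span_singleton_pow, Ideal.mem_span_singleton] at ha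
    exact ⟨a, ha⟩
  choose a' ha' using hch
  let g₀ : A[X] := X ^ n + ∑ i ∈ Finset.range n, C (a' i) * X ^ i
  have hlow : (∑ i ∈ Finset.range n, C (a' i) * X ^ i : A[X]).degree < n := by
    refine (degree_sum_le _ _).trans_lt ((Finset.sup_lt_iff (WithBot.bot_lt_coe n)).2 fun i hi => ?_)
    exact (degree_C_mul_X_pow_le i _).trans_lt (WithBot.coe_lt_coe.2 (Finset.mem_range.1 hi))
  have hg₀m : g₀.Monic := monic_X_pow_add hlow
  have hg₀n : g₀.natDegree = n := natDegree_eq_of_degree_eq_some (by
    rw [degree_add_eq_left_of_degree_lt (by rwa [degree_X_pow]), degree_X_pow])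
  set g := g₀.map (algebraMap A R) with hg
  have hgm : g.Monic := hg₀m.map _
  have hclose : ∀ i, P₀ ^ (2 * d + 2) ∣ f.coeff i - g.coeff i := fun i => by
    rw [hg, coeff_map]
    rcases lt_trichotomy i n with hi | rfl | hi
    · rw [coeff_add, coeff_X_pow, if_neg hi.ne, zero_add, finset_sum_coeff, Finset.sum_eq_single i]
      · rw [coeff_C_mul_X_pow, if_pos rfl]; exact ha' i
      · intro j _ hji; rw [coeff_C_mul_X_pow, if_neg hji.symm]
      · exact fun h => absurd (Finset.mem_range.2 hi) h
    · rw [← hfn, hfm.coeff_natDegree, hfn, ← hg₀n, hg₀m.coeff_natDegree, map_one, sub_self]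
      exact dvd_zero _
    · rw [coeff_eq_zero_of_natDegree_lt (by omega), coeff_eq_zero_of_natDegree_lt (by omega), map_zero, sub_zero]
      exact dvd_zero _
  have hclose' : ∀ i, P₀ ^ (2 * d + 2) ∣ (derivative f).coeff i - (derivative g).coeff i := fun i => by
    rw [coeff_derivative, coeff_derivative, ← sub_mul]
    exact dvd_mul_of_dvd_left (hclose _) _
  -- a root of `g` near `θ`
  obtain ⟨z₁, hz₁⟩ := eval_map_sub_dvd P₀ _ f g hclose θ
  obtain ⟨z₂, hz₂⟩ := eval_map_sub_dvd P₀ _ (derivative f) (derivative g) hclose' θ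
  rw [hfθ, zero_sub, ← hP] at hz₁
  rw [← hP] at hz₂
  obtain ⟨u, hu⟩ : IsUnit (1 - w * P ^ (d + 2) * z₂) :=
    isUnit_of_sub_one_mem I (by
      rw [show 1 - w * P ^ (d + 2) * z₂ - 1 = -(w * P ^ (d + 2) * z₂) by ring]
      exact neg_mem (Ideal.mul_mem_right _ _ (Ideal.mul_mem_left _ _ (Ideal.pow_mem_of_mem _ hPI _ (by omega)))))
  set e := aeval θ (derivative g) with he
  have heu : e = aeval θ (derivative f) * u := by
    rw [hu]
    linear_combination -hz₂ - (P ^ (d + 2) * z₂) * hw
  obtain ⟨y, hyI, hy⟩ := root_near I (g.map (algebraMap R C₁)) θ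
    (-(P ^ 2 * z₁ * w ^ 2 * (↑u⁻¹ : C₁) ^ 2)) (neg_mem (Ideal.mul_mem_right _ _ (Ideal.mul_mem_right _ _ (Ideal.mul_mem_right _ _
      (Ideal.pow_mem_of_mem _ hPI _ two_pos))))) (by
      rw [derivative_map, eval_map_algebraMap, eval_map_algebraMap, ← he, heu]
      have hu1 : (u : C₁) * ↑u⁻¹ = 1 := u.mul_inv
      linear_combination -hz₁ +
        (aeval θ (derivative f) ^ 2 * P ^ 2 * z₁ * w ^ 2 * ((u : C₁) * ↑u⁻¹ + 1)) * hu1 -
        (P ^ 2 * z₁ * (P ^ d + aeval θ (derivative f) * w)) * hw)
  rw [derivative_map, eval_map_algebraMap, eval_map_algebraMap, ← he] at hy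
  set r := θ + e * y with hr
  -- `f'` at the root
  obtain ⟨t, ht⟩ := sub_dvd_eval_sub r θ ((derivative g).map (algebraMap R C₁))
  rw [eval_map_algebraMap, eval_map_algebraMap, ← he, hr, add_sub_cancel_left] at ht
  obtain ⟨z₃, hz₃⟩ := eval_map_sub_dvd P₀ _ f g hclose r
  obtain ⟨z₄, hz₄⟩ := eval_map_sub_dvd P₀ _ (derivative f) (derivative g) hclose' r
  rw [← hP] at hz₃ hz₄
  rw [hy, sub_zero] at hz₃
  obtain ⟨u', hu'⟩ : IsUnit (1 + y * t + P ^ (d + 2) * z₄ * w * ↑u⁻¹) :=
    isUnit_of_sub_one_mem I (by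
      rw [add_assoc, add_sub_cancel_left]
      exact add_mem (Ideal.mul_mem_right _ _ hyI) (Ideal.mul_mem_right _ _ (Ideal.mul_mem_right _ _ (Ideal.mul_mem_right _ _
        (Ideal.pow_mem_of_mem _ hPI _ (by omega))))))
  set e₁ := aeval r (derivative f) with he₁
  have he1u : e₁ = aeval θ (derivative f) * u * u' := by
    rw [hu']
    have hu1 : (u : C₁) * ↑u⁻¹ = 1 := u.mul_inv
    linear_combination hz₄ + ht + (1 + y * t) * heu + (P ^ (d + 2) * z₄) * hw -
      (P ^ (d + 2) * z₄ * w * aeval θ (derivative f)) * hu1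
  have hP0 : P ≠ 0 := fun h => hP₀.ne_zero (IsFractionRing.injective R F ((algebraMap F M).injective (by
    rw [map_zero, map_zero]; exact (congrArg Subtype.val h))))
  have he10 : (e₁ : M) ≠ 0 := fun h => mul_ne_zero (mul_ne_zero hder u.ne_zero) u'.ne_zero
    (by rw [← he1u]; exact Subtype.ext h)
  -- a root of `f` in `F⟮r⟯`
  let E : IntermediateField F M := F⟮(r : M)⟯
  let C₀ := integralClosure R E
  haveI : HenselianRing C₀ ((maximalIdeal R).map (algebraMap R C₀)) := Pair.henselianRing_of_isIntegral (maximalIdeal R) C₀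
  let Ev : E →ₐ[R] M := E.val.restrictScalars R
  have hCE : ∀ x : E, IsIntegral R (x : M) → IsIntegral R x := fun x hx => (isIntegral_algHom_iff Ev Subtype.val_injective).1 hx
  let r₀ : C₀ := ⟨⟨r, IntermediateField.mem_adjoin_simple_self F _⟩, hCE _ r.2⟩
  let j : C₀ →ₐ[R] C₁ := (Ev.comp C₀.val).codRestrict C₁ fun x => x.2.map Ev
  have hj : Function.Injective j := fun x x' h =>
    Subtype.ext (Subtype.ext (congrArg (fun c : C₁ => (c : M)) h : ((x : E) : M) = ((x' : E) : M)))
  have hjr : j r₀ = r := Subtype.ext rfl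
  set e₂ := aeval r₀ (derivative f) with he₂
  set P₂ := algebraMap R C₀ P₀ with hP₂
  have hje : j e₂ = e₁ := by rw [he₂, ← aeval_algHom_apply, hjr]
  have hjP : j P₂ = P := j.commutes P₀
  have hjf : j (aeval r₀ f) = aeval r f := by rw [← aeval_algHom_apply, hjr]
  have hdiv : ∀ (x y : C₀) (q : C₁), j x = j y * q → (j y : M) ≠ 0 → ∃ q₀ : C₀, x = y * q₀ := fun x y q hq hy0 => by
    have hqE : ((q : M)) = ((((x : E) / (y : E) : E)) : M) := by
      rw [IntermediateField.coe_div, eq_div_iff (show ((y : E) : M) ≠ 0 from hy0), mul_comm]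
      exact (congrArg Subtype.val hq).symm
    exact ⟨⟨(x : E) / (y : E), hCE _ (hqE ▸ q.2)⟩, hj (by rw [map_mul, hq]; exact congrArg _ (Subtype.ext hqE))⟩
  obtain ⟨w₂, hw₂⟩ := hdiv (P₂ ^ d) e₂ (w * ↑u⁻¹ * ↑u'⁻¹) (by
    rw [map_pow, hjP, hje, he1u, hw]
    have hu1 : (u : C₁) * ↑u⁻¹ = 1 := u.mul_inv
    have hu2 : (u' : C₁) * ↑u'⁻¹ = 1 := u'.mul_inv
    linear_combination (-(aeval θ (derivative f) * w * ((u' : C₁) * ↑u'⁻¹))) * hu1 - (aeval θ (derivative f) * w) * hu2)
    (by rw [hje]; exact he10)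
  obtain ⟨z₅, hz₅⟩ := hdiv (aeval r₀ f) (P₂ ^ (2 * d + 2)) z₃ (by rw [hjf, map_pow, hjP, hz₃]) (by
    rw [map_pow, hjP]
    exact fun h => pow_ne_zero _ hP0 (Subtype.ext h))
  obtain ⟨y₂, -, hy₂⟩ := root_near ((maximalIdeal R).map (algebraMap R C₀)) (f.map (algebraMap R C₀)) r₀
    (P₂ ^ 2 * z₅ * w₂ ^ 2) (Ideal.mul_mem_right _ _ (Ideal.mul_mem_right _ _ (Ideal.pow_mem_of_mem _
      (Ideal.mem_map_of_mem _ hP₀.not_isUnit) _ two_pos))) (by
      rw [derivative_map, eval_map_algebraMap, eval_map_algebraMap, hz₅, ← he₂]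
      linear_combination (P₂ ^ 2 * z₅ * (P₂ ^ d + e₂ * w₂)) * hw₂)
  rw [eval_map_algebraMap] at hy₂
  -- degrees
  have hfirr : Irreducible (f.map (algebraMap R F)) := hfF ▸ minpoly.irreducible (IsIntegral.of_finite F θ₀)
  set s₀ : E := ((r₀ + (derivative (f.map (algebraMap R C₀))).eval r₀ * y₂ : C₀) : E)
  have hroot : aeval s₀ (f.map (algebraMap R F)) = 0 := by
    rw [aeval_map_algebraMap, ← coe_aeval, hy₂]; rfl
  have hdegE : n ≤ Module.finrank F E := by
    have h1 : minpoly F s₀ = f.map (algebraMap R F) :=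
      (minpoly.eq_of_irreducible_of_monic hfirr hroot (hfm.map _)).symm
    rw [← hfn, ← natDegree_map_eq_of_injective (IsFractionRing.injective R F) f, ← h1]
    exact minpoly.natDegree_le _
  have hE : E = ⊤ := by
    refine IntermediateField.eq_of_le_of_finrank_le le_top ?_
    rw [IntermediateField.finrank_top']; exact hdegE
  set G := (g₀.map (algebraMap A K)).map (algebraMap K F) with hG
  have hGg : G = g.map (algebraMap R F) := by
    rw [hG, hg, Polynomial.map_map, Polynomial.map_map, ← IsScalarTower.algebraMap_eq, ← IsScalarTower.algebraMap_eq]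
  have hGr : aeval (r : M) G = 0 := by
    rw [hGg, aeval_map_algebraMap, ← coe_aeval, hy]; rfl
  have hGm : G.Monic := (hg₀m.map _).map _
  have hGdeg : G.natDegree = n := by
    rw [hGg, natDegree_map_eq_of_injective (IsFractionRing.injective R F), hg, hg₀m.natDegree_map, hg₀n]
  have hmin : minpoly F (r : M) = G := by
    refine (eq_of_monic_of_dvd_of_natDegree_le (minpoly.monic (IsIntegral.of_finite F _)) hGm (minpoly.dvd F _ hGr) ?_).symm
    rw [hGdeg, ← IntermediateField.adjoin.finrank (IsIntegral.of_finite F (r : M))]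
    exact hdegE
  refine ⟨g₀.map (algebraMap A K), r, hg₀m.map _, ?_, hGr, ?_, hE, by rw [hg₀m.natDegree_map, hg₀n]⟩
  · rw [← hG, ← hmin]; exact minpoly.irreducible (IsIntegral.of_finite F _)
  · rw [← hG, ← hmin]; exact Algebra.IsSeparable.isSeparable F (r : M)


open TensorProduct in
/-- Let A be a discrete valuation ring, K its field of fractions, A^ its completion and K^ the fraction
field of A^. Every finite separable extension M of K^ arises by base change: M ≅ K^ ⊗_K L as
K^-algebras for some finite separable extension L/K. -/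
theorem result (A K : Type u) [CommRing A] [IsDomain A]
    [IsDiscreteValuationRing A] [Field K] [Algebra A K] [IsFractionRing A K]
    (Kh : Type u) [Field Kh] [Algebra (AdicCompletion (IsLocalRing.maximalIdeal A) A) Kh]
    [IsFractionRing (AdicCompletion (IsLocalRing.maximalIdeal A) A) Kh] [Algebra A Kh] [Algebra K Kh]
    [IsScalarTower A (AdicCompletion (IsLocalRing.maximalIdeal A) A) Kh] [IsScalarTower A K Kh]
    (M : Type u) [Field M] [Algebra Kh M] [FiniteDimensional Kh M] [Algebra.IsSeparable Kh M] :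
    ∃ (L : Type u) (_ : Field L) (_ : Algebra K L), FiniteDimensional K L ∧ Algebra.IsSeparable K L ∧
      Nonempty ((Kh ⊗[K] L) ≃ₐ[Kh] M) := by
  classical
  obtain ⟨hdom, hdvr⟩ := Groth.Agent.Lib.Cohen.DedekindGRing.exists_dvr A
  haveI := hdom
  haveI := hdvr
  haveI : HenselianLocalRing (AdicCompletion (IsLocalRing.maximalIdeal A) A) :=
    Groth.Agent.Lib.Henselian.LocalRing.henselianLocalRing_of_henselianRing
  obtain ⟨π, hπ⟩ := IsDiscreteValuationRing.exists_irreducible A
  have hmax : IsLocalRing.maximalIdeal (AdicCompletion (IsLocalRing.maximalIdeal A) A) =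
      Ideal.span {algebraMap A _ π} := by
    rw [AdicCompletion.maximalIdeal_eq_map]
    exact (congrArg (Ideal.map (algebraMap A _)) hπ.maximalIdeal_eq).trans (by rw [Ideal.map_span, Set.image_singleton])
  have hdense : ∀ (x : AdicCompletion (IsLocalRing.maximalIdeal A) A) (N : ℕ),
      ∃ a : A, x - algebraMap A _ a ∈ IsLocalRing.maximalIdeal (AdicCompletion (IsLocalRing.maximalIdeal A) A) ^ N := by
    intro x N
    induction N with
    | zero => exact ⟨0, by rw [pow_zero, Ideal.one_eq_top]; trivial⟩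
    | succ N ih =>
      obtain ⟨a, ha⟩ := ih
      rw [hmax, Ideal.span_singleton_pow, Ideal.mem_span_singleton] at ha
      obtain ⟨c, hc⟩ := ha
      obtain ⟨k, hk⟩ := (AdicCompletion.residueField_map_bijective A).2 (IsLocalRing.residue _ c)
      obtain ⟨b, rfl⟩ := IsLocalRing.residue_surjective k
      rw [IsLocalRing.ResidueField.map_residue, ← sub_eq_zero, ← map_sub, IsLocalRing.residue_eq_zero_iff, hmax,
        Ideal.mem_span_singleton] at hk
      obtain ⟨c', hc'⟩ := hk
      refine ⟨a + π ^ N * b, ?_⟩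
      rw [hmax, Ideal.span_singleton_pow, Ideal.mem_span_singleton]
      exact ⟨-c', by rw [map_add, map_mul, map_pow]; linear_combination hc - (algebraMap A _ π) ^ N * hc'⟩
  obtain ⟨g, r, hgm, hirr, hgr, hsep, htop, hdeg⟩ :=
    core (A := A) (K := K) (R := AdicCompletion (IsLocalRing.maximalIdeal A) A) (F := Kh) (M := M) hdense
  haveI : Fact (Irreducible g) := ⟨Polynomial.Monic.irreducible_of_irreducible_map (algebraMap K Kh) g hgm hirr⟩
  let pb := AdjoinRoot.powerBasis hgm.ne_zero
  haveI : FiniteDimensional K (AdjoinRoot g) := pb.finite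
  have hgs : g.Separable := (Polynomial.separable_map _).1 hsep
  haveI : Algebra.IsSeparable K (AdjoinRoot g) := by
    have h : IsSeparable K (AdjoinRoot.root g) := hgs.of_dvd (minpoly.dvd K _ (by rw [AdjoinRoot.aeval_eq, AdjoinRoot.mk_self]))
    haveI := (IntermediateField.isSeparable_adjoin_simple_iff_isSeparable K (AdjoinRoot g)).2 h
    have htop' : IntermediateField.adjoin K {AdjoinRoot.root g} = ⊤ :=
      IntermediateField.adjoin_eq_top_of_algebra K {AdjoinRoot.root g} AdjoinRoot.adjoinRoot_eq_top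
    exact Algebra.IsSeparable.of_algHom K (IntermediateField.adjoin K {AdjoinRoot.root g})
      ((IntermediateField.equivOfEq htop').trans IntermediateField.topEquiv).symm.toAlgHom
  letI : Algebra K M := ((algebraMap Kh M).comp (algebraMap K Kh)).toAlgebra
  haveI : IsScalarTower K Kh M := IsScalarTower.of_algebraMap_eq fun _ => rfl
  let φ : AdjoinRoot g →ₐ[K] M := AdjoinRoot.liftAlgHom g (Algebra.ofId K M) r (by
    show Polynomial.aeval r g = 0
    rw [← Polynomial.aeval_map_algebraMap Kh]; exact hgr)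
  let Φ : Kh ⊗[K] AdjoinRoot g →ₐ[Kh] M := Algebra.TensorProduct.lift (Algebra.ofId Kh M) φ fun _ _ => Commute.all _ _
  have hΦs : Function.Surjective Φ := by
    rw [← AlgHom.range_eq_top]
    have h : (IntermediateField.adjoin Kh {r}).toSubalgebra ≤ Φ.range := by
      rw [IntermediateField.adjoin_simple_toSubalgebra_of_isAlgebraic (Algebra.IsAlgebraic.isAlgebraic r),
        Algebra.adjoin_le_iff, Set.singleton_subset_iff]
      exact ⟨1 ⊗ₜ AdjoinRoot.root g, by simp [Φ, φ]⟩
    rw [htop, IntermediateField.top_toSubalgebra] at h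
    exact top_le_iff.1 h
  have hfr : Module.finrank Kh (Kh ⊗[K] AdjoinRoot g) = Module.finrank Kh M := by
    rw [Module.finrank_baseChange, pb.finrank, AdjoinRoot.powerBasis_dim, hdeg]
  have hΦi : Function.Injective Φ :=
    (LinearMap.injective_iff_surjective_of_finrank_eq_finrank hfr (f := Φ.toLinearMap)).2 hΦs
  exact ⟨AdjoinRoot g, inferInstance, inferInstance, inferInstance, inferInstance,
    ⟨AlgEquiv.ofBijective Φ ⟨hΦi, hΦs⟩⟩⟩

end Groth.Agent.S7138
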