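import Groth.Statements.S7139
import Groth.Agent.H80.Inertia.Separating
import Mathlib.RingTheory.IntegralClosure.IntegrallyClosed
import Mathlib.RingTheory.DiscreteValuationRing.Basic
import Mathlib.FieldTheory.Galois.Basic

set_option autoImplicit false
set_option backward.isDefEq.respectTransparency false
universe u
open EtAlg
open scoped Pointwise

namespace Groth.Agent.S7139

/-- A is a discrete valuation ring, K its field of fractions, and L/K is finite Galois with Galois group
G. Write B for the integral closure of A in L, equipped with the induced G-action, m a maximal ideal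
of B and I ⊆ G its inertia group. Denote by B' the integral closure of A inside the fixed field L^I,
with a map to B compatible with L^I ⊆ L. Then the image of B' in B is the ring of invariants B^I,
and A → B'_{m'} is étale, where m' = m ∩ B'. -/
theorem result (A K L B : Type u) [CommRing A] [IsDomain A]
    [IsDiscreteValuationRing A] [Field K] [Field L] [Algebra A K] [IsFractionRing A K] [Algebra K L]
    [Algebra A L] [IsScalarTower A K L] [FiniteDimensional K L] [IsGalois K L]
    [CommRing B] [Algebra A B] [Algebra B L] [IsScalarTower A B L] [IsIntegralClosure B A L]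
    [MulSemiringAction (L ≃ₐ[K] L) B]
    (hact : ∀ (σ : L ≃ₐ[K] L) (b : B), algebraMap B L (σ • b) = σ (algebraMap B L b))
    (m : Ideal B) [m.IsMaximal]
    (B' : Type u) [CommRing B'] [Algebra A B'] [Algebra B' B] [IsScalarTower A B' B] [Algebra B' L]
    [IsScalarTower B' B L]
    [Algebra B' (IntermediateField.fixedField (m.inertia (L ≃ₐ[K] L)))]
    [IsScalarTower B' (IntermediateField.fixedField (m.inertia (L ≃ₐ[K] L))) L]
    [IsIntegralClosure B' A (IntermediateField.fixedField (m.inertia (L ≃ₐ[K] L)))] :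
    (∀ b : B, (∀ σ ∈ m.inertia (L ≃ₐ[K] L), σ • b = b) ↔ b ∈ Set.range (algebraMap B' B)) ∧
      Algebra.Etale A (Localization.AtPrime (m.comap (algebraMap B' B))) := by
  classical
  let I := m.inertia (L ≃ₐ[K] L)
  let F := IntermediateField.fixedField I
  have hBL : Function.Injective (algebraMap B L) := IsIntegralClosure.algebraMap_injective B A L
  have hB'F : Function.Injective (algebraMap B' F) := IsIntegralClosure.algebraMap_injective B' A F
  have hB'L : Function.Injective (algebraMap B' L) := by
    rw [IsScalarTower.algebraMap_eq B' F L]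
    exact (algebraMap F L).injective.comp hB'F
  have hB'B : Function.Injective (algebraMap B' B) := fun a b h => hB'L (by
    rw [IsScalarTower.algebraMap_apply B' B L, h, ← IsScalarTower.algebraMap_apply])
  have hAL : Function.Injective (algebraMap A L) := by
    rw [IsScalarTower.algebraMap_eq A K L]
    exact (algebraMap K L).injective.comp (IsFractionRing.injective A K)
  have hAB : Function.Injective (algebraMap A B) := fun a b h => hAL (by
    rw [IsScalarTower.algebraMap_apply A B L, h, ← IsScalarTower.algebraMap_apply])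
  have : IsScalarTower A F L := IsScalarTower.of_algebraMap_eq fun a => by rfl
  have : IsScalarTower A B' F := IsScalarTower.of_algebraMap_eq fun a => (algebraMap F L).injective (by
    rw [← IsScalarTower.algebraMap_apply A F L, ← IsScalarTower.algebraMap_apply B' F L,
      IsScalarTower.algebraMap_apply B' B L, ← IsScalarTower.algebraMap_apply A B' B, ← IsScalarTower.algebraMap_apply])
  have hfix : ∀ (x : B') (σ : L ≃ₐ[K] L), σ ∈ I → σ • algebraMap B' B x = algebraMap B' B x := fun x σ hσ => hBL (by
    rw [hact, ← IsScalarTower.algebraMap_apply, IsScalarTower.algebraMap_apply B' F L]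
    exact (algebraMap B' F x).2 ⟨σ, hσ⟩)
  have hfixA : ∀ (a : A) (σ : L ≃ₐ[K] L), σ • algebraMap A B a = algebraMap A B a := fun a σ => hBL (by
    rw [hact, ← IsScalarTower.algebraMap_apply, IsScalarTower.algebraMap_apply A K L, σ.commutes])
  have hinv : ∀ b : B, (∀ σ ∈ I, σ • b = b) → ∃ x : B', algebraMap B' B x = b := by
    intro b hb
    have hmem : algebraMap B L b ∈ F := fun σ => by
      change (σ : L ≃ₐ[K] L) (algebraMap B L b) = _
      rw [← hact, hb σ.1 σ.2]
    have hint : IsIntegral A (⟨_, hmem⟩ : F) :=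
      (isIntegral_algHom_iff (F.val.restrictScalars A) Subtype.val_injective).mp
        ((IsIntegralClosure.isIntegral A L b).map (IsScalarTower.toAlgHom A B L))
    obtain ⟨x, hx⟩ := IsIntegralClosure.isIntegral_iff (A := B').mp hint
    refine ⟨x, hBL ?_⟩
    rw [← IsScalarTower.algebraMap_apply, IsScalarTower.algebraMap_apply B' F L, hx]
    rfl
  refine ⟨fun b => ⟨fun hb => hinv b hb, fun ⟨x, hx⟩ σ hσ => hx ▸ hfix x σ hσ⟩, ?_⟩
  have hinvA : ∀ b : B, (∀ σ : L ≃ₐ[K] L, σ • b = b) → ∃ a, algebraMap A B a = b := by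
    intro b hb
    obtain ⟨c, hc⟩ := IntermediateField.mem_bot.mp ((IsGalois.mem_bot_iff_fixed (algebraMap B L b)).mpr
      fun σ => by rw [← hact, hb])
    have hint : IsIntegral A c := (isIntegral_algHom_iff (IsScalarTower.toAlgHom A K L) (algebraMap K L).injective).mp
      (show IsIntegral A (algebraMap K L c) from hc ▸ (IsIntegralClosure.isIntegral A L b).map (IsScalarTower.toAlgHom A B L))
    obtain ⟨a, ha⟩ := IsIntegrallyClosed.isIntegral_iff.mp hint
    exact ⟨a, hBL (by rw [← IsScalarTower.algebraMap_apply, IsScalarTower.algebraMap_apply A K L, ha, hc])⟩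
  obtain ⟨g, hg, het⟩ := Groth.Agent.H80.Inertia.exists_etale m I rfl hAB hfixA hinvA
    (IsScalarTower.toAlgHom A B' B) hB'B (fun x h => hfix x h.1 h.2) hinv
  have : IsDomain B' := hB'L.isDomain _
  have : IsDomain B := hBL.isDomain _
  have : Algebra.IsIntegral A B' := IsIntegralClosure.isIntegral_algebra A F
  have : Algebra.IsIntegral A B := IsIntegralClosure.isIntegral_algebra A L
  have : Algebra.IsIntegral B' B := Algebra.IsIntegral.tower_top A
  let m' := m.comap (algebraMap B' B)
  have : m'.IsMaximal := Ideal.isMaximal_comap_of_isIntegral_of_isMaximal m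
  have : SMulCommClass (L ≃ₐ[K] L) A B := ⟨fun σ a b => by
    rw [Algebra.smul_def, Algebra.smul_def, smul_mul', hfixA]⟩
  have : Algebra.IsInvariant A B (L ≃ₐ[K] L) := ⟨hinvA⟩
  have hmax : ∀ n : Ideal B', n.IsMaximal → ∃ σ : L ≃ₐ[K] L, n = (σ • m).comap (algebraMap B' B) := by
    intro n hn
    obtain ⟨Q, hQ, hQn⟩ := Ideal.exists_ideal_over_maximal_of_isIntegral n (S := B)
      (by rw [(RingHom.injective_iff_ker_eq_bot _).mp hB'B]; exact bot_le)
    have h1 : Q.under A = m.under A := by
      have := Ideal.isMaximal_comap_of_isIntegral_of_isMaximal (R := A) Q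
      have := Ideal.isMaximal_comap_of_isIntegral_of_isMaximal (R := A) m
      exact (IsLocalRing.eq_maximalIdeal ‹(Q.comap (algebraMap A B)).IsMaximal›).trans
        (IsLocalRing.eq_maximalIdeal ‹(m.comap (algebraMap A B)).IsMaximal›).symm
    obtain ⟨σ, hσ⟩ := Algebra.IsInvariant.exists_smul_of_under_eq A B (L ≃ₐ[K] L) m Q h1.symm
    exact ⟨σ, hσ ▸ hQn.symm⟩
  have := Fintype.ofFinite (L ≃ₐ[K] L)
  have he : ∀ σ : L ≃ₐ[K] L, ∃ e : B', e ∉ m' ∧
      ((σ • m).comap (algebraMap B' B) ≠ m' → e ∈ (σ • m).comap (algebraMap B' B)) := by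
    intro σ
    by_cases h : (σ • m).comap (algebraMap B' B) = m'
    · exact ⟨1, fun h1 => ‹m'.IsMaximal›.ne_top ((Ideal.eq_top_iff_one _).mpr h1), fun h' => absurd h h'⟩
    · have : (σ • m).IsPrime := Ideal.IsPrime.smul σ
      have : ((σ • m).comap (algebraMap B' B)).IsMaximal := by
        have : (σ • m).IsMaximal := by
          refine Ideal.isMaximal_of_isIntegral_of_isMaximal_comap (R := A) _ ?_
          rw [show (σ • m).comap (algebraMap A B) = m.comap (algebraMap A B) from m.under_smul A σ]
          exact Ideal.isMaximal_comap_of_isIntegral_of_isMaximal m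
        exact Ideal.isMaximal_comap_of_isIntegral_of_isMaximal _
      obtain ⟨e, he1, he2⟩ := SetLike.not_le_iff_exists.mp (fun hle => h (this.eq_of_le ‹m'.IsMaximal›.ne_top hle))
      exact ⟨e, he2, fun _ => he1⟩
  choose e he1 he2 using he
  have hgm : g ∉ m' := hg
  let h := ∏ σ, e σ
  have hh : h ∉ m' := by
    rw [Ideal.IsPrime.prod_mem_iff]
    rintro ⟨σ, -, hσ⟩
    exact he1 σ hσ
  let g₀ := g * h
  have hg₀ : g₀ ∉ m' := fun hm' => ((‹m'.IsMaximal›.isPrime).mem_or_mem hm').elim hgm hh
  have hLoc : IsLocalization m'.primeCompl (Localization.Away g₀) := by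
    refine IsLocalization.of_le_of_exists_dvd (Submonoid.powers g₀) _ ?_ fun s hs => ?_
    · rintro _ ⟨k, rfl⟩ hk
      exact hg₀ ((‹m'.IsMaximal›.isPrime).mem_of_pow_mem k hk)
    have : g₀ ∈ (Ideal.span {s}).radical := by
      rw [Ideal.radical_eq_sInf]
      refine Submodule.mem_sInf.mpr fun (P : Ideal B') ⟨hsP, hP⟩ => ?_
      have hsP' : s ∈ P := hsP (Ideal.subset_span rfl)
      rcases eq_or_ne P ⊥ with rfl | hP0
      · exact absurd (show s ∈ m' by rw [Ideal.mem_bot] at hsP'; rw [hsP']; exact zero_mem _) hs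
      have hPmax : P.IsMaximal := by
        refine Ideal.isMaximal_of_isIntegral_of_isMaximal_comap (R := A) P ?_
        have : P.comap (algebraMap A B') ≠ ⊥ := fun h => hP0 (Ideal.eq_bot_of_comap_eq_bot h)
        exact (Ideal.IsPrime.comap (algebraMap A B')).isMaximal this
      obtain ⟨σ, rfl⟩ := hmax P hPmax
      refine Ideal.mul_mem_left _ _ ?_
      rw [Ideal.IsPrime.prod_mem_iff]
      exact ⟨σ, Finset.mem_univ _, he2 σ fun heq => hs (heq ▸ hsP')⟩
    obtain ⟨k, hk⟩ := this
    exact ⟨g₀ ^ k, ⟨k, rfl⟩, Ideal.mem_span_singleton.mp hk⟩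
  let S₁ := Localization.Away g
  let S₂ := Localization.Away (algebraMap B' S₁ h)
  have : IsLocalization.Away g₀ S₂ := IsLocalization.Away.mul' S₁ S₂ g h
  have : Algebra.Etale A S₁ := het
  have hS₂ : Algebra.Etale A S₂ := inferInstance
  let e₁ : S₂ ≃ₐ[B'] Localization.Away g₀ := IsLocalization.algEquiv (Submonoid.powers g₀) _ _
  let e₂ : Localization.Away g₀ ≃ₐ[B'] Localization.AtPrime m' :=
    IsLocalization.algEquiv m'.primeCompl _ _
  exact Algebra.Etale.of_equiv ((e₁.trans e₂).restrictScalars A)

end Groth.Agent.S7139
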