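import Groth.Statements.S7140
import Mathlib.RingTheory.RootsOfUnity.Lemmas
import Mathlib.RingTheory.Polynomial.Cyclotomic.Roots
import Mathlib.RingTheory.Polynomial.UniqueFactorization
import Mathlib.RingTheory.AdjoinRoot
import Mathlib.NumberTheory.Wilson
import Mathlib.Data.Nat.Choose.Dvd

set_option autoImplicit false
universe u
open EtAlg

namespace Groth.Agent.S7140

open Polynomial

lemma exists_univ (p : ℕ) (hp : p.Prime) (R : Type) [CommRing R] [IsDomain R] (ζ : R)
    (hζ : IsPrimitiveRoot ζ p) (hp0 : (p : R) ≠ 0) :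
    ∃ u : R, (p : R) = (1 - ζ) ^ (p - 1) * u ∧ u + 1 ∈ Ideal.span {1 - ζ} ∧ (1 - ζ) ≠ 0 := by
  classical
  obtain ⟨n, rfl⟩ : ∃ n, p = n + 1 := ⟨p - 1, (Nat.succ_pred_eq_of_pos hp.pos).symm⟩
  have hprod := hζ.prod_one_sub_pow_eq_order
  have hfac : ∀ j : ℕ, (1 - ζ ^ (j + 1)) = (1 - ζ) * ∑ i ∈ Finset.range (j + 1), ζ ^ i :=
    fun j => (mul_neg_geom_sum ζ (j + 1)).symm
  simp only [hfac, Finset.prod_mul_distrib, Finset.prod_const, Finset.card_range] at hprod
  push_cast
  refine ⟨∏ j ∈ Finset.range n, ∑ i ∈ Finset.range (j + 1), ζ ^ i, ?_, ?_, ?_⟩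
  · simpa using hprod.symm
  · rw [← Ideal.Quotient.eq_zero_iff_mem, map_add, map_one, map_prod]
    have hz : Ideal.Quotient.mk (Ideal.span {1 - ζ}) ζ = 1 := by
      rw [← map_one (Ideal.Quotient.mk (Ideal.span {1 - ζ})), eq_comm, Ideal.Quotient.eq]
      exact Ideal.mem_span_singleton_self _
    simp only [map_sum, map_pow, hz, one_pow, Finset.sum_const, Finset.card_range, nsmul_one]
    rw [← Nat.cast_prod, Finset.prod_range_add_one_eq_factorial,
      show ((n.factorial : ℕ) : R ⧸ Ideal.span {1 - ζ}) + 1 = ((n.factorial + 1 : ℕ) : R ⧸ Ideal.span {1 - ζ}) by push_cast; rfl]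
    have hdvd : n + 1 ∣ n.factorial + 1 := by
      have : Fact (n + 1).Prime := ⟨hp⟩
      have hw := ZMod.wilsons_lemma (n + 1)
      rw [← ZMod.natCast_eq_zero_iff, Nat.cast_add, Nat.cast_one]
      rw [Nat.add_sub_cancel] at hw
      rw [hw]
      exact neg_add_cancel 1
    obtain ⟨c, hc⟩ := hdvd
    rw [hc, Nat.cast_mul]
    have hpz : ((n + 1 : ℕ) : R ⧸ Ideal.span {1 - ζ}) = 0 := by
      rw [← map_natCast (Ideal.Quotient.mk (Ideal.span {1 - ζ})), Ideal.Quotient.eq_zero_iff_mem]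
      push_cast
      rw [← hprod]
      refine Ideal.mul_mem_right _ _ (Ideal.pow_mem_of_mem _ (Ideal.mem_span_singleton_self _) n ?_)
      have := hp.two_le
      omega
    rw [hpz, zero_mul]
  · intro h
    rw [sub_eq_zero] at h
    exact hp.ne_one (by
      have := hζ.eq_orderOf
      rw [← h, orderOf_one] at this
      exact this)

/-- The polynomial built from `u`. -/
noncomputable def poly {R : Type*} [CommRing R] (p : ℕ) (w u : R) : R[X] :=
  X ^ p + (Finset.Ioo 0 p).sum (fun i => C (((p.choose i / p : ℕ) : R) * u * w ^ (i - 1)) * X ^ i)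

lemma poly_spec {R : Type*} [CommRing R] (p : ℕ) (hp : p.Prime) (w u : R) (hu : (p : R) = w ^ (p - 1) * u) :
    C (w ^ p) * poly p w u = (1 + C w * X) ^ p - 1 := by
  rw [poly, mul_add, Finset.mul_sum, add_comm (1 : R[X]) (C w * X), add_pow]
  have hsplit : Finset.range (p + 1) = insert 0 (insert p (Finset.Ioo 0 p)) := by
    ext x
    simp only [Finset.mem_range, Finset.mem_insert, Finset.mem_Ioo]
    omega
  rw [hsplit, Finset.sum_insert (by simp [hp.ne_zero.symm]), Finset.sum_insert (by simp)]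
  simp only [one_pow, one_mul, pow_zero, Nat.choose_zero_right, Nat.choose_self, Nat.cast_one, mul_one,
    add_sub_cancel_left, mul_pow, ← C_pow]
  congr 1
  refine Finset.sum_congr rfl fun i hi => ?_
  rw [Finset.mem_Ioo] at hi
  obtain ⟨c, hc⟩ := Nat.Prime.dvd_choose_self hp (by omega) hi.2
  have hcast : ((p.choose i : ℕ) : R[X]) = C ((p : R) * (c : R)) := by rw [hc]; push_cast; rw [map_mul, C_eq_natCast, C_eq_natCast]
  rw [hcast, hu, hc, Nat.mul_div_cancel_left _ hp.pos]
  obtain ⟨k, rfl⟩ : ∃ k, i = k + 1 := ⟨i - 1, by omega⟩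
  obtain ⟨l, rfl⟩ : ∃ l, p = l + 1 := ⟨p - 1, by omega⟩
  simp only [map_mul, map_pow, add_tsub_cancel_right, map_natCast]
  ring

open Polynomial in
/-- Let p be a prime and A a ring with an element ζ satisfying 1 + ζ + ... + ζ^(p-1) = 0 (so that A is
an algebra over the ring of integers of the p-th cyclotomic field); set w = 1 - ζ. Then the
polynomial ((1 + wz)^p - 1)/w^p makes sense in A[z]: there is P in A[z] with w^p·P = (1 + wz)^p - 1,
of the form z^p - z + Σ_{0<i<p} a_i z^i with all a_i in the ideal (w), and P(z₁ + z₂ + w z₁ z₂) =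
P(z₁) + P(z₂) + w^p P(z₁)P(z₂) for all z₁, z₂ in any A-algebra. (The published statement asks only
for a primitive p-th root of unity; this row asks that ζ be a root of the p-th cyclotomic
polynomial, the case its proof treats. With ζ only of multiplicative order p the published statement
fails, for example for ζ = (1, e^{2πi/p}) in ℂ × ℂ.) -/
theorem result (p : ℕ) (hp : p.Prime) (A : Type u) [CommRing A] (ζ : A)
    (hζ : aeval ζ (cyclotomic p ℤ) = 0) :
    ∃ P : A[X], C ((1 - ζ) ^ p) * P = (1 + C (1 - ζ) * X) ^ p - 1 ∧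
      (∃ a : ℕ → A, (∀ i, a i ∈ Ideal.span {1 - ζ}) ∧
        P = X ^ p - X + (Finset.Ioo 0 p).sum (fun i => C (a i) * X ^ i)) ∧
      ∀ (S : Type u) [CommRing S] [Algebra A S] (z₁ z₂ : S),
        aeval (z₁ + z₂ + algebraMap A S (1 - ζ) * z₁ * z₂) P =
          aeval z₁ P + aeval z₂ P + algebraMap A S ((1 - ζ) ^ p) * aeval z₁ P * aeval z₂ P := by
  classical
  have hirr : Irreducible (cyclotomic p ℤ) := cyclotomic.irreducible hp.pos
  have : IsDomain (AdjoinRoot (cyclotomic p ℤ)) := AdjoinRoot.isDomain_of_prime hirr.prime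
  have hdeg : (cyclotomic p ℤ).degree ≠ 0 := by
    rw [degree_cyclotomic]
    exact_mod_cast (Nat.totient_pos.2 hp.pos).ne'
  have hp0 : ((p : ℕ) : AdjoinRoot (cyclotomic p ℤ)) ≠ 0 := by
    rw [← map_natCast (AdjoinRoot.of (cyclotomic p ℤ)), map_ne_zero_iff _ (AdjoinRoot.of.injective_of_degree_ne_zero hdeg)]
    exact_mod_cast hp.ne_zero
  have : NeZero ((p : ℕ) : AdjoinRoot (cyclotomic p ℤ)) := ⟨hp0⟩
  set ζ₀ := AdjoinRoot.root (cyclotomic p ℤ)
  have hprim : IsPrimitiveRoot ζ₀ p := by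
    rw [← isRoot_cyclotomic_iff, ← map_cyclotomic p (AdjoinRoot.of (cyclotomic p ℤ))]
    exact AdjoinRoot.isRoot_root _
  obtain ⟨u, hu, hu1, hw0⟩ := exists_univ p hp _ ζ₀ hprim hp0
  let g : AdjoinRoot (cyclotomic p ℤ) →+* A := AdjoinRoot.lift (Int.castRingHom A) ζ hζ
  have hgζ : g ζ₀ = ζ := AdjoinRoot.lift_root hζ
  have hgw : g (1 - ζ₀) = 1 - ζ := by rw [map_sub, map_one, hgζ]
  set P₀ := poly p (1 - ζ₀) u with hP₀
  have hspec := poly_spec p hp (1 - ζ₀) u hu
  refine ⟨P₀.map g, ?_, ⟨fun i => g (if i = 1 then u + 1 else if i ∈ Finset.Ioo 0 p then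
    ((p.choose i / p : ℕ) : AdjoinRoot (cyclotomic p ℤ)) * u * (1 - ζ₀) ^ (i - 1) else 0), ?_, ?_⟩, ?_⟩
  · have := congrArg (Polynomial.map g) hspec
    simpa [Polynomial.map_mul, Polynomial.map_pow, Polynomial.map_sub, Polynomial.map_add, hgζ] using this
  · intro i
    have hmem : ∀ y, y ∈ Ideal.span {1 - ζ₀} → g y ∈ Ideal.span {1 - ζ} := by
      intro y hy
      obtain ⟨c, rfl⟩ := Ideal.mem_span_singleton.1 hy
      rw [map_mul, hgw, Ideal.mem_span_singleton]
      exact dvd_mul_right _ _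
    apply hmem
    split_ifs with h1 h2
    · exact hu1
    · refine Ideal.mul_mem_left _ _ (Ideal.pow_mem_of_mem _ (Ideal.mem_span_singleton_self _) _ ?_)
      have := (Finset.mem_Ioo.1 h2).1
      omega
    · exact Ideal.zero_mem _
  · have h1mem : 1 ∈ Finset.Ioo 0 p := Finset.mem_Ioo.2 ⟨one_pos, hp.one_lt⟩
    have hb : P₀ = X ^ p - X + (Finset.Ioo 0 p).sum (fun i => C (if i = 1 then u + 1 else if i ∈ Finset.Ioo 0 p then
        ((p.choose i / p : ℕ) : AdjoinRoot (cyclotomic p ℤ)) * u * (1 - ζ₀) ^ (i - 1) else 0) * X ^ i) := by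
      rw [hP₀, poly, ← Finset.add_sum_erase _ _ h1mem, ← Finset.add_sum_erase _ _ h1mem, if_pos rfl,
        Nat.choose_one_right, Nat.div_self hp.pos]
      have : ∀ i ∈ (Finset.Ioo 0 p).erase 1, C (if i = 1 then u + 1 else if i ∈ Finset.Ioo 0 p then
          ((p.choose i / p : ℕ) : AdjoinRoot (cyclotomic p ℤ)) * u * (1 - ζ₀) ^ (i - 1) else 0) * X ^ i =
          C (((p.choose i / p : ℕ) : AdjoinRoot (cyclotomic p ℤ)) * u * (1 - ζ₀) ^ (i - 1)) * X ^ i := by
        intro i hi
        rw [if_neg (Finset.ne_of_mem_erase hi), if_pos (Finset.mem_of_mem_erase hi)]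
      rw [Finset.sum_congr rfl this]
      simp only [Nat.cast_one, one_mul, Nat.sub_self, pow_zero, mul_one, pow_one, map_add, map_one]
      ring
    rw [hb]
    simp [Polynomial.map_add, Polynomial.map_sub, Polynomial.map_sum, Polynomial.map_pow]
  · intro S _ _ z₁ z₂
    let Φ : MvPolynomial (Fin 2) (AdjoinRoot (cyclotomic p ℤ)) →+* S :=
      MvPolynomial.eval₂Hom ((algebraMap A S).comp g) ![z₁, z₂]
    let T := MvPolynomial (Fin 2) (AdjoinRoot (cyclotomic p ℤ))
    have hΦ : ∀ y : T, Φ (aeval y P₀) = aeval (Φ y) (P₀.map g) := by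
      intro y
      rw [aeval_def, aeval_def, hom_eval₂, eval₂_map]
      congr 1
      exact RingHom.ext fun x => by simp [Φ, T, MvPolynomial.algebraMap_eq]
    have hkey : aeval (MvPolynomial.X 0 + MvPolynomial.X 1 + MvPolynomial.C (1 - ζ₀) * MvPolynomial.X 0 * MvPolynomial.X 1 : T) P₀ =
        aeval (MvPolynomial.X 0 : T) P₀ + aeval (MvPolynomial.X 1 : T) P₀ +
          MvPolynomial.C ((1 - ζ₀) ^ p) * aeval (MvPolynomial.X 0 : T) P₀ * aeval (MvPolynomial.X 1 : T) P₀ := by
      have hval : ∀ y : T, MvPolynomial.C ((1 - ζ₀) ^ p) * aeval y P₀ = (1 + MvPolynomial.C (1 - ζ₀) * y) ^ p - 1 := by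
        intro y
        have := congrArg (aeval y) hspec
        rw [map_mul, aeval_C, map_sub, map_pow (aeval y) (1 + C (1 - ζ₀) * X), map_add, map_one, map_mul, aeval_C, aeval_X, MvPolynomial.algebraMap_eq] at this
        exact this
      have hne : (MvPolynomial.C ((1 - ζ₀) ^ p) : T) ≠ 0 := by
        rw [Ne, MvPolynomial.C_eq_zero]
        exact pow_ne_zero _ hw0
      apply mul_left_cancel₀ hne
      have hr : ∀ c x y : T, c * (x + y + c * x * y) = c * x + c * y + c * x * (c * y) := fun c x y => by ring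
      have hm : ∀ w x y : T, 1 + w * (x + y + w * x * y) = (1 + w * x) * (1 + w * y) := fun w x y => by ring
      rw [hr (MvPolynomial.C ((1 - ζ₀) ^ p)), hval, hval, hval, hm, mul_pow]
      ring
    have := congrArg Φ hkey
    simpa [hΦ, Φ, hgw, map_add, map_mul, map_pow, hgζ] using this

end Groth.Agent.S7140
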