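import Groth.Statements.S7143
import Groth.Agent.H48.WeakDim

set_option autoImplicit false
universe u
open CategoryTheory
open EtAlg

namespace Groth.Agent.S7143

/-- Every normal domain A with fraction field K is the fibre product V ×_L K for suitable rings V and L
with maps A → V, V → L, K → L (together with the given A → K), where every ideal of V is flat (weak
dimension at most one) and V → L is flat, injective and an epimorphism of rings. -/
theorem result (A K : Type u) [CommRing A] [IsDomain A] [Field K] [Algebra A K]
    [IsFractionRing A K] [IsIntegrallyClosed A] :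
    ∃ (V L : Type u) (_ : CommRing V) (_ : CommRing L) (f : A →+* V) (g : V →+* L) (h : K →+* L),
      g.comp f = h.comp (algebraMap A K) ∧
      (∀ I : Ideal V, Module.Flat V I) ∧ g.Flat ∧ Function.Injective g ∧ Epi (CommRingCat.ofHom g) ∧
      ∀ (v : V) (k : K), g v = h k → ∃! a : A, f a = v ∧ algebraMap A K a = k := by
  classical
  let R := (algebraMap A K).range
  let J := {V : ValuationSubring K // R ≤ V.toSubring}
  let iA : ∀ j : J, A →+* j.1 := fun j => (algebraMap A K).codRestrict j.1.toSubring fun a => j.2 ⟨a, rfl⟩
  let f : A →+* (∀ j : J, j.1) := Pi.ringHom iA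
  let g : (∀ j : J, j.1) →+* (J → K) := Pi.ringHom fun j => (j.1.subtype).comp (Pi.evalRingHom _ j)
  let h : K →+* (J → K) := Pi.ringHom fun _ => RingHom.id K
  have hloc := Groth.Agent.H48.WeakDim.isLocalization_pi (fun j : J => j.1) (fun _ => K)
  have hg : algebraMap (∀ j : J, j.1) (J → K) = g := RingHom.ext fun v => rfl
  refine ⟨∀ j : J, j.1, J → K, inferInstance, inferInstance, f, g, h, RingHom.ext fun a => rfl,
    Groth.Agent.H48.WeakDim.flat_ideal_pi _, ?_, ?_, ?_, ?_⟩
  · rw [← hg, RingHom.flat_algebraMap_iff]
    exact IsLocalization.flat _ (nonZeroDivisors (∀ j : J, j.1))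
  · exact fun v w hvw => funext fun j => Subtype.ext (congrFun hvw j)
  · constructor
    intro Z a b hab
    refine CommRingCat.hom_ext (IsLocalization.ringHom_ext (nonZeroDivisors (∀ j : J, j.1)) ?_)
    rw [hg]
    exact congrArg CommRingCat.Hom.hom hab
  · intro v k hvk
    have hR : IsIntegrallyClosedIn R K := by
      let e := RingEquiv.ofBijective (algebraMap A K).rangeRestrict
        ⟨fun a b hab => IsFractionRing.injective A K (congrArg Subtype.val hab),
          (algebraMap A K).rangeRestrict_surjective⟩
      refine isIntegrallyClosedIn_iff.2 ⟨Subtype.val_injective, fun {x} hx => ?_⟩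
      obtain ⟨P, hP, hPx⟩ := hx
      have hint : IsIntegral A x := by
        refine ⟨P.map e.symm.toRingHom, hP.map _, ?_⟩
        rw [Polynomial.eval₂_map]
        convert hPx using 2
        refine RingHom.ext fun r => ?_
        exact congrArg Subtype.val (e.apply_symm_apply r)
      obtain ⟨y, hy⟩ := IsIntegrallyClosed.algebraMap_eq_of_integral hint
      exact ⟨⟨x, ⟨y, hy⟩⟩, rfl⟩
    have hk : k ∈ R := by
      rw [Subring.eq_iInf_of_isIntegrallyClosedIn (R := R), Subring.mem_iInf]
      intro j
      have := congrFun hvk j
      exact (show ((v j : j.1) : K) = k from this) ▸ (v j).2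
    obtain ⟨a, ha⟩ := hk
    refine ⟨a, ⟨funext fun j => Subtype.ext ?_, ha⟩, fun b hb => IsFractionRing.injective A K (hb.2.trans ha.symm)⟩
    exact ha.trans (congrFun hvk j).symm

end Groth.Agent.S7143
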