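import Groth.Statements.S7144
import Mathlib.RingTheory.Valuation.ValuationRing
-- import your own Groth.Agent.* helpers here

set_option autoImplicit false
universe u
open CAlg

namespace Groth.Agent.S7144

/-- (1) ⇔ (2): let R be a nonzero ring. Then for all a, b in R one of a, b divides the other if and only
if R is local and every finitely generated ideal of R is principal. (The further equivalence with
the total ordering of the set of ideals by inclusion is standard and not restated here.) -/
theorem result (R : Type u) [CommRing R] [Nontrivial R] :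
    PreValuationRing R ↔ IsLocalRing R ∧ IsBezout R := by
  constructor
  · intro h
    have htot : ∀ a b : R, a ∣ b ∨ b ∣ a := fun a b => ValuationRing.dvd_total a b
    refine ⟨IsLocalRing.of_isUnit_or_isUnit_one_sub_self fun a => ?_, ?_⟩
    · rcases htot a (1 - a) with hd | hd
      · exact Or.inl (isUnit_of_dvd_one (by simpa using dvd_add hd dvd_rfl))
      · exact Or.inr (isUnit_of_dvd_one (by simpa using dvd_add dvd_rfl hd))
    · rw [IsBezout.iff_span_pair_isPrincipal]
      intro x y
      rcases htot x y with hd | hd
      · exact ⟨⟨x, by rw [Ideal.span_insert, sup_eq_left.mpr (Ideal.span_singleton_le_span_singleton.mpr hd)]⟩⟩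
      · exact ⟨⟨y, by rw [Ideal.span_insert, sup_eq_right.mpr (Ideal.span_singleton_le_span_singleton.mpr hd)]⟩⟩
  · rintro ⟨hl, hb⟩
    refine PreValuationRing.iff_dvd_total.mpr ⟨fun a b => ?_⟩
    obtain ⟨g, e : _ = Ideal.span _⟩ := IsBezout.span_pair_isPrincipal a b
    obtain ⟨a, rfl⟩ := Ideal.mem_span_singleton'.mp
        (show a ∈ Ideal.span {g} by rw [← e]; exact Ideal.subset_span (by simp))
    obtain ⟨b, rfl⟩ := Ideal.mem_span_singleton'.mp
        (show b ∈ Ideal.span {g} by rw [← e]; exact Ideal.subset_span (by simp))
    obtain ⟨x, y, e'⟩ := Ideal.mem_span_pair.mp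
        (show g ∈ Ideal.span {a * g, b * g} by rw [e]; exact Ideal.subset_span (by simp))
    rcases IsLocalRing.isUnit_or_isUnit_one_sub_self (x * a + y * b) with h' | h'
    · rcases IsLocalRing.isUnit_or_isUnit_of_isUnit_add h' with h'' | h'' <;> [left; right]
      all_goals exact mul_dvd_mul_right (isUnit_iff_forall_dvd.mp (isUnit_of_mul_isUnit_right h'') _) _
    · have : g = 0 := h'.mul_right_eq_zero.mp (by linear_combination (-1 : R) * e')
      subst this; simp

end Groth.Agent.S7144
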