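import Groth.Statements.S7145
import Mathlib

set_option autoImplicit false
universe u
open CategoryTheory CategoryTheory.Limits
open CAlg

namespace Groth.Agent.S7145

/-- Let R be a ring and F a cochain complex of free R-modules that is zero in all sufficiently large
degrees. Given finitely many elements f_i of F, f_i lying in degree n_i, there is a subcomplex G of
F (a map of complexes G → F injective in every degree) through which every f_i passes, such that G
is zero outside a finite range of degrees and each term of G is a finitely generated free R-module. -/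
theorem result (R : Type u) [CommRing R]
    (F : CochainComplex (ModuleCat.{u} R) ℤ) (hfree : ∀ n : ℤ, Module.Free R (F.X n))
    (b : ℤ) (hb : ∀ n : ℤ, b < n → IsZero (F.X n))
    (N : ℕ) (deg : Fin N → ℤ) (f : ∀ i : Fin N, F.X (deg i)) :
    ∃ (G : CochainComplex (ModuleCat.{u} R) ℤ) (ι : G ⟶ F),
      (∀ n : ℤ, Function.Injective (ι.f n)) ∧
      (∃ a c : ℤ, ∀ n : ℤ, (n < a ∨ c < n) → IsZero (G.X n)) ∧
      (∀ n : ℤ, Module.Finite R (G.X n) ∧ Module.Free R (G.X n)) ∧
      ∀ i : Fin N, f i ∈ Set.range (ι.f (deg i)) := by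
  classical
  -- bases of the terms
  let bs := fun n => Module.Free.chooseBasis R (F.X n)
  let a' : ℤ := if N = 0 then b else (Finset.univ.image deg).min.getD b
  have ha' : ∀ i, a' ≤ deg i := fun i => by
    have hN : N ≠ 0 := fun h => Fin.elim0 (h ▸ i)
    have hm : deg i ∈ Finset.univ.image deg := Finset.mem_image_of_mem _ (Finset.mem_univ i)
    obtain ⟨c, hc⟩ := Finset.min_of_mem hm
    simp only [a', if_neg hN, hc]
    exact Finset.min_le_of_eq hm hc
  -- elements of degree `n` among the given ones
  let given : (n : ℤ) → Finset (F.X n) := fun n =>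
    Finset.univ.biUnion fun i : Fin N => if h : deg i = n then {h ▸ f i} else ∅
  -- index sets, built upwards from `a'`
  let J : (k : ℕ) → Finset (Module.Free.ChooseBasisIndex R (F.X (a' + k))) := fun k =>
    Nat.rec (motive := fun k : ℕ => Finset (Module.Free.ChooseBasisIndex R (F.X (a' + k))))
      ((given (a' + (0:ℕ))).biUnion fun x => ((bs _).repr x).support)
      (fun k Jk => ((given (a' + ((k+1 : ℕ) : ℤ))) ∪ Jk.image fun j => F.d (a' + k) _ (bs _ j)).biUnion fun x => ((bs _).repr x).support) k
  let P : (n : ℤ) → Submodule R (F.X n) := fun n =>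
    if h : a' ≤ n then
      (Submodule.span R ((bs (a' + ((n - a').toNat : ℤ))) '' (J (n - a').toNat : Set _))).comap
        (F.XIsoOfEq (show n = a' + ((n - a').toNat : ℤ) by omega)).hom.hom
    else ⊥
  have hmemspan : ∀ (n : ℤ) (s : Finset (Module.Free.ChooseBasisIndex R (F.X n))) (x : F.X n),
      ((bs n).repr x).support ⊆ s → x ∈ Submodule.span R ((bs n) '' (s : Set _)) := fun n s x h =>
    (bs n).mem_span_image.mpr (by exact_mod_cast h)
  have hP_nat : ∀ k : ℕ, P (a' + k) = Submodule.span R ((bs (a' + k)) '' (J k : Set _)) := by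
    intro k
    simp only [P, dif_pos (show a' ≤ a' + (k:ℤ) by omega)]
    have e : ((a' + (k:ℤ) - a').toNat) = k := by omega
    have key : ∀ (m : ℕ) (h : a' + (k:ℤ) = a' + (m:ℤ)), m = k →
        (Submodule.span R ((bs (a' + (m : ℤ))) '' (J m : Set _))).comap (F.XIsoOfEq h).hom.hom =
          Submodule.span R ((bs (a' + k)) '' (J k : Set _)) := by
      intro m h hm
      subst hm
      simp
    exact key _ _ e
  have hgiven : ∀ i, f i ∈ P (deg i) := by
    intro i
    obtain ⟨k, hk⟩ := Int.le.dest (ha' i)
    have key : ∀ (n : ℤ) (h : deg i = n), n = a' + (k:ℤ) → h ▸ f i ∈ P n := by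
      rintro n h rfl
      rw [hP_nat]
      refine hmemspan _ _ _ ?_
      have hm : (h ▸ f i) ∈ given (a' + (k:ℤ)) := Finset.mem_biUnion.mpr ⟨i, Finset.mem_univ _, by simp [h]⟩
      intro j hj
      cases k with
      | zero => exact Finset.mem_biUnion.mpr ⟨_, hm, hj⟩
      | succ k => exact Finset.mem_biUnion.mpr ⟨_, Finset.mem_union_left _ hm, hj⟩
    exact key _ rfl hk.symm
  have hd : ∀ n m (x : F.X n), x ∈ P n → F.d n m x ∈ P m := by
    intro n m x hx
    by_cases hnm : n + 1 = m
    swap
    · rw [F.shape n m hnm]; exact (P m).zero_mem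
    by_cases hn : a' ≤ n
    swap
    · simp only [P, dif_neg hn, Submodule.mem_bot] at hx
      rw [hx, map_zero]; exact (P m).zero_mem
    obtain ⟨k, rfl⟩ := Int.le.dest hn
    obtain rfl : m = a' + ((k + 1 : ℕ) : ℤ) := by omega
    rw [hP_nat] at hx ⊢
    induction hx using Submodule.span_induction with
    | mem y hy =>
      obtain ⟨j, hj, rfl⟩ := hy
      refine hmemspan _ _ _ fun l hl => ?_
      exact Finset.mem_biUnion.mpr ⟨_, Finset.mem_union_right _ (Finset.mem_image_of_mem _ hj), hl⟩
    | zero => simp
    | add y z _ _ hy hz => rw [map_add]; exact Submodule.add_mem _ hy hz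
    | smul r y _ hy => rw [map_smul]; exact Submodule.smul_mem _ r hy
  let G : CochainComplex (ModuleCat.{u} R) ℤ :=
    { X := fun n => ModuleCat.of R (P n)
      d := fun n m => ModuleCat.ofHom ((F.d n m).hom.restrict (hd n m))
      shape := fun n m h => by
        ext ⟨x, hx⟩
        show F.d n m x = 0
        rw [F.shape n m h]; rfl
      d_comp_d' := fun n m l _ _ => by
        ext ⟨x, hx⟩
        show F.d m l (F.d n m x) = 0
        rw [← ModuleCat.comp_apply, F.d_comp_d]; rfl }
  let ι : G ⟶ F := { f := fun n => ModuleCat.ofHom (P n).subtype, comm' := fun n m _ => by ext x; rfl }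
  refine ⟨G, ι, fun n => Subtype.val_injective, ⟨a', b, fun n hn => ?_⟩, fun n => ?_, fun i => ⟨⟨f i, hgiven i⟩, rfl⟩⟩
  · rcases hn with hn | hn
    · haveI : Subsingleton (P n) := by simp only [P, dif_neg (not_le.mpr hn)]; infer_instance
      exact ModuleCat.isZero_of_subsingleton _
    · haveI : Subsingleton (F.X n) := ModuleCat.subsingleton_of_isZero (hb n hn)
      haveI : Subsingleton (P n) := inferInstance
      exact ModuleCat.isZero_of_subsingleton _
  · by_cases hn : a' ≤ n
    · obtain ⟨k, rfl⟩ := Int.le.dest hn
      show Module.Finite R (P _) ∧ Module.Free R (P _)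
      rw [hP_nat]
      have hli : LinearIndependent R (fun j : J k => bs (a' + k) j.1) := (bs _).linearIndependent.comp _ Subtype.val_injective
      have e : Submodule.span R ((bs (a' + k)) '' (J k : Set _)) = Submodule.span R (Set.range fun j : J k => bs (a' + k) j.1) := by
        congr 1; ext y; simp
      rw [e]
      exact ⟨Module.Finite.span_of_finite R (Set.finite_range _), Module.Free.of_basis (Module.Basis.span hli)⟩
    · show Module.Finite R (P n) ∧ Module.Free R (P n)
      rw [show P n = ⊥ from dif_neg hn]
      exact ⟨inferInstance, inferInstance⟩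

end Groth.Agent.S7145
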