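import Groth.Statements.S7146
import Groth.Agent.Lib.HilbertSamuel.Mult

set_option autoImplicit false
universe u
open Filter
open CAlg

namespace Groth.Agent.S7146

/-- Let R be a Noetherian local ring of Krull dimension d and I the ideal generated by a system of
parameters g_1, ..., g_d (d elements of the maximal ideal generating an ideal with radical the
maximal ideal); let e_I be the multiplicity of I, i.e. d! times the top coefficient of the numerical
polynomial n ↦ length(R/I^(n+1)), equivalently the limit of d!·length(R/Iⁿ)/n^d. Then e_I ≤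
length(R/I). (Stated for a natural number e equal to that limit.) -/
theorem result (R : Type u) [CommRing R] [IsNoetherianRing R] [IsLocalRing R]
    (d : ℕ) (hd : ringKrullDim R = d) (g : Fin d → R) (hg : ∀ i, g i ∈ IsLocalRing.maximalIdeal R)
    (hsop : IsLocalRing.maximalIdeal R ≤ (Ideal.span (Set.range g)).radical) (e : ℕ)
    (he : Tendsto (fun n : ℕ => (d.factorial : ℝ) * ((Module.length R (R ⧸ Ideal.span (Set.range g) ^ n)).toNat : ℝ) / (n : ℝ) ^ d)
      atTop (nhds (e : ℝ))) :
    (e : ℕ∞) ≤ Module.length R (R ⧸ Ideal.span (Set.range g)) := by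
  obtain ⟨n, hn⟩ := Ideal.exists_pow_le_of_le_radical_of_fg hsop (IsNoetherian.noetherian _)
  set I := Ideal.span (Set.range g) with hI
  have hM := Lib.HilbertSamuel.Mult.hyp_of_pow_le hn R
  have hb := Lib.HilbertSamuel.Mult.chi_le_choose d g R hM (fun i => Ideal.subset_span ⟨i, rfl⟩) le_rfl
  have hchi : ∀ t, Lib.HilbertSamuel.Basic.chi I R t = (Module.length R (R ⧸ I ^ t)).toNat := by
    intro t
    rw [Lib.HilbertSamuel.Basic.chi, Lib.HilbertSamuel.Basic.len, Ideal.smul_top_eq_map, Algebra.algebraMap_self,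
      Ideal.map_id, Submodule.restrictScalars_self]
  have hlen : Module.length R (R ⧸ I) = (Lib.HilbertSamuel.Basic.chi I R 1 : ℕ∞) := by
    have h1 := Lib.HilbertSamuel.Basic.length_eq_len hM (S := I) (k := 1) (by
      rw [pow_one]; exact Submodule.smul_le.2 fun a ha b _ => Ideal.mul_mem_right b I ha)
    rw [h1, hchi, pow_one, h1, ENat.toNat_natCast]
  rw [hlen]
  have key : (e : ℝ) ≤ (Lib.HilbertSamuel.Basic.chi I R 1 : ℝ) := by
    have hlim : Tendsto (fun t : ℕ => (Lib.HilbertSamuel.Basic.chi I R 1 : ℝ) * (1 + (d : ℝ) / (t : ℝ)) ^ d)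
        atTop (nhds (Lib.HilbertSamuel.Basic.chi I R 1 : ℝ)) := by
      simpa using (((tendsto_const_div_atTop_nhds_zero_nat (d : ℝ)).const_add 1).pow d).const_mul
        (Lib.HilbertSamuel.Basic.chi I R 1 : ℝ)
    refine le_of_tendsto_of_tendsto he hlim ?_
    filter_upwards [eventually_ge_atTop 1] with t ht
    rw [← hchi]
    have h1 : d.factorial * Lib.HilbertSamuel.Basic.chi I R t ≤
        Lib.HilbertSamuel.Basic.chi I R 1 * (t + d) ^ d := by
      calc d.factorial * Lib.HilbertSamuel.Basic.chi I R t
          ≤ d.factorial * (Lib.HilbertSamuel.Basic.chi I R 1 * (t + d - 1).choose d) :=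
            Nat.mul_le_mul_left _ (hb t)
        _ = Lib.HilbertSamuel.Basic.chi I R 1 * (t + d - 1).descFactorial d := by
            rw [Nat.descFactorial_eq_factorial_mul_choose]; ring
        _ ≤ _ := Nat.mul_le_mul_left _ ((Nat.descFactorial_le_pow _ _).trans
            (Nat.pow_le_pow_left (by lia) _))
    have h2 : (t : ℝ) ≠ 0 := by exact_mod_cast (show t ≠ 0 by lia)
    rw [div_le_iff₀ (by positivity), mul_assoc, ← mul_pow, add_mul, one_mul, div_mul_cancel₀ _ h2]
    exact_mod_cast h1
  exact_mod_cast key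

end Groth.Agent.S7146
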