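import Groth.Statements.S7147
import Mathlib.Algebra.Module.FinitePresentation
import Mathlib.LinearAlgebra.Matrix.NonsingularInverse
import Mathlib.LinearAlgebra.Dimension.Finite
import Mathlib.RingTheory.Localization.Away.Basic
-- import your own Groth.Agent.* helpers here

set_option autoImplicit false
universe u
open CAlg

namespace Groth.Agent.S7147

theorem loc_lift {R : Type u} [CommRing R] {M : Type u} [AddCommGroup M] [Module R M]
    [Module.FinitePresentation R M] (f : R) (h : M →ₗ[R] Localization.Away f) :
    ∃ (n : ℕ) (φ : M →ₗ[R] R), ∀ m, algebraMap R (Localization.Away f) (φ m) = f ^ n • h m := by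
  obtain ⟨φ, t, hφ⟩ := Module.FinitePresentation.exists_lift_of_isLocalizedModule
    (Submonoid.powers f) (Algebra.linearMap R (Localization.Away f)) h
  obtain ⟨n, hn⟩ := t.2
  exact ⟨n, φ, fun m => by
    have := LinearMap.congr_fun hφ m
    simp only [LinearMap.comp_apply, Algebra.linearMap_apply, LinearMap.smul_apply] at this
    rw [this, Submonoid.smul_def, ← hn]⟩

/-- Let R be a ring, M a finitely presented R-module and x a maximal ideal of R with residue field κ(x);
write M(x) = M/xM and let B(x) ⊆ M(x) be the orthogonal of the image of Hom_R(M, R) in the dual of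
M(x), i.e. the classes of those m in M with φ(m) in x for every linear form φ on M, and V(x) =
M(x)/B(x). For s_1, ..., s_r in M the following are equivalent: (1) there is f in R, f not in x,
such that the map R_f^r → M_f given by the s_i is the inclusion of a direct summand; (2) the images
of s_1, ..., s_r in V(x) are linearly independent over κ(x). -/
theorem result (R : Type u) [CommRing R] (M : Type u)
    [AddCommGroup M] [Module R M] [Module.FinitePresentation R M] (x : Ideal R) [x.IsMaximal]
    (r : ℕ) (s : Fin r → M) :
    let Mx := M ⧸ (x • ⊤ : Submodule R M)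
    let Bx : Submodule (R ⧸ x) Mx :=
      Submodule.span (R ⧸ x) ((x • ⊤ : Submodule R M).mkQ '' {m : M | ∀ φ : M →ₗ[R] R, φ m ∈ x})
    (∃ f : R, f ∉ x ∧
      ∃ g : LocalizedModule (Submonoid.powers f) M →ₗ[Localization.Away f] (Fin r → Localization.Away f),
        g ∘ₗ Fintype.linearCombination (Localization.Away f)
            (fun i => LocalizedModule.mkLinearMap (Submonoid.powers f) M (s i)) = LinearMap.id) ↔
    LinearIndependent (R ⧸ x) (fun i => Bx.mkQ ((x • ⊤ : Submodule R M).mkQ (s i))) := by
  classical
  intro Mx Bx
  let _ : Field (R ⧸ x) := Ideal.Quotient.field x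
  let q := (x • ⊤ : Submodule R M).mkQ
  have hB : ∀ m : M, Bx.mkQ (q m) = 0 ↔ ∀ φ : M →ₗ[R] R, φ m ∈ x := by
    intro m
    rw [Submodule.mkQ_apply, Submodule.Quotient.mk_eq_zero]
    refine ⟨fun h φ => ?_, fun h => Submodule.subset_span ⟨m, h, rfl⟩⟩
    have hle : (x • ⊤ : Submodule R M) ≤ LinearMap.ker ((Submodule.mkQ x) ∘ₗ φ) := by
      refine Submodule.smul_le.2 fun a ha y _ => ?_
      rw [LinearMap.mem_ker, LinearMap.comp_apply, map_smul, Submodule.mkQ_apply,
        Submodule.Quotient.mk_eq_zero]
      exact x.mul_mem_right _ ha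
    let L : Mx →ₗ[R] R ⧸ x := (x • ⊤ : Submodule R M).liftQ _ hle
    suffices ∀ y ∈ Bx, L y = 0 from (Submodule.Quotient.mk_eq_zero x).1 (this _ h)
    intro y hy
    induction hy using Submodule.span_induction with
    | mem y hy =>
      obtain ⟨m', hm', rfl⟩ := hy
      exact (Submodule.Quotient.mk_eq_zero x).2 (hm' φ)
    | zero => simp
    | add a b _ _ ha hb => simp [map_add, ha, hb]
    | smul a b _ hb =>
      obtain ⟨a, rfl⟩ := Ideal.Quotient.mk_surjective a
      rw [show Ideal.Quotient.mk x a • b = a • b from
        (algebraMap_smul (R ⧸ x) a b), map_smul, hb, smul_zero]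
  have hcomb : ∀ a : Fin r → R, (∑ i, Ideal.Quotient.mk x (a i) • Bx.mkQ (q (s i))) =
      Bx.mkQ (q (∑ i, a i • s i)) := by
    intro a
    rw [map_sum, map_sum]
    refine Finset.sum_congr rfl fun i _ => ?_
    rw [← map_smul]
    congr 1
  constructor
  · rintro ⟨f, hf, g, hg⟩
    rw [Fintype.linearIndependent_iff]
    intro c hc j
    choose a ha using fun i => Ideal.Quotient.mk_surjective (c i)
    obtain ⟨N, φ, hφ⟩ := loc_lift f
      ((LinearMap.proj j ∘ₗ g).restrictScalars R ∘ₗ LocalizedModule.mkLinearMap (Submonoid.powers f) M)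
    have hs : ∀ i, g (LocalizedModule.mkLinearMap (Submonoid.powers f) M (s i)) = Pi.single i 1 := by
      intro i
      have := LinearMap.congr_fun hg (Pi.single i 1)
      simpa [Fintype.linearCombination_apply, Pi.single_apply] using this
    have hφs : ∀ i, φ (s i) - (if i = j then f ^ N else 0) ∈ x := by
      intro i
      have h1 : algebraMap R (Localization.Away f) (φ (s i)) =
          algebraMap R (Localization.Away f) (if i = j then f ^ N else 0) := by
        rw [hφ]
        show f ^ N • g (LocalizedModule.mkLinearMap (Submonoid.powers f) M (s i)) j = _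
        rw [hs, Algebra.smul_def]
        split_ifs with h
        · subst h; simp
        · simp [Pi.single_eq_of_ne (Ne.symm h)]
      obtain ⟨⟨_, l, rfl⟩, hl⟩ := (IsLocalization.eq_iff_exists (Submonoid.powers f) _).1 h1
      have hz : f ^ l * (φ (s i) - (if i = j then f ^ N else 0)) ∈ x := by
        rw [mul_sub, hl, sub_self]; exact zero_mem _
      exact ((Ideal.IsMaximal.isPrime inferInstance).mem_or_mem hz).resolve_left
        (fun h => hf ((Ideal.IsMaximal.isPrime inferInstance).mem_of_pow_mem l h))
    have hsum : φ (∑ i, a i • s i) ∈ x := by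
      refine (hB _).1 ?_ φ
      rw [← hcomb, ← hc]; simp only [ha]; rfl
    have : a j * f ^ N ∈ x := by
      have h2 : φ (∑ i, a i • s i) - a j * f ^ N =
          ∑ i, a i * (φ (s i) - (if i = j then f ^ N else 0)) := by
        simp [map_sum, mul_sub, mul_ite]
      have := sub_mem hsum (h2 ▸ Submodule.sum_mem x fun i _ => x.mul_mem_left (a i) (hφs i) :
        φ (∑ i, a i • s i) - a j * f ^ N ∈ x)
      rwa [sub_sub_cancel] at this
    rw [← ha j, Ideal.Quotient.eq_zero_iff_mem]
    exact ((Ideal.IsMaximal.isPrime inferInstance).mem_or_mem this).resolve_right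
      (fun h => hf ((Ideal.IsMaximal.isPrime inferInstance).mem_of_pow_mem N h))
  · intro hli
    rw [Fintype.linearIndependent_iff] at hli
    let Ev : (M →ₗ[R] R) →ₗ[R] (Fin r → R ⧸ x) :=
      { toFun := fun φ i => Ideal.Quotient.mk x (φ (s i))
        map_add' := fun a b => by funext i; simp
        map_smul' := fun a b => by
          funext i
          show Ideal.Quotient.mk x (a * b (s i)) = a • Ideal.Quotient.mk x (b (s i))
          rw [map_mul, Algebra.smul_def]; rfl }
    let W : Submodule (R ⧸ x) (Fin r → R ⧸ x) :=
      { LinearMap.range Ev with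
        smul_mem' := fun a b hb => by
          obtain ⟨a, rfl⟩ := Ideal.Quotient.mk_surjective a
          rw [show Ideal.Quotient.mk x a • b = a • b from algebraMap_smul (R ⧸ x) a b]
          exact (LinearMap.range Ev).smul_mem a hb }
    have hW : W = ⊤ := by
      by_contra hne
      obtain ⟨L, hL0, hL⟩ := Submodule.exists_le_ker_of_lt_top W (lt_top_iff_ne_top.2 hne)
      apply hL0
      choose a ha using fun i => Ideal.Quotient.mk_surjective (L (Pi.single i 1))
      have hz : ∀ i, L (Pi.single i 1) = 0 := by
        refine hli _ ?_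
        have h := (hB (∑ i, a i • s i)).2 fun φ => by
          rw [← Ideal.Quotient.eq_zero_iff_mem]
          have : L (Ev φ) = 0 := hL ⟨φ, rfl⟩
          rw [pi_eq_sum_univ' (Ev φ), map_sum] at this
          rw [← this, map_sum, map_sum]
          refine Finset.sum_congr rfl fun i _ => ?_
          rw [map_smul L, ← ha i, smul_eq_mul, map_smul φ, smul_eq_mul, map_mul, mul_comm]
          rfl
        rw [← hcomb] at h; simpa only [ha] using h
      refine LinearMap.pi_ext' fun i => LinearMap.ext_ring ?_
      simpa using hz i
    have hmem : ∀ j, (Pi.single j 1 : Fin r → R ⧸ x) ∈ LinearMap.range Ev := fun j =>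
      show Pi.single j 1 ∈ W by rw [hW]; trivial
    choose φ hφ using hmem
    let A : Matrix (Fin r) (Fin r) R := Matrix.of fun i j => φ j (s i)
    have hA : (Ideal.Quotient.mk x).mapMatrix A = 1 := by
      refine Matrix.ext fun i j => ?_
      show Ideal.Quotient.mk x (φ j (s i)) = _
      rw [show Ideal.Quotient.mk x (φ j (s i)) = Ev (φ j) i from rfl, hφ, Matrix.one_apply]
      simp [Pi.single_apply, eq_comm]
    have hdet : A.det ∉ x := by
      rw [← Ideal.Quotient.eq_zero_iff_mem, RingHom.map_det, hA, Matrix.det_one]
      exact one_ne_zero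
    refine ⟨A.det, hdet, ?_⟩
    let Af : Matrix (Fin r) (Fin r) (Localization.Away A.det) := (algebraMap R _).mapMatrix A
    have hu : IsUnit Af.det := by
      rw [← RingHom.map_det]; exact IsLocalization.Away.algebraMap_isUnit A.det
    let g0 : M →ₗ[R] (Fin r → Localization.Away A.det) :=
      (Matrix.vecMulLinear Af⁻¹).restrictScalars R ∘ₗ
        LinearMap.pi (fun j => Algebra.linearMap R _ ∘ₗ φ j)
    have hunit : ∀ t : Submonoid.powers A.det,
        IsUnit (algebraMap R (Module.End R (Fin r → Localization.Away A.det)) t) := by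
      intro t
      have hu' : IsUnit (algebraMap R (Localization.Away A.det) t) :=
        IsLocalization.map_units (Localization.Away A.det) t
      have := (hu'.map (algebraMap (Localization.Away A.det)
        (Module.End (Localization.Away A.det) (Fin r → Localization.Away A.det))))
      rw [Module.End.isUnit_iff] at this ⊢
      convert this using 1
      funext v
      exact (algebraMap_smul (Localization.Away A.det) (t : R) v).symm
    let g1 := IsLocalizedModule.lift (Submonoid.powers A.det)
      (LocalizedModule.mkLinearMap (Submonoid.powers A.det) M) g0 hunit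
    refine ⟨g1.extendScalarsOfIsLocalization (Submonoid.powers A.det) _, ?_⟩
    refine LinearMap.pi_ext' fun i => LinearMap.ext_ring ?_
    simp only [LinearMap.comp_apply, LinearMap.single_apply, LinearMap.id_apply]
    rw [Fintype.linearCombination_apply_single, one_smul]
    show g1 (LocalizedModule.mkLinearMap (Submonoid.powers A.det) M (s i)) = _
    rw [IsLocalizedModule.lift_apply]
    show Matrix.vecMul (fun j => algebraMap R _ (φ j (s i))) Af⁻¹ = _
    rw [show (fun j => algebraMap R _ (φ j (s i))) = Matrix.vecMul (Pi.single i 1) Af by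
      rw [Matrix.single_one_vecMul]; rfl, Matrix.vecMul_vecMul, Matrix.mul_nonsing_inv _ hu,
      Matrix.vecMul_one]

end Groth.Agent.S7147
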