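import Groth.Statements.S7148
import Groth.Agent.H25.ExtAR
-- import your own Groth.Agent.* helpers here

set_option autoImplicit false
universe u
open CategoryTheory
attribute [local instance] HasDerivedCategory.standard
open CAlg

namespace Groth.Agent.S7148

open CategoryTheory

/-- Let A be a Noetherian ring, I an ideal, M a finite A-module and N any A-module. For every p > 0
there is c ≥ 0 such that for all n ≥ c the map Ext^p_A(M, N) → Ext^p_A(IⁿM, N) factors through
Ext^p_A(IⁿM, I^(n-c)N) → Ext^p_A(IⁿM, N). Here Ext^p(X, Y) is the group of morphisms X → Y[p] in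
D(A). -/
theorem result (A : Type u) [CommRing A] [IsNoetherianRing A] (I : Ideal A)
    (M N : Type u) [AddCommGroup M] [Module A M] [Module.Finite A M] [AddCommGroup N] [Module A N]
    (p : ℕ) (hp : 0 < p) :
    ∃ c : ℕ, ∀ n : ℕ, c ≤ n →
      ∀ e : Dual.inD A M ⟶ (Dual.inD A N)⟦(p : ℤ)⟧,
        ∃ e' : Dual.inD A ↥(I ^ n • ⊤ : Submodule A M) ⟶ (Dual.inD A ↥(I ^ (n - c) • ⊤ : Submodule A N))⟦(p : ℤ)⟧,
          e' ≫ ((DerivedCategory.singleFunctor (ModuleCat.{u} A) 0).map
                  (ModuleCat.ofHom (I ^ (n - c) • ⊤ : Submodule A N).subtype))⟦(p : ℤ)⟧' =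
            (DerivedCategory.singleFunctor (ModuleCat.{u} A) 0).map
                (ModuleCat.ofHom (I ^ n • ⊤ : Submodule A M).subtype) ≫ e := by
  obtain ⟨c, hc⟩ := H25.ExtAR.main A I p M N
  refine ⟨c, fun n hn e => ?_⟩
  obtain ⟨e', he'⟩ := hc n hn (Abelian.Ext.homEquiv.symm e)
  refine ⟨e'.hom, ?_⟩
  rw [Abelian.Ext.hom_comp_singleFunctor_map_shift, he']
  erw [← Abelian.Ext.singleFunctor_map_comp_hom]
  congr 1
  exact Abelian.Ext.homEquiv.apply_symm_apply e

end Groth.Agent.S7148
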