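import Groth.Statements.S7150
import Groth.Agent.Lib.PBasis.FieldSmooth

set_option autoImplicit false
universe u
open EtAlg

namespace Groth.Agent.S7150

/-- Suppose p is a prime with p·1 = 0 in the local ring A and some power of the maximal ideal of A is
zero. Then the residue map A → κ_A has a section σ : κ_A → A that is a ring map. If moreover A → A'
is a local homomorphism to another local ring whose maximal ideal has a vanishing power, and the
residue field extension κ_{A'}/κ_A is separable (possibly transcendental, i.e. geometrically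
reduced), then for any such σ there is a section σ' : κ_{A'} → A' compatible with σ. -/
theorem result (p : ℕ) (hp : p.Prime) (A : Type u) [CommRing A]
    [IsLocalRing A] [CharP A p] (hnil : ∃ n : ℕ, IsLocalRing.maximalIdeal A ^ n = ⊥) :
    (∃ σ : IsLocalRing.ResidueField A →+* A, (IsLocalRing.residue A).comp σ = RingHom.id _) ∧
    ∀ (A' : Type u) [CommRing A'] [IsLocalRing A'] [Algebra A A'] [IsLocalHom (algebraMap A A')],
      (∃ n : ℕ, IsLocalRing.maximalIdeal A' ^ n = ⊥) →
      Algebra.IsGeometricallyReduced (IsLocalRing.ResidueField A) (IsLocalRing.ResidueField A') →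
      ∀ σ : IsLocalRing.ResidueField A →+* A, (IsLocalRing.residue A).comp σ = RingHom.id _ →
        ∃ σ' : IsLocalRing.ResidueField A' →+* A', (IsLocalRing.residue A').comp σ' = RingHom.id _ ∧
          σ'.comp (IsLocalRing.ResidueField.map (algebraMap A A')) = (algebraMap A A').comp σ := by
  classical
  have := Fact.mk hp
  have key : ∀ (P : Type u) [Field P] (B : Type u) [CommRing B] [IsLocalRing B] [Algebra P B],
      (∃ n : ℕ, IsLocalRing.maximalIdeal B ^ n = ⊥) → Algebra.FormallySmooth P (IsLocalRing.ResidueField B) →
      ∃ σ : IsLocalRing.ResidueField B →+* B, (IsLocalRing.residue B).comp σ = RingHom.id _ ∧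
        σ.comp (algebraMap P (IsLocalRing.ResidueField B)) = algebraMap P B := by
    intro P _ B _ _ _ hn hs
    obtain ⟨n, hn⟩ := hn
    obtain ⟨σ, hσ⟩ := Algebra.FormallySmooth.exists_lift (IsLocalRing.maximalIdeal B) ⟨n, hn⟩
      ({ toRingHom := RingHom.id _, commutes' := fun _ => rfl } : IsLocalRing.ResidueField B →ₐ[P] B ⧸ IsLocalRing.maximalIdeal B)
    exact ⟨σ.toRingHom, RingHom.ext fun x => AlgHom.congr_fun hσ x, RingHom.ext σ.commutes⟩
  refine ⟨?_, fun A' _ _ _ _ hnil' hg σ hσ => ?_⟩
  · let P := ULift.{u} (ZMod p)
    have : CharP (IsLocalRing.ResidueField A) p := by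
      refine (CharP.charP_iff_prime_eq_zero hp).2 ?_
      rw [← map_natCast (IsLocalRing.residue A), CharP.cast_eq_zero, map_zero]
    let : Algebra P A := ((ZMod.castHom (dvd_refl p) A).comp (ULift.ringEquiv : P ≃+* ZMod p).toRingHom).toAlgebra
    haveI : CharP P p := charP_of_injective_ringHom
      (f := (ULift.ringEquiv : P ≃+* ZMod p).symm.toRingHom) (RingEquiv.injective _) p
    haveI : Finite P := Finite.of_equiv (ZMod p) Equiv.ulift.symm
    haveI : PerfectRing P p := PerfectRing.ofFiniteOfIsReduced p P
    obtain ⟨σ, hσ, -⟩ := key P A hnil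
      (Groth.Agent.Lib.PBasis.Separable.formallySmooth_of_perfect_charP (IsLocalRing.ResidueField A) p P)
    exact ⟨σ, hσ⟩
  · let : Algebra (IsLocalRing.ResidueField A) A' := ((algebraMap A A').comp σ).toAlgebra
    have hmap : algebraMap (IsLocalRing.ResidueField A) (IsLocalRing.ResidueField A') =
        IsLocalRing.ResidueField.map (algebraMap A A') := by
      refine Ideal.Quotient.ringHom_ext (RingHom.ext fun a => ?_)
      rfl
    have hres : ∀ x, IsLocalRing.residue A' (algebraMap A A' (σ x)) =
        IsLocalRing.ResidueField.map (algebraMap A A') x := fun x => by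
      rw [← IsLocalRing.ResidueField.map_residue, show IsLocalRing.residue A (σ x) = x from RingHom.congr_fun hσ x]
    obtain ⟨n, hn⟩ := hnil'
    have hs := (Groth.Agent.Lib.PBasis.FieldSmooth.formallySmooth_iff_isGeometricallyReduced
      (k := IsLocalRing.ResidueField A) (K := IsLocalRing.ResidueField A')).2 hg
    let L := A' ⧸ IsLocalRing.maximalIdeal A'
    let f : IsLocalRing.ResidueField A' →ₐ[IsLocalRing.ResidueField A] L :=
      { toRingHom := RingHom.id _
        commutes' := fun x => by
          show algebraMap (IsLocalRing.ResidueField A) (IsLocalRing.ResidueField A') x =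
            IsLocalRing.residue A' (algebraMap A A' (σ x))
          rw [hres, hmap] }
    obtain ⟨τ, hτ⟩ := Algebra.FormallySmooth.exists_lift (IsLocalRing.maximalIdeal A') ⟨n, hn⟩ f
    refine ⟨τ.toRingHom, RingHom.ext fun x => AlgHom.congr_fun hτ x, ?_⟩
    rw [← hmap]
    exact RingHom.ext τ.commutes

end Groth.Agent.S7150
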