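import Groth.Statements.S7152
import Groth.Agent.H15.GlueRing

set_option autoImplicit false
universe u
open EtAlg

namespace Groth.Agent.S7152

/-- Let A' ⊆ A be an extension of rings and f an element of A'. Assume A is finite over A', f is a
nonzerodivisor on A, and A'_f = A_f. Then there is n₀ > 0 such that for all n ≥ n₀ the following
holds: given a ring B', a nonzerodivisor g of B' and an isomorphism φ' : A'/fⁿA' → B'/gⁿB' sending
the class of f to the class of g, one can find a ring B containing B' as a subring and finite as a
B'-module, together with a ring isomorphism φ : A/fA → B/gB that agrees with φ' (i.e. the square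
formed by the maps A'/fⁿA' → A/fA and B'/gⁿB' → B/gB commutes). -/
theorem result (A' A : Type u) [CommRing A'] [CommRing A] [Algebra A' A]
    (hinj : Function.Injective (algebraMap A' A)) [Module.Finite A' A] (f : A')
    (hf : algebraMap A' A f ∈ nonZeroDivisors A)
    (hloc : Function.Bijective (IsLocalization.Away.map (Localization.Away f)
      (Localization.Away (algebraMap A' A f)) (algebraMap A' A) f)) :
    ∃ n₀ : ℕ, 0 < n₀ ∧ ∀ n : ℕ, n₀ ≤ n →
      ∀ (B' : Type u) [CommRing B'] (g : B'), g ∈ nonZeroDivisors B' →
        ∀ φ' : (A' ⧸ Ideal.span {f ^ n}) ≃+* (B' ⧸ Ideal.span {g ^ n}),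
        φ' (Ideal.Quotient.mk (Ideal.span {f ^ n}) f) = Ideal.Quotient.mk (Ideal.span {g ^ n}) g →
        ∃ (B : Type u) (_ : CommRing B) (_ : Algebra B' B),
          Function.Injective (algebraMap B' B) ∧ Module.Finite B' B ∧
          ∃ φ : (A ⧸ Ideal.span {algebraMap A' A f}) ≃+* (B ⧸ Ideal.span {algebraMap B' B g}),
            ∀ (a' : A') (b' : B'),
              φ' (Ideal.Quotient.mk (Ideal.span {f ^ n}) a') = Ideal.Quotient.mk (Ideal.span {g ^ n}) b' →
              φ (Ideal.Quotient.mk (Ideal.span {algebraMap A' A f}) (algebraMap A' A a')) =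
                Ideal.Quotient.mk (Ideal.span {algebraMap B' B g}) (algebraMap B' B b') := by
  exact Groth.Agent.H15.GlueRing.main A' A hinj f hf hloc

end Groth.Agent.S7152
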