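import Groth.Statements.S7153
import Groth.Agent.H22.AdicIso

set_option autoImplicit false
universe u
open CAlg

namespace Groth.Agent.S7153

/-- Let A be a Noetherian ring, I an ideal and K → L → M a complex of finite A-modules with maps α, β
and homology H = Ker β / Im α; for n ≥ 0 let H_n be the homology of the induced complex K/IⁿK →
L/IⁿL → M/IⁿM, which is β⁻¹(IⁿM)/(Im α + IⁿL). Then there is c > 0 such that for every n: (i) the
image of H_(n+c) → H_n is contained in, hence equal to, the image of H → H_n; (ii) the kernel and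
the cokernel of H/IⁿH → H_n are annihilated by I^c. Everything is phrased with representatives in L. -/
theorem result (A : Type u) [CommRing A] [IsNoetherianRing A] (I : Ideal A)
    (K L M : Type u) [AddCommGroup K] [Module A K] [Module.Finite A K] [AddCommGroup L] [Module A L]
    [Module.Finite A L] [AddCommGroup M] [Module A M] [Module.Finite A M]
    (α : K →ₗ[A] L) (β : L →ₗ[A] M) (hαβ : β ∘ₗ α = 0) :
    ∃ c : ℕ, 0 < c ∧ ∀ n : ℕ,
      (∀ y ∈ (I ^ (n + c) • ⊤ : Submodule A M).comap β,
        ∃ z ∈ LinearMap.ker β, y - z ∈ LinearMap.range α ⊔ (I ^ n • ⊤ : Submodule A L)) ∧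
      (∀ z ∈ LinearMap.ker β, z ∈ LinearMap.range α ⊔ (I ^ n • ⊤ : Submodule A L) →
        ∀ a ∈ I ^ c, a • z ∈ LinearMap.range α ⊔ I ^ n • LinearMap.ker β) ∧
      (∀ y ∈ (I ^ n • ⊤ : Submodule A M).comap β, ∀ a ∈ I ^ c,
        ∃ z ∈ LinearMap.ker β, a • y - z ∈ LinearMap.range α ⊔ (I ^ n • ⊤ : Submodule A L)) := by
  exact H22.AdicIso.artinRees_homology I K L M α β hαβ

end Groth.Agent.S7153
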