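import Groth.Statements.S7157
import Groth.Agent.H48.TotRam
import Mathlib.RingTheory.Polynomial.Eisenstein.Basic
import Mathlib.RingTheory.Polynomial.GaussLemma
import Mathlib.RingTheory.AdjoinRoot
import Mathlib.FieldTheory.Perfect

set_option autoImplicit false
universe u
open EtAlg

namespace Groth.Agent.S7157

open Polynomial IsLocalRing Groth.Agent.H48

theorem exists_dominating {A K L : Type u} [CommRing A] [IsDomain A] [IsDiscreteValuationRing A] [Field K]
    [Algebra A K] [IsFractionRing A K] [Field L] [Algebra K L] :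
    ∃ V : ValuationSubring L, EtRam.Dominates A ((algebraMap K L).comp (algebraMap A K)) V := by
  let V₀ : ValuationSubring K :=
    { (algebraMap A K).range with
      mem_or_inv_mem' := fun y => ValuationRing.isInteger_or_isInteger _ y }
  obtain ⟨W, hW⟩ := DomVal.exists_comap_eq (algebraMap K L) V₀
  refine ⟨W, ?_⟩
  rw [← DomVal.dominates_comap_iff, hW]
  refine ⟨fun b => ⟨b, rfl⟩, fun b hb => ?_⟩
  refine (ValuationSubring.valuation_lt_one_iff V₀ ⟨_, ⟨b, rfl⟩⟩).1 ((mem_maximalIdeal _).2 fun hu => ?_)
  obtain ⟨⟨_, c, rfl⟩, hc⟩ := hu.exists_right_inv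
  refine (mem_maximalIdeal _).1 hb (IsUnit.of_mul_eq_one c (IsFractionRing.injective A K ?_))
  rw [map_mul, map_one]; exact congrArg Subtype.val hc

/-- Let A be a discrete valuation ring, π a uniformizer, K its field of fractions, and suppose the
residue field of A has characteristic p > 0. For every n > 1 and every power q of p there is a
separable degree-q extension L/K that is totally ramified with respect to A and whose ring of
integers B (the integral closure of A in L) contains elements π_B, b, b' with π_B^q = π + πⁿ·b and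
π_B^q = π + π_B^(nq)·b' (π_B is then a uniformizer of B and the ramification index is q). -/
theorem result (p : ℕ) (hp : p.Prime) (A K : Type u)
    [CommRing A] [IsDomain A] [IsDiscreteValuationRing A] [Field K] [Algebra A K] [IsFractionRing A K]
    [CharP (IsLocalRing.ResidueField A) p] (π : A) (hπ : IsLocalRing.maximalIdeal A = Ideal.span {π})
    (n : ℕ) (hn : 1 < n) (k : ℕ) :
    ∃ (L : Type u) (_ : Field L) (_ : Algebra K L) (_ : Algebra A L) (_ : IsScalarTower A K L),
      Module.finrank K L = p ^ k ∧ Algebra.IsSeparable K L ∧ EtRam.IsTotallyRamified A (algebraMap A L) ∧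
      ∃ πB b b' : L, πB ∈ integralClosure A L ∧ b ∈ integralClosure A L ∧ b' ∈ integralClosure A L ∧
        πB ^ (p ^ k) = algebraMap A L π + algebraMap A L π ^ n * b ∧
        πB ^ (p ^ k) = algebraMap A L π + πB ^ (n * p ^ k) * b' := by
  classical
  have hπ' : Irreducible π := (IsDiscreteValuationRing.irreducible_iff_uniformizer π).2 hπ
  rcases Nat.eq_zero_or_pos k with rfl | hk
  · refine ⟨K, inferInstance, inferInstance, inferInstance, inferInstance, by simp, inferInstance, ?_,
      algebraMap A K π, 0, 0, isIntegral_algebraMap, zero_mem _, zero_mem _, by simp, by simp⟩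
    have := FSExt.isTotallyRamified_of_uniformizer (A := A) (K := K) (L := K) one_pos hπ' (Module.finrank_self K)
      exists_dominating (algebraMap A K π) fun V hV => by
        refine ⟨RingHom.codRestrict _ V hV.1 π, 1, rfl, ?_, by rw [Units.val_one, one_mul, pow_one]⟩
        haveI : IsDiscreteValuationRing V := FSExt.isDVR V hV
        letI : Algebra A V := (RingHom.codRestrict _ V hV.1).toAlgebra
        haveI : IsLocalHom (algebraMap A V) := DomVal.isLocalHom_of_dominates hV
        obtain ⟨τ, hτ⟩ := IsDiscreteValuationRing.exists_irreducible V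
        obtain ⟨h0, u, hu⟩ := DVRExt.exists_unit_mul_pow (A := A) (B := V)
          (fun a b h => IsFractionRing.injective A K (congrArg Subtype.val h)) hπ' hτ
        have h1 := FSExt.ramificationIdx_le_finrank (B := A) (L := K) V hV
        rw [Module.finrank_self] at h1
        change Irreducible (algebraMap A V π)
        rw [hu, le_antisymm h1 (Nat.one_le_iff_ne_zero.2 h0), pow_one]
        exact (irreducible_units_mul u).2 hτ
    rwa [Algebra.algebraMap_self, RingHom.id_comp] at this
  set q := p ^ k with hqdef
  have hq1 : 1 < q := Nat.one_lt_pow hk.ne' hp.one_lt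
  let f : A[X] := X ^ q + (C (π ^ n) * X + C (-π))
  have hdeg : (C (π ^ n) * X + C (-π)).degree < (q : WithBot ℕ) :=
    lt_of_le_of_lt degree_linear_le (by exact_mod_cast hq1)
  have hfm : f.Monic := monic_X_pow_add hdeg
  have hfd : f.natDegree = q := natDegree_eq_of_degree_eq_some (by
    rw [show f = X ^ q + (C (π ^ n) * X + C (-π)) from rfl, degree_add_eq_left_of_degree_lt (by rw [degree_X_pow]; exact hdeg),
      degree_X_pow])
  have hirr : Irreducible f := by
    refine Polynomial.IsEisensteinAt.irreducible (𝓟 := maximalIdeal A) ⟨?_, ?_, ?_⟩ inferInstance hfm.isPrimitive (by omega)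
    · rw [hfm.leadingCoeff]; exact fun h => (maximalIdeal.isMaximal A).ne_top ((Ideal.eq_top_iff_one _).2 h)
    · intro i hi
      rw [hfd] at hi
      simp only [f, coeff_add, coeff_X_pow, coeff_C_mul, coeff_X, coeff_C]
      rw [if_neg (ne_of_lt hi), zero_add]
      refine add_mem (Ideal.mul_mem_right _ _ (Ideal.pow_mem_of_mem _ hπ'.not_isUnit n (by omega))) ?_
      split_ifs
      · exact neg_mem hπ'.not_isUnit
      · exact zero_mem _
    · simp only [f, coeff_add, coeff_X_pow, coeff_C_mul, coeff_X, coeff_C]
      rw [if_neg (by omega), if_neg (by omega), mul_zero, zero_add, zero_add, if_true, neg_mem_iff, hπ, Ideal.span_singleton_pow,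
        Ideal.mem_span_singleton]
      intro h
      have := (pow_dvd_pow_iff hπ'.ne_zero hπ'.not_isUnit (m := 1) (n := 2)).1 (by simpa using h)
      omega
  have hfK : Irreducible (f.map (algebraMap A K)) := (hfm.irreducible_iff_irreducible_map_fraction_map).1 hirr
  haveI : Fact (Irreducible (f.map (algebraMap A K))) := ⟨hfK⟩
  let L := AdjoinRoot (f.map (algebraMap A K))
  haveI : IsScalarTower A K L := IsScalarTower.of_algebraMap_eq fun _ => rfl
  have hfr : Module.finrank K L = q := by
    rw [(AdjoinRoot.powerBasis hfK.ne_zero).finrank, AdjoinRoot.powerBasis_dim, hfm.natDegree_map, hfd]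
  haveI : FiniteDimensional K L := Module.finite_of_finrank_pos (by rw [hfr]; omega)
  have hsep : (f.map (algebraMap A K)).Separable := by
    rw [separable_iff_derivative_ne_zero hfK]
    intro h
    have h0 := congrArg (fun P => coeff P 0) h
    simp only [derivative_map, coeff_map, coeff_derivative, f, coeff_add, coeff_X_pow, coeff_C_mul, coeff_X, coeff_C,
      coeff_zero] at h0
    rw [if_neg (by omega)] at h0
    simp [hπ'.ne_zero] at h0
  haveI : Algebra.IsSeparable K L := by
    haveI : IsSeparable K (AdjoinRoot.root (f.map (algebraMap A K))) := hsep.of_dvd (minpoly.dvd _ _ (by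
      rw [AdjoinRoot.aeval_eq, AdjoinRoot.mk_self]))
    haveI := (IntermediateField.isSeparable_adjoin_simple_iff_isSeparable K L).2 this
    suffices hT : IntermediateField.adjoin K {AdjoinRoot.root (f.map (algebraMap A K))} = ⊤ from
      AlgEquiv.Algebra.isSeparable ((IntermediateField.equivOfEq hT).trans IntermediateField.topEquiv)
    refine eq_top_iff.2 fun x _ => ?_
    have hx : x ∈ Algebra.adjoin K {AdjoinRoot.root (f.map (algebraMap A K))} := by
      rw [AdjoinRoot.adjoinRoot_eq_top]; trivial
    exact IntermediateField.algebra_adjoin_le_adjoin K _ hx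
  set ρ : L := AdjoinRoot.root (f.map (algebraMap A K)) with hρdef
  have hρ : ρ ^ q = algebraMap A L π + algebraMap A L π ^ n * (-ρ) := by
    have h := AdjoinRoot.eval₂_root (f.map (algebraMap A K))
    rw [eval₂_map] at h
    simp only [f, eval₂_add, eval₂_X_pow, eval₂_mul, eval₂_C, eval₂_X] at h
    change ρ ^ q + (algebraMap A L (π ^ n) * ρ + algebraMap A L (-π)) = 0 at h
    rw [map_pow, map_neg] at h
    linear_combination h
  have hρint : IsIntegral A ρ := ⟨f, hfm, by
    have h := AdjoinRoot.eval₂_root (f.map (algebraMap A K))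
    rwa [eval₂_map] at h⟩
  have key : ∀ (V : ValuationSubring L) (hV : EtRam.Dominates A ((algebraMap K L).comp (algebraMap A K)) V),
      ∃ (r : V) (u : Vˣ), (r : L) = ρ ∧ Irreducible r ∧ RingHom.codRestrict _ V hV.1 π = u * r ^ q ∧
        IsUnit (1 - RingHom.codRestrict _ V hV.1 π ^ (n - 1) * r) := by
    intro V hV
    haveI : IsDiscreteValuationRing V := FSExt.isDVR V hV
    letI : Algebra A V := (RingHom.codRestrict _ V hV.1).toAlgebra
    haveI : IsScalarTower A V L := IsScalarTower.of_algebraMap_eq fun _ => rfl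
    haveI : IsLocalHom (algebraMap A V) := DomVal.isLocalHom_of_dominates hV
    obtain ⟨r, hr⟩ := IsIntegrallyClosed.isIntegral_iff.1 (hρint.tower_top (A := V))
    have hr' : (r : L) = ρ := hr
    have hinj : Function.Injective (algebraMap A V) := fun a b h => IsFractionRing.injective A K
      ((algebraMap K L).injective (congrArg Subtype.val h))
    obtain ⟨τ, hτ⟩ := IsDiscreteValuationRing.exists_irreducible V
    obtain ⟨h0, u, hu⟩ := DVRExt.exists_unit_mul_pow hinj hπ' hτ
    have he := FSExt.ramificationIdx_le_finrank (B := A) (L := K) V hV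
    rw [hfr] at he
    set e := Ideal.ramificationIdx' (maximalIdeal A) (maximalIdeal V)
    have hnm : algebraMap A V π ^ (n - 1) * r ∈ maximalIdeal V :=
      Ideal.mul_mem_right _ _ (Ideal.pow_mem_of_mem _ (map_nonunit _ _ hπ'.not_isUnit) _ (by omega))
    have hunit : IsUnit (1 - algebraMap A V π ^ (n - 1) * r) :=
      IsLocalRing.isUnit_one_sub_self_of_mem_nonunits _ hnm
    have hrq : r ^ q = algebraMap A V π * (1 - algebraMap A V π ^ (n - 1) * r) := Subtype.ext (by
      push_cast
      show (r : L) ^ q = algebraMap A L π * (1 - algebraMap A L π ^ (n - 1) * r)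
      rw [hr', hρ]
      conv_lhs => rw [← Nat.sub_add_cancel (by omega : 1 ≤ n), pow_succ]
      ring)
    have hrm : ¬ IsUnit r := fun h => (mem_maximalIdeal _).1 (show r ^ q ∈ maximalIdeal V by
      rw [hrq]; exact Ideal.mul_mem_right _ _ (map_nonunit _ _ hπ'.not_isUnit)) (h.pow q)
    have hr0 : r ≠ 0 := fun h => by
      have hne := hunit.ne_zero
      rw [h] at hne
      rw [h, zero_pow (by omega), eq_comm, mul_eq_zero] at hrq
      exact hrq.elim ((map_ne_zero_iff _ hinj).2 hπ'.ne_zero) hne
    obtain ⟨m, w, hm⟩ := IsDiscreteValuationRing.eq_unit_mul_pow_irreducible hr0 hτ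
    have hme : m * q = e := by
      refine IsDiscreteValuationRing.unit_mul_pow_congr_pow hτ hτ (w ^ q) (u * hunit.unit) _ _ ?_
      push_cast [IsUnit.unit_spec]
      rw [pow_mul, ← mul_pow, ← hm, hrq, hu]; ring
    have hm1 : m = 1 := by
      have hm0 : m ≠ 0 := fun h => hrm (by rw [hm, h, pow_zero, mul_one]; exact w.isUnit)
      by_contra h
      have : 2 * q ≤ m * q := Nat.mul_le_mul_right q (by omega)
      omega
    refine ⟨r, hunit.unit⁻¹, hr', ?_, ?_, hunit⟩
    · rw [hm, hm1, pow_one]; exact (irreducible_units_mul w).2 hτ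
    · show algebraMap A V π = _
      rw [hrq, mul_comm (algebraMap A V π), ← mul_assoc, IsUnit.val_inv_mul, one_mul]
  refine ⟨L, inferInstance, inferInstance, inferInstance, inferInstance, hfr, inferInstance, ?_, ?_⟩
  · rw [IsScalarTower.algebraMap_eq A K L]
    exact FSExt.isTotallyRamified_of_uniformizer (by omega) hπ' hfr exists_dominating ρ fun V hV => by
        obtain ⟨r, u, h1, h2, h3, -⟩ := key V hV
        exact ⟨r, u, h1, h2, h3⟩
  obtain ⟨V, hV⟩ := exists_dominating (A := A) (K := K) (L := L)
  obtain ⟨r, u, hr, -, -, hunit⟩ := key V hV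
  have huniq : ∀ V', EtRam.Dominates A ((algebraMap K L).comp (algebraMap A K)) V' → V' = V := fun V' hV' =>
    (FSExt.isTotallyRamified_of_uniformizer (by omega) hπ' hfr exists_dominating ρ fun V hV => by
      obtain ⟨r, u, h1, h2, h3, -⟩ := key V hV
      exact ⟨r, u, h1, h2, h3⟩).2.1 V' V hV' hV
  -- the unit is integral over `A`
  have hv : IsIntegral A ((hunit.unit⁻¹ : Vˣ) : V).1 := by
    let R : Subring L := Subring.closure (Set.range (algebraMap A L))
    suffices h : ((hunit.unit⁻¹ : Vˣ) : V).1 ∈ (integralClosure R L).toSubring by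
      letI : Algebra A R := ((algebraMap A L).codRestrict R fun a => Subring.subset_closure ⟨a, rfl⟩).toAlgebra
      haveI : IsScalarTower A R L := IsScalarTower.of_algebraMap_eq fun _ => rfl
      haveI : Algebra.IsIntegral A R := ⟨fun x => by
        obtain ⟨x, hx⟩ := x
        have : x ∈ (algebraMap A L).range := Subring.closure_le.2 (by rintro _ ⟨a, rfl⟩; exact ⟨a, rfl⟩) hx
        obtain ⟨a, rfl⟩ := this
        exact isIntegral_algebraMap (A := R) (x := a)⟩
      exact isIntegral_trans (A := R) _ h
    rw [← iInf_valuationSubring_superset]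
    simp only [Subring.mem_iInf]
    rintro ⟨V', hV'⟩
    have hmem : ∀ a, algebraMap A L a ∈ V' := fun a => hV' ⟨a, rfl⟩
    show ((hunit.unit⁻¹ : Vˣ) : V).1 ∈ V'
    by_cases hd : EtRam.Dominates A ((algebraMap K L).comp (algebraMap A K)) V'
    · rw [huniq V' hd]; exact ((hunit.unit⁻¹ : Vˣ) : V).2
    · have hπ1 : ¬ V'.valuation (algebraMap A L π) < 1 := fun h => hd ⟨hmem, fun a ha => by
        rw [hπ, Ideal.mem_span_singleton] at ha
        obtain ⟨c, rfl⟩ := ha
        show V'.valuation (algebraMap A L (π * c)) < 1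
        rw [map_mul, map_mul]
        exact lt_of_le_of_lt (mul_le_of_le_one_right' ((V'.valuation_le_one_iff _).2 (hmem c))) h⟩
      have hK : ∀ x : K, algebraMap K L x ∈ V' := by
        intro x
        obtain ⟨a, b, hb, rfl⟩ := IsFractionRing.div_surjective A x
        obtain ⟨N, w, rfl⟩ := IsDiscreteValuationRing.eq_unit_mul_pow_irreducible (nonZeroDivisors.ne_zero hb) hπ'
        rw [← V'.valuation_le_one_iff, map_div₀, map_div₀, ← IsScalarTower.algebraMap_apply,
          ← IsScalarTower.algebraMap_apply, map_mul, map_mul, map_pow, map_pow,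
          le_antisymm ((V'.valuation_le_one_iff _).2 (hmem π)) (not_lt.1 hπ1), one_pow, mul_one]
        refine le_trans (le_of_eq ?_) ((V'.valuation_le_one_iff _).2 (hmem (a * ↑w⁻¹)))
        rw [map_mul, map_mul]
        refine (div_eq_mul_inv _ _).trans (congrArg _ (inv_eq_of_mul_eq_one_right ?_))
        rw [← map_mul, ← map_mul, Units.mul_inv, map_one, map_one]
      letI : Algebra K V' := ((algebraMap K L).codRestrict V' hK).toAlgebra
      haveI : IsScalarTower K V' L := IsScalarTower.of_algebraMap_eq fun _ => rfl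
      obtain ⟨y, hy⟩ := IsIntegrallyClosed.isIntegral_iff.1
        ((IsIntegral.of_finite K ((hunit.unit⁻¹ : Vˣ) : V).1).tower_top (A := V'))
      rw [← hy]; exact y.2
  set w : L := ((hunit.unit⁻¹ : Vˣ) : V).1 with hwdef
  refine ⟨ρ, -ρ, -ρ * w ^ n, hρint, neg_mem hρint, mul_mem (neg_mem hρint) (pow_mem hv _), hρ, ?_⟩
  have hw : (1 - algebraMap A L π ^ (n - 1) * ρ) * w = 1 := by
    have h := congrArg Subtype.val hunit.mul_val_inv
    rw [← hr, hwdef]
    push_cast at h
    exact h
  have h1 : ρ ^ (n * q) = algebraMap A L π ^ n * (1 - algebraMap A L π ^ (n - 1) * ρ) ^ n := by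
    rw [← mul_pow, mul_comm n q, pow_mul, hρ]
    congr 1
    conv_lhs => rw [← Nat.sub_add_cancel (by omega : 1 ≤ n), pow_succ]
    ring
  have h2 := congrArg (· ^ n) hw
  simp only [mul_pow, one_pow] at h2
  rw [h1, hρ]
  linear_combination (algebraMap A L π ^ n * ρ) * h2

end Groth.Agent.S7157
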