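import Groth.Statements.S7158
import Groth.Agent.H48.Orth
import Groth.Agent.H48.EtUnram
import Mathlib.FieldTheory.KummerPolynomial
import Mathlib.FieldTheory.Galois.Basic
import Mathlib.FieldTheory.Finite.Basic
import Mathlib.RingTheory.Smooth.Fiber
import Mathlib.FieldTheory.PurelyInseparable.Basic
import Mathlib.RingTheory.AdjoinRoot

set_option autoImplicit false
universe u
open EtAlg

namespace Groth.Agent.S7158

open IsLocalRing EtRam Polynomial Groth.Agent.H48

section

variable {p : ℕ} [hpp : Fact p.Prime] {A K L : Type u} [CommRing A] [IsDomain A]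
  [IsDiscreteValuationRing A] [Field K] [Algebra A K] [IsFractionRing A K] [Field L] [Algebra K L] [CharP K p]
  {π : A} (hπ : Irreducible π)

theorem charP_A (A K : Type u) [CommRing A] [Field K] [Algebra A K] [IsFractionRing A K] [CharP K p] : CharP A p :=
  RingHom.charP (algebraMap A K) (IsFractionRing.injective A K) p

theorem charP_k [CharP A p] : CharP (ResidueField A) p := by
  refine CharP.charP_iff_prime_eq_zero hpp.out |>.2 ?_
  rw [← map_natCast (residue A), CharP.cast_eq_zero, map_zero]

section Galois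

variable {ξ : K} {z : L} (hz : z ^ p - z = algebraMap K L ξ) (hgen : IntermediateField.adjoin K {z} = ⊤)

omit [Algebra A K] [IsFractionRing A K] in
include hz hgen in
theorem finite : FiniteDimensional K L ∧ Module.finrank K L ≤ p ∧ IsGalois K L ∧
    (Module.finrank K L = 1 ∨ Module.finrank K L = p) := by
  classical
  haveI : CharP L p := charP_of_injective_algebraMap (algebraMap K L).injective p
  have hp1 : 1 < p := hpp.out.one_lt
  let f : K[X] := X ^ p - X - C ξ
  have hfm : f.Monic := by
    have h1 : f = X ^ p - (X + C ξ) := by simp only [f]; ring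
    rw [h1]; exact monic_X_pow_sub (by rw [degree_X_add_C]; exact_mod_cast hp1)
  have hfd : f.natDegree = p := by
    show (X ^ p - X - C ξ : K[X]).natDegree = p
    rw [natDegree_sub_C, natDegree_sub_eq_left_of_natDegree_lt (by rw [natDegree_X_pow, natDegree_X]; exact hp1),
      natDegree_X_pow]
  have hfz : aeval z f = 0 := by simp [f, hz]
  have hint : IsIntegral K z := ⟨f, hfm, by rw [← aeval_def]; exact hfz⟩
  have hsep : f.Separable := by
    refine separable_def _ |>.2 ⟨0, -1, ?_⟩
    simp [f, derivative_X_pow, CharP.cast_eq_zero]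
  haveI hfin : FiniteDimensional K L := by
    haveI := IntermediateField.adjoin.finiteDimensional hint
    exact Module.Finite.equiv ((IntermediateField.equivOfEq hgen).trans IntermediateField.topEquiv).toLinearEquiv
  have hrank : Module.finrank K L = (minpoly K z).natDegree := by
    rw [← IntermediateField.adjoin.finrank hint, hgen, IntermediateField.finrank_top']
  have hdvd : minpoly K z ∣ f := minpoly.dvd K z hfz
  have hle : Module.finrank K L ≤ p := by
    rw [hrank, ← hfd]; exact natDegree_le_of_dvd hdvd hfm.ne_zero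
  let s : Finset L := Finset.univ.image fun i : ZMod p => z + ZMod.castHom dvd_rfl L i
  have hinj : Function.Injective fun i : ZMod p => z + ZMod.castHom dvd_rfl L i := fun i j h =>
    (ZMod.castHom dvd_rfl L).injective (add_left_cancel h)
  have hmem : ∀ i : ZMod p, z + ZMod.castHom dvd_rfl L i ∈ (f.map (algebraMap K L)).roots := fun i => by
    rw [mem_roots (hfm.map _).ne_zero, IsRoot, eval_map, ← aeval_def]
    have hi : (ZMod.castHom dvd_rfl L i) ^ p = ZMod.castHom dvd_rfl L i := by rw [← map_pow, ZMod.pow_card]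
    simp only [f, map_sub, map_pow, aeval_X, aeval_C, add_pow_char, hi]
    linear_combination hz
  have hcard : (f.map (algebraMap K L)).roots.card = p := by
    refine le_antisymm ((card_roots' _).trans (by rw [hfm.natDegree_map, hfd])) ?_
    calc p = s.card := by rw [Finset.card_image_of_injective _ hinj, Finset.card_univ, ZMod.card]
      _ ≤ (f.map (algebraMap K L)).roots.toFinset.card := Finset.card_le_card fun x hx => by
          obtain ⟨i, -, rfl⟩ := Finset.mem_image.1 hx
          exact Multiset.mem_toFinset.2 (hmem i)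
      _ ≤ _ := Multiset.toFinset_card_le _
  have hsplit : (f.map (algebraMap K L)).Splits := splits_iff_card_roots.2 (by rw [hcard, hfm.natDegree_map, hfd])
  have hroots : ∀ x ∈ (f.map (algebraMap K L)).roots, ∃ i : ZMod p, x = z + ZMod.castHom dvd_rfl L i := by
    intro x hx
    have hs : s = (f.map (algebraMap K L)).roots.toFinset := by
      refine Finset.eq_of_subset_of_card_le (fun x hx => ?_) ?_
      · obtain ⟨i, -, rfl⟩ := Finset.mem_image.1 hx
        exact Multiset.mem_toFinset.2 (hmem i)
      · rw [Finset.card_image_of_injective _ hinj, Finset.card_univ, ZMod.card]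
        exact (Multiset.toFinset_card_le _).trans hcard.le
    obtain ⟨i, -, hi⟩ := Finset.mem_image.1 (hs.symm ▸ Multiset.mem_toFinset.2 hx : x ∈ s)
    exact ⟨i, hi.symm⟩
  haveI hsf : f.IsSplittingField K L := by
    refine ⟨hsplit, eq_top_iff.2 ?_⟩
    rw [show (⊤ : Subalgebra K L) = (IntermediateField.adjoin K {z}).toSubalgebra by rw [hgen]; rfl,
      IntermediateField.adjoin_simple_toSubalgebra_of_isAlgebraic hint.isAlgebraic]
    refine Algebra.adjoin_mono (Set.singleton_subset_iff.2 ?_)
    rw [mem_rootSet]; exact ⟨hfm.ne_zero, hfz⟩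
  refine ⟨hfin, hle, IsGalois.of_separable_splitting_field hsep, ?_⟩
  by_contra! hcon
  obtain ⟨g, hg⟩ := hdvd
  have hm := (minpoly.monic hint).map (algebraMap K L)
  have hgs : ((minpoly K z).map (algebraMap K L)).Splits :=
    hsplit.of_dvd (hfm.map _).ne_zero (Polynomial.map_dvd _ ⟨g, hg⟩)
  set d := (minpoly K z).natDegree
  set R := ((minpoly K z).map (algebraMap K L)).roots
  have hcardR : R.card = d := by rw [← hgs.natDegree_eq_card_roots, (minpoly.monic hint).natDegree_map]
  have hsub : ∀ x ∈ R, x - z ∈ (⊥ : IntermediateField K L) := fun x hx => by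
    obtain ⟨i, rfl⟩ := hroots x (Multiset.mem_of_le
      (roots.le_of_dvd (hfm.map _).ne_zero (Polynomial.map_dvd _ ⟨g, hg⟩)) hx)
    rw [add_sub_cancel_left]
    exact IntermediateField.mem_bot.2 ⟨ZMod.castHom dvd_rfl K i, RingHom.congr_fun
      (Subsingleton.elim ((algebraMap K L).comp (ZMod.castHom dvd_rfl K)) (ZMod.castHom dvd_rfl L)) i⟩
  have hsum : R.sum ∈ (⊥ : IntermediateField K L) := by
    refine IntermediateField.mem_bot.2 ⟨-(minpoly K z).nextCoeff, ?_⟩
    rw [map_neg, ← nextCoeff_map (algebraMap K L).injective, hgs.nextCoeff_eq_neg_sum_roots_of_monic hm, neg_neg]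
  have hdz : (d : L) * z ∈ (⊥ : IntermediateField K L) := by
    have h1 : ((R.map fun x => x - z)).sum ∈ (⊥ : IntermediateField K L) :=
      multiset_sum_mem _ fun y hy => by obtain ⟨x, hx, rfl⟩ := Multiset.mem_map.1 hy; exact hsub x hx
    rw [Multiset.sum_map_sub, Multiset.map_id', Multiset.map_const', Multiset.sum_replicate, hcardR, nsmul_eq_mul] at h1
    have := sub_mem hsum h1
    rwa [sub_sub_cancel] at this
  have hd0 : (d : L) ≠ 0 := fun h => by
    have := Nat.le_of_dvd (minpoly.natDegree_pos hint) ((CharP.cast_eq_zero_iff L p _).1 h)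
    omega
  have hzbot : z ∈ (⊥ : IntermediateField K L) := by
    have := mul_mem (inv_mem (natCast_mem (⊥ : IntermediateField K L) d)) hdz
    rwa [← mul_assoc, inv_mul_cancel₀ hd0, one_mul] at this
  refine hcon.1 ?_
  rw [← IntermediateField.finrank_top', ← hgen, IntermediateField.adjoin_simple_eq_bot_iff.2 hzbot]
  exact IntermediateField.finrank_bot

end Galois

variable [Algebra A L] [IsScalarTower A K L]

theorem exists_dominating (K : Type u) [Field K] [Algebra A K] [IsFractionRing A K] [Algebra K L]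
    [IsScalarTower A K L] : ∃ V : ValuationSubring L, Dominates A (algebraMap A L) V := by
  let V₀ : ValuationSubring K :=
    { (algebraMap A K).range with
      mem_or_inv_mem' := fun y => ValuationRing.isInteger_or_isInteger _ y }
  obtain ⟨W, hW⟩ := DomVal.exists_comap_eq (algebraMap K L) V₀
  refine ⟨W, ?_⟩
  rw [IsScalarTower.algebraMap_eq A K L, ← DomVal.dominates_comap_iff, hW]
  refine ⟨fun b => ⟨b, rfl⟩, fun b hb => ?_⟩
  refine (ValuationSubring.valuation_lt_one_iff V₀ ⟨_, ⟨b, rfl⟩⟩).1 ((mem_maximalIdeal _).2 fun hu => ?_)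
  obtain ⟨⟨_, c, rfl⟩, hc⟩ := hu.exists_right_inv
  refine (mem_maximalIdeal _).1 hb (IsUnit.of_mul_eq_one c (IsFractionRing.injective A K ?_))
  rw [map_mul, map_one]; exact congrArg Subtype.val hc

theorem dom_iff (V : ValuationSubring L) :
    Dominates A (algebraMap A L) V ↔ Dominates A ((algebraMap K L).comp (algebraMap A K)) V := by
  rw [← IsScalarTower.algebraMap_eq]

include hπ

/-- Powers of a uniformizer give coordinates. -/
theorem span_coeff (hfr : Module.finrank K L = p) (V : ValuationSubring L) [IsDiscreteValuationRing V]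
    (hV : Dominates A ((algebraMap K L).comp (algebraMap A K)) V) (r : V) (u : Vˣ) (hr : Irreducible r)
    (hru : (RingHom.codRestrict _ V hV.1) π = u * r ^ p) (x : L) :
    ∃ g : Fin p → K, x = ∑ i, algebraMap K L (g i) * (r : L) ^ (i : ℕ) := by
  classical
  haveI : FiniteDimensional K L := Module.finite_of_finrank_pos (by rw [hfr]; exact hpp.out.pos)
  have hli : LinearIndependent K fun i : Fin p => (r : L) ^ (i : ℕ) := by
    rw [Fintype.linearIndependent_iff]
    intro g hg i
    by_contra hi
    have hN : ∀ N : ℕ, ∃ b : A, algebraMap A K b = g i / algebraMap A K π ^ N := by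
      intro N
      refine FSExt.orth V hV r hr π hπ u hru (fun i => g i / algebraMap A K π ^ N) ?_ i
      have : ∑ i, algebraMap K L (g i / algebraMap A K π ^ N) * (r : L) ^ (i : ℕ) =
          algebraMap K L (algebraMap A K π ^ N)⁻¹ * ∑ i, g i • (r : L) ^ (i : ℕ) := by
        rw [Finset.mul_sum]
        exact Finset.sum_congr rfl fun i _ => by rw [Algebra.smul_def, div_eq_inv_mul, map_mul, mul_assoc]
      rw [this, hg, mul_zero]; exact zero_mem V
    obtain ⟨b, hb⟩ := hN 0
    rw [pow_zero, div_one] at hb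
    have hb0 : b ≠ 0 := fun h => hi (by rw [← hb, h, map_zero])
    obtain ⟨k, v, hk⟩ := IsDiscreteValuationRing.eq_unit_mul_pow_irreducible hb0 hπ
    obtain ⟨c, hc⟩ := hN (k + 1)
    have hπK : algebraMap A K π ≠ 0 := (map_ne_zero_iff _ (IsFractionRing.injective A K)).2 hπ.ne_zero
    rw [eq_div_iff (pow_ne_zero _ hπK), ← hb, ← map_pow, ← map_mul, hk, pow_succ, ← mul_assoc,
      mul_right_comm] at hc
    have h := mul_right_cancel₀ (pow_ne_zero k hπ.ne_zero) (IsFractionRing.injective A K hc)
    exact hπ.not_isUnit (isUnit_of_dvd_unit (Dvd.intro_left c h) v.isUnit)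
  have hspan := hli.span_eq_top_of_card_eq_finrank (by rw [Fintype.card_fin, hfr])
  obtain ⟨g, hg⟩ := (Submodule.mem_span_range_iff_exists_fun K).1 (hspan ▸ Submodule.mem_top (x := x))
  exact ⟨g, by rw [← hg]; exact Finset.sum_congr rfl fun i _ => Algebra.smul_def _ _⟩


/-- Case (A): an integral right hand side. -/
theorem caseA (a : A) (z : L) (hz : z ^ p - z = algebraMap K L (algebraMap A K a))
    (hgen : IntermediateField.adjoin K {z} = ⊤) :
    Module.finrank K L = 1 ∨ (IsUnramifiedExt A (algebraMap A L) ∧ Module.finrank K L = p) := by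
  obtain ⟨hfin, -, -, h1 | hp⟩ := finite (p := p) hz hgen
  · exact Or.inl h1
  refine Or.inr ⟨fun V hV => ?_, hp⟩
  intro _
  haveI := hfin
  haveI := charP_A (p := p) A K
  let f : A[X] := X ^ p - X - C a
  have hfm : f.Monic := by
    have h1 : f = X ^ p - (X + C a) := by simp only [f]; ring
    rw [h1]; exact monic_X_pow_sub (by rw [degree_X_add_C]; exact_mod_cast hpp.out.one_lt)
  have hder : derivative f = -1 := by simp [f, derivative_X_pow, CharP.cast_eq_zero]
  let E := AdjoinRoot f
  haveI : Module.Finite A E := hfm.finite_adjoinRoot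
  haveI : Algebra.Etale A E := by
    haveI : Algebra.FormallyUnramified A E := by
      rw [Algebra.formallyUnramified_iff]
      refine subsingleton_of_forall_eq 0 fun ω => ?_
      have hω : ω ∈ Submodule.span E (Set.range (KaehlerDifferential.D A E)) := by
        rw [KaehlerDifferential.span_range_derivation]; trivial
      induction hω using Submodule.span_induction with
      | mem y hy =>
        obtain ⟨x, rfl⟩ := hy
        obtain ⟨g, rfl⟩ := AdjoinRoot.mk_surjective x
        rw [← AdjoinRoot.aeval_eq, Derivation.map_aeval]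
        have h0 := congrArg (KaehlerDifferential.D A E) (AdjoinRoot.aeval_eq f |>.trans AdjoinRoot.mk_self)
        rw [Derivation.map_aeval, hder, map_zero, map_neg, map_one, neg_smul, one_smul, neg_eq_zero] at h0
        rw [h0, smul_zero]
      | zero => rfl
      | add y z _ _ hy hz => rw [hy, hz, add_zero]
      | smul c y _ hy => rw [hy, smul_zero]
    haveI : Module.Free A E := hfm.free_adjoinRoot
    haveI : Algebra.FinitePresentation A E := Algebra.FinitePresentation.of_finiteType.1 inferInstance
    exact Algebra.Etale.of_formallyUnramified_of_flat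
  let ψ : E →+* L := AdjoinRoot.lift (algebraMap A L) z (by
    simp only [f, eval₂_sub, eval₂_X_pow, eval₂_X, eval₂_C]
    rw [IsScalarTower.algebraMap_apply A K L]; linear_combination hz)
  have hψ : ∀ b, ψ (algebraMap A E b) = algebraMap K L (algebraMap A K b) := fun b => by
    rw [AdjoinRoot.algebraMap_eq, AdjoinRoot.lift_of, ← IsScalarTower.algebraMap_apply]
  have hgenψ : Subfield.closure (Set.range ψ) = ⊤ := by
    let T := Subfield.closure (Set.range ψ)
    let T' : IntermediateField K L := T.toIntermediateField fun k => by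
      obtain ⟨b, c, -, rfl⟩ := IsFractionRing.div_surjective A k
      rw [map_div₀, ← hψ, ← hψ]
      exact div_mem (Subfield.subset_closure ⟨_, rfl⟩) (Subfield.subset_closure ⟨_, rfl⟩)
    have hle : IntermediateField.adjoin K {z} ≤ T' := IntermediateField.adjoin_le_iff.2
      (Set.singleton_subset_iff.2 (Subfield.subset_closure ⟨AdjoinRoot.root f, AdjoinRoot.lift_root _⟩))
    rw [hgen] at hle
    exact eq_top_iff.2 fun x _ => hle (IntermediateField.mem_top (x := x))
  have hV' := (dom_iff (K := K) V).1 hV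
  haveI : IsLocalHom (@algebraMap A V _ _ (RingHom.codRestrict _ V hV'.1).toAlgebra) :=
    DomVal.isLocalHom_of_dominates hV'
  obtain ⟨hw, hs⟩ := EtUnram.unramified_of_generated (K := K) ψ hψ hgenψ V hV'
  have heq : (algebraMap A L).codRestrict V hV.1 = ((algebraMap K L).comp (algebraMap A K)).codRestrict V hV'.1 :=
    RingHom.ext fun b => Subtype.ext (IsScalarTower.algebraMap_apply A K L b)
  refine ⟨?_, ?_⟩
  · show (maximalIdeal A).map ((algebraMap A L).codRestrict V hV.1) = _
    rw [heq]; exact hw
  · have hs' : ∀ x : ResidueField V, ∃ g : (ResidueField A)[X], g.Separable ∧ g.eval₂ (ResidueField.map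
        (((algebraMap K L).comp (algebraMap A K)).codRestrict V hV'.1)) x = 0 := by
      letI : Algebra A V := (((algebraMap K L).comp (algebraMap A K)).codRestrict V hV'.1).toAlgebra
      intro x
      exact ⟨_, Algebra.IsSeparable.isSeparable (ResidueField A) x, minpoly.aeval _ x⟩
    letI : Algebra A V := ((algebraMap A L).codRestrict V hV.1).toAlgebra
    refine ⟨fun x => ?_⟩
    obtain ⟨g, hg, hgx⟩ := hs' x
    refine hg.of_dvd (minpoly.dvd _ x ?_)
    rw [aeval_def]
    refine Eq.trans ?_ hgx
    congr 1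
    refine RingHom.ext fun r => ?_
    obtain ⟨r, rfl⟩ := residue_surjective r
    exact congrArg (residue V) (Subtype.ext (IsScalarTower.algebraMap_apply A K L r))

/-- Case (B): a pole of order prime to `p`. -/
theorem caseB (ξ : K) (z : L) (hz : z ^ p - z = algebraMap K L ξ) (hgen : IntermediateField.adjoin K {z} = ⊤)
    (n : ℕ) (a : Aˣ) (hn : 0 < n) (hpn : ¬ p ∣ n) (hξ : ξ * algebraMap A K π ^ n = algebraMap A K a) :
    IsTotallyRamified A (algebraMap A L) ∧ Module.finrank K L = p := by
  classical
  obtain ⟨hfin, hle, -, -⟩ := finite (p := p) hz hgen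
  haveI := hfin
  have hp0 : p ≠ 0 := hpp.out.ne_zero
  have hp1 : 1 < p := hpp.out.one_lt
  have hcop : Nat.Coprime n p := (hpp.out.coprime_iff_not_dvd.2 hpn).symm
  obtain ⟨j, hj⟩ : ∃ j, n * j % p = 1 := by
    obtain ⟨j, -, hj⟩ := Nat.exists_mul_mod_eq_one_of_coprime hcop hp1
    exact ⟨j, hj⟩
  set ρ : L := (z⁻¹) ^ j / algebraMap A L π ^ (n * j / p)
  -- in every place `ρ` is a uniformizer and the index is `p`
  have key : ∀ (V : ValuationSubring L) (hV : Dominates A (algebraMap A L) V), IsDiscreteValuationRing V ∧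
      Module.finrank K L = p ∧ ∃ (r : V) (u : Vˣ), (r : L) = ρ ∧ Irreducible r ∧
        RingHom.codRestrict (algebraMap A L) V hV.1 π = u * r ^ p := by
    intro V hV
    have hV' := (dom_iff (K := K) V).1 hV
    haveI : IsDiscreteValuationRing V := FSExt.isDVR V hV'
    refine ⟨inferInstance, ?_⟩
    letI : Algebra A V := (RingHom.codRestrict _ V hV'.1).toAlgebra
    haveI : IsLocalHom (algebraMap A V) := DomVal.isLocalHom_of_dominates hV'
    have hcoe : ∀ b : A, ((algebraMap A V b : V) : L) = algebraMap A L b := fun b =>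
      (IsScalarTower.algebraMap_apply A K L b).symm
    have hinj : Function.Injective (algebraMap A V) := fun a b h => IsFractionRing.injective A K
      ((algebraMap K L).injective (congrArg Subtype.val h))
    obtain ⟨τ, hτ⟩ := IsDiscreteValuationRing.exists_irreducible V
    obtain ⟨-, u, hu⟩ := DVRExt.exists_unit_mul_pow hinj hπ hτ
    set e := Ideal.ramificationIdx' (maximalIdeal A) (maximalIdeal V)
    have he : e ≤ Module.finrank K L := FSExt.ramificationIdx_le_finrank (B := A) (L := K) V hV'
    have hz' : (z ^ p - z) * algebraMap A L π ^ n = algebraMap A L a := by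
      rw [hz, IsScalarTower.algebraMap_apply A K L π, IsScalarTower.algebraMap_apply A K L a, ← map_pow, ← map_mul, hξ]
    have hπ1 : V.valuation (algebraMap A L π) < 1 := hV.2 π hπ.not_isUnit
    have ha1 : V.valuation (algebraMap A L a) = 1 := by
      rw [← hcoe]; exact (V.valuation_eq_one_iff (algebraMap A V a)).1 (a.isUnit.map _)
    have hzV : z ∉ V := fun h => by
      have h1 : V.valuation (z ^ p - z) ≤ 1 := (V.valuation_le_one_iff _).2 (sub_mem (pow_mem h _) h)
      have h2 := congrArg V.valuation hz'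
      rw [map_mul, map_pow, ha1] at h2
      exact absurd h2 (ne_of_lt (lt_of_le_of_lt (mul_le_of_le_one_left' h1) (pow_lt_one₀ zero_le hπ1 hn.ne')))
    have hz0 : z ≠ 0 := fun h => hzV (h ▸ zero_mem V)
    let y : V := ⟨z⁻¹, (V.mem_or_inv_mem z).resolve_left hzV⟩
    have hy : ¬ IsUnit y := fun h => by
      obtain ⟨⟨w, hw⟩, hyw⟩ := h.exists_right_inv
      have : z⁻¹ * w = 1 := congrArg Subtype.val hyw
      exact hzV ((inv_mul_eq_one₀ hz0).1 this ▸ hw)
    have hy0 : y ≠ 0 := fun h => hz0 (inv_eq_zero.1 (congrArg Subtype.val h))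
    have heq : y ^ p * algebraMap A V a = algebraMap A V π ^ n * (1 - y ^ (p - 1)) := Subtype.ext (by
      push_cast
      rw [hcoe, hcoe]
      show z⁻¹ ^ p * algebraMap A L a = algebraMap A L π ^ n * (1 - z⁻¹ ^ (p - 1))
      rw [← hz']
      have h1 : z⁻¹ ^ p * z ^ p = 1 := by rw [← mul_pow, inv_mul_cancel₀ hz0, one_pow]
      have h2 : z⁻¹ ^ p * z = z⁻¹ ^ (p - 1) := by
        conv_lhs => rw [← Nat.sub_add_cancel hp1.le, pow_succ, mul_assoc, inv_mul_cancel₀ hz0, mul_one]
      linear_combination algebraMap A L π ^ n * h1 - algebraMap A L π ^ n * h2)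
    have hu1 : IsUnit (1 - y ^ (p - 1)) :=
      IsLocalRing.isUnit_one_sub_self_of_mem_nonunits _ (fun h => hy ((isUnit_pow_iff (by omega)).1 h))
    obtain ⟨m, w, hm⟩ := IsDiscreteValuationRing.eq_unit_mul_pow_irreducible hy0 hτ
    have hmn : m * p = e * n := by
      refine IsDiscreteValuationRing.unit_mul_pow_congr_pow hτ hτ
        (w ^ p * Units.map (algebraMap A V).toMonoidHom a) (u ^ n * hu1.unit) _ _ ?_
      rw [hm, hu, mul_pow, mul_pow, ← pow_mul, ← pow_mul] at heq
      push_cast [IsUnit.unit_spec]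
      show (w : V) ^ p * algebraMap A V a * τ ^ (m * p) = (u : V) ^ n * (1 - _) * τ ^ (e * n)
      rw [hm, mul_pow]
      rw [hm, mul_pow] at *
      linear_combination heq
    have hpe : p ∣ e := hcop.symm.dvd_of_dvd_mul_right ⟨m, by rw [← hmn, mul_comm]⟩
    have hep : e = p := by
      have := Nat.le_of_dvd (Nat.pos_of_ne_zero fun h => by
        have h0 := (DVRExt.exists_unit_mul_pow hinj hπ hτ).1
        exact h0 h) hpe
      omega
    refine ⟨by omega, ?_⟩
    have hmn' : m = n := Nat.eq_of_mul_eq_mul_right hpp.out.pos (by rw [hmn, hep, mul_comm])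
    let r : V := (w ^ j * (u ^ (n * j / p))⁻¹ : Vˣ) * τ
    have hr : (r : L) = ρ := by
      have h1 : r * algebraMap A V π ^ (n * j / p) = y ^ j := by
        simp only [r, hu, hm, hmn', hep, mul_pow, ← pow_mul, Units.val_mul, Units.val_pow_eq_pow_val]
        have h2 : ((↑(u ^ (n * j / p))⁻¹ : V)) * (u : V) ^ (n * j / p) = 1 := by
          rw [← Units.val_pow_eq_pow_val, Units.inv_mul]
        have h3 : τ ^ (n * j) = τ * τ ^ (p * (n * j / p)) := by
          rw [← pow_succ']
          congr 1
          have := Nat.div_add_mod (n * j) p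
          omega
        linear_combination ((w : V) ^ j * τ * τ ^ (p * (n * j / p))) * h2 - (w : V) ^ j * h3
      have h := congrArg Subtype.val h1
      push_cast [hcoe] at h
      show (r : L) = z⁻¹ ^ j / algebraMap A L π ^ (n * j / p)
      rw [eq_div_iff (pow_ne_zero _ ((map_ne_zero_iff _ (fun a b hab => hinj (Subtype.ext (by rw [hcoe, hcoe]; exact hab)))).2 hπ.ne_zero))]
      exact h
    have hrirr : Irreducible r := (irreducible_units_mul _).2 hτ
    refine ⟨r, u * ((w ^ j * (u ^ (n * j / p))⁻¹)⁻¹) ^ p, hr, hrirr, ?_⟩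
    rw [show RingHom.codRestrict (algebraMap A L) V hV.1 π = algebraMap A V π from Subtype.ext (hcoe π).symm]
    rw [hu, hep]
    simp only [r, Units.val_mul, Units.val_pow_eq_pow_val, mul_pow]
    rw [mul_assoc, ← mul_assoc ((((w ^ j * (u ^ (n * j / p))⁻¹)⁻¹ : Vˣ) : V) ^ p)]
    congr 1
    have h1 : (((w ^ j * (u ^ (n * j / p))⁻¹)⁻¹ : Vˣ) : V) * ((w ^ j * (u ^ (n * j / p))⁻¹ : Vˣ) : V) = 1 :=
      Units.inv_mul _
    have h2 := congrArg (· ^ p) h1
    simp only [Units.val_mul, Units.val_pow_eq_pow_val, mul_pow, one_pow] at h2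
    linear_combination (-(τ ^ p)) * h2
  obtain ⟨V₀, hV₀⟩ := exists_dominating (A := A) (L := L) K
  obtain ⟨-, hfr, -⟩ := key V₀ hV₀
  refine ⟨⟨⟨V₀, hV₀⟩, ?_, fun V hV => ?_⟩, hfr⟩
  -- membership is decided by coefficients
  swap
  · obtain ⟨hd, -, r, u, hr, hrirr, hru⟩ := key V hV
    haveI := hd
    intro x
    obtain ⟨x, rfl⟩ := residue_surjective x
    obtain ⟨g, hg⟩ := span_coeff (p := p) (K := K) hπ hfr V ((dom_iff (K := K) V).1 hV) r u hrirr (by
      rw [← hru]; exact Subtype.ext (IsScalarTower.algebraMap_apply A K L π).symm) (x : L)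
    have hgm : ∑ i : Fin p, algebraMap K L (g i) * (r : L) ^ (i : ℕ) ∈ V := hg ▸ x.2
    choose b hb using FSExt.orth V ((dom_iff (K := K) V).1 hV) r hrirr π hπ u (by
      rw [← hru]; exact Subtype.ext (IsScalarTower.algebraMap_apply A K L π).symm) g hgm
    refine ⟨b ⟨0, hpp.out.pos⟩, ?_⟩
    have hx : x = ∑ i : Fin p, (algebraMap A L).codRestrict V hV.1 (b i) * r ^ (i : ℕ) := Subtype.ext (by
      rw [hg]; push_cast
      exact Finset.sum_congr rfl fun i _ => by rw [← hb i, ← IsScalarTower.algebraMap_apply]; rfl)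
    rw [hx, map_sum, Finset.sum_eq_single (⟨0, hpp.out.pos⟩ : Fin p)]
    · simp
    · intro i _ hi
      rw [map_mul, (residue_eq_zero_iff _).2 (Ideal.pow_mem_of_mem _ hrirr.not_isUnit _ (Nat.pos_of_ne_zero fun h => hi (Fin.ext h))), mul_zero]
    · simp
  intro V V' hV hV'
  have hsub : ∀ V V' : ValuationSubring L, Dominates A (algebraMap A L) V → Dominates A (algebraMap A L) V' → V ≤ V' := by
    intro V V' hV hV' x hx
    obtain ⟨hd, -, r, u, hr, hrirr, hru⟩ := key V hV
    obtain ⟨-, -, r', -, hr', -, -⟩ := key V' hV'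
    haveI := hd
    obtain ⟨g, hg⟩ := span_coeff (p := p) (K := K) hπ hfr V ((dom_iff (K := K) V).1 hV) r u hrirr (by
      rw [← hru]; exact Subtype.ext (IsScalarTower.algebraMap_apply A K L π).symm) x
    choose b hb using FSExt.orth V ((dom_iff (K := K) V).1 hV) r hrirr π hπ u (by
      rw [← hru]; exact Subtype.ext (IsScalarTower.algebraMap_apply A K L π).symm) g (hg ▸ hx)
    rw [hg]
    refine sum_mem fun i _ => mul_mem ?_ (pow_mem (by rw [hr, ← hr']; exact r'.2) _)
    rw [← hb i, ← IsScalarTower.algebraMap_apply]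
    exact hV'.1 _
  exact le_antisymm (hsub V V' hV hV') (hsub V' V hV' hV)

/-- The fourth case. -/
abbrev Case4 (p : ℕ) (g : A →+* L) : Prop :=
  (∃ V : ValuationSubring L, Dominates A g V) ∧
    (∀ V V' : ValuationSubring L, Dominates A g V → Dominates A g V' → V = V') ∧
    ∀ (V : ValuationSubring L) (h : Dominates A g V),
      letI : Algebra A V := (RingHom.codRestrict g V h.1).toAlgebra
      ∀ [IsLocalHom (algebraMap A V)],
        IsWeaklyUnramified A V ∧ IsPurelyInseparable (ResidueField A) (ResidueField V) ∧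
          Module.finrank (ResidueField A) (ResidueField V) = p

/-- Case (C): a pole of order divisible by `p` with leading coefficient not a power. -/
theorem caseC (ξ : K) (z : L) (hz : z ^ p - z = algebraMap K L ξ) (hgen : IntermediateField.adjoin K {z} = ⊤)
    (n : ℕ) (a : A) (hn : 0 < n) (hpn : p ∣ n) (ha : ∀ r : A, residue A a ≠ residue A r ^ p)
    (hξ : ξ * algebraMap A K π ^ n = algebraMap A K a) : Case4 p (algebraMap A L) := by
  classical
  obtain ⟨hfin, -, -, -⟩ := finite (p := p) hz hgen
  haveI := hfin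
  have hp0 : p ≠ 0 := hpp.out.ne_zero
  have hp1 : 1 < p := hpp.out.one_lt
  haveI := charP_A (p := p) A K
  haveI := charP_k (p := p) (A := A)
  obtain ⟨m, rfl⟩ := hpn
  have hm : 0 < m := Nat.pos_of_ne_zero fun h => by rw [h, mul_zero] at hn; exact lt_irrefl 0 hn
  let c : A := π ^ ((p - 1) * m)
  let h : A[X] := X ^ p - (C c * X + C a)
  have hhm : h.Monic := monic_X_pow_sub (lt_of_le_of_lt degree_linear_le (by exact_mod_cast hp1))
  let w : L := algebraMap A L π ^ m * z
  have hπL : algebraMap A L π ≠ 0 := by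
    rw [IsScalarTower.algebraMap_apply A K L]
    exact (_root_.map_ne_zero _).2 ((map_ne_zero_iff _ (IsFractionRing.injective A K)).2 hπ.ne_zero)
  have hw : w ^ p = algebraMap A L c * w + algebraMap A L a := by
    have h1 : algebraMap A L a = algebraMap A L π ^ (p * m) * (z ^ p - z) := by
      rw [hz, IsScalarTower.algebraMap_apply A K L a, ← hξ, map_mul, map_pow,
        ← IsScalarTower.algebraMap_apply A K L, mul_comm]
    rw [h1]
    simp only [w, c, map_pow, mul_pow, ← pow_mul]
    have hpm : p * m = (p - 1) * m + m := by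
      conv_lhs => rw [← Nat.sub_add_cancel hp1.le, add_mul, one_mul]
    rw [mul_comm m p, hpm, pow_add]; ring
  let P := AdjoinRoot h
  haveI : Module.Finite A P := hhm.finite_adjoinRoot
  let φ₀ : P →+* L := AdjoinRoot.lift (algebraMap A L) w (by
    simp only [h, eval₂_sub, eval₂_X_pow, eval₂_add, eval₂_mul, eval₂_X, eval₂_C]
    rw [sub_eq_zero]; exact hw)
  let t : P := AdjoinRoot.of h π
  let k := ResidueField A
  let hbar : k[X] := X ^ p - C (residue A a)
  haveI : Fact (Irreducible hbar) := ⟨X_pow_sub_C_irreducible_of_prime hpp.out fun b hb => by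
    obtain ⟨b, rfl⟩ := residue_surjective b
    exact ha b hb.symm⟩
  let Q := AdjoinRoot hbar
  let lk : k →+* P ⧸ Ideal.span {t} :=
    Ideal.Quotient.lift (maximalIdeal A) ((Ideal.Quotient.mk _).comp (AdjoinRoot.of h)) fun b hb => by
      rw [hπ.maximalIdeal_eq, Ideal.mem_span_singleton] at hb
      obtain ⟨d, rfl⟩ := hb
      rw [RingHom.comp_apply, Ideal.Quotient.eq_zero_iff_mem, map_mul]
      exact Ideal.mul_mem_right _ _ (Ideal.mem_span_singleton_self t)
  let ψ : Q →+* P ⧸ Ideal.span {t} := AdjoinRoot.lift lk (Ideal.Quotient.mk _ (AdjoinRoot.root h)) (by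
      simp only [hbar, eval₂_sub, eval₂_X_pow, eval₂_C]
      rw [show lk (residue A a) = Ideal.Quotient.mk (Ideal.span {t}) (AdjoinRoot.of h a) from rfl,
        ← map_pow, sub_eq_zero, Ideal.Quotient.eq]
      have hroot : AdjoinRoot.root h ^ p = AdjoinRoot.of h c * AdjoinRoot.root h + AdjoinRoot.of h a := by
        have := AdjoinRoot.eval₂_root h
        simpa [h, sub_eq_zero] using this
      rw [hroot, add_sub_cancel_right, map_pow]
      exact Ideal.mul_mem_right _ _ (Ideal.pow_mem_of_mem _ (Ideal.mem_span_singleton_self t) _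
        (Nat.mul_pos (by omega) hm)))
  have hψ : Function.Surjective ψ := by
    intro y
    obtain ⟨x, rfl⟩ := Ideal.Quotient.mk_surjective y
    obtain ⟨g, rfl⟩ := AdjoinRoot.mk_surjective x
    refine ⟨AdjoinRoot.mk hbar (g.map (residue A)), ?_⟩
    refine (AdjoinRoot.lift_mk (i := lk) (a := Ideal.Quotient.mk _ (AdjoinRoot.root h)) _ _).trans ?_
    rw [eval₂_map, ← AdjoinRoot.aeval_eq, aeval_def, hom_eval₂]
    congr 1
  have hgenP : ∀ x : L, ∃ b c : P, φ₀ c ≠ 0 ∧ x * φ₀ c = φ₀ b := by
    have hw' : IntermediateField.adjoin K {w} = ⊤ := by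
      refine top_le_iff.1 (hgen ▸ IntermediateField.adjoin_le_iff.2 (Set.singleton_subset_iff.2 ?_))
      have h1 : z = (algebraMap K L (algebraMap A K π ^ m))⁻¹ * w := by
        rw [map_pow, ← IsScalarTower.algebraMap_apply, ← mul_assoc, inv_mul_cancel₀ (pow_ne_zero m hπL), one_mul]
      rw [h1]
      exact mul_mem (inv_mem (IntermediateField.algebraMap_mem _ _)) (IntermediateField.mem_adjoin_simple_self K w)
    intro x
    have hint : IsIntegral K w := Algebra.IsIntegral.isIntegral w
    have hx : x ∈ Algebra.adjoin K {w} := by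
      rw [← IntermediateField.adjoin_simple_toSubalgebra_of_isAlgebraic hint.isAlgebraic, hw']; trivial
    rw [Algebra.adjoin_singleton_eq_range_aeval] at hx
    obtain ⟨g, hg⟩ := hx
    obtain ⟨d, hd⟩ := IsLocalization.integerNormalization_map_to_map (nonZeroDivisors A) g
    refine ⟨AdjoinRoot.mk h (IsLocalization.integerNormalization (nonZeroDivisors A) g), AdjoinRoot.of h (d : A), ?_, ?_⟩
    · rw [AdjoinRoot.lift_of, IsScalarTower.algebraMap_apply A K L]
      exact (_root_.map_ne_zero _).2 ((map_ne_zero_iff _ (IsFractionRing.injective A K)).2 (nonZeroDivisors.coe_ne_zero d))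
    · rw [AdjoinRoot.lift_of, AdjoinRoot.lift_mk, IsScalarTower.algebraMap_eq A K L, ← eval₂_map, hd, ← hg,
        Algebra.smul_def, eval₂_mul]
      simp [aeval_def, mul_comm]
  obtain ⟨V₀, hV₀⟩ := exists_dominating (A := A) (L := L) K
  have hmemV : ∀ (V : ValuationSubring L), Dominates A (algebraMap A L) V → ∀ x : P, φ₀ x ∈ V := by
    intro V hV x
    letI : Algebra A V := (RingHom.codRestrict (algebraMap A L) V hV.1).toAlgebra
    haveI : IsScalarTower A V L := IsScalarTower.of_algebraMap_eq fun _ => rfl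
    let φA : P →ₐ[A] L := { φ₀ with commutes' := fun b => AdjoinRoot.lift_of _ }
    obtain ⟨y, hy⟩ := IsIntegrallyClosed.isIntegral_iff.1 (((IsIntegral.of_finite A x).map φA).tower_top (A := V))
    rw [show φ₀ x = ((y : V) : L) from hy.symm]; exact y.2
  have ht1 : (Ideal.span {t}) ≠ ⊤ := by
    intro htop
    rw [Ideal.span_singleton_eq_top] at htop
    have hu := htop.map (φ₀.codRestrict V₀ (hmemV V₀ hV₀))
    refine (mem_maximalIdeal _).1 ((V₀.valuation_lt_one_iff ⟨_, hV₀.1 π⟩).2 (hV₀.2 π hπ.not_isUnit)) ?_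
    convert hu using 1
    exact Subtype.ext (AdjoinRoot.lift_of _).symm
  have hlocal : ∀ M : Ideal P, M.IsMaximal → M = Ideal.span {t} := by
    intro M hM
    have hc := Ideal.isMaximal_comap_of_isIntegral_of_isMaximal (R := A) M
    have htM : t ∈ M := by
      have : π ∈ M.comap (algebraMap A P) := by
        rw [IsLocalRing.eq_maximalIdeal hc]; exact hπ.not_isUnit
      exact this
    haveI : Nontrivial (P ⧸ Ideal.span {t}) := Ideal.Quotient.nontrivial_iff.2 ht1
    have hf : IsField (P ⧸ Ideal.span {t}) := MulEquiv.isField (Field.toIsField Q)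
      (RingEquiv.ofBijective ψ ⟨ψ.injective, hψ⟩).symm.toMulEquiv
    exact ((Ideal.Quotient.maximal_ideal_iff_isField_quotient _).2 hf).eq_of_le hM.ne_top
      ((Ideal.span_singleton_le_iff_mem _).2 htM) |>.symm
  haveI : Nontrivial P := φ₀.domain_nontrivial
  haveI : IsLocalRing P := IsLocalRing.of_unique_max_ideal (by
    obtain ⟨M, hM⟩ := Ideal.exists_maximal P
    exact ⟨M, hM, fun M' hM' => (hlocal M' hM').trans (hlocal M hM).symm⟩)
  haveI : IsNoetherianRing P := IsNoetherianRing.of_finite A P
  have hmaxP : maximalIdeal P = Ideal.span {t} := hlocal _ inferInstance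
  have hdec : ∀ b : P, b ≠ 0 → ∃ (i : ℕ) (v : Pˣ), b = t ^ i * v := by
    intro b hb
    have hex : ∃ i, b ∉ Ideal.span {t} ^ i := by
      by_contra! hall
      have h0 : b ∈ ⨅ i : ℕ, maximalIdeal P ^ i := by rw [hmaxP]; exact Ideal.mem_iInf.2 hall
      rw [Ideal.iInf_pow_eq_bot_of_isLocalRing _ (Ideal.IsPrime.ne_top inferInstance)] at h0
      exact hb h0
    obtain ⟨i, hi⟩ : ∃ i, Nat.find hex = i + 1 := Nat.exists_eq_succ_of_ne_zero fun h0 => by
      have := Nat.find_spec hex
      rw [h0, pow_zero, Ideal.one_eq_top] at this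
      exact this trivial
    have hin : b ∈ Ideal.span {t} ^ i := not_not.1 (Nat.find_min hex (by omega))
    have hnot : b ∉ Ideal.span {t} ^ (i + 1) := hi ▸ Nat.find_spec hex
    rw [Ideal.span_singleton_pow, Ideal.mem_span_singleton'] at hin hnot
    obtain ⟨v, hv⟩ := hin
    have hvu : IsUnit v := notMem_maximalIdeal.1 fun hvm => by
      rw [hmaxP, Ideal.mem_span_singleton'] at hvm
      obtain ⟨r, hr⟩ := hvm
      exact hnot ⟨r, by rw [← hv, ← hr, pow_succ']; ring⟩
    exact ⟨i, hvu.unit, by rw [← hv, IsUnit.unit_spec, mul_comm]⟩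
  refine ⟨⟨V₀, hV₀⟩, ?_, ?_⟩
  · have hsub : ∀ V V' : ValuationSubring L, Dominates A (algebraMap A L) V → Dominates A (algebraMap A L) V' →
        V ≤ V' := by
      intro V V' hV hV' x hx
      rcases eq_or_ne x 0 with rfl | hx0
      · exact zero_mem V'
      obtain ⟨b, d, hd, hxd⟩ := hgenP x
      have hb : φ₀ b ≠ 0 := hxd ▸ mul_ne_zero hx0 hd
      obtain ⟨i, v, rfl⟩ := hdec b fun h0 => hb (h0 ▸ map_zero φ₀)
      obtain ⟨j, v', rfl⟩ := hdec d fun h0 => hd (h0 ▸ map_zero φ₀)
      rw [map_mul, map_mul, map_pow, map_pow, AdjoinRoot.lift_of] at hxd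
      have hvv : φ₀ v' * φ₀ ↑v'⁻¹ = 1 := by rw [← map_mul, Units.mul_inv, map_one]
      by_cases hij : j ≤ i
      · have : x = algebraMap A L π ^ (i - j) * (φ₀ v * φ₀ ↑v'⁻¹) := by
          apply mul_right_cancel₀ (pow_ne_zero j hπL)
          rw [show algebraMap A L π ^ (i - j) * (φ₀ v * φ₀ ↑v'⁻¹) * algebraMap A L π ^ j =
            algebraMap A L π ^ i * φ₀ v * φ₀ ↑v'⁻¹ by
              conv_rhs => rw [← Nat.sub_add_cancel hij, pow_add]
              ring, ← hxd]
          linear_combination (-(x * algebraMap A L π ^ j)) * hvv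
        rw [this]
        exact mul_mem (pow_mem (hV'.1 π) _) (mul_mem (hmemV V' hV' _) (hmemV V' hV' _))
      · exfalso
        have h1 : V.valuation (φ₀ v) = 1 := (V.valuation_eq_one_iff ⟨_, hmemV V hV _⟩).1
          ((v.isUnit).map (φ₀.codRestrict V (hmemV V hV)))
        have h2 : V.valuation (φ₀ v') = 1 := (V.valuation_eq_one_iff ⟨_, hmemV V hV _⟩).1
          ((v'.isUnit).map (φ₀.codRestrict V (hmemV V hV)))
        have h3 := congrArg V.valuation hxd
        rw [map_mul, map_mul, map_mul, h1, h2, mul_one, mul_one, map_pow, map_pow,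
          ← Nat.sub_add_cancel (Nat.le_of_not_le hij), pow_add, ← mul_assoc] at h3
        have h4 := mul_right_cancel₀ (pow_ne_zero i ((_root_.map_ne_zero _).2 hπL)) (h3.trans (one_mul _).symm)
        exact absurd h4 (ne_of_lt (lt_of_le_of_lt (mul_le_of_le_one_left' ((V.valuation_le_one_iff x).2 hx))
          (pow_lt_one₀ zero_le (hV.2 π hπ.not_isUnit) (by omega))))
    exact fun V V' hV hV' => le_antisymm (hsub V V' hV hV') (hsub V' V hV' hV)
  intro V hV
  intro _
  haveI : IsDiscreteValuationRing V := FSExt.isDVR V ((dom_iff (K := K) V).1 hV)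
  letI : Algebra A V := (RingHom.codRestrict (algebraMap A L) V hV.1).toAlgebra
  haveI : IsLocalHom (algebraMap A V) := DomVal.isLocalHom_of_dominates hV
  let φ : P →+* V := φ₀.codRestrict V (hmemV V hV)
  have hφA : ∀ b, φ (AdjoinRoot.of h b) = algebraMap A V b := fun b => Subtype.ext (AdjoinRoot.lift_of _)
  obtain ⟨hmax, hres⟩ := FSExt.core V φ t (by rw [hφA]; exact map_nonunit _ _ hπ.not_isUnit) (by
      rw [hφA]; exact fun h0 => hπL (congrArg Subtype.val h0))
    (fun x => by
      obtain ⟨b, d, hd, hbd⟩ := hgenP x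
      exact ⟨b, d, fun h0 => hd (congrArg Subtype.val h0), hbd⟩)
    (fun q hq => by rw [Ideal.eq_bot_of_prime q]; exact Ideal.bot_isMaximal) ψ hψ
  refine ⟨(congrArg (Ideal.map (algebraMap A V)) hπ.maximalIdeal_eq).trans
    (by rw [Ideal.map_span, Set.image_singleton, hmax, hφA]), ?_⟩
  let Θ : Q →ₐ[k] ResidueField V := AdjoinRoot.liftAlgHom hbar (Algebra.ofId k _) (residue V (φ (AdjoinRoot.root h))) (by
    simp only [hbar, eval₂_sub, eval₂_X_pow, eval₂_C]
    rw [sub_eq_zero]
    show _ = residue V (algebraMap A V a)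
    rw [← map_pow, ← map_pow, ← sub_eq_zero, ← map_sub, residue_eq_zero_iff, ← hφA, ← map_sub]
    have hroot : AdjoinRoot.root h ^ p = AdjoinRoot.of h c * AdjoinRoot.root h + AdjoinRoot.of h a := by
      have := AdjoinRoot.eval₂_root h
      simpa [h, sub_eq_zero] using this
    rw [hroot, add_sub_cancel_right, map_mul, hφA, map_pow]
    exact Ideal.mul_mem_right _ _ (Ideal.pow_mem_of_mem _ (map_nonunit _ _ hπ.not_isUnit) _ (Nat.mul_pos (by omega) hm)))
  have hΘ : Function.Surjective Θ := by
    intro y
    obtain ⟨x, rfl⟩ := hres y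
    obtain ⟨g, rfl⟩ := AdjoinRoot.mk_surjective x
    refine ⟨AdjoinRoot.mk hbar (g.map (residue A)), ?_⟩
    show AdjoinRoot.liftAlgHom hbar (Algebra.ofId k _) (residue V (φ (AdjoinRoot.root h))) _ _ = residue V (φ _)
    rw [AdjoinRoot.liftAlgHom_mk, eval₂_map, ← AdjoinRoot.aeval_eq, aeval_def, hom_eval₂, hom_eval₂]
    congr 1
    refine RingHom.ext fun b => ?_
    show residue V (algebraMap A V b) = residue V (φ (AdjoinRoot.of h b))
    rw [hφA]
  let eΘ : Q ≃ₐ[k] ResidueField V := AlgEquiv.ofBijective Θ ⟨Θ.toRingHom.injective, hΘ⟩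
  constructor
  · haveI : ExpChar k p := ExpChar.prime hpp.out
    rw [isPurelyInseparable_iff_pow_mem k p]
    intro x
    obtain ⟨y, rfl⟩ := hΘ x
    obtain ⟨g, rfl⟩ := AdjoinRoot.mk_surjective y
    refine ⟨1, (g.map (frobenius k p)).eval (residue A a), ?_⟩
    have h1 : (AdjoinRoot.mk hbar g) ^ p = algebraMap k Q ((g.map (frobenius k p)).eval (residue A a)) := by
      have hr : AdjoinRoot.root hbar ^ p = algebraMap k Q (residue A a) := by
        show AdjoinRoot.root hbar ^ p = AdjoinRoot.of hbar (residue A a)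
        have := AdjoinRoot.eval₂_root hbar
        simpa [hbar, sub_eq_zero, AdjoinRoot.algebraMap_eq] using this
      rw [← map_pow, ← Polynomial.map_frobenius_expand (p := p), map_expand, ← AdjoinRoot.aeval_eq, expand_aeval,
        hr, aeval_algebraMap_apply, aeval_def, Algebra.algebraMap_self, eval₂_id]
    rw [pow_one, ← map_pow, h1, Θ.commutes]
  · rw [← eΘ.toLinearEquiv.finrank_eq, (AdjoinRoot.powerBasis (Fact.out : Irreducible hbar).ne_zero).finrank,
      AdjoinRoot.powerBasis_dim, natDegree_X_pow_sub_C]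

/-- Removing removable poles. -/
theorem classify (n : ℕ) : ∀ (ξ : K) (z : L), z ^ p - z = algebraMap K L ξ → IntermediateField.adjoin K {z} = ⊤ →
    (∃ a : A, ξ * algebraMap A K π ^ n = algebraMap A K a) →
    Module.finrank K L = 1 ∨ (IsUnramifiedExt A (algebraMap A L) ∧ Module.finrank K L = p) ∨
      (IsTotallyRamified A (algebraMap A L) ∧ Module.finrank K L = p) ∨ Case4 p (algebraMap A L) := by
  haveI := charP_A (p := p) A K
  induction n using Nat.strong_induction_on with
  | _ n ih =>
    rintro ξ z hz hgen ⟨a, ha⟩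
    rcases Nat.eq_zero_or_pos n with rfl | hn
    · rw [pow_zero, mul_one] at ha
      subst ha
      exact (caseA hπ a z hz hgen).imp_right Or.inl
    by_cases hau : IsUnit a
    · by_cases hpn : p ∣ n
      · by_cases hres : ∀ r : A, residue A a ≠ residue A r ^ p
        · exact Or.inr (Or.inr (Or.inr (caseC hπ ξ z hz hgen n a hn hpn hres ha)))
        push Not at hres
        obtain ⟨r, hr⟩ := hres
        obtain ⟨m, rfl⟩ := hpn
        have hm : 0 < m := Nat.pos_of_ne_zero fun h => by rw [h, mul_zero] at hn; exact lt_irrefl 0 hn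
        have hlt : m < p * m := lt_mul_left hm hpp.out.one_lt
        obtain ⟨d, hd⟩ : π ∣ a - r ^ p + r * π ^ (p * m - m) := by
          refine dvd_add ?_ (dvd_mul_of_dvd_right (dvd_pow_self _ (by omega)) _)
          rw [← Ideal.mem_span_singleton, ← hπ.maximalIdeal_eq, ← residue_eq_zero_iff, map_sub, map_pow, hr, sub_self]
        have hπK : algebraMap A K π ≠ 0 := (map_ne_zero_iff _ (IsFractionRing.injective A K)).2 hπ.ne_zero
        let η : K := algebraMap A K r / algebraMap A K π ^ m
        haveI : CharP L p := charP_of_injective_algebraMap (algebraMap K L).injective p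
        refine ih (p * m - 1) (by omega) (ξ - η ^ p + η) (z - algebraMap K L η) ?_ ?_ ⟨d, ?_⟩
        · rw [sub_pow_char, map_add, map_sub, map_pow, ← hz]; ring
        · refine top_le_iff.1 (hgen ▸ IntermediateField.adjoin_le_iff.2 (Set.singleton_subset_iff.2 ?_))
          have h1 := add_mem (IntermediateField.mem_adjoin_simple_self K (z - algebraMap K L η))
            (IntermediateField.algebraMap_mem _ η)
          rwa [sub_add_cancel] at h1
        · refine mul_right_cancel₀ hπK ?_
          rw [mul_assoc, ← pow_succ, Nat.sub_add_cancel (by omega : 1 ≤ p * m), ← map_mul, mul_comm d, ← hd, map_add,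
            map_sub, ← ha, map_pow, map_mul, map_pow]
          have h1 : η * algebraMap A K π ^ m = algebraMap A K r := div_mul_cancel₀ _ (pow_ne_zero m hπK)
          have h2 : algebraMap A K π ^ (p * m) = algebraMap A K π ^ (p * m - m) * algebraMap A K π ^ m := by
            rw [← pow_add, Nat.sub_add_cancel hlt.le]
          have h3 : η ^ p * algebraMap A K π ^ (p * m) = algebraMap A K r ^ p := by
            rw [← h1, mul_pow, ← pow_mul, mul_comm m p]
          linear_combination -h3 + η * h2 + algebraMap A K π ^ (p * m - m) * h1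
      · exact Or.inr (Or.inr (Or.inl (caseB hπ ξ z hz hgen n hau.unit hn hpn ha)))
    · obtain ⟨d, rfl⟩ : π ∣ a := by rw [← Ideal.mem_span_singleton, ← hπ.maximalIdeal_eq]; exact hau
      refine ih (n - 1) (by omega) ξ z hz hgen ⟨d, ?_⟩
      have hπK : algebraMap A K π ≠ 0 := (map_ne_zero_iff _ (IsFractionRing.injective A K)).2 hπ.ne_zero
      refine mul_right_cancel₀ hπK ?_
      rw [mul_assoc, ← pow_succ, Nat.sub_add_cancel hn, ha, map_mul, mul_comm]

end

/-- Let A be a discrete valuation ring whose fraction field K has characteristic p > 0, let ξ be an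
element of K and let L = K(z) be obtained by adjoining a root z of z^p - z = ξ. Then L/K is a Galois
extension, and it falls under one of four cases: (1) L = K; (2) L/K has degree p and is unramified
with respect to A; (3) L/K has degree p and is totally ramified with respect to A (ramification
index p); (4) exactly one valuation ring of L dominates A (so B, the integral closure of A in L, is
itself a discrete valuation ring), the extension A → B is weakly unramified, and its residue field
extension is purely inseparable of degree p. Moreover, with π a uniformizer of A: (A) if ξ lies in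
A, case (1) or (2) holds; (B) if ξ = π⁻ⁿa with n > 0 prime to p and a a unit of A, case (3) holds;
(C) if ξ = π⁻ⁿa with n > 0 divisible by p and the residue class of a not a p-th power, case (4)
holds. -/
theorem result (p : ℕ) (hp : p.Prime) (A K L : Type u) [CommRing A] [IsDomain A]
    [IsDiscreteValuationRing A] [Field K] [Algebra A K] [IsFractionRing A K] [Field L] [Algebra K L] [Algebra A L]
    [IsScalarTower A K L] [CharP K p] (π : A) (hπ : IsLocalRing.maximalIdeal A = Ideal.span {π})
    (ξ : K) (z : L) (hz : z ^ p - z = algebraMap K L ξ) (hgen : IntermediateField.adjoin K {z} = ⊤) :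
    let g : A →+* L := algebraMap A L
    let case1 : Prop := Module.finrank K L = 1
    let case2 : Prop := EtRam.IsUnramifiedExt A g ∧ Module.finrank K L = p
    let case3 : Prop := EtRam.IsTotallyRamified A g ∧ Module.finrank K L = p
    let case4 : Prop := (∃ V : ValuationSubring L, EtRam.Dominates A g V) ∧
      (∀ V V' : ValuationSubring L, EtRam.Dominates A g V → EtRam.Dominates A g V' → V = V') ∧
      ∀ (V : ValuationSubring L) (h : EtRam.Dominates A g V),
        letI : Algebra A V := (RingHom.codRestrict g V h.1).toAlgebra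
        ∀ [IsLocalHom (algebraMap A V)],
          EtRam.IsWeaklyUnramified A V ∧
            IsPurelyInseparable (IsLocalRing.ResidueField A) (IsLocalRing.ResidueField V) ∧
            Module.finrank (IsLocalRing.ResidueField A) (IsLocalRing.ResidueField V) = p
    IsGalois K L ∧ (case1 ∨ case2 ∨ case3 ∨ case4) ∧
      ((∃ a : A, algebraMap A K a = ξ) → case1 ∨ case2) ∧
      (∀ (n : ℕ) (a : Aˣ), 0 < n → ¬ p ∣ n → ξ * algebraMap A K π ^ n = algebraMap A K a → case3) ∧
      (∀ (n : ℕ) (a : A), 0 < n → p ∣ n → (∀ r : A, IsLocalRing.residue A a ≠ IsLocalRing.residue A r ^ p) →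
          ξ * algebraMap A K π ^ n = algebraMap A K a → case4) := by
  haveI : Fact p.Prime := ⟨hp⟩
  have hπ' : Irreducible π := (IsDiscreteValuationRing.irreducible_iff_uniformizer π).2 hπ
  obtain ⟨-, -, hgal, -⟩ := finite (p := p) hz hgen
  refine ⟨hgal, ?_, ?_, ?_, ?_⟩
  · obtain ⟨⟨a, b, hb⟩, hab⟩ := IsLocalization.surj (nonZeroDivisors A) ξ
    obtain ⟨n, u, hu⟩ := IsDiscreteValuationRing.eq_unit_mul_pow_irreducible (nonZeroDivisors.ne_zero hb) hπ'
    refine classify hπ' n ξ z hz hgen ⟨a * ↑u⁻¹, ?_⟩
    simp only [hu, map_mul, map_pow] at hab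
    rw [map_mul, ← hab]
    have : algebraMap A K ↑u * algebraMap A K ↑u⁻¹ = 1 := by rw [← map_mul, Units.mul_inv, map_one]
    linear_combination (-(ξ * algebraMap A K π ^ n)) * this
  · rintro ⟨a, rfl⟩
    exact caseA hπ' a z hz hgen
  · exact fun n a hn hpn h => caseB hπ' ξ z hz hgen n a hn hpn h
  · exact fun n a hn hpn ha h => caseC hπ' ξ z hz hgen n a hn hpn ha h

end Groth.Agent.S7158
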