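import Groth.Statements.S7155
import Groth.Agent.H48.EppInsep
import Groth.Agent.H48.DegP
import Groth.Agent.S7157
import Groth.Agent.S7158
import Mathlib.FieldTheory.Galois.Basic
import Mathlib.Algebra.BigOperators.Field
import Mathlib.RingTheory.Trace.Basic
import Mathlib.FieldTheory.IsAlgClosed.AlgebraicClosure

set_option autoImplicit false
universe u
open EtAlg

namespace Groth.Agent.S7155

open IsLocalRing EtRam Groth.Agent.H48

section

variable {p : ℕ} [hp : Fact p.Prime]

/-- Artin–Schreier generators. -/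
theorem artin_schreier {L M : Type u} [Field L] [Field M] [Algebra L M] [CharP L p] [IsGalois L M]
    (hdeg : Module.finrank L M = p) :
    ∃ (z : M) (ξ : L), z ^ p - z = algebraMap L M ξ ∧ IntermediateField.adjoin L {z} = ⊤ := by
  classical
  haveI : FiniteDimensional L M := Module.finite_of_finrank_pos (by rw [hdeg]; exact hp.out.pos)
  haveI : CharP M p := charP_of_injective_ringHom (algebraMap L M).injective p
  have hcard : Nat.card (M ≃ₐ[L] M) = p := by rw [IsGalois.card_aut_eq_finrank, hdeg]
  haveI : Nontrivial (M ≃ₐ[L] M) := Finite.one_lt_card_iff_nontrivial.1 (by rw [hcard]; exact hp.out.one_lt)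
  obtain ⟨σ, hσ⟩ := exists_ne (1 : M ≃ₐ[L] M)
  have hord : orderOf σ = p := (hp.out.eq_one_or_self_of_dvd _ (hcard ▸ orderOf_dvd_natCard σ)).resolve_left
    (fun h => hσ (orderOf_eq_one_iff.1 h))
  obtain ⟨θ, hθ⟩ := Algebra.trace_surjective L M 1
  have hsum : ∑ i ∈ Finset.range p, (σ ^ (i + 1)) θ = 1 := by
    have h1 := trace_eq_sum_automorphisms (K := L) (L := M) θ
    rw [hθ, map_one] at h1
    rw [h1]
    have hinj : Set.InjOn (fun i : ℕ => σ ^ (i + 1)) (Finset.range p) := fun i hi j hj h => by
      simp only [Finset.coe_range, Set.mem_Iio] at hi hj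
      refine pow_injOn_Iio_orderOf (x := σ) (by simpa [hord] using hi) (by simpa [hord] using hj) ?_
      simp only [pow_succ, mul_left_inj] at h
      exact h
    have himg : (Finset.range p).image (fun i => σ ^ (i + 1)) = Finset.univ := by
      rw [← Finset.card_eq_iff_eq_univ, Finset.card_image_of_injOn hinj, Finset.card_range, ← Nat.card_eq_fintype_card, hcard]
    rw [← himg, Finset.sum_image hinj]
  set z : M := -∑ i ∈ Finset.range p, (i : M) * (σ ^ i) θ with hz
  have hσz : σ z = z + 1 := by
    rw [hz, map_neg, map_sum, ← hsum]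
    have h1 : ∀ i ∈ Finset.range p, σ ((i : M) * (σ ^ i) θ) = ((i + 1 : ℕ) : M) * (σ ^ (i + 1)) θ - (σ ^ (i + 1)) θ :=
      fun i _ => by rw [map_mul, map_natCast, pow_succ', AlgEquiv.mul_apply]; push_cast; ring
    rw [Finset.sum_congr rfl h1, Finset.sum_sub_distrib]
    have h2 : ∑ i ∈ Finset.range p, ((i + 1 : ℕ) : M) * (σ ^ (i + 1)) θ = ∑ i ∈ Finset.range p, (i : M) * (σ ^ i) θ := by
      have h3 := Finset.sum_range_succ' (fun i => (i : M) * (σ ^ i) θ) p
      rw [Finset.sum_range_succ, CharP.cast_eq_zero, zero_mul, add_zero, Nat.cast_zero, zero_mul, add_zero] at h3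
      exact h3.symm
    rw [h2]; ring
  have hfix : ∀ g : M ≃ₐ[L] M, g (z ^ p - z) = z ^ p - z := by
    intro g
    obtain ⟨i, rfl⟩ : g ∈ Submonoid.powers σ := (IsOfFinOrder.mem_powers_iff_mem_zpowers (isOfFinOrder_of_finite σ)).2 (by
      rw [Subgroup.eq_top_of_card_eq (Subgroup.zpowers σ) (by rw [Nat.card_zpowers, hord, hcard])]; trivial)
    induction i with
    | zero => rfl
    | succ i ih =>
      show (σ ^ (i + 1)) _ = _
      rw [pow_succ, AlgEquiv.mul_apply, map_sub σ, map_pow σ, hσz, add_pow_char, one_pow, add_sub_add_right_eq_sub]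
      exact ih
  obtain ⟨ξ, hξ⟩ := (IsGalois.mem_range_algebraMap_iff_fixed _).2 hfix
  refine ⟨z, ξ, hξ.symm, ?_⟩
  rcases (Nat.dvd_prime hp.out).1 (hdeg ▸ (⟨_, (Module.finrank_mul_finrank L (IntermediateField.adjoin L {z}) M).symm⟩ :
      Module.finrank L (IntermediateField.adjoin L {z}) ∣ Module.finrank L M)) with h | h
  · exfalso
    rw [IntermediateField.finrank_eq_one_iff] at h
    obtain ⟨l, hl⟩ := IntermediateField.mem_bot.1 (h ▸ IntermediateField.mem_adjoin_simple_self L z)
    rw [← hl, σ.commutes] at hσz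
    exact one_ne_zero (left_eq_add.1 hσz)
  · exact IntermediateField.eq_of_le_of_finrank_eq le_top (by rw [h, IntermediateField.finrank_top', hdeg])

/-- Congruence modulo Artin–Schreier images and integral elements. -/
def Eqv (p : ℕ) {F : Type u} [Field F] (R : Subring F) (x y : F) : Prop :=
  ∃ η : F, x - y - (η ^ p - η) ∈ R

variable {F : Type u} [Field F] [CharP F p] {R : Subring F}

theorem eqv_of_sub_mem {x y : F} (h : x - y ∈ R) : Eqv p R x y :=
  ⟨0, by rwa [zero_pow hp.out.ne_zero, sub_self, sub_zero]⟩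

theorem eqv_refl (x : F) : Eqv p R x x := eqv_of_sub_mem (by rw [sub_self]; exact zero_mem R)

theorem eqv_trans {x y z : F} (h : Eqv p R x y) (h' : Eqv p R y z) : Eqv p R x z := by
  obtain ⟨η, hη⟩ := h
  obtain ⟨η', hη'⟩ := h'
  refine ⟨η + η', ?_⟩
  rw [add_pow_char, show x - z - (η ^ p + η' ^ p - (η + η')) = (x - y - (η ^ p - η)) + (y - z - (η' ^ p - η')) by ring]
  exact add_mem hη hη'

theorem eqv_add {x y x' y' : F} (h : Eqv p R x y) (h' : Eqv p R x' y') : Eqv p R (x + x') (y + y') := by
  obtain ⟨η, hη⟩ := h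
  obtain ⟨η', hη'⟩ := h'
  refine ⟨η + η', ?_⟩
  rw [add_pow_char, show x + x' - (y + y') - (η ^ p + η' ^ p - (η + η')) =
    (x - y - (η ^ p - η)) + (x' - y' - (η' ^ p - η')) by ring]
  exact add_mem hη hη'

theorem eqv_sum {ι : Type*} (s : Finset ι) {f g : ι → F} (h : ∀ i ∈ s, Eqv p R (f i) (g i)) :
    Eqv p R (∑ i ∈ s, f i) (∑ i ∈ s, g i) := by
  classical
  induction s using Finset.induction_on with
  | empty => exact eqv_refl 0
  | insert i s his ih =>
    rw [Finset.sum_insert his, Finset.sum_insert his]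
    exact eqv_add (h i (Finset.mem_insert_self i s)) (ih fun j hj => h j (Finset.mem_insert_of_mem hj))

theorem eqv_pow (t : F) (m : ℕ) : Eqv p R (t ^ p ^ m) t := by
  induction m with
  | zero => rw [pow_zero, pow_one]; exact eqv_refl t
  | succ m ih =>
    refine eqv_trans ⟨t ^ p ^ m, ?_⟩ ih
    rw [pow_succ, pow_mul, sub_self]
    exact zero_mem R

theorem eqv_map {G : Type u} [Field G] [CharP G p] {S : Subring G} (f : F →+* G) (hf : ∀ r ∈ R, f r ∈ S) {x y : F}
    (h : Eqv p R x y) : Eqv p S (f x) (f y) := by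
  obtain ⟨η, hη⟩ := h
  exact ⟨f η, by simpa using hf _ hη⟩

end

section

variable {p : ℕ} [hp : Fact p.Prime] {A B K L : Type u}
  [CommRing A] [IsDomain A] [IsDiscreteValuationRing A] [CommRing B] [IsDomain B] [IsDiscreteValuationRing B]
  [Algebra A B] [IsLocalHom (algebraMap A B)]
  [Field K] [Field L] [Algebra A K] [IsFractionRing A K] [Algebra B L] [IsFractionRing B L] [Algebra K L]
  [CharP L p] {π : A} (hπ : Irreducible π) (hπB : Irreducible (algebraMap A B π))
  (hcomp : ∀ x : A, algebraMap B L (algebraMap A B x) = algebraMap K L (algebraMap A K x))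
  (hk : ∀ x : ResidueField B, (∀ n : ℕ, ∃ y : ResidueField B, y ^ (p ^ n) = x) ↔
    x ∈ Set.range (algebraMap (ResidueField A) (ResidueField B)))

/-- A residue without a `p`-th root. -/
def Bad (p : ℕ) {R : Type u} [CommRing R] [IsLocalRing R] (c : R) : Prop := ∀ r : R, residue R c ≠ residue R r ^ p

include hπ hπB hk hcomp in
/-- Normal form for Artin–Schreier right hand sides. -/
theorem normal_form (n : ℕ) : ∀ ξ : L, (∃ b : B, ξ * algebraMap B L (algebraMap A B π) ^ n = algebraMap B L b) →
    ∃ (α : K) (s : Finset ℕ) (c : ℕ → B) (m : ℕ → ℕ), (∃ a : A, α * algebraMap A K π ^ n = algebraMap A K a) ∧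
      (∀ j ∈ s, 1 ≤ j ∧ j ≤ n ∧ Bad p (c j) ∧ (m j ≠ 0 → ¬ p ∣ j)) ∧
      Eqv p (algebraMap B L).range ξ
        (algebraMap K L α + ∑ j ∈ s, algebraMap B L (c j) ^ p ^ m j / algebraMap B L (algebraMap A B π) ^ j) := by
  classical
  set P := algebraMap B L (algebraMap A B π) with hPdef
  have hP0 : P ≠ 0 := (map_ne_zero_iff _ (IsFractionRing.injective B L)).2 hπB.ne_zero
  have hPK : algebraMap K L (algebraMap A K π) = P := (hcomp π).symm
  have hlower : ∀ (n : ℕ) (ξ : L) (b b' : B), 0 < n → ξ * P ^ n = algebraMap B L b → residue B b = residue B b' →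
      ∃ d : B, (ξ - algebraMap B L b' / P ^ n) * P ^ (n - 1) = algebraMap B L d := fun n ξ b b' hn hb hr => by
    obtain ⟨d, hd⟩ : algebraMap A B π ∣ b - b' := by
      rw [← Ideal.mem_span_singleton, ← hπB.maximalIdeal_eq, ← residue_eq_zero_iff, map_sub, hr, sub_self]
    refine ⟨d, mul_right_cancel₀ hP0 ?_⟩
    rw [mul_assoc, ← pow_succ, Nat.sub_add_cancel hn, sub_mul, div_mul_cancel₀ _ (pow_ne_zero _ hP0), hb, ← map_sub, hd,
      map_mul, mul_comm]
  induction n using Nat.strong_induction_on with
  | _ n ih =>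
    rintro ξ ⟨b, hb⟩
    rcases Nat.eq_zero_or_pos n with rfl | hn
    · refine ⟨0, ∅, fun _ => 0, fun _ => 0, ⟨0, by simp⟩, by simp, eqv_of_sub_mem ?_⟩
      rw [pow_zero, mul_one] at hb
      exact ⟨b, by simp [hb]⟩
    by_cases hA : residue B b ∈ Set.range (algebraMap (ResidueField A) (ResidueField B))
    · obtain ⟨x, hx⟩ := hA
      obtain ⟨a, rfl⟩ := residue_surjective x
      have hr : residue B b = residue B (algebraMap A B a) := by rw [← hx]; rfl
      obtain ⟨α, s, c, m, ⟨a', ha'⟩, hs, hrel⟩ := ih (n - 1) (by omega) _ (hlower n ξ b _ hn hb hr)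
      have hπK : algebraMap A K π ≠ 0 := (map_ne_zero_iff _ (IsFractionRing.injective A K)).2 hπ.ne_zero
      refine ⟨α + algebraMap A K a / algebraMap A K π ^ n, s, c, m, ⟨a' * π + a, ?_⟩,
        fun j hj => ⟨(hs j hj).1, (hs j hj).2.1.trans (Nat.sub_le _ _), (hs j hj).2.2⟩, ?_⟩
      · rw [add_mul, div_mul_cancel₀ _ (pow_ne_zero _ hπK), map_add, map_mul, ← ha', mul_assoc, ← pow_succ,
          Nat.sub_add_cancel hn]
      · have h2 := eqv_add hrel (eqv_refl (R := (algebraMap B L).range) (algebraMap B L (algebraMap A B a) / P ^ n))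
        rw [sub_add_cancel] at h2
        rw [map_add, map_div₀, map_pow, hPK, ← hcomp, add_right_comm]
        exact h2
    have hex : ∃ i, ¬ ∃ y : ResidueField B, y ^ p ^ i = residue B b := by
      by_contra h
      push Not at h
      exact hA ((hk _).1 h)
    obtain ⟨m₀, hm₀⟩ : ∃ m₀, Nat.find hex = m₀ + 1 := Nat.exists_eq_succ_of_ne_zero fun h0 => by
      have := Nat.find_spec hex
      rw [h0, pow_zero] at this
      exact this ⟨_, pow_one _⟩
    obtain ⟨y, hy⟩ := not_not.1 (Nat.find_min hex (m := m₀) (by omega))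
    obtain ⟨c₀, rfl⟩ := residue_surjective y
    have hbad : Bad p c₀ := fun r hr => by
      refine (hm₀ ▸ Nat.find_spec hex) ⟨residue B r, ?_⟩
      rw [pow_succ', pow_mul, ← hr, hy]
    by_cases hred : m₀ ≠ 0 ∧ p ∣ n
    · obtain ⟨hm0, n', rfl⟩ := hred
      obtain ⟨m', rfl⟩ : ∃ m', m₀ = m' + 1 := ⟨m₀ - 1, by omega⟩
      have hn' : 0 < n' := Nat.pos_of_ne_zero fun h => by rw [h, mul_zero] at hn; exact lt_irrefl 0 hn
      have hlt : n' < p * n' := lt_mul_left hn' hp.out.one_lt
      obtain ⟨d, hd⟩ := hlower (p * n') ξ b (c₀ ^ p ^ (m' + 1)) hn hb (by rw [map_pow, hy])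
      set η : L := algebraMap B L c₀ ^ p ^ m' / P ^ n' with hη
      have hηp : algebraMap B L (c₀ ^ p ^ (m' + 1)) / P ^ (p * n') = η ^ p := by
        rw [hη, div_pow, map_pow, ← pow_mul, ← pow_mul, pow_succ, mul_comm p n']
      have hd2 : ∃ d' : B, (ξ - η ^ p + η) * P ^ (p * n' - 1) = algebraMap B L d' := by
        refine ⟨d + c₀ ^ p ^ m' * algebraMap A B π ^ (p * n' - 1 - n'), ?_⟩
        rw [add_mul, ← hηp, hd, map_add, map_mul, map_pow (algebraMap B L), map_pow (algebraMap B L) _ (p * n' - 1 - n'),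
          ← hPdef, hη]
        congr 1
        rw [div_mul_eq_mul_div, eq_comm, eq_div_iff (pow_ne_zero _ hP0), mul_assoc, ← pow_add, Nat.sub_add_cancel (by omega)]
      obtain ⟨α, s, c, m, ⟨a', ha'⟩, hs, hrel⟩ := ih (p * n' - 1) (by omega) _ hd2
      refine ⟨α, s, c, m, ⟨a' * π, ?_⟩, fun j hj => ⟨(hs j hj).1, (hs j hj).2.1.trans (Nat.sub_le _ _), (hs j hj).2.2⟩,
        eqv_trans ⟨η, ?_⟩ hrel⟩
      · rw [map_mul, ← ha', mul_assoc, ← pow_succ, Nat.sub_add_cancel hn]
      · rw [show ξ - (ξ - η ^ p + η) - (η ^ p - η) = 0 by ring]; exact zero_mem _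
    · obtain ⟨d, hd⟩ := hlower n ξ b (c₀ ^ p ^ m₀) hn hb (by rw [map_pow, hy])
      obtain ⟨α, s, c, m, ⟨a', ha'⟩, hs, hrel⟩ := ih (n - 1) (by omega) _ ⟨d, hd⟩
      have hns : n ∉ s := fun h => by have := (hs n h).2.1; omega
      refine ⟨α, insert n s, Function.update c n c₀, Function.update m n m₀, ⟨a' * π, ?_⟩, fun j hj => ?_, ?_⟩
      · rw [map_mul, ← ha', mul_assoc, ← pow_succ, Nat.sub_add_cancel hn]
      · rcases Finset.mem_insert.1 hj with rfl | hj'
        · rw [Function.update_self, Function.update_self]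
          exact ⟨hn, le_rfl, hbad, fun h hd => hred ⟨h, hd⟩⟩
        · have hne : j ≠ n := fun h => hns (h ▸ hj')
          rw [Function.update_of_ne hne, Function.update_of_ne hne]
          exact ⟨(hs j hj').1, (hs j hj').2.1.trans (Nat.sub_le _ _), (hs j hj').2.2⟩
      · rw [Finset.sum_insert hns, Function.update_self, Function.update_self]
        have heq : ∑ j ∈ s, algebraMap B L (Function.update c n c₀ j) ^ p ^ Function.update m n m₀ j / P ^ j =
            ∑ j ∈ s, algebraMap B L (c j) ^ p ^ m j / P ^ j := Finset.sum_congr rfl fun j hj => by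
          have hne : j ≠ n := fun h => hns (h ▸ hj)
          rw [Function.update_of_ne hne, Function.update_of_ne hne]
        rw [heq]
        have h2 := eqv_add hrel (eqv_refl (R := (algebraMap B L).range) (algebraMap B L (c₀ ^ p ^ m₀) / P ^ n))
        rw [sub_add_cancel, map_pow] at h2
        rw [add_comm (algebraMap B L c₀ ^ p ^ m₀ / P ^ n), ← add_assoc]
        exact h2

include hk in
theorem perfect [CharP (ResidueField B) p] (k : ℕ) (x : ResidueField A) :
    ∃ y, y ^ p ^ k = x := by
  induction k generalizing x with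
  | zero => exact ⟨x, by rw [pow_zero, pow_one]⟩
  | succ k ih =>
    obtain ⟨x', rfl⟩ := ih x
    have hall := (hk (algebraMap _ _ x')).2 ⟨x', rfl⟩
    obtain ⟨y, hy⟩ := hall 1
    rw [pow_one] at hy
    have hy' : ∀ n : ℕ, ∃ w, w ^ p ^ n = y := fun n => by
      obtain ⟨w, hw⟩ := hall (n + 1)
      exact ⟨w, frobenius_inj (ResidueField B) p (by
        show (w ^ p ^ n) ^ p = y ^ p
        rw [← pow_mul, ← pow_succ, hw, hy])⟩
    obtain ⟨z, hz⟩ := (hk y).1 hy'
    refine ⟨z, ?_⟩
    have h1 : z ^ p = x' := (algebraMap (ResidueField A) (ResidueField B)).injective (by rw [map_pow, hz, hy])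
    rw [pow_succ', pow_mul, h1]

omit [IsDiscreteValuationRing B] [IsLocalHom (algebraMap A B)] [Field L] [Algebra B L] [IsFractionRing B L]
  [Algebra K L] [CharP L p] [CommRing B] [IsDomain B] [Algebra A B] hp in
include hπ in
/-- Expansion with `p^k`-th powers as digits. -/
theorem digits (q : ℕ) (hperf : ∀ x : ResidueField A, ∃ y, y ^ q = x) (n : ℕ) :
    ∀ α : K, (∃ a : A, α * algebraMap A K π ^ n = algebraMap A K a) →
      ∃ (a : ℕ → A) (β : A), α = (∑ j ∈ Finset.Icc 1 n, algebraMap A K (a j) ^ q / algebraMap A K π ^ j) + algebraMap A K β := by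
  have hπK : algebraMap A K π ≠ 0 := (map_ne_zero_iff _ (IsFractionRing.injective A K)).2 hπ.ne_zero
  induction n with
  | zero =>
    rintro α ⟨a, ha⟩
    rw [pow_zero, mul_one] at ha
    exact ⟨fun _ => 0, a, by simp [ha]⟩
  | succ n ih =>
    rintro α ⟨a, ha⟩
    obtain ⟨y, hy⟩ := hperf (residue A a)
    obtain ⟨a₁, rfl⟩ := residue_surjective y
    obtain ⟨d, hd⟩ : π ∣ a - a₁ ^ q := by
      rw [← Ideal.mem_span_singleton, ← hπ.maximalIdeal_eq, ← residue_eq_zero_iff, map_sub, map_pow, hy, sub_self]
    obtain ⟨f, β, hf⟩ := ih (α - algebraMap A K a₁ ^ q / algebraMap A K π ^ (n + 1)) ⟨d, mul_right_cancel₀ hπK (by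
      rw [mul_assoc, ← pow_succ, sub_mul, div_mul_cancel₀ _ (pow_ne_zero _ hπK), ha, ← map_pow, ← map_sub, hd, map_mul,
        mul_comm])⟩
    refine ⟨Function.update f (n + 1) a₁, β, ?_⟩
    rw [Finset.sum_Icc_succ_top (by omega : 1 ≤ n + 1), Function.update_self]
    have : ∑ j ∈ Finset.Icc 1 n, algebraMap A K (Function.update f (n + 1) a₁ j) ^ q / algebraMap A K π ^ j =
        ∑ j ∈ Finset.Icc 1 n, algebraMap A K (f j) ^ q / algebraMap A K π ^ j := Finset.sum_congr rfl fun j hj => by
      rw [Function.update_of_ne (by have := (Finset.mem_Icc.1 hj).2; omega)]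
    rw [this]
    linear_combination hf

include hπ in
omit [IsDiscreteValuationRing B] [IsLocalHom (algebraMap A B)] [Field L] [Algebra B L] [IsFractionRing B L]
  [Algebra K L] [CharP L p] [CommRing B] [IsDomain B] [Algebra A B] in
/-- Reduction in `K`. -/
theorem reduce [CharP K p] (hperf : ∀ x : ResidueField A, ∃ y, y ^ p = x) (n : ℕ) :
    ∀ α : K, (∃ a : A, α * algebraMap A K π ^ n = algebraMap A K a) →
      ∃ η : K, (∃ b : A, α - (η ^ p - η) = algebraMap A K b) ∨
        ∃ (i : ℕ) (u : Aˣ), 0 < i ∧ ¬ p ∣ i ∧ (α - (η ^ p - η)) * algebraMap A K π ^ i = algebraMap A K u := by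
  have hπK : algebraMap A K π ≠ 0 := (map_ne_zero_iff _ (IsFractionRing.injective A K)).2 hπ.ne_zero
  induction n using Nat.strong_induction_on with
  | _ n ih =>
    rintro α ⟨a, ha⟩
    rcases Nat.eq_zero_or_pos n with rfl | hn
    · rw [pow_zero, mul_one] at ha
      exact ⟨0, Or.inl ⟨a, by simp [hp.out.ne_zero, ha]⟩⟩
    by_cases hau : IsUnit a
    swap
    · obtain ⟨d, rfl⟩ : π ∣ a := by rw [← Ideal.mem_span_singleton, ← hπ.maximalIdeal_eq]; exact hau
      exact ih (n - 1) (by omega) α ⟨d, mul_right_cancel₀ hπK (by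
        rw [mul_assoc, ← pow_succ, Nat.sub_add_cancel hn, ha, map_mul, mul_comm])⟩
    by_cases hpn : p ∣ n
    swap
    · exact ⟨0, Or.inr ⟨n, hau.unit, hn, hpn, by simp [hp.out.ne_zero, ha]⟩⟩
    obtain ⟨n', rfl⟩ := hpn
    have hn' : 0 < n' := Nat.pos_of_ne_zero fun h => by rw [h, mul_zero] at hn; exact lt_irrefl 0 hn
    have hlt : n' < p * n' := lt_mul_left hn' hp.out.one_lt
    obtain ⟨y, hy⟩ := hperf (residue A a)
    obtain ⟨c, rfl⟩ := residue_surjective y
    obtain ⟨d, hd⟩ : π ∣ a - c ^ p := by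
      rw [← Ideal.mem_span_singleton, ← hπ.maximalIdeal_eq, ← residue_eq_zero_iff, map_sub, map_pow, hy, sub_self]
    set η₁ : K := algebraMap A K c / algebraMap A K π ^ n' with hη₁
    obtain ⟨η, hη⟩ := ih (p * n' - 1) (by omega) (α - (η₁ ^ p - η₁))
      ⟨d + c * π ^ (p * n' - 1 - n'), mul_right_cancel₀ hπK (by
        rw [mul_assoc, ← pow_succ, Nat.sub_add_cancel hn, sub_mul, sub_mul, ha, hη₁, div_pow, ← pow_mul, mul_comm n' p,
          div_mul_cancel₀ _ (pow_ne_zero _ hπK), map_add, add_mul, ← map_mul _ d π, mul_comm d π, ← hd, map_sub, map_pow,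
          map_mul, map_pow, mul_assoc, ← pow_succ, div_mul_eq_mul_div]
        have h2 : algebraMap A K π ^ (p * n') = algebraMap A K π ^ (p * n' - 1 - n' + 1) * algebraMap A K π ^ n' := by
          rw [← pow_add]; congr 1; omega
        rw [h2]; field_simp; ring)⟩
    refine ⟨η₁ + η, ?_⟩
    have he : α - ((η₁ + η) ^ p - (η₁ + η)) = α - (η₁ ^ p - η₁) - (η ^ p - η) := by rw [add_pow_char]; ring
    rw [he]; exact hη

omit [IsDiscreteValuationRing A] [IsFractionRing A K] in
include hcomp in
/-- The uniformizer of a totally ramified extension stays one after composition. -/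
theorem core {K₁ : Type u} [Field K₁] [Algebra K K₁] [FiniteDimensional K K₁] [IsDiscreteValuationRing A] [IsFractionRing A K]
    (hinjB : Irreducible (algebraMap A B π)) {q : ℕ} (hfr : Module.finrank K K₁ = q) (ρ : K₁)
    (key : ∀ (V : ValuationSubring K₁) (hV : Dominates A ((algebraMap K K₁).comp (algebraMap A K)) V),
      ∃ (r : V) (u : Vˣ), (r : K₁) = ρ ∧ Irreducible r ∧ RingHom.codRestrict _ V hV.1 π = u * r ^ q)
    {T : Type u} [Field T] [Algebra K T] [Algebra L T] [IsScalarTower K L T] (f : K₁ →ₐ[K] T)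
    (hgen : Algebra.adjoin L (Set.range f) = ⊤) (W : ValuationSubring T)
    (hW : Dominates B ((algebraMap L T).comp (algebraMap B L)) W) :
    ∃ (_ : IsDiscreteValuationRing W) (r : W) (u : Wˣ), Irreducible r ∧ (r : T) = f ρ ∧ Module.finrank L T = q ∧
      RingHom.codRestrict _ W hW.1 (algebraMap A B π) = u * r ^ q := by
  haveI : FiniteDimensional L T := FSExt.finite_of_adjoin f hgen
  haveI : IsDiscreteValuationRing W := FSExt.isDVR W hW
  have hV := FSExt.dominates_comap hcomp f W hW
  obtain ⟨r₀, u₀, hr₀, hirr₀, hru₀⟩ := key _ hV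
  letI : Algebra B W := (RingHom.codRestrict _ W hW.1).toAlgebra
  haveI : IsLocalHom (algebraMap B W) := DomVal.isLocalHom_of_dominates hW
  let ι : W.comap f.toRingHom →+* W := inclOfComap W f.toRingHom
  set r := ι r₀ with hr
  have hPr : algebraMap B W (algebraMap A B π) = ι u₀ * r ^ q := by
    rw [hr, ← map_pow, ← map_mul, ← hru₀]
    refine Subtype.ext ?_
    show algebraMap L T (algebraMap B L (algebraMap A B π)) = f (algebraMap K K₁ (algebraMap A K π))
    rw [hcomp, f.commutes, ← IsScalarTower.algebraMap_apply K L T]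
  have hinjW : Function.Injective (algebraMap B W) := fun a b h => IsFractionRing.injective B L
    ((algebraMap L T).injective (congrArg Subtype.val h))
  obtain ⟨τ, hτ⟩ := IsDiscreteValuationRing.exists_irreducible W
  obtain ⟨h0, v, hv⟩ := DVRExt.exists_unit_mul_pow hinjW hinjB hτ
  have he : Ideal.ramificationIdx' (maximalIdeal B) (maximalIdeal W) ≤ Module.finrank L T :=
    FSExt.ramificationIdx_le_finrank (B := B) (L := L) W hW
  have hle := (EppInsep.finrank_le (L := L) f hgen).trans_eq hfr
  set e := Ideal.ramificationIdx' (maximalIdeal B) (maximalIdeal W)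
  have hr0 : r ≠ 0 := fun h => hirr₀.ne_zero (Subtype.ext (f.toRingHom.injective
    ((congrArg Subtype.val h).trans (map_zero f.toRingHom).symm)))
  obtain ⟨m, w, hm⟩ := IsDiscreteValuationRing.eq_unit_mul_pow_irreducible hr0 hτ
  have hme : m * q = e := by
    refine IsDiscreteValuationRing.unit_mul_pow_congr_pow hτ hτ (Units.map ι.toMonoidHom u₀ * w ^ q) v _ _ ?_
    rw [← hv, hPr, hm, mul_pow, ← pow_mul, Units.val_mul, Units.val_pow_eq_pow_val, mul_assoc]
    rfl
  have hm1 : m = 1 := by
    have hm0 : m ≠ 0 := fun h => h0 (by rw [← hme, h, zero_mul])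
    have hq : 0 < q := hfr ▸ Module.finrank_pos
    by_contra h
    have : 2 * q ≤ m * q := Nat.mul_le_mul_right q (by omega)
    omega
  refine ⟨inferInstance, r, Units.map ι.toMonoidHom u₀, ?_, congrArg f hr₀, ?_, hPr⟩
  · rw [hm, hm1, pow_one]; exact (irreducible_units_mul w).2 hτ
  · rw [hm1, one_mul] at hme; omega

variable {C M : Type u} [CommRing C] [IsDomain C] [IsDiscreteValuationRing C] [Algebra B C] [IsLocalHom (algebraMap B C)]
  [Field M] [Algebra C M] [IsFractionRing C M] [Algebra L M] [Algebra K M] [IsScalarTower K L M] [CharP K p]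
  (hcompM : ∀ b : B, algebraMap C M (algebraMap B C b) = algebraMap L M (algebraMap B L b))
  {ξ : L} {z : M} (hz : z ^ p - z = algebraMap L M ξ) (hzgen : IntermediateField.adjoin L {z} = ⊤)

include hcomp hcompM hπB hz hzgen in
/-- The engine: good forms of `ξ` at all places give a weak solution. -/
theorem engine {K₁ : Type u} [Field K₁] [Algebra K K₁] [FiniteDimensional K K₁] {q : ℕ} (hfr : Module.finrank K K₁ = q) (ρ : K₁)
    (key : ∀ (V : ValuationSubring K₁) (hV : Dominates A ((algebraMap K K₁).comp (algebraMap A K)) V),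
      ∃ (r : V) (u : Vˣ), (r : K₁) = ρ ∧ Irreducible r ∧ RingHom.codRestrict _ V hV.1 π = u * r ^ q)
    (good : ∀ (T : Type u) [Field T] [Algebra K T] [Algebra L T] [IsScalarTower K L T] [CharP T p] (f : K₁ →ₐ[K] T)
      (V : ValuationSubring T) (hV : Dominates B ((algebraMap L T).comp (algebraMap B L)) V) [IsDiscreteValuationRing V]
      (r : V), Irreducible r → (r : T) = f ρ →
      (∀ v : V, ∃ b : B, v - RingHom.codRestrict _ V hV.1 b ∈ maximalIdeal V) →
      Eqv p V.toSubring (algebraMap L T ξ) 0 ∨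
        ∃ (n : ℕ) (a : V), 0 < n ∧ p ∣ n ∧ Bad p a ∧ Eqv p V.toSubring (algebraMap L T ξ) ((a : T) / (r : T) ^ n)) :
    IsWeakSolution C K M K₁ := by
  classical
  intro M' _ _ _ _ _ _ hgen W hW
  haveI : FiniteDimensional L M := (S7158.finite (p := p) hz hzgen).1
  haveI : FiniteDimensional M M' := FSExt.finite_of_adjoin (IsScalarTower.toAlgHom K K₁ M') hgen
  letI : Algebra L M' := ((algebraMap M M').comp (algebraMap L M)).toAlgebra
  haveI : IsScalarTower L M M' := IsScalarTower.of_algebraMap_eq fun _ => rfl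
  haveI : FiniteDimensional L M' := FiniteDimensional.trans L M M'
  haveI : IsScalarTower K L M' := IsScalarTower.of_algebraMap_eq fun a => by
    rw [IsScalarTower.algebraMap_apply L M M', ← IsScalarTower.algebraMap_apply K L M, ← IsScalarTower.algebraMap_apply K M M']
  let T : IntermediateField L M' := IntermediateField.adjoin L (Set.range (algebraMap K₁ M'))
  let fT : K₁ →ₐ[K] T :=
    { (algebraMap K₁ M').codRestrict T fun a => IntermediateField.subset_adjoin L _ ⟨a, rfl⟩ with
      commutes' := fun a => Subtype.ext ((IsScalarTower.algebraMap_apply K K₁ M' a).symm.trans rfl) }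
  have hgenT : Algebra.adjoin L (Set.range fT) = ⊤ := by
    apply Subalgebra.map_injective (f := T.val) Subtype.val_injective
    rw [AlgHom.map_adjoin, Algebra.map_top, ← Set.range_comp, T.range_val]
    exact (IntermediateField.adjoin_toSubalgebra_of_isAlgebraic fun a _ => Algebra.IsAlgebraic.isAlgebraic a).symm
  let WT : ValuationSubring T := W.comap T.val.toRingHom
  have hWB : Dominates B ((algebraMap L M').comp (algebraMap B L)) W := by
    refine ⟨fun b => ?_, fun b hb => ?_⟩
    · show algebraMap M M' (algebraMap L M (algebraMap B L b)) ∈ W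
      rw [← hcompM]; exact hW.1 _
    · show W.valuation (algebraMap M M' (algebraMap L M (algebraMap B L b))) < 1
      rw [← hcompM]; exact hW.2 _ (map_nonunit _ _ hb)
  have hWT : Dominates B ((algebraMap L T).comp (algebraMap B L)) WT := by
    rw [DomVal.dominates_comap_iff, show T.val.toRingHom.comp ((algebraMap L T).comp (algebraMap B L)) =
      (algebraMap L M').comp (algebraMap B L) from RingHom.ext fun a => rfl]
    exact hWB
  obtain ⟨hdvrT, r, uT, hr, hrρ, hfrT, huT⟩ := core hcomp hπB hfr ρ key fT hgenT WT hWT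
  haveI := hdvrT
  haveI : IsDiscreteValuationRing W := FSExt.isDVR W hWB
  haveI : FiniteDimensional T M' := Module.Finite.of_restrictScalars_finite L T M'
  haveI : CharP T p := charP_of_injective_ringHom (algebraMap L T).injective p
  set zT : M' := algebraMap M M' z
  have hgenz : IntermediateField.adjoin T {zT} = ⊤ := by
    refine eq_top_iff.2 fun y _ => ?_
    let S := (IntermediateField.adjoin T {zT}).restrictScalars L
    have hM : ∀ m : M, algebraMap M M' m ∈ S := fun m => by
      have hm : m ∈ IntermediateField.adjoin L {z} := by rw [hzgen]; trivial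
      have h2 : IntermediateField.adjoin L {z} ≤ S.comap (IsScalarTower.toAlgHom L M M') :=
        IntermediateField.adjoin_le_iff.2 (Set.singleton_subset_iff.2 (IntermediateField.mem_adjoin_simple_self T zT))
      exact h2 hm
    have hy : y ∈ Algebra.adjoin M (Set.range (algebraMap K₁ M')) := by rw [hgen]; trivial
    induction hy using Algebra.adjoin_induction with
    | mem y hy =>
      obtain ⟨a, rfl⟩ := hy
      exact (IntermediateField.adjoin T {zT}).algebraMap_mem (fT a)
    | algebraMap m => exact hM m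
    | add a b _ _ ha hb => exact add_mem (ha trivial) (hb trivial)
    | mul a b _ _ ha hb => exact mul_mem (ha trivial) (hb trivial)
  have hres := EppInsep.res_surj (hfr ▸ Module.finrank_pos) hπB hfrT WT hWT r hr uT huT
  letI : Algebra WT M' := ((algebraMap T M').comp (algebraMap WT T)).toAlgebra
  haveI : IsScalarTower WT T M' := IsScalarTower.of_algebraMap_eq fun _ => rfl
  have hdomT : Dominates WT (algebraMap WT M') W := DomVal.dominates_subtype (f := T.val.toRingHom) W
  letI : Algebra WT W := (RingHom.codRestrict (algebraMap WT M') W hdomT.1).toAlgebra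
  haveI hlocT : IsLocalHom (algebraMap WT W) := DomVal.isLocalHom_of_dominates hdomT
  have hwu : IsWeaklyUnramified WT W := by
    have hinj : Function.Injective (algebraMap WT W) := fun a b h =>
      Subtype.ext ((algebraMap T M').injective (congrArg (fun w : W => (w : M')) h))
    have h1case : Module.finrank T M' = 1 → IsWeaklyUnramified WT W := fun h1 => by
      rw [DomVal.isWeaklyUnramified_iff hinj]
      obtain ⟨τ, hτ⟩ := IsDiscreteValuationRing.exists_irreducible W
      have h0 := (DVRExt.exists_unit_mul_pow hinj hr hτ).1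
      have hle : Ideal.ramificationIdx' (maximalIdeal WT) (maximalIdeal W) ≤ Module.finrank T M' :=
        FSExt.ramificationIdx_le_finrank (B := WT) (L := T) W hdomT
      omega
    have hz0 : zT ^ p - zT = algebraMap T M' (algebraMap L T ξ) := by
      rw [← map_pow, ← map_sub, hz]
      rfl
    rcases good T fT WT hWT r hr hrρ hres with ⟨η, hη⟩ | ⟨n, a, hn, hpn, ha, η, hη⟩
    all_goals
      have hz1 : (zT - algebraMap T M' η) ^ p - (zT - algebraMap T M' η) =
          algebraMap T M' (algebraMap L T ξ - (η ^ p - η)) := by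
        haveI : CharP M' p := charP_of_injective_ringHom (algebraMap L M').injective p
        rw [sub_pow_char, map_sub, map_sub, map_pow, ← hz0]; ring
      have hg1 : IntermediateField.adjoin T {zT - algebraMap T M' η} = ⊤ := by
        refine top_le_iff.1 (hgenz ▸ IntermediateField.adjoin_le_iff.2 (Set.singleton_subset_iff.2 ?_))
        have h1 := add_mem (IntermediateField.mem_adjoin_simple_self T (zT - algebraMap T M' η))
          ((IntermediateField.adjoin T {zT - algebraMap T M' η}).algebraMap_mem η)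
        rwa [sub_add_cancel] at h1
      obtain ⟨-, -, hA, -, hC⟩ := S7158.result p hp.out WT T M' r hr.maximalIdeal_eq _ _ hz1 hg1
    · rw [sub_zero] at hη
      rcases hA ⟨⟨_, hη⟩, rfl⟩ with h1 | ⟨h2, -⟩
      · exact h1case h1
      · exact (h2 W hdomT).1
    · let d : WT := ⟨_, hη⟩
      have hrT : (r : T) ≠ 0 := fun h => hr.ne_zero (Subtype.ext h)
      obtain ⟨-, -, h4⟩ := hC n (a + d * r ^ n) hn hpn (fun s hs => ha s (by
        rw [← hs, map_add, map_mul, map_pow, (residue_eq_zero_iff r).2 hr.not_isUnit, zero_pow hn.ne', mul_zero, add_zero])) (by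
        show (algebraMap L T ξ - (η ^ p - η)) * (r : T) ^ n = ((a + d * r ^ n : WT) : T)
        push_cast [d]
        field_simp
        ring)
      exact (h4 W hdomT).1
  -- descend to `K₁`
  have hirr : Irreducible (algebraMap WT W r) := by
    rw [IsDiscreteValuationRing.irreducible_iff_uniformizer, ← Set.image_singleton, ← Ideal.map_span, ← hr.maximalIdeal_eq]
    exact hwu.symm
  have hρW : ρ ∈ W.comap (algebraMap K₁ M') := by
    show algebraMap K₁ M' ρ ∈ W
    have : ((fT ρ : T) : M') = algebraMap K₁ M' ρ := rfl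
    rw [← this, ← hrρ]; exact r.2
  refine le_antisymm (Ideal.map_le_iff_le_comap.2 fun x hx hu => hx (isUnit_of_map_unit (inclOfComap W (algebraMap K₁ M')) x hu)) ?_
  rw [hirr.maximalIdeal_eq, Ideal.span_le, Set.singleton_subset_iff]
  have h : algebraMap WT W r = inclOfComap W (algebraMap K₁ M') ⟨ρ, hρW⟩ := Subtype.ext (by
    show ((r : T) : M') = algebraMap K₁ M' ρ
    rw [hrρ]; rfl)
  rw [h]
  exact Ideal.mem_map_of_mem _ fun hu => hirr.not_isUnit (h ▸ hu.map _)

end

theorem key_of_root {A K K₁ : Type u} [CommRing A] [IsDomain A] [IsDiscreteValuationRing A] [Field K] [Algebra A K]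
    [IsFractionRing A K] [Field K₁] [Algebra K K₁] [FiniteDimensional K K₁] [Algebra A K₁] [IsScalarTower A K K₁]
    {π : A} (hπ : Irreducible π) {q n : ℕ} (hn : 2 ≤ n) (hfr : Module.finrank K K₁ = q) (x β : K₁)
    (hx : IsIntegral A x) (hβ : IsIntegral A β) (heq : x ^ q = algebraMap A K₁ π + algebraMap A K₁ π ^ n * β)
    (V : ValuationSubring K₁) (hV : Dominates A ((algebraMap K K₁).comp (algebraMap A K)) V) :
    ∃ (r : V) (u : Vˣ), (r : K₁) = x ∧ Irreducible r ∧ RingHom.codRestrict _ V hV.1 π = u * r ^ q := by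
  have hq : 0 < q := hfr ▸ Module.finrank_pos
  haveI : IsDiscreteValuationRing V := FSExt.isDVR V hV
  letI : Algebra A V := (RingHom.codRestrict _ V hV.1).toAlgebra
  haveI : IsLocalHom (algebraMap A V) := DomVal.isLocalHom_of_dominates hV
  haveI : IsScalarTower A V K₁ := IsScalarTower.of_algebraMap_eq fun a => IsScalarTower.algebraMap_apply A K K₁ a
  obtain ⟨r, hr⟩ := IsIntegrallyClosed.isIntegral_iff.1 (hx.tower_top (A := V))
  obtain ⟨γ, hγ⟩ := IsIntegrallyClosed.isIntegral_iff.1 (hβ.tower_top (A := V))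
  set P := algebraMap A V π with hP
  have hPm : P ∈ maximalIdeal V := map_nonunit _ _ hπ.not_isUnit
  have hu : IsUnit (1 + P ^ (n - 1) * γ) := by
    rw [← sub_neg_eq_add]
    exact isUnit_one_sub_self_of_mem_nonunits _ (neg_mem (Ideal.mul_mem_right _ (maximalIdeal V) (Ideal.pow_mem_of_mem _ hPm _ (by omega))))
  have hr' : (r : K₁) = x := hr
  have hγ' : (γ : K₁) = β := hγ
  have hrp : r ^ q = P * (1 + P ^ (n - 1) * γ) := Subtype.ext (by
    push_cast
    rw [hr', hγ', heq, show (P : K₁) = algebraMap A K₁ π from (IsScalarTower.algebraMap_apply A V K₁ π).symm]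
    conv_lhs => rw [← Nat.sub_add_cancel (by omega : 1 ≤ n), pow_succ]
    ring)
  have hinj : Function.Injective (algebraMap A V) := fun a b h => IsFractionRing.injective A K
    ((algebraMap K K₁).injective (congrArg Subtype.val h))
  obtain ⟨τ, hτ⟩ := IsDiscreteValuationRing.exists_irreducible V
  obtain ⟨h0, v, hv⟩ := DVRExt.exists_unit_mul_pow hinj hπ hτ
  have he : Ideal.ramificationIdx' (maximalIdeal A) (maximalIdeal V) ≤ Module.finrank K K₁ :=
    FSExt.ramificationIdx_le_finrank (B := A) (L := K) V hV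
  set e := Ideal.ramificationIdx' (maximalIdeal A) (maximalIdeal V)
  have hr0 : r ≠ 0 := fun h => by
    rw [h, zero_pow hq.ne', eq_comm, mul_eq_zero] at hrp
    exact hrp.elim ((map_ne_zero_iff _ hinj).2 hπ.ne_zero) hu.ne_zero
  obtain ⟨m, w, hm⟩ := IsDiscreteValuationRing.eq_unit_mul_pow_irreducible hr0 hτ
  have hme : m * q = e := by
    refine IsDiscreteValuationRing.unit_mul_pow_congr_pow hτ hτ (w ^ q) (v * hu.unit) _ _ ?_
    push_cast [IsUnit.unit_spec]
    rw [pow_mul, ← mul_pow, ← hm, hrp, hP, hv]; ring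
  have hm1 : m = 1 := by
    have hm0 : m ≠ 0 := fun h => h0 (by rw [← hme, h, zero_mul])
    by_contra h
    have : 2 * q ≤ m * q := Nat.mul_le_mul_right q (by omega)
    omega
  refine ⟨r, hu.unit⁻¹, hr', by rw [hm, hm1, pow_one]; exact (irreducible_units_mul w).2 hτ, ?_⟩
  show P = _
  rw [hrp, mul_comm P, ← mul_assoc, IsUnit.val_inv_mul, one_mul]

/-- Let A → B → C be injective local homomorphisms of discrete valuation rings whose fields of fractions
are K ⊆ L ⊆ M, where A → B is weakly unramified, K has characteristic p, M/L is Galois of degree p,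
and κ_A, inside κ_B, is exactly the set of elements admitting a pⁿ-th root for every n. Then some
finite separable extension K₁/K that is totally ramified with respect to A is a weak solution for A
→ C. (The published statement asks for K₁/K Galois; this row asks only that K₁/K be separable, which
is what the printed construction provides.) -/
theorem result (p : ℕ) (hp : p.Prime) (A B C K L M : Type u)
    [CommRing A] [IsDomain A] [IsDiscreteValuationRing A] [CommRing B] [IsDomain B] [IsDiscreteValuationRing B]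
    [CommRing C] [IsDomain C] [IsDiscreteValuationRing C]
    [Algebra A B] [Algebra B C] [Algebra A C] [IsScalarTower A B C]
    (hAB : Function.Injective (algebraMap A B)) (hBC : Function.Injective (algebraMap B C))
    [IsLocalHom (algebraMap A B)] [IsLocalHom (algebraMap B C)]
    [Field K] [Field L] [Field M] [Algebra A K] [IsFractionRing A K] [Algebra B L] [IsFractionRing B L]
    [Algebra C M] [IsFractionRing C M] [Algebra K L] [Algebra L M] [Algebra K M] [IsScalarTower K L M]
    [Algebra A L] [IsScalarTower A K L] [IsScalarTower A B L] [Algebra B M] [IsScalarTower B L M] [IsScalarTower B C M]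
    [Algebra A M] [IsScalarTower A K M] [IsScalarTower A C M]
    (hw : EtRam.IsWeaklyUnramified A B) [CharP K p] [IsGalois L M] (hdeg : Module.finrank L M = p)
    (hk : ∀ x : IsLocalRing.ResidueField B, (∀ n : ℕ, ∃ y : IsLocalRing.ResidueField B, y ^ (p ^ n) = x) ↔
      x ∈ Set.range (algebraMap (IsLocalRing.ResidueField A) (IsLocalRing.ResidueField B))) :
    ∃ (K₁ : Type u) (_ : Field K₁) (_ : Algebra K K₁), FiniteDimensional K K₁ ∧ Algebra.IsSeparable K K₁ ∧
      EtRam.IsTotallyRamified A ((algebraMap K K₁).comp (algebraMap A K)) ∧ EtRam.IsWeakSolution C K M K₁ := by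
  classical
  haveI : Fact p.Prime := ⟨hp⟩
  have hcomp : ∀ x : A, algebraMap B L (algebraMap A B x) = algebraMap K L (algebraMap A K x) := fun x => by
    rw [← IsScalarTower.algebraMap_apply A B L, ← IsScalarTower.algebraMap_apply A K L]
  have hcompM : ∀ b : B, algebraMap C M (algebraMap B C b) = algebraMap L M (algebraMap B L b) := fun b => by
    rw [← IsScalarTower.algebraMap_apply B C M, ← IsScalarTower.algebraMap_apply B L M]
  haveI : CharP L p := charP_of_injective_ringHom (algebraMap K L).injective p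
  obtain ⟨π, hπ⟩ := IsDiscreteValuationRing.exists_irreducible A
  have hπB : Irreducible (algebraMap A B π) := by
    rw [IsDiscreteValuationRing.irreducible_iff_uniformizer, ← Set.image_singleton, ← Ideal.map_span, ← hπ.maximalIdeal_eq]
    exact hw.symm
  haveI : CharP A p := RingHom.charP (algebraMap A K) (IsFractionRing.injective A K) p
  haveI : CharP B p := RingHom.charP (algebraMap B L) (IsFractionRing.injective B L) p
  haveI : CharP (ResidueField A) p := S7158.charP_k
  haveI : CharP (ResidueField B) p := S7158.charP_k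
  obtain ⟨z, ξ, hz, hzgen⟩ := artin_schreier (p := p) (L := L) (M := M) hdeg
  obtain ⟨n, hn⟩ : ∃ n, ∃ b : B, ξ * algebraMap B L (algebraMap A B π) ^ n = algebraMap B L b := by
    obtain ⟨⟨a, b, hb⟩, hab⟩ := IsLocalization.surj (nonZeroDivisors B) ξ
    obtain ⟨n, u, hu⟩ := IsDiscreteValuationRing.eq_unit_mul_pow_irreducible (nonZeroDivisors.ne_zero hb) hπB
    refine ⟨n, a * ↑u⁻¹, ?_⟩
    simp only [hu, map_mul, map_pow] at hab
    rw [map_mul, ← hab]
    have : algebraMap B L ↑u * algebraMap B L ↑u⁻¹ = 1 := by rw [← map_mul, Units.mul_inv, map_one]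
    linear_combination (-(ξ * algebraMap B L (algebraMap A B π) ^ n)) * this
  obtain ⟨α, s, c, m, hα, hs, hrel⟩ := normal_form (K := K) hπ hπB hcomp hk n ξ hn
  have hπK : algebraMap A K π ≠ 0 := (map_ne_zero_iff _ (IsFractionRing.injective A K)).2 hπ.ne_zero
  rcases s.eq_empty_or_nonempty with rfl | hne
  · -- only the part from `K`
    rw [Finset.sum_empty, add_zero] at hrel
    obtain ⟨η, hη⟩ := reduce (p := p) hπ (fun x => by simpa using perfect hk 1 x) n α hα
    set α' := α - (η ^ p - η) with hα'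
    have hrel' : Eqv p (algebraMap B L).range ξ (algebraMap K L α') := eqv_trans hrel ⟨algebraMap K L η, by
      rw [hα', map_sub, map_sub, map_pow, sub_sub_cancel, sub_self]; exact zero_mem _⟩
    rcases hη with ⟨b, hb⟩ | ⟨i, u, hi, hpi, hu⟩
    · refine ⟨K, inferInstance, inferInstance, inferInstance, inferInstance, ?_, ?_⟩
      · exact FSExt.isTotallyRamified_of_uniformizer one_pos hπ (Module.finrank_self K) S7157.exists_dominating
          (algebraMap A K π) fun V hV => key_of_root hπ le_rfl (Module.finrank_self K) (algebraMap A K π) 0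
            isIntegral_algebraMap isIntegral_zero (by simp) V hV
      · refine engine hπB hcomp hcompM hz hzgen (Module.finrank_self K) (algebraMap A K π)
          (fun V hV => key_of_root hπ le_rfl (Module.finrank_self K) (algebraMap A K π) 0 isIntegral_algebraMap
            isIntegral_zero (by simp) V hV) fun T _ _ _ _ _ f V hV _ r hr hrρ hres => Or.inl ?_
        have h1 := eqv_map (S := V.toSubring) (algebraMap L T) (by rintro _ ⟨x, rfl⟩; exact hV.1 x) hrel'
        refine eqv_trans h1 (eqv_of_sub_mem ?_)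
        rw [sub_zero, hb, ← hcomp]
        exact hV.1 _
    · let f₀ : Polynomial K := Polynomial.X ^ p - (Polynomial.X + Polynomial.C α')
      have hdeg0 : (Polynomial.X + Polynomial.C α' : Polynomial K).degree < (p : WithBot ℕ) := by
        rw [Polynomial.degree_X_add_C]; exact_mod_cast hp.one_lt
      obtain ⟨y, hy⟩ := IsAlgClosed.exists_aeval_eq_zero (AlgebraicClosure K) f₀ (by
        rw [Polynomial.degree_sub_eq_left_of_degree_lt (by rw [Polynomial.degree_X_pow]; exact hdeg0), Polynomial.degree_X_pow]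
        exact_mod_cast hp.ne_zero)
      let K₁ := IntermediateField.adjoin K {y}
      let yK : K₁ := ⟨y, IntermediateField.mem_adjoin_simple_self K y⟩
      have hyK : yK ^ p - yK = algebraMap K K₁ α' := Subtype.ext (by
        simp only [f₀, map_sub, map_add, map_pow, Polynomial.aeval_X, Polynomial.aeval_C] at hy
        show y ^ p - y = algebraMap K (AlgebraicClosure K) α'
        linear_combination hy)
      have hgen₁ : IntermediateField.adjoin K {yK} = ⊤ := by
        apply IntermediateField.map_injective K₁.val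
        rw [IntermediateField.adjoin_map, ← AlgHom.fieldRange_eq_map, IntermediateField.fieldRange_val, Set.image_singleton]
        rfl
      obtain ⟨hfin, -, hgal, -⟩ := S7158.finite (p := p) hyK hgen₁
      haveI : FiniteDimensional K K₁ := hfin
      haveI : IsGalois K K₁ := hgal
      letI : Algebra A K₁ := ((algebraMap K K₁).comp (algebraMap A K)).toAlgebra
      haveI : IsScalarTower A K K₁ := IsScalarTower.of_algebraMap_eq fun _ => rfl
      obtain ⟨htot, hfr, ρ, hkey⟩ := DegP.ramified_key (p := p) hπ (S7158.finite (p := p) hyK hgen₁).2.1 yK⁻¹ i hpi fun V hV => by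
        have hπ1 : V.valuation (algebraMap A K₁ π) < 1 := hV.2 π hπ.not_isUnit
        have hz' : (yK ^ p - yK) * algebraMap A K₁ π ^ i = algebraMap A K₁ u := by
          rw [hyK, IsScalarTower.algebraMap_apply A K K₁ π, IsScalarTower.algebraMap_apply A K K₁ (u : A), ← map_pow, ← map_mul, hu]
        have hu1 : V.valuation (algebraMap A K₁ u) = 1 :=
          (V.valuation_eq_one_iff ⟨_, hV.1 u⟩).1 (u.isUnit.map (RingHom.codRestrict (algebraMap A K₁) V hV.1))
        have hyV : yK ∉ V := fun h => by
          have h2 := congrArg V.valuation hz'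
          rw [map_mul, map_pow, hu1] at h2
          exact absurd h2 (ne_of_lt (lt_of_le_of_lt (mul_le_of_le_one_left'
            ((V.valuation_le_one_iff _).2 (sub_mem (pow_mem h _) h))) (pow_lt_one₀ zero_le hπ1 hi.ne')))
        have hy0 : yK ≠ 0 := fun h => hyV (h ▸ zero_mem V)
        let w : V := ⟨yK⁻¹, (V.mem_or_inv_mem yK).resolve_left hyV⟩
        have hwm : w ∈ maximalIdeal V := fun h => by
          obtain ⟨⟨v, hv⟩, hvw⟩ := h.exists_right_inv
          have : yK⁻¹ * v = 1 := congrArg Subtype.val hvw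
          exact hyV ((inv_mul_eq_one₀ hy0).1 this ▸ hv)
        have hun : IsUnit (1 - w ^ (p - 1)) :=
          isUnit_one_sub_self_of_mem_nonunits _ (Ideal.pow_mem_of_mem _ hwm _ (by have := hp.one_lt; omega))
        have hA' : IsUnit (RingHom.codRestrict (algebraMap A K₁) V hV.1 (u : A)) := u.isUnit.map _
        refine ⟨hun.unit * hA'.unit⁻¹, ?_⟩
        have h1 : ((1 - w ^ (p - 1) : V) : K₁) = (yK ^ p - yK) * yK⁻¹ ^ p := by
          push_cast [w]
          obtain ⟨q, hq⟩ : ∃ q, p = q + 1 := ⟨p - 1, by have := hp.pos; omega⟩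
          rw [show p - 1 = q by omega, sub_mul, ← mul_pow, mul_inv_cancel₀ hy0, one_pow,
            show yK⁻¹ ^ p = yK⁻¹ * yK⁻¹ ^ q from (congrArg (yK⁻¹ ^ ·) hq).trans (pow_succ' _ _), ← mul_assoc,
            mul_inv_cancel₀ hy0, one_mul]
        have hinv : algebraMap A K₁ u * (((hA'.unit⁻¹ : Vˣ) : V) : K₁) = 1 := by
          exact congrArg Subtype.val (IsUnit.mul_val_inv hA')
        rw [Units.val_mul, Subring.coe_mul, IsUnit.unit_spec, h1]
        rw [← hz'] at hinv
        linear_combination (-(yK⁻¹ ^ p)) * hinv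
      refine ⟨K₁, inferInstance, inferInstance, inferInstance, inferInstance, ?_, ?_⟩
      · rw [← IsScalarTower.algebraMap_eq A K K₁]; exact htot
      · refine engine hπB hcomp hcompM hz hzgen hfr ρ hkey fun T _ _ _ _ _ f V hV _ r hr hrρ hres => Or.inl ?_
        have h1 := eqv_map (S := V.toSubring) (algebraMap L T) (by rintro _ ⟨x, rfl⟩; exact hV.1 x) hrel'
        refine eqv_trans h1 ⟨f yK, ?_⟩
        rw [sub_zero, ← map_pow, ← map_sub, hyK, f.commutes, ← IsScalarTower.algebraMap_apply K L T, sub_self]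
        exact zero_mem _
  · -- a term without `p`-th root
    obtain ⟨Mx, hMx⟩ : ∃ Mx, ∀ j ∈ s, m j ≤ Mx := ⟨s.sup m, fun j hj => Finset.le_sup hj⟩
    set k := Mx + n + 1 with hk'
    set q := p ^ k with hq
    obtain ⟨K₁, iF, iK, iA, iT, hfr, hsep, htot, x, β, -, hx, hβ, -, heq, -⟩ :=
      S7157.result p hp A K π hπ.maximalIdeal_eq (2 * n + 2) (by omega) k
    haveI : FiniteDimensional K K₁ := Module.finite_of_finrank_pos (by rw [hfr]; exact pow_pos hp.pos _)
    refine ⟨K₁, iF, iK, inferInstance, hsep, ?_, ?_⟩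
    · rw [← IsScalarTower.algebraMap_eq A K K₁]; exact htot
    refine engine hπB hcomp hcompM hz hzgen hfr x (fun V hV => key_of_root hπ (by omega) hfr x β hx hβ heq V hV)
      fun T _ _ _ _ _ f V hV _ r hr hrρ hres => Or.inr ?_
    have h1 := eqv_map (S := V.toSubring) (algebraMap L T) (by rintro _ ⟨x, rfl⟩; exact hV.1 x) hrel
    rw [map_add, map_sum] at h1
    obtain ⟨a, β₀, haβ⟩ := digits hπ q (fun y => perfect hk k y) n α hα
    let ι := RingHom.codRestrict _ V hV.1
    set P : V := ι (algebraMap A B π) with hP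
    have hAT : ∀ e : A, algebraMap K T (algebraMap A K e) = ((ι (algebraMap A B e) : V) : T) := fun e => by
      show _ = algebraMap L T (algebraMap B L (algebraMap A B e))
      rw [hcomp, ← IsScalarTower.algebraMap_apply K L T]
    have hint : ∀ y : K₁, IsIntegral A y → f y ∈ V := fun y hy => by
      letI : Algebra A T := ((algebraMap K T).comp (algebraMap A K)).toAlgebra
      letI : Algebra A V := (ι.comp (algebraMap A B)).toAlgebra
      haveI : IsScalarTower A V T := IsScalarTower.of_algebraMap_eq fun e => hAT e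
      let fA : K₁ →ₐ[A] T := { f.toRingHom with
        commutes' := fun e => by
          show f (algebraMap A K₁ e) = _
          rw [IsScalarTower.algebraMap_apply A K K₁, f.commutes]; rfl }
      obtain ⟨w, hw⟩ := IsIntegrallyClosed.isIntegral_iff.1 ((hy.map fA).tower_top (A := V))
      rw [show f y = (w : T) from hw.symm]; exact w.2
    set γ : V := ⟨f β, hint β hβ⟩ with hγ
    have hPm : P ∈ maximalIdeal V := (ValuationSubring.valuation_lt_one_iff V P).2 (hV.2 _ hπB.not_isUnit)
    have hrq : r ^ q = P * (1 + P ^ (2 * n + 1) * γ) := Subtype.ext (by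
      push_cast
      rw [hrρ, ← map_pow, heq, map_add, map_mul, map_pow, IsScalarTower.algebraMap_apply A K K₁, f.commutes, hAT, ← hP]
      ring)
    have hwu : IsUnit (1 + P ^ (2 * n + 1) * γ) := by
      rw [← sub_neg_eq_add]
      exact isUnit_one_sub_self_of_mem_nonunits _ (neg_mem (Ideal.mul_mem_right _ (maximalIdeal V)
        (Ideal.pow_mem_of_mem _ hPm _ (by omega))))
    have hrT : (r : T) ≠ 0 := fun h => hr.ne_zero (Subtype.ext h)
    have hP0 : (P : T) ≠ 0 := fun h => pow_ne_zero q hr.ne_zero (by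
      rw [hrq, show P = 0 from Subtype.ext h, zero_mul])
    have hswap : ∀ (j : ℕ) (v : V), j ≤ n → Eqv p V.toSubring ((v : T) / (P : T) ^ j) ((v : T) / (r : T) ^ (q * j)) := by
      intro j v hj
      obtain ⟨d, hd⟩ : P ^ (2 * n + 1) ∣ (1 + P ^ (2 * n + 1) * γ) ^ j - 1 :=
        (dvd_mul_right _ γ).trans (by simpa using sub_dvd_pow_sub_pow (1 + P ^ (2 * n + 1) * γ) 1 j)
      refine eqv_of_sub_mem ?_
      obtain ⟨wi, hwi⟩ := (hwu.pow j).exists_right_inv
      have e : ((v : T) / (P : T) ^ j - (v : T) / (r : T) ^ (q * j)) = ((v * P ^ (2 * n + 1 - j) * d * wi : V) : T) := by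
        rw [pow_mul, show ((r : T)) ^ q = ((P * (1 + P ^ (2 * n + 1) * γ) : V) : T) by rw [← hrq]; push_cast; rfl,
          div_sub_div _ _ (pow_ne_zero _ hP0) (pow_ne_zero _ (by
          rw [← hrq]; push_cast; exact pow_ne_zero _ hrT)), div_eq_iff (mul_ne_zero (pow_ne_zero _ hP0) (pow_ne_zero _ (by
          rw [← hrq]; push_cast; exact pow_ne_zero _ hrT)))]
        have hd' := congrArg (fun y : V => (y : T)) hd
        have hwi' := congrArg (fun y : V => (y : T)) hwi
        push_cast at hd' hwi' ⊢
        have h2 : (P : T) ^ (2 * n + 1) = (P : T) ^ (2 * n + 1 - j) * (P : T) ^ j := by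
          rw [← pow_add, Nat.sub_add_cancel (by omega)]
        generalize (1 + (P : T) ^ (2 * n + 1) * (γ : T)) = wT at hd' hwi' ⊢
        rw [mul_pow]
        linear_combination ((v : T) * (P : T) ^ j) * hd' + ((v : T) * (P : T) ^ j * (d : T)) * h2 -
          ((v : T) * (P : T) ^ j * (P : T) ^ (2 * n + 1 - j) * (P : T) ^ j * (d : T)) * hwi'
      rw [e]; exact Subtype.prop _
    -- the terms
    let S : ℕ → ℕ := fun j => j * p ^ (k - m j)
    have hSq : ∀ j ∈ s, q * j = S j * p ^ m j := fun j hj => by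
      have := hMx j hj
      simp only [S, hq]
      rw [mul_assoc, ← pow_add, Nat.sub_add_cancel (by omega), mul_comm]
    have hterm : ∀ j ∈ s, Eqv p V.toSubring
        (algebraMap L T (algebraMap B L (c j) ^ p ^ m j / algebraMap B L (algebraMap A B π) ^ j))
        ((ι (c j) : T) / (r : T) ^ S j) := fun j hj => by
      rw [map_div₀, map_pow, map_pow]
      have h2 := hswap j (ι (c j) ^ p ^ m j) (hs j hj).2.1
      push_cast at h2
      refine eqv_trans h2 ?_
      rw [hSq j hj, pow_mul, ← div_pow]
      exact eqv_pow _ _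
    have hαterm : Eqv p V.toSubring (algebraMap L T (algebraMap K L α))
        (∑ j ∈ Finset.Icc 1 n, ((ι (algebraMap A B (a j)) : V) : T) / (r : T) ^ j) := by
      rw [← IsScalarTower.algebraMap_apply K L T, haβ, map_add, map_sum]
      refine eqv_trans (eqv_of_sub_mem (y := ∑ j ∈ Finset.Icc 1 n, algebraMap K T (algebraMap A K (a j) ^ q / algebraMap A K π ^ j))
        (by rw [add_sub_cancel_left, hAT]; exact Subtype.prop _)) (eqv_sum _ fun j hj => ?_)
      rw [map_div₀, map_pow, map_pow, hAT, hAT, ← hP]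
      have h2 := hswap j (ι (algebraMap A B (a j)) ^ q) (Finset.mem_Icc.1 hj).2
      push_cast at h2
      refine eqv_trans h2 ?_
      rw [mul_comm q j, pow_mul, ← div_pow, hq]
      exact eqv_pow _ _
    have h3 := eqv_trans h1 (eqv_add hαterm (eqv_sum s hterm))
    obtain ⟨j₀, hj₀, hmax⟩ := Finset.exists_max_image s S hne
    have hSn : ∀ j ∈ s, n < S j := fun j hj => by
      have h4 : n < p ^ (k - m j) := by
        have := hMx j hj
        exact lt_of_lt_of_le (show n < k - m j by omega) (Nat.lt_pow_self hp.one_lt).le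
      exact lt_of_lt_of_le h4 (Nat.le_mul_of_pos_left _ (hs j hj).1)
    have hSinj : ∀ j ∈ s, S j = S j₀ → j = j₀ := by
      intro j hj h
      have h1' := hMx j hj
      have h2' := hMx j₀ hj₀
      have aux : ∀ i ∈ s, ∀ i' ∈ s, S i = S i' → m i < m i' → False := fun i hi i' hi' h hlt => by
        refine (hs i' hi').2.2.2 (by omega) ?_
        simp only [S] at h
        have := hMx i' hi'
        rw [show k - m i = (k - m i') + (m i' - m i) by omega, pow_add, mul_left_comm, mul_comm i'] at h
        rw [← Nat.eq_of_mul_eq_mul_left (pow_pos hp.pos _) h]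
        exact dvd_mul_of_dvd_right (dvd_pow_self p (by omega)) _
      rcases lt_trichotomy (m j) (m j₀) with hlt | he | hgt
      · exact absurd hlt fun hlt => aux j hj j₀ hj₀ h hlt
      · simp only [S, he] at h
        exact Nat.eq_of_mul_eq_mul_right (pow_pos hp.pos _) h
      · exact absurd hgt fun hgt => aux j₀ hj₀ j hj h.symm hgt
    set S₀ := S j₀ with hS₀
    have hS₀n := hSn j₀ hj₀
    let rest : V := (∑ j ∈ Finset.Icc 1 n, ι (algebraMap A B (a j)) * r ^ (S₀ - j)) + ∑ j ∈ s.erase j₀, ι (c j) * r ^ (S₀ - S j)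
    refine ⟨S₀, ι (c j₀) + rest, by omega, ?_, ?_, ?_⟩
    · have := hMx j₀ hj₀
      exact dvd_mul_of_dvd_right (dvd_pow_self p (show k - m j₀ ≠ 0 by omega)) _
    · intro v hv
      have hrm : residue V r = 0 := (residue_eq_zero_iff r).2 hr.not_isUnit
      have hrest : residue V rest = 0 := by
        simp only [rest, map_add, map_sum, map_mul, map_pow, hrm]
        rw [Finset.sum_eq_zero fun j hj => by
            rw [zero_pow (by have := (Finset.mem_Icc.1 hj).2; omega), mul_zero],
          Finset.sum_eq_zero fun j hj => by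
            have h5 := lt_of_le_of_ne (hmax j (Finset.mem_of_mem_erase hj)) fun h => Finset.ne_of_mem_erase hj (hSinj j (Finset.mem_of_mem_erase hj) h)
            rw [zero_pow (by omega), mul_zero], add_zero]
      rw [map_add, hrest, add_zero] at hv
      obtain ⟨b, hb⟩ := hres v
      rw [← residue_eq_zero_iff, map_sub, sub_eq_zero] at hb
      rw [hb, ← sub_eq_zero, ← map_pow, ← map_pow, ← map_sub, ← map_sub, residue_eq_zero_iff] at hv
      refine (hs j₀ hj₀).2.2.1 b (sub_eq_zero.1 ?_)
      rw [← map_pow, ← map_sub, residue_eq_zero_iff]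
      exact fun hu => hv (hu.map ι)
    · refine eqv_trans h3 (eqv_of_sub_mem ?_)
      rw [show ((ι (c j₀) + rest : V) : T) / (r : T) ^ S₀ =
          (∑ j ∈ Finset.Icc 1 n, ((ι (algebraMap A B (a j)) : V) : T) / (r : T) ^ j) + ∑ j ∈ s, (ι (c j) : T) / (r : T) ^ S j by
        rw [← Finset.add_sum_erase _ _ hj₀]
        push_cast [rest]
        rw [add_div, add_div, Finset.sum_div, Finset.sum_div, ← add_assoc,
          add_comm (((ι (c j₀) : V) : T) / (r : T) ^ S₀), add_assoc]
        congr 1
        · refine Finset.sum_congr rfl fun j hj => ?_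
          have hjS : j ≤ S₀ := by have := (Finset.mem_Icc.1 hj).2; omega
          rw [eq_div_iff (pow_ne_zero j hrT), div_mul_eq_mul_div, div_eq_iff (pow_ne_zero S₀ hrT), mul_assoc, ← pow_add,
            Nat.sub_add_cancel hjS]
        · congr 1
          refine Finset.sum_congr rfl fun j hj => ?_
          have hjS := hmax j (Finset.mem_of_mem_erase hj)
          rw [eq_div_iff (pow_ne_zero (S j) hrT), div_mul_eq_mul_div, div_eq_iff (pow_ne_zero S₀ hrT), mul_assoc, ← pow_add,
            Nat.sub_add_cancel hjS], sub_self]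
      exact zero_mem _

end Groth.Agent.S7155
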