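import Groth.Statements.S7156
import Groth.Agent.H48.EppInsep
import Groth.Agent.S7157

set_option autoImplicit false
universe u
open EtAlg

namespace Groth.Agent.S7156

open IsLocalRing EtRam TensorProduct Groth.Agent.H48

section

variable {p : ℕ} [hp : Fact p.Prime] {A B C K L M K₁ : Type u}
  [CommRing A] [IsDomain A] [IsDiscreteValuationRing A] [CommRing B] [IsDomain B] [IsDiscreteValuationRing B]
  [CommRing C] [IsDomain C] [IsDiscreteValuationRing C]
  [Algebra A B] [Algebra B C] [IsLocalHom (algebraMap A B)] [IsLocalHom (algebraMap B C)]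
  [Field K] [Field L] [Field M] [Algebra A K] [IsFractionRing A K] [Algebra B L] [IsFractionRing B L]
  [Algebra C M] [IsFractionRing C M] [Algebra K L] [Algebra L M] [Algebra K M] [IsScalarTower K L M]
  [Algebra A L] [IsScalarTower A K L] [IsScalarTower A B L] [Algebra B M] [IsScalarTower B L M] [IsScalarTower B C M]
  [IsPurelyInseparable L M] [CharP L p]
  [Field K₁] [Algebra K K₁] [FiniteDimensional K K₁] [Algebra A K₁] [IsScalarTower A K K₁]
  {π : A} (hπ : Irreducible π) (hπB : Irreducible (algebraMap A B π)) (hAB : Function.Injective (algebraMap A B))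
  (hK₁ : Module.finrank K K₁ = p) (hdeg : Module.finrank L M = p) {n : ℕ} (hn : 2 ≤ n) (x β : K₁)
  (hx : IsIntegral A x) (hβ : IsIntegral A β) (heq : x ^ p = algebraMap A K₁ π + algebraMap A K₁ π ^ n * β)

include hπ hπB hAB hK₁ hn hx hβ heq in
theorem weak_base (T : Type u) [Field T] [Algebra K T] [Algebra L T] [IsScalarTower K L T] [Algebra K₁ T]
    [IsScalarTower K K₁ T] (hgen : Algebra.adjoin L (Set.range (algebraMap K₁ T)) = ⊤) (W : ValuationSubring T)
    (hW : Dominates B ((algebraMap L T).comp (algebraMap B L)) W) :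
    (letI : Algebra (W.comap (algebraMap K₁ T)) W := (inclOfComap W (algebraMap K₁ T)).toAlgebra
     IsWeaklyUnramified (W.comap (algebraMap K₁ T)) W) ∧ Module.finrank L T = p := by
  obtain ⟨hdvr, r, γ, u, hr, hrx, -, hfr, -⟩ :=
    EppInsep.core hAB hπ hπB hK₁ hn x β hx hβ heq (IsScalarTower.toAlgHom K K₁ T) hgen W hW
  refine ⟨?_, hfr⟩
  letI : Algebra (W.comap (algebraMap K₁ T)) W := (inclOfComap W (algebraMap K₁ T)).toAlgebra
  have hloc : IsLocalHom (algebraMap (W.comap (algebraMap K₁ T)) W) :=
    DomVal.isLocalHom_of_dominates (DomVal.dominates_subtype (f := algebraMap K₁ T) W)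
  haveI := hdvr
  refine le_antisymm (Ideal.map_le_iff_le_comap.2 fun a ha => map_nonunit _ _ ha) ?_
  rw [hr.maximalIdeal_eq, Ideal.span_le, Set.singleton_subset_iff]
  let r' : W.comap (algebraMap K₁ T) := ⟨x, show algebraMap K₁ T x ∈ W from hrx ▸ r.2⟩
  have h : algebraMap (W.comap (algebraMap K₁ T)) W r' = r := Subtype.ext hrx.symm
  rw [← h]
  exact Ideal.mem_map_of_mem _ fun hu => hr.not_isUnit (h ▸ hu.map _)

variable (hBC : Function.Injective (algebraMap B C)) {c : C} {m : ℕ} {b : B}
  (hb : ∀ b₀ : B, ¬ algebraMap A B π ∣ b₀ ^ p - b)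
  (hc : (m = 1 ∧ c ^ p = algebraMap B C (algebraMap A B π * b)) ∨
    (2 ≤ m ∧ n = m + 1 ∧ c ^ p = algebraMap B C (algebraMap A B π + algebraMap A B π ^ m * b)))

include hπ hπB hAB hK₁ hdeg hn hx hβ heq hBC hb hc in
theorem weak_top (M' : Type u) [Field M'] [Algebra K M'] [Algebra M M'] [IsScalarTower K M M'] [Algebra K₁ M']
    [IsScalarTower K K₁ M'] [Algebra L M'] [IsScalarTower L M M']
    (hgen : Algebra.adjoin M (Set.range (algebraMap K₁ M')) = ⊤) (W : ValuationSubring M')
    (hW : Dominates C ((algebraMap M M').comp (algebraMap C M)) W) :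
    (letI : Algebra (W.comap (algebraMap K₁ M')) W := (inclOfComap W (algebraMap K₁ M')).toAlgebra
     IsWeaklyUnramified (W.comap (algebraMap K₁ M')) W) ∧ Module.finrank L M' = p * p := by
  haveI : FiniteDimensional L M := Module.finite_of_finrank_pos (by rw [hdeg]; exact hp.out.pos)
  haveI : FiniteDimensional M M' := FSExt.finite_of_adjoin (IsScalarTower.toAlgHom K K₁ M') hgen
  haveI : FiniteDimensional L M' := FiniteDimensional.trans L M M'
  haveI : IsScalarTower K L M' := IsScalarTower.of_algebraMap_eq fun a => by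
    rw [IsScalarTower.algebraMap_apply L M M', ← IsScalarTower.algebraMap_apply K L M, ← IsScalarTower.algebraMap_apply K M M']
  haveI : CharP M' p := charP_of_injective_ringHom (algebraMap L M').injective p
  -- the intermediate field generated by `K₁`
  let T : IntermediateField L M' := IntermediateField.adjoin L (Set.range (algebraMap K₁ M'))
  let fT : K₁ →ₐ[K] T :=
    { (algebraMap K₁ M').codRestrict T fun a => IntermediateField.subset_adjoin L _ ⟨a, rfl⟩ with
      commutes' := fun a => Subtype.ext ((IsScalarTower.algebraMap_apply K K₁ M' a).symm.trans rfl) }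
  have hgenT : Algebra.adjoin L (Set.range fT) = ⊤ := by
    apply Subalgebra.map_injective (f := T.val) Subtype.val_injective
    rw [AlgHom.map_adjoin, Algebra.map_top, ← Set.range_comp, T.range_val]
    exact (IntermediateField.adjoin_toSubalgebra_of_isAlgebraic fun a _ => Algebra.IsAlgebraic.isAlgebraic a).symm
  let WT : ValuationSubring T := W.comap T.val.toRingHom
  have hWB : Dominates B ((algebraMap L M').comp (algebraMap B L)) W := by
    have h : ∀ b, algebraMap L M' (algebraMap B L b) = algebraMap M M' (algebraMap C M (algebraMap B C b)) := fun b => by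
      rw [IsScalarTower.algebraMap_apply L M M', ← IsScalarTower.algebraMap_apply B L M, ← IsScalarTower.algebraMap_apply B C M]
    refine ⟨fun b => ?_, fun b hb => ?_⟩
    · show algebraMap L M' (algebraMap B L b) ∈ W
      rw [h]; exact hW.1 _
    · show W.valuation (algebraMap L M' (algebraMap B L b)) < 1
      rw [h]; exact hW.2 _ (map_nonunit _ _ hb)
  have hWT : Dominates B ((algebraMap L T).comp (algebraMap B L)) WT := by
    rw [DomVal.dominates_comap_iff, show T.val.toRingHom.comp ((algebraMap L T).comp (algebraMap B L)) =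
      (algebraMap L M').comp (algebraMap B L) from RingHom.ext fun a => rfl]
    exact hWB
  obtain ⟨hdvrT, rT, γT, uT, hrT, hrTx, hγT, hfrT, huT⟩ :=
    EppInsep.core hAB hπ hπB hK₁ hn x β hx hβ heq fT hgenT WT hWT
  haveI := hdvrT
  haveI : IsDiscreteValuationRing W := FSExt.isDVR W hWB
  haveI : FiniteDimensional T M' := Module.Finite.of_restrictScalars_finite L T M'
  let ι : WT →+* W := RingHom.codRestrict (T.val.toRingHom.comp WT.subtype) W fun a => a.2
  have hι : Function.Injective ι := fun a b h =>
    Subtype.ext (Subtype.ext (congrArg (fun w : W => (w : M')) h : ((a : T) : M') = ((b : T) : M')))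
  letI : Algebra WT W := ι.toAlgebra
  have hdomT : Dominates WT ((algebraMap T M').comp (algebraMap WT T)) W :=
    DomVal.dominates_subtype (f := T.val.toRingHom) W
  haveI : IsLocalHom (algebraMap WT W) := DomVal.isLocalHom_of_dominates hdomT
  -- degree over `T`
  let fM : M →ₐ[L] M' := IsScalarTower.toAlgHom L M M'
  have hgenM : Algebra.adjoin T (Set.range fM) = ⊤ := by
    refine eq_top_iff.2 fun z _ => ?_
    have hz : z ∈ Algebra.adjoin M (Set.range (algebraMap K₁ M')) := by rw [hgen]; trivial
    induction hz using Algebra.adjoin_induction with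
    | mem y hy =>
      obtain ⟨a, rfl⟩ := hy
      exact Subalgebra.algebraMap_mem _ (fT a)
    | algebraMap r => exact Algebra.subset_adjoin ⟨r, rfl⟩
    | add a b _ _ ha hb => exact add_mem (ha trivial) (hb trivial)
    | mul a b _ _ ha hb => exact mul_mem (ha trivial) (hb trivial)
  have hleT : Module.finrank T M' ≤ p := (EppInsep.finrank_le (L := T) fM hgenM).trans_eq hdeg
  have hpow : ∀ z : M', ∃ t : T, (t : M') = z ^ p := by
    intro z
    have hz : z ∈ Algebra.adjoin T (Set.range fM) := by rw [hgenM]; trivial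
    induction hz using Algebra.adjoin_induction with
    | mem y hy =>
      obtain ⟨a, rfl⟩ := hy
      obtain ⟨l, hl⟩ := EppInsep.pow_mem hdeg a
      exact ⟨algebraMap L T l, by rw [← map_pow, ← hl, fM.commutes]; rfl⟩
    | algebraMap r => exact ⟨r ^ p, by simp⟩
    | add a b _ _ ha hb =>
      obtain ⟨s, hs⟩ := ha
      obtain ⟨t, ht⟩ := hb
      exact ⟨s + t, by rw [add_pow_char, ← hs, ← ht]; rfl⟩
    | mul a b _ _ ha hb =>
      obtain ⟨s, hs⟩ := ha
      obtain ⟨t, ht⟩ := hb
      exact ⟨s * t, by rw [mul_pow, ← hs, ← ht]; rfl⟩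
  -- the element with bad residue
  set P : W := RingHom.codRestrict _ W hWB.1 (algebraMap A B π) with hPdef
  set bW : W := RingHom.codRestrict _ W hWB.1 b with hbW
  set g : W := ι γT with hg
  set ρ : W := ι rT with hρ
  have hPm : P ∈ maximalIdeal W :=
    (ValuationSubring.valuation_lt_one_iff W P).2 (hWB.2 _ hπB.not_isUnit)
  have hPρ : ρ ^ p = P * (1 + P ^ (n - 1) * g) := Subtype.ext (by
    push_cast
    rw [show ((ρ : W) : M') = algebraMap K₁ M' x from congrArg Subtype.val hrTx,
      show ((g : W) : M') = algebraMap K₁ M' β from congrArg Subtype.val hγT,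
      show ((P : W) : M') = algebraMap L M' (algebraMap B L (algebraMap A B π)) from rfl,
      ← IsScalarTower.algebraMap_apply A B L, IsScalarTower.algebraMap_apply A K L, ← IsScalarTower.algebraMap_apply K L M',
      ← map_pow, heq, map_add, map_mul, map_pow, IsScalarTower.algebraMap_apply A K K₁, ← IsScalarTower.algebraMap_apply K K₁ M']
    conv_lhs => rw [← Nat.sub_add_cancel (by omega : 1 ≤ n), pow_succ]
    ring)
  set w₁ : W := 1 + P ^ (n - 1) * g with hw₁
  have hρ0 : (ρ : M') ≠ 0 := fun h => hrT.ne_zero (hι (by rw [map_zero]; exact Subtype.ext h))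
  obtain ⟨k, y, hy⟩ : ∃ (k : ℕ) (y : W), residue W (y ^ p * w₁ ^ k) = residue W bW := by
    have hcW : ∀ z : B, (RingHom.codRestrict _ W hW.1 (algebraMap B C z) : W) = RingHom.codRestrict _ W hWB.1 z :=
      fun z => Subtype.ext (by
        show algebraMap M M' (algebraMap C M (algebraMap B C z)) = algebraMap L M' (algebraMap B L z)
        rw [← IsScalarTower.algebraMap_apply B C M, IsScalarTower.algebraMap_apply B L M, ← IsScalarTower.algebraMap_apply L M M'])
    set cW : W := RingHom.codRestrict _ W hW.1 c with hcW'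
    have hwu : IsUnit w₁ := by
      rw [hw₁, ← sub_neg_eq_add]
      exact isUnit_one_sub_self_of_mem_nonunits _ (neg_mem (Ideal.mul_mem_right _ (maximalIdeal W) (Ideal.pow_mem_of_mem _ hPm _ (by omega))))
    have hwres : residue W w₁ = 1 := by
      rw [hw₁, map_add, map_one, map_mul, map_pow, (residue_eq_zero_iff _).2 hPm, zero_pow (by omega), zero_mul, add_zero]
    rcases hc with ⟨rfl, hc⟩ | ⟨hm, rfl, hc⟩
    · have h : cW ^ p = P * bW := by rw [hcW', ← map_pow, hc, hcW, map_mul]
      have hv : ((cW : M') / ρ) ^ p * w₁ = bW := by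
        rw [div_pow, ← Subring.coe_pow, ← Subring.coe_pow, h, hPρ]
        push_cast
        have hP0 : (P : M') ≠ 0 := fun h0 => by
          have := congrArg Subtype.val hPρ
          push_cast at this
          rw [h0, zero_mul] at this
          exact hρ0 (pow_eq_zero_iff hp.out.ne_zero |>.1 this)
        have hw0 : (w₁ : M') ≠ 0 := fun h0 => hwu.ne_zero (Subtype.ext h0)
        field_simp
      have hmem : (cW : M') / ρ ∈ W := EppInsep.mem_of_pow_mem W hp.out.pos (by
        have : ((cW : M') / ρ) ^ p = bW * ((hwu.unit⁻¹ : Wˣ) : W) := by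
          rw [← hv, mul_assoc, ← Subring.coe_mul, IsUnit.mul_val_inv, Subring.coe_one, mul_one]
        rw [this]; exact mul_mem bW.2 (Subtype.prop _))
      exact ⟨1, ⟨_, hmem⟩, congrArg (residue W) (Subtype.ext (by push_cast; rw [pow_one]; exact hv))⟩
    · have h : cW ^ p = P + P ^ m * bW := by rw [hcW', ← map_pow, hc, hcW, map_add, map_mul, map_pow]
      have hv : (((cW : M') - ρ) / (ρ : M') ^ m) ^ p * (w₁ : M') ^ m = ((bW - P * g : W) : M') := by
        rw [div_pow, ← pow_mul, mul_comm m p, pow_mul, sub_pow_char, ← Subring.coe_pow, ← Subring.coe_pow, h]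
        have hρp := hPρ
        rw [hρp]
        push_cast [hw₁]
        have hP0 : (P : M') ≠ 0 := fun h0 => by
          have := congrArg Subtype.val hPρ
          push_cast at this
          rw [h0, zero_mul] at this
          exact hρ0 (pow_eq_zero_iff hp.out.ne_zero |>.1 this)
        have hw0 : (1 : M') + (P : M') ^ (m + 1 - 1) * g ≠ 0 := fun h0 => hwu.ne_zero (Subtype.ext (by
          rw [hw₁]; push_cast; exact h0))
        rw [Nat.add_sub_cancel] at hw0
        rw [mul_pow, div_mul_eq_mul_div, div_eq_iff (mul_ne_zero (pow_ne_zero _ hP0) (pow_ne_zero _ hw0))]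
        ring
      have hmem : ((cW : M') - ρ) / (ρ : M') ^ m ∈ W := EppInsep.mem_of_pow_mem W hp.out.pos (by
        have : (((cW : M') - ρ) / (ρ : M') ^ m) ^ p = (bW - P * g : W) * (((hwu.unit⁻¹ : Wˣ) : W) : M') ^ m := by
          rw [← hv, mul_assoc, ← mul_pow, ← Subring.coe_mul, IsUnit.mul_val_inv, Subring.coe_one, one_pow, mul_one]
        rw [this]; exact mul_mem (Subtype.prop _) (pow_mem (Subtype.prop _) _))
      refine ⟨m, ⟨_, hmem⟩, ?_⟩
      rw [show (⟨_, hmem⟩ : W) ^ p * w₁ ^ m = bW - P * g from Subtype.ext (by push_cast; exact hv), map_sub, map_mul,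
        (residue_eq_zero_iff _).2 hPm, zero_mul, sub_zero]
  have hwres : residue W w₁ = 1 := by
    rw [hw₁, map_add, map_one, map_mul, map_pow, (residue_eq_zero_iff _).2 hPm, zero_pow (by omega), zero_mul, add_zero]
  rw [map_mul, map_pow, map_pow, hwres, one_pow, mul_one] at hy
  have hbad : ∀ z : WT, residue W (ι z) ≠ residue W y := by
    intro z hz
    obtain ⟨b₀, hb₀⟩ := EppInsep.res_surj hp.out.pos hπB hfrT WT hWT rT hrT uT huT z
    have h1 : residue W (ι z) = residue W (RingHom.codRestrict _ W hWB.1 b₀) := by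
      rw [← sub_eq_zero, ← map_sub, residue_eq_zero_iff]
      exact (map_sub ι z (RingHom.codRestrict _ WT hWT.1 b₀)) ▸ map_nonunit (algebraMap WT W) _ hb₀
    rw [← hz, h1, hbW, ← map_pow, ← map_pow, ← sub_eq_zero, ← map_sub, ← map_sub, residue_eq_zero_iff] at hy
    refine hb b₀ ?_
    rw [← Ideal.mem_span_singleton, ← hπB.maximalIdeal_eq]
    by_contra hu
    have hunit : IsUnit (b₀ ^ p - b) := IsLocalRing.notMem_maximalIdeal.1 hu
    exact (mem_maximalIdeal _).1 hy (hunit.map _)
  -- ramification
  obtain ⟨τ, hτ⟩ := IsDiscreteValuationRing.exists_irreducible W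
  obtain ⟨h0, v, hv⟩ := DVRExt.exists_unit_mul_pow (A := WT) (B := W) hι hrT hτ
  have hele : Ideal.ramificationIdx' (maximalIdeal WT) (maximalIdeal W) ≤ Module.finrank T M' :=
    FSExt.ramificationIdx_le_finrank (B := WT) (L := T) W hdomT
  set e := Ideal.ramificationIdx' (maximalIdeal WT) (maximalIdeal W)
  have he1 : e = 1 := by
    obtain ⟨t, ht⟩ := hpow (τ : M')
    have htW : t ∈ WT := show (t : M') ∈ W from ht ▸ pow_mem τ.2 p
    have ht0 : (⟨t, htW⟩ : WT) ≠ 0 := fun h => by
      have : (t : M') = 0 := by rw [show t = 0 from congrArg Subtype.val h]; rfl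
      rw [ht, pow_eq_zero_iff hp.out.ne_zero] at this
      exact hτ.ne_zero (Subtype.ext this)
    obtain ⟨j, s, hs⟩ := IsDiscreteValuationRing.eq_unit_mul_pow_irreducible ht0 hrT
    have hje : j * e = p := by
      refine IsDiscreteValuationRing.unit_mul_pow_congr_pow hτ hτ (Units.map ι.toMonoidHom s * v ^ j) 1 _ _ ?_
      rw [Units.val_one, one_mul]
      have h : τ ^ p = ι ⟨t, htW⟩ := Subtype.ext (by push_cast; exact ht.symm)
      rw [h, hs, map_mul, map_pow, show ι rT = algebraMap WT W rT from rfl, hv, mul_pow, ← pow_mul, mul_comm e j,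
        Units.val_mul, Units.val_pow_eq_pow_val]
      simp [mul_assoc]
    rcases (Nat.dvd_prime hp.out).1 (Dvd.intro_left _ hje) with h | h
    · exact h
    · exfalso
      have hfr : Module.finrank T M' = e := le_antisymm (h ▸ hleT) hele
      obtain ⟨z, hz⟩ := EppInsep.res_surj (Nat.pos_of_ne_zero h0) hrT hfr W hdomT τ hτ v hv y
      exact hbad z (sub_eq_zero.1 (by rw [← map_sub, residue_eq_zero_iff, ← neg_sub]; exact neg_mem hz))
  have hirr : Irreducible ρ := by
    rw [hρ, show ι rT = algebraMap WT W rT from rfl, hv, he1, pow_one]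
    exact (irreducible_units_mul v).2 hτ
  constructor
  · letI : Algebra (W.comap (algebraMap K₁ M')) W := (inclOfComap W (algebraMap K₁ M')).toAlgebra
    have hloc : IsLocalHom (algebraMap (W.comap (algebraMap K₁ M')) W) :=
      DomVal.isLocalHom_of_dominates (DomVal.dominates_subtype (f := algebraMap K₁ M') W)
    have hρx : (ρ : M') = algebraMap K₁ M' x := congrArg Subtype.val hrTx
    refine le_antisymm (Ideal.map_le_iff_le_comap.2 fun a ha => map_nonunit _ _ ha) ?_
    rw [hirr.maximalIdeal_eq, Ideal.span_le, Set.singleton_subset_iff]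
    let r' : W.comap (algebraMap K₁ M') := ⟨x, show algebraMap K₁ M' x ∈ W from hρx ▸ ρ.2⟩
    have h : algebraMap (W.comap (algebraMap K₁ M')) W r' = ρ := Subtype.ext hρx.symm
    rw [← h]
    exact Ideal.mem_map_of_mem _ fun hu => hirr.not_isUnit (h ▸ hu.map _)
  · haveI : CharP T p := charP_of_injective_ringHom (algebraMap L T).injective p
    haveI : ExpChar T p := ExpChar.prime hp.out
    haveI : IsPurelyInseparable T M' := (isPurelyInseparable_iff_pow_mem T p).2 fun z => by
      obtain ⟨t, ht⟩ := hpow z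
      exact ⟨1, t, by rw [pow_one]; exact ht⟩
    obtain ⟨k, hk⟩ := IsPurelyInseparable.finrank_eq_pow T M' p
    have hk1 : k = 1 := by
      rcases k with _ | _ | k
      · exfalso
        rw [pow_zero] at hk
        obtain ⟨t, ht⟩ := (finrank_eq_one_iff_of_nonzero' (1 : M') one_ne_zero).1 hk (y : M')
        rw [Algebra.smul_def, mul_one] at ht
        exact hbad ⟨t, show (t : M') ∈ W from (show (t : M') = y from ht) ▸ y.2⟩ (congrArg (residue W) (Subtype.ext ht))
      · rfl
      · have := Nat.pow_lt_pow_right hp.out.one_lt (show 1 < k + 1 + 1 by omega)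
        rw [pow_one] at this
        omega
    rw [← Module.finrank_mul_finrank L T M', hfrT, hk, hk1, pow_one]

end

/-- A nontrivial quotient of full dimension of a finite algebra is the algebra. -/
theorem isField_of_quotient {L R : Type u} [Field L] [CommRing R] [Algebra L R] [Module.Finite L R] [Nontrivial R]
    (h : ∀ I : Ideal R, I.IsMaximal → Module.finrank L (R ⧸ I) = Module.finrank L R) : IsField R := by
  obtain ⟨I, hI⟩ := Ideal.exists_maximal R
  have hbot : I = ⊥ := by
    have h1 := Submodule.finrank_quotient_add_finrank (I.restrictScalars L)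
    rw [show Module.finrank L (R ⧸ I.restrictScalars L) = Module.finrank L (R ⧸ I) from rfl, h I hI] at h1
    have h2 : Module.finrank L (I.restrictScalars L) = 0 := by omega
    rw [Submodule.finrank_eq_zero] at h2
    exact Submodule.restrictScalars_injective L R R (h2.trans (Submodule.restrictScalars_bot L R R).symm)
  subst hbot
  exact MulEquiv.isField ((Ideal.Quotient.maximal_ideal_iff_isField_quotient _).1 hI) (RingEquiv.quotientBot R).symm.toMulEquiv

open TensorProduct in
/-- Let A → B → C be injective local homomorphisms of discrete valuation rings whose fields of fractions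
are K ⊆ L ⊆ M, and let π be a uniformizer of A; suppose B is a Nagata ring, A → B is weakly
unramified, and M/L is purely inseparable of prime degree p. Then one of the following holds: the
extension A → C is itself weakly unramified; or else C = B[π^(1/p)]; or else there is a separable
degree-p extension K₁/K, totally ramified with respect to A, for which L ⊗_K K₁ and M ⊗_K K₁ are
fields and the integral closures A₁ → B₁ → C₁ are weakly unramified extensions, i.e. K₁ is a weak
solution for A ⊆ B and for A ⊆ C. -/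
theorem result (p : ℕ) (hp : p.Prime) (A B C K L M : Type u)
    [CommRing A] [IsDomain A] [IsDiscreteValuationRing A] [CommRing B] [IsDomain B] [IsDiscreteValuationRing B]
    [CommRing C] [IsDomain C] [IsDiscreteValuationRing C]
    [Algebra A B] [Algebra B C] [Algebra A C] [IsScalarTower A B C]
    (hAB : Function.Injective (algebraMap A B)) (hBC : Function.Injective (algebraMap B C))
    [IsLocalHom (algebraMap A B)] [IsLocalHom (algebraMap B C)]
    [Field K] [Field L] [Field M] [Algebra A K] [IsFractionRing A K] [Algebra B L] [IsFractionRing B L]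
    [Algebra C M] [IsFractionRing C M] [Algebra K L] [Algebra L M] [Algebra K M] [IsScalarTower K L M]
    [Algebra A L] [IsScalarTower A K L] [IsScalarTower A B L] [Algebra B M] [IsScalarTower B L M] [IsScalarTower B C M]
    [Algebra A M] [IsScalarTower A K M] [IsScalarTower A C M]
    (π : A) (hπ : IsLocalRing.maximalIdeal A = Ideal.span {π}) (hB : CAlg.IsNagata B)
    (hw : EtRam.IsWeaklyUnramified A B) [IsPurelyInseparable L M] (hdeg : Module.finrank L M = p) :
    EtRam.IsWeaklyUnramified A C ∨
      (∃ c : C, c ^ p = algebraMap A C π ∧ Algebra.adjoin B {c} = ⊤) ∨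
      ∃ (K₁ : Type u) (_ : Field K₁) (_ : Algebra K K₁),
        Module.finrank K K₁ = p ∧ Algebra.IsSeparable K K₁ ∧
          EtRam.IsTotallyRamified A ((algebraMap K K₁).comp (algebraMap A K)) ∧
          IsField (L ⊗[K] K₁) ∧ IsField (M ⊗[K] K₁) ∧
          EtRam.IsWeakSolution B K L K₁ ∧ EtRam.IsWeakSolution C K M K₁ := by
  haveI : Fact p.Prime := ⟨hp⟩
  haveI : IsLocalHom (algebraMap A C) := ⟨fun a ha => by
    rw [IsScalarTower.algebraMap_apply A B C] at ha
    exact (isUnit_map_iff (algebraMap A B) a).1 ((isUnit_map_iff (algebraMap B C) _).1 ha)⟩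
  have hπA : Irreducible π := (IsDiscreteValuationRing.irreducible_iff_uniformizer π).2 hπ
  have hπB : Irreducible (algebraMap A B π) := by
    rw [IsDiscreteValuationRing.irreducible_iff_uniformizer, ← Set.image_singleton, ← Ideal.map_span, ← hπ]
    exact hw.symm
  by_cases he : Ideal.ramificationIdx' (maximalIdeal B) (maximalIdeal C) = 1
  · refine Or.inl ?_
    rw [DomVal.isWeaklyUnramified_iff (by rw [IsScalarTower.algebraMap_eq A B C]; exact hBC.comp hAB),
      DomVal.ramificationIdx_mul (V := B) hAB hBC, (DomVal.isWeaklyUnramified_iff hAB).1 hw, one_mul, he]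
  refine Or.inr ?_
  haveI := EppInsep.charP_of_degree (p := p) (L := L) (M := M) hdeg
  by_cases hex : ∃ c : C, c ^ p = algebraMap B C (algebraMap A B π)
  · -- `C = B[π^{1/p}]`
    refine Or.inl ?_
    obtain ⟨c, hc⟩ := hex
    refine ⟨c, by rw [hc, IsScalarTower.algebraMap_apply A B C], eq_top_iff.2 fun z _ => ?_⟩
    haveI : FiniteDimensional L M := Module.finite_of_finrank_pos (by rw [hdeg]; exact hp.pos)
    let W : ValuationSubring M :=
      { (algebraMap C M).range with mem_or_inv_mem' := fun y => ValuationRing.isInteger_or_isInteger _ y }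
    let ε : C ≃+* W := RingEquiv.ofBijective ((algebraMap C M).codRestrict W fun a => ⟨a, rfl⟩)
      ⟨fun a b h => IsFractionRing.injective C M (congrArg Subtype.val h), fun ⟨_, a, rfl⟩ => ⟨a, rfl⟩⟩
    haveI : IsDiscreteValuationRing W := IsDiscreteValuationRing.RingEquivClass.isDiscreteValuationRing ε
    have hε : ∀ b : B, ((ε (algebraMap B C b) : W) : M) = algebraMap L M (algebraMap B L b) := fun b => by
      show algebraMap C M (algebraMap B C b) = _
      rw [← IsScalarTower.algebraMap_apply B C M, ← IsScalarTower.algebraMap_apply B L M]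
    have hW : Dominates B ((algebraMap L M).comp (algebraMap B L)) W := by
      refine ⟨fun b => ?_, fun b hb => ?_⟩
      · show algebraMap L M (algebraMap B L b) ∈ W
        rw [← hε]; exact Subtype.prop _
      · show W.valuation (algebraMap L M (algebraMap B L b)) < 1
        rw [← hε, ← ValuationSubring.valuation_lt_one_iff]
        exact fun hu => map_nonunit (algebraMap B C) _ hb ((MulEquiv.isUnit_map ε.toMulEquiv).1 hu)
    obtain ⟨τ, hτ⟩ := IsDiscreteValuationRing.exists_irreducible C
    obtain ⟨h0, v, hv⟩ := DVRExt.exists_unit_mul_pow hBC hπB hτ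
    have hcz : c ≠ 0 := fun h => by
      rw [h, zero_pow hp.ne_zero, eq_comm, map_eq_zero_iff _ hBC] at hc
      exact hπB.ne_zero hc
    obtain ⟨j, s, hs⟩ := IsDiscreteValuationRing.eq_unit_mul_pow_irreducible hcz hτ
    have hje : j * p = Ideal.ramificationIdx' (maximalIdeal B) (maximalIdeal C) := by
      refine IsDiscreteValuationRing.unit_mul_pow_congr_pow hτ hτ (s ^ p) v _ _ ?_
      rw [Units.val_pow_eq_pow_val, pow_mul, ← mul_pow, ← hs, hc, hv]
    obtain ⟨b1, hb1⟩ := EppInsep.pow_mem_base (B := B) (L := L) (M := M) hdeg τ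
    have hb10 : b1 ≠ 0 := fun h => by rw [h, map_zero] at hb1; exact pow_ne_zero p hτ.ne_zero hb1.symm
    obtain ⟨j', s', hs'⟩ := IsDiscreteValuationRing.eq_unit_mul_pow_irreducible hb10 hπB
    have hje' : j' * Ideal.ramificationIdx' (maximalIdeal B) (maximalIdeal C) = p := by
      refine IsDiscreteValuationRing.unit_mul_pow_congr_pow hτ hτ (Units.map (algebraMap B C).toMonoidHom s' * v ^ j') 1 _ _ ?_
      rw [Units.val_one, one_mul, ← hb1, hs', map_mul, map_pow, hv, mul_pow, ← pow_mul, Units.val_mul, Units.val_pow_eq_pow_val,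
        mul_comm _ j']
      simp [mul_assoc]
    have hj : j = 1 := by
      rw [← hje, ← mul_assoc] at hje'
      exact Nat.eq_one_of_mul_eq_one_left (Nat.eq_of_mul_eq_mul_right hp.pos (by rw [hje', one_mul]))
    have hcirr : Irreducible c := by rw [hs, hj, pow_one]; exact (irreducible_units_mul s).2 hτ
    have hru : RingHom.codRestrict _ W hW.1 (algebraMap A B π) = (1 : Wˣ) * ε c ^ p := by
      rw [Units.val_one, one_mul, ← map_pow, hc]; exact Subtype.ext (hε _).symm
    obtain ⟨g, hg⟩ := EppInsep.coords_int hp.pos hπB hdeg W hW (ε c) (hcirr.map ε) 1 hru (ε z)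
    have : z = ∑ i, algebraMap B C (g i) * c ^ (i : ℕ) := ε.injective (by
      rw [hg, map_sum]
      exact Finset.sum_congr rfl fun i _ => by rw [map_mul, map_pow]; congr 1; exact Subtype.ext (hε _).symm)
    rw [this]
    exact sum_mem fun i _ => mul_mem (Subalgebra.algebraMap_mem _ _) (pow_mem (Algebra.self_mem_adjoin_singleton B c) _)
  -- the separable extension
  refine Or.inr ?_
  obtain ⟨c, m, b, hb, hc⟩ := EppInsep.exists_datum (L := L) (M := M) hdeg hBC hB hπB he hex
  have hcK : CharP (IsLocalRing.ResidueField A) p := by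
    haveI : CharP K p := RingHom.charP (algebraMap K L) (algebraMap K L).injective p
    haveI : CharP A p := RingHom.charP (algebraMap A K) (IsFractionRing.injective A K) p
    refine (CharP.charP_iff_prime_eq_zero hp).2 ?_
    rw [← map_natCast (residue A), CharP.cast_eq_zero, map_zero]
  haveI := hcK
  have hn : 1 < m + 1 := by rcases hc with ⟨rfl, -⟩ | ⟨h, -⟩ <;> omega
  obtain ⟨K₁, iF, iK, iA, iT, hfr, hsep, htot, x, β, -, hx, hβ, -, heq, -⟩ := S7157.result p hp A K π hπ (m + 1) hn 1
  rw [pow_one] at hfr heq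
  haveI : FiniteDimensional K K₁ := Module.finite_of_finrank_pos (by rw [hfr]; exact hp.pos)
  have hc' : (m = 1 ∧ c ^ p = algebraMap B C (algebraMap A B π * b)) ∨
      (2 ≤ m ∧ m + 1 = m + 1 ∧ c ^ p = algebraMap B C (algebraMap A B π + algebraMap A B π ^ m * b)) :=
    hc.imp id fun h => ⟨h.1, rfl, h.2⟩
  rw [IsScalarTower.algebraMap_eq A K K₁] at htot
  refine ⟨K₁, iF, iK, hfr, hsep, htot, ?_, ?_, ?_, ?_⟩
  · haveI : Nontrivial (L ⊗[K] K₁) := Module.nontrivial_of_finrank_pos (R := L) (by rw [Module.finrank_baseChange, hfr]; exact hp.pos)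
    refine isField_of_quotient (L := L) fun I hI => ?_
    letI : Field ((L ⊗[K] K₁) ⧸ I) := Ideal.Quotient.field I
    letI : Algebra K₁ ((L ⊗[K] K₁) ⧸ I) :=
      ((Ideal.Quotient.mk I).comp (Algebra.TensorProduct.includeRight : K₁ →ₐ[K] L ⊗[K] K₁).toRingHom).toAlgebra
    haveI : IsScalarTower K K₁ ((L ⊗[K] K₁) ⧸ I) := IsScalarTower.of_algebraMap_eq fun a => by
      show _ = Ideal.Quotient.mk I ((Algebra.TensorProduct.includeRight : K₁ →ₐ[K] L ⊗[K] K₁) (algebraMap K K₁ a))
      rw [AlgHom.commutes]; rfl
    have hgen : Algebra.adjoin L (Set.range (algebraMap K₁ ((L ⊗[K] K₁) ⧸ I))) = ⊤ := by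
      refine eq_top_iff.2 fun z _ => ?_
      obtain ⟨z, rfl⟩ := Ideal.Quotient.mk_surjective z
      induction z with
      | zero => rw [map_zero]; exact zero_mem _
      | add a b ha hb => rw [map_add]; exact add_mem (ha trivial) (hb trivial)
      | tmul l k =>
        rw [show (l ⊗ₜ[K] k) = l • ((1 : L) ⊗ₜ[K] k) by rw [TensorProduct.smul_tmul', smul_eq_mul, mul_one],
          ← Ideal.Quotient.mkₐ_eq_mk L, map_smul]
        refine Subalgebra.smul_mem _ ?_ l
        apply Algebra.subset_adjoin
        exact Set.mem_range_self (f := algebraMap K₁ _) k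
    obtain ⟨W, hW⟩ := S7157.exists_dominating (A := B) (K := L) (L := (L ⊗[K] K₁) ⧸ I)
    rw [(weak_base hπA hπB hAB hfr hn x β hx hβ heq _ hgen W hW).2, Module.finrank_baseChange, hfr]
  · haveI : Nontrivial (M ⊗[K] K₁) := Module.nontrivial_of_finrank_pos (R := M) (by rw [Module.finrank_baseChange, hfr]; exact hp.pos)
    haveI : FiniteDimensional L M := Module.finite_of_finrank_pos (by rw [hdeg]; exact hp.pos)
    haveI : Module.Finite L (M ⊗[K] K₁) := Module.Finite.trans M (M ⊗[K] K₁)
    refine isField_of_quotient (L := L) fun I hI => ?_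
    letI : Field ((M ⊗[K] K₁) ⧸ I) := Ideal.Quotient.field I
    letI : Algebra K₁ ((M ⊗[K] K₁) ⧸ I) :=
      ((Ideal.Quotient.mk I).comp (Algebra.TensorProduct.includeRight : K₁ →ₐ[K] M ⊗[K] K₁).toRingHom).toAlgebra
    haveI : IsScalarTower K K₁ ((M ⊗[K] K₁) ⧸ I) := IsScalarTower.of_algebraMap_eq fun a => by
      show _ = Ideal.Quotient.mk I ((Algebra.TensorProduct.includeRight : K₁ →ₐ[K] M ⊗[K] K₁) (algebraMap K K₁ a))
      rw [AlgHom.commutes]; rfl
    have hgen : Algebra.adjoin M (Set.range (algebraMap K₁ ((M ⊗[K] K₁) ⧸ I))) = ⊤ := by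
      refine eq_top_iff.2 fun z _ => ?_
      obtain ⟨z, rfl⟩ := Ideal.Quotient.mk_surjective z
      induction z with
      | zero => rw [map_zero]; exact zero_mem _
      | add a b ha hb => rw [map_add]; exact add_mem (ha trivial) (hb trivial)
      | tmul l k =>
        rw [show (l ⊗ₜ[K] k) = l • ((1 : M) ⊗ₜ[K] k) by rw [TensorProduct.smul_tmul', smul_eq_mul, mul_one],
          ← Ideal.Quotient.mkₐ_eq_mk M, map_smul]
        refine Subalgebra.smul_mem _ ?_ l
        apply Algebra.subset_adjoin
        exact Set.mem_range_self (f := algebraMap K₁ _) k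
    obtain ⟨W, hW⟩ := S7157.exists_dominating (A := C) (K := M) (L := (M ⊗[K] K₁) ⧸ I)
    rw [(weak_top hπA hπB hAB hfr hdeg hn x β hx hβ heq hBC hb hc' _ hgen W hW).2,
      ← Module.finrank_mul_finrank L M (M ⊗[K] K₁), Module.finrank_baseChange, hfr, hdeg]
  · intro T _ _ _ _ _ _ hgen W hW
    exact (weak_base hπA hπB hAB hfr hn x β hx hβ heq T hgen W hW).1
  · intro T _ _ _ _ _ _ hgen W hW
    letI : Algebra L T := ((algebraMap M T).comp (algebraMap L M)).toAlgebra
    haveI : IsScalarTower L M T := IsScalarTower.of_algebraMap_eq fun _ => rfl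
    exact (weak_top hπA hπB hAB hfr hdeg hn x β hx hβ heq hBC hb hc' T hgen W hW).1

end Groth.Agent.S7156
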