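import Groth.Statements.S7159
import Groth.Agent.H48.DegP
import Mathlib.FieldTheory.KummerExtension
import Mathlib.RingTheory.Smooth.Fiber
import Mathlib.RingTheory.Polynomial.Cyclotomic.Roots
import Mathlib.RingTheory.RootsOfUnity.PrimitiveRoots
import Mathlib.RingTheory.RootsOfUnity.Lemmas

set_option autoImplicit false
universe u
open EtAlg

namespace Groth.Agent.S7159

open IsLocalRing EtRam Polynomial Groth.Agent.H48
open scoped IntermediateField

section

variable {p : ℕ} [hpp : Fact p.Prime] {A K L : Type u} [CommRing A] [IsDomain A]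
  [IsDiscreteValuationRing A] [Field K] [Algebra A K] [IsFractionRing A K] [Field L] [Algebra K L]
  [CharP (ResidueField A) p]

omit [Algebra A K] [IsFractionRing A K] [Field K] [Field L] [Algebra K L] in
/-- Facts about `w = 1 - ζ`. -/
theorem w_facts [CharZero A] {ζ : A} (hζ : IsPrimitiveRoot ζ p) :
    (1 - ζ) ∈ maximalIdeal A ∧ 1 - ζ ≠ 0 ∧ ∃ ε : Aˣ, (p : A) = (ε : A) * (1 - ζ) ^ (p - 1) := by
  have hp1 : 1 < p := hpp.out.one_lt
  have hres : residue A ζ = 1 := by
    have h1 : (residue A ζ) ^ p = 1 := by rw [← map_pow, hζ.pow_eq_one, map_one]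
    exact frobenius_inj (ResidueField A) p (by simp [frobenius_def, h1])
  refine ⟨?_, sub_ne_zero.2 fun h => hζ.ne_one hp1 h.symm, ?_⟩
  · rw [← residue_eq_zero_iff, map_sub, map_one, hres, sub_self]
  obtain ⟨n, hn⟩ : ∃ n, p = n + 1 := ⟨p - 1, by omega⟩
  have hprod : ∏ k ∈ Finset.range n, (1 - ζ ^ (k + 1)) = (n : A) + 1 :=
    IsPrimitiveRoot.prod_one_sub_pow_eq_order (hn ▸ hζ)
  have hgeom : ∀ k : ℕ, (1 - ζ) * ∑ i ∈ Finset.range (k + 1), ζ ^ i = 1 - ζ ^ (k + 1) := fun k => mul_neg_geom_sum ζ (k + 1)
  rw [← Finset.prod_congr rfl fun k _ => hgeom k, Finset.prod_mul_distrib, Finset.prod_const, Finset.card_range] at hprod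
  have hu : IsUnit (∏ k ∈ Finset.range n, ∑ i ∈ Finset.range (k + 1), ζ ^ i) := by
    refine (IsUnit.prod_iff).2 fun k hk => notMem_maximalIdeal.1 fun hm => ?_
    rw [← residue_eq_zero_iff, map_sum] at hm
    simp only [map_pow, hres, one_pow, Finset.sum_const, Finset.card_range, nsmul_one] at hm
    have := Nat.le_of_dvd (Nat.succ_pos k) ((CharP.cast_eq_zero_iff (ResidueField A) p (k + 1)).1 hm)
    rw [Finset.mem_range] at hk
    omega
  refine ⟨hu.unit, ?_⟩
  rw [IsUnit.unit_spec, show p - 1 = n by omega, mul_comm, hprod, hn, Nat.cast_succ]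

variable {ζ : A} (hζ : IsPrimitiveRoot ζ p) (P : A[X]) (hP : C ((1 - ζ) ^ p) * P = (1 + C (1 - ζ) * X) ^ p - 1)

omit [Algebra A K] [IsFractionRing A K] [Field K] [Field L] [Algebra K L] [CharP (ResidueField A) p] in
include hP hζ in
theorem P_facts (hw : 1 - ζ ≠ 0) : P.natDegree = p ∧ P.Monic := by
  set w := 1 - ζ
  have hp1 : 1 < p := hpp.out.one_lt
  have hlin : (1 + C w * X : A[X]).natDegree = 1 := by
    rw [add_comm, ← map_one C, natDegree_linear hw]
  have hpow : ((1 + C w * X : A[X]) ^ p).natDegree = p := by rw [natDegree_pow, hlin, mul_one]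
  have hdeg : P.natDegree = p := by
    have h := congrArg natDegree hP
    rw [natDegree_C_mul (pow_ne_zero _ hw), natDegree_sub_eq_left_of_natDegree_lt (by rw [natDegree_one, hpow]; omega), hpow] at h
    exact h
  refine ⟨hdeg, ?_⟩
  have h := congrArg (fun q : A[X] => q.coeff p) hP
  simp only [coeff_C_mul, coeff_sub, coeff_one, if_neg (show ¬ p = 0 by omega), sub_zero] at h
  have hlead : ((1 + C w * X : A[X]) ^ p).coeff p = w ^ p := by
    conv_lhs => arg 2; rw [← hpow]
    rw [coeff_natDegree, leadingCoeff_pow, add_comm, ← map_one C, leadingCoeff_linear hw]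
  rw [hlead] at h
  rw [Monic.def, ← coeff_natDegree, hdeg]
  exact mul_left_cancel₀ (pow_ne_zero p hw) (h.trans (mul_one _).symm)

variable [Algebra A L] [IsScalarTower A K L]

omit [IsDomain A] [IsDiscreteValuationRing A] [CharP (ResidueField A) p] in
include hP in
theorem eval_P {F : Type u} [Field F] [Algebra A F] (t : F) :
    algebraMap A F (1 - ζ) ^ p * aeval t P = (1 + algebraMap A F (1 - ζ) * t) ^ p - 1 := by
  have h := congrArg (aeval t) hP
  simpa using h

variable {π : A} (hπ : Irreducible π)

section Kummer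

variable [CharZero K] {u : K} {y : L} (hy : y ^ p = algebraMap K L u) (hgen : IntermediateField.adjoin K {y} = ⊤)

omit [Algebra A L] [IsScalarTower A K L] in
include hζ hy hgen in
theorem kummer : FiniteDimensional K L ∧ Module.finrank K L ≤ p ∧ IsGalois K L ∧
    (Module.finrank K L = 1 ∨ Module.finrank K L = p) := by
  have hint : IsIntegral K y := IsIntegral.of_pow hpp.out.pos (by rw [hy]; exact isIntegral_algebraMap)
  haveI hfin : FiniteDimensional K L := by
    haveI := IntermediateField.adjoin.finiteDimensional hint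
    exact Module.Finite.equiv ((IntermediateField.equivOfEq hgen).trans IntermediateField.topEquiv).toLinearEquiv
  have hζK : IsPrimitiveRoot (algebraMap A K ζ) p := hζ.map_of_injective (IsFractionRing.injective A K)
  have hroots : (primitiveRoots p K).Nonempty := ⟨_, (mem_primitiveRoots hpp.out.pos).2 hζK⟩
  have hbot : ∀ b : K, y = algebraMap K L b → Module.finrank K L = 1 := fun b hb => by
    rw [← IntermediateField.finrank_top', ← hgen,
      IntermediateField.adjoin_simple_eq_bot_iff.2 (IntermediateField.mem_bot.2 ⟨b, hb.symm⟩)]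
    exact IntermediateField.finrank_bot
  by_cases hex : ∃ b : K, b ^ p = u
  · obtain ⟨b, hb⟩ := hex
    have hyK : ∃ c : K, y = algebraMap K L c := by
      by_cases hb0 : b = 0
      · refine ⟨0, ?_⟩
        rw [map_zero, ← pow_eq_zero_iff hpp.out.ne_zero, hy, ← hb, hb0, zero_pow hpp.out.ne_zero, map_zero]
      have hbL : algebraMap K L b ≠ 0 := (_root_.map_ne_zero _).2 hb0
      obtain ⟨i, -, hi⟩ := (hζK.map_of_injective (algebraMap K L).injective).eq_pow_of_pow_eq_one
        (show (y / algebraMap K L b) ^ p = 1 by rw [div_pow, hy, ← hb, map_pow, div_self (pow_ne_zero _ hbL)])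
      exact ⟨algebraMap A K ζ ^ i * b, by rw [map_mul, map_pow, hi, div_mul_cancel₀ _ hbL]⟩
    obtain ⟨c, hc⟩ := hyK
    have h1 := hbot c hc
    refine ⟨hfin, by rw [h1]; exact hpp.out.one_le, ?_, Or.inl h1⟩
    exact IsGalois.of_algEquiv (AlgEquiv.ofBijective (Algebra.ofId K L) ⟨(algebraMap K L).injective, fun x => by
      obtain ⟨d, hd⟩ := (finrank_eq_one_iff_of_nonzero' (1 : L) one_ne_zero).1 h1 x
      exact ⟨d, by rw [← hd, Algebra.smul_def, mul_one]; rfl⟩⟩)
  push Not at hex
  have hirr : Irreducible (X ^ p - C u) := X_pow_sub_C_irreducible_of_prime hpp.out hex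
  have hmin : minpoly K y = X ^ p - C u :=
    (minpoly.eq_of_irreducible_of_monic hirr (by simp [hy]) (monic_X_pow_sub_C u hpp.out.ne_zero)).symm
  have hrank : Module.finrank K L = p := by
    rw [← IntermediateField.finrank_top', ← hgen, IntermediateField.adjoin.finrank hint, hmin, natDegree_X_pow_sub_C]
  haveI : IsSplittingField K L (X ^ p - C u) := by
    have := isSplittingField_X_pow_sub_C_of_root_adjoin_eq_top (K := K) (L := L) (by rw [hrank]; exact hroots)
      (a := u) (α := y) (by rw [hrank]; exact hy) hgen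
    rwa [hrank] at this
  exact ⟨hfin, hrank.le, isGalois_of_isSplittingField_X_pow_sub_C hroots hirr L, Or.inr hrank⟩

end Kummer

section Cases

variable [CharZero K] {ξ : K} {z : L} (hz : aeval z P = algebraMap K L ξ) (hgen : IntermediateField.adjoin K {z} = ⊤)

include hP hz in
theorem y_pow : (1 + algebraMap A L (1 - ζ) * z) ^ p = algebraMap K L (1 + algebraMap A K (1 - ζ) ^ p * ξ) := by
  rw [map_add, map_one, map_mul, map_pow, ← IsScalarTower.algebraMap_apply A K L, ← hz, eval_P P hP]
  ring

include hgen in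
theorem y_gen (hw : 1 - ζ ≠ 0) : IntermediateField.adjoin K {1 + algebraMap A L (1 - ζ) * z} = ⊤ := by
  refine top_le_iff.1 (hgen ▸ IntermediateField.adjoin_le_iff.2 (Set.singleton_subset_iff.2 ?_))
  set w := algebraMap A L (1 - ζ) with hwd
  have hw0 : w ≠ 0 := by
    rw [hwd, IsScalarTower.algebraMap_apply A K L]
    exact (_root_.map_ne_zero _).2 ((map_ne_zero_iff _ (IsFractionRing.injective A K)).2 hw)
  have hwmem : w ∈ IntermediateField.adjoin K {1 + w * z} := by
    rw [hwd, IsScalarTower.algebraMap_apply A K L]; exact IntermediateField.algebraMap_mem _ _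
  have h := mul_mem (inv_mem hwmem) (sub_mem (IntermediateField.mem_adjoin_simple_self K (1 + w * z)) (one_mem _))
  rw [add_sub_cancel_left, ← mul_assoc, inv_mul_cancel₀ hw0, one_mul] at h
  exact h

variable [CharZero A]

include hπ hζ hP hz hgen in
/-- Case (A). -/
theorem caseA {a : A} (ha : algebraMap A K a = ξ) :
    Module.finrank K L = 1 ∨ (IsUnramifiedExt A (algebraMap A L) ∧ Module.finrank K L = p) := by
  obtain ⟨hwm, hw0, ε, hε⟩ := w_facts hζ
  obtain ⟨hdeg, hmonic⟩ := P_facts hζ P hP hw0
  obtain ⟨hfin, -, -, h1 | hp⟩ := kummer (A := A) hζ (y_pow P hP hz) (y_gen (A := A) hgen hw0)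
  · exact Or.inl h1
  refine Or.inr ⟨fun V hV => ?_, hp⟩
  intro _
  haveI := hfin
  let f : A[X] := P - C a
  have hfm : f.Monic := hmonic.sub_of_left (by
    rw [degree_eq_natDegree hmonic.ne_zero, hdeg]
    exact degree_C_le.trans_lt (by exact_mod_cast hpp.out.pos))
  have hder : derivative f = C (ε : A) * (1 + C (1 - ζ) * X) ^ (p - 1) := by
    have h := congrArg derivative hP
    rw [derivative_C_mul, derivative_sub, derivative_one, sub_zero, derivative_pow, derivative_add, derivative_one, zero_add,
      derivative_C_mul_X] at h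
    have hd : derivative f = derivative P := by simp [f]
    rw [hd]
    refine mul_left_cancel₀ (a := C ((1 - ζ) ^ p)) (fun h0 => pow_ne_zero p hw0 (C_eq_zero.1 h0)) ?_
    rw [h, hε, show C ((1 - ζ) ^ p) = C ((1 - ζ) ^ (p - 1)) * C (1 - ζ) by
      rw [← C_mul, ← pow_succ, Nat.sub_add_cancel hpp.out.one_le], C_mul]
    ring
  let E := AdjoinRoot f
  haveI : Module.Finite A E := hfm.finite_adjoinRoot
  have hunit : IsUnit (aeval (AdjoinRoot.root f) (derivative f)) := by
    rw [hder, map_mul, aeval_C, map_pow, map_add, map_one, map_mul, aeval_C, aeval_X]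
    refine (ε.isUnit.map _).mul (IsUnit.pow _ ?_)
    by_contra hnu
    obtain ⟨M, hM, h⟩ := exists_max_ideal_of_mem_nonunits hnu
    have hc := Ideal.isMaximal_comap_of_isIntegral_of_isMaximal (R := A) M
    have hwM : algebraMap A E (1 - ζ) ∈ M := by
      have : (1 - ζ) ∈ M.comap (algebraMap A E) := by rw [eq_maximalIdeal hc]; exact hwm
      exact this
    refine hM.ne_top ((Ideal.eq_top_iff_one _).2 ?_)
    have := sub_mem h (Ideal.mul_mem_right (AdjoinRoot.root f) _ hwM)
    rwa [add_sub_cancel_right] at this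
  haveI : Algebra.Etale A E := by
    haveI : Algebra.FormallyUnramified A E := by
      rw [Algebra.formallyUnramified_iff]
      refine subsingleton_of_forall_eq 0 fun ω => ?_
      have hω : ω ∈ Submodule.span E (Set.range (KaehlerDifferential.D A E)) := by
        rw [KaehlerDifferential.span_range_derivation]; trivial
      induction hω using Submodule.span_induction with
      | mem y hy =>
        obtain ⟨x, rfl⟩ := hy
        obtain ⟨g, rfl⟩ := AdjoinRoot.mk_surjective x
        rw [← AdjoinRoot.aeval_eq, Derivation.map_aeval]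
        have h0 := congrArg (KaehlerDifferential.D A E) (AdjoinRoot.aeval_eq f |>.trans AdjoinRoot.mk_self)
        rw [Derivation.map_aeval, map_zero] at h0
        obtain ⟨u', hu'⟩ := hunit.exists_left_inv
        have h2 := congrArg (u' • ·) h0
        simp only [smul_smul, hu', one_smul, smul_zero] at h2
        rw [h2, smul_zero]
      | zero => rfl
      | add y z _ _ hy hz => rw [hy, hz, add_zero]
      | smul c y _ hy => rw [hy, smul_zero]
    haveI : Module.Free A E := hfm.free_adjoinRoot
    haveI : Algebra.FinitePresentation A E := Algebra.FinitePresentation.of_finiteType.1 inferInstance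
    exact Algebra.Etale.of_formallyUnramified_of_flat
  let ψ : E →+* L := AdjoinRoot.lift (algebraMap A L) z (by
    simp only [f, eval₂_sub, eval₂_C, ← aeval_def]
    rw [IsScalarTower.algebraMap_apply A K L, ha, hz, sub_self])
  have hψ : ∀ b, ψ (algebraMap A E b) = algebraMap K L (algebraMap A K b) := fun b => by
    rw [AdjoinRoot.algebraMap_eq, AdjoinRoot.lift_of, ← IsScalarTower.algebraMap_apply]
  have hgenψ : Subfield.closure (Set.range ψ) = ⊤ := by
    let T := Subfield.closure (Set.range ψ)
    let T' : IntermediateField K L := T.toIntermediateField fun k => by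
      obtain ⟨b, c, -, rfl⟩ := IsFractionRing.div_surjective A k
      rw [map_div₀, ← hψ, ← hψ]
      exact div_mem (Subfield.subset_closure ⟨_, rfl⟩) (Subfield.subset_closure ⟨_, rfl⟩)
    have hle : IntermediateField.adjoin K {z} ≤ T' := IntermediateField.adjoin_le_iff.2
      (Set.singleton_subset_iff.2 (Subfield.subset_closure ⟨AdjoinRoot.root f, AdjoinRoot.lift_root _⟩))
    rw [hgen] at hle
    exact eq_top_iff.2 fun x _ => hle (IntermediateField.mem_top (x := x))
  have hV' := (DegP.dom_iff (K := K) V).1 hV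
  haveI : IsLocalHom (@algebraMap A V _ _ (RingHom.codRestrict _ V hV'.1).toAlgebra) :=
    DomVal.isLocalHom_of_dominates hV'
  obtain ⟨hw, hs⟩ := EtUnram.unramified_of_generated (K := K) ψ hψ hgenψ V hV'
  have heq : (algebraMap A L).codRestrict V hV.1 = ((algebraMap K L).comp (algebraMap A K)).codRestrict V hV'.1 :=
    RingHom.ext fun b => Subtype.ext (IsScalarTower.algebraMap_apply A K L b)
  refine ⟨?_, ?_⟩
  · show (maximalIdeal A).map ((algebraMap A L).codRestrict V hV.1) = _
    rw [heq]; exact hw
  · have hs' : ∀ x : ResidueField V, ∃ g : (ResidueField A)[X], g.Separable ∧ g.eval₂ (ResidueField.map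
        (((algebraMap K L).comp (algebraMap A K)).codRestrict V hV'.1)) x = 0 := by
      letI : Algebra A V := (((algebraMap K L).comp (algebraMap A K)).codRestrict V hV'.1).toAlgebra
      intro x
      exact ⟨_, Algebra.IsSeparable.isSeparable (ResidueField A) x, minpoly.aeval _ x⟩
    letI : Algebra A V := ((algebraMap A L).codRestrict V hV.1).toAlgebra
    refine ⟨fun x => ?_⟩
    obtain ⟨g, hg, hgx⟩ := hs' x
    refine hg.of_dvd (minpoly.dvd _ x ?_)
    rw [aeval_def]
    refine Eq.trans ?_ hgx
    congr 1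
    refine RingHom.ext fun r => ?_
    obtain ⟨r, rfl⟩ := residue_surjective r
    exact congrArg (residue V) (Subtype.ext (IsScalarTower.algebraMap_apply A K L r))

include hπ hζ hP hz hgen in
/-- Case (B). -/
theorem caseB (n : ℕ) (a : Aˣ) (hn : 0 < n) (hpn : ¬ p ∣ n) (hξ : ξ * algebraMap A K π ^ n = algebraMap A K a) :
    IsTotallyRamified A (algebraMap A L) ∧ Module.finrank K L = p := by
  obtain ⟨hwm, hw0, ε, hε⟩ := w_facts hζ
  obtain ⟨hdeg, hmonic⟩ := P_facts hζ P hP hw0
  obtain ⟨hfin, hle, -, -⟩ := kummer (A := A) hζ (y_pow P hP hz) (y_gen (A := A) hgen hw0)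
  haveI := hfin
  refine DegP.ramified hπ hle z⁻¹ n hpn fun V hV => ?_
  haveI : IsDiscreteValuationRing V := FSExt.isDVR V ((DegP.dom_iff (K := K) V).1 hV)
  have hPV : ∀ t : L, t ∈ V → aeval t P ∈ V := fun t ht => by
    rw [aeval_eq_sum_range]
    exact sum_mem fun i _ => by rw [Algebra.smul_def]; exact mul_mem (hV.1 _) (pow_mem ht _)
  have hz' : aeval z P * algebraMap A L π ^ n = algebraMap A L a := by
    rw [hz, IsScalarTower.algebraMap_apply A K L π, IsScalarTower.algebraMap_apply A K L a, ← map_pow, ← map_mul, hξ]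
  have haU : V.valuation (algebraMap A L a) = 1 :=
    (V.valuation_eq_one_iff ⟨_, hV.1 a⟩).1 (a.isUnit.map (RingHom.codRestrict (algebraMap A L) V hV.1))
  have hzV : z ∉ V := fun h => by
    have h2 := congrArg V.valuation hz'
    rw [map_mul, map_pow, haU] at h2
    exact absurd h2 (ne_of_lt (lt_of_le_of_lt (mul_le_of_le_one_left' ((V.valuation_le_one_iff _).2 (hPV z h)))
      (pow_lt_one₀ zero_le (hV.2 π hπ.not_isUnit) hn.ne')))
  have hz0 : z ≠ 0 := fun h => hzV (h ▸ zero_mem V)
  let y : V := ⟨z⁻¹, (V.mem_or_inv_mem z).resolve_left hzV⟩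
  have hy : y ∈ maximalIdeal V := fun h => by
    obtain ⟨⟨w, hw⟩, hyw⟩ := h.exists_right_inv
    have : z⁻¹ * w = 1 := congrArg Subtype.val hyw
    exact hzV ((inv_mul_eq_one₀ hz0).1 this ▸ hw)
  let ι := RingHom.codRestrict (algebraMap A L) V hV.1
  let s : V := ∑ i ∈ Finset.range p, ι (P.coeff i) * y ^ (p - i)
  have hs : s ∈ maximalIdeal V := sum_mem fun i hi =>
    Ideal.mul_mem_left _ _ (Ideal.pow_mem_of_mem _ hy _ (Nat.sub_pos_of_lt (Finset.mem_range.1 hi)))
  have hu : IsUnit (1 + s) := by
    rw [← sub_neg_eq_add]; exact isUnit_one_sub_self_of_mem_nonunits _ (neg_mem hs)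
  have ha' : IsUnit (ι a) := a.isUnit.map _
  refine ⟨hu.unit * ha'.unit⁻¹, ?_⟩
  have hexp : aeval z P * z⁻¹ ^ p = ((1 + s : V) : L) := by
    rw [aeval_eq_sum_range' (n := p + 1) (by omega), Finset.sum_range_succ, add_mul, add_comm]
    push_cast [s]
    congr 1
    · rw [show P.coeff p = 1 by rw [← hdeg]; exact hmonic.coeff_natDegree, one_smul, ← mul_pow, mul_inv_cancel₀ hz0, one_pow]
    · rw [Finset.sum_mul]
      refine Finset.sum_congr rfl fun i hi => ?_
      rw [Algebra.smul_def, mul_assoc]
      congr 1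
      have hip : i + (p - i) = p := Nat.add_sub_cancel' (Finset.mem_range.1 hi).le
      conv_lhs => rw [← hip, pow_add, ← mul_assoc, ← mul_pow, mul_inv_cancel₀ hz0, one_pow, one_mul]
  have hinv : ((ι a : V) : L) * (((ha'.unit⁻¹ : Vˣ) : V) : L) = 1 := by
    rw [← Subring.coe_mul, IsUnit.mul_val_inv]; rfl
  rw [Units.val_mul, Subring.coe_mul, IsUnit.unit_spec, ← hexp]
  have hA : ((ι a : V) : L) = aeval z P * algebraMap A L π ^ n := hz'.symm
  rw [hA] at hinv
  linear_combination (-(z⁻¹ ^ p)) * hinv

include hπ hζ hP hz hgen in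
/-- Case (C). -/
theorem caseC (n : ℕ) (a : A) (hn : 0 < n) (hpn : p ∣ n) (ha : ∀ r : A, residue A a ≠ residue A r ^ p)
    (hξ : ξ * algebraMap A K π ^ n = algebraMap A K a) : DegP.Case4 p (algebraMap A L) := by
  obtain ⟨hwm, hw0, ε, hε⟩ := w_facts hζ
  obtain ⟨hdeg, hmonic⟩ := P_facts hζ P hP hw0
  obtain ⟨hfin, -, -, -⟩ := kummer (A := A) hζ (y_pow P hP hz) (y_gen (A := A) hgen hw0)
  haveI := hfin
  obtain ⟨m, rfl⟩ := hpn
  have hm : 0 < m := Nat.pos_of_ne_zero fun h => by rw [h, mul_zero] at hn; exact lt_irrefl 0 hn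
  let h : A[X] := (P.scaleRoots (π ^ m)) - C a
  have hsm : (P.scaleRoots (π ^ m)).Monic := (monic_scaleRoots_iff _).2 hmonic
  have hsd : (P.scaleRoots (π ^ m)).natDegree = p := by rw [natDegree_scaleRoots, hdeg]
  have hhm : h.Monic := hsm.sub_of_left (by
    rw [degree_eq_natDegree hsm.ne_zero, hsd]
    exact degree_C_le.trans_lt (by exact_mod_cast hpp.out.pos))
  have hπL : algebraMap A L π ≠ 0 := by
    rw [IsScalarTower.algebraMap_apply A K L]
    exact (_root_.map_ne_zero _).2 ((map_ne_zero_iff _ (IsFractionRing.injective A K)).2 hπ.ne_zero)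
  refine DegP.inseparable (K := K) hπ a ha h hhm ?_ (algebraMap A L π ^ m * z) ?_ ?_
  · ext i
    simp only [h, Polynomial.map_sub, Polynomial.map_C, coeff_sub, coeff_map, coeff_scaleRoots, hdeg, coeff_X_pow]
    congr 1
    rcases lt_trichotomy i p with hi | hi | hi
    · rw [map_mul, map_pow, map_pow, (residue_eq_zero_iff π).2 hπ.not_isUnit, zero_pow hm.ne',
        zero_pow (by omega), mul_zero, if_neg hi.ne]
    · subst hi
      rw [Nat.sub_self, pow_zero, mul_one, show P.coeff i = 1 by rw [← hdeg]; exact hmonic.coeff_natDegree, map_one, if_pos rfl]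
    · rw [coeff_eq_zero_of_natDegree_lt (hdeg ▸ hi), zero_mul, map_zero, if_neg hi.ne']
  · have hval : aeval (algebraMap A L π ^ m * z) (P.scaleRoots (π ^ m)) = algebraMap A L π ^ (p * m) * aeval z P := by
      rw [aeval_eq_sum_range' (n := p + 1) (by rw [hsd]; omega), aeval_eq_sum_range' (n := p + 1) (p := P) (by omega),
        Finset.mul_sum]
      refine Finset.sum_congr rfl fun i hi => ?_
      rw [Finset.mem_range] at hi
      simp only [Algebra.smul_def, coeff_scaleRoots, hdeg, map_mul, map_pow, mul_pow, ← pow_mul]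
      have hpi : m * (p - i) + m * i = p * m := by rw [← mul_add, Nat.sub_add_cancel (by omega), mul_comm]
      rw [← hpi, pow_add]; ring
    rw [show h = P.scaleRoots (π ^ m) - C a from rfl, map_sub, aeval_C, hval, hz,
      IsScalarTower.algebraMap_apply A K L π, IsScalarTower.algebraMap_apply A K L a, ← hξ, map_mul, map_pow, mul_comm, sub_self]
  · refine top_le_iff.1 (hgen ▸ IntermediateField.adjoin_le_iff.2 (Set.singleton_subset_iff.2 ?_))
    have h1 : z = (algebraMap K L (algebraMap A K π ^ m))⁻¹ * (algebraMap A L π ^ m * z) := by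
      rw [map_pow, ← IsScalarTower.algebraMap_apply, ← mul_assoc, inv_mul_cancel₀ (pow_ne_zero m hπL), one_mul]
    have h2 := mul_mem (inv_mem ((K⟮algebraMap A L π ^ m * z⟯).algebraMap_mem (algebraMap A K π ^ m)))
      (IntermediateField.mem_adjoin_simple_self K (algebraMap A L π ^ m * z))
    rw [← h1] at h2; exact h2

end Cases

variable [CharZero K] [CharZero A]

include hπ hζ hP in
/-- Poles of order below that of `w ^ p`. -/
theorem classify (n : ℕ) : ∀ (ξ : K) (z : L), aeval z P = algebraMap K L ξ → IntermediateField.adjoin K {z} = ⊤ →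
    π ^ (n + 1) ∣ (1 - ζ) ^ p → (∃ a : A, ξ * algebraMap A K π ^ n = algebraMap A K a) →
    Module.finrank K L = 1 ∨ (IsUnramifiedExt A (algebraMap A L) ∧ Module.finrank K L = p) ∨
      (IsTotallyRamified A (algebraMap A L) ∧ Module.finrank K L = p) ∨ DegP.Case4 p (algebraMap A L) := by
  obtain ⟨hwm, hw0, ε, hε⟩ := w_facts hζ
  obtain ⟨hdeg, hmonic⟩ := P_facts hζ P hP hw0
  have hπK : algebraMap A K π ≠ 0 := (map_ne_zero_iff _ (IsFractionRing.injective A K)).2 hπ.ne_zero
  induction n using Nat.strong_induction_on with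
  | _ n ih =>
    rintro ξ z hz hgen hdvd ⟨a, ha⟩
    rcases Nat.eq_zero_or_pos n with rfl | hn
    · rw [pow_zero, mul_one] at ha
      exact (caseA hζ P hP hπ hz hgen ha.symm).imp_right Or.inl
    by_cases hau : IsUnit a
    · by_cases hpn : p ∣ n
      · by_cases hres : ∀ r : A, residue A a ≠ residue A r ^ p
        · exact Or.inr (Or.inr (Or.inr (caseC hζ P hP hπ hz hgen n a hn hpn hres ha)))
        push Not at hres
        obtain ⟨r, hr⟩ := hres
        obtain ⟨m, rfl⟩ := hpn
        have hm : 0 < m := Nat.pos_of_ne_zero fun h => by rw [h, mul_zero] at hn; exact lt_irrefl 0 hn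
        obtain ⟨e, u, hu⟩ := IsDiscreteValuationRing.eq_unit_mul_pow_irreducible hw0 hπ
        have hme : m < e := by
          rw [hu, mul_pow, ← pow_mul, (u.isUnit.pow p).dvd_mul_left, pow_dvd_pow_iff hπ.ne_zero hπ.not_isUnit] at hdvd
          by_contra hle
          have := Nat.mul_le_mul_left p (Nat.le_of_not_lt hle)
          rw [mul_comm e p] at hdvd
          omega
        let t : A := (u : A) * π ^ (e - m) * r
        have ht : IsUnit (1 + t) := by
          rw [← sub_neg_eq_add]
          exact isUnit_one_sub_self_of_mem_nonunits _ (neg_mem (Ideal.mul_mem_right _ (maximalIdeal A)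
            (Ideal.mul_mem_left _ _ (Ideal.pow_mem_of_mem _ hπ.not_isUnit _ (by omega)))))
        let η : K := algebraMap A K r / algebraMap A K π ^ m
        have hwη : algebraMap A K (1 - ζ) * η = algebraMap A K t := by
          simp only [η, t, hu, map_mul, map_pow]
          have h2 : algebraMap A K π ^ e = algebraMap A K π ^ (e - m) * algebraMap A K π ^ m := by
            rw [← pow_add, Nat.sub_add_cancel hme.le]
          rw [h2]; field_simp
        have hden : (1 + algebraMap A K (1 - ζ) * η) ≠ 0 := by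
          rw [hwη, ← map_one (algebraMap A K), ← map_add]
          exact (map_ne_zero_iff _ (IsFractionRing.injective A K)).2 ht.ne_zero
        let bη : K := aeval η P
        have hPη : ∃ d : A, bη * algebraMap A K π ^ (p * m) = algebraMap A K (r ^ p + π * d) := by
          refine ⟨∑ i ∈ Finset.range p, P.coeff i * r ^ i * π ^ (m * (p - i) - 1), ?_⟩
          simp only [bη]
          rw [aeval_eq_sum_range' (n := p + 1) (by omega), Finset.sum_range_succ,
            show P.coeff p = 1 by rw [← hdeg]; exact hmonic.coeff_natDegree, one_smul, add_mul, add_comm,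
            map_add, map_mul, map_sum, Finset.mul_sum, Finset.sum_mul, map_pow]
          congr 1
          · simp only [η, div_pow, ← pow_mul, mul_comm m p]; field_simp
          · refine Finset.sum_congr rfl fun i hi => ?_
            rw [Finset.mem_range] at hi
            have hpi : p * m = m * i + (m * (p - i) - 1 + 1) := by
              rw [Nat.sub_add_cancel (Nat.mul_pos hm (by omega)), ← mul_add, Nat.add_sub_cancel' hi.le, mul_comm]
            rw [hpi, Algebra.smul_def, pow_add, pow_succ, map_mul, map_mul, map_pow, map_pow]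
            simp only [η, div_pow, ← pow_mul]
            field_simp
        obtain ⟨d, hd⟩ := hPη
        obtain ⟨d', hd'⟩ : π ∣ a - r ^ p := by
          rw [← Ideal.mem_span_singleton, ← hπ.maximalIdeal_eq, ← residue_eq_zero_iff, map_sub, map_pow, hr, sub_self]
        let ξ' : K := (ξ - bη) / (1 + algebraMap A K (1 - ζ) * η) ^ p
        let ηL := algebraMap K L η
        let z' : L := (z - ηL) / (1 + algebraMap A L (1 - ζ) * ηL)
        have hdenL : 1 + algebraMap A L (1 - ζ) * ηL = algebraMap K L (1 + algebraMap A K (1 - ζ) * η) := by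
          rw [map_add, map_one, map_mul, ← IsScalarTower.algebraMap_apply]
        have hdenL0 : 1 + algebraMap A L (1 - ζ) * ηL ≠ 0 := by rw [hdenL]; exact (_root_.map_ne_zero _).2 hden
        have hwL : algebraMap A L (1 - ζ) ≠ 0 := by
          rw [IsScalarTower.algebraMap_apply A K L]
          exact (_root_.map_ne_zero _).2 ((map_ne_zero_iff _ (IsFractionRing.injective A K)).2 hw0)
        refine ih (p * m - 1) (by omega) ξ' z' ?_ ?_ ?_ ⟨(d' - d) * (((ht.unit⁻¹ : Aˣ) : A)) ^ p, ?_⟩
        · refine mul_left_cancel₀ (pow_ne_zero p hwL) ?_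
          have h1 : 1 + algebraMap A L (1 - ζ) * z' =
              (1 + algebraMap A L (1 - ζ) * z) / (1 + algebraMap A L (1 - ζ) * ηL) := by
            simp only [z']
            rw [eq_div_iff hdenL0, add_mul, one_mul, mul_assoc, div_mul_cancel₀ _ hdenL0]; ring
          rw [eval_P P hP, h1]
          simp only [ξ', bη]
          rw [map_div₀, map_sub (algebraMap K L) ξ, map_pow, ← hdenL, ← hz, ← aeval_algebraMap_apply,
            ← mul_div_assoc, mul_sub (algebraMap A L (1 - ζ) ^ p), eval_P P hP, eval_P P hP]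
          rw [div_pow, eq_div_iff (pow_ne_zero p hdenL0), sub_mul, div_mul_cancel₀ _ (pow_ne_zero p hdenL0), one_mul]
          simp only [ηL]
          ring
        · refine top_le_iff.1 (hgen ▸ IntermediateField.adjoin_le_iff.2 (Set.singleton_subset_iff.2 ?_))
          have h1 : z = z' * algebraMap K L (1 + algebraMap A K (1 - ζ) * η) + ηL := by
            rw [← hdenL]; simp only [z']; rw [div_mul_cancel₀ _ hdenL0, sub_add_cancel]
          rw [SetLike.mem_coe, h1]
          exact add_mem (mul_mem (IntermediateField.mem_adjoin_simple_self K z') (IntermediateField.algebraMap_mem _ _))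
            (IntermediateField.algebraMap_mem _ _)
        · exact (pow_dvd_pow π (by omega)).trans hdvd
        · refine mul_right_cancel₀ hπK ?_
          rw [mul_assoc, ← pow_succ, Nat.sub_add_cancel (by omega : 1 ≤ p * m)]
          have h1 : (1 + algebraMap A K (1 - ζ) * η) * algebraMap A K ((ht.unit⁻¹ : Aˣ) : A) = 1 := by
            rw [hwη, ← map_one (algebraMap A K), ← map_add, ← map_mul, IsUnit.mul_val_inv]
          simp only [ξ']
          rw [div_mul_eq_mul_div, show (ξ - bη) * algebraMap A K π ^ (p * m) = algebraMap A K (a - (r ^ p + π * d)) by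
            rw [sub_mul, ha, hd, ← map_sub], div_eq_iff (pow_ne_zero p hden), map_mul, map_pow,
            show a - (r ^ p + π * d) = π * (d' - d) by linear_combination hd', map_mul]
          have h2 := congrArg (· ^ p) h1
          simp only [mul_pow, one_pow] at h2
          linear_combination (-(algebraMap A K π * algebraMap A K (d' - d))) * h2
      · exact Or.inr (Or.inr (Or.inl (caseB hζ P hP hπ hz hgen n hau.unit hn hpn ha)))
    · obtain ⟨d, rfl⟩ : π ∣ a := by rw [← Ideal.mem_span_singleton, ← hπ.maximalIdeal_eq]; exact hau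
      refine ih (n - 1) (by omega) ξ z hz hgen ((pow_dvd_pow π (by omega)).trans hdvd) ⟨d, ?_⟩
      refine mul_right_cancel₀ hπK ?_
      rw [mul_assoc, ← pow_succ, Nat.sub_add_cancel hn, ha, map_mul, mul_comm]

include hπ hζ hP in
/-- All cases, by the Kummer generator. -/
theorem classify_all {ξ : K} {z : L} (hz : aeval z P = algebraMap K L ξ) (hgen : IntermediateField.adjoin K {z} = ⊤) :
    Module.finrank K L = 1 ∨ (IsUnramifiedExt A (algebraMap A L) ∧ Module.finrank K L = p) ∨
      (IsTotallyRamified A (algebraMap A L) ∧ Module.finrank K L = p) ∨ DegP.Case4 p (algebraMap A L) := by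
  obtain ⟨hwm, hw0, ε, hε⟩ := w_facts hζ
  have hy := y_pow P hP hz
  have hygen := y_gen (K := K) (A := A) (ζ := ζ) hgen hw0
  obtain ⟨hfin, hle, -, -⟩ := kummer (A := A) hζ hy hygen
  haveI := hfin
  by_cases hu0 : (1 + algebraMap A K (1 - ζ) ^ p * ξ) = 0
  · refine Or.inl ?_
    rw [hu0, map_zero, pow_eq_zero_iff hpp.out.ne_zero] at hy
    rw [← IntermediateField.finrank_top', ← hygen, hy, IntermediateField.adjoin_simple_eq_bot_iff.2 (zero_mem _)]
    exact IntermediateField.finrank_bot
  obtain ⟨a, ⟨b, hb⟩, hab⟩ := IsFractionRing.div_surjective A (1 + algebraMap A K (1 - ζ) ^ p * ξ) |>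
    fun ⟨a, b, hb, h⟩ => (⟨a, ⟨b, hb⟩, h⟩ : ∃ (a : A) (b : nonZeroDivisors A), algebraMap A K a / algebraMap A K b = _)
  replace hab : algebraMap A K a / algebraMap A K b = 1 + algebraMap A K (1 - ζ) ^ p * ξ := hab
  have hbK : algebraMap A K b ≠ 0 := (map_ne_zero_iff _ (IsFractionRing.injective A K)).2 (nonZeroDivisors.ne_zero hb)
  -- scale to an element of `A`
  have hyA : ((1 + algebraMap A L (1 - ζ) * z) * algebraMap A L b) ^ p = algebraMap A L (a * b ^ (p - 1)) := by
    rw [mul_pow, hy, ← hab, IsScalarTower.algebraMap_apply A K L b, IsScalarTower.algebraMap_apply A K L (a * b ^ (p - 1)),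
      ← map_pow, ← map_mul]
    congr 1
    rw [map_mul, map_pow]
    have h1 : algebraMap A K b ^ p = algebraMap A K b * algebraMap A K b ^ (p - 1) := by
      rw [← pow_succ', Nat.sub_add_cancel hpp.out.one_le]
    rw [h1]; field_simp
  have hA0 : a * b ^ (p - 1) ≠ 0 := mul_ne_zero (fun h => hu0 (by rw [← hab, h, map_zero, zero_div]))
    (pow_ne_zero _ (nonZeroDivisors.ne_zero hb))
  obtain ⟨n, v, hv⟩ := IsDiscreteValuationRing.eq_unit_mul_pow_irreducible hA0 hπ
  by_cases hpn : p ∣ n
  swap
  · refine Or.inr (Or.inr (Or.inl (DegP.ramified hπ hle ((1 + algebraMap A L (1 - ζ) * z) * algebraMap A L b) n hpn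
      fun V hV => ⟨(v.isUnit.map (RingHom.codRestrict (algebraMap A L) V hV.1)).unit, ?_⟩)))
    rw [hyA, hv, map_mul, map_pow]; rfl
  obtain ⟨m, rfl⟩ := hpn
  have hπK : algebraMap A K π ≠ 0 := (map_ne_zero_iff _ (IsFractionRing.injective A K)).2 hπ.ne_zero
  have hπL : algebraMap A L π ≠ 0 := by
    rw [IsScalarTower.algebraMap_apply A K L]; exact (_root_.map_ne_zero _).2 hπK
  let c : K := algebraMap A K b / algebraMap A K π ^ m
  have hc0 : c ≠ 0 := div_ne_zero hbK (pow_ne_zero _ hπK)
  set y := (1 + algebraMap A L (1 - ζ) * z) * algebraMap K L c with hydef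
  have hyp : y ^ p = algebraMap A L v := by
    refine mul_right_cancel₀ (pow_ne_zero (p * m) hπL) ?_
    rw [← map_pow (algebraMap A L) π (p * m), ← map_mul, ← hv, ← hyA, hydef]
    simp only [c, map_div₀, map_pow, ← IsScalarTower.algebraMap_apply, mul_pow, div_pow, ← pow_mul, mul_comm m p]
    field_simp
  have hygen' : IntermediateField.adjoin K {y} = ⊤ := by
    refine top_le_iff.1 (hygen ▸ IntermediateField.adjoin_le_iff.2 (Set.singleton_subset_iff.2 ?_))
    have h1 : 1 + algebraMap A L (1 - ζ) * z = y * algebraMap K L c⁻¹ := by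
      rw [hydef, map_inv₀, mul_assoc, mul_inv_cancel₀ ((_root_.map_ne_zero _).2 hc0), mul_one]
    rw [SetLike.mem_coe, h1]
    exact mul_mem (IntermediateField.mem_adjoin_simple_self K y) (IntermediateField.algebraMap_mem _ _)
  by_cases hres : ∀ r : A, residue A v ≠ residue A r ^ p
  · refine Or.inr (Or.inr (Or.inr (DegP.inseparable (K := K) hπ (v : A) hres (X ^ p - C (v : A))
      (monic_X_pow_sub_C _ hpp.out.ne_zero) (by simp) y (by simp [hyp]) hygen')))
  push Not at hres
  obtain ⟨r, hr⟩ := hres
  have hrU : IsUnit r := notMem_maximalIdeal.1 fun h => by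
    rw [(residue_eq_zero_iff r).2 h, zero_pow hpp.out.ne_zero] at hr
    exact (v.isUnit.map (residue A)).ne_zero hr
  obtain ⟨s, hs⟩ := hrU.exists_right_inv
  let δ : A := (v : A) * s ^ p - 1
  obtain ⟨δ', hδ'⟩ : π ∣ δ := by
    rw [← Ideal.mem_span_singleton, ← hπ.maximalIdeal_eq, ← residue_eq_zero_iff, map_sub, map_mul, map_pow, map_one, hr,
      ← mul_pow, ← map_mul, hs, map_one, one_pow, sub_self]
  have hwK : algebraMap A K (1 - ζ) ≠ 0 := (map_ne_zero_iff _ (IsFractionRing.injective A K)).2 hw0
  have hwL : algebraMap A L (1 - ζ) ≠ 0 := by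
    rw [IsScalarTower.algebraMap_apply A K L]; exact (_root_.map_ne_zero _).2 hwK
  let z' : L := (y * algebraMap A L s - 1) / algebraMap A L (1 - ζ)
  let ξ' : K := algebraMap A K δ / algebraMap A K (1 - ζ) ^ p
  have hz' : aeval z' P = algebraMap K L ξ' := by
    refine mul_left_cancel₀ (pow_ne_zero p hwL) ?_
    rw [eval_P P hP]
    simp only [z', ξ']
    rw [mul_div_cancel₀ _ hwL, add_sub_cancel, mul_pow, hyp, map_div₀, map_pow, ← IsScalarTower.algebraMap_apply,
      ← IsScalarTower.algebraMap_apply, mul_div_cancel₀ _ (pow_ne_zero p hwL), ← map_pow, ← map_mul,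
      ← map_one (algebraMap A L), ← map_sub]
  have hgen' : IntermediateField.adjoin K {z'} = ⊤ := by
    refine top_le_iff.1 (hygen' ▸ IntermediateField.adjoin_le_iff.2 (Set.singleton_subset_iff.2 ?_))
    have h1 : y = (algebraMap A L (1 - ζ) * z' + 1) * algebraMap A L r := by
      simp only [z']
      rw [mul_div_cancel₀ _ hwL, sub_add_cancel, mul_assoc, ← map_mul, mul_comm s r, hs, map_one, mul_one]
    rw [SetLike.mem_coe, h1, IsScalarTower.algebraMap_apply A K L, IsScalarTower.algebraMap_apply A K L r]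
    exact mul_mem (add_mem (mul_mem (IntermediateField.algebraMap_mem _ _) (IntermediateField.mem_adjoin_simple_self K z'))
      (one_mem _)) (IntermediateField.algebraMap_mem _ _)
  obtain ⟨e, u, hu⟩ := IsDiscreteValuationRing.eq_unit_mul_pow_irreducible hw0 hπ
  have he : 0 < e := Nat.pos_of_ne_zero fun h => by
    rw [h, pow_zero, mul_one] at hu
    exact (mem_maximalIdeal _).1 hwm (hu ▸ u.isUnit)
  have hpe : 1 ≤ p * e := Nat.mul_pos hpp.out.pos he
  refine classify hζ P hP hπ (p * e - 1) ξ' z' hz' hgen' ?_ ⟨δ' * ((u⁻¹ : Aˣ) : A) ^ p, ?_⟩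
  · rw [Nat.sub_add_cancel hpe, hu, mul_pow, ← pow_mul, mul_comm e p]; exact dvd_mul_left _ _
  · refine mul_right_cancel₀ hπK ?_
    rw [mul_assoc, ← pow_succ, Nat.sub_add_cancel hpe]
    simp only [ξ']
    have h1 : algebraMap A K (u : A) * algebraMap A K ((u⁻¹ : Aˣ) : A) = 1 := by rw [← map_mul, Units.mul_inv, map_one]
    rw [hu, hδ', map_mul (algebraMap A K) (u : A), map_pow, mul_pow, ← pow_mul, mul_comm e p, map_mul, map_mul, map_pow]
    have hu' : algebraMap A K (u : A) ≠ 0 := left_ne_zero_of_mul_eq_one h1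
    have hP' : algebraMap A K π ^ (p * e) ≠ 0 := pow_ne_zero _ hπK
    rw [div_mul_eq_mul_div, div_eq_iff (mul_ne_zero (pow_ne_zero _ hu') hP')]
    have h2 := congrArg (· ^ p) h1
    simp only [mul_pow, one_pow] at h2
    linear_combination (-(algebraMap A K π * algebraMap A K δ' * algebraMap A K π ^ (p * e))) * h2

end

open Polynomial in
/-- Let A be a discrete valuation ring whose fraction field K has characteristic 0 and whose residue
field has characteristic p, and suppose A contains an element ζ with 1 + ζ + ... + ζ^(p-1) = 0 (a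
primitive p-th root of unity); set w = 1 - ζ and let P in A[t] be the polynomial with w^p·P(t) = (1
+ wt)^p - 1. Let ξ be an element of K and let L = K(z) be obtained by adjoining a root z of P(z) =
ξ. Then L/K is a Galois extension, and it falls under one of four cases: (1) L = K; (2) L/K has
degree p and is unramified with respect to A; (3) L/K has degree p and is totally ramified with
respect to A (ramification index p); (4) exactly one valuation ring of L dominates A (so B, the
integral closure of A in L, is itself a discrete valuation ring), the extension A → B is weakly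
unramified, and its residue field extension is purely inseparable of degree p. Moreover, with π a
uniformizer of A: (A) if ξ lies in A, case (1) or (2) holds; (B) if ξ = π⁻ⁿa with n > 0 prime to p
and a a unit of A, case (3) holds; (C) if ξ = π⁻ⁿa with n > 0 divisible by p and the residue class
of a not a p-th power, case (4) holds. -/
theorem result (p : ℕ) (hp : p.Prime) (A K L : Type u) [CommRing A] [IsDomain A]
    [IsDiscreteValuationRing A] [Field K] [Algebra A K] [IsFractionRing A K] [Field L] [Algebra K L] [Algebra A L]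
    [IsScalarTower A K L] [CharZero K] [CharP (IsLocalRing.ResidueField A) p] (ζ : A)
    (hζ : aeval ζ (cyclotomic p ℤ) = 0) (P : A[X]) (hP : C ((1 - ζ) ^ p) * P = (1 + C (1 - ζ) * X) ^ p - 1) (π : A) (hπ : IsLocalRing.maximalIdeal A = Ideal.span {π})
    (ξ : K) (z : L) (hz : aeval z P = algebraMap K L ξ) (hgen : IntermediateField.adjoin K {z} = ⊤) :
    let g : A →+* L := algebraMap A L
    let case1 : Prop := Module.finrank K L = 1
    let case2 : Prop := EtRam.IsUnramifiedExt A g ∧ Module.finrank K L = p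
    let case3 : Prop := EtRam.IsTotallyRamified A g ∧ Module.finrank K L = p
    let case4 : Prop := (∃ V : ValuationSubring L, EtRam.Dominates A g V) ∧
      (∀ V V' : ValuationSubring L, EtRam.Dominates A g V → EtRam.Dominates A g V' → V = V') ∧
      ∀ (V : ValuationSubring L) (h : EtRam.Dominates A g V),
        letI : Algebra A V := (RingHom.codRestrict g V h.1).toAlgebra
        ∀ [IsLocalHom (algebraMap A V)],
          EtRam.IsWeaklyUnramified A V ∧
            IsPurelyInseparable (IsLocalRing.ResidueField A) (IsLocalRing.ResidueField V) ∧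
            Module.finrank (IsLocalRing.ResidueField A) (IsLocalRing.ResidueField V) = p
    IsGalois K L ∧ (case1 ∨ case2 ∨ case3 ∨ case4) ∧
      ((∃ a : A, algebraMap A K a = ξ) → case1 ∨ case2) ∧
      (∀ (n : ℕ) (a : Aˣ), 0 < n → ¬ p ∣ n → ξ * algebraMap A K π ^ n = algebraMap A K a → case3) ∧
      (∀ (n : ℕ) (a : A), 0 < n → p ∣ n → (∀ r : A, IsLocalRing.residue A a ≠ IsLocalRing.residue A r ^ p) →
          ξ * algebraMap A K π ^ n = algebraMap A K a → case4) := by
  haveI : Fact p.Prime := ⟨hp⟩
  haveI : CharZero A := charZero_of_inj_zero fun n hn =>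
    Nat.cast_eq_zero.1 (show (n : K) = 0 by rw [← map_natCast (algebraMap A K), hn, map_zero])
  haveI : NeZero (p : A) := ⟨Nat.cast_ne_zero.2 hp.ne_zero⟩
  have hζ' : IsPrimitiveRoot ζ p := by
    rw [← isRoot_cyclotomic_iff, ← map_cyclotomic p (algebraMap ℤ A), IsRoot.def, eval_map, ← aeval_def]
    exact hζ
  have hπ' : Irreducible π := (IsDiscreteValuationRing.irreducible_iff_uniformizer π).2 hπ
  obtain ⟨-, hw0, -⟩ := w_facts hζ'
  obtain ⟨-, -, hgal, -⟩ := kummer (A := A) hζ' (y_pow P hP hz) (y_gen (A := A) hgen hw0)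
  refine ⟨hgal, classify_all hζ' P hP hπ' hz hgen, ?_, ?_, ?_⟩
  · rintro ⟨a, ha⟩; exact caseA hζ' P hP hπ' hz hgen ha
  · exact fun n a hn hpn h => caseB hζ' P hP hπ' hz hgen n a hn hpn h
  · exact fun n a hn hpn ha h => caseC hζ' P hP hπ' hz hgen n a hn hpn ha h

end Groth.Agent.S7159
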