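import Groth.Statements.S7160
import Groth.Agent.H25.HomLinear
-- import your own Groth.Agent.* helpers here

set_option autoImplicit false
universe u
open CategoryTheory CategoryTheory.Pretriangulated
attribute [local instance] HasDerivedCategory.standard
open CAlg

namespace Groth.Agent.S7160

/-- Let R be a ring, f an element of R, M an object of D(R) and C the cone of f : M → M. Suppose that
H^i(M)_f = 0 whenever i < 0 (every element of H^i(M) is killed by a power of f) and that H^i(C) = 0
whenever i < -1. Then H^i(M) vanishes for every i < 0. -/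
theorem result (R : Type u) [CommRing R] (f : R) (M C : Dual.D R)
    (g : M ⟶ C) (h : C ⟶ M⟦(1 : ℤ)⟧) (hT : Triangle.mk (f • 𝟙 M) g h ∈ distinguishedTriangles)
    (hloc : ∀ i : ℤ, i < 0 → ∀ x : Dual.HD R M i, ∃ n : ℕ, f ^ n • x = 0)
    (hC : ∀ i : ℤ, i < -1 → Subsingleton (Dual.HD R C i)) :
    ∀ i : ℤ, i < 0 → Subsingleton (Dual.HD R M i) := by
  intro i hi
  have hδ : DerivedCategory.HomologySequence.δ (Triangle.mk (f • 𝟙 M) g h) (i - 1) i (by omega) = 0 := by
    have hs : Subsingleton (Dual.HD R C (i - 1)) := hC (i - 1) (by omega)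
    exact (@ModuleCat.isZero_of_subsingleton R _
      ((DerivedCategory.homologyFunctor (ModuleCat.{u} R) (i - 1)).obj C) hs).eq_of_src _ _
  have hmono : Mono ((DerivedCategory.homologyFunctor (ModuleCat.{u} R) i).map (f • 𝟙 M)) :=
    (DerivedCategory.HomologySequence.mono_homologyMap_mor₁_iff
      (Triangle.mk (f • 𝟙 M) g h) hT (i - 1) i (by omega)).2 hδ
  rw [H25.HomLinear.map_smul_id R i f M, ModuleCat.mono_iff_injective] at hmono
  have hinj : ∀ x : Dual.HD R M i, f • x = 0 → x = 0 := fun x hx =>
    hmono (show f • x = f • (0 : Dual.HD R M i) by rw [hx, smul_zero])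
  have hzero : ∀ x : Dual.HD R M i, x = 0 := by
    intro x
    obtain ⟨n, hn⟩ := hloc i hi x
    induction n with
    | zero => simpa using hn
    | succ n ih => exact ih (hinj _ (by rw [smul_smul, ← pow_succ', hn]))
  exact ⟨fun a b => by rw [hzero a, hzero b]⟩

end Groth.Agent.S7160
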