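import Groth.Statements.S7163
import Mathlib.LinearAlgebra.Matrix.ToLinearEquiv
-- import your own Groth.Agent.* helpers here

set_option autoImplicit false
universe u
open CAlg

namespace Groth.Agent.S7163

section
variable {R : Type u} [CommRing R] {M : Type u} [AddCommGroup M] [Module R M]

/-- elements killed by all linear forms modulo `x` -/
def nul (M : Type u) [AddCommGroup M] [Module R M] (x : MaximalSpectrum R) : Submodule R M :=
  ⨅ φ : M →ₗ[R] R, Submodule.comap φ x.asIdeal

theorem mem_nul {x : MaximalSpectrum R} {m : M} : m ∈ nul M x ↔ ∀ φ : M →ₗ[R] R, φ m ∈ x.asIdeal := by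
  simp [nul]

theorem smul_top_le_nul (x : MaximalSpectrum R) : (x.asIdeal • ⊤ : Submodule R M) ≤ nul M x := by
  refine _root_.Submodule.smul_le.2 fun r hr m _ => mem_nul.2 fun φ => ?_
  rw [map_smul, smul_eq_mul]
  exact x.asIdeal.mul_mem_right _ hr

/-- independence in `V(x)` -/
def Ind (x : MaximalSpectrum R) {n : ℕ} (s : Fin n → M) : Prop :=
  ∀ c : Fin n → R, ∑ i, c i • s i ∈ nul M x → ∀ i, c i ∈ x.asIdeal

theorem ind_snoc_iff {x : MaximalSpectrum R} {n : ℕ} {s : Fin n → M} {m : M} :
    Ind x (Fin.snoc (α := fun _ => M) s m) ↔ ∀ (c : Fin n → R) (d : R), ∑ i, c i • s i + d • m ∈ nul M x →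
      (∀ i, c i ∈ x.asIdeal) ∧ d ∈ x.asIdeal := by
  constructor
  · intro h c d hcd
    have := h (Fin.snoc (α := fun _ => R) c d) (by simpa [Fin.sum_univ_castSucc] using hcd)
    exact ⟨fun i => by simpa using this i.castSucc, by simpa using this (Fin.last n)⟩
  · intro h c hc
    rw [Fin.sum_univ_castSucc] at hc
    simp only [Fin.snoc_castSucc, Fin.snoc_last] at hc
    obtain ⟨h1, h2⟩ := h _ _ hc
    exact Fin.forall_fin_succ'.2 ⟨h1, h2⟩

theorem ind_snoc_congr {x : MaximalSpectrum R} {n : ℕ} {s : Fin n → M} {m m' : M}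
    (h : m' - m ∈ (x.asIdeal • ⊤ : Submodule R M)) (hi : Ind x (Fin.snoc (α := fun _ => M) s m)) :
    Ind x (Fin.snoc (α := fun _ => M) s m') := by
  rw [ind_snoc_iff] at hi ⊢
  intro c d hcd
  refine hi c d ?_
  have h2 := (nul M x).sub_mem hcd ((nul M x).smul_mem d (smul_top_le_nul x h))
  have e : ∑ i, c i • s i + d • m' - d • (m' - m) = ∑ i, c i • s i + d • m := by
    rw [smul_sub]; abel
  rwa [e] at h2

theorem ind_snoc_add_smul {x : MaximalSpectrum R} {n : ℕ} {s : Fin n → M} {t t' : M} (a : R)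
    (hi : Ind x (Fin.snoc (α := fun _ => M) (Fin.snoc (α := fun _ => M) s t) t')) :
    Ind x (Fin.snoc (α := fun _ => M) s (t + a • t')) := by
  rw [ind_snoc_iff] at hi ⊢
  intro c d hcd
  have := (hi (Fin.snoc (α := fun _ => R) c d) (d * a) (by
    simpa [Fin.sum_univ_castSucc, smul_add, mul_smul, add_assoc] using hcd)).1
  exact ⟨fun i => by simpa using this i.castSucc, by simpa using this (Fin.last n)⟩

theorem isOpen_ind {n : ℕ} (s : Fin n → M) : IsOpen {x : MaximalSpectrum R | Ind x s} := by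
  classical
  have key : ∀ x : MaximalSpectrum R, Ind x s ↔
      ∃ φ : Fin n → (M →ₗ[R] R), (Matrix.of fun i j => φ i (s j)).det ∉ x.asIdeal := by
    intro x
    letI := _root_.Ideal.Quotient.field x.asIdeal
    let T : (M →ₗ[R] R) →ₗ[R] (Fin n → R ⧸ x.asIdeal) :=
      { toFun := fun φ j => Ideal.Quotient.mk x.asIdeal (φ (s j))
        map_add' := fun a b => by ext j; simp
        map_smul' := fun r a => by ext j; simp [Algebra.smul_def] }
    constructor
    · intro hi
      let W : Submodule (R ⧸ x.asIdeal) (Fin n → R ⧸ x.asIdeal) :=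
        Submodule.span (R ⧸ x.asIdeal) (Set.range T)
      have hsurj : Function.Surjective (algebraMap R (R ⧸ x.asIdeal)) :=
        _root_.Ideal.Quotient.mk_surjective
      have hW : W = ⊤ := by
        by_contra hne
        obtain ⟨f, hf, hker⟩ := _root_.Submodule.exists_le_ker_of_lt_top W (lt_top_iff_ne_top.2 hne)
        apply hf
        choose c hc using fun j => hsurj (f (Pi.single j 1))
        have hmem : ∑ j, c j • s j ∈ nul M x := by
          refine mem_nul.2 fun φ => ?_
          have h0 : f (T φ) = 0 := hker (Submodule.subset_span ⟨φ, rfl⟩)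
          have e : f (T φ) = ∑ j, T φ j * f (Pi.single j 1) := by
            conv_lhs => rw [pi_eq_sum_univ' (T φ)]
            simp
          rw [← Ideal.Quotient.eq_zero_iff_mem, map_sum φ, map_sum]
          rw [← h0, e]
          refine Finset.sum_congr rfl fun j _ => ?_
          simp only [map_smul, smul_eq_mul, map_mul, ← hc]
          exact mul_comm _ _
        refine LinearMap.pi_ext' fun j => LinearMap.ext_ring ?_
        simp [← hc, Ideal.Quotient.eq_zero_iff_mem.2 (hi c hmem j)]
      have hT : LinearMap.range T = ⊤ := by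
        have h1 : W.restrictScalars R = Submodule.span R (Set.range T) :=
          _root_.Submodule.restrictScalars_span R _ hsurj _
        rw [hW, _root_.Submodule.restrictScalars_top] at h1
        rw [h1, ← LinearMap.coe_range, _root_.Submodule.span_eq]
      choose φ hφ using fun i => (LinearMap.range_eq_top.1 hT) (Pi.single i 1)
      refine ⟨φ, fun hd => one_ne_zero (α := R ⧸ x.asIdeal) ?_⟩
      rw [← Ideal.Quotient.eq_zero_iff_mem, RingHom.map_det] at hd
      rw [← hd]
      have : (Ideal.Quotient.mk x.asIdeal).mapMatrix (Matrix.of fun i j => φ i (s j)) = 1 := by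
        ext i j
        change T (φ i) j = _
        rw [hφ, Matrix.one_apply, Pi.single_apply]
        by_cases h : i = j <;> simp [h, eq_comm]
      rw [this, Matrix.det_one]
    · rintro ⟨φ, hd⟩ c hc i
      have hv : ((Ideal.Quotient.mk x.asIdeal).mapMatrix (Matrix.of fun i j => φ i (s j))).mulVec
          (fun j => Ideal.Quotient.mk x.asIdeal (c j)) = 0 := by
        ext i
        have := mem_nul.1 hc (φ i)
        rw [← Ideal.Quotient.eq_zero_iff_mem, map_sum, map_sum] at this
        rw [Pi.zero_apply, ← this]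
        simp [Matrix.mulVec, dotProduct, mul_comm]
      rw [← Ideal.Quotient.eq_zero_iff_mem, RingHom.map_det] at hd
      refine Ideal.Quotient.eq_zero_iff_mem.1 ?_
      by_contra hne
      exact hd (Matrix.exists_mulVec_eq_zero_iff.1 ⟨_, fun h0 => hne (congrFun h0 i), hv⟩)
  have e : {x : MaximalSpectrum R | Ind x s} = ⋃ φ : Fin n → (M →ₗ[R] R),
      MaximalSpectrum.toPrimeSpectrum ⁻¹'
        (PrimeSpectrum.basicOpen (Matrix.of fun i j => φ i (s j)).det : Set (PrimeSpectrum R)) := by
    ext x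
    simp only [Set.mem_ofPred_eq, Set.mem_iUnion, Set.mem_preimage]
    exact key x
  rw [e]
  exact isOpen_iUnion fun φ =>
    (PrimeSpectrum.basicOpen _).isOpen.preimage MaximalSpectrum.toPrimeSpectrum_continuous

theorem interpolate (S : Finset (MaximalSpectrum R)) (w : MaximalSpectrum R → M) :
    ∃ t : M, ∀ x ∈ S, t - w x ∈ (x.asIdeal • ⊤ : Submodule R M) := by
  classical
  have hcop : Pairwise fun a b : S => IsCoprime a.1.asIdeal b.1.asIdeal := fun a b hab =>
    Ideal.isCoprime_iff_sup_eq.2 (a.1.isMaximal.coprime_of_ne b.1.isMaximal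
      fun e => hab (Subtype.ext (MaximalSpectrum.ext e)))
  choose g hg using fun a : S => Ideal.exists_forall_sub_mem_ideal hcop
    (fun b : S => if b = a then (1 : R) else 0)
  refine ⟨∑ a : S, g a • w a, fun x hx => ?_⟩
  have hsum : ∑ a : S, (if (⟨x, hx⟩ : S) = a then (1 : R) else 0) • w a = w x := by simp
  rw [← hsum, ← Finset.sum_sub_distrib]
  refine _root_.Submodule.sum_mem _ fun a _ => ?_
  rw [← sub_smul]
  exact Submodule.smul_mem_smul (hg a ⟨x, hx⟩) Submodule.mem_top

/-- splitting a closed set: finitely many irreducible pieces not inside `F` -/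
theorem pieces [TopologicalSpace.NoetherianSpace (MaximalSpectrum R)] {G : Set (MaximalSpectrum R)}
    (hG : IsClosed G) (F : Set (MaximalSpectrum R)) :
    ∃ (P : Finset (TopologicalSpace.IrreducibleCloseds (MaximalSpectrum R))),
      (∀ C ∈ P, (C : Set (MaximalSpectrum R)) ⊆ G ∧ ¬ (C : Set (MaximalSpectrum R)) ⊆ F) ∧
      ∀ x ∈ G, x ∈ F ∨ ∃ C ∈ P, x ∈ (C : Set (MaximalSpectrum R)) := by
  classical
  obtain ⟨S, hSf, hSc, hSi, rfl⟩ :=
    TopologicalSpace.NoetherianSpace.exists_finite_set_isClosed_irreducible hG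
  have : Finite {t : S // ¬ t.1 ⊆ F} := by
    haveI : Finite S := hSf
    infer_instance
  haveI := Fintype.ofFinite {t : S // ¬ t.1 ⊆ F}
  refine ⟨Finset.univ.image fun t : {t : S // ¬ t.1 ⊆ F} =>
    ⟨t.1.1, hSi _ t.1.2, hSc _ t.1.2⟩, ?_, ?_⟩
  · intro C hC
    obtain ⟨t, -, rfl⟩ := Finset.mem_image.1 hC
    exact ⟨Set.subset_sUnion_of_mem t.1.2, t.2⟩
  · rintro x ⟨t, ht, hxt⟩
    by_cases htF : t ⊆ F
    · exact Or.inl (htF hxt)
    · exact Or.inr ⟨_, Finset.mem_image_of_mem _ (Finset.mem_univ ⟨⟨t, ht⟩, htF⟩), hxt⟩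

theorem piece_of_subset {Z : TopologicalSpace.IrreducibleCloseds (MaximalSpectrum R)}
    {F : Set (MaximalSpectrum R)} (hF : IsClosed F) (hZF : ¬ (Z : Set (MaximalSpectrum R)) ⊆ F)
    {P : Finset (TopologicalSpace.IrreducibleCloseds (MaximalSpectrum R))}
    (hZ : ∀ x ∈ (Z : Set (MaximalSpectrum R)), x ∈ F ∨ ∃ C ∈ P, x ∈ (C : Set (MaximalSpectrum R))) :
    ∃ C ∈ P, Z ≤ C := by
  classical
  obtain ⟨t, ht, h⟩ := isIrreducible_iff_sUnion_isClosed.1 Z.isIrreducible
    (insert F (P.image fun C : TopologicalSpace.IrreducibleCloseds (MaximalSpectrum R) =>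
      (C : Set (MaximalSpectrum R))))
    (by
      intro t ht
      rcases Finset.mem_insert.1 ht with rfl | ht
      · exact hF
      obtain ⟨C, -, rfl⟩ := Finset.mem_image.1 ht
      exact C.isClosed)
    (by
      intro x hx
      rcases hZ x hx with hxF | ⟨C, hC, hxC⟩
      · exact ⟨F, Finset.mem_coe.2 (Finset.mem_insert_self _ _), hxF⟩
      · exact ⟨C, Finset.mem_coe.2 (Finset.mem_insert_of_mem (Finset.mem_image_of_mem _ hC)), hxC⟩)
  rcases Finset.mem_insert.1 ht with rfl | ht
  · exact absurd h hZF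
  obtain ⟨C, hC, rfl⟩ := Finset.mem_image.1 ht
  exact ⟨C, hC, h⟩

theorem avoid [TopologicalSpace.NoetherianSpace (MaximalSpectrum R)] : ∀ (k h : ℕ) (s : Fin h → M)
    (F : Set (MaximalSpectrum R)), IsClosed F →
    (∀ (x : MaximalSpectrum R) (n : ℕ) (u : Fin n → M), n < h + k → Ind x u →
      ∃ m, Ind x (Fin.snoc (α := fun _ => M) u m)) →
    (∀ x, ¬ Ind x s → x ∈ F) →
    ∀ (S : Finset (MaximalSpectrum R)), (∀ x ∈ S, x ∈ F) → ∀ w : MaximalSpectrum R → M,
    ∃ (t : M) (F' : Set (MaximalSpectrum R)), IsClosed F' ∧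
      (∀ x ∈ S, t - w x ∈ (x.asIdeal • ⊤ : Submodule R M)) ∧
      (∀ x, ¬ Ind x (Fin.snoc (α := fun _ => M) s t) → x ∈ F ∪ F') ∧
      ∀ Z : TopologicalSpace.IrreducibleCloseds (MaximalSpectrum R),
        (Z : Set (MaximalSpectrum R)) ⊆ F' → (k : ℕ∞) ≤ Order.coheight Z := by
  intro k
  induction k with
  | zero =>
    intro h s F _ _ _ S _ w
    obtain ⟨t, ht⟩ := interpolate S w
    exact ⟨t, Set.univ, isClosed_univ, ht, fun x _ => Or.inr trivial, fun Z _ => by simp⟩
  | succ k ih =>
    intro h s F hF hdim hs S hS w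
    classical
    obtain ⟨t, F', hF', htS, hZt, hk'⟩ :=
      ih h s F hF (fun x n u hn => hdim x n u (by omega)) hs S hS w
    obtain ⟨P, hP, hPcov⟩ := pieces hF' F
    choose y hyC hyF using fun C hC => Set.not_subset.1 (hP C hC).2
    set Y := P.attach.image fun C => y C.1 C.2 with hY
    have hYF : ∀ q ∈ Y, q ∈ F' ∧ q ∉ F := by
      intro q hq
      obtain ⟨⟨C, hC⟩, -, rfl⟩ := Finset.mem_image.1 hq
      exact ⟨(hP C hC).1 (hyC C hC), hyF C hC⟩
    have hext : ∀ q : MaximalSpectrum R, q ∈ Y → ∃ m, Ind q (Fin.snoc (α := fun _ => M) s m) :=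
      fun q hq => hdim q h s (by omega) (not_not.1 fun hh => (hYF q hq).2 (hs q hh))
    choose mq hmq using hext
    obtain ⟨t', F'', hF'', ht'Y, hZt', hk''⟩ := ih (h + 1) (Fin.snoc (α := fun _ => M) s t) (F ∪ F')
      (hF.union hF') (fun x n u hn => hdim x n u (by omega)) hZt Y
      (fun q hq => Or.inr (hYF q hq).1) (fun q => if hq : q ∈ Y then mq q hq - t else 0)
    obtain ⟨P', hP', hP'cov⟩ := pieces hF'' (F ∪ F')
    choose z hzC hzF using fun C hC => Set.not_subset.1 (hP' C hC).2
    set Zs := P'.attach.image fun C => z C.1 C.2 with hZs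
    obtain ⟨a, ha⟩ := interpolate (M := R) (S ∪ Y ∪ Zs) (fun q => if q ∈ Y then 1 else 0)
    simp only [smul_eq_mul, Ideal.mul_top] at ha
    set u := t + a • t' with hu
    have huY : ∀ q ∈ Y, Ind q (Fin.snoc (α := fun _ => M) s u) := by
      intro q hq
      refine ind_snoc_congr ?_ (hmq q hq)
      have h1 : a - 1 ∈ q.asIdeal := by
        have := ha q (by simp [hq]); rwa [if_pos hq] at this
      have e : u - mq q hq = (a - 1) • t' + (t' - (mq q hq - t)) := by
        rw [hu, sub_smul, one_smul]; abel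
      rw [e]
      have h2 := ht'Y q hq
      rw [dif_pos hq] at h2
      exact add_mem (Submodule.smul_mem_smul h1 Submodule.mem_top) h2
    have hua : ∀ q ∈ S ∪ Y ∪ Zs, q ∉ Y → u - t ∈ (q.asIdeal • ⊤ : Submodule R M) := by
      intro q hq hqY
      have h1 := ha q hq
      rw [if_neg hqY, sub_zero] at h1
      rw [hu, add_sub_cancel_left]
      exact Submodule.smul_mem_smul h1 Submodule.mem_top
    have hSY : ∀ q ∈ S, q ∉ Y := fun q hq hqY => (hYF q hqY).2 (hS q hq)
    have hG : IsClosed ({x : MaximalSpectrum R | Ind x (Fin.snoc (α := fun _ => M) s u)}ᶜ ∩ (F' ∪ F'')) :=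
      (isOpen_ind _).isClosed_compl.inter (hF'.union hF'')
    obtain ⟨Q, hQ, hQcov⟩ := pieces hG F
    refine ⟨u, ⋃ C ∈ Q, (C : Set (MaximalSpectrum R)),
      isClosed_biUnion_finset fun C _ => C.isClosed, ?_, ?_, ?_⟩
    · intro q hq
      have h1 := add_mem (hua q (by simp [hq]) (hSY q hq)) (htS q hq)
      rwa [sub_add_sub_cancel] at h1
    · intro x hx
      by_cases hxF : x ∈ F
      · exact Or.inl hxF
      have hxF' : x ∈ F' ∪ F'' := by
        by_contra hcon
        rw [Set.mem_union] at hcon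
        refine hx (ind_snoc_add_smul a (not_not.1 fun hh => ?_))
        rcases hZt' x hh with (h1 | h1) | h1
        exacts [hxF h1, hcon (Or.inl h1), hcon (Or.inr h1)]
      rcases hQcov x ⟨hx, hxF'⟩ with h1 | ⟨C, hC, hxC⟩
      · exact absurd h1 hxF
      · exact Or.inr (Set.mem_biUnion hC hxC)
    · intro Z hZ
      obtain ⟨C, hC, hZC⟩ := piece_of_subset (Z := Z) (P := Q) (F := ∅) isClosed_empty
        (fun h0 => Set.nonempty_iff_ne_empty.1 Z.isIrreducible.1 (Set.subset_empty_iff.1 h0))
        fun x hx => Or.inr (by simpa only [Set.mem_iUnion, exists_prop] using hZ hx)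
      refine le_trans ?_ (Order.coheight_anti hZC)
      obtain ⟨hCG, hCF⟩ := hQ C hC
      suffices hD : ∃ D, C < D ∧ (k : ℕ∞) ≤ Order.coheight D by
        obtain ⟨D, hlt, hk⟩ := hD
        push_cast
        exact le_trans (add_le_add hk le_rfl) (Order.coheight_add_one_le hlt)
      by_cases hC' : (C : Set (MaximalSpectrum R)) ⊆ F'
      · obtain ⟨D, hD, hCD⟩ := piece_of_subset hF hCF (P := P) fun x hx => hPcov x (hC' hx)
        refine ⟨D, lt_of_le_of_ne hCD ?_, hk' D (hP D hD).1⟩
        rintro rfl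
        exact (hCG (hyC C hD)).1
          (huY _ (Finset.mem_image_of_mem _ (Finset.mem_attach _ ⟨C, hD⟩)))
      · have hC'' : (C : Set (MaximalSpectrum R)) ⊆ F'' :=
          ((isPreirreducible_iff_isClosed_union_isClosed.1 C.isIrreducible.2) F' F'' hF' hF''
            fun x hx => (hCG hx).2).resolve_left hC'
        have hCFF' : ¬ (C : Set (MaximalSpectrum R)) ⊆ F ∪ F' := fun h0 =>
          ((isPreirreducible_iff_isClosed_union_isClosed.1 C.isIrreducible.2) F F' hF hF' h0).elim
            hCF hC'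
        obtain ⟨D, hD, hCD⟩ := piece_of_subset (hF.union hF') hCFF' (P := P')
          fun x hx => hP'cov x (hC'' hx)
        refine ⟨D, lt_of_le_of_ne hCD ?_, hk'' D (hP' D hD).1⟩
        rintro rfl
        have hzm : z C hD ∈ S ∪ Y ∪ Zs := Finset.mem_union_right _
          (Finset.mem_image_of_mem _ (Finset.mem_attach _ ⟨C, hD⟩))
        have hzY : z C hD ∉ Y := fun hh => hzF C hD (Or.inr (hYF _ hh).1)
        exact (hCG (hzC C hD)).1 (ind_snoc_congr (hua _ hzm hzY)
          (not_not.1 fun hh => hzF C hD (hZt _ hh)))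

end

/-- Let R be a ring whose set Ω of closed points of Spec R is a Noetherian topological space and M a
finitely presented R-module; for x in Ω write M(x) = M/xM, B(x) for the classes of elements m with
φ(m) in x for every linear form φ, and V(x) = M(x)/B(x). Let s_1, ..., s_h be elements of M, F ⊆ Ω a
closed subset containing the set Z(s_1, ..., s_h) of points where the images of the s_i in V(x) are
linearly dependent, x_1, ..., x_n pairwise distinct points of F, v_i elements of M(x_i), and k ≥ 0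
an integer with h + k ≤ dim V(x) for all x in Ω. Then there are s in M and a closed F' ⊆ Ω such that
(a) s(x_i) and v_i have the same image in V(x_i), (b) Z(s_1, ..., s_h, s) ⊆ F ∪ F', and (c) each
irreducible component of F′ is of codimension at least k in Ω (equivalently, so is each irreducible
closed subset of Ω lying in F′). -/
theorem result (R : Type u) [CommRing R] [TopologicalSpace.NoetherianSpace (MaximalSpectrum R)]
    (M : Type u) [AddCommGroup M] [Module R M] [Module.FinitePresentation R M]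
    (h : ℕ) (s : Fin h → M) (F : Set (MaximalSpectrum R)) (hF : IsClosed F)
    (n : ℕ) (xs : Fin n → MaximalSpectrum R) (hxs : Function.Injective xs) (hxF : ∀ i, xs i ∈ F)
    (v : ∀ i : Fin n, M ⧸ ((xs i).asIdeal • ⊤ : Submodule R M)) (k : ℕ) :
    let Bq : ∀ x : MaximalSpectrum R, Submodule (R ⧸ x.asIdeal) (M ⧸ (x.asIdeal • ⊤ : Submodule R M)) :=
      fun x => Submodule.span (R ⧸ x.asIdeal)
        ((x.asIdeal • ⊤ : Submodule R M).mkQ '' {m : M | ∀ φ : M →ₗ[R] R, φ m ∈ x.asIdeal})
    let img : ∀ x : MaximalSpectrum R, M → (M ⧸ (x.asIdeal • ⊤ : Submodule R M)) ⧸ Bq x :=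
      fun x m => (Bq x).mkQ ((x.asIdeal • ⊤ : Submodule R M).mkQ m)
    (∀ x : MaximalSpectrum R, h + k ≤ Module.finrank (R ⧸ x.asIdeal) ((M ⧸ (x.asIdeal • ⊤ : Submodule R M)) ⧸ Bq x)) →
    (∀ x : MaximalSpectrum R, ¬ LinearIndependent (R ⧸ x.asIdeal) (fun i => img x (s i)) → x ∈ F) →
    ∃ (t : M) (F' : Set (MaximalSpectrum R)), IsClosed F' ∧
      (∀ i : Fin n, img (xs i) t = (Bq (xs i)).mkQ (v i)) ∧
      (∀ x : MaximalSpectrum R,
        ¬ LinearIndependent (R ⧸ x.asIdeal) (Fin.snoc (fun i => img x (s i)) (img x t)) → x ∈ F ∪ F') ∧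
      ∀ Z : TopologicalSpace.IrreducibleCloseds (MaximalSpectrum R), (Z : Set (MaximalSpectrum R)) ⊆ F' →
        (k : ℕ∞) ≤ Order.coheight Z := by
  intro Bq img hdim hs
  classical
  have hmem : ∀ (x : MaximalSpectrum R) (m : M), img x m = 0 ↔ m ∈ nul M x := by
    intro x m
    have hsurj : Function.Surjective (algebraMap R (R ⧸ x.asIdeal)) :=
      _root_.Ideal.Quotient.mk_surjective
    have hB : (Bq x).restrictScalars R = (nul M x).map (x.asIdeal • ⊤ : Submodule R M).mkQ := by
      have e : {m : M | ∀ φ : M →ₗ[R] R, φ m ∈ x.asIdeal} = (nul M x : Set M) :=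
        Set.ext fun m => mem_nul.symm
      change (Submodule.span _ _).restrictScalars R = _
      rw [_root_.Submodule.restrictScalars_span R _ hsurj, e, ← _root_.Submodule.map_coe,
        _root_.Submodule.span_eq]
    change (Bq x).mkQ _ = 0 ↔ _
    rw [Submodule.mkQ_apply, _root_.Submodule.Quotient.mk_eq_zero,
      ← _root_.Submodule.restrictScalars_mem R, hB, ← _root_.Submodule.mem_comap,
      _root_.Submodule.comap_map_mkQ, sup_eq_right.2 (smul_top_le_nul x)]
  have hlin : ∀ (x : MaximalSpectrum R) (m : ℕ) (c : Fin m → R) (u : Fin m → M),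
      img x (∑ i, c i • u i) = ∑ i, (Ideal.Quotient.mk x.asIdeal (c i)) • img x (u i) := by
    intro x m c u
    change (Bq x).mkQ ((x.asIdeal • ⊤ : Submodule R M).mkQ _) = _
    rw [map_sum, map_sum]
    refine Finset.sum_congr rfl fun i _ => ?_
    rw [map_smul]
    rw [show (c i • (x.asIdeal • ⊤ : Submodule R M).mkQ (u i)) =
      Ideal.Quotient.mk x.asIdeal (c i) • (x.asIdeal • ⊤ : Submodule R M).mkQ (u i) from rfl]
    exact (Bq x).mkQ.map_smul (Ideal.Quotient.mk x.asIdeal (c i)) _
  have hbr : ∀ (x : MaximalSpectrum R) (m : ℕ) (u : Fin m → M),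
      LinearIndependent (R ⧸ x.asIdeal) (fun i => img x (u i)) ↔ Ind x u := by
    intro x m u
    rw [Fintype.linearIndependent_iff]
    refine ⟨fun H c hc i => ?_, fun H g hg i => ?_⟩
    · rw [← hmem, hlin] at hc
      exact Ideal.Quotient.eq_zero_iff_mem.1 (H _ hc i)
    · choose c hc using fun i => Ideal.Quotient.mk_surjective (g i)
      have h0 : ∑ i, c i • u i ∈ nul M x := by
        rw [← hmem, hlin]; simpa only [hc] using hg
      rw [← hc, Ideal.Quotient.eq_zero_iff_mem]
      exact H c h0 i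
  have hdim' : ∀ (x : MaximalSpectrum R) (m : ℕ) (u : Fin m → M), m < h + k → Ind x u →
      ∃ z, Ind x (Fin.snoc (α := fun _ => M) u z) := by
    intro x m u hm hu
    letI := _root_.Ideal.Quotient.field x.asIdeal
    obtain ⟨w, hw⟩ := exists_linearIndependent_snoc_of_lt_finrank ((hbr x m u).2 hu)
      (lt_of_lt_of_le hm (hdim x))
    obtain ⟨w', rfl⟩ := (Bq x).mkQ_surjective w
    obtain ⟨z, rfl⟩ := (x.asIdeal • ⊤ : Submodule R M).mkQ_surjective w'
    refine ⟨z, (hbr x _ _).1 ?_⟩
    have e : (fun i => img x (Fin.snoc (α := fun _ => M) u z i)) =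
        Fin.snoc (fun i => img x (u i)) (img x z) := Fin.comp_snoc (img x) u z
    rw [e]
    exact hw
  choose lift hlift using fun i => (((xs i).asIdeal • ⊤ : Submodule R M)).mkQ_surjective (v i)
  obtain ⟨t, F', hF', ht, hZ, hk⟩ := avoid k h s F hF hdim'
    (fun x hx => hs x fun hh => hx ((hbr x h s).1 hh))
    (Finset.univ.image xs) (fun x hx => by
      obtain ⟨i, -, rfl⟩ := Finset.mem_image.1 hx
      exact hxF i)
    (fun x => if hx : ∃ i, xs i = x then lift hx.choose else 0)
  refine ⟨t, F', hF', fun i => ?_, fun x hx => hZ x fun hh => hx ?_, hk⟩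
  · have hex : ∃ j, xs j = xs i := ⟨i, rfl⟩
    have h1 := ht (xs i) (Finset.mem_image_of_mem _ (Finset.mem_univ i))
    rw [dif_pos hex, hxs hex.choose_spec] at h1
    change (Bq (xs i)).mkQ _ = _
    rw [← hlift i]
    exact congrArg _ ((_root_.Submodule.Quotient.eq _).2 h1)
  · have h2 := (hbr x _ _).2 hh
    rwa [show (fun i => img x (Fin.snoc (α := fun _ => M) s t i)) =
      Fin.snoc (fun i => img x (s i)) (img x t) from Fin.comp_snoc (img x) s t] at h2

end Groth.Agent.S7163
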