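import Groth.Statements.S7164
import Groth.Agent.H25.ExtCocycle
import Mathlib.Algebra.Homology.DerivedCategory.SingleTriangle
import Mathlib.Algebra.Category.ModuleCat.Biproducts
-- import your own Groth.Agent.* helpers here

set_option autoImplicit false
universe u
open CategoryTheory
attribute [local instance] HasDerivedCategory.standard
open CAlg

namespace Groth.Agent.S7164

open CategoryTheory CategoryTheory.Limits CategoryTheory.Pretriangulated

theorem exists_of_comp_eq_zero (A : Type u) [CommRing A] (M : Type u) [AddCommGroup M] [Module A M]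
    (Mq : Submodule A M) (K : Dual.D A) (i : ℤ) (e : K ⟶ (Dual.inD A M)⟦i⟧)
    (he : e ≫ ((DerivedCategory.singleFunctor (ModuleCat.{u} A) 0).map (ModuleCat.ofHom Mq.mkQ))⟦i⟧' = 0) :
    ∃ e' : K ⟶ (Dual.inD A Mq)⟦i⟧,
      e = e' ≫ ((DerivedCategory.singleFunctor (ModuleCat.{u} A) 0).map (ModuleCat.ofHom Mq.subtype))⟦i⟧' := by
  let S : ShortComplex (ModuleCat.{u} A) :=
    ShortComplex.mk (ModuleCat.ofHom Mq.subtype) (ModuleCat.ofHom Mq.mkQ)
      (ModuleCat.hom_ext (LinearMap.ext fun x => (Submodule.Quotient.mk_eq_zero Mq).2 x.2))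
  have hS : S.ShortExact :=
    { exact := (S.moduleCat_exact_iff_ker_sub_range).2 (fun x hx =>
        ⟨⟨x, (Submodule.Quotient.mk_eq_zero Mq).1 hx⟩, rfl⟩)
      mono_f := (ModuleCat.mono_iff_injective _).2 Mq.subtype_injective
      epi_g := (ModuleCat.epi_iff_surjective _).2 Mq.mkQ_surjective }
  obtain ⟨e', he'⟩ := Triangle.coyoneda_exact₂ _
    (Triangle.shift_distinguished _ hS.singleTriangle_distinguished i) e (by
      show e ≫ (i.negOnePow • ((DerivedCategory.singleFunctor (ModuleCat.{u} A) 0).map S.g)⟦i⟧') = 0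
      simp only [Units.smul_def]
      rw [Preadditive.comp_zsmul, he, smul_zero])
  refine ⟨(i.negOnePow : ℤ) • e', he'.trans ?_⟩
  show e' ≫ (i.negOnePow • ((DerivedCategory.singleFunctor (ModuleCat.{u} A) 0).map S.f)⟦i⟧') = _
  simp only [Units.smul_def]
  exact (Preadditive.comp_zsmul _ _ _).trans (Preadditive.zsmul_comp _ _ _).symm

/-- Let A be a Noetherian ring, I an ideal, K a pseudo-coherent object of D(A) and a an integer. Assume
that for every finite A-module M and every i ≥ a the module Ext^i_A(K, M) is I-power torsion. Then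
for i ≥ a and M finite the inverse system (Ext^i_A(K, M/IⁿM))_n is essentially constant with value
Ext^i_A(K, M) (so that Ext^i_A(K, M) = lim Ext^i_A(K, M/IⁿM)): concretely, some comparison map
Ext^i(K, M) → Ext^i(K, M/I^mM) is injective and for every n there is m' ≥ n such that the image of
the transition map Ext^i(K, M/I^(m')M) → Ext^i(K, M/IⁿM) is contained in the image of Ext^i(K, M).
Here Ext^i(K, X) = Hom_{D(A)}(K, X[i]). -/
theorem result (A : Type u) [CommRing A] [IsNoetherianRing A]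
    (I : Ideal A) (K : Dual.D A) (hK : DRing.IsPseudoCoherent' A K) (a : ℤ)
    (htors : ∀ (M : Type u) [AddCommGroup M] [Module A M], Module.Finite A M → ∀ i : ℤ, a ≤ i →
      ∀ e : K ⟶ (Dual.inD A M)⟦i⟧, ∃ n : ℕ, ∀ x ∈ I ^ n, x • e = 0)
    (M : Type u) [AddCommGroup M] [Module A M] [Module.Finite A M] (i : ℤ) (hi : a ≤ i) :
    let Mq : ℕ → Submodule A M := fun n => I ^ n • ⊤
    let c : ∀ n : ℕ, (K ⟶ (Dual.inD A M)⟦i⟧) → (K ⟶ (Dual.inD A (M ⧸ Mq n))⟦i⟧) :=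
      fun n e => e ≫ ((DerivedCategory.singleFunctor (ModuleCat.{u} A) 0).map (ModuleCat.ofHom (Mq n).mkQ))⟦i⟧'
    let t : ∀ n m : ℕ, n ≤ m → (K ⟶ (Dual.inD A (M ⧸ Mq m))⟦i⟧) → (K ⟶ (Dual.inD A (M ⧸ Mq n))⟦i⟧) :=
      fun n m hnm e => e ≫ ((DerivedCategory.singleFunctor (ModuleCat.{u} A) 0).map (ModuleCat.ofHom
        (Submodule.mapQ (Mq m) (Mq n) (LinearMap.id : M →ₗ[A] M) (Submodule.smul_mono_left (Ideal.pow_le_pow_right hnm)))))⟦i⟧'
    (∃ m : ℕ, Function.Injective (c m)) ∧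
      ∀ n : ℕ, ∃ (m' : ℕ) (hnm : n ≤ m'), Set.range (t n m' hnm) ⊆ Set.range (c n) := by
  intro Mq c t
  refine ⟨?_, fun n => ?_⟩
  · obtain ⟨c₀, hc₀⟩ := H25.ExtCocycle.exists_bound' hK i I M
    have := H25.ExtCocycle.ext_finite' hK i M
    obtain ⟨N₀, hN₀⟩ := H25.ExtCocycle.exists_pow_kills (I := I) (htors M inferInstance i hi)
    refine ⟨c₀ + N₀, fun a b hab => ?_⟩
    rw [← sub_eq_zero]
    obtain ⟨e', he'⟩ := exists_of_comp_eq_zero A M (Mq (c₀ + N₀)) K i (a - b)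
      (by
        have h := hab
        simp only [c] at h
        rw [Preadditive.sub_comp, h, sub_self])
    refine hN₀ _ ?_
    rw [he']
    have := hc₀ (c₀ + N₀) (Nat.le_add_right _ _) e'
    rwa [Nat.add_sub_cancel_left] at this
  · let M' : Submodule A M := Mq n
    have hM' : Module.Finite A M' := Module.IsNoetherian.finite A M'
    obtain ⟨c₁, hc₁⟩ := H25.ExtCocycle.exists_bound' hK (i + 1) I M'
    have := H25.ExtCocycle.ext_finite' hK (i + 1) M'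
    obtain ⟨N₁, hN₁⟩ := H25.ExtCocycle.exists_pow_kills (I := I) (htors M' hM' (i + 1) (by omega))
    refine ⟨n + (c₁ + N₁), Nat.le_add_right _ _, ?_⟩
    rintro _ ⟨e, rfl⟩
    obtain ⟨E, hE, hff, ⟨e₀⟩⟩ := H25.ExtCocycle.exists_model hK
    obtain ⟨q', hq'⟩ : ∃ q' : ℤ, (i + 1) + q' = 0 := ⟨-(i + 1), by omega⟩
    have hq : i + (q' + 1) = 0 := by omega
    obtain ⟨φ, hφ⟩ := H25.ExtCocycle.Φ_surjective E hq (M ⧸ Mq (n + (c₁ + N₁))) (e₀.hom ≫ e)
    obtain ⟨_, _⟩ := hff (q' + 1)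
    obtain ⟨φl, hφl⟩ := Module.projective_lifting_property (Mq (n + (c₁ + N₁))).mkQ φ.1
      (Submodule.mkQ_surjective _)
    have hφd : φ.1 ∘ₗ (E.d q' (q' + 1)).hom = 0 := (H25.ExtCocycle.mem_Z_iff rfl).1 φ.2
    let θ : E.X q' →ₗ[A] M := φl ∘ₗ (E.d q' (q' + 1)).hom
    have hθ : ∀ x, θ x ∈ Mq (n + (c₁ + N₁)) := fun x => by
      rw [← Submodule.Quotient.mk_eq_zero]
      exact (LinearMap.congr_fun hφl _).trans (LinearMap.congr_fun hφd x)
    have hle : Mq (n + (c₁ + N₁)) ≤ M' := Submodule.smul_mono_left (Ideal.pow_le_pow_right (Nat.le_add_right _ _))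
    let θ₂ : E.X q' →ₗ[A] M' := θ.codRestrict M' (fun x => hle (hθ x))
    have hθ₁ : ∀ x, θ₂ x ∈ (I ^ (c₁ + N₁) • ⊤ : Submodule A M') := fun x => by
      have hmap : (I ^ (c₁ + N₁) • ⊤ : Submodule A M').map M'.subtype = Mq (n + (c₁ + N₁)) := by
        rw [Submodule.map_smul'', Submodule.map_subtype_top]
        show I ^ (c₁ + N₁) • (I ^ n • (⊤ : Submodule A M)) = I ^ (n + (c₁ + N₁)) • ⊤
        rw [← smul_assoc, smul_eq_mul, ← pow_add, add_comm]
      obtain ⟨y, hy, hyx⟩ : (θ₂ x : M) ∈ (I ^ (c₁ + N₁) • ⊤ : Submodule A M').map M'.subtype := by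
        rw [hmap]; exact hθ x
      rwa [← show y = θ₂ x from Subtype.ext hyx]
    let θ₁ : E.X q' →ₗ[A] (I ^ (c₁ + N₁) • ⊤ : Submodule A M') := θ₂.codRestrict _ hθ₁
    have hθd : θ ∘ₗ (E.d (q' - 1) q').hom = 0 := by
      show (φl ∘ₗ (E.d q' (q' + 1)).hom) ∘ₗ (E.d (q' - 1) q').hom = 0
      rw [LinearMap.comp_assoc, ← ModuleCat.hom_comp, E.d_comp_d, ModuleCat.hom_zero, LinearMap.comp_zero]
    have hθ₂Z : θ₂ ∈ H25.ExtCocycle.Z E q' M' :=
      LinearMap.ext fun x => Subtype.ext (LinearMap.congr_fun hθd x)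
    have hθ₁Z : θ₁ ∈ H25.ExtCocycle.Z E q' (I ^ (c₁ + N₁) • ⊤ : Submodule A M') :=
      LinearMap.ext fun x => Subtype.ext (Subtype.ext (LinearMap.congr_fun hθd x))
    have hzero : H25.ExtCocycle.Φ E hq' M' ⟨θ₂, hθ₂Z⟩ = 0 := by
      rw [← H25.ExtCocycle.Φ_natural E hq' _ ((I ^ (c₁ + N₁) • ⊤ : Submodule A M').subtype)
        ⟨θ₁, hθ₁Z⟩ ⟨θ₂, hθ₂Z⟩ rfl]
      have := hN₁ _ (by
        have h := hc₁ (c₁ + N₁) (Nat.le_add_right _ _) (e₀.inv ≫ H25.ExtCocycle.Φ E hq' _ ⟨θ₁, hθ₁Z⟩)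
        rwa [Nat.add_sub_cancel_left] at h)
      rwa [Category.assoc, Preadditive.IsIso.comp_left_eq_zero] at this
    obtain ⟨ψ, hψ⟩ := H25.ExtCocycle.exists_of_Φ_eq_zero E hq' _ ⟨θ₂, hθ₂Z⟩ hzero
    let χ : E.X (q' + 1) →ₗ[A] M := φl - M'.subtype ∘ₗ ψ
    have hχ : χ ∈ H25.ExtCocycle.Z E (q' + 1) M := by
      rw [H25.ExtCocycle.mem_Z_iff (a := q') rfl]
      refine LinearMap.ext fun x => ?_
      show θ x - (ψ ((E.d q' (q' + 1)).hom x) : M) = 0
      rw [sub_eq_zero]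
      exact congrArg Subtype.val (LinearMap.congr_fun hψ x)
    refine ⟨e₀.inv ≫ H25.ExtCocycle.Φ E hq M ⟨χ, hχ⟩, ?_⟩
    have he : e = e₀.inv ≫ H25.ExtCocycle.Φ E hq _ φ := by rw [hφ, Iso.inv_hom_id_assoc]
    let u := Submodule.mapQ (Mq (n + (c₁ + N₁))) (Mq n) (LinearMap.id : M →ₗ[A] M)
      (Submodule.smul_mono_left (Ideal.pow_le_pow_right (Nat.le_add_right _ _)))
    have hu : ∀ x, u (φ.1 x) = (Mq n).mkQ (χ x) := by
      intro x
      rw [← LinearMap.congr_fun hφl x]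
      show (Mq n).mkQ (φl x) = (Mq n).mkQ (φl x - (ψ x : M))
      rw [map_sub, Submodule.mkQ_apply _ (ψ x : M), (Submodule.Quotient.mk_eq_zero _).2 (ψ x).2, sub_zero]
    have hcoc : u ∘ₗ φ.1 ∈ H25.ExtCocycle.Z E (q' + 1) (M ⧸ Mq n) := by
      rw [H25.ExtCocycle.mem_Z_iff (a := q') rfl, LinearMap.comp_assoc, hφd, LinearMap.comp_zero]
    show (e₀.inv ≫ H25.ExtCocycle.Φ E hq M ⟨χ, hχ⟩) ≫ _ = e ≫ _
    rw [he, Category.assoc, Category.assoc,
      H25.ExtCocycle.Φ_natural E hq _ (Mq n).mkQ ⟨χ, hχ⟩ ⟨u ∘ₗ φ.1, hcoc⟩ (LinearMap.ext hu),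
      H25.ExtCocycle.Φ_natural E hq _ u φ ⟨u ∘ₗ φ.1, hcoc⟩ rfl]

end Groth.Agent.S7164
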