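import Groth.Statements.S7165
import Mathlib
import Groth.Agent.Lib.SemiLocalDimOne.KrullAkizuki


set_option autoImplicit false
set_option maxHeartbeats 1000000
set_option linter.all false
universe u
open EtAlg

namespace Groth.Agent.S7165

theorem isIntegral_pi' {R : Type u} [CommRing R] {ι : Type u} [Finite ι] {M : ι → Type u}
    [∀ i, CommRing (M i)] [∀ i, Algebra R (M i)] (x : ∀ i, M i) (h : ∀ i, IsIntegral R (x i)) :
    IsIntegral R x := by
  classical
  cases nonempty_fintype ι
  choose p hp using h
  refine ⟨∏ i, p i, Polynomial.monic_prod_of_monic _ _ fun i _ => (hp i).1, ?_⟩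
  rw [← Polynomial.aeval_def]
  ext i
  rw [show Polynomial.aeval x (∏ i, p i) i = Polynomial.aeval (x i) (∏ i, p i) from
    (Polynomial.aeval_algHom_apply (Pi.evalAlgHom R M i) x _).symm, Pi.zero_apply, map_prod]
  exact Finset.prod_eq_zero (Finset.mem_univ i) (hp i).2

open TensorProduct in
/-- Let A → B be an injective local homomorphism of discrete valuation rings whose fields of fractions
are K ⊆ L, the A-algebra B being essentially of finite type. Let K' ⊇ K be an algebraic extension
field for which A', the integral closure of A in K', is a Noetherian ring, and let L' = (L ⊗_K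
K')_red. Then B', the integral closure of B in L', is a Noetherian ring. (The published statement
also asserts that Spec B' → Spec A' is surjective and that the residue field extensions are finitely
generated; this row states only that B' is Noetherian.) -/
theorem result (A B K L : Type u) [CommRing A] [IsDomain A]
    [IsDiscreteValuationRing A] [CommRing B] [IsDomain B] [IsDiscreteValuationRing B] [Algebra A B]
    (hinj : Function.Injective (algebraMap A B)) [IsLocalHom (algebraMap A B)] [Algebra.EssFiniteType A B]
    [Field K] [Field L] [Algebra A K] [IsFractionRing A K] [Algebra B L] [IsFractionRing B L]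
    [Algebra K L] [Algebra A L] [IsScalarTower A K L] [IsScalarTower A B L]
    (K' : Type u) [Field K'] [Algebra K K'] [Algebra A K'] [IsScalarTower A K K'] [Algebra.IsAlgebraic K K']
    (hA' : IsNoetherianRing (integralClosure A K'))
    (L' : Type u) [CommRing L'] [IsReduced L'] [Algebra K L'] [Algebra L L'] [Algebra K' L'] [Algebra B L']
    [IsScalarTower K L L'] [IsScalarTower K K' L'] [IsScalarTower B L L']
    (q : L ⊗[K] K' →ₐ[K] L') (hq : Function.Surjective q) (hker : RingHom.ker q.toRingHom = nilradical (L ⊗[K] K'))
    (hqL : ∀ y : L, q (y ⊗ₜ 1) = algebraMap L L' y) (hqK : ∀ z : K', q (1 ⊗ₜ z) = algebraMap K' L' z) :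
    IsNoetherianRing (integralClosure B L') := by
  classical
  letI : Algebra A L' := Algebra.compHom L' (algebraMap A K)
  have htK : IsScalarTower A K L' := .of_algebraMap_eq' rfl
  have htB : IsScalarTower A B L' := .of_algebraMap_eq fun a => by
    rw [IsScalarTower.algebraMap_apply B L L', ← IsScalarTower.algebraMap_apply A B L,
      IsScalarTower.algebraMap_apply A K L, ← IsScalarTower.algebraMap_apply K L L']
    rfl
  have htK' : IsScalarTower A K' L' := .of_algebraMap_eq fun a => by
    rw [IsScalarTower.algebraMap_apply A K K', ← IsScalarTower.algebraMap_apply K K' L']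
    rfl
  -- `L'` is reduced Artinian
  have : Algebra.EssFiniteType B L := Algebra.EssFiniteType.of_isLocalization L (nonZeroDivisors B)
  have : Algebra.EssFiniteType A L := Algebra.EssFiniteType.comp A B L
  have : Algebra.EssFiniteType K L := Algebra.EssFiniteType.of_comp A K L
  have : IsNoetherianRing (K' ⊗[K] L) := Algebra.EssFiniteType.isNoetherianRing K' _
  have hN : IsNoetherianRing (L ⊗[K] K') :=
    isNoetherianRing_of_ringEquiv (K' ⊗[K] L) (Algebra.TensorProduct.comm K K' L).toRingEquiv
  have : IsNoetherianRing L' := isNoetherianRing_of_surjective _ _ q.toRingHom hq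
  have hqL' : IsScalarTower L L L' := inferInstance
  let qL : L ⊗[K] K' →ₐ[L] L' :=
    { toRingHom := q.toRingHom
      commutes' := fun y => by
        simpa [Algebra.TensorProduct.algebraMap_apply] using hqL y }
  have : Algebra.IsIntegral L L' := Algebra.IsIntegral.of_surjective qL hq
  have : Ring.KrullDimLE 0 L' := Ring.KrullDimLE.mk₀ fun P hP => by
    have : (P.comap (algebraMap L L')).IsMaximal := by
      rw [(Ideal.eq_bot_or_top (P.comap (algebraMap L L'))).resolve_right
        (Ideal.IsPrime.ne_top inferInstance)]
      exact Ideal.bot_isMaximal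
    exact Ideal.isMaximal_of_isIntegral_of_isMaximal_comap P this
  have : IsArtinianRing L' := isArtinianRing_iff_isNoetherianRing_krullDimLE_zero.mpr ⟨‹_›, ‹_›⟩
  have : Finite (MaximalSpectrum L') := inferInstance
  -- the ring generated by `B` and `A'`
  let A' := integralClosure A K'
  let f : B ⊗[A] A' →ₐ[A] L' := Algebra.TensorProduct.lift (IsScalarTower.toAlgHom A B L')
    ((IsScalarTower.toAlgHom A K' L').comp A'.val) (fun _ _ => Commute.all _ _)
  have : IsNoetherianRing A' := hA'
  have : IsNoetherianRing (A' ⊗[A] B) := Algebra.EssFiniteType.isNoetherianRing A' _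
  have hT : IsNoetherianRing (B ⊗[A] A') :=
    isNoetherianRing_of_ringEquiv (A' ⊗[A] B) (Algebra.TensorProduct.comm A A' B).toRingEquiv
  have hBK : ∀ z : K', ∃ a b : A', (b : K') ≠ 0 ∧ z = (a : K') / b := by
    have : Algebra.IsAlgebraic A K' :=
      (IsFractionRing.comap_isAlgebraic_iff (A := A) (K := K) (C := K')).mpr ‹_›
    have : IsFractionRing A' K' := integralClosure.isFractionRing_of_algebraic (fun a ha => by
      rw [IsScalarTower.algebraMap_apply A K K', map_eq_zero] at ha
      exact IsFractionRing.injective A K (ha.trans (map_zero _).symm))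
    intro z
    obtain ⟨a, b, hb, rfl⟩ := IsFractionRing.div_surjective (A := A') z
    exact ⟨a, b, fun h => nonZeroDivisors.ne_zero hb (Subtype.ext h), rfl⟩
  have key : ∀ m : MaximalSpectrum L', IsNoetherianRing (integralClosure B (L' ⧸ m.asIdeal)) := by
    intro m
    letI := Ideal.Quotient.field m.asIdeal
    let π : L' →ₐ[A] L' ⧸ m.asIdeal := Ideal.Quotient.mkₐ A m.asIdeal
    let fB : B ⊗[A] A' →ₐ[B] L' ⧸ m.asIdeal :=
      { toRingHom := (π.comp f).toRingHom
        commutes' := fun b => by
          change π (f (algebraMap B _ b)) = _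
          rw [Algebra.TensorProduct.algebraMap_apply, Algebra.algebraMap_self, RingHom.id_apply]
          simp [f, π] }
    let C : Subalgebra B (L' ⧸ m.asIdeal) := fB.range
    have : IsNoetherianRing C :=
      isNoetherianRing_of_surjective _ _ fB.rangeRestrict.toRingHom fB.rangeRestrict_surjective
    have : Algebra.IsIntegral A A' :=
      ⟨fun x => (isIntegral_algHom_iff A'.val Subtype.val_injective).mp x.2⟩
    have : Algebra.IsIntegral B C :=
      Algebra.IsIntegral.of_surjective fB.rangeRestrict fB.rangeRestrict_surjective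
    have hBC : Function.Injective (algebraMap B C) := by
      intro x y h
      have h' := congrArg Subtype.val h
      simp only [Subalgebra.coe_algebraMap] at h'
      rw [IsScalarTower.algebraMap_apply B L (L' ⧸ m.asIdeal),
        IsScalarTower.algebraMap_apply B L (L' ⧸ m.asIdeal)] at h'
      exact IsFractionRing.injective B L ((algebraMap L (L' ⧸ m.asIdeal)).injective h')
    have : Ring.DimensionLEOne C := ⟨fun {P} hP hPp => by
      have hne : P.comap (algebraMap B C) ≠ ⊥ := Ideal.IsIntegral.comap_ne_bot B hP
      exact Ideal.isMaximal_of_isIntegral_of_isMaximal_comap P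
        (Ring.DimensionLEOne.maximalOfPrime hne inferInstance)⟩
    have hdiv : ∀ w : L' ⧸ m.asIdeal, ∃ a b : C, (b : L' ⧸ m.asIdeal) ≠ 0 ∧
        w = (a : L' ⧸ m.asIdeal) / b := by
      let F : Subfield (L' ⧸ m.asIdeal) := Subfield.closure (C : Set (L' ⧸ m.asIdeal))
      have hCmem : ∀ x : B ⊗[A] A', fB x ∈ F := fun x => Subfield.subset_closure ⟨x, rfl⟩
      have hall : ∀ x : L', π x ∈ F := by
        intro x
        obtain ⟨x, rfl⟩ := hq x
        induction x using TensorProduct.induction_on with
        | zero => rw [map_zero, map_zero]; exact zero_mem _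
        | add a b ha hb => rw [map_add, map_add]; exact add_mem ha hb
        | tmul y z =>
          rw [← mul_one y, ← one_mul z, ← Algebra.TensorProduct.tmul_mul_tmul, map_mul, map_mul]
          refine mul_mem ?_ ?_
          · obtain ⟨a, b, hb, rfl⟩ := IsFractionRing.div_surjective (A := B) y
            have hB : ∀ c : B, π (q (algebraMap B L c ⊗ₜ 1)) = fB (c ⊗ₜ 1) := fun c => by
              rw [hqL, ← IsScalarTower.algebraMap_apply]
              change _ = π (f (c ⊗ₜ 1))
              simp [f]
            have := div_mem (hCmem (a ⊗ₜ 1)) (hCmem (b ⊗ₜ 1))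
            rw [← hB, ← hB] at this
            convert this using 1
            simp only [hqL]
            exact map_div₀ ((Ideal.Quotient.mk m.asIdeal).comp (algebraMap L L')) _ _
          · obtain ⟨a, b, hb, rfl⟩ := hBK z
            have hA : ∀ c : A', π (q (1 ⊗ₜ (c : K'))) = fB (1 ⊗ₜ c) := fun c => by
              rw [hqK]
              change _ = π (f (1 ⊗ₜ c))
              simp [f]
            have := div_mem (hCmem (1 ⊗ₜ a)) (hCmem (1 ⊗ₜ b))
            rw [← hA, ← hA] at this
            convert this using 1
            simp only [hqK]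
            exact map_div₀ ((Ideal.Quotient.mk m.asIdeal).comp (algebraMap K' L')) _ _
      intro w
      obtain ⟨w, rfl⟩ := Ideal.Quotient.mk_surjective w
      obtain ⟨a, ha, b, hb, hab⟩ := Subfield.mem_closure_iff.mp (hall w)
      rw [show (Subring.closure (C : Set (L' ⧸ m.asIdeal))) = C.toSubring from
        C.toSubring.closure_eq] at ha hb
      by_cases hb0 : b = 0
      · refine ⟨0, 1, one_ne_zero, ?_⟩
        rw [hb0, div_zero] at hab
        simp only [ZeroMemClass.coe_zero, zero_div]
        exact hab.symm
      · exact ⟨⟨a, ha⟩, ⟨b, hb⟩, hb0, hab.symm⟩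
    have : IsFractionRing C (L' ⧸ m.asIdeal) := by
      refine IsFractionRing.of_field _ _ fun w => ?_
      obtain ⟨a, b, -, h⟩ := hdiv w
      exact ⟨a, b, h⟩
    have hKA := Lib.SemiLocalDimOne.KrullAkizuki.isNoetherianRing_subalgebra
      (integralClosure C (L' ⧸ m.asIdeal))
    let e : integralClosure C (L' ⧸ m.asIdeal) →+* integralClosure B (L' ⧸ m.asIdeal) :=
      { toFun := fun x => ⟨x.1, isIntegral_trans (R := B) x.1 x.2⟩
        map_one' := rfl, map_mul' := fun _ _ => rfl, map_zero' := rfl, map_add' := fun _ _ => rfl }
    exact isNoetherianRing_of_surjective _ _ e fun x => ⟨⟨x.1, x.2.tower_top⟩, rfl⟩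
  let φ : L' →ₐ[B] ∀ m : MaximalSpectrum L', L' ⧸ m.asIdeal :=
    AlgHom.pi fun m => Ideal.Quotient.mkₐ B m.asIdeal
  have hφ : Function.Bijective φ := (IsArtinianRing.equivPi L').bijective
  have : ∀ m : MaximalSpectrum L', IsNoetherianRing (integralClosure B (L' ⧸ m.asIdeal)) := key
  let g : (∀ m : MaximalSpectrum L', integralClosure B (L' ⧸ m.asIdeal)) →+* integralClosure B L' :=
    { toFun := fun x => ⟨(AlgEquiv.ofBijective φ hφ).symm (fun m => (x m).1),
        (isIntegral_pi' _ fun m => (x m).2).map (AlgEquiv.ofBijective φ hφ).symm.toAlgHom⟩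
      map_one' := Subtype.ext ((AlgEquiv.ofBijective φ hφ).symm.map_one)
      map_mul' := fun x y => Subtype.ext
        ((AlgEquiv.ofBijective φ hφ).symm.map_mul (fun m => (x m).1) (fun m => (y m).1))
      map_zero' := Subtype.ext ((AlgEquiv.ofBijective φ hφ).symm.map_zero)
      map_add' := fun x y => Subtype.ext
        ((AlgEquiv.ofBijective φ hφ).symm.map_add (fun m => (x m).1) (fun m => (y m).1)) }
  exact isNoetherianRing_of_surjective _ _ g fun y =>
    ⟨fun m => ⟨φ y.1 m, y.2.map ((Pi.evalAlgHom B _ m).comp φ)⟩,
      Subtype.ext ((AlgEquiv.ofBijective φ hφ).symm_apply_apply y.1)⟩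

end Groth.Agent.S7165
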