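import Groth.Statements.S7168
import Groth.Agent.H54.PCHom
-- import your own Groth.Agent.* helpers here

set_option autoImplicit false
universe u
attribute [local instance] HasDerivedCategory.standard
open FlatMor

namespace Groth.Agent.S7168

open AlgebraicGeometry CategoryTheory Limits in
/-- A pseudo-coherent morphism of schemes is locally of finite presentation. -/
theorem result {X S : Scheme.{u}} (f : X ⟶ S) (hf : MoreMor.IsPseudoCoherentMor f) :
    LocallyOfFinitePresentation f := by
  refine ⟨fun {V} hV {U} hU e => ?_⟩
  letI := (f.appLE V U e).hom.toAlgebra
  exact Groth.Agent.H54.PCHom.finitePresentation_of_isPseudoCoherentHom (hf U V hU hV e)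

end Groth.Agent.S7168
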