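import Groth.Statements.S7176
import Groth.Agent.Lib.RG57.RegFactor
import Groth.Agent.S7174

set_option autoImplicit false
universe u
attribute [local instance] HasDerivedCategory.standard
open FlatMor

namespace Groth.Agent.S7176

open AlgebraicGeometry CategoryTheory Limits in
/-- Let i : Z → Y and j : Y → X be immersions with X locally Noetherian, j ∘ i a regular immersion and i
perfect. Then i is a regular immersion and j is a regular immersion at every point i(z), z in Z.
(The published statement concludes that j is a regular immersion outright; its proof works in the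
local rings of X at points of Z, and for Z empty the hypotheses hold for every immersion j, so the
conclusion on j is stated at the points of i(Z) only.) Over a locally Noetherian scheme the four
kinds of regular immersion agree; the kind is a parameter here. -/
theorem result {Z Y X : Scheme.{u}} (i : Z ⟶ Y) (j : Y ⟶ X) [IsImmersion i] [IsImmersion j]
    [IsLocallyNoetherian X] (k : RegImm.Kind) (h : RegImm.IsRegularImmersion k (i ≫ j)) (hi : MoreMor.IsPerfectMor i) :
    RegImm.IsRegularImmersion k i ∧ ∀ z : Z, RegImm.IsRegularImmersionAt k j (i z) := by
  haveI : IsLocallyNoetherian Y := LocallyOfFiniteType.isLocallyNoetherian j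
  have hps : MoreMor.IsPseudoCoherentMor i := fun U V hU hV hUV => (hi U V hU hV hUV).1
  have hij : ∀ z, RegImm.IsRegularImmersionAt .regular (i ≫ j) z := fun z =>
    Lib.RG57.RegFactor.regularAt_of_kind k (h.2 z)
  have hreg : ∀ z, RegImm.IsRegularImmersionAt .regular i z := by
    intro z
    refine Lib.RG57.RegFactor.regularAt_of_isRegularIdeal i z ?_
    have h1 := H26.RegImmKind.isRegularIdeal_ker (hij z)
    rw [Scheme.Hom.stalkMap_comp] at h1
    exact Lib.RG57.RegFactor.isRegularIdeal_inner (j.stalkMap (i z)).hom (i.stalkMap z).hom
      (j.stalkMap_surjective (i z)) (i.stalkMap_surjective z)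
      ((S7174.result i hps).1 hi z) h1
  refine ⟨⟨inferInstance, fun z => Lib.RG57.RegFactor.kindAt_of_regular k (hreg z)⟩, fun z => ?_⟩
  exact Lib.RG57.RegFactor.kindAt_of_regular k (H2.SplitPerm.regularAt_outer z (hreg z) (hij z))

end Groth.Agent.S7176
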