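import Groth.Statements.S7177
import Groth.Agent.Lib.Flat55.FlatOverAt

set_option autoImplicit false
universe u
open FlatMor

namespace Groth.Agent.S7177

open AlgebraicGeometry CategoryTheory Limits in
/-- Let f : X → Y have flat diagonal and let F be an O_X-module flat over Y. Then F is flat as an
O_X-module. -/
theorem result {X Y : Scheme.{u}} (f : X ⟶ Y) [Flat (pullback.diagonal f)] (F : X.Modules)
    (hF : FlatMod.IsFlatOver f F) : FlatMod.IsFlat F := by
  intro x
  let d := pullback.diagonal f
  let p₁ := pullback.fst f f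
  let p₂ := pullback.snd f f
  have h₁ : d ≫ p₁ = 𝟙 X := pullback.diagonal_fst f
  have h₂ : d ≫ p₂ = 𝟙 X := pullback.diagonal_snd f
  have h := Groth.Agent.Lib.Flat55.FlatOverAt.isFlatOverAt_baseChange f p₁ p₂ f
    (IsPullback.of_hasPullback f f).flip F (d x) (hF _)
  have h' := (Groth.Agent.Lib.Flat55.FlatOverAt.isFlatOverAt_pullback_iff d p₁ _ x
    (Flat.stalkMap d x)).2 h
  have h'' := Groth.Agent.Lib.Flat55.FlatOverAt.of_iso (d ≫ p₁)
    ((Scheme.Modules.pullbackComp d p₂).app F ≪≫ (Scheme.Modules.pullbackCongr h₂).app F ≪≫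
      (Scheme.Modules.pullbackId X).app F) x h'
  rw [h₁] at h''
  -- flatness over `X` along the identity is flatness
  have e : ((𝟙 X : X ⟶ X).stalkMap x).hom = RingHom.id (X.presheaf.stalk x) := by
    rw [Scheme.Hom.stalkMap_id]; rfl
  show Module.Flat (X.presheaf.stalk x) (F.presheaf.stalk x)
  have hm : FlatMod.moduleStalkOver (𝟙 X) F x = FlatMod.moduleStalk F x := by
    refine Module.ext' _ _ fun r m => ?_
    exact congrArg (fun c => (FlatMod.moduleStalk F x).smul c m) (RingHom.congr_fun e r)
  have h3 : FlatMod.IsFlatOverAt (𝟙 X) F x := h''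
  unfold FlatMod.IsFlatOverAt at h3
  rw [hm] at h3
  exact h3

end Groth.Agent.S7177
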