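import Groth.Statements.S7180
import Groth.Agent.H56.WEStalk.Stalk
import Groth.Agent.H56.WEStalk.Normal


set_option autoImplicit false
universe u
open FlatMor

namespace Groth.Agent.S7180

open AlgebraicGeometry CategoryTheory Limits in
/-- The source of a weakly étale morphism with normal target (all local rings integrally closed domains)
is normal. -/
theorem result {X Y : Scheme.{u}} (f : X ⟶ Y) [WeaklyEtale f] (hY : Pi1.IsNormalScheme Y) :
    Pi1.IsNormalScheme X := by
  intro x
  let := (f.stalkMap x).hom.toAlgebra
  obtain ⟨_, _⟩ := hY (f x)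
  have := (H56.WeaklyEtale.SpecMap_iff (f.stalkMap x)).mp (H56.WEStalk.weaklyEtale_stalk f x)
  exact H56.WEStalk.normal_of_local (Y.presheaf.stalk (f x)) (X.presheaf.stalk x)


end Groth.Agent.S7180
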