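import Groth.Statements.S7183
import Groth.Agent.Lib.Ferrand.TwoClosed

set_option autoImplicit false
universe u
open FlatMor

namespace Groth.Agent.S7183

open AlgebraicGeometry CategoryTheory Limits Groth.Agent.Lib.Ferrand in
set_option backward.isDefEq.respectTransparency false in
theorem glue {X Y Z P X' Y' P' : Scheme.{u}} {i : Z ⟶ X} {j : Z ⟶ Y} [IsClosedImmersion i]
    [IsClosedImmersion j] {a : X ⟶ P} {b : Y ⟶ P} (hP : IsPushout i j a b) {f : X' ⟶ X}
    {g : Y' ⟶ Y} {a' : X' ⟶ P'} {b' : Y' ⟶ P'} {h : P' ⟶ P} (pa : IsPullback f a' a h)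
    (pb : IsPullback g b' b h) :
    (Flat f → Flat g → Flat h) ∧
    (FormallyUnramified f → FormallyUnramified g → FormallyUnramified h) ∧
    (Flat h → LocallyOfFiniteType h → LocallyOfFinitePresentation f →
      LocallyOfFinitePresentation g → LocallyOfFinitePresentation h) := by
  choose O O' e ea eb hp hO hO' hXa hYb hr hs hk qa qb using TwoClosed.exists_local hP pa pb
  have hcov : ⨆ p, O' p = ⊤ :=
    eq_top_iff.mpr fun p _ => TopologicalSpace.Opens.mem_iSup.mpr ⟨p, hp p⟩
  have hA : ∀ p, IsAffine (O p).toScheme := hO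
  have hA' : ∀ p, IsAffine (O' p).toScheme := hO'
  have hXa' : ∀ p, IsAffine (a' ⁻¹ᵁ O' p).toScheme := fun p => by
    have := isAffineHom_of_isAffine (a.resLE (O p) (a ⁻¹ᵁ O p) le_rfl)
    exact .of_isPullback (qa p).flip
  have hYb' : ∀ p, IsAffine (b' ⁻¹ᵁ O' p).toScheme := fun p => by
    have := isAffineHom_of_isAffine (b.resLE (O p) (b ⁻¹ᵁ O p) le_rfl)
    exact .of_isPullback (qb p).flip
  have res : ∀ (Q : MorphismProperty Scheme.{u}) [Q.IsStableUnderComposition] [Q.RespectsIso]
      [IsZariskiLocalAtSource Q] [IsZariskiLocalAtTarget Q] {A B : Scheme.{u}} (φ : A ⟶ B),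
      Q φ → ∀ (U : B.Opens) (V : A.Opens) (e : V ≤ φ ⁻¹ᵁ U), Q (φ.resLE U V e) := by
    intro Q _ _ _ _ A B φ hφ U V e
    exact IsZariskiLocalAtSource.resLE _ hφ
  refine ⟨fun hf hg => ?_, fun hf hg => ?_, fun hfl hft hf hg => ?_⟩
  · refine (IsZariskiLocalAtSource.iff_of_iSup_eq_top (P := @Flat) O' hcov).mpr fun p => ?_
    rw [← Scheme.Hom.resLE_comp_ι h (e p)]
    have : Flat (h.resLE (O p) (O' p) (e p)) :=
      (HasRingHomProperty.iff_of_isAffine (P := @Flat)).mpr (TwoClosed.flat_hom (hr p) (hs p) (hk p)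
        (isPushout_appTop_of_isPullback (qb p)) (isPushout_appTop_of_isPullback (qa p))
        ((HasRingHomProperty.iff_of_isAffine (P := @Flat)).mp (res @Flat g hg _ _ _))
        ((HasRingHomProperty.iff_of_isAffine (P := @Flat)).mp (res @Flat f hf _ _ _)))
    infer_instance
  · refine (IsZariskiLocalAtSource.iff_of_iSup_eq_top (P := @FormallyUnramified) O' hcov).mpr
      fun p => ?_
    rw [← Scheme.Hom.resLE_comp_ι h (e p)]
    have : FormallyUnramified (h.resLE (O p) (O' p) (e p)) :=
      (HasRingHomProperty.iff_of_isAffine (P := @FormallyUnramified)).mpr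
        (TwoClosed.formallyUnramified_hom (hr p) (hs p) (hk p)
          (isPushout_appTop_of_isPullback (qb p)) (isPushout_appTop_of_isPullback (qa p))
          ((HasRingHomProperty.iff_of_isAffine (P := @FormallyUnramified)).mp (res @FormallyUnramified g hg _ _ _))
          ((HasRingHomProperty.iff_of_isAffine (P := @FormallyUnramified)).mp (res @FormallyUnramified f hf _ _ _)))
    exact MorphismProperty.comp_mem _ _ _ this inferInstance
  · refine (IsZariskiLocalAtSource.iff_of_iSup_eq_top (P := @LocallyOfFinitePresentation) O' hcov).mpr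
      fun p => ?_
    rw [← Scheme.Hom.resLE_comp_ι h (e p)]
    have : LocallyOfFinitePresentation (h.resLE (O p) (O' p) (e p)) :=
      (HasRingHomProperty.iff_of_isAffine (P := @LocallyOfFinitePresentation)).mpr
        (TwoClosed.finitePresentation_hom (hr p) (hs p) (hk p)
          (isPushout_appTop_of_isPullback (qb p)) (isPushout_appTop_of_isPullback (qa p))
          ((HasRingHomProperty.iff_of_isAffine (P := @Flat)).mp (res @Flat h hfl _ _ _))
          ((HasRingHomProperty.iff_of_isAffine (P := @LocallyOfFiniteType)).mp (res @LocallyOfFiniteType h hft _ _ _))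
          ((HasRingHomProperty.iff_of_isAffine (P := @LocallyOfFinitePresentation)).mp (res @LocallyOfFinitePresentation g hg _ _ _))
          ((HasRingHomProperty.iff_of_isAffine (P := @LocallyOfFinitePresentation)).mp (res @LocallyOfFinitePresentation f hf _ _ _)))
    infer_instance

open AlgebraicGeometry CategoryTheory Limits in
set_option backward.isDefEq.respectTransparency false in
/-- Smoothness of a fibre can be tested after base change along a closed immersion. -/
theorem smooth_fiber {X X' P P' : Scheme.{u}} {a : X ⟶ P} [IsClosedImmersion a] {f : X' ⟶ X}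
    {a' : X' ⟶ P'} {h : P' ⟶ P} (pa : IsPullback f a' a h) [Smooth f] (x : X) :
    Smooth (h.fiberToSpecResidueField (a x)) := by
  have : IsIso (a.residueFieldMap x) := by
    rw [ConcreteCategory.isIso_iff_bijective]
    refine ⟨RingHom.injective _, fun z => ?_⟩
    obtain ⟨w, rfl⟩ := X.residue_surjective x z
    obtain ⟨v, rfl⟩ := a.stalkMap_surjective x w
    exact ⟨P.residue _ v, congr($(Scheme.residue_residueFieldMap a x) v)⟩
  have sq := isPullback_fiberToSpecResidueField_of_isPullback pa.flip x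
  have : IsIso (pullback.map _ _ _ _ a' (Spec.map (a.residueFieldMap x)) a pa.flip.w.symm (by simp) :
      f.fiber x ⟶ h.fiber (a x)) := sq.isIso_fst_of_isIso
  have hf : Smooth (f.fiberToSpecResidueField x) :=
    inferInstanceAs (Smooth (pullback.snd f _))
  rw [(IsIso.eq_inv_comp _).mpr sq.w]
  exact (MorphismProperty.cancel_left_of_respectsIso @Smooth _ _).mpr
    ((MorphismProperty.cancel_right_of_respectsIso @Smooth _ _).mpr hf)

open AlgebraicGeometry CategoryTheory Limits in
/-- Let i : Z → X, j : Z → Y be closed immersions with pushout P, let X' → X and Y' → Y be morphisms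
whose base changes to Z are identified (a scheme Z' cartesian over both), let P' be the pushout of
Z' → X' and Z' → Y' and h : P' → P the induced morphism. Then h is locally of finite type (resp.
flat, resp. flat and locally of finite presentation, resp. smooth, resp. étale) if and only if X' →
X and Y' → Y both are. -/
theorem result {X Y Z P X' Y' Z' P' : Scheme.{u}}
    (i : Z ⟶ X) (j : Z ⟶ Y) [IsClosedImmersion i] [IsClosedImmersion j] (a : X ⟶ P) (b : Y ⟶ P) (hP : IsPushout i j a b)
    (f : X' ⟶ X) (g : Y' ⟶ Y) (i' : Z' ⟶ X') (j' : Z' ⟶ Y') (c : Z' ⟶ Z) (hX : IsPullback i' c f i) (hY : IsPullback j' c g j)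
    (a' : X' ⟶ P') (b' : Y' ⟶ P') (hP' : IsPushout i' j' a' b') (h : P' ⟶ P) (ha : a' ≫ h = f ≫ a) (hb : b' ≫ h = g ≫ b) :
    (LocallyOfFiniteType h ↔ LocallyOfFiniteType f ∧ LocallyOfFiniteType g) ∧
    (Flat h ↔ Flat f ∧ Flat g) ∧
    ((Flat h ∧ LocallyOfFinitePresentation h) ↔ (Flat f ∧ LocallyOfFinitePresentation f) ∧ (Flat g ∧ LocallyOfFinitePresentation g)) ∧
    (Smooth h ↔ Smooth f ∧ Smooth g) ∧
    (Etale h ↔ Etale f ∧ Etale g) := by
  have : IsClosedImmersion i' := MorphismProperty.of_isPullback hX.flip inferInstance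
  have : IsClosedImmersion j' := MorphismProperty.of_isPullback hY.flip inferInstance
  have hg := Lib.Ferrand.GluedBy.of_isPushout (Lib.Ferrand.cover_of_isClosedImmersion i j) hP
  have hg' := Lib.Ferrand.GluedBy.of_isPushout (Lib.Ferrand.cover_of_isClosedImmersion i' j') hP'
  have := hg.isClosedImmersion_right
  have := (Lib.Ferrand.GluedBy.of_isPushout (Lib.Ferrand.cover_of_isClosedImmersion j i)
    hP.flip).isClosedImmersion_right
  obtain ⟨pa, pb, hft⟩ := hg.cartesian hg' hX.flip hY.flip ha hb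
  obtain ⟨gfl, gfu, gfp⟩ := glue hP pa pb
  have bc : ∀ (Q : MorphismProperty Scheme.{u}) [Q.IsStableUnderBaseChange], Q h → Q f ∧ Q g :=
    fun Q _ hh => ⟨MorphismProperty.of_isPullback pa.flip hh,
      MorphismProperty.of_isPullback pb.flip hh⟩
  have hfp : Flat f → LocallyOfFinitePresentation f → Flat g → LocallyOfFinitePresentation g →
      Flat h ∧ LocallyOfFinitePresentation h := fun h₁ h₂ h₃ h₄ =>
    ⟨gfl h₁ h₃, gfp (gfl h₁ h₃) (hft inferInstance inferInstance) h₂ h₄⟩
  refine ⟨⟨bc @LocallyOfFiniteType, fun hh => hft hh.1 hh.2⟩,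
    ⟨bc @Flat, fun hh => gfl hh.1 hh.2⟩, ⟨fun hh => ?_, fun hh => hfp hh.1.1 hh.1.2 hh.2.1 hh.2.2⟩,
    ⟨bc @Smooth, fun ⟨hf, hg₂⟩ => ?_⟩, ⟨bc @Etale, fun ⟨hf, hg₂⟩ => ?_⟩⟩
  · exact ⟨⟨(bc @Flat hh.1).1, (bc @LocallyOfFinitePresentation hh.2).1⟩,
      ⟨(bc @Flat hh.1).2, (bc @LocallyOfFinitePresentation hh.2).2⟩⟩
  · obtain ⟨h₁, h₂⟩ := hfp inferInstance inferInstance inferInstance inferInstance
    refine Smooth.of_smooth_fiberToSpecResidueField h fun w => ?_
    rcases hg.surj w with ⟨x, rfl⟩ | ⟨y, rfl⟩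
    · exact smooth_fiber pa x
    · exact smooth_fiber pb y
  · obtain ⟨h₁, h₂⟩ := hfp inferInstance inferInstance inferInstance inferInstance
    have := gfu inferInstance inferInstance
    exact Etale.of_formallyUnramified_of_flat h

end Groth.Agent.S7183
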