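import Groth.Statements.S7186
import Groth.Agent.H54.Seesaw.Range
-- import your own Groth.Agent.* helpers here

set_option autoImplicit false
universe u
open FlatMor

namespace Groth.Agent.S7186

open AlgebraicGeometry CategoryTheory Limits in
/-- Let f : X → S be flat, proper and of finite presentation such that O_T → (f_T)_* O_{X_T} is an
isomorphism for every base change T → S. Suppose E is an O_X-module that is finite locally free and
whose restriction to each fibre X_s is free, and let S be reduced. Then E is isomorphic to the
pullback of a finite locally free O_S-module. -/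
theorem result {X S : Scheme.{u}} (f : X ⟶ S) [Flat f] [IsProper f] [LocallyOfFinitePresentation f]
    (hO : ∀ (T : Scheme.{u}) (g : T ⟶ S) (U : T.Opens), IsIso ((pullback.snd f g).app U))
    (E : X.Modules) (hE : FlatMod.IsFinLocFree E)
    (hfib : ∀ s : S, ∃ r : ℕ, Nonempty ((Scheme.Modules.pullback (f.fiberι s)).obj E ≅ FlatMod.freeMod (f.fiber s) r))
    [IsReduced S] :
    ∃ N : S.Modules, FlatMod.IsFinLocFree N ∧ Nonempty ((Scheme.Modules.pullback f).obj N ≅ E) := by
  obtain ⟨Z, ι, h1, -, -, h⟩ := Groth.Agent.H54.Seesaw.Main.main f hO hE
  exact Groth.Agent.H54.Seesaw.Range.exists_of_free_fibres f E ι h hfib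

end Groth.Agent.S7186
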