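import Groth.Statements.S7188
import Groth.Agent.Lib.Cube.NN.Seesaw
import Groth.Agent.Lib.TensorMod.TensorInv
-- import your own Groth.Agent.* helpers here

set_option autoImplicit false
universe u
open FlatMor

namespace Groth.Agent.S7188

open AlgebraicGeometry CategoryTheory Limits in
/-- Let f : X → S be flat, proper and of finite presentation with O_T → (f_T)_* O_{X_T} an isomorphism
for every base change, let E be an invertible O_X-module, and let j : Z → S be the immersion of
finite presentation representing the locus of those T → S over which the pullback of E comes from a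
finite locally free O_T-module. If every geometric fibre of f is an integral scheme, j is a closed
immersion (the locus is a closed subscheme of S). -/
theorem result {X S Z : Scheme.{u}} (f : X ⟶ S) [Flat f] [IsProper f] [LocallyOfFinitePresentation f]
    (hO : ∀ (T : Scheme.{u}) (g : T ⟶ S) (U : T.Opens), IsIso ((pullback.snd f g).app U))
    (E : X.Modules) (hE : PicF.IsInvertible E)
    (j : Z ⟶ S) [IsImmersion j] [LocallyOfFinitePresentation j]
    (hZ : ∀ (T : Scheme.{u}) (g : T ⟶ S), (∃ g' : T ⟶ Z, g' ≫ j = g) ↔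
        ∃ N : T.Modules, FlatMod.IsFinLocFree N ∧
          Nonempty ((Scheme.Modules.pullback (pullback.snd f g)).obj N ≅ (Scheme.Modules.pullback (pullback.fst f g)).obj E))
    (hgeo : ∀ (K : Type u) [Field K] (x : Spec (CommRingCat.of K) ⟶ S), IsIntegral (pullback f x)) :
    IsClosedImmersion j := by
  haveI : GeometricallyIntegral f := ⟨fun K _ x W fst snd h => by
    haveI := hgeo K x
    haveI : Nonempty W := ⟨h.isoPullback.inv (Classical.arbitrary _)⟩
    exact isIntegral_of_isOpenImmersion h.isoPullback.hom⟩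
  open Groth.Agent.Lib Groth.Agent.Lib.Cube in
  obtain ⟨ι, U, -, hUc, e, he, c, hc⟩ := Triv.exists_cocycle hE
  open Groth.Agent.Lib Groth.Agent.Lib.Cube in
  have hrange : Set.range j = {s : S | NN.TrivPt f c s} := by
    ext s
    constructor
    · rintro ⟨z, rfl⟩
      let K := Z.residueField z
      let g : Spec K ⟶ S := Z.fromSpecResidueField z ≫ j
      obtain ⟨N, hN, ⟨i⟩⟩ := (hZ _ g).1 ⟨_, rfl⟩
      haveI : IsIntegral (pullback f g) := hgeo K g
      let q : Spec K := IsLocalRing.closedPoint K
      obtain ⟨V, n, hqV, ⟨a⟩⟩ := hN q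
      have hV : V = ⊤ := TopologicalSpace.Opens.ext (Set.eq_univ_iff_forall.2 fun y => by
        rw [Subsingleton.elim y q]; exact hqV)
      subst hV
      obtain ⟨b⟩ := TensorMod.LocFree.pullback_iso_of_restrict_iso (pullback.snd f g) a
      obtain ⟨W, hxW, ⟨d⟩⟩ := TensorMod.LocFree.of_isInvertible
        (PicLoc.isInvertible_pullback (pullback.fst f g) hE) (Classical.arbitrary (pullback f g : Scheme.{u}))
      obtain ⟨b'⟩ := TensorMod.LocFree.exists_restrict_iso_freeMod
        (show W ≤ pullback.snd f g ⁻¹ᵁ ⊤ from le_top) b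
      obtain rfl : n = 1 := TensorMod.TensorInv.freeMod_rank_eq (⟨_, hxW⟩ : (W : Scheme.{u}))
        (b'.symm ≪≫ (Scheme.Modules.restrictFunctor W.ι).mapIso i ≪≫ d)
      haveI : IsIso (⊤ : (Spec K).Opens).ι := by rw [← Scheme.topIso_hom]; infer_instance
      let a' : N ≅ Coh.structureModule (Spec K) :=
        (Scheme.Modules.pullbackId (X := Spec K)).symm.app N ≪≫
          (Scheme.Modules.pullbackCongr (IsIso.inv_hom_id (⊤ : (Spec K).Opens).ι).symm).app N ≪≫
          ((Scheme.Modules.pullbackComp _ _).app N).symm ≪≫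
          (Scheme.Modules.pullback _).mapIso
            (((Scheme.Modules.restrictFunctorIsoPullback (⊤ : (Spec K).Opens).ι).app N).symm ≪≫ a ≪≫
              TensorMod.LocFree.freeModOneIso _) ≪≫
          PicLoc.pullbackStructureIso _
      refine ⟨K, inferInstance, g, ?_, (Triv.trivAlong_iff e he c hc hUc _).2
        ⟨i.symm ≪≫ (Scheme.Modules.pullback _).mapIso a' ≪≫ PicLoc.pullbackStructureIso _⟩⟩
      show j (Z.fromSpecResidueField z _) = j z
      rw [Scheme.fromSpecResidueField_apply]
    · rintro ⟨K, _, σ, rfl, ht⟩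
      obtain ⟨i⟩ := (Triv.trivAlong_iff e he c hc hUc _).1 ht
      obtain ⟨g', hg'⟩ := (hZ _ σ).2 ⟨Coh.structureModule _,
        TensorMod.LocFree.of_rank (TensorMod.LocFree.of_isInvertible
          (fun x => ⟨⊤, trivial, ⟨Scheme.Modules.restrictUnitIso _⟩⟩)),
        ⟨PicLoc.pullbackStructureIso _ ≪≫ i.symm⟩⟩
      exact ⟨g' (IsLocalRing.closedPoint K), by rw [← hg']; rfl⟩
  open Groth.Agent.Lib Groth.Agent.Lib.Cube in
  exact .of_isPreimmersion j (hrange ▸ NN.isClosed_trivPt f hUc c)

end Groth.Agent.S7188
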