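import Groth.Statements.S7189
import Groth.Agent.Lib.Cube.NN.Core

set_option linter.style.haveILetI false

set_option autoImplicit false
universe u
open FlatMor

namespace Groth.Agent.S7189

open AlgebraicGeometry CategoryTheory Limits TopologicalSpace IsLocalRing in
open Groth.Agent.Lib.Cube Groth.Agent.Lib.Cube.NN Groth.Agent.Lib.Cube.Triv in
/-- Triviality on one fibre extends to a neighbourhood, with no hypothesis on the fibres beyond
their rings of global functions. -/
theorem exists_sec_nhd {S : Scheme.{u}} (C : Ctx S) [LocallyOfFinitePresentation C.px]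
    [LocallyOfFinitePresentation C.py] {s : S} (hs : Global.Fib C s) :
    ∃ V : S.Opens, s ∈ V ∧ TrivAlong C.c (C.pw ⁻¹ᵁ V).ι := by
  obtain ⟨_, ⟨V₀, hV₀, rfl⟩, hsV₀, -⟩ := S.isBasis_affineOpens.exists_subset_of_mem_open
    (Set.mem_univ s) isOpen_univ
  let φ := hV₀.fromSpec
  haveI : IsOpenImmersion φ := hV₀.isOpenImmersion_fromSpec
  obtain ⟨ι', _, σ, U', hU', hUc', hσ⟩ := C.exists_finite_cover φ
  let C₀ := C.bcCover φ σ U' hU' hUc' hσ
  haveI : Finite C₀.ι := ‹Finite ι'›
  haveI : LocallyOfFinitePresentation C₀.px :=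
    inferInstanceAs (LocallyOfFinitePresentation (pullback.snd C.px φ))
  haveI : LocallyOfFinitePresentation C₀.py :=
    inferInstanceAs (LocallyOfFinitePresentation (pullback.snd C.py φ))
  obtain ⟨R, hR, C', hfin, π, q, h, hq⟩ := exists_stage C₀
  obtain ⟨x, rfl⟩ : ∃ x, φ x = s := by
    have : s ∈ Set.range hV₀.fromSpec := by rw [hV₀.range_fromSpec]; exact hsV₀
    exact this
  have hx : ((Spec _).fromSpecResidueField x ≫ φ) (closedPoint _) = φ x :=
    congrArg φ ((Spec _).fromSpecResidueField_apply x _)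
  have hF : Global.Fib C₀ x :=
    (Global.trivAlong_bcCover_bcMap C φ σ U' hU' hUc' hσ ((Spec _).fromSpecResidueField x) rfl).2
      (Global.of_fib C hx hs)
  obtain ⟨V', hxV', v, hu, hv⟩ := exists_sec C₀ C' π q h hq hF
  have hpw : C₀.pw = C.bcBase φ := Global.bcCover_pw C φ σ U' hU' hUc' hσ
  have h5 : TrivAlong C.c ((C₀.pw ⁻¹ᵁ V').ι ≫ C.bcMap φ) :=
    (Ctx.trivAlong_bcCover_iff C φ σ U' hU' hUc' hσ _).1 (Global.trivAlong_ι hu hv)
  have hb : IsOpenImmersion (C.bcMap φ) := MorphismProperty.pullback_fst _ _ inferInstance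
  haveI : IsOpenImmersion ((C₀.pw ⁻¹ᵁ V').ι ≫ C.bcMap φ) :=
    MorphismProperty.comp_mem _ (C₀.pw ⁻¹ᵁ V').ι (C.bcMap φ) inferInstance hb
  have hO : C.pw ⁻¹ᵁ (φ ''ᵁ V') ≤ ((C₀.pw ⁻¹ᵁ V').ι ≫ C.bcMap φ).opensRange := by
    rintro z ⟨y, hy, hyz⟩
    obtain ⟨z', hz', hz''⟩ := Scheme.Pullback.exists_preimage_pullback z y (f := C.pw) (g := φ) hyz.symm
    refine ⟨⟨z', ?_⟩, hz'⟩
    show C₀.pw z' ∈ V'
    rw [hpw]
    exact (congrArg (· ∈ V') hz'').mpr hy
  obtain ⟨w, hw, hw'⟩ := Rigid.exists_sec_of_isOpenImmersion C.c _ hO h5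
  exact ⟨φ ''ᵁ V', ⟨x, hxV', rfl⟩, Global.trivAlong_ι hw hw'⟩


open AlgebraicGeometry CategoryTheory Limits in
/-- Let f : X → S and g : Y → S be flat, proper, of finite presentation, each with O_T → (·_T)_* O an
isomorphism after every base change, with sections σ and τ; let s be a point of S and L an
invertible module on X ×_S Y. If L pulls back to a trivial module along X → X ×_S Y, x ↦ (x,
τ(f(x))) and along Y → X ×_S Y, y ↦ (σ(g(y)), y), and L is trivial on the fibre of X ×_S Y over s,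
then there is an open neighbourhood U of s over whose preimage L is trivial. -/
theorem result {X Y S : Scheme.{u}} (f : X ⟶ S) (g : Y ⟶ S)
    [Flat f] [IsProper f] [LocallyOfFinitePresentation f] [Flat g] [IsProper g] [LocallyOfFinitePresentation g]
    (hOf : ∀ (T : Scheme.{u}) (t : T ⟶ S) (U : T.Opens), IsIso ((pullback.snd f t).app U))
    (hOg : ∀ (T : Scheme.{u}) (t : T ⟶ S) (U : T.Opens), IsIso ((pullback.snd g t).app U))
    (σ : S ⟶ X) (hσ : σ ≫ f = 𝟙 S) (τ : S ⟶ Y) (hτ : τ ≫ g = 𝟙 S) (s : S)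
    (L : (pullback f g).Modules) (hL : PicF.IsInvertible L)
    (u : X ⟶ pullback f g) (hu1 : u ≫ pullback.fst f g = 𝟙 X) (hu2 : u ≫ pullback.snd f g = f ≫ τ)
    (v : Y ⟶ pullback f g) (hv1 : v ≫ pullback.fst f g = g ≫ σ) (hv2 : v ≫ pullback.snd f g = 𝟙 Y)
    (h1 : Nonempty ((Scheme.Modules.pullback u).obj L ≅ Coh.structureModule X))
    (h2 : Nonempty ((Scheme.Modules.pullback v).obj L ≅ Coh.structureModule Y))
    (h3 : Nonempty ((Scheme.Modules.pullback ((pullback.fst f g ≫ f).fiberι s)).obj L ≅ Coh.structureModule ((pullback.fst f g ≫ f).fiber s))) :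
    ∃ U : S.Opens, s ∈ U ∧ Nonempty (L.restrict ((pullback.fst f g ≫ f) ⁻¹ᵁ U).ι ≅ Coh.structureModule ((pullback.fst f g ≫ f) ⁻¹ᵁ U).toScheme) := by
  obtain ⟨ι, U, hU, hUc, e, he, c, hc⟩ := Groth.Agent.Lib.Cube.Triv.exists_cocycle hL
  have hiff := fun {P : Scheme.{u}} (f : P ⟶ pullback _ _) =>
    Groth.Agent.Lib.Cube.Triv.trivAlong_iff e he c hc hUc f
  let C : Groth.Agent.Lib.Cube.Ctx S :=
    { X := X, Y := Y, W := pullback f g
      px := f, py := g, fx := pullback.fst f g, fy := pullback.snd f g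
      H := IsPullback.of_hasPullback f g
      isProper_px := inferInstance, flat_px := inferInstance
      isProper_py := inferInstance, flat_py := inferInstance
      hx := fun t => by
        haveI := hOf _ (S.fromSpecResidueField t) ⊤
        exact (ConcreteCategory.bijective_of_isIso
          ((pullback.snd f (S.fromSpecResidueField t)).app ⊤)).2
      hy := fun t => by
        haveI := hOg _ (S.fromSpecResidueField t) ⊤
        exact (ConcreteCategory.bijective_of_isIso
          ((pullback.snd g (S.fromSpecResidueField t)).app ⊤)).2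
      x₀ := σ, hx₀ := hσ, y₀ := τ, hy₀ := hτ
      i := v, hi₁ := hv1, hi₂ := hv2, j := u, hj₁ := hu1, hj₂ := hu2
      ι := ι, U := U, hU := hU, hUc := hUc, c := c
      hi := (hiff _).2 h2, hj := (hiff _).2 h1 }
  haveI : LocallyOfFinitePresentation C.px := inferInstanceAs (LocallyOfFinitePresentation f)
  haveI : LocallyOfFinitePresentation C.py := inferInstanceAs (LocallyOfFinitePresentation g)
  have hs : Groth.Agent.Lib.Cube.Global.Fib C s := (hiff _).2 h3
  obtain ⟨V, hsV, hT⟩ := exists_sec_nhd C hs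
  obtain ⟨j⟩ := (hiff _).1 hT
  exact ⟨V, hsV, ⟨(Scheme.Modules.restrictFunctorIsoPullback _).app L ≪≫ j⟩⟩

end Groth.Agent.S7189
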