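import Groth.Statements.S7191
import Groth.Agent.H69.FieldLift
import Groth.Agent.Lib.Lim.Basic
-- import your own Groth.Agent.* helpers here

set_option autoImplicit false
universe u
open CategoryTheory AlgebraicGeometry
open FlatMor Groth.Agent.Lib.Lim Groth.Agent.Lib.Lim.Valuative

namespace Groth.Agent.S7191
set_option backward.isDefEq.respectTransparency false

/-- Let S = lim S_i be a cofiltered limit of schemes with affine transition morphisms, f₀ : X₀ → Y₀ a
morphism over some S_{i₀} with Y₀ quasi-compact and quasi-separated and f₀ locally of finite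
presentation, and f : X → Y its base change to S. If f is completely decomposed (every point of Y is
the image of a point of X with the same residue field), then some base change f_i : X_i → Y_i of f₀
to an S_i, i → i₀, is completely decomposed. -/
theorem result {I : Type u} [SmallCategory I] [IsCofiltered I]
    (D : I ⥤ Scheme.{u}) (c : Limits.Cone D) (hc : Limits.IsLimit c)
    [∀ (i j : I) (a : i ⟶ j), IsAffineHom (D.map a)]
    (i0 : I) {X0 Y0 X Y : Scheme.{u}} (f0 : X0 ⟶ Y0) (q0 : Y0 ⟶ D.obj i0) [CompactSpace ↥Y0] [QuasiSeparatedSpace ↥Y0]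
    [LocallyOfFinitePresentation f0]
    (f : X ⟶ Y) (q : Y ⟶ c.pt) (pY : Y ⟶ Y0) (pX : X ⟶ X0)
    (hY : IsPullback pY q q0 (c.π.app i0)) (hX : IsPullback pX f f0 pY)
    (hcd : ∀ y : Y, ∃ x : X, f x = y ∧ Function.Bijective (f.residueFieldMap x)) :
    ∃ (i : I) (a : i ⟶ i0) (Xi Yi : Scheme.{u}) (fi : Xi ⟶ Yi) (qi : Yi ⟶ D.obj i) (pYi : Yi ⟶ Y0) (pXi : Xi ⟶ X0),
      IsPullback pYi qi q0 (D.map a) ∧ IsPullback pXi fi f0 pYi ∧
      ∀ y : Yi, ∃ x : Xi, fi x = y ∧ Function.Bijective (fi.residueFieldMap x) := by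
  classical
  by_contra hne
  push Not at hne
  have : ∀ {i j : I} (g : i ⟶ j), IsAffineHom (D.map g) := fun g => inferInstance
  let E := Basic.bcDiagram D q0
  let cE := Basic.bcCone hY.w
  have hcE : Limits.IsLimit cE := Basic.isLimitBcCone hc hY
  have := fun j => Basic.compactSpace_bcDiagram D q0 j
  have := fun j => Basic.quasiSeparatedSpace_bcDiagram D q0 j
  have hbad : ∀ j : Over i0, ∃ y : (E.obj j : Scheme.{u}),
      ¬ ∃ s : Spec ((E.obj j).residueField y) ⟶ Limits.pullback f0 (Limits.pullback.fst q0 (D.map j.hom)),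
        s ≫ Limits.pullback.snd _ _ = (E.obj j).fromSpecResidueField y := by
    intro j
    obtain ⟨y, hy⟩ := hne j.left j.hom _ _ _ _ _ _ (IsPullback.of_hasPullback q0 (D.map j.hom))
      (IsPullback.of_hasPullback f0 (Limits.pullback.fst q0 (D.map j.hom)))
    refine ⟨y, fun hs => ?_⟩
    obtain ⟨x, hx, hbij⟩ := (H69.FieldLift.exists_rational_iff _ y).mpr hs
    exact hy x hx hbij
  choose yb hyb using hbad
  let K := fun j : Valuative.Stage (Over i0) => ((E.obj j.k).residueField (yb j.k) : Type u)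
  let U := Valuative.stageUF (Over i0)
  let ys : ∀ j : Valuative.Stage (Over i0), Spec (CommRingCat.of (K j)) ⟶ E.obj j.k :=
    fun j => (E.obj j.k).fromSpecResidueField (yb j.k)
  obtain ⟨u, hu⟩ := Valuative.exists_limit E hcE (Ultra.fieldULim U K) ys
  let o : Over i0 := Over.mk (𝟙 i0)
  obtain ⟨u, rfl⟩ : ∃ u' : Spec (CommRingCat.of (Ultra.KK U K)) ⟶ Y, u = u' := ⟨u, rfl⟩
  obtain ⟨y, φ, rfl⟩ : ∃ (y : Y) (φ : Y.residueField y ⟶ CommRingCat.of (Ultra.KK U K)),
      u = Spec.map φ ≫ Y.fromSpecResidueField y :=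
    ⟨_, _, ((Scheme.SpecToEquivOfField (Ultra.KK U K) Y).left_inv u).symm⟩
  obtain ⟨s, hs⟩ := (H69.FieldLift.exists_rational_iff f y).mp (hcd y)
  have hlim := (hu o).comp (Limits.pullback.fst q0 (D.map o.hom))
  have hl : (Spec.map φ ≫ s ≫ pX) ≫ f0 =
      ((Spec.map φ ≫ Y.fromSpecResidueField y) ≫ cE.π.app o) ≫
        Limits.pullback.fst q0 (D.map o.hom) := by
    simp only [Category.assoc]
    rw [Basic.bcCone_π_fst hY.w o, ← hs, Category.assoc, hX.w]
  have hev := H69.FieldLift.eventually_lift f0 hlim _ hl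
  obtain ⟨j, hj, lj, hlj⟩ := ((Valuative.eventually_objs o).and hev).exists
  rw [Valuative.fam_eq _ _ _ _ hj, Option.map_some] at hlj
  have e := Option.some.inj hlj
  rw [Category.assoc, Basic.bcDiagram_map_fst] at e
  exact hyb j.k ⟨Limits.pullback.lift lj (ys j) e.symm, Limits.pullback.lift_snd _ _ _⟩

end Groth.Agent.S7191
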