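import Groth.Statements.S7192
import Groth.Agent.H54.WeightingLimit
-- import your own Groth.Agent.* helpers here

set_option autoImplicit false
universe u
open CategoryTheory AlgebraicGeometry
open FlatMor

namespace Groth.Agent.S7192

/-- Let Y = lim Y_i be a cofiltered limit of affine schemes and f₀ : X₀ → Y_{i₀} a quasi-finite morphism
of finite presentation between affine schemes, with base changes f : X → Y and f_i : X_i → Y_i. If w
is a weighting of f, then for some i → i₀ there is a weighting w_i of f_i which pulls back to w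
along X → X_i. -/
theorem result {I : Type u} [SmallCategory I] [IsCofiltered I]
    (D : I ⥤ Scheme.{u}) (c : Limits.Cone D) (hc : Limits.IsLimit c) [∀ i, IsAffine (D.obj i)]
    (i0 : I) {X0 X : Scheme.{u}} [IsAffine X0] (f0 : X0 ⟶ D.obj i0) [LocallyQuasiFinite f0] [LocallyOfFinitePresentation f0] [QuasiCompact f0]
    (f : X ⟶ c.pt) (pX : X ⟶ X0) (hX : IsPullback pX f f0 (c.π.app i0))
    (w : X → ℤ) (hw : MoreMor.IsWeighting f w) :
    ∃ (i : I) (a : i ⟶ i0) (Xi : Scheme.{u}) (fi : Xi ⟶ D.obj i) (pXi : Xi ⟶ X0) (g : X ⟶ Xi) (wi : Xi → ℤ),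
      IsPullback pXi fi f0 (D.map a) ∧ g ≫ fi = f ≫ c.π.app i ∧ g ≫ pXi = pX ∧
      MoreMor.IsWeighting fi wi ∧ ∀ x : X, wi (g x) = w x := by
  have : IsAffine c.pt := Scheme.isAffine_of_isLimit _ hc
  have : LocallyOfFiniteType f0 := inferInstance
  obtain ⟨k, u, hu, hk⟩ := H54.WeightingLimit.exists_stage_function hc f0 hX w hw
  let X1 := Limits.pullback f0 (D.map k.hom)
  let p1 : X ⟶ X1 := (Lib.Lim.Basic.bcCone hX.w).π.app k
  have hX1 : IsPullback p1 f (Limits.pullback.snd f0 (D.map k.hom)) (c.π.app k.left) :=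
    Lib.Lim.Basic.isPullback_bcCone_π hX k
  obtain ⟨l, hl⟩ := H54.WeightingLimit.exists_isWeighting hc hX1 u hu (hk ▸ hw)
  let f1 := Limits.pullback.snd f0 (D.map k.hom)
  refine ⟨l.left, l.hom ≫ k.hom, Limits.pullback f1 (D.map l.hom), Limits.pullback.snd f1 (D.map l.hom),
    Limits.pullback.fst f1 (D.map l.hom) ≫ Limits.pullback.fst f0 (D.map k.hom),
    (Lib.Lim.Basic.bcCone hX1.w).π.app l, _, ?_, Lib.Lim.Basic.bcCone_π_snd hX1.w l, ?_, hl, ?_⟩
  · rw [D.map_comp]
    exact (IsPullback.of_hasPullback f1 (D.map l.hom)).paste_horiz (IsPullback.of_hasPullback f0 (D.map k.hom))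
  · rw [← Category.assoc]
    exact (congrArg (· ≫ Limits.pullback.fst f0 (D.map k.hom)) (Lib.Lim.Basic.bcCone_π_fst hX1.w l)).trans
      (Lib.Lim.Basic.bcCone_π_fst hX.w k)
  · intro x
    exact (congrArg (fun m : X ⟶ X1 => u (m x)) (Lib.Lim.Basic.bcCone_π_fst hX1.w l)).trans (congrFun hk x)

end Groth.Agent.S7192
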