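import Groth.Statements.S7194
import Groth.Agent.Lib.WeilRep.Main

set_option autoImplicit false
universe u
open CategoryTheory AlgebraicGeometry
open FlatMor

namespace Groth.Agent.S7194

/-- For a finite locally free morphism Z → S and an affine morphism X → S, the functor on S-schemes
sending T to the set of S-morphisms T ×_S Z → X is represented by an S-scheme W whose structure
morphism W → S is affine. -/
theorem result {Z X S : Scheme.{u}} (g : Z ⟶ S) (f : X ⟶ S) (hg : Mor2.IsFinLocFree g) [IsAffineHom f] :
    ∃ W : Over S, IsAffineHom W.hom ∧ Nonempty ((Flatn.morS g f).RepresentableBy W) := by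
  obtain ⟨h1, h2, h3⟩ := hg
  exact Lib.WeilRep.Main.exists_affine_rep_hom g f

end Groth.Agent.S7194
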