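import Groth.Statements.S7196
import Groth.Agent.Lib.WeilRep.AFMor
import Groth.Agent.H54.IndQAff

set_option autoImplicit false
universe u
open CategoryTheory AlgebraicGeometry
open FlatMor

namespace Groth.Agent.S7196

/-- For Z → S finite locally free and X → S separated, locally of finite type and with discrete fibres
(locally quasi-finite), the functor T ↦ {S-morphisms T ×_S Z → X} on S-schemes is represented by
some S-scheme. -/
theorem result {Z X S : Scheme.{u}} (g : Z ⟶ S) (f : X ⟶ S) (hg : Mor2.IsFinLocFree g)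
    [IsSeparated f] [LocallyQuasiFinite f] [LocallyOfFiniteType f] :
    (Flatn.morS g f).IsRepresentable := by
  obtain ⟨h1, h2, h3⟩ := hg
  refine Lib.WeilRep.AFMor.isRepresentable g f fun s A hA hAs => ?_
  obtain ⟨V, hV, hsV, -⟩ := exists_isAffineOpen_mem_and_subset (X := S) (x := s) (U := ⊤) trivial
  have hAV : ∀ a : A, ∃ W : X.affineOpens, a.1 ∈ W.1 ∧ W.1 ≤ f ⁻¹ᵁ V := fun a => by
    obtain ⟨W, hW, haW, hWV⟩ := exists_isAffineOpen_mem_and_subset (X := X) (x := a.1) (U := f ⁻¹ᵁ V)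
      (show f a.1 ∈ V from (hAs a.1 a.2).symm ▸ hsV)
    exact ⟨⟨W, hW⟩, haW, hWV⟩
  choose W haW hWV using hAV
  haveI := hA.to_subtype
  let O : X.Opens := ⨆ a, (W a).1
  have hO : IsCompact (O : Set X) := by
    rw [TopologicalSpace.Opens.coe_iSup]
    exact isCompact_iUnion fun a => (W a).2.isCompact
  haveI : Scheme.IsQuasiAffine (O : Scheme.{u}) := H54.IndQAff.isIndQuasiAffineHom_le
    (H54.IndQAff.of_locallyQuasiFinite f) hV (iSup_le hWV) hO
  have hAO : A ⊆ O := fun a ha => TopologicalSpace.Opens.mem_iSup.2 ⟨⟨a, ha⟩, haW ⟨a, ha⟩⟩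
  let j := (O : Scheme.{u}).toSpecΓ
  let p : A → Spec Γ((O : Scheme.{u}), ⊤) := fun a => j ⟨a.1, hAO a.2⟩
  obtain ⟨r, hr, hAr⟩ := Lib.Ferrand.exists_basicOpen_finite_le
    (isAffineOpen_top (Spec Γ((O : Scheme.{u}), ⊤))) (Set.finite_range p) (Set.subset_univ _)
    j.opensRange (by rintro _ ⟨a, rfl⟩; exact ⟨_, rfl⟩)
  refine ⟨O.ι ''ᵁ (j ⁻¹ᵁ (Spec Γ((O : Scheme.{u}), ⊤)).basicOpen r),
    (((isAffineOpen_top _).basicOpen r).preimage_of_isOpenImmersion j hr).image_of_isOpenImmersion O.ι,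
    fun a ha => ⟨⟨a, hAO ha⟩, hAr ⟨⟨a, ha⟩, rfl⟩, rfl⟩⟩

end Groth.Agent.S7196
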