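import Groth.Statements.S7199
import Groth.Agent.Lib.Dim.Basic
import Mathlib.RingTheory.AlgebraicIndependent.Transcendental
import Mathlib.RingTheory.Ideal.KrullsHeightTheorem
import Mathlib.RingTheory.MvPolynomial.Basic
import Mathlib.Algebra.MvPolynomial.Funext
import Mathlib.RingTheory.Algebraic.Integral

set_option autoImplicit false
universe u
open FlatMor

namespace Groth.Agent.S7199

open MvPolynomial

variable {k A : Type u} [Field k] [CommRing A] [IsDomain A] [Algebra k A] [Algebra.FiniteType k A] {n : ℕ}

/-- Two functions cutting out a component of codimension two are not both algebraic over one function. -/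
theorem exists_not_algebraic (g : Fin n → A) (i₀ i₁ : Fin n) (M : A) (hM : Transcendental k M)
    (p : Ideal A) (hp : p ∈ (Ideal.span {g i₀, g i₁}).minimalPrimes)
    (hdim : ringKrullDim (A ⧸ p) + 2 = ringKrullDim A) :
    ∃ j, ¬ IsAlgebraic (Algebra.adjoin k {M}) (g j) := by
  by_contra hall
  push Not at hall
  have hpp : p.IsPrime := hp.1.1
  let R0 := Algebra.adjoin k {M}
  let T0 := Algebra.adjoin R0 ({g i₀, g i₁} : Set A)
  let T := T0.restrictScalars k
  have hTfg : T.FG := by
    refine Subalgebra.fg_def.2 ⟨{M} ∪ {g i₀, g i₁}, (Set.finite_singleton M).union (Set.toFinite _), ?_⟩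
    exact Algebra.adjoin_union_eq_adjoin_adjoin k {M} _
  have : Algebra.FiniteType k T := (Subalgebra.fg_iff_finiteType T).1 hTfg
  have : Algebra.FiniteType k T0 := this
  have halg : Algebra.IsAlgebraic R0 T0 := by
    refine ⟨fun z => ?_⟩
    have hle : T0 ≤ Subalgebra.algebraicClosure R0 A := Algebra.adjoin_le (by
      rintro _ (rfl | rfl)
      · exact hall i₀
      · exact hall i₁)
    have hz : IsAlgebraic R0 (algebraMap T0 A z) := hle z.2
    exact (isAlgebraic_algebraMap_iff Subtype.val_injective).1 hz
  have h1 : Algebra.trdeg k R0 = 1 := by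
    have hi : AlgebraicIndependent k ![M] := algebraicIndependent_unique_type_iff.2 (by simpa using hM)
    have e := hi.aevalEquiv
    have hR : Algebra.adjoin k (Set.range ![M]) = R0 := by simp [R0, Matrix.range_cons, Matrix.range_empty]
    have := (e.trans (Subalgebra.equivOfEq _ _ hR)).lift_trdeg_eq
    rw [MvPolynomial.trdeg_of_isDomain] at this
    simpa using this.symm
  have hT : ringKrullDim T0 ≤ 1 := by
    have h2 := trdeg_add_eq k R0 (A := T0)
    rw [trdeg_eq_zero (R := R0), add_zero, h1] at h2
    rw [Groth.Agent.Lib.Dim.Basic.ringKrullDim_eq_trdegNat k T0]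
    simp [Groth.Agent.Lib.Dim.Basic.trdegNat, ← h2]
  let q := p.comap (algebraMap T0 A)
  have hq : q.height ≤ 1 := by
    have := (Ideal.height_le_ringKrullDim_of_ne_top (‹p.IsPrime›.comap (algebraMap T0 A)).ne_top).trans hT
    exact_mod_cast this
  have : p.LiesOver q := ⟨rfl⟩
  have : IsNoetherianRing A := Algebra.FiniteType.isNoetherianRing k A
  have : IsNoetherianRing T0 := Algebra.FiniteType.isNoetherianRing k T0
  have hsub : Ideal.span {g i₀, g i₁} ≤ q.map (algebraMap T0 A) := by
    rw [Ideal.span_le]
    intro x hx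
    have hxT : x ∈ T0 := Algebra.subset_adjoin hx
    exact Ideal.mem_map_of_mem (algebraMap T0 A) (show (⟨x, hxT⟩ : T0) ∈ q from hp.1.2 (Ideal.subset_span hx))
  have h0 : (p.map (Ideal.Quotient.mk (q.map (algebraMap T0 A)))).height = 0 := by
    have hle : q.map (algebraMap T0 A) ≤ p := Ideal.map_comap_le
    have hmin : p ∈ (q.map (algebraMap T0 A)).minimalPrimes :=
      ⟨⟨hpp, hle⟩, fun r hr hrp => hp.2 ⟨hr.1, hsub.trans hr.2⟩ hrp⟩
    have : (p.map (Ideal.Quotient.mk (q.map (algebraMap T0 A)))).IsPrime :=
      Ideal.map_isPrime_of_surjective Ideal.Quotient.mk_surjective (by rwa [Ideal.mk_ker])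
    rw [Ideal.height_eq_zero_iff]
    have hm := hmin
    rw [Ideal.minimalPrimes_eq_comap] at hm
    obtain ⟨P, hP, hPp⟩ := hm
    rwa [← hPp, Ideal.map_comap_of_surjective _ Ideal.Quotient.mk_surjective]
  have h2 := Ideal.height_le_height_add_of_liesOver q p
  rw [h0, add_zero] at h2
  have h3 := Groth.Agent.Lib.Dim.Basic.height_add_dimQ k p
  have h4 := Groth.Agent.Lib.Dim.Basic.ringKrullDim_quotient_prime k p
  have h5 := Groth.Agent.Lib.Dim.Basic.ringKrullDim_eq_trdegNat k A
  rw [h4, h5] at hdim
  have h6 : Groth.Agent.Lib.Dim.Basic.dimQ k p + 2 = Groth.Agent.Lib.Dim.Basic.trdegNat k A := by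
    exact_mod_cast hdim
  obtain ⟨a, ha⟩ := ENat.ne_top_iff_exists.1 (ne_top_of_le_ne_top ENat.one_ne_top (h2.trans hq))
  rw [← ha, ← h6] at h3
  have ha1 : a ≤ 1 := by
    have := h2.trans hq
    rw [← ha] at this
    exact_mod_cast this
  have h7 : a + Groth.Agent.Lib.Dim.Basic.dimQ k p = Groth.Agent.Lib.Dim.Basic.dimQ k p + 2 := by
    exact_mod_cast h3
  omega

/-- A linear form with a transcendental coefficient is transcendental. -/
theorem linearForm_ne_zero (R0 : Subalgebra k A) [Infinite R0] (g : Fin n → A) (j : Fin n)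
    (hj : ¬ IsAlgebraic R0 (g j)) (Q : Polynomial (MvPolynomial (Fin n) R0))
    (hQ : Q ≠ 0) :
    Polynomial.eval₂ (MvPolynomial.map (algebraMap R0 A)) (∑ i, C (g i) * X i) Q ≠ 0 := by
  classical
  intro h0
  let δ : Fin n → R0 := Pi.single j 1
  let sh : MvPolynomial (Fin n) R0 →ₐ[R0] MvPolynomial (Fin n) R0 := aeval fun i => X i + C (δ i)
  let sh' : MvPolynomial (Fin n) R0 →ₐ[R0] MvPolynomial (Fin n) R0 := aeval fun i => X i - C (δ i)
  have hsh : sh'.comp sh = AlgHom.id R0 _ := by
    apply MvPolynomial.algHom_ext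
    intro i
    simp [sh, sh']
  have hlc : Q.leadingCoeff * sh Q.leadingCoeff ≠ 0 := by
    refine mul_ne_zero (Polynomial.leadingCoeff_ne_zero.2 hQ) fun h => Polynomial.leadingCoeff_ne_zero.2 hQ ?_
    have := congrArg sh' h
    rwa [map_zero, ← AlgHom.comp_apply, hsh] at this
  obtain ⟨a, ha⟩ : ∃ a : Fin n → R0, eval a (Q.leadingCoeff * sh Q.leadingCoeff) ≠ 0 := by
    by_contra hc
    push Not at hc
    exact hlc (MvPolynomial.funext fun a => by rw [hc a, map_zero])
  rw [map_mul, mul_ne_zero_iff] at ha
  have key : ∀ b : Fin n → R0, eval b Q.leadingCoeff ≠ 0 → IsAlgebraic R0 (∑ i, g i * (b i : A)) := by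
    intro b hb
    refine ⟨Q.map (eval b), fun h => hb ?_, ?_⟩
    · have := congrArg (fun q : Polynomial R0 => q.coeff Q.natDegree) h
      simpa using this
    · have := congrArg (eval (fun i => (b i : A))) h0
      rw [Polynomial.hom_eval₂, map_zero] at this
      rw [Polynomial.aeval_def, Polynomial.eval₂_map]
      have e1 : (algebraMap R0 A).comp (eval b) =
          (eval fun i => (b i : A)).comp (MvPolynomial.map (algebraMap R0 A)) :=
        MvPolynomial.ringHom_ext (fun r => by simp) (fun i => by simp)
      rw [e1, show (∑ i, g i * (b i : A)) = eval (fun i => (b i : A)) (∑ i, C (g i) * X i) by simp]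
      exact this
  have h1 := key a ha.1
  have h2 := key (a + δ) (by
    have e2 : (eval a).comp sh.toRingHom = eval (a + δ) :=
      MvPolynomial.ringHom_ext (fun r => by simp [sh]) (fun i => by simp [sh])
    rw [← e2]
    exact ha.2)
  have h3 := h2.sub h1
  rw [← Finset.sum_sub_distrib] at h3
  refine hj ?_
  convert h3 using 1
  rw [Finset.sum_eq_single j (fun i _ hi => by simp [δ, Pi.single_apply, hi]) (by simp)]
  simp [δ, mul_add]

/-- Take a field k, an integral domain A that is a finitely generated k-algebra, n ≥ 2 and g_1, …, g_n ∈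
A, and suppose some irreducible component of the common zero locus of g_1 and g_2 in Spec A has
dimension dim A − 2. Then for suitable c_1, …, c_n ∈ k the n + 2 elements x_1, …, x_n, Σ g_i x_i, Σ
c_i g_i of the rational function field Frac(A)(x_1, …, x_n) form an algebraically independent family
over k. -/
theorem result {k A : Type u} [Field k] [CommRing A] [IsDomain A] [Algebra k A]
    [Algebra.FiniteType k A] (m : ℕ) (g : Fin (m + 2) → A)
    (p : Ideal A) (hp : p ∈ (Ideal.span {g 0, g 1}).minimalPrimes) (hdim : ringKrullDim (A ⧸ p) + 2 = ringKrullDim A) :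
    ∃ c : Fin (m + 2) → k,
      AlgebraicIndependent k
        (Sum.elim
          (fun i : Fin (m + 2) => algebraMap (MvPolynomial (Fin (m + 2)) (FractionRing A)) (FractionRing (MvPolynomial (Fin (m + 2)) (FractionRing A))) (MvPolynomial.X i))
          ![∑ i, algebraMap A (FractionRing (MvPolynomial (Fin (m + 2)) (FractionRing A))) (g i) *
              algebraMap (MvPolynomial (Fin (m + 2)) (FractionRing A)) (FractionRing (MvPolynomial (Fin (m + 2)) (FractionRing A))) (MvPolynomial.X i),
            algebraMap A (FractionRing (MvPolynomial (Fin (m + 2)) (FractionRing A))) (∑ i, c i • g i)]) := by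
  classical
  have hpp : p.IsPrime := hp.1.1
  have hint : Function.Injective (algebraMap k A) := (algebraMap k A).injective
  obtain ⟨i₀, hi₀⟩ : ∃ i, Transcendental k (g i) := by
    by_contra hall
    push Not at hall
    have hz : ∀ i ∈ ({0, 1} : Set (Fin (m + 2))), g i = 0 := fun i hi => by
      by_contra hne
      have hai : IsAlgebraic k (g i) := by
        by_contra h; exact hall i h
      have := hai.isIntegral
      obtain ⟨u, hu⟩ : IsUnit (g i) := by
        have h2 : Algebra.IsIntegral k (Algebra.adjoin k {g i}) :=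
          Algebra.IsIntegral.adjoin (by simpa using this)
        have : IsField (Algebra.adjoin k {g i}) := isField_of_isIntegral_of_isField' (Field.toIsField k)
        obtain ⟨b, hb⟩ := this.mul_inv_cancel (a := ⟨g i, Algebra.subset_adjoin rfl⟩) (fun h => hne (congrArg Subtype.val h))
        exact IsUnit.of_mul_eq_one _ (congrArg Subtype.val hb)
      refine hpp.ne_top (p.eq_top_of_isUnit_mem (x := g i) (hp.1.2 (Ideal.subset_span ?_)) ⟨u, hu⟩)
      rcases hi with rfl | rfl <;> simp
    have hbot : p = ⊥ := by
      refine le_bot_iff.1 (hp.2 ⟨Ideal.isPrime_bot, ?_⟩ bot_le)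
      simp [Ideal.span_le, hz 0 (by simp), hz 1 (by simp)]
    rw [hbot, ringKrullDim_eq_of_ringEquiv (RingEquiv.quotientBot A)] at hdim
    have h5 := Groth.Agent.Lib.Dim.Basic.ringKrullDim_eq_trdegNat k A
    rw [h5] at hdim
    have : Groth.Agent.Lib.Dim.Basic.trdegNat k A + 2 = Groth.Agent.Lib.Dim.Basic.trdegNat k A := by
      exact_mod_cast hdim
    omega
  let M := g i₀
  obtain ⟨j, hj⟩ := exists_not_algebraic g 0 1 M hi₀ p hp hdim
  let R0 := Algebra.adjoin k {M}
  have : Infinite R0 := by
    have : Transcendental k (⟨M, Algebra.subset_adjoin rfl⟩ : R0) :=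
      (transcendental_algebraMap_iff (R := k) (A := A) Subtype.val_injective).1 hi₀
    exact Infinite.of_injective _ (transcendental_iff_injective.1 this)
  refine ⟨Pi.single i₀ 1, ?_⟩
  let S := MvPolynomial (Fin (m + 2)) R0
  let P := MvPolynomial (Fin (m + 2)) A
  let : Algebra S P := (MvPolynomial.map (algebraMap R0 A)).toAlgebra
  have : IsScalarTower k S P := IsScalarTower.of_algebraMap_eq fun r => by
    change _ = MvPolynomial.map (algebraMap R0 A) (C (algebraMap k R0 r))
    rw [MvPolynomial.map_C]; rfl
  have hM0 : AlgebraicIndependent k ![(⟨M, Algebra.subset_adjoin rfl⟩ : R0)] :=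
    algebraicIndependent_unique_type_iff.2
      (by simpa using (transcendental_algebraMap_iff (R := k) (A := A) (S := R0) Subtype.val_injective).1 hi₀)
  have hin := hM0.sumElim_comp (MvPolynomial.algebraicIndependent_X (Fin (m + 2)) R0)
  have hL : AlgebraicIndependent S ![(∑ i, C (g i) * X i : P)] := by
    refine algebraicIndependent_unique_type_iff.2 ?_
    rw [transcendental_iff]
    intro Q hQ
    by_contra hne
    exact linearForm_ne_zero R0 g j hj Q hne ((Polynomial.aeval_def _ _).symm.trans hQ)
  have hall := hin.sumElim_comp hL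
  let e : Fin (m + 2) ⊕ Fin 2 → Fin 1 ⊕ (Fin (m + 2) ⊕ Fin 1) :=
    Sum.elim (fun i => .inr (.inl i)) ![.inl 0, .inr (.inr 0)]
  have he : Function.Injective e := by
    refine Function.Injective.sumElim (fun a b h => by simpa using h) ?_ ?_
    · intro a b h; fin_cases a <;> fin_cases b <;> simp_all
    · intro a b; fin_cases b <;> simp
  let ι : P →ₐ[k] FractionRing (MvPolynomial (Fin (m + 2)) (FractionRing A)) :=
    (IsScalarTower.toAlgHom k (MvPolynomial (Fin (m + 2)) (FractionRing A)) _).comp
      (MvPolynomial.mapAlgHom (IsScalarTower.toAlgHom k A (FractionRing A)))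
  have hι : Function.Injective ι := fun a b h => MvPolynomial.map_injective _
    (IsFractionRing.injective A (FractionRing A))
    (IsFractionRing.injective (MvPolynomial (Fin (m + 2)) (FractionRing A))
      (FractionRing (MvPolynomial (Fin (m + 2)) (FractionRing A))) h)
  have hfin := (hall.comp e he).map' hι
  convert hfin using 1
  funext z
  have hC : ∀ a : A, ι (C a) = algebraMap A _ a := fun a => by
    rw [IsScalarTower.algebraMap_apply A (MvPolynomial (Fin (m + 2)) (FractionRing A))]
    change algebraMap (MvPolynomial (Fin (m + 2)) (FractionRing A)) _ (MvPolynomial.map (algebraMap A (FractionRing A)) (C a)) = _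
    rw [MvPolynomial.map_C, ← MvPolynomial.algebraMap_eq, ← IsScalarTower.algebraMap_apply A (FractionRing A)]
  have hX : ∀ i, ι (X i) = algebraMap (MvPolynomial (Fin (m + 2)) (FractionRing A)) (FractionRing (MvPolynomial (Fin (m + 2)) (FractionRing A))) (X i) := fun i => by
    change algebraMap (MvPolynomial (Fin (m + 2)) (FractionRing A)) _ (MvPolynomial.map (algebraMap A (FractionRing A)) (X i)) = _
    rw [MvPolynomial.map_X]
  have hmX : ∀ i, (MvPolynomial.map (algebraMap R0 A) (X i) : P) = X i := fun i => MvPolynomial.map_X _ i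
  have hmC : ∀ r : R0, (MvPolynomial.map (algebraMap R0 A) (C r) : P) = C (r : A) := fun r => MvPolynomial.map_C _ r
  rcases z with i | z
  · simp only [e, Function.comp_def, Sum.elim_inl, Sum.elim_inr, RingHom.algebraMap_toAlgebra]
    rw [hmX, hX]
  · fin_cases z
    · simp [e, Function.comp_def, map_sum, hC, hX]
    · simp only [e, Function.comp_def, Sum.elim_inr, Matrix.cons_val_one, Matrix.cons_val_zero, Sum.elim_inl,
        RingHom.algebraMap_toAlgebra, Fin.mk_one, MvPolynomial.algebraMap_eq]
      rw [hmC, hC]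
      simp [M, Pi.single_apply, ite_smul]

end Groth.Agent.S7199
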