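import Groth.Statements.S7200
import Groth.Agent.H22.GeomIrrRatFunc

set_option autoImplicit false
universe u
open FlatMor

namespace Groth.Agent.S7200

open AlgebraicGeometry in
/-- Suppose K/k is a finitely generated field extension with K geometrically irreducible over k; let n ≥
1 and g_1, …, g_n ∈ K, and suppose some c ∈ kⁿ makes the n + 2 elements x_1, …, x_n, ξ = Σ g_i x_i,
Σ c_i g_i of Ω = K(x_1, …, x_n) algebraically independent over k. Then Ω remains geometrically
irreducible over its subfield generated over k by x_1, …, x_n and ξ. -/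
theorem result {k K : Type u} [Field k] [Field K] [Algebra k K]
    (hfg : (⊤ : IntermediateField k K).FG)
    [GeometricallyIrreducible (Spec.map (CommRingCat.ofHom (algebraMap k K)))]
    (m : ℕ) (g : Fin (m + 1) → K) (c : Fin (m + 1) → k)
    (hind : AlgebraicIndependent k
      (Sum.elim
        (fun i : Fin (m + 1) => algebraMap (MvPolynomial (Fin (m + 1)) K) (FractionRing (MvPolynomial (Fin (m + 1)) K)) (MvPolynomial.X i))
        ![∑ i, algebraMap K (FractionRing (MvPolynomial (Fin (m + 1)) K)) (g i) * algebraMap (MvPolynomial (Fin (m + 1)) K) (FractionRing (MvPolynomial (Fin (m + 1)) K)) (MvPolynomial.X i),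
          algebraMap K (FractionRing (MvPolynomial (Fin (m + 1)) K)) (∑ i, c i • g i)])) :
    GeometricallyIrreducible (Spec.map (CommRingCat.ofHom (algebraMap
      ↥(IntermediateField.adjoin k
        (Set.range (fun i : Fin (m + 1) => algebraMap (MvPolynomial (Fin (m + 1)) K) (FractionRing (MvPolynomial (Fin (m + 1)) K)) (MvPolynomial.X i)) ∪
          {∑ i, algebraMap K (FractionRing (MvPolynomial (Fin (m + 1)) K)) (g i) * algebraMap (MvPolynomial (Fin (m + 1)) K) (FractionRing (MvPolynomial (Fin (m + 1)) K)) (MvPolynomial.X i)}))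
      (FractionRing (MvPolynomial (Fin (m + 1)) K))))) := by
  classical
  let R := MvPolynomial (Fin (m + 1)) K
  let Ω := FractionRing R
  let x : Fin (m + 1) → Ω := fun i => algebraMap R Ω (MvPolynomial.X i)
  let η : Ω := algebraMap K Ω (∑ i, c i • g i)
  let ξ : Ω := ∑ i, algebraMap K Ω (g i) * x i
  have hk : separableClosure k K = ⊥ := Groth.Agent.H22.GIRat.separableClosure_eq_bot
  have hxK : AlgebraicIndependent K x :=
    (MvPolynomial.algebraicIndependent_X (Fin (m + 1)) K).map'
      (f := IsScalarTower.toAlgHom K R Ω) (IsFractionRing.injective R Ω)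
  have hι : ∀ a : K, algebraMap R Ω (MvPolynomial.C a) = algebraMap K Ω a := fun a =>
    (IsScalarTower.algebraMap_apply K R Ω a).symm
  have hη : η ≠ 0 := hind.ne_zero (Sum.inr 1)
  obtain ⟨a, ha⟩ : ∃ a, c a ≠ 0 := by
    by_contra! hc
    exact hη (by simp [η, hc])
  obtain ⟨b, hb⟩ : ∃ b, b ≠ a := by
    by_contra! hall
    have : Subsingleton (Fin (m + 1)) := ⟨fun p q => (hall p).trans (hall q).symm⟩
    have hξ : ξ = algebraMap K Ω (g a) * x a := Fintype.sum_subsingleton _ a
    have hη' : η = algebraMap K Ω (c a • g a) := by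
      simp only [η]; rw [Fintype.sum_subsingleton _ a]
    let P : MvPolynomial (Fin (m + 1) ⊕ Fin 2) k :=
      MvPolynomial.X (Sum.inr 1) * MvPolynomial.X (Sum.inl a) -
        MvPolynomial.C (c a) * MvPolynomial.X (Sum.inr 0)
    have hP : MvPolynomial.aeval (Sum.elim x ![ξ, η]) P = 0 := by
      simp [P, hξ, hη', Algebra.smul_def, ← IsScalarTower.algebraMap_apply, mul_assoc]
    have h0 := hind.eq_zero_of_aeval_eq_zero P hP
    have := congrArg (MvPolynomial.eval fun i => if i = Sum.inr 0 then (1 : k) else 0) h0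
    simp [P, ha] at this
  let F0 : IntermediateField k Ω := IntermediateField.adjoin k (Set.range x)
  let y : R := MvPolynomial.C (algebraMap k K (c a)) * MvPolynomial.X b -
    MvPolynomial.C (algebraMap k K (c b)) * MvPolynomial.X a
  have hyh : y.IsHomogeneous 1 := by
    refine MvPolynomial.IsHomogeneous.sub ?_ ?_ <;>
      exact MvPolynomial.IsHomogeneous.C_mul (MvPolynomial.isHomogeneous_X _ _) _
  have hy0 : y ≠ 0 := fun h => by
    have := congrArg (MvPolynomial.eval fun i => if i = b then (1 : K) else 0) h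
    simp [y, hb.symm, ha] at this
  let φ : ℕ → R →ₐ[K] R := fun j => MvPolynomial.aeval fun i =>
    MvPolynomial.X i + MvPolynomial.C (algebraMap k K (c i)) * y ^ j
  let φ' : ℕ → R →ₐ[K] R := fun j => MvPolynomial.aeval fun i =>
    MvPolynomial.X i - MvPolynomial.C (algebraMap k K (c i)) * y ^ j
  have hCφ : ∀ j (r : K), φ j (MvPolynomial.C r) = MvPolynomial.C r := fun j r =>
    MvPolynomial.aeval_C _ r
  have hCφ' : ∀ j (r : K), φ' j (MvPolynomial.C r) = MvPolynomial.C r := fun j r =>
    MvPolynomial.aeval_C _ r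
  have hXφ : ∀ j i, φ j (MvPolynomial.X i) = MvPolynomial.X i +
      MvPolynomial.C (algebraMap k K (c i)) * y ^ j := fun j i => MvPolynomial.aeval_X _ i
  have hXφ' : ∀ j i, φ' j (MvPolynomial.X i) = MvPolynomial.X i -
      MvPolynomial.C (algebraMap k K (c i)) * y ^ j := fun j i => MvPolynomial.aeval_X _ i
  have hyφ : ∀ j, φ j y = y := fun j => by
    simp only [y, map_sub, map_mul, hCφ, hXφ]; ring
  have hyφ' : ∀ j, φ' j y = y := fun j => by
    simp only [y, map_sub, map_mul, hCφ', hXφ']; ring
  have h12 : ∀ j, (φ j).comp (φ' j) = AlgHom.id K R := fun j => MvPolynomial.algHom_ext fun i => by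
    simp [hXφ', hXφ, hCφ, hyφ]; rfl
  have h21 : ∀ j, (φ' j).comp (φ j) = AlgHom.id K R := fun j => MvPolynomial.algHom_ext fun i => by
    simp [hXφ', hXφ, hCφ', hyφ']; rfl
  let τ : ℕ → Ω ≃ₐ[K] Ω := fun j =>
    IsFractionRing.fieldEquivOfAlgEquiv K Ω Ω (AlgEquiv.ofAlgHom (φ j) (φ' j) (h12 j) (h21 j))
  have hτR : ∀ j (r : R), τ j (algebraMap R Ω r) = algebraMap R Ω (φ j r) := fun j r =>
    IsFractionRing.fieldEquivOfAlgEquiv_algebraMap K Ω Ω _ r
  let T : ℕ → Ω := fun j => algebraMap R Ω y ^ j
  have hyF0 : algebraMap R Ω y ∈ F0 := by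
    simp only [y, map_sub, map_mul, hι, ← IsScalarTower.algebraMap_apply k K Ω]
    exact sub_mem (mul_mem (F0.algebraMap_mem _) (IntermediateField.subset_adjoin k _ ⟨b, rfl⟩))
      (mul_mem (F0.algebraMap_mem _) (IntermediateField.subset_adjoin k _ ⟨a, rfl⟩))
  have hτx : ∀ j i, τ j (x i) = x i + algebraMap k Ω (c i) * T j := fun j i => by
    simp only [x, hτR, hXφ, map_add, map_mul, map_pow, hι, T,
      ← IsScalarTower.algebraMap_apply k K Ω]
  have hτT : ∀ j, τ j (T j) = T j := fun j => by
    simp only [T, map_pow, hτR, hyφ]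
  have hTinj : Function.Injective T := fun j l h => by
    have h' : y ^ j = y ^ l := IsFractionRing.injective R Ω (by simpa [T, map_pow] using h)
    have h1 := hyh.pow j
    have h2 := hyh.pow l
    rw [h'] at h1
    simpa using h1.inj_right h2 (pow_ne_zero l hy0)
  have hσF : ∀ j, F0.map ((τ j).restrictScalars k).toAlgHom = F0 := fun j => by
    refine le_antisymm ?_ ?_
    · rw [IntermediateField.adjoin_map, IntermediateField.adjoin_le_iff]
      rintro _ ⟨_, ⟨i, rfl⟩, rfl⟩
      show τ j (x i) ∈ F0
      rw [hτx]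
      exact add_mem (IntermediateField.subset_adjoin k _ ⟨i, rfl⟩)
        (mul_mem (F0.algebraMap_mem _) (pow_mem hyF0 j))
    · rw [IntermediateField.adjoin_le_iff]
      rintro _ ⟨i, rfl⟩
      have hmem : x i - algebraMap k Ω (c i) * T j ∈ F0 :=
        sub_mem (IntermediateField.subset_adjoin k _ ⟨i, rfl⟩)
          (mul_mem (F0.algebraMap_mem _) (pow_mem hyF0 j))
      refine ⟨x i - algebraMap k Ω (c i) * T j, hmem, ?_⟩
      show τ j _ = _
      rw [map_sub, map_mul, hτx, hτT, IsScalarTower.algebraMap_apply k K Ω, AlgEquiv.commutes]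
      simp
  have hfgΩ : (⊤ : IntermediateField k Ω).FG := by
    have : Algebra.EssFiniteType k K := IntermediateField.fg_top_iff.mp hfg
    have : Algebra.EssFiniteType R Ω := Algebra.EssFiniteType.of_isLocalization Ω (nonZeroDivisors R)
    have : Algebra.EssFiniteType k R := Algebra.EssFiniteType.comp k K R
    have : Algebra.EssFiniteType k Ω := Algebra.EssFiniteType.comp k R Ω
    exact IntermediateField.fg_top_iff.mpr this
  have h0 : ∀ e, IsSeparable F0 e → e ∈ F0 := fun e he => by
    have huniv : x '' ((Finset.univ : Finset (Fin (m + 1))) : Set (Fin (m + 1))) = Set.range x := by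
      simp [Set.image_univ]
    have htop : IntermediateField.adjoin K (Set.range x) = ⊤ := by
      refine eq_top_iff.mpr fun z _ => ?_
      obtain ⟨p, q, -, rfl⟩ := IsFractionRing.div_surjective (A := R) z
      have hmem : ∀ r : R, algebraMap R Ω r ∈ IntermediateField.adjoin K (Set.range x) := fun r => by
        induction r using MvPolynomial.induction_on with
        | C r => rw [hι]; exact IntermediateField.algebraMap_mem _ r
        | add p q hp hq => rw [map_add]; exact add_mem hp hq
        | mul_X p i hp =>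
          rw [map_mul]; exact mul_mem hp (IntermediateField.subset_adjoin K _ ⟨i, rfl⟩)
      exact div_mem (hmem p) (hmem q)
    have := Groth.Agent.H22.GIRat.mem_adjoin_of_isSeparable (k := k) hxK hk Finset.univ e
    rw [huniv, htop] at this
    exact this IntermediateField.mem_top he
  have hFeq : IntermediateField.adjoin k ((F0 : Set Ω) ∪ {ξ}) =
      IntermediateField.adjoin k (Set.range x ∪ {ξ}) := by
    simp only [F0]
    rw [← IntermediateField.restrictScalars_adjoin, IntermediateField.adjoin_adjoin_left]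
  have hηtr : Transcendental (IntermediateField.adjoin k ((F0 : Set Ω) ∪ {ξ})) η := by
    rw [hFeq]
    have h := Groth.Agent.H22.GIRat.transcendental_adjoin_of_algebraicIndependent hind
      (s := Set.range Sum.inl ∪ {Sum.inr 0}) (i := Sum.inr 1) (by simp)
    have himg : (Sum.elim x ![ξ, η]) '' (Set.range Sum.inl ∪ {Sum.inr 0}) =
        Set.range x ∪ {ξ} := by
      rw [Set.image_union, Set.image_singleton, ← Set.range_comp]
      rfl
    rw [show Set.range x ∪ {ξ} = _ from himg.symm]
    exact h
  refine Groth.Agent.H22.GIRat.geometricallyIrreducible_of_separableClosure_eq_bot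
    (bot_unique fun w hw => ?_)
  have hw' : IsSeparable (IntermediateField.adjoin k ((F0 : Set Ω) ∪ {ξ})) w :=
    Groth.Agent.H22.GIRat.isSeparable_congr hFeq.symm (mem_separableClosure_iff.mp hw)
  have hσξ : ∀ j, ((τ j).restrictScalars k) ξ = ξ + T j * η := fun j => by
    show τ j ξ = _
    simp only [ξ, η, map_sum, map_mul, AlgEquiv.commutes, hτx, Algebra.smul_def, mul_add,
      Finset.sum_add_distrib, Finset.mul_sum, ← IsScalarTower.algebraMap_apply k K Ω]
    congr 1
    exact Finset.sum_congr rfl fun i _ => by ring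
  have key := Groth.Agent.H22.GIRat.mem_of_isSeparable_of_translations F0 hfgΩ h0 ξ η T
    (fun j => pow_mem hyF0 j) hTinj (fun j => (τ j).restrictScalars k) hσF hσξ
    (fun j => (τ j).commutes _) hηtr hw'
  rw [hFeq] at key
  exact IntermediateField.mem_bot.mpr ⟨⟨w, key⟩, rfl⟩

end Groth.Agent.S7200
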