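import Groth.Statements.S7204
import Groth.Agent.Lib.ColimLocal99
-- import your own Groth.Agent.* helpers here

set_option autoImplicit false
universe w u
open FlatMor

namespace Groth.Agent.S7204

open AlgebraicGeometry CategoryTheory Limits in
/-- Let (X_i)_{i ∈ I} be a diagram of schemes and (W, X_i → W) a cocone under it. If there is an fpqc
covering {W_a → W} such that each W_a is the colimit (in schemes) of the base-changed diagram (X_i
×_W W_a), and each W_a ×_W W_b is the colimit of (X_i ×_W W_a ×_W W_b), then W is the colimit of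
(X_i) in the category of schemes. -/
theorem result {J : Type u} [SmallCategory J] (D : J ⥤ Scheme.{u}) (c : Cocone D)
    (F : PreZeroHypercover.{w} c.pt) (hF : F.presieve₀ ∈ Scheme.fpqcPrecoverage c.pt)
    (h1 : ∀ a : F.I₀, Nonempty (IsColimit ((Over.forgetCocone (F.X a)).whisker
      (D.toOver c.pt (fun j => c.ι.app j) (fun g => c.w g) ⋙ Over.pullback (F.f a)))))
    (h2 : ∀ a b : F.I₀, Nonempty (IsColimit ((Over.forgetCocone (pullback (F.f a) (F.f b))).whisker
      (D.toOver c.pt (fun j => c.ι.app j) (fun g => c.w g) ⋙ Over.pullback (pullback.fst (F.f a) (F.f b) ≫ F.f a))))) :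
    Nonempty (IsColimit c) := by
  exact Groth.Agent.ColimLocal99.nonempty_isColimit c Scheme.fpqcPrecoverage F hF h1 h2

end Groth.Agent.S7204
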