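import Groth.Statements.S7213
import Groth.Agent.H56.RelPC.Rules

set_option autoImplicit false
universe u
open CategoryTheory CategoryTheory.Limits AlgebraicGeometry Opposite TopologicalSpace
attribute [local instance] HasDerivedCategory.standard
open FlatMor

namespace Groth.Agent.S7213

/-- Let f : X ⟶ S be a morphism of schemes, m an integer, and E ∈ D(O_X) such that E is
m-pseudo-coherent with respect to the morphism f (chart form; in particular f is locally of finite
type). Then for every integer i > m the cohomology sheaf H^i(E) is a quasi-coherent O_X-module. -/
theorem result {X S : Scheme.{u}} (f : X ⟶ S) (m : ℤ) (E : DCoh.D X)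
    (hE : DerSch.IsPseudoCoherentRel f m E) (i : ℤ) (hi : m < i) : Coh.IsQCoh (DCoh.HD E i) := by
  exact Groth.Agent.H56.RelPC.isQCoh_homology hE i hi

end Groth.Agent.S7213
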