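import Groth.Statements.S7214
import Groth.Agent.S0888


set_option autoImplicit false
universe u
open CategoryTheory CategoryTheory.Limits AlgebraicGeometry Opposite TopologicalSpace
attribute [local instance] HasDerivedCategory.standard
open FlatMor

namespace Groth.Agent.S7214

/-- Let f : X ⟶ S be a morphism of schemes, m an integer, and E, K objects of D(O_X). If the direct sum
E ⊕ K is m-pseudo-coherent relative to f (chart form; in particular f is locally of finite type),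
then so are E and K. -/
theorem result {X S : Scheme.{u}} (f : X ⟶ S) (m : ℤ) (E K : DCoh.D X)
    [HasBinaryBiproduct E K] (h : DerSch.IsPseudoCoherentRel f m (E ⊞ K)) :
    DerSch.IsPseudoCoherentRel f m E ∧ DerSch.IsPseudoCoherentRel f m K := by
  obtain ⟨hlft, 𝒱, h𝒱, h⟩ := h
  have key : ∀ {V : S.affineOpens} {U : X.affineOpens} {n : ℕ}
      (φ : MvPolynomial (Fin n) Γ(S, (V : S.Opens)) →+* Γ(X, (U : X.Opens))),
      DerSch.ChartPC m (E ⊞ K) (U : X.Opens) (V : S.Opens) φ →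
      DerSch.ChartPC m E (U : X.Opens) (V : S.Opens) φ ∧
        DerSch.ChartPC m K (U : X.Opens) (V : S.Opens) φ := by
    intro V U n φ hφ
    let F := DCoh.restrictCx (U : X.Opens) ⋙ DerSch.pushCx (DerSch.chartImm (U : X.Opens) φ) ⋙
      DerivedCategory.Q
    have main : ∀ G H : CochainComplex X.Modules ℤ, Nonempty (DCoh.toD X G ≅ E) →
        Nonempty (DCoh.toD X H ≅ K) →
        DCoh.IsPseudoCoherentD m (F.obj G) ∧ DCoh.IsPseudoCoherentD m (F.obj H) := by
      rintro G H ⟨eG⟩ ⟨eH⟩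
      have : PreservesBinaryBiproduct G H (DerivedCategory.Q (C := X.Modules)) :=
        preservesBinaryBiproduct_of_preservesBiproduct _ _ _
      have : PreservesBinaryBiproduct G H F := preservesBinaryBiproduct_of_preservesBiproduct _ _ _
      have h1 := hφ (G ⊞ H) ⟨DerivedCategory.Q.mapBiprod G H ≪≫ biprod.mapIso eG eH⟩
      refine Groth.Agent.S0888.result m _ _ ?_
      exact (Groth.Agent.Lib.Perfect.PseudoCoh.iff_forall _ _).2 fun x =>
        ((Groth.Agent.Lib.Perfect.PseudoCoh.iff_forall _ _).1 h1 x).of_iso (F.mapBiprod G H)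
    refine ⟨fun G hG => (main G _ hG ⟨DerivedCategory.Q.objObjPreimageIso K⟩).1, fun H hH =>
      (main _ H ⟨DerivedCategory.Q.objObjPreimageIso E⟩ hH).2⟩
  refine ⟨⟨hlft, 𝒱, h𝒱, fun V hV => ?_⟩, ⟨hlft, 𝒱, h𝒱, fun V hV => ?_⟩⟩ <;>
    obtain ⟨𝒰, h𝒰, hU⟩ := h V hV <;>
    refine ⟨𝒰, h𝒰, fun U hU' hUV => ?_⟩ <;>
    obtain ⟨n, φ, hc, hpc⟩ := hU U hU' hUV
  · exact ⟨n, φ, hc, (key φ hpc).1⟩
  · exact ⟨n, φ, hc, (key φ hpc).2⟩


end Groth.Agent.S7214
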