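import Groth.Statements.S7217
import Groth.Agent.H56.RelPC.Charts

set_option autoImplicit false
universe u
open CategoryTheory CategoryTheory.Limits AlgebraicGeometry Opposite TopologicalSpace
attribute [local instance] HasDerivedCategory.standard
open FlatMor

namespace Groth.Agent.S7217

/-- Let f : X ⟶ S be a morphism of schemes, U ⊆ X and V ⊆ S affine opens with f(U) ⊆ V such that Γ(S, V)
→ Γ(X, U) is of finite type, E an object of D(O_X), m an integer, and g_1, …, g_k ∈ Γ(X, U) elements
generating the unit ideal, so that the basic opens D(g_j) form a standard affine open covering of U.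
Then the following are equivalent: for every j there is a surjection from a polynomial ring Γ(S,
V)[x_1, …, x_n] onto Γ(X, D(g_j)), compatible with f, along whose closed immersion into affine space
over V the direct image of E restricted to D(g_j) is m-pseudo-coherent; there is such a surjection
onto Γ(X, U) along whose closed immersion the direct image of E|_U is m-pseudo-coherent. -/
theorem result {X S : Scheme.{u}} (f : X ⟶ S) (U : X.affineOpens)
    (V : S.affineOpens) (h : (U : X.Opens) ≤ f ⁻¹ᵁ (V : S.Opens))
    (hft : (f.appLE (V : S.Opens) (U : X.Opens) h).hom.FiniteType) (m : ℤ) (E : DCoh.D X)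
    {k : ℕ} (g : Fin k → Γ(X, (U : X.Opens))) (hg : Ideal.span (Set.range g) = ⊤) :
    (∀ j : Fin k, ∃ (n : ℕ) (φ : MvPolynomial (Fin n) Γ(S, (V : S.Opens)) →+* Γ(X, X.basicOpen (g j))),
        DerSch.IsChart f (X.basicOpen (g j)) (V : S.Opens) ((X.basicOpen_le (g j)).trans h) φ ∧
          DerSch.ChartPC m E (X.basicOpen (g j)) (V : S.Opens) φ) ↔
      ∃ (n : ℕ) (φ : MvPolynomial (Fin n) Γ(S, (V : S.Opens)) →+* Γ(X, (U : X.Opens))),
        DerSch.IsChart f (U : X.Opens) (V : S.Opens) h φ ∧ DerSch.ChartPC m E (U : X.Opens) (V : S.Opens) φ := by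
  open Groth.Agent.H56.RelPC in
  simp only [exists_chart_iff (U.2.basicOpen _), exists_chart_iff U.2]
  constructor
  · intro H
    algebraize [(f.appLE (V : S.Opens) (U : X.Opens) h).hom]
    obtain ⟨n, φ, hφ⟩ := Algebra.FiniteType.iff_quotient_mvPolynomial''.1 ‹_›
    refine hasTest_of_locally U.2 (φ := φ.toRingHom) hφ (RingHom.ext fun r => φ.commutes r)
      fun z hz => ?_
    have hz' : z ∈ ⨆ j : Set.range g, X.basicOpen j.1 := (U.2.self_le_iSup_basicOpen_iff.2 hg) hz
    simp only [TopologicalSpace.Opens.mem_iSup] at hz'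
    obtain ⟨⟨_, j, rfl⟩, hj⟩ := hz'
    exact ⟨g j, hj, H j⟩
  · exact fun hT j => hT.basicOpen U.2 (g j)

end Groth.Agent.S7217
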