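import Groth.Statements.S7222
import Groth.Agent.Lib.NLSheaf.Derived

set_option autoImplicit false
universe u
open CategoryTheory CategoryTheory.Limits TensorProduct
attribute [local instance] HasDerivedCategory.standard
open FlatMor

namespace Groth.Agent.S7222

/-- Let A → B and A → A' be ring homomorphisms and B' an algebra over A' and over B making the square
cocartesian, B' = B ⊗_A A'. If B is flat over A, then the canonical chain map NL_{B/A} ⊗_B B' →
NL_{B'/A'} (for the presentations by the polynomial algebras on all elements) is a
quasi-isomorphism. If moreover NL_{B/A} has tor-amplitude in [-1, 0], then, the derived base change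
functor along B → B' being assumed to exist, NL_{B/A} ⊗^L_B B' is isomorphic to NL_{B'/A'} in D(B')
(existence of an isomorphism only: the derived comparison map is not named here). -/
theorem result (A B A' B' : Type u) [CommRing A] [CommRing B]
    [CommRing A'] [CommRing B'] [Algebra A B] [Algebra A' B'] [Algebra A A'] [Algebra B B'] [Algebra A B']
    [IsScalarTower A A' B'] [IsScalarTower A B B'] [Algebra.IsPushout A A' B B'] [Module.Flat A B] :
    QuasiIso (NLCx.bcMapSelf A B A' B') ∧
      (DRing.HasTorAmplitudeIn B (-1) 0 (LCI.NL A B) → ∀ [DRing.HasLBaseChange (algebraMap B B')],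
        Nonempty ((DRing.LBaseChange (algebraMap B B')).obj (LCI.NL A B) ≅ LCI.NL A' B')) := by
  exact ⟨Groth.Agent.Lib.NLSheaf.Derived.quasiIso_bcMapSelf (A := A) (B := B) (A' := A') (B' := B'), fun h _ =>
    Groth.Agent.Lib.NLSheaf.Derived.nonempty_LBaseChange_iso (A := A) (B := B) (A' := A') (B' := B') h⟩

end Groth.Agent.S7222
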