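import Groth.Statements.S7223
import Groth.Agent.Lib.NLSheaf.LciKer

set_option autoImplicit false
universe u
open CategoryTheory CategoryTheory.Limits TensorProduct
attribute [local instance] HasDerivedCategory.standard
open FlatMor

namespace Groth.Agent.S7223

/-- Let A → B and A → A' be ring homomorphisms and B' an algebra over A' and over B making the square
cocartesian, B' = B ⊗_A A'. If A → B and A' → B' are both local complete intersection homomorphisms
(of finite type, with Koszul-regular kernel for a polynomial presentation), then the kernel of the
canonical map H^{-1}(NL_{B/A} ⊗_B B') → H^{-1}(NL_{B'/A'}) (presentations on all elements) is a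
finite projective B'-module. -/
theorem result (A B A' B' : Type u) [CommRing A] [CommRing B]
    [CommRing A'] [CommRing B'] [Algebra A B] [Algebra A' B'] [Algebra A A'] [Algebra B B'] [Algebra A B']
    [IsScalarTower A A' B'] [IsScalarTower A B B'] [Algebra.IsPushout A A' B B']
    (hB : LCI.IsLCI A B) (hB' : LCI.IsLCI A' B') :
    Module.Finite B' (LinearMap.ker (NLCx.bcH1Map
        ((Algebra.Generators.self A B).defaultHom (Algebra.Generators.self A' B')).toExtensionHom)) ∧
      Module.Projective B' (LinearMap.ker (NLCx.bcH1Map
        ((Algebra.Generators.self A B).defaultHom (Algebra.Generators.self A' B')).toExtensionHom)) := by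
  exact Groth.Agent.Lib.NLSheaf.LciKer.finite_projective_ker_bcH1Map hB hB'

end Groth.Agent.S7223
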