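import Groth.Statements.S7242
import Groth.Agent.Lib.ResDescend36.Boundary2

set_option autoImplicit false
universe u
open CategoryTheory CategoryTheory.Limits AlgebraicGeometry
attribute [local instance] HasDerivedCategory.standard
open Perf

namespace Groth.Agent.S7242

open Groth.Agent.Lib Groth.Agent.Lib.Modules.StalkModule

/-- Let X be a scheme, X = U_1 ∪ … ∪ U_m a finite covering by affine opens, and I_1, …, I_m
quasi-coherent ideal sheaves of finite type with V(I_j) = X ∖ U_j as sets. Then X has the resolution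
property (every quasi-coherent O_X-module of finite type is a quotient of a finite locally free
O_X-module) if and only if, for every j, the ideal sheaf I_j regarded as an O_X-module is a quotient
of a finite locally free O_X-module. -/
theorem result (X : Scheme.{u}) {m : ℕ} (U : Fin m → X.Opens)
    (hUaff : ∀ j, IsAffineOpen (U j)) (hcov : ⨆ j, U j = ⊤) (I : Fin m → X.IdealSheafData)
    (hIft : ∀ j, CohB1.IsFT (ClSub.idealMod (I j))) (hIsupp : ∀ j, ((I j).support : Set ↥X) = (U j : Set ↥X)ᶜ) :
    PerfAux.HasResolutionProperty X ↔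
      ∀ j, ∃ (E : X.Modules) (π : E ⟶ ClSub.idealMod (I j)), FlatMod.IsFinLocFree E ∧ Epi π := by
  classical
  refine ⟨fun hX j => hX _ (Ample.QAffCrit.isQCoh_idealMod (I j)) (hIft j), fun h => ?_⟩
  haveI : CompactSpace ↥X := ⟨by
    have e : (Set.univ : Set X) = ⋃ j, (U j : Set X) := by
      rw [← TopologicalSpace.Opens.coe_iSup, hcov]; rfl
    rw [e]; exact isCompact_iUnion fun j => (hUaff j).isCompact⟩
  have hfg : ∀ j (W : X.affineOpens), ((I j).ideal W).FG := fun j W => by
    haveI := CohBasics.Closure.finite_sections (M := ClSub.idealMod (I j))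
      ⟨Ample.QAffCrit.isQCoh_idealMod (I j), hIft j⟩ W.2
    let l : Γ(ClSub.idealMod (I j), W.1) →ₗ[Γ(X, W.1)] Γ(X, W.1) :=
      { toFun := fun m => (ClSub.idealModι (I j)).app W.1 m
        map_add' := map_add _
        map_smul' := fun r y => Scheme.Modules.Hom.app_smul (ClSub.idealModι (I j)) r y }
    have e : (I j).ideal W = LinearMap.range l := by
      refine Submodule.ext fun r => ?_
      exact (Groth.Agent.Lib.ClSub.Sections.mem_range_idealModι_app_affine_iff (I j) W r).symm
    rw [e]
    exact LinearMap.range_eq_map l ▸ Submodule.FG.map l (Module.Finite.fg_top)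
  have hsupp : ∀ j (W : X.affineOpens) (x : X), x ∈ W.1 →
      (x ∈ U j ↔ ∃ r ∈ (I j).ideal W, x ∈ X.basicOpen r) := fun j W x hx => by
    have h1 := (I j).coe_support_inter W
    constructor
    · intro hxU
      by_contra hc
      push Not at hc
      have : x ∈ ((I j).support : Set X) := by
        refine (h1.ge ⟨(Scheme.mem_zeroLocus_iff X _ x).2 fun r hr => hc r hr, hx⟩).1
      rw [hIsupp] at this
      exact this hxU
    · rintro ⟨r, hr, hxr⟩
      by_contra hxU
      have : x ∈ ((I j).support : Set X) := by rw [hIsupp]; exact hxU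
      exact (Scheme.mem_zeroLocus_iff X _ x).1 (h1.le ⟨this, hx⟩).1 r hr hxr
  haveI : QuasiSeparatedSpace ↥X := by
    refine Scheme.quasiSeparatedSpace_of_isOpenCover U hcov hUaff fun i j => ?_
    obtain ⟨T, hT⟩ := hfg j ⟨U i, hUaff i⟩
    have e : ((U i : Set X) ∩ U j) = ⋃ r ∈ T, (X.basicOpen r : Set X) := by
      ext x
      refine ⟨fun hx => ?_, fun hx => ?_⟩
      · by_contra hc
        simp only [Set.mem_iUnion, not_exists] at hc
        obtain ⟨r, hr, hxr⟩ := (hsupp j ⟨U i, hUaff i⟩ x hx.1).1 hx.2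
        have hsub : (X.zeroLocus (U := U i) (T : Set Γ(X, U i))) ⊆
            X.zeroLocus (U := U i) (((I j).ideal ⟨U i, hUaff i⟩ : Ideal _) : Set Γ(X, U i)) := by
          rw [← hT, Scheme.zeroLocus_span]
        exact (Scheme.mem_zeroLocus_iff X _ x).1
          (hsub ((Scheme.mem_zeroLocus_iff X _ x).2 fun r hr => hc r hr)) r hr hxr
      · obtain ⟨r, hr, hxr⟩ := Set.mem_iUnion₂.1 hx
        have hxi : x ∈ U i := X.basicOpen_le r hxr
        exact ⟨hxi, (hsupp j ⟨U i, hUaff i⟩ x hxi).2
          ⟨r, hT ▸ Ideal.subset_span hr, hxr⟩⟩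
    rw [e]
    exact T.isCompact_biUnion fun r _ => ((hUaff i).basicOpen r).isCompact
  intro F hFq hFt
  choose E π hE hπ using h
  have hσ : ∀ j x, Function.Surjective (stalkMapₗ (π j ≫ ClSub.idealModι (I j)) x) ↔ x ∈ U j := by
    intro j x
    haveI := hπ j
    haveI : (E j).IsQuasicoherent := Modules.AffineSections.isQCoh_of_isFinLocFree (hE j)
    constructor
    · intro hs
      obtain ⟨v, hv⟩ := hs (Groth.Agent.Lib.Ample.GG.gm (Groth.Agent.Lib.Ample.GG.memTop x)
        (Groth.Agent.Lib.TensorMod.Gen.one X ⊤))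
      obtain ⟨V, hxV, e, rfl⟩ := TopCat.Presheaf.exists_germ_eq (E j).presheaf v
      obtain ⟨_, ⟨W, hW, rfl⟩, hxW, hWV⟩ := X.isBasis_affineOpens.exists_subset_of_mem_open hxV V.2
      refine (hsupp j ⟨W, hW⟩ x hxW).2 ?_
      let e' := TensorMod.Dual.rs (E j) (hWV : W ≤ V) e
      let r : Γ(X, W) := (π j ≫ ClSub.idealModι (I j)).app W e'
      refine ⟨r, (Groth.Agent.Lib.ClSub.Sections.mem_range_idealModι_app_affine_iff (I j) ⟨W, hW⟩ r).1
        ⟨(π j).app W e', rfl⟩, (X.mem_basicOpen r x hxW).2 ?_⟩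
      have h1 : Ample.GG.gm hxW (show Γ(Coh.structureModule X, W) from r) =
          Ample.GG.gm hxW (TensorMod.Gen.one X W) := by
        refine Eq.trans ?_ (ResDescend36.Boundary.gm_one (Ample.GG.memTop x) hxW)
        refine Eq.trans ?_ hv
        refine (stalkMapₗ_germ (π j ≫ ClSub.idealModι (I j)) hxW e').symm.trans ?_
        exact congrArg _ (Ample.GG.gm_rs (hWV : W ≤ V) hxW e)
      obtain ⟨W', hxW', i, k, hk⟩ := TopCat.Presheaf.germ_eq (Coh.structureModule X).presheaf x hxW hxW _ _ h1
      obtain rfl : i = k := Subsingleton.elim _ _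
      rw [← TopCat.Presheaf.germ_res_apply X.presheaf i x hxW' r]
      have hk' : X.presheaf.map i.op r = 1 := hk.trans (map_one (X.presheaf.map i.op).hom)
      rw [hk', map_one]
      exact isUnit_one
    · intro hx
      have hIU : (I j).ideal ⟨U j, hUaff j⟩ = ⊤ := by
        refine PrimeSpectrum.zeroLocus_empty_iff_eq_top.1 (((hUaff j).fromSpec_preimage_zeroLocus _).symm.trans
          (Set.eq_empty_iff_forall_notMem.2 fun q hq => ?_))
        have hqU : (hUaff j).fromSpec q ∈ U j := (hUaff j).opensRange_fromSpec.le ⟨q, rfl⟩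
        have hz := (((I j).coe_support_inter ⟨U j, hUaff j⟩).ge ⟨hq, hqU⟩).1
        rw [hIsupp] at hz
        exact hz hqU
      obtain ⟨m, hm⟩ := (Groth.Agent.Lib.ClSub.Sections.mem_range_idealModι_app_affine_iff (I j)
        ⟨U j, hUaff j⟩ 1).2 (hIU ▸ trivial)
      haveI : (ClSub.idealMod (I j)).IsQuasicoherent := Ample.QAffCrit.isQCoh_idealMod (I j)
      obtain ⟨τ, hτ⟩ := QCoh.Closure.sections_surjective_of_epi (π j) (hUaff j) m
      intro v
      obtain ⟨V, hxV, r, rfl⟩ := TopCat.Presheaf.exists_germ_eq (Coh.structureModule X).presheaf v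
      refine ⟨X.presheaf.germ V x hxV r • Ample.GG.gm hx τ, ?_⟩
      rw [map_smul, stalkMapₗ_germ]
      have h1 : (π j ≫ ClSub.idealModι (I j)).app (U j) τ = TensorMod.Gen.one X (U j) :=
        (congrArg ((ClSub.idealModι (I j)).app (U j)) hτ).trans hm
      rw [h1]
      change _ • Ample.GG.gm hx (TensorMod.Gen.one X (U j)) = _
      rw [ResDescend36.Boundary.gm_one hx hxV]
      exact (Ample.GG.gm_smul hxV (show Γ(X, V) from r) (TensorMod.Gen.one X V)).symm.trans
        (congrArg (Ample.GG.gm hxV) (TensorMod.Gen.smul_one_eq r).symm)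
  choose B p hB hp using fun j => ResDescend36.Boundary2.exists_surjective_on (hUaff j) (hE j)
    (π j ≫ ClSub.idealModι (I j)) (hσ j) F ⟨hFq, hFt⟩
  have key : ∀ s : Finset (Fin m), ∃ (E' : X.Modules) (π' : E' ⟶ F), FlatMod.IsFinLocFree E' ∧
      ∀ a ∈ s, ∀ x ∈ U a, Function.Surjective (stalkMapₗ π' x) := by
    intro s
    induction s using Finset.induction with
    | empty => exact ⟨FlatMod.freeMod X 0, Sigma.desc fun i => i.elim0,
        TensorMod.LocFree.of_rank (TensorMod.LocFree.isFinLocFree_freeMod X 0), by simp⟩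
    | @insert a s ha ih =>
      obtain ⟨E', π', hE', hπ'⟩ := ih
      refine ⟨B a ⨿ E', coprod.desc (p a) π', TensorMod.LocFree.isFinLocFree_biprod (hB a) hE',
        fun b hb x hx => ?_⟩
      rcases Finset.mem_insert.1 hb with rfl | hb
      · exact ResDescend36.Family.surjective_of_comp coprod.inl _ (by rw [coprod.inl_desc]; exact hp b x hx)
      · exact ResDescend36.Family.surjective_of_comp coprod.inr _ (by rw [coprod.inr_desc]; exact hπ' b hb x hx)
  obtain ⟨E', π', hE', hπ'⟩ := key Finset.univ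
  refine ⟨E', π', hE', (Groth.Agent.Lib.Modules.Stalk.epi_iff_stalk_surjective π').2 fun x => ?_⟩
  obtain ⟨a, hxa⟩ := TopologicalSpace.Opens.mem_iSup.1 (hcov ▸ TopologicalSpace.Opens.mem_top x)
  exact hπ' a (Finset.mem_univ a) x hxa

end Groth.Agent.S7242
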