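import Groth.Statements.S7248
import Groth.Agent.H56.RelPC.RelTor

set_option autoImplicit false
universe u
open CategoryTheory CategoryTheory.Limits AlgebraicGeometry
attribute [local instance] HasDerivedCategory.standard
open Perf

namespace Groth.Agent.S7248

/-- Let f : X ⟶ S be flat and locally of finite presentation. Then a perfect object E of D(O_X) is
S-perfect, that is, E is pseudo-coherent (m-pseudo-coherent for every m) and, locally on X, the tor
dimension of E over the sheaf of rings f⁻¹O_S is finite (locally represented by a bounded complex of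
O_X-modules flat over S). -/
theorem result {X S : Scheme.{u}} (f : X ⟶ S) [Flat f] [LocallyOfFinitePresentation f]
    (E : DCoh.D X) (hE : DCoh.IsPerfect E) :
    (∀ m : ℤ, DCoh.IsPseudoCoherentD m E) ∧ DCoh.LocHasFiniteRelTorDim f E := by
  obtain ⟨hpc, htor⟩ := (Groth.Agent.Lib.Perfect.FlatPerfect.isPerfect_iff_pc_tor E).1 hE
  refine ⟨hpc, fun x => ?_⟩
  obtain ⟨V, a, b, hx, hV⟩ := htor x
  refine ⟨V, a, b, hx, fun F hF => ?_⟩
  obtain ⟨G, hG, hGf, i⟩ := hV F hF
  exact ⟨G, hG, fun k => Groth.Agent.H56.RelPC.RelTor.isFlatOver_of_isFlat _ (hGf k), i⟩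

end Groth.Agent.S7248
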