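import Groth.Statements.S7250
import Groth.Agent.H56.RelPC.RelTorTri

set_option autoImplicit false
universe u
open CategoryTheory CategoryTheory.Limits AlgebraicGeometry
attribute [local instance] HasDerivedCategory.standard
open Perf

namespace Groth.Agent.S7250

/-- Let f : X ⟶ S be flat and locally of finite presentation. The S-perfect objects of D(O_X)
(pseudo-coherent and locally of finite tor dimension over f⁻¹O_S, the latter in the form: locally
represented by a bounded complex of O_X-modules flat over S) form a saturated triangulated
subcategory: the property contains zero, is stable under all shifts, is closed under the middle term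
of distinguished triangles, and is stable under retracts. -/
theorem result {X S : Scheme.{u}} (f : X ⟶ S) [Flat f] [LocallyOfFinitePresentation f] :
    ObjectProperty.IsTriangulated (fun E : DCoh.D X => (∀ m : ℤ, DCoh.IsPseudoCoherentD m E) ∧ DCoh.LocHasFiniteRelTorDim f E) ∧
    ObjectProperty.IsStableUnderRetracts (fun E : DCoh.D X => (∀ m : ℤ, DCoh.IsPseudoCoherentD m E) ∧ DCoh.LocHasFiniteRelTorDim f E) := by
  exact ⟨Groth.Agent.H56.RelPC.RelTorTri.isTriangulated f,
    ⟨fun r h => Groth.Agent.H56.RelPC.RelTorTri.of_retract f r h⟩⟩

end Groth.Agent.S7250
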