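import Groth.Statements.S7251
import Groth.Agent.Lib.DerivedOX.LpullQCoh

set_option autoImplicit false
universe u
open CategoryTheory CategoryTheory.Limits AlgebraicGeometry
attribute [local instance] HasDerivedCategory.standard
open Perf

namespace Groth.Agent.S7251

/-- Composition with `R(ε)` is bijective on maps out of objects whose left adjoint image is in `P`. -/
lemma existsUnique_lift {A B : Type*} [Category* A] [Category* B] {L : B ⥤ A} {R : A ⥤ B} (adj : L ⊣ R)
    (P : ObjectProperty A) {iR : A ⥤ P.FullSubcategory} (adjP : P.ι ⊣ iR) (K : A) {M : B}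
    (hM : P (L.obj M)) (x : M ⟶ R.obj K) :
    ∃! y : M ⟶ R.obj (iR.obj K).obj, y ≫ R.map (adjP.counit.app K) = x := by
  refine ⟨adj.homEquiv _ _ ((adjP.homEquiv ⟨L.obj M, hM⟩ K) ((adj.homEquiv M K).symm x)).hom, ?_, ?_⟩
  · change _ ≫ _ = _
    rw [← adj.homEquiv_naturality_right, ← Equiv.eq_symm_apply]
    exact ((adjP.homEquiv_counit ⟨L.obj M, hM⟩ K _).symm.trans ((adjP.homEquiv _ _).symm_apply_apply _))
  · intro y hy
    rw [← hy, adj.homEquiv_naturality_right_symm, ← Equiv.symm_apply_eq]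
    have h : ObjectProperty.homMk (X := ⟨L.obj M, hM⟩) ((adj.homEquiv _ _).symm y) =
        (adjP.homEquiv ⟨L.obj M, hM⟩ K) ((adj.homEquiv _ _).symm y ≫ adjP.counit.app K) := by
      rw [← Equiv.symm_apply_eq, adjP.homEquiv_counit]
      rfl
    exact congrArg (fun g => g.hom) h

/-- Let f : X ⟶ Y be a quasi-compact and quasi-separated morphism of schemes. Assume Rf_* exists and
sends D_QCoh(O_X) into D_QCoh(O_Y), let an adjunction Lf^* ⊣ Rf_* be given as data, and assume the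
inclusion functors D_QCoh ⥤ D have (chosen) right adjoints DQ_X and DQ_Y. Then Rf_* ∘ DQ_X = DQ_Y ∘
Rf_*: for every K ∈ D(O_X) the comparison map Rf_*(DQ_X K) ⟶ DQ_Y(Rf_* K) in D_QCoh(O_Y),
corresponding under the adjunction to Rf_* applied to the counit DQ_X K ⟶ K, is an isomorphism. -/
theorem result {X Y : Scheme.{u}} (f : X ⟶ Y) [QuasiCompact f] [QuasiSeparated f]
    [DCoh.HasRpush f] (h : DCoh.RpushPreservesQCoh f) [DCoh.HasLpull f] (adj : DCoh.Lpull f ⊣ DCoh.Rpush f)
    [(ObjectProperty.ι (DCoh.IsQCohD (X := X))).IsLeftAdjoint] [(ObjectProperty.ι (DCoh.IsQCohD (X := Y))).IsLeftAdjoint]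
    (K : DCoh.D X) :
    IsIso ((Adjunction.ofIsLeftAdjoint (ObjectProperty.ι (DCoh.IsQCohD (X := Y)))).homEquiv
      (⟨(DCoh.Rpush f).obj (((ObjectProperty.ι (DCoh.IsQCohD (X := X))).rightAdjoint.obj K).obj),
        h _ (((ObjectProperty.ι (DCoh.IsQCohD (X := X))).rightAdjoint.obj K).property)⟩ : DCoh.DQCoh Y)
      ((DCoh.Rpush f).obj K)
      ((DCoh.Rpush f).map ((Adjunction.ofIsLeftAdjoint (ObjectProperty.ι (DCoh.IsQCohD (X := X)))).counit.app K))) := by
  let P := DCoh.IsQCohD (X := X)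
  let P' := DCoh.IsQCohD (X := Y)
  let aX := Adjunction.ofIsLeftAdjoint (ObjectProperty.ι P)
  let aY := Adjunction.ofIsLeftAdjoint (ObjectProperty.ι P')
  let Q := (ObjectProperty.ι P).rightAdjoint.obj K
  let Z : DCoh.DQCoh Y := ⟨(DCoh.Rpush f).obj Q.obj, h _ Q.property⟩
  let T := (ObjectProperty.ι P').rightAdjoint.obj ((DCoh.Rpush f).obj K)
  let φ : Z ⟶ T := aY.homEquiv Z _ ((DCoh.Rpush f).map (aX.counit.app K))
  change IsIso φ
  have hL : ∀ M : DCoh.DQCoh Y, P ((DCoh.Lpull f).obj M.obj) := fun M =>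
    Groth.Agent.Lib.DerivedOX.LpullQCoh.isQCohD_Lpull f M.obj M.property
  have hφ : P'.ι.map φ ≫ aY.counit.app _ = (DCoh.Rpush f).map (aX.counit.app K) :=
    (aY.homEquiv_counit Z _ φ).symm.trans ((aY.homEquiv _ _).symm_apply_apply _)
  obtain ⟨y, hy, -⟩ := existsUnique_lift adj P aX K (hL T) (aY.counit.app ((DCoh.Rpush f).obj K))
  refine ⟨(ObjectProperty.homMk y : T ⟶ Z), ?_, ?_⟩
  · apply P'.ι.map_injective
    rw [P'.ι.map_comp, P'.ι.map_id]
    refine (existsUnique_lift adj P aX K (hL Z) ((DCoh.Rpush f).map (aX.counit.app K))).unique ?_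
      (Category.id_comp _)
    exact (Category.assoc _ _ _).trans ((congrArg (P'.ι.map φ ≫ ·) hy).trans hφ)
  · refine (aY.homEquiv _ _).symm.injective ?_
    rw [aY.homEquiv_counit, aY.homEquiv_counit, P'.ι.map_comp, P'.ι.map_id]
    refine (Category.assoc _ _ _).trans ((congrArg (_ ≫ ·) hφ).trans ?_)
    exact hy.trans (Category.id_comp _).symm

end Groth.Agent.S7251
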