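import Groth.Statements.S7253
import Groth.Agent.H41.LocCohVanish
import Groth.Agent.H41.LocCohFlat

set_option autoImplicit false
universe u
open CategoryTheory CategoryTheory.Limits AlgebraicGeometry
attribute [local instance] HasDerivedCategory.standard
open Perf

namespace Groth.Agent.S7253

/-- Let X be a scheme, U ⊆ X an open subscheme and Z = X ∖ U. Assume that, locally on X, Z is the
vanishing set of a Koszul-regular sequence having c elements: every point of X has an affine open
neighbourhood V and a sequence f₁, …, f_c in O_X(V), Koszul-regular in the ring O_X(V), whose common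
zero locus meets V exactly in Z ∩ V. Then the local cohomology sheaves ℋ^i_Z(F) (right derived
functors, computed with injective resolutions, of F ↦ ker(F → j_*(F|_U))) vanish for every i ≠ c and
every flat quasi-coherent O_X-module F. -/
theorem result {X : Scheme.{u}} (U : X.Opens) [HasInjectiveResolutions X.Modules]
    (c : ℕ) (hZ : ∀ x : X, ∃ (V : X.Opens) (fs : List Γ(X, V)), x ∈ V ∧ IsAffineOpen V ∧ fs.length = c ∧
      LCI.IsKoszulRegularSeq Γ(X, V) fs ∧
      X.zeroLocus (U := V) {a | a ∈ fs} ∩ (V : Set ↥X) = (U : Set ↥X)ᶜ ∩ (V : Set ↥X))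
    (F : X.Modules) (hF : Coh.IsQCoh F) (hFl : FlatMod.IsFlat F) (i : ℕ) (hi : i ≠ c) :
    IsZero (((DCoh.gammaZ U.ι).rightDerived i).obj F) := by
  haveI : F.IsQuasicoherent := hF
  have hUV : ∀ (V : X.Opens) (s : Set Γ(X, V)),
      X.zeroLocus (U := V) s ∩ (V : Set ↥X) = (U : Set ↥X)ᶜ ∩ (V : Set ↥X) →
        ∀ z ∈ V, z ∈ U ↔ ∃ f ∈ s, z ∈ X.basicOpen f := fun V s hz z hzV => by
    have h := Set.ext_iff.1 hz z
    simp only [Set.mem_inter_iff, Scheme.mem_zeroLocus_iff, Set.mem_compl_iff, SetLike.mem_coe, hzV, and_true] at h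
    constructor
    · intro hzU
      by_contra hne
      exact (h.1 fun f hf hfz => hne ⟨f, hf, hfz⟩) hzU
    · rintro ⟨f, hf, hfz⟩
      by_contra hzU
      exact h.2 hzU f hf hfz
  rcases lt_or_gt_of_ne hi with h | h
  · refine Groth.Agent.H41.LocCohFlat.isZero_rightDerived_gammaZ_lt U F hFl c (fun x => ?_) i h
    obtain ⟨V, fs, hx, hVa, hl, hr, hz⟩ := hZ x
    exact ⟨V, fs, hx, hVa, hl, hr, hUV V _ hz⟩
  · classical
    refine Groth.Agent.H41.LocCohVanish.isZero_rightDerived_gammaZ U c (fun x => ?_) F i h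
    obtain ⟨V, fs, hx, -, hl, -, hz⟩ := hZ x
    refine ⟨V, fs.toFinset, hx, (List.toFinset_card_le fs).trans hl.le, ?_⟩
    rwa [List.coe_toFinset]

end Groth.Agent.S7253
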