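import Groth.Statements.S7262
import Groth.Agent.H83.CohDerived.Main

set_option autoImplicit false
universe u
open CategoryTheory CategoryTheory.Limits AlgebraicGeometry
attribute [local instance] HasDerivedCategory.standard
open Perf

namespace Groth.Agent.S7262

/-- Let X be a Noetherian scheme. Granting that quasi-coherent O_X-modules, and coherent O_X-modules,
each contain zero and are closed under kernels, cokernels and finite products in all O_X-modules
(true facts carried as instance hypotheses; they make QCoh(O_X) and Coh(O_X) abelian categories) and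
that the inclusion Coh(O_X) ⥤ QCoh(O_X) is exact, the induced functor D(Coh(O_X)) ⥤ D(QCoh(O_X))
restricts to an equivalence from D⁻(Coh(O_X)) onto the bounded above objects of D(QCoh(O_X)) with
coherent cohomology: it is fully faithful on bounded above objects, and every bounded above object
of D(QCoh(O_X)) all of whose cohomology objects are coherent is in its essential image, as the image
of a bounded above object. -/
theorem result (X : Scheme.{u}) [IsNoetherian X]
    [ObjectProperty.ContainsZero (fun M : X.Modules => Coh.IsQCoh M)] [ObjectProperty.IsClosedUnderKernels (fun M : X.Modules => Coh.IsQCoh M)]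
    [ObjectProperty.IsClosedUnderCokernels (fun M : X.Modules => Coh.IsQCoh M)] [ObjectProperty.IsClosedUnderFiniteProducts (fun M : X.Modules => Coh.IsQCoh M)]
    [ObjectProperty.ContainsZero (fun M : X.Modules => Coh.IsCoh M)] [ObjectProperty.IsClosedUnderKernels (fun M : X.Modules => Coh.IsCoh M)]
    [ObjectProperty.IsClosedUnderCokernels (fun M : X.Modules => Coh.IsCoh M)] [ObjectProperty.IsClosedUnderFiniteProducts (fun M : X.Modules => Coh.IsCoh M)]
    [PreservesFiniteLimits (ObjectProperty.lift (fun M : X.Modules => Coh.IsQCoh M) (ObjectProperty.ι (fun M : X.Modules => Coh.IsCoh M)) (fun M => M.property.1))]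
    [PreservesFiniteColimits (ObjectProperty.lift (fun M : X.Modules => Coh.IsQCoh M) (ObjectProperty.ι (fun M : X.Modules => Coh.IsCoh M)) (fun M => M.property.1))] :
    (∀ (M N : DerivedCategory (ObjectProperty.FullSubcategory (fun M : X.Modules => Coh.IsCoh M))) (b : ℤ), M.IsLE b → N.IsLE b →
      Function.Bijective (fun φ : M ⟶ N => (ObjectProperty.lift (fun M : X.Modules => Coh.IsQCoh M) (ObjectProperty.ι (fun M : X.Modules => Coh.IsCoh M)) (fun M => M.property.1)).mapDerivedCategory.map φ)) ∧
    ∀ (K : DerivedCategory (ObjectProperty.FullSubcategory (fun M : X.Modules => Coh.IsQCoh M))) (b : ℤ), K.IsLE b →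
      (∀ i : ℤ, Coh.IsCoh ((DerivedCategory.homologyFunctor (ObjectProperty.FullSubcategory (fun M : X.Modules => Coh.IsQCoh M)) i).obj K).obj) →
      ∃ M : DerivedCategory (ObjectProperty.FullSubcategory (fun M : X.Modules => Coh.IsCoh M)), M.IsLE b ∧
        Nonempty ((ObjectProperty.lift (fun M : X.Modules => Coh.IsQCoh M) (ObjectProperty.ι (fun M : X.Modules => Coh.IsCoh M)) (fun M => M.property.1)).mapDerivedCategory.obj M ≅ K) := by
  exact Groth.Agent.H83.CohDerived.minus_equiv X

end Groth.Agent.S7262
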