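import Groth.Statements.S7265
import Groth.Agent.Lib.Gen43.Approx

set_option autoImplicit false
universe u
open CategoryTheory CategoryTheory.Limits AlgebraicGeometry
attribute [local instance] HasDerivedCategory.standard
open Perf

namespace Groth.Agent.S7265

/-- Let X be a scheme, U ⊆ X an open subscheme, T ⊆ U a subset closed in X, E ∈ D(O_X) with
quasi-coherent cohomology sheaves and m ∈ ℤ. If approximation holds for (T, E|_U, m) on U (there are
a perfect P ∈ D(O_U) supported on T and P ⟶ E|_U inducing isomorphisms on Hⁱ for i > m and a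
surjection on Hᵐ) and the sheaves Hⁱ(E), i ≥ m, are supported on T, then approximation holds for (T,
E, m) on X. -/
theorem result {X : Scheme.{u}} (U : X.Opens) (T : Set ↥X) (hT : IsClosed T)
    (hTU : T ⊆ (U : Set ↥X)) (E : DCoh.D X) (hE : DCoh.IsQCohD E) (m : ℤ)
    (happ : ∃ (P : DCoh.D (U : Scheme.{u})) (α : P ⟶ (DCoh.restrictD U.ι).obj E), DCoh.IsPerfect P ∧
      (∀ i : ℤ, CohB1.support (DCoh.HD P i) ⊆ {v : ↥(U : Scheme.{u}) | U.ι.base v ∈ T}) ∧
      (∀ i : ℤ, m < i → IsIso ((DerivedCategory.homologyFunctor _ i).map α)) ∧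
      Epi ((DerivedCategory.homologyFunctor _ m).map α))
    (hsupp : ∀ i : ℤ, m ≤ i → CohB1.support (DCoh.HD E i) ⊆ T) :
    ∃ (P : DCoh.D X) (α : P ⟶ E), DCoh.IsPerfect P ∧ (∀ i : ℤ, CohB1.support (DCoh.HD P i) ⊆ T) ∧
      (∀ i : ℤ, m < i → IsIso ((DerivedCategory.homologyFunctor X.Modules i).map α)) ∧
      Epi ((DerivedCategory.homologyFunctor X.Modules m).map α) := by
  obtain ⟨P, α, hP, hPT, h1, h2⟩ := happ
  let T' : X.Opens := ⟨Tᶜ, hT.isOpen_compl⟩
  have hUT : U ⊔ T' = ⊤ := by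
    ext x
    simp only [TopologicalSpace.Opens.coe_sup, Set.mem_union, TopologicalSpace.Opens.coe_top, Set.mem_univ, iff_true]
    exact (em (x ∈ T)).imp (fun h => hTU h) id
  have hPv : Groth.Agent.Lib.Gen43.Restrict.Van (U.ι ⁻¹ᵁ T') P := fun i x hx hx' => hx (hPT i hx')
  have hP'T : Groth.Agent.Lib.Gen43.Restrict.Van T' ((Groth.Agent.Lib.Gen43.Glue.ez U.ι).obj P) :=
    Groth.Agent.Lib.Gen43.Glue.van_ez U T' hPv
  let adj := Groth.Agent.Lib.Gen43.Glue.adjEz U.ι
  refine ⟨_, (adj.homEquiv _ _).symm α,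
    Groth.Agent.Lib.Gen43.Restrict.isPerfect_of_two hUT
      (Groth.Agent.Lib.Perfect.Triangle.isPerfect_of_iso (asIso (adj.unit.app P)) hP)
      (Groth.Agent.Lib.Gen43.Generator.isPerfect_of_isZero hP'T.isZero),
    fun i x hx => by_contra fun hx' => hP'T i x hx' hx, ?_⟩
  refine Groth.Agent.Lib.Gen43.Approx.good_of_cover hUT m _ ?_ ?_
  · have hu : adj.unit.app P ≫ (DCoh.restrictD U.ι).map ((adj.homEquiv _ _).symm α) = α :=
      (Adjunction.homEquiv_unit ..).symm.trans (Equiv.apply_symm_apply _ _)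
    rw [(IsIso.eq_inv_comp _).2 hu]
    exact (Groth.Agent.Lib.Perfect.Ascent.Good.of_isIso m _).comp ⟨h1, h2⟩
  · have hz : ∀ i, m ≤ i → IsZero (DCoh.HD ((DCoh.restrictD T'.ι).obj E) i) :=
      (Groth.Agent.Lib.Gen43.Approx.vanGE_iff E).1 fun i hi x hx hx' => hx (hsupp i hi hx')
    refine ⟨fun i hi => ⟨0, ?_, ?_⟩, ⟨fun _ _ _ => ?_⟩⟩
    · exact ((DerivedCategory.homologyFunctor _ i).map_isZero hP'T.isZero).eq_of_src _ _
    · exact (hz i hi.le).eq_of_src _ _
    · exact (hz m le_rfl).eq_of_src _ _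

end Groth.Agent.S7265
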