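import Groth.Statements.S7266
import Groth.Agent.Lib.Gen43.Approx

set_option autoImplicit false
universe u
open CategoryTheory CategoryTheory.Limits AlgebraicGeometry
attribute [local instance] HasDerivedCategory.standard
open Perf

namespace Groth.Agent.S7266

/-- Let X be a scheme written as X = U ∪ V with U, V open, where V is affine and both U and the
intersection U ∩ V are quasi-compact. Suppose approximation by perfect complexes is valid on U; it
is then also valid on X. Here 'approximation by perfect complexes holds on Y' means: for every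
closed T ⊆ Y with retrocompact complement there is an integer r such that for every m ∈ ℤ and every
(m - r)-pseudo-coherent E ∈ D(O_Y) with quasi-coherent cohomology sheaves and Hⁱ(E) supported on T
for i ≥ m - r, there are a perfect P ∈ D(O_Y) supported on T and P ⟶ E inducing isomorphisms on Hⁱ
for i > m and a surjection on Hᵐ. -/
theorem result {X : Scheme.{u}} (U V : X.Opens)
    (hU : IsCompact (U : Set ↥X)) (hV : IsAffineOpen V) (hUV : IsCompact ((U ⊓ V : X.Opens) : Set ↥X)) (hcov : U ⊔ V = ⊤)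
    (hAU : (∀ (T : Set ↥(U : Scheme.{u})), IsClosed T → IsRetrocompact Tᶜ → ∃ r : ℤ, ∀ (m : ℤ) (E : DCoh.D (U : Scheme.{u})), DCoh.IsQCohD E →
        DCoh.IsPseudoCoherentD (m - r) E → (∀ i : ℤ, m - r ≤ i → CohB1.support (DCoh.HD E i) ⊆ T) →
        ∃ (P : DCoh.D (U : Scheme.{u})) (α : P ⟶ E), DCoh.IsPerfect P ∧ (∀ i : ℤ, CohB1.support (DCoh.HD P i) ⊆ T) ∧
          (∀ i : ℤ, m < i → IsIso ((DerivedCategory.homologyFunctor _ i).map α)) ∧
          Epi ((DerivedCategory.homologyFunctor _ m).map α))) :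
    (∀ (T : Set ↥X), IsClosed T → IsRetrocompact Tᶜ → ∃ r : ℤ, ∀ (m : ℤ) (E : DCoh.D X), DCoh.IsQCohD E →
        DCoh.IsPseudoCoherentD (m - r) E → (∀ i : ℤ, m - r ≤ i → CohB1.support (DCoh.HD E i) ⊆ T) →
        ∃ (P : DCoh.D X) (α : P ⟶ E), DCoh.IsPerfect P ∧ (∀ i : ℤ, CohB1.support (DCoh.HD P i) ⊆ T) ∧
          (∀ i : ℤ, m < i → IsIso ((DerivedCategory.homologyFunctor _ i).map α)) ∧
          Epi ((DerivedCategory.homologyFunctor _ m).map α)) := by
  intro T hT hTc
  let T' : X.Opens := ⟨Tᶜ, hT.isOpen_compl⟩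
  have hc : ∀ (W : X.Opens) (Z : Set X), IsCompact ((W : Set X) ∩ Z) →
      IsCompact (W.ι ⁻¹' Z) := fun W Z h => by
    rw [W.ι.isOpenEmbedding.isInducing.isCompact_iff, Set.image_preimage_eq_range_inter,
      Scheme.Opens.range_ι]
    exact h
  have hUret : IsRetrocompact (U.ι ⁻¹' T)ᶜ := fun K hK hKo => by
    rw [U.ι.isOpenEmbedding.isInducing.isCompact_iff]
    have : U.ι '' ((U.ι ⁻¹' T)ᶜ ∩ K) = Tᶜ ∩ U.ι '' K := by
      rw [← Set.preimage_compl, Set.inter_comm, Set.image_inter_preimage, Set.inter_comm]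
    rw [this]
    exact hTc (hK.image U.ι.continuous) (U.ι.isOpenEmbedding.isOpenMap _ hKo)
  obtain ⟨r, hr⟩ := hAU _ (hT.preimage U.ι.continuous) hUret
  obtain ⟨r', hr'⟩ := Groth.Agent.Lib.Gen43.Approx.approx_sup hcov hU hV T'
    (hc V U (by rw [Set.inter_comm]; exact hUV))
    (hc V Tᶜ (by rw [Set.inter_comm]; exact hTc hV.isCompact V.2))
    (r := r.toNat) (fun m E hE hpc hv => by
      obtain ⟨P, α, hP, hPT, h1, h2⟩ := hr m E hE
        ((Groth.Agent.Lib.Perfect.PseudoCoh.iff_forall _ _).2 fun y =>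
          ((Groth.Agent.Lib.Perfect.PseudoCoh.iff_forall _ _).1 hpc y).mono' (by omega))
        (fun i hi x hx => by_contra fun hx' =>
          if h : (m - r.toNat ≤ i) then hv i h x hx' hx else by omega)
      exact ⟨P, α, hP, fun i x hx hx' => hx (hPT i hx'), h1, h2⟩)
  refine ⟨r', fun m E hE hpc hs => ?_⟩
  obtain ⟨P, α, hP, hPT, hα⟩ := hr' m E hE hpc (fun i hi x hx hx' => hx (hs i hi hx'))
  exact ⟨P, α, hP, fun i x hx => by_contra fun hx' => hPT i x hx' hx, hα.1, hα.2⟩

end Groth.Agent.S7266
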