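import Groth.Statements.S7271
import Groth.Agent.H83.DQCohPush.Coherator

set_option autoImplicit false
universe u
open CategoryTheory CategoryTheory.Limits AlgebraicGeometry
attribute [local instance] HasDerivedCategory.standard
open Perf

namespace Groth.Agent.S7271

/-- Let f : X ⟶ Y be a quasi-compact, quasi-separated and flat morphism of schemes. Granting that
quasi-coherent modules on X and on Y contain zero and are closed under kernels, cokernels and finite
products, with exact inclusions (instance hypotheses making QCoh abelian), let Q_X and Q_Y be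
coherators (right adjoints of the inclusions QCoh ⥤ Mod, given with their adjunctions), let RQ_X,
RQ_Y be their total right derived functors and Φ the total right derived functor of f_* : QCoh(O_X)
⥤ QCoh(O_Y) (existence binders; f_* preserves quasi-coherence by hypothesis hf). Then RQ_Y ∘ Rf_* =
Φ ∘ RQ_X as functors D(O_X) ⥤ D(QCoh(O_Y)) (existence of a natural isomorphism only). -/
theorem result {X Y : Scheme.{u}} (f : X ⟶ Y)
    [QuasiCompact f] [QuasiSeparated f] [Flat f] [DCoh.HasRpush f]
    [ObjectProperty.ContainsZero (fun M : X.Modules => Coh.IsQCoh M)] [ObjectProperty.IsClosedUnderKernels (fun M : X.Modules => Coh.IsQCoh M)]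
    [ObjectProperty.IsClosedUnderCokernels (fun M : X.Modules => Coh.IsQCoh M)] [ObjectProperty.IsClosedUnderFiniteProducts (fun M : X.Modules => Coh.IsQCoh M)]
    [PreservesFiniteLimits (ObjectProperty.ι (fun M : X.Modules => Coh.IsQCoh M))] [PreservesFiniteColimits (ObjectProperty.ι (fun M : X.Modules => Coh.IsQCoh M))]
    [ObjectProperty.ContainsZero (fun M : Y.Modules => Coh.IsQCoh M)] [ObjectProperty.IsClosedUnderKernels (fun M : Y.Modules => Coh.IsQCoh M)]
    [ObjectProperty.IsClosedUnderCokernels (fun M : Y.Modules => Coh.IsQCoh M)] [ObjectProperty.IsClosedUnderFiniteProducts (fun M : Y.Modules => Coh.IsQCoh M)]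
    [PreservesFiniteLimits (ObjectProperty.ι (fun M : Y.Modules => Coh.IsQCoh M))] [PreservesFiniteColimits (ObjectProperty.ι (fun M : Y.Modules => Coh.IsQCoh M))]
    (QX : X.Modules ⥤ ObjectProperty.FullSubcategory (fun M : X.Modules => Coh.IsQCoh M)) (adjX : ObjectProperty.ι (fun M : X.Modules => Coh.IsQCoh M) ⊣ QX)
    (QY : Y.Modules ⥤ ObjectProperty.FullSubcategory (fun M : Y.Modules => Coh.IsQCoh M)) (adjY : ObjectProperty.ι (fun M : Y.Modules => Coh.IsQCoh M) ⊣ QY)
    [QX.Additive] [QY.Additive]
    [(QX.mapHomotopyCategory (ComplexShape.up ℤ) ⋙ DerivedCategory.Qh).HasRightDerivedFunctor (HomotopyCategory.quasiIso X.Modules (ComplexShape.up ℤ))] [(QY.mapHomotopyCategory (ComplexShape.up ℤ) ⋙ DerivedCategory.Qh).HasRightDerivedFunctor (HomotopyCategory.quasiIso Y.Modules (ComplexShape.up ℤ))]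
    (hf : ∀ M : X.Modules, Coh.IsQCoh M → Coh.IsQCoh ((Scheme.Modules.pushforward f).obj M))
    [(ObjectProperty.lift (fun M : Y.Modules => Coh.IsQCoh M) (ObjectProperty.ι (fun M : X.Modules => Coh.IsQCoh M) ⋙ Scheme.Modules.pushforward f) (fun M => hf M.obj M.property)).Additive]
    [((ObjectProperty.lift (fun M : Y.Modules => Coh.IsQCoh M) (ObjectProperty.ι (fun M : X.Modules => Coh.IsQCoh M) ⋙ Scheme.Modules.pushforward f) (fun M => hf M.obj M.property)).mapHomotopyCategory (ComplexShape.up ℤ) ⋙ DerivedCategory.Qh).HasRightDerivedFunctor (HomotopyCategory.quasiIso (ObjectProperty.FullSubcategory (fun M : X.Modules => Coh.IsQCoh M)) (ComplexShape.up ℤ))] :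
    Nonempty (DCoh.Rpush f ⋙ (QY.mapHomotopyCategory (ComplexShape.up ℤ) ⋙ DerivedCategory.Qh).totalRightDerived DerivedCategory.Qh (HomotopyCategory.quasiIso Y.Modules (ComplexShape.up ℤ)) ≅
      (QX.mapHomotopyCategory (ComplexShape.up ℤ) ⋙ DerivedCategory.Qh).totalRightDerived DerivedCategory.Qh (HomotopyCategory.quasiIso X.Modules (ComplexShape.up ℤ)) ⋙
        ((ObjectProperty.lift (fun M : Y.Modules => Coh.IsQCoh M) (ObjectProperty.ι (fun M : X.Modules => Coh.IsQCoh M) ⋙ Scheme.Modules.pushforward f) (fun M => hf M.obj M.property)).mapHomotopyCategory (ComplexShape.up ℤ) ⋙ DerivedCategory.Qh).totalRightDerived DerivedCategory.Qh (HomotopyCategory.quasiIso (ObjectProperty.FullSubcategory (fun M : X.Modules => Coh.IsQCoh M)) (ComplexShape.up ℤ))) := by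
  haveI : IsGrothendieckAbelian.{u} (Groth.Agent.H83.DQCohEquiv.Qc X) :=
    Groth.Agent.H83.QCohGroth.grothendieckQCoh X
  exact Groth.Agent.H83.DQCohPush.coherator_push f hf QX adjX QY adjY

end Groth.Agent.S7271
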