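import Groth.Statements.S7274
import Groth.Agent.Lib.DerivedOX.SplitEtale
import Groth.Agent.Lib.DerivedOX.CompactUnit
import Groth.Agent.Lib.Perfect.FlatPerfect


set_option autoImplicit false
universe u
open CategoryTheory CategoryTheory.Limits AlgebraicGeometry
attribute [local instance] HasDerivedCategory.standard
open Perf

namespace Groth.Agent.S7274

open Groth.Agent.Lib Groth.Agent.Lib.DerivedOX Groth.Agent.H34.Stein

attribute [local instance] Groth.Agent.Lib.DerivedOX.LeftExists.hasLpull
  Groth.Agent.Lib.DerivedOX.Exists.hasRpush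

set_option maxHeartbeats 1000000
set_option linter.style.haveILetI false

/-- Over an affine base the relative spectrum of the direct image is finite étale. -/
theorem isFinite_etale_π {Y W : Scheme.{u}} [IsAffine W] (g : Y ⟶ W) [IsProper g] [Flat g]
    [LocallyOfFinitePresentation g] [GeometricallyReduced g] :
    IsFinite (RelSpec.QCAlg.directImage g).π ∧ Etale (RelSpec.QCAlg.directImage g).π := by
  obtain ⟨hfin, het⟩ := finite_etale_fromNormalization g
  haveI := hfin
  haveI := het
  haveI : IsAffine g.normalization := isAffine_of_isAffineHom g.fromNormalization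
  haveI := SplitEtale.isIso_appTop_toNormalization g
  let D := RelSpec.QCAlg.directImage g
  haveI : IsIso (D.ι ⊤ (isAffineOpen_top W)) := by
    have h := D.π_preimage ⊤ (isAffineOpen_top W)
    rw [Scheme.Hom.preimage_top] at h
    haveI : Surjective (D.ι ⊤ (isAffineOpen_top W)) := ⟨fun z => (h ▸ trivial : z ∈ (D.ι ⊤ (isAffineOpen_top W)).opensRange)⟩
    exact (isIso_iff_isOpenImmersion_and_surjective _).2 ⟨inferInstance, inferInstance⟩
  have hπ : D.π = inv (D.ι ⊤ (isAffineOpen_top W)) ≫ Spec.map g.appTop ≫ (isAffineOpen_top W).fromSpec := by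
    rw [IsIso.eq_inv_comp]
    exact D.ι_π ⊤ (isAffineOpen_top W)
  have hn : Spec.map g.fromNormalization.appTop =
      g.normalization.isoSpec.inv ≫ g.fromNormalization ≫ W.isoSpec.hom := by
    rw [Iso.eq_inv_comp, Scheme.isoSpec_hom_naturality]
  have hg : g.appTop = g.fromNormalization.appTop ≫ g.toNormalization.appTop := by
    rw [← Scheme.Hom.comp_appTop, g.toNormalization_fromNormalization]
  haveI : IsIso (isAffineOpen_top W).fromSpec := by
    rw [IsAffineOpen.fromSpec_top]
    infer_instance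
  have hS : Spec.map g.appTop = Spec.map g.toNormalization.appTop ≫
      g.normalization.isoSpec.inv ≫ g.fromNormalization ≫ W.isoSpec.hom := by
    rw [hg, Spec.map_comp, hn]
  show IsFinite D.π ∧ Etale D.π
  obtain ⟨k1, k2⟩ : IsFinite (Spec.map g.appTop) ∧ Etale (Spec.map g.appTop) := by
    rw [hS]
    exact ⟨inferInstance, inferInstance⟩
  rw [hπ]
  exact ⟨MorphismProperty.comp_mem @IsFinite _ _ inferInstance
      (MorphismProperty.comp_mem @IsFinite _ _ k1 inferInstance),
    MorphismProperty.comp_mem @Etale _ _ inferInstance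
      (MorphismProperty.comp_mem @Etale _ _ k2 inferInstance)⟩

/-- Let f : X ⟶ S be proper, flat and of finite presentation and let s ∈ S be a point whose fibre X_s is
geometrically reduced over κ(s). Then s has an open neighbourhood V over which, writing f_V : f⁻¹V ⟶
V: the direct-image algebra (f_V)_*O_{f⁻¹V} is a finite étale O_V-algebra (its relative spectrum is
finite and étale over V), and, assuming R(f_V)_* exists and binary direct sums in D(O_V) are
available, there is a direct sum decomposition R(f_V)_*O_{f⁻¹V} ≅ (f_V)_*O_{f⁻¹V}[0] ⊕ P in D(O_V)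
with P perfect of tor amplitude in [1, b] for some b (existence of the decomposition). -/
theorem result {X S : Scheme.{u}} (f : X ⟶ S)
    [IsProper f] [Flat f] [LocallyOfFinitePresentation f] (s : S)
    (hs : GeometricallyReduced (f.fiberToSpecResidueField s)) :
    ∃ V : S.Opens, s ∈ V ∧
      (IsFinite (RelSpec.QCAlg.directImage (f ∣_ V)).π ∧ Etale (RelSpec.QCAlg.directImage (f ∣_ V)).π) ∧
      ∀ [DCoh.HasRpush (f ∣_ V)] [∀ A B : DCoh.D (V : Scheme.{u}), HasBinaryBiproduct A B],
        ∃ (P : DCoh.D (V : Scheme.{u})) (b : ℤ), DCoh.IsPerfect P ∧ DCoh.HasTorAmplitudeIn 1 b P ∧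
          Nonempty ((DCoh.Rpush (f ∣_ V)).obj
              (DCoh.inD (f ⁻¹ᵁ V : Scheme.{u}) (Coh.structureModule (f ⁻¹ᵁ V : Scheme.{u}))) ≅
            DCoh.inD (V : Scheme.{u}) ((Coh.push (f ∣_ V)).obj (Coh.structureModule (f ⁻¹ᵁ V : Scheme.{u}))) ⊞ P) := by
  let R : S.Opens := ⟨_, isOpen_geometricallyReduced f⟩
  obtain ⟨V, hV, hsV, hVR⟩ :=
    exists_isAffineOpen_mem_and_subset (X := S) (x := s) (U := R) hs
  refine ⟨V, hsV, ?_⟩
  haveI : IsProper (f ∣_ V) := IsZariskiLocalAtTarget.restrict ‹IsProper f› V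
  haveI : Flat (f ∣_ V) := MorphismProperty.of_isPullback (isPullback_morphismRestrict f V).flip ‹Flat f›
  haveI : LocallyOfFinitePresentation (f ∣_ V) :=
    MorphismProperty.of_isPullback (isPullback_morphismRestrict f V).flip ‹LocallyOfFinitePresentation f›
  haveI : GeometricallyReduced (f ∣_ V) := by
    rw [GeometricallyReduced.eq_geometrically, geometrically_iff_forall_fiberToSpecResidueField,
      ← GeometricallyReduced.eq_geometrically]
    intro z
    exact (geometricallyReduced_fibre_iff f (f ∣_ V) _ V.ι (isPullback_morphismRestrict f V).flip z).2 (hVR z.2)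
  haveI : IsAffine (V : Scheme.{u}) := hV
  refine ⟨isFinite_etale_π (f ∣_ V), ?_⟩
  intro _ _
  let g : (f ⁻¹ᵁ V : Scheme.{u}) ⟶ Spec (CommRingCat.of Γ(S, V)) := (f ∣_ V) ≫ hV.isoSpec.hom
  haveI : IsProper g := inferInstanceAs (IsProper ((f ∣_ V) ≫ hV.isoSpec.hom))
  haveI : Flat g := inferInstanceAs (Flat ((f ∣_ V) ≫ hV.isoSpec.hom))
  haveI : LocallyOfFinitePresentation g :=
    inferInstanceAs (LocallyOfFinitePresentation ((f ∣_ V) ≫ hV.isoSpec.hom))
  have H : IsPullback (𝟙 (f ⁻¹ᵁ V : Scheme.{u})) g (f ∣_ V) hV.isoSpec.inv :=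
    IsPullback.of_horiz_isIso ⟨by simp [g]⟩
  haveI : GeometricallyReduced g := MorphismProperty.of_isPullback H ‹GeometricallyReduced (f ∣_ V)›
  obtain ⟨P, b, hb, hP, hamp, ⟨e⟩⟩ := SplitEtale.exists_split g
  haveI := Exists.hasRpush hV.isoSpec.hom
  haveI := Exists.hasRpush g
  haveI : (DCoh.restrictD hV.isoSpec.hom).Additive :=
    inferInstanceAs ((Scheme.Modules.restrictFunctor hV.isoSpec.hom).mapDerivedCategory).Additive
  haveI := preservesBinaryBiproducts_of_preservesBiproducts (DCoh.restrictD hV.isoSpec.hom)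
  refine ⟨(DCoh.restrictD hV.isoSpec.hom).obj P, b,
    SchColim29.RpushPerfect.isPerfect_restrictD _ hP,
    Amplitude.torAmp_of_flatAmp (Perfect.FlatPerfect.flatAmp_restrict _ hamp), ⟨?_⟩⟩
  exact ((OpenImm.counitIso hV.isoSpec.hom).app _).symm ≪≫
    (DCoh.restrictD hV.isoSpec.hom).mapIso ((PullComp.rpushCompIso (f ∣_ V) hV.isoSpec.hom).app _ ≪≫ e) ≪≫
    (DCoh.restrictD hV.isoSpec.hom).mapBiprod _ _ ≪≫
    biprod.mapIso (((Scheme.Modules.restrictFunctor hV.isoSpec.hom).mapDerivedCategorySingleFunctor 0).app _ ≪≫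
      (DerivedCategory.singleFunctor _ 0).mapIso ((Scheme.Modules.restrictFunctor hV.isoSpec.hom).mapIso
        ((Scheme.Modules.pushforwardComp (f ∣_ V) hV.isoSpec.hom).app _).symm ≪≫
        asIso ((Scheme.Modules.restrictAdjunction hV.isoSpec.hom).counit.app _))) (Iso.refl _)

end Groth.Agent.S7274
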