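import Groth.Statements.S7279
import Groth.Agent.H83.FactorGlobal
import Groth.Agent.Lib.DerivedOX.DualMain
import Groth.Agent.Lib.SchColim29.RHomLocal
import Groth.Agent.Lib.H15.RHomRes.Main
import Groth.Agent.S1114
import Groth.Agent.S1115
-- import your own Groth.Agent.* helpers here

set_option autoImplicit false
universe u
open CategoryTheory CategoryTheory.Limits AlgebraicGeometry
attribute [local instance] HasDerivedCategory.standard
open Perf

namespace Groth.Agent.S7279

open Groth.Agent.Lib Groth.Agent.Lib.Gen43.Restrict Pretriangulated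

/-- Let X be a quasi-compact and quasi-separated scheme, U ⊆ X a quasi-compact open with closed
complement T = X ∖ U, P a cochain complex of O_X-modules with quasi-coherent cohomology sheaves and
E ∈ D_QCoh(O_X) supported on T (every cohomology sheaf of E has support in T). Assume either (1) P
is perfect, or (2) P is pseudo-coherent and E is bounded below, and assume the derived functors -
⊗^L P and RHom(P, -) exist. Then for every morphism γ : O_X[0] ⊗^L P ⟶ E there exist a perfect I ∈
D(O_X) and a morphism i : I ⟶ O_X[0] such that the composition of i ⊗^L P with γ is zero and the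
restriction i|_U is an isomorphism. (The published statement is about a morphism α : P ⟶ E and the
induced map I ⊗^L P ⟶ E; composing with the unit isomorphism O_X[0] ⊗^L P ≅ P identifies morphisms α
with morphisms γ, so the present form, quantified over all γ, is the same assertion.) -/
theorem result (X : Scheme.{u}) [CompactSpace ↥X]
    [QuasiSeparatedSpace ↥X] (U : X.Opens) (hU : IsCompact (U : Set X))
    (P : CochainComplex X.Modules ℤ) (hPq : DCoh.IsQCohD (DCoh.toD X P)) [DCoh.HasLTensorCx P] [DCoh.HasRSheafHom P]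
    (E : DCoh.D X) (hEq : DCoh.IsQCohD E) (hEsupp : ∀ i : ℤ, CohB1.support (DCoh.HD E i) ⊆ (U : Set X)ᶜ)
    (h : DCoh.IsPerfect (DCoh.toD X P) ∨ ((∀ m : ℤ, DCoh.IsPseudoCoherentD m (DCoh.toD X P)) ∧ ∃ a : ℤ, E.IsGE a))
    (γ : (DCoh.LTensorCx P).obj (DCoh.inD X (Coh.structureModule X)) ⟶ E) :
    ∃ (I : DCoh.D X) (i : I ⟶ DCoh.inD X (Coh.structureModule X)), DCoh.IsPerfect I ∧
      (DCoh.LTensorCx P).map i ≫ γ = 0 ∧ IsIso ((DCoh.restrictD U.ι).map i) := by
  let W := (DCoh.RSheafHom P).obj E
  have hWq : DCoh.IsQCohD W := by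
    rcases h with hp | ⟨hp, a, ha⟩
    · exact Groth.Agent.S1114.result X P hp E hEq
    · haveI := ha
      exact Groth.Agent.S1115.result X P hp E hEq a
  have hW : Van U W := by
    haveI := DerivedOX.LeftExists.hasLTensorCx ((Perfect.Basic.rC U.ι).obj P)
    haveI := DerivedOX.DualHomExists.hasRSheafHom ((Perfect.Basic.rC U.ι).obj P)
    obtain ⟨e⟩ := H15.RHomRes.Main.nonempty_iso U P E
    have hz : IsZero ((DCoh.restrictD U.ι).obj E) := (van_iff U E).1 fun i x hx hx' => hEsupp i hx' hx
    refine van_of_isZero (IsZero.of_iso ?_ e)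
    haveI : Subsingleton ((DCoh.LTensorCx ((Perfect.Basic.rC U.ι).obj P)).obj
        ((DCoh.RSheafHom ((Perfect.Basic.rC U.ι).obj P)).obj ((DCoh.restrictD U.ι).obj E)) ⟶
          (DCoh.restrictD U.ι).obj E) := ⟨fun a b => hz.eq_of_tgt a b⟩
    rw [IsZero.iff_id_eq_zero]
    exact ((DCoh.RSheafHomAdj ((Perfect.Basic.rC U.ι).obj P)).homEquiv _ _).symm.injective (Subsingleton.elim _ _)
  let β := ((DCoh.RSheafHomAdj P).homEquiv _ _) γ
  obtain ⟨Q, a, b, hab, hQ, hQU⟩ := Groth.Agent.H83.FactorGlobal.exists_factor hU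
    (Gen43.Affine.isPerfect_oneD' X) hWq hW β
  obtain ⟨I, i, c, hT⟩ := distinguished_cocone_triangle₁ a
  refine ⟨I, i, Perfect.Triangle.isPerfect₁ hT (Gen43.Affine.isPerfect_oneD' X) hQ, ?_,
    (isIso_restrict_iff hT).2 hQU⟩
  apply ((DCoh.RSheafHomAdj P).homEquiv _ _).injective
  have h0 : i ≫ a = 0 := comp_distTriang_mor_zero₁₂ _ hT
  rw [Adjunction.homEquiv_naturality_left]
  refine ((congrArg (i ≫ ·) hab.symm).trans
    ((Category.assoc _ _ _).symm.trans ((congrArg (· ≫ b) h0).trans zero_comp))).trans ?_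
  simp [Adjunction.homEquiv_unit]

end Groth.Agent.S7279
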