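import Groth.Statements.S7280
import Groth.Agent.Lib.DerivedOX.GammaZTriangle
import Groth.Agent.Lib.DerivedOX.RpushCoprod
import Groth.Agent.Lib.Triangulated.Sums

set_option autoImplicit false
set_option linter.style.haveILetI false
universe u
open CategoryTheory CategoryTheory.Limits AlgebraicGeometry
attribute [local instance] HasDerivedCategory.standard
open Perf

namespace Groth.Agent.S7280

/-- Let X be a scheme, j : U ⟶ X an open immersion which is quasi-compact, and T = X ∖ U (a closed
subset with retrocompact complement). Assuming the unbounded derived functor RΓ_T = i_* RH_T of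
sections with support in T exists on D(O_X): for every family Eᵢ of objects of D_QCoh(O_X) indexed
by a small type whose direct sums ∐ Eᵢ and ∐ RΓ_T(Eᵢ) exist in D(O_X), the canonical map ∐ RΓ_T(Eᵢ)
⟶ RΓ_T(∐ Eᵢ) is an isomorphism. (The published statement is RH_T(⊕ Eᵢ) = ⊕ RH_T(Eᵢ) in D(i⁻¹O_X) for
the inclusion i : T → X; since i_* identifies D(i⁻¹O_X) with the objects of D(O_X) supported on T
and commutes with direct sums, this is the same assertion for i_* RH_T = RΓ_T.) -/
theorem result {U X : Scheme.{u}} (j : U ⟶ X) [IsOpenImmersion j] [QuasiCompact j]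
    [CxOX.HasRgammaZ j] {ι : Type u} (E : ι → DCoh.D X) (hE : ∀ i, DCoh.IsQCohD (E i)) [HasCoproduct E]
    [HasCoproduct (fun i => (CxOX.RgammaZ j).obj (E i))] :
    IsIso (Sigma.desc (fun i => (CxOX.RgammaZ j).map (Sigma.ι E i))) := by
  classical
  open Groth.Agent.Lib.DerivedOX Groth.Agent.Lib.Triangulated in
  haveI := Exists.hasRpush j
  choose R e φ δ hT using fun i => GammaZTriangle.exists_triangle j (E i)
  let T : ι → Pretriangulated.Triangle (DCoh.D X) := fun i =>
    Pretriangulated.Triangle.mk ((CxOX.RgammaZToId j).app (E i)) (φ i) (δ i)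
  haveI : HasCoproduct R := CompactUnit.hasCoproduct ι R
  haveI : HasCoproduct fun i => (T i).obj₁ :=
    inferInstanceAs (HasCoproduct fun i => (CxOX.RgammaZ j).obj (E i))
  haveI : HasCoproduct fun i => (T i).obj₂ := inferInstanceAs (HasCoproduct E)
  haveI : HasCoproduct fun i => (T i).obj₃ := inferInstanceAs (HasCoproduct R)
  have hT' := Sums.coproduct_distinguished T hT
  let rE := fun i => (DCoh.restrictD j).obj (E i)
  haveI : HasCoproduct rE := CompactUnit.hasCoproduct ι rE
  haveI : HasCoproduct fun i => (DCoh.Rpush j).obj (rE i) := CompactUnit.hasCoproduct ι _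
  haveI := RpushCoprod.preservesColimit_Rpush j rE fun i => CompactUnit.isQCohD_restrictD j (hE i)
  haveI := CompactUnit.preservesColimits_restrictD j ι
  let eC : (∐ R) ≅ (DCoh.Rpush j).obj (∐ rE) :=
    HasColimit.isoOfNatIso (Discrete.natIso fun i => e i.as :
      Discrete.functor R ≅ Discrete.functor fun i => (DCoh.Rpush j).obj (rE i)) ≪≫ asIso (sigmaComparison (DCoh.Rpush j) rE)
  have hA : IsZero ((DCoh.restrictD j).obj (∐ fun i => (CxOX.RgammaZ j).obj (E i))) := by
    haveI : HasCoproduct fun i => (DCoh.restrictD j).obj ((CxOX.RgammaZ j).obj (E i)) :=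
      CompactUnit.hasCoproduct ι _
    refine IsZero.of_iso ?_
      (asIso (sigmaComparison (DCoh.restrictD j) fun i => (CxOX.RgammaZ j).obj (E i))).symm
    exact (IsZero.iff_id_eq_zero _).2 (Sigma.hom_ext _ _ fun i =>
      (GammaZTriangle.isZero_restrict_RgammaZ j (E i)).eq_of_src _ _)
  refine GammaZTriangle.isIso_lift j hA hT' eC _ (Sigma.hom_ext _ _ fun i => ?_)
  refine (Category.assoc _ _ _).symm.trans ((congrArg (· ≫ _) (Sigma.ι_desc _ _)).trans ?_)
  exact ((CxOX.RgammaZToId j).naturality (Sigma.ι E i)).trans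
    (Sigma.ι_map (fun i => (T i).mor₁) i).symm

end Groth.Agent.S7280
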