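import Groth.Statements.S7283
import Groth.Agent.S1145

set_option autoImplicit false
universe u
open Pi1

namespace Groth.Agent.S7283

open AlgebraicGeometry CategoryTheory CategoryTheory.Limits IsLocalRing

/-- Every point of a sober space has a generization with no further generization. -/
theorem exists_max {α : Type*} [TopologicalSpace α] [QuasiSober α] [T0Space α] (w : α) :
    ∃ η : α, η ⤳ w ∧ ∀ y, y ⤳ η → y = η := by
  have hirr : IsIrreducible (irreducibleComponent w) := isIrreducible_irreducibleComponent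
  have hgen : closure {hirr.genericPoint} = irreducibleComponent w :=
    hirr.isGenericPoint_genericPoint isClosed_irreducibleComponent
  refine ⟨hirr.genericPoint, specializes_iff_mem_closure.mpr (hgen.ge mem_irreducibleComponent), fun y hy => ?_⟩
  have hsub : irreducibleComponent w ⊆ closure {y} := hgen.ge.trans hy.closure_subset
  have heq := (irreducibleComponent_mem_irreducibleComponents w).2 isIrreducible_singleton.closure hsub
  exact Specializes.antisymm hy (specializes_iff_mem_closure.mpr (hgen.ge (heq (subset_closure rfl)))) |>.eq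

/-- Points without generizations inject into the irreducible components. -/
theorem finite_max {α : Type*} [TopologicalSpace α] [QuasiSober α] [T0Space α]
    (h : (irreducibleComponents α).Finite) : {η : α | ∀ y, y ⤳ η → y = η}.Finite := by
  refine Set.Finite.of_finite_image (f := fun η : α => closure ({η} : Set α)) (h.subset ?_) ?_
  · rintro - ⟨η, hη, rfl⟩
    refine ⟨isIrreducible_singleton.closure, fun T hT hle => ?_⟩
    have hg : closure {hT.closure.genericPoint} = closure T :=
      hT.closure.isGenericPoint_genericPoint isClosed_closure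
    have : hT.closure.genericPoint = η := hη _ (specializes_iff_mem_closure.mpr
      (hg.ge (subset_closure (hle (subset_closure rfl)))))
    rw [this] at hg
    exact subset_closure.trans hg.ge
  · intro a ha b _ hab
    exact (ha b (specializes_iff_mem_closure.mpr ((Set.ext_iff.mp hab a).mp (subset_closure rfl)))).symm

/-- Over a scheme with locally finitely many components, points in the closure of an open subset of an
etale finite cover are specializations of its points. -/
theorem exists_specializes {X W : Scheme.{u}} (h : W ⟶ X) [IsFinite h] [Etale h]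
    (hirr : ∀ V : X.Opens, IsCompact (V : Set X) → (irreducibleComponents ↥V).Finite)
    (O : Set W) (hO : IsOpen O) (z : W) (hz : z ∈ closure O) : ∃ y ∈ O, y ⤳ z := by
  obtain ⟨_, ⟨V, hV, rfl⟩, hzV, -⟩ :=
    X.isBasis_affineOpens.exists_subset_of_mem_open (Set.mem_univ (h z)) isOpen_univ
  let G : Set W := {η | (∀ y, y ⤳ η → y = η) ∧ h η ∈ V}
  have hG : G.Finite := by
    have : QuasiSober (V : Set X) := V.isOpen.isOpenEmbedding_subtypeVal.quasiSober
    have hfin := (finite_max (hirr V hV.isCompact)).image (fun v : V => (v : X))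
    refine Set.Finite.subset (hfin.preimage' fun b _ => h.finite_preimage_singleton b) fun η hη => ?_
    refine ⟨⟨h η, hη.2⟩, fun y hy => Subtype.ext ?_, rfl⟩
    obtain ⟨η', hη', hy'⟩ := Flat.generalizingMap h (hy.map continuous_subtype_val)
    rw [← hy', hη.1 η' hη']
  have hsub : O ∩ h ⁻¹' (V : Set X) ⊆ ⋃ η ∈ G ∩ O, closure {η} := by
    rintro w ⟨hwO, hwV⟩
    obtain ⟨η, hηw, hη⟩ := exists_max w
    exact Set.mem_biUnion (x := η) ⟨⟨hη, (hηw.map h.continuous).mem_open V.isOpen hwV⟩,
      hηw.mem_open hO hwO⟩ (specializes_iff_mem_closure.mp hηw)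
  have hz' : z ∈ closure (O ∩ h ⁻¹' (V : Set X)) := by
    rw [Set.inter_comm]
    exact (V.isOpen.preimage h.continuous).inter_closure ⟨hzV, hz⟩
  have hcl : IsClosed (⋃ η ∈ G ∩ O, closure ({η} : Set W)) :=
    (hG.inter_of_left O).isClosed_biUnion fun _ _ => isClosed_closure
  obtain ⟨η, hη, hzη⟩ := Set.mem_iUnion₂.mp (hcl.closure_subset_iff.mpr hsub hz')
  exact ⟨η, hη.2, specializes_iff_mem_closure.mpr hzη⟩

theorem exists_isClopen {X W : Scheme.{u}} (h : W ⟶ X) [IsFinite h] [Etale h] (U : X.Opens)
    (hU : Dense (U : Set X))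
    (hirr : ∀ V : X.Opens, IsCompact (V : Set X) → (irreducibleComponents ↥V).Finite)
    (hsh : ∀ x : X, x ∉ U → ∀ (R : Type u) [CommRing R] [IsLocalRing R] [Algebra (X.presheaf.stalk x) R]
      [IsLocalHom (algebraMap (X.presheaf.stalk x) R)] [Hensel.IsStrictHenselization (X.presheaf.stalk x) R],
      ConnectedSpace (FEt.puncturedSpec R : Scheme.{u}))
    (C : Set (pullback h U.ι : Scheme.{u})) (hC : IsClopen C) :
    ∃ D : Set W, IsClopen D ∧ (pullback.fst h U.ι).base ⁻¹' D = C := by
  let m := pullback.fst h U.ι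
  have hr : Set.range m.base = h.base ⁻¹' (U : Set X) := by
    rw [IsOpenImmersion.range_pullbackFst]; simp
  have hinj : Function.Injective m.base := m.isOpenEmbedding.injective
  have ho : ∀ E, IsOpen E → IsOpen (m.base '' E) := fun E hE => m.isOpenEmbedding.isOpenMap _ hE
  let K : Set W := closure (m.base '' C) ∩ closure (m.base '' Cᶜ)
  have hdense : Dense (Set.range m.base) := hr ▸ hU.preimage h.isOpenMap
  have hun : closure (m.base '' C) ∪ closure (m.base '' Cᶜ) = Set.univ := by
    rw [← closure_union, ← Set.image_union, Set.union_compl_self, Set.image_univ, hdense.closure_eq]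
  have hdisj : ∀ z, z ∉ K := by
    intro z₀ hz₀
    have hKc : IsClosed K := isClosed_closure.inter isClosed_closure
    have : QuasiSober K := hKc.isClosedEmbedding_subtypeVal.quasiSober
    obtain ⟨⟨z, hzC, hzD⟩, -, hzmax⟩ := exists_max (⟨z₀, hz₀⟩ : K)
    obtain ⟨y₁, hy₁O, hy₁⟩ := exists_specializes h hirr _ (ho _ hC.isOpen) z hzC
    obtain ⟨y₂, hy₂O, hy₂⟩ := exists_specializes h hirr _ (ho _ hC.compl.isOpen) z hzD
    have hzr : z ∉ Set.range m.base := by
      rintro ⟨c, rfl⟩
      rcases em (c ∈ C) with hc | hc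
      · obtain ⟨d, ⟨d', hd', rfl⟩, ⟨e, he, hee⟩⟩ :=
          mem_closure_iff.mp hzD _ (ho _ hC.isOpen) ⟨c, hc, rfl⟩
        exact (hinj hee ▸ he) hd'
      · obtain ⟨d, ⟨d', hd', rfl⟩, ⟨e, he, hee⟩⟩ :=
          mem_closure_iff.mp hzC _ (ho _ hC.compl.isOpen) ⟨c, hc, rfl⟩
        exact hd' (hinj hee ▸ he)
    have hzU : h z ∉ U := fun hzU => hzr (hr.ge hzU)
    let j := W.fromSpecStalk z
    let P : Set (PrimeSpectrum (W.presheaf.stalk z)) := {closedPoint (W.presheaf.stalk z)}ᶜ
    have hP : _root_.IsPreconnected P := Groth.Agent.S1145.isPreconnected_punctured h z (hsh _ hzU)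
    have hlift : ∀ y, y ∈ Set.range m.base → y ⤳ z → ∃ p ∈ P, j p = y := by
      intro y hy hyz
      obtain ⟨p, hp⟩ := Scheme.range_fromSpecStalk.ge hyz
      refine ⟨p, fun hpc => hzr ?_, hp⟩
      rwa [← Scheme.fromSpecStalk_closedPoint (X := W) (x := z), ← Set.mem_singleton_iff.mp hpc, hp]
    obtain ⟨p₁, hp₁, hj₁⟩ := hlift y₁ (Set.image_subset_range _ _ hy₁O) hy₁
    obtain ⟨p₂, hp₂, hj₂⟩ := hlift y₂ (Set.image_subset_range _ _ hy₂O) hy₂
    obtain ⟨p, hpP, hpK⟩ := isPreconnected_closed_iff.mp hP (j ⁻¹' closure (m.base '' C))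
      (j ⁻¹' closure (m.base '' Cᶜ)) (isClosed_closure.preimage j.continuous)
      (isClosed_closure.preimage j.continuous) (fun p _ => hun.ge (Set.mem_univ (j p)))
      ⟨p₁, hp₁, subset_closure (hj₁ ▸ hy₁O)⟩ ⟨p₂, hp₂, subset_closure (hj₂ ▸ hy₂O)⟩
    have hsp : j p ⤳ z := Scheme.range_fromSpecStalk.le ⟨p, rfl⟩
    have heq : j p = z := congrArg Subtype.val
      (hzmax ⟨j p, hpK⟩ ((subtype_specializes_iff ⟨j p, hpK⟩ ⟨z, hzC, hzD⟩).mpr hsp))
    exact hpP (j.isEmbedding.injective (heq.trans Scheme.fromSpecStalk_closedPoint.symm))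
  have heq : closure (m.base '' C) = (closure (m.base '' Cᶜ))ᶜ :=
    Set.Subset.antisymm (fun z h1 h2 => hdisj z ⟨h1, h2⟩) fun z hz =>
      (hun.ge (Set.mem_univ z)).resolve_right hz
  refine ⟨closure (m.base '' C), ⟨isClosed_closure, heq ▸ isClosed_closure.isOpen_compl⟩, ?_⟩
  exact Set.Subset.antisymm
    (fun c hc => by_contra fun hcC => hdisj _ ⟨hc, subset_closure ⟨c, hcC, rfl⟩⟩)
    fun c hc => subset_closure ⟨c, hc, rfl⟩

/-- Let X be a scheme and U a dense open subscheme such that every quasi-compact open subset of X has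
finitely many irreducible components and, for every point x of the complement of U and every strict
henselization R of the local ring at x, the punctured spectrum of R is connected. Then restriction
of finite etale covers from X to U is fully faithful. -/
theorem result {X : Scheme.{u}} (U : X.Opens)
    (hU : Dense (U : Set X))
    (hirr : ∀ V : X.Opens, IsCompact (V : Set X) → (irreducibleComponents ↥V).Finite)
    (hsh : ∀ x : X, x ∉ U → ∀ (R : Type u) [CommRing R] [IsLocalRing R] [Algebra (X.presheaf.stalk x) R]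
      [IsLocalHom (algebraMap (X.presheaf.stalk x) R)] [Hensel.IsStrictHenselization (X.presheaf.stalk x) R],
      ConnectedSpace (FEt.puncturedSpec R : Scheme.{u})) :
    (FEt.restrict U.ι).Full ∧ (FEt.restrict U.ι).Faithful := by
  refine Groth.Agent.Lib.FEt.FullyFaithful.full_and_faithful U.ι (fun s hs hne => ?_) fun W C hC => ?_
  · obtain ⟨x, hxs, hxU⟩ := hU.inter_open_nonempty s hs.2 hne
    exact ⟨x, hxs, by rw [Scheme.Opens.range_ι]; exact hxU⟩
  · have : IsFinite W.hom := W.prop.1
    have : Etale W.hom := W.prop.2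
    exact exists_isClopen W.hom U hU hirr hsh C hC

end Groth.Agent.S7283
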