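import Groth.Statements.S7287
import Groth.Agent.Lib.Flat55.ResTrdegBC
import Groth.Agent.H20.FlatFibreTrdeg

set_option autoImplicit false
open CategoryTheory CategoryTheory.Limits AlgebraicGeometry Opposite
universe u
open RelCyc

namespace Groth.Agent.S7287

open scoped TensorProduct
open Groth.Agent.Lib Groth.Agent.Lib.Cyc Groth.Agent.H46.UnivOpenTrdeg IsLocalRing

/-- If `x` and `y` are jointly independent, then `x` is independent over the algebraic closure of
the field generated by `y`. -/
theorem indep_over_closure {k M : Type u} [Field k] [Field M] [Algebra k M] {ι ι' : Type u}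
    {x : ι → M} {y : ι' → M} (h : AlgebraicIndependent k (Sum.elim x y)) :
    AlgebraicIndependent
      (algebraicClosure (IntermediateField.adjoin k (Set.range y)) M) x := by
  have h1 := (AlgebraicIndependent.sumElim_iff.mp h).2
  exact (IntermediateField.algebraicIndependent_adjoin_iff.mpr h1).algebraicClosure

/-- Scalars may be moved into the algebraic closure of a field generated by the image of a
transcendence basis. -/
theorem mem_closure_of_basis {k L M : Type u} [Field k] [Field L] [Field M] [Algebra k L]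
    [Algebra k M] (ψ : L →ₐ[k] M) {ι : Type u} {u : ι → L} (hu : IsTranscendenceBasis k u)
    (U : Set M) (hU : ∀ i, ψ (u i) ∈ U) (z : L) :
    ψ z ∈ algebraicClosure (IntermediateField.adjoin k U) M := by
  haveI := hu.isAlgebraic
  have hle : Algebra.adjoin k (Set.range u) ≤
      (IntermediateField.adjoin k U).toSubalgebra.comap ψ :=
    Algebra.adjoin_le fun _ ⟨i, hi⟩ => hi ▸ IntermediateField.subset_adjoin k U (hU i)
  let φ : Algebra.adjoin k (Set.range u) →+* IntermediateField.adjoin k U :=
    (ψ.toRingHom.comp (Algebra.adjoin k (Set.range u)).val.toRingHom).codRestrict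
      (IntermediateField.adjoin k U) fun w => hle w.2
  refine mem_algebraicClosure_iff.2 (IsAlgebraic.ringHom_of_comp_eq φ ψ.toRingHom
    (Algebra.IsAlgebraic.isAlgebraic z) ?_ ?_)
  · intro a b hab
    exact Subtype.ext (ψ.toRingHom.injective (congrArg Subtype.val hab))
  · rfl

/-- Two extensions of `K` admit a compositum in which given independent families stay jointly
independent. -/
theorem exists_field_pair {K κ₁ κ₂ : Type u} [Field K] [Field κ₁] [Field κ₂] [Algebra K κ₁]
    [Algebra K κ₂] {ι₁ ι₂ : Type u} {u₁ : ι₁ → κ₁} {u₂ : ι₂ → κ₂}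
    (h₁ : AlgebraicIndependent K u₁) (h₂ : AlgebraicIndependent K u₂) :
    ∃ (M : Type u) (_ : Field M) (_ : Algebra K M) (j₁ : κ₁ →ₐ[K] M) (j₂ : κ₂ →ₐ[K] M),
      AlgebraicIndependent K (Sum.elim (fun i => j₂ (u₂ i)) (fun i => j₁ (u₁ i))) := by
  let T := κ₁ ⊗[K] κ₂
  have hT : AlgebraicIndependent K
      (Sum.elim (fun i => (1 : κ₁) ⊗ₜ[K] u₂ i) (algebraMap κ₁ T ∘ u₁)) :=
    h₁.sumElim_comp (H20.FlatFibreTrdeg.one_tmul_independent (L := κ₁) h₂)
  let w : ι₂ ⊕ ι₁ → T := Sum.elim (fun i => (1 : κ₁) ⊗ₜ[K] u₂ i) (algebraMap κ₁ T ∘ u₁)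
  let f := MvPolynomial.aeval (R := K) w
  let S : Submonoid T := (nonZeroDivisors (MvPolynomial (ι₂ ⊕ ι₁) K)).map f.toRingHom.toMonoidHom
  have hdisj : Disjoint ((⊥ : Ideal T) : Set T) (S : Set T) := by
    rw [Set.disjoint_left]
    rintro _ h ⟨p, hp, rfl⟩
    have : p = 0 := hT.eq_zero_of_aeval_eq_zero p h
    exact nonZeroDivisors.ne_zero hp this
  obtain ⟨P, hP, -, hPS⟩ := Ideal.exists_le_prime_disjoint ⊥ S hdisj
  let M := FractionRing (T ⧸ P)
  let ψ : T →ₐ[K] M :=
    (IsScalarTower.toAlgHom K (T ⧸ P) M).comp (Ideal.Quotient.mkₐ K P)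
  refine ⟨M, inferInstance, inferInstance, ψ.comp Algebra.TensorProduct.includeLeft,
    ψ.comp Algebra.TensorProduct.includeRight, ?_⟩
  rw [algebraicIndependent_iff]
  intro p hp
  have heq : ψ.comp f = MvPolynomial.aeval (Sum.elim
      (fun i => (ψ.comp Algebra.TensorProduct.includeRight) (u₂ i))
      (fun i => (ψ.comp Algebra.TensorProduct.includeLeft) (u₁ i))) := by
    refine MvPolynomial.algHom_ext ?_
    rintro (i | i) <;> simp [f, w, T, Algebra.TensorProduct.algebraMap_apply]
  have h0 : ψ (f p) = 0 := by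
    rw [← hp, ← heq]
    rfl
  have hmem : f p ∈ P := Ideal.Quotient.eq_zero_iff_mem.mp
    ((map_eq_zero_iff _ (IsFractionRing.injective (T ⧸ P) M)).mp h0)
  by_contra hne
  exact Set.disjoint_left.mp hPS hmem ⟨p, mem_nonZeroDivisors_of_ne_zero hne, rfl⟩

/-- The transcendence basis of the subfield stays independent over the larger base. -/
theorem base_indep {k K L κ : Type u} [Field k] [Field K] [Field L] [Field κ] [Algebra k K]
    [Algebra k L] [Algebra k κ] [Algebra K κ] [Algebra L κ] [IsScalarTower k K κ]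
    [IsScalarTower k L κ] {ιt ιu : Type u} {t : ιt → K} (ht : IsTranscendenceBasis k t)
    (htL : AlgebraicIndependent L (fun i => algebraMap K κ (t i))) {u : ιu → L}
    (hu : AlgebraicIndependent k u) :
    AlgebraicIndependent K (fun i => algebraMap L κ (u i)) := by
  have h1 : AlgebraicIndependent k
      (Sum.elim (fun i => algebraMap L κ (u i)) (fun i => algebraMap K κ (t i))) := by
    have := (hu.sumElim_comp htL).comp (Equiv.sumComm ιu ιt) (Equiv.injective _)
    convert this using 1
    funext i; rcases i with i | i <;> rfl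
  have h2 := indep_over_closure h1
  let E := algebraicClosure (IntermediateField.adjoin k
    (Set.range fun i => algebraMap K κ (t i))) κ
  let φ : K →+* E := (algebraMap K κ).codRestrict E fun z =>
    mem_closure_of_basis (IsScalarTower.toAlgHom k K κ) ht (Set.range fun i => algebraMap K κ (t i))
      (fun i => ⟨i, rfl⟩) z
  exact AlgebraicIndependent.of_ringHom_of_comp_eq φ (RingHom.id κ) h2 φ.injective rfl

theorem indep_of_trdegAt {X S X' S' : Scheme.{u}} {f : X ⟶ S} {f' : X' ⟶ S'} {g' : X' ⟶ X}
    {g : S' ⟶ S} (sq : IsPullback g' f' f g) (x' : X') (r : ℕ) {ι : Type u}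
    (t : ι → X.residueField (g' x'))
    (ht : letI := (f.residueFieldMap (g' x')).hom.toAlgebra
      IsTranscendenceBasis (S.residueField (f (g' x'))) t)
    (hι : Cardinal.mk ι = r) (hr : Residue.trdegAt f' x' = r) :
    letI := (f'.residueFieldMap x').hom.toAlgebra
    AlgebraicIndependent (S'.residueField (f' x'))
      (fun i => (g'.residueFieldMap x').hom (t i)) := by
  let a := g'.residueFieldMap x'
  let b := f'.residueFieldMap x'
  obtain ⟨j, hj⟩ := Flat55.ResTrdegBC.exists_factor (f' x') g (f (g' x'))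
    (by rw [← Scheme.Hom.comp_apply, ← sq.w, Scheme.Hom.comp_apply])
  have hcomm : f.residueFieldMap (g' x') ≫ a = j ≫ b := by
    apply Spec.map_injective
    rw [← cancel_mono (S.fromSpecResidueField (f (g' x'))), Spec.map_comp, Spec.map_comp,
      Category.assoc, Category.assoc, hj, Scheme.Hom.SpecMap_residueFieldMap_fromSpecResidueField,
      Scheme.Hom.SpecMap_residueFieldMap_fromSpecResidueField_assoc,
      Scheme.Hom.SpecMap_residueFieldMap_fromSpecResidueField_assoc, sq.w]
  have hgen := Flat55.ResTrdegBC.closure_residueField sq x'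
  letI : Algebra (S.residueField (f (g' x'))) (X.residueField (g' x')) :=
    (f.residueFieldMap (g' x')).hom.toAlgebra
  letI : Algebra (S'.residueField (f' x')) (X'.residueField x') := b.hom.toAlgebra
  letI : Algebra (S.residueField (f (g' x'))) (X'.residueField x') :=
    (a.hom.comp (f.residueFieldMap (g' x')).hom).toAlgebra
  haveI : Finite ι := Cardinal.lt_aleph0_iff_finite.mp (hι ▸ Cardinal.natCast_lt_aleph0)
  let v : ι → X'.residueField x' := fun i => a.hom (t i)
  let E₀ := IntermediateField.adjoin (S'.residueField (f' x')) (Set.range v)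
  haveI halg : Algebra.IsAlgebraic E₀ (X'.residueField x') := by
    refine ⟨fun z => mem_algebraicClosure_iff.1 ?_⟩
    have hsub : Set.range a.hom ∪ Set.range b.hom ⊆ algebraicClosure E₀ (X'.residueField x') := by
      rintro z (⟨y, rfl⟩ | ⟨y, rfl⟩)
      · have hy := mem_closure_of_basis (k := S.residueField (f (g' x')))
          (AlgHom.mk a.hom fun _ => rfl) ht (Set.range v) (fun i => ⟨i, rfl⟩) y
        let φ : IntermediateField.adjoin (S.residueField (f (g' x'))) (Set.range v) →+* E₀ :=
          (IntermediateField.adjoin (S.residueField (f (g' x')))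
            (Set.range v)).val.toRingHom.codRestrict E₀ fun w => by
            obtain ⟨w, hw⟩ := w
            show w ∈ E₀
            induction hw using IntermediateField.adjoin_induction with
            | mem w hw => exact IntermediateField.subset_adjoin _ _ hw
            | algebraMap c =>
              rw [show algebraMap (S.residueField (f (g' x'))) (X'.residueField x') c =
                b.hom (j.hom c) from congr($(hcomm).hom c)]
              exact E₀.algebraMap_mem _
            | add x y _ _ hx hy => exact add_mem hx hy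
            | inv x _ hx => exact inv_mem hx
            | mul x y _ _ hx hy => exact mul_mem hx hy
        exact mem_algebraicClosure_iff.2 (IsAlgebraic.ringHom_of_comp_eq φ (RingHom.id _)
          (mem_algebraicClosure_iff.1 hy) φ.injective rfl)
      · exact IntermediateField.algebraMap_mem _ (⟨b.hom y, E₀.algebraMap_mem y⟩ : E₀)
    have hle : Subfield.closure (Set.range a.hom ∪ Set.range b.hom) ≤
        (algebraicClosure E₀ (X'.residueField x')).toSubfield := Subfield.closure_le.2 hsub
    rw [hgen] at hle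
    exact hle trivial
  haveI := IntermediateField.isAlgebraic_adjoin_iff_top.1 halg
  exact (Algebra.IsAlgebraic.isTranscendenceBasis_of_le_trdeg_of_finite (R := S'.residueField (f' x')) v
    (hι.le.trans hr.ge)).1

/-- Let f from X to S be locally of finite type, r a natural number and g from S' to S a surjective
morphism. Let S'' be the fibre product of S' with itself over S (projections p, q), X' the base
change of X along g (structure map f', projection g' to X), and X'' the base change of X along S''
with structure map f'' and the two projections p', q' to X' lying over p and q and compatible with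
the projections to X. Let x be a point of X whose residue field has transcendence degree r over that
of f(x). If x1 and x2 are points of X' mapping to x whose residue fields have transcendence degree r
over those of their images in S', then there is a point of X'' whose residue field has transcendence
degree r over that of its image in S'' and whose two projections are x1 and x2. -/
theorem result {X S S' S'' X' X'' : Scheme.{u}}
    (f : X ⟶ S) [LocallyOfFiniteType f] (r : ℕ) (g : S' ⟶ S) [Surjective g]
    (p q : S'' ⟶ S') (hS : IsPullback p q g g)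
    (f' : X' ⟶ S') (g' : X' ⟶ X) (hX : IsPullback g' f' f g)
    (f'' : X'' ⟶ S'') (p' q' : X'' ⟶ X') (hp : IsPullback p' f'' f' p) (hq : IsPullback q' f'' f' q)
    (hpq : p' ≫ g' = q' ≫ g')
    (x : ↥X) (hx : Dual3.resTrdeg f x = r)
    (x₁ x₂ : ↥X') (h₁ : g'.base x₁ = x) (h₂ : g'.base x₂ = x)
    (hx₁ : Dual3.resTrdeg f' x₁ = r) (hx₂ : Dual3.resTrdeg f' x₂ = r) :
    ∃ x'' : ↥X'', Dual3.resTrdeg f'' x'' = r ∧ p'.base x'' = x₁ ∧ q'.base x'' = x₂ := by
  obtain ⟨s, hs⟩ : ∃ s, f x = s := ⟨_, rfl⟩
  letI : Algebra (S.residueField (f x)) (X.residueField x) := (f.residueFieldMap x).hom.toAlgebra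
  haveI : FaithfulSMul (S.residueField (f x)) (X.residueField x) :=
    (faithfulSMul_iff_algebraMap_injective _ _).2 (RingHom.injective _)
  obtain ⟨ι, t, ht⟩ := exists_isTranscendenceBasis' (S.residueField (f x)) (X.residueField x)
  have hι : Cardinal.mk ι = r := ht.cardinalMk_eq_trdeg.trans hx
  -- residue maps into the two points
  obtain ⟨a₁, ha₁⟩ := Flat55.ResTrdegBC.exists_factor x₁ g' x h₁
  obtain ⟨a₂, ha₂⟩ := Flat55.ResTrdegBC.exists_factor x₂ g' x h₂
  let b₁ := f'.residueFieldMap x₁
  let b₂ := f'.residueFieldMap x₂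
  obtain ⟨j₁, hj₁⟩ := Flat55.ResTrdegBC.exists_factor (f' x₁) g (f x)
    (by rw [← Scheme.Hom.comp_apply, ← hX.w, Scheme.Hom.comp_apply, h₁])
  obtain ⟨j₂, hj₂⟩ := Flat55.ResTrdegBC.exists_factor (f' x₂) g (f x)
    (by rw [← Scheme.Hom.comp_apply, ← hX.w, Scheme.Hom.comp_apply, h₂])
  have hc₁ : f.residueFieldMap x ≫ a₁ = j₁ ≫ b₁ := by
    apply Spec.map_injective
    rw [← cancel_mono (S.fromSpecResidueField (f x)), Spec.map_comp, Spec.map_comp,
      Category.assoc, Category.assoc, hj₁, Scheme.Hom.SpecMap_residueFieldMap_fromSpecResidueField,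
      reassoc_of% ha₁, Scheme.Hom.SpecMap_residueFieldMap_fromSpecResidueField_assoc, hX.w]
  have hc₂ : f.residueFieldMap x ≫ a₂ = j₂ ≫ b₂ := by
    apply Spec.map_injective
    rw [← cancel_mono (S.fromSpecResidueField (f x)), Spec.map_comp, Spec.map_comp,
      Category.assoc, Category.assoc, hj₂, Scheme.Hom.SpecMap_residueFieldMap_fromSpecResidueField,
      reassoc_of% ha₂, Scheme.Hom.SpecMap_residueFieldMap_fromSpecResidueField_assoc, hX.w]
  letI : Algebra (X.residueField x) (X'.residueField x₁) := a₁.hom.toAlgebra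
  letI : Algebra (X.residueField x) (X'.residueField x₂) := a₂.hom.toAlgebra
  letI : Algebra (S.residueField (f x)) (S'.residueField (f' x₁)) := j₁.hom.toAlgebra
  letI : Algebra (S.residueField (f x)) (S'.residueField (f' x₂)) := j₂.hom.toAlgebra
  letI : Algebra (S'.residueField (f' x₁)) (X'.residueField x₁) := b₁.hom.toAlgebra
  letI : Algebra (S'.residueField (f' x₂)) (X'.residueField x₂) := b₂.hom.toAlgebra
  letI : Algebra (S.residueField (f x)) (X'.residueField x₁) :=
    (f.residueFieldMap x ≫ a₁).hom.toAlgebra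
  letI : Algebra (S.residueField (f x)) (X'.residueField x₂) :=
    (f.residueFieldMap x ≫ a₂).hom.toAlgebra
  haveI : IsScalarTower (S.residueField (f x)) (X.residueField x) (X'.residueField x₁) :=
    IsScalarTower.of_algebraMap_eq fun _ => rfl
  haveI : IsScalarTower (S.residueField (f x)) (X.residueField x) (X'.residueField x₂) :=
    IsScalarTower.of_algebraMap_eq fun _ => rfl
  haveI : IsScalarTower (S.residueField (f x)) (S'.residueField (f' x₁)) (X'.residueField x₁) :=
    IsScalarTower.of_algebraMap_eq fun c => congr($(hc₁).hom c)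
  haveI : IsScalarTower (S.residueField (f x)) (S'.residueField (f' x₂)) (X'.residueField x₂) :=
    IsScalarTower.of_algebraMap_eq fun c => congr($(hc₂).hom c)
  have hw : ∀ (y : X') (hy : g' y = x) (a : X.residueField x ⟶ X'.residueField y),
      Spec.map a ≫ X.fromSpecResidueField x = X'.fromSpecResidueField y ≫ g' →
      Dual3.resTrdeg f' y = r →
      letI := (f'.residueFieldMap y).hom.toAlgebra
      AlgebraicIndependent (S'.residueField (f' y)) (fun i => a.hom (t i)) := by
    intro y hy a ha hr
    subst hy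
    have : a = g'.residueFieldMap y := by
      apply Spec.map_injective
      rw [← cancel_mono (X.fromSpecResidueField (g' y)), ha,
        Scheme.Hom.SpecMap_residueFieldMap_fromSpecResidueField]
    subst this
    exact indep_of_trdegAt hX y r t ht hι hr
  have htL₁ := hw x₁ h₁ a₁ ha₁ hx₁
  have htL₂ := hw x₂ h₂ a₂ ha₂ hx₂
  obtain ⟨ι₁, u₁, hu₁⟩ := exists_isTranscendenceBasis' (S.residueField (f x))
    (S'.residueField (f' x₁))
  obtain ⟨ι₂, u₂, hu₂⟩ := exists_isTranscendenceBasis' (S.residueField (f x))
    (S'.residueField (f' x₂))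
  obtain ⟨M, _, _, e₁, e₂, hM⟩ := exists_field_pair
    (base_indep (κ := X'.residueField x₁) ht htL₁ hu₁.1)
    (base_indep (κ := X'.residueField x₂) ht htL₂ hu₂.1)
  letI : Algebra (S.residueField (f x)) M :=
    ((algebraMap (X.residueField x) M).comp (f.residueFieldMap x).hom).toAlgebra
  haveI : IsScalarTower (S.residueField (f x)) (X.residueField x) M :=
    IsScalarTower.of_algebraMap_eq fun _ => rfl
  let U : ι₂ ⊕ ι₁ → M := Sum.elim (fun i => e₂ (algebraMap _ (X'.residueField x₂) (u₂ i)))
    (fun i => e₁ (algebraMap _ (X'.residueField x₁) (u₁ i)))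
  have hjoint : AlgebraicIndependent (S.residueField (f x))
      (Sum.elim (fun i => algebraMap (X.residueField x) M (t i)) U) := by
    have := (ht.1.sumElim_comp hM).comp (Equiv.sumComm ι (ι₂ ⊕ ι₁)) (Equiv.injective _)
    convert this using 1
    funext i; rcases i with i | i <;> rfl
  have hind := indep_over_closure hjoint
  let E := algebraicClosure (IntermediateField.adjoin (S.residueField (f x)) (Set.range U)) M
  have hE₁ : ∀ z, e₁ (b₁.hom z) ∈ E := fun z =>
    mem_closure_of_basis (k := S.residueField (f x)) (L := S'.residueField (f' x₁))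
      (AlgHom.mk (e₁.toRingHom.comp b₁.hom) fun c => by
        show e₁ (b₁.hom (j₁.hom c)) = algebraMap (X.residueField x) M ((f.residueFieldMap x).hom c)
        rw [← e₁.commutes]
        exact congrArg e₁ (congr($(hc₁).hom c)).symm) hu₁ (Set.range U)
      (fun i => ⟨Sum.inr i, rfl⟩) z
  have hE₂ : ∀ z, e₂ (b₂.hom z) ∈ E := fun z =>
    mem_closure_of_basis (k := S.residueField (f x)) (L := S'.residueField (f' x₂))
      (AlgHom.mk (e₂.toRingHom.comp b₂.hom) fun c => by
        show e₂ (b₂.hom (j₂.hom c)) = algebraMap (X.residueField x) M ((f.residueFieldMap x).hom c)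
        rw [← e₂.commutes]
        exact congrArg e₂ (congr($(hc₂).hom c)).symm) hu₂ (Set.range U)
      (fun i => ⟨Sum.inl i, rfl⟩) z
  -- the point
  let E₁ : X'.residueField x₁ ⟶ CommRingCat.of M := CommRingCat.ofHom e₁.toRingHom
  let E₂ : X'.residueField x₂ ⟶ CommRingCat.of M := CommRingCat.ofHom e₂.toRingHom
  let P₁ : Spec (CommRingCat.of M) ⟶ X' := Spec.map E₁ ≫ X'.fromSpecResidueField x₁
  let P₂ : Spec (CommRingCat.of M) ⟶ X' := Spec.map E₂ ≫ X'.fromSpecResidueField x₂
  have hE12 : a₁ ≫ E₁ = a₂ ≫ E₂ := CommRingCat.hom_ext (RingHom.ext fun c =>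
    (e₁.commutes c).trans (e₂.commutes c).symm)
  have hPg : P₁ ≫ g' = P₂ ≫ g' := by
    simp only [P₁, P₂, Category.assoc, ← ha₁, ← ha₂]
    rw [← Spec.map_comp_assoc, ← Spec.map_comp_assoc, hE12]
  let sM : Spec (CommRingCat.of M) ⟶ S'' := hS.lift (P₁ ≫ f') (P₂ ≫ f') (by
    simpa only [P₁, P₂, Category.assoc, hX.w] using congr($hPg ≫ f))
  let xM : Spec (CommRingCat.of M) ⟶ X'' := hp.lift P₁ sM (hS.lift_fst _ _ _).symm
  have hp' : xM ≫ p' = P₁ := hp.lift_fst _ _ _
  have hq' : xM ≫ q' = P₂ := by
    refine hX.hom_ext ?_ ?_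
    · rw [Category.assoc, ← hpq, reassoc_of% hp', hPg]
    · rw [Category.assoc, hq.w, hp.lift_snd_assoc, hS.lift_snd]
  obtain ⟨x'', hx''⟩ : ∃ z, xM (closedPoint M) = z := ⟨_, rfl⟩
  have hpx : p' x'' = x₁ := by
    rw [← hx'', ← Scheme.Hom.comp_apply, hp', Scheme.Hom.comp_apply,
      Scheme.fromSpecResidueField_apply]
  have hqx : q' x'' = x₂ := by
    rw [← hx'', ← Scheme.Hom.comp_apply, hq', Scheme.Hom.comp_apply,
      Scheme.fromSpecResidueField_apply]
  refine ⟨x'', le_antisymm ((Flat55.ResTrdegBC.trdegAt_le hp x'').trans (by rw [hpx]; exact hx₁.le))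
    ?_, hpx, hqx⟩
  obtain ⟨ρ, hρ⟩ := exists_residue_factor xM x'' hx''
  obtain ⟨A₁, hA₁⟩ := Flat55.ResTrdegBC.exists_factor x'' p' x₁ hpx
  let b := f''.residueFieldMap x''
  have hAρ : A₁ ≫ ρ = E₁ := by
    apply Spec.map_injective
    rw [← cancel_mono (X'.fromSpecResidueField x₁), Spec.map_comp, Category.assoc, hA₁,
      reassoc_of% hρ, hp']
  obtain ⟨c₁, hc'₁⟩ := Flat55.ResTrdegBC.exists_factor (f'' x'') p (f' x₁)
    (by rw [← Scheme.Hom.comp_apply, ← hp.w, Scheme.Hom.comp_apply, hpx])
  obtain ⟨c₂, hc'₂⟩ := Flat55.ResTrdegBC.exists_factor (f'' x'') q (f' x₂)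
    (by rw [← Scheme.Hom.comp_apply, ← hq.w, Scheme.Hom.comp_apply, hqx])
  have hcM₁ : c₁ ≫ b ≫ ρ = b₁ ≫ E₁ := by
    apply Spec.map_injective
    rw [← cancel_mono (S'.fromSpecResidueField (f' x₁))]
    simp only [Spec.map_comp, Category.assoc, b, b₁, hc'₁,
      Scheme.Hom.SpecMap_residueFieldMap_fromSpecResidueField_assoc,
      Scheme.Hom.SpecMap_residueFieldMap_fromSpecResidueField, reassoc_of% hρ]
    rw [hp.lift_snd_assoc, hS.lift_fst]
    simp only [P₁, Category.assoc]
  have hcM₂ : c₂ ≫ b ≫ ρ = b₂ ≫ E₂ := by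
    apply Spec.map_injective
    rw [← cancel_mono (S'.fromSpecResidueField (f' x₂))]
    simp only [Spec.map_comp, Category.assoc, b, b₂, hc'₂,
      Scheme.Hom.SpecMap_residueFieldMap_fromSpecResidueField_assoc,
      Scheme.Hom.SpecMap_residueFieldMap_fromSpecResidueField, reassoc_of% hρ]
    rw [hp.lift_snd_assoc, hS.lift_snd]
    simp only [P₂, Category.assoc]
  have hbE : ∀ z, ρ.hom (b.hom z) ∈ E := by
    let F : Subfield (S''.residueField (f'' x'')) :=
      E.toSubfield.comap (ρ.hom.comp b.hom)
    suffices F = ⊤ from fun z => (show z ∈ F by rw [this]; trivial)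
    have hF : ∀ (s'' : S'') (c₁ : S'.residueField (p s'') ⟶ S''.residueField s''),
        Spec.map c₁ ≫ S'.fromSpecResidueField (p s'') = S''.fromSpecResidueField s'' ≫ p →
        c₁ = p.residueFieldMap s'' := fun s'' c h => by
      apply Spec.map_injective
      rw [← cancel_mono (S'.fromSpecResidueField (p s'')), h,
        Scheme.Hom.SpecMap_residueFieldMap_fromSpecResidueField]
    rw [eq_top_iff, ← Flat55.ResTrdegBC.closure_residueField hS (f'' x''), Subfield.closure_le]
    rintro z (⟨w, rfl⟩ | ⟨w, rfl⟩)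
    · have key : ∀ (s' : S') (hs' : p (f'' x'') = s') (c : S'.residueField s' ⟶ S''.residueField (f'' x'')),
          Spec.map c ≫ S'.fromSpecResidueField s' = S''.fromSpecResidueField (f'' x'') ≫ p →
          Set.range (p.residueFieldMap (f'' x'')).hom ⊆ Set.range c.hom := by
        intro s' hs' c hc
        subst hs'
        rw [hF _ c hc]
      obtain ⟨v, hv⟩ := key (f' x₁)
        (by rw [← Scheme.Hom.comp_apply, ← hp.w, Scheme.Hom.comp_apply, hpx]) c₁ hc'₁ ⟨w, rfl⟩
      rw [← hv]
      show ρ.hom (b.hom (c₁.hom v)) ∈ E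
      rw [show ρ.hom (b.hom (c₁.hom v)) = e₁ (b₁.hom v) from congr($(hcM₁).hom v)]
      exact hE₁ v
    · have key : ∀ (s' : S') (hs' : q (f'' x'') = s') (c : S'.residueField s' ⟶ S''.residueField (f'' x'')),
          Spec.map c ≫ S'.fromSpecResidueField s' = S''.fromSpecResidueField (f'' x'') ≫ q →
          Set.range (q.residueFieldMap (f'' x'')).hom ⊆ Set.range c.hom := by
        intro s' hs' c hc
        subst hs'
        have : c = q.residueFieldMap (f'' x'') := by
          apply Spec.map_injective
          rw [← cancel_mono (S'.fromSpecResidueField (q (f'' x''))), hc,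
            Scheme.Hom.SpecMap_residueFieldMap_fromSpecResidueField]
        rw [this]
      obtain ⟨v, hv⟩ := key (f' x₂)
        (by rw [← Scheme.Hom.comp_apply, ← hq.w, Scheme.Hom.comp_apply, hqx]) c₂ hc'₂ ⟨w, rfl⟩
      rw [← hv]
      show ρ.hom (b.hom (c₂.hom v)) ∈ E
      rw [show ρ.hom (b.hom (c₂.hom v)) = e₂ (b₂.hom v) from congr($(hcM₂).hom v)]
      exact hE₂ v
  letI : Algebra (S''.residueField (f'' x'')) (X''.residueField x'') := b.hom.toAlgebra
  let φ : S''.residueField (f'' x'') →+* E := (ρ.hom.comp b.hom).codRestrict E hbE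
  have hind' : AlgebraicIndependent (S''.residueField (f'' x''))
      (fun i => A₁.hom (a₁.hom (t i))) := by
    refine AlgebraicIndependent.of_ringHom_of_comp_eq (S := E) (B := M) φ ρ.hom ?_ φ.injective rfl
    have heq : (ρ.hom ∘ fun i => A₁.hom (a₁.hom (t i))) =
        fun i => algebraMap (X.residueField x) M (t i) := funext fun i =>
      ((show ρ.hom (A₁.hom (a₁.hom (t i))) = e₁ (a₁.hom (t i)) from
        congr($(hAρ).hom (a₁.hom (t i))))).trans (e₁.commutes (t i))
    rw [show ((ρ.hom : X''.residueField x'' → M) ∘ fun i => A₁.hom (a₁.hom (t i))) =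
      fun i => algebraMap (X.residueField x) M (t i) from heq]
    exact hind
  exact hι.ge.trans hind'.cardinalMk_le_trdeg

end Groth.Agent.S7287
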