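import Groth.Statements.S7290


set_option autoImplicit false
open CategoryTheory CategoryTheory.Limits AlgebraicGeometry Opposite
universe u
open ProEtW

namespace Groth.Agent.S7290

/-- Let A be a ring and let Spec A be the disjoint union of finitely many constructible subsets T_i.
Then there is a finite subset E of A such that the stratification of Spec A according to which
elements of E vanish at a point refines the given one: each nonempty stratum, consisting of the
primes whose intersection with E is a prescribed subset, is contained in one of the T_i. -/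
theorem result (A : Type u) [CommRing A] {ι : Type u} [Finite ι]
    (T : ι → Set (PrimeSpectrum A)) (hT : ∀ i, Topology.IsConstructible (T i))
    (hcov : ⋃ i, T i = Set.univ) (hdisj : Pairwise fun i j => Disjoint (T i) (T j)) :
    ∃ E : Finset A, ∀ E'' : Finset A, E'' ⊆ E →
      ∀ x : PrimeSpectrum A, (∀ f ∈ E, f ∈ x.asIdeal ↔ f ∈ E'') →
        ∃ i, {y : PrimeSpectrum A | ∀ f ∈ E, f ∈ y.asIdeal ↔ f ∈ E''} ⊆ T i := by
  classical
  have key : ∀ s : Set (PrimeSpectrum A), Topology.IsConstructible s →
      ∃ E : Finset A, ∀ x y : PrimeSpectrum A,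
        (∀ f ∈ E, f ∈ x.asIdeal ↔ f ∈ y.asIdeal) → (x ∈ s ↔ y ∈ s) := by
    intro s hs
    induction hs using Topology.IsConstructible.empty_union_induction with
    | open_retrocompact U hUo hUr =>
      obtain ⟨t, rfl⟩ := PrimeSpectrum.isCompact_isOpen_iff.mp ⟨hUr.isCompact, hUo⟩
      refine ⟨t, fun x y h => ?_⟩
      simp only [Set.mem_compl_iff, PrimeSpectrum.mem_zeroLocus, Set.subset_def, Finset.mem_coe,
        SetLike.mem_coe]
      exact not_congr ⟨fun hx f hf => (h f hf).mp (hx f hf), fun hy f hf => (h f hf).mpr (hy f hf)⟩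
    | union s _ t _ hs ht =>
      obtain ⟨E₁, h₁⟩ := hs
      obtain ⟨E₂, h₂⟩ := ht
      exact ⟨E₁ ∪ E₂, fun x y h => or_congr
        (h₁ x y fun f hf => h f (Finset.mem_union_left _ hf))
        (h₂ x y fun f hf => h f (Finset.mem_union_right _ hf))⟩
    | compl s _ hs =>
      obtain ⟨E, hE⟩ := hs
      exact ⟨E, fun x y h => not_congr (hE x y h)⟩
  choose E hE using fun i => key (T i) (hT i)
  have := Fintype.ofFinite ι
  refine ⟨Finset.univ.biUnion E, fun E'' _ x hx => ?_⟩
  obtain ⟨i, hi⟩ := Set.mem_iUnion.mp (hcov ▸ Set.mem_univ x : x ∈ ⋃ i, T i)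
  refine ⟨i, fun y hy => (hE i x y fun f hf => ?_).mp hi⟩
  have hf' : f ∈ Finset.univ.biUnion E := Finset.mem_biUnion.mpr ⟨i, Finset.mem_univ _, hf⟩
  exact (hx f hf').trans (hy f hf').symm

end Groth.Agent.S7290
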