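import Groth.Statements.S7292
import Groth.Agent.Lib.HTopSheaf.LimitPresentation
import Groth.Agent.S8976

set_option autoImplicit false
open CategoryTheory CategoryTheory.Limits AlgebraicGeometry Opposite
universe w u
open HTop

namespace Groth.Agent.S7292

/-- Let f be a morphism of affine schemes from X to Y. The following are equivalent: (1) the one-member
family given by f is a standard V covering; (2) X (with f) is the limit, as a scheme over Y, of a
cofiltered system of affine schemes X_i over Y such that each one-member family X_i over Y is a ph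
covering; (3) the same with each X_i over Y an h covering. -/
theorem result {X Y : Scheme.{u}} [IsAffine X] [IsAffine Y] (f : X ⟶ Y) :
    List.TFAE
      [HTop.IsStandardV (PreZeroHypercover.singleton.{w} f),
       ∃ (I : Type u) (_ : SmallCategory I) (_ : IsCofiltered I) (D : I ⥤ Over Y) (c : Cone D)
          (_ : IsLimit ((Over.forget Y).mapCone c)) (_ : c.pt ≅ Over.mk f),
          (∀ i, IsAffine (D.obj i).left) ∧ ∀ i, HTop.IsPhCover (PreZeroHypercover.singleton.{w} (D.obj i).hom),
       ∃ (I : Type u) (_ : SmallCategory I) (_ : IsCofiltered I) (D : I ⥤ Over Y) (c : Cone D)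
          (_ : IsLimit ((Over.forget Y).mapCone c)) (_ : c.pt ≅ Over.mk f),
          (∀ i, IsAffine (D.obj i).left) ∧ ∀ i, HTop.IsHCover (PreZeroHypercover.singleton.{w} (D.obj i).hom)] := by
  tfae_have 1 → 2 := fun h => by
    obtain ⟨I, _, _, D, c, hc, e, hA, hfp⟩ :=
      Groth.Agent.Lib.HTopSheaf.LimitPresentation.exists_affine_limit f
    refine ⟨I, inferInstance, inferInstance, D, c, hc, e, hA, fun i => ?_⟩
    refine (Groth.Agent.S8976.result _ fun _ => hfp i).mpr ?_
    exact (Groth.Agent.Lib.Subtrusive.VCover.isVCover_singleton_iff (D.obj i).hom).mpr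
      (Groth.Agent.Lib.HTopSheaf.LimitPresentation.hasLifts_stage f D c e
        ((Groth.Agent.Lib.HTopSheaf.LimitPresentation.isStandardV_singleton_iff f).mp h) i)
  tfae_have 1 → 3 := fun h => by
    obtain ⟨I, _, _, D, c, hc, e, hA, hfp⟩ :=
      Groth.Agent.Lib.HTopSheaf.LimitPresentation.exists_affine_limit f
    refine ⟨I, inferInstance, inferInstance, D, c, hc, e, hA, fun i => ⟨fun _ => hfp i, ?_⟩⟩
    exact (Groth.Agent.Lib.Subtrusive.VCover.isVCover_singleton_iff (D.obj i).hom).mpr
      (Groth.Agent.Lib.HTopSheaf.LimitPresentation.hasLifts_stage f D c e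
        ((Groth.Agent.Lib.HTopSheaf.LimitPresentation.isStandardV_singleton_iff f).mp h) i)
  tfae_have 2 → 1 := by
    rintro ⟨I, _, _, D, c, hc, e, hA, hph⟩
    refine (Groth.Agent.Lib.HTopSheaf.LimitPresentation.isStandardV_singleton_iff f).mpr
      (Groth.Agent.Lib.HTopSheaf.LimitPresentation.hasLifts_of_limit f D c hc e hA fun i => ?_)
    refine (Groth.Agent.Lib.Subtrusive.VCover.isVCover_singleton_iff (D.obj i).hom).mp fun O => ?_
    obtain ⟨F, hF, hr⟩ := (hph i).2 O
    exact ⟨F, Groth.Agent.S7468.result F hF, hr⟩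
  tfae_have 3 → 1 := by
    rintro ⟨I, _, _, D, c, hc, e, hA, hh⟩
    exact (Groth.Agent.Lib.HTopSheaf.LimitPresentation.isStandardV_singleton_iff f).mpr
      (Groth.Agent.Lib.HTopSheaf.LimitPresentation.hasLifts_of_limit f D c hc e hA fun i =>
        (Groth.Agent.Lib.Subtrusive.VCover.isVCover_singleton_iff (D.obj i).hom).mp (hh i).2)
  tfae_finish

end Groth.Agent.S7292
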