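import Groth.Statements.S7293
import Groth.Agent.Lib.HTopSheaf.VOver

set_option autoImplicit false
open CategoryTheory CategoryTheory.Limits AlgebraicGeometry Opposite
universe w u
open HTop

namespace Groth.Agent.S7293

/-- Let S be a scheme and F a presheaf of sets on the category of schemes over S. Suppose F has the
sheaf property for every h covering and F is limit preserving: whenever T is the limit of a
cofiltered system of affine schemes T_i over S, the restriction maps exhibit F(T) as the colimit of
the F(T_i). Then F has the sheaf property for every V covering. -/
theorem result (S : Scheme.{u}) (F : (Over S)ᵒᵖ ⥤ Type w)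
    (h1 : HTop.IsHSheafOver S F)
    (h2 : ∀ (I : Type u) [SmallCategory I] [IsCofiltered I] (D : I ⥤ Over S),
      (∀ i, IsAffine (D.obj i).left) → ∀ (c : Cone D), IsLimit ((Over.forget S).mapCone c) →
        Nonempty (IsColimit (F.mapCocone c.op))) :
    HTop.IsVSheafOver S F := by
  exact Groth.Agent.Lib.HTopSheaf.VOver.isVSheafOver F h1 h2

end Groth.Agent.S7293
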