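import Groth.Statements.S7295
import Groth.Agent.Lib.BigEt.Basic

set_option autoImplicit false
open CategoryTheory CategoryTheory.Limits AlgebraicGeometry Opposite
universe u
open ProEtS

namespace Groth.Agent.S7295

open Groth.Agent.Lib in
theorem lan_preservesFiniteLimits {T S : Scheme.{u}} (f : T ⟶ S) :
    PreservesFiniteLimits
      (((Scheme.ProEt.forget T ⋙ Over.map f).op).lan : (_ ⥤ AddCommGrpCat.{u + 1}) ⥤ _) := by
  have h1 : PreservesFiniteLimits
      ((Scheme.ProEt.forget T).op.lan : (_ ⥤ AddCommGrpCat.{u + 1}) ⥤ _) := by
    have : ∀ W, HasExactColimitsOfShape (CostructuredArrow (Scheme.ProEt.forget T).op W)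
        AddCommGrpCat.{u + 1} := fun W => by
      have : IsFiltered (CostructuredArrow (Scheme.ProEt.forget T).op W) :=
        IsFiltered.of_equivalence (structuredArrowOpEquivalence (Scheme.ProEt.forget T) W.unop)
      have : AB5OfSize.{u, u + 1} AddCommGrpCat.{u + 1} :=
        AB5OfSize_of_univLE AddCommGrpCat.{u + 1}
      exact AB5OfSize.ofShape _
    exact EtJ.ExtZero.lan_preservesFiniteLimits_of_exact _
  let e := (Adjunction.leftAdjointUniq
    ((Scheme.ProEt.forget T ⋙ Over.map f).op.lanAdjunction AddCommGrpCat.{u + 1})
    (((Scheme.ProEt.forget T).op.lanAdjunction AddCommGrpCat.{u + 1}).comp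
      ((Over.map f).op.lanAdjunction AddCommGrpCat.{u + 1})))
  have : PreservesFiniteLimits ((Scheme.ProEt.forget T).op.lan ⋙
      ((Over.map f).op.lan : (_ ⥤ AddCommGrpCat.{u + 1}) ⥤ _)) :=
    comp_preservesFiniteLimits _ _
  exact preservesFiniteLimits_of_natIso e.symm

/-- Let f : T → S be a morphism of schemes and I an injective object of the category of abelian sheaves
on the big pro-etale site of S (the category of schemes over S with the pro-etale topology). Then
the restriction of I to the small pro-etale site of T, along the functor sending a scheme V weakly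
etale over T to the S-scheme V → T → S, is injective. The case where T = S and f is the identity is
the restriction to the small pro-etale site of S itself. (Continuity of the restriction functor is
carried as a binder.) -/
theorem result {T S : Scheme.{u}} (f : T ⟶ S)
    [(Scheme.ProEt.forget T ⋙ Over.map f).IsContinuous (Scheme.ProEt.topology T)
      (Scheme.proetaleTopology.over S)]
    (I : Sheaf (Scheme.proetaleTopology.over S) AddCommGrpCat.{u + 1}) [Injective I] :
    Injective (((Scheme.ProEt.forget T ⋙ Over.map f).sheafPushforwardContinuous AddCommGrpCat.{u + 1}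
      (Scheme.ProEt.topology T) (Scheme.proetaleTopology.over S)).obj I) := by
  have := lan_preservesFiniteLimits f
  have := Groth.Agent.Lib.BigEt.Basic.sheafPullback_preservesFiniteLimits
    (Scheme.ProEt.forget T ⋙ Over.map f) (Scheme.ProEt.topology T) (Scheme.proetaleTopology.over S)
  have := Groth.Agent.Lib.BigEt.Basic.preservesInjective_of_pullback
    (Scheme.ProEt.forget T ⋙ Over.map f) (Scheme.ProEt.topology T) (Scheme.proetaleTopology.over S)
  exact Functor.injective_obj_of_injective _ (inferInstanceAs (Injective I))

end Groth.Agent.S7295
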