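import Groth.Statements.S7296
import Groth.Agent.Lib.BigEt.Unit
import Groth.Agent.Lib.BigEt.Derived

set_option autoImplicit false
set_option backward.isDefEq.respectTransparency.types false
open CategoryTheory CategoryTheory.Limits AlgebraicGeometry Opposite
universe u
open ProEtS

namespace Groth.Agent.S7296

instance cocont (S : Scheme.{u}) : (Scheme.ProEt.forget S).IsCocontinuous (Scheme.ProEt.topology S)
    (Scheme.proetaleTopology.over S) := by
  have h : Scheme.ProEt.topology S =
      (Scheme.ProEt.forget S).restrictedTopology (Scheme.proetaleTopology.over S) :=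
    MorphismProperty.toGrothendieck_comap_forget_eq_restrictedTopology (P := @WeaklyEtale) _
      Scheme.proetalePrecoverage_le_precoverage_weaklyEtale
  rw [h]
  infer_instance

/-- For an abelian sheaf F on the small pro-etale site of a scheme S: write u for the inclusion of the
small pro-etale site into the big pro-etale site of S (schemes over S with the pro-etale topology),
u_s for pullback of abelian sheaves along u (left adjoint to the restriction u^s). Then the unit F →
u^s u_s F is an isomorphism and R^q u^s (u_s F) = 0 for every q > 0; together these say that F → R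
u^s (u_s F) is an isomorphism. (Additivity of the restriction functor and the existence of injective
resolutions for abelian sheaves on the big pro-etale site, both of which hold, are recorded as
instance hypotheses.) -/
theorem result (S : Scheme.{u})
    [((Scheme.ProEt.forget S).sheafPushforwardContinuous AddCommGrpCat.{u + 1} (Scheme.ProEt.topology S)
      (Scheme.proetaleTopology.over S)).Additive]
    [HasInjectiveResolutions (Sheaf (Scheme.proetaleTopology.over S) AddCommGrpCat.{u + 1})]
    (F : ProEtS.AbP S) :
    IsIso (((Scheme.ProEt.forget S).sheafAdjunctionContinuous AddCommGrpCat.{u + 1}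
      (Scheme.ProEt.topology S) (Scheme.proetaleTopology.over S)).unit.app F) ∧
    ∀ q : ℕ, 0 < q →
      IsZero ((((Scheme.ProEt.forget S).sheafPushforwardContinuous AddCommGrpCat.{u + 1}
        (Scheme.ProEt.topology S) (Scheme.proetaleTopology.over S)).rightDerived q).obj
        (((Scheme.ProEt.forget S).sheafPullback AddCommGrpCat.{u + 1} (Scheme.ProEt.topology S)
          (Scheme.proetaleTopology.over S)).obj F)) := by
  refine ⟨Groth.Agent.Lib.BigEt.Unit.isIso_unit (Scheme.ProEt.forget S) AddCommGrpCat.{u + 1}
    (Scheme.ProEt.topology S) (Scheme.proetaleTopology.over S) F, fun q hq => ?_⟩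
  set G := (Scheme.ProEt.forget S).sheafPushforwardContinuous AddCommGrpCat.{u + 1}
    (Scheme.ProEt.topology S) (Scheme.proetaleTopology.over S) with hG
  have : PreservesLimitsOfSize.{0, 0} G :=
    ((Scheme.ProEt.forget S).sheafAdjunctionContinuous AddCommGrpCat.{u + 1}
      (Scheme.ProEt.topology S) (Scheme.proetaleTopology.over S)).rightAdjoint_preservesLimits
  have : PreservesColimitsOfSize.{0, 0} G :=
    ((Scheme.ProEt.forget S).sheafAdjunctionCocontinuous AddCommGrpCat.{u + 1}
      (Scheme.ProEt.topology S) (Scheme.proetaleTopology.over S)).leftAdjoint_preservesColimits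
  have : PreservesFiniteLimits G := PreservesLimitsOfSize.preservesFiniteLimits _
  have : PreservesFiniteColimits G := PreservesColimitsOfSize.preservesFiniteColimits _
  obtain ⟨q, rfl⟩ := Nat.exists_eq_succ_of_ne_zero hq.ne'
  refine IsZero.of_iso ?_ ((injectiveResolution _).isoRightDerivedObj G (q + 1))
  exact (HomologicalComplex.exactAt_iff_isZero_homology _ _).1
    ((injectiveResolution _).cocomplex_exactAt_succ q |>.map G)

end Groth.Agent.S7296
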