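import Groth.Statements.S7297
import Groth.Agent.Lib.Amp36.ModifVanish

set_option autoImplicit false
universe u
open CategoryTheory CategoryTheory.Limits AlgebraicGeometry
open Resolve

namespace Groth.Agent.S7297

/-- Let A be a local normal Nagata domain of dimension two defining a rational singularity, and f : X →
Spec A a proper morphism from an integral normal scheme which is an isomorphism over some nonempty
open of Spec A. Then H^p(X, F) = 0 for every quasi-coherent O_X-module F and every p ≥ 2. -/
theorem result (A : Type u) [CommRing A] [IsDomain A] [IsLocalRing A] [IsNoetherianRing A]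
    [IsIntegrallyClosed A] (hN : CAlg.IsNagata A) (hdim : ringKrullDim A = 2) (hA : Curv2.IsRationalSing A)
    (X : Scheme.{u}) (f : X ⟶ Spec (CommRingCat.of A)) [IsProper f] [IsIntegral X] (hXn : Pi1.IsNormalScheme X)
    (hbir : ∃ U : (Spec (CommRingCat.of A)).Opens, (U : Set (Spec (CommRingCat.of A))).Nonempty ∧ IsIso (f ∣_ U))
    (F : X.Modules) (hF : Coh.IsQCoh F) (p : ℕ) (hp : 2 ≤ p) : Subsingleton (Coh.HH X F p) := by
  obtain ⟨q, rfl⟩ : ∃ q, p = q + 1 := ⟨p - 1, by omega⟩
  haveI : SheafOfModules.IsQuasicoherent (R := X.ringCatSheaf) F := hF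
  exact Groth.Agent.Lib.FibreVanish36.Affine.subsingleton_HH
    Groth.Agent.Lib.FibreVanish36.Coherent.cohVanish f 1
    (Groth.Agent.Lib.Amp36.ModifVanish.fiber_dim_le_one_spec A f hdim hbir) F q (by omega)

end Groth.Agent.S7297
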