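import Groth.Statements.S7303
import Groth.Agent.S7337
import Groth.Agent.S11781
import Groth.Agent.Lib.RefHull.Generic
import Groth.Agent.Lib.ZMTStein.Normal
import Groth.Agent.Lib.Unram.UnramifiedNormalFibre

set_option autoImplicit false
universe u
open CategoryTheory CategoryTheory.Limits AlgebraicGeometry
open Resolve

namespace Groth.Agent.S7303

open Groth.Agent Groth.Agent.Lib TopologicalSpace Opposite Polynomial
open Groth.Agent.Lib.Amp36.Modif.FibrePow (ρ res_ρ)
open Groth.Agent.Lib.TensorMod.Basic (tensorIso rightUnit leftUnit)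

variable {A : Type u} [CommRing A] {X : Scheme.{u}}

/-- The structure homomorphism into a stalk. -/
noncomputable def ρx (f : X ⟶ Spec (CommRingCat.of A)) (x : X) : A →+* X.presheaf.stalk x :=
  (X.presheaf.germ ⊤ x trivial).hom.comp (ρ f ⊤)

theorem ρx_eq (f : X ⟶ Spec (CommRingCat.of A)) (x : X) (a : A) :
    ρx f x a = f.stalkMap x ((Spec (CommRingCat.of A)).presheaf.germ ⊤ (f x) trivial
      ((Scheme.ΓSpecIso (CommRingCat.of A)).inv a)) := by
  refine Eq.trans ?_ (Scheme.Hom.germ_stalkMap_apply f ⊤ x trivial _).symm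
  exact TopCat.Presheaf.germ_res_apply X.presheaf (homOfLE (le_top : (⊤ : X.Opens) ≤ ⊤)) x trivial _

theorem subsingleton_HH_of_isZero {M : X.Modules} (h : IsZero M) (i : ℕ) :
    Subsingleton (Coh.HH X M i) := by
  have h' : IsZero (Coh.toAb M) := Functor.map_isZero (SheafOfModules.toSheaf X.ringCatSheaf) h
  refine subsingleton_of_forall_eq 0 fun x => ?_
  have h1 : x.comp (Abelian.Ext.mk₀ (𝟙 (Coh.toAb M))) (add_zero i) = x := Abelian.Ext.comp_mk₀_id x
  rw [h'.eq_of_src (𝟙 (Coh.toAb M)) 0, Abelian.Ext.mk₀_zero, Abelian.Ext.comp_zero] at h1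
  exact h1.symm

/-- A graded piece which grows linearly forces quadratic growth. -/
theorem growth {B : Type u} [CommRing B] [IsDomain B] [IsDiscreteValuationRing B] [IsLocalRing A]
    (r : A →+* B) [IsLocalHom r] (u : B) (a b : A) (hab : u * r b = r a) (hb : b ∈ IsLocalRing.maximalIdeal A)
    (hb0 : r b ≠ 0)
    (hu : ∀ p : A[X], IsLocalRing.residue B (p.eval₂ r u) = 0 → ∀ i, p.coeff i ∈ IsLocalRing.maximalIdeal A)
    (c : ℕ) (hc : ∀ n : ℕ, Module.length A (A ⧸ (IsLocalRing.maximalIdeal B ^ n).comap r) ≤ ((n * c : ℕ) : ℕ∞)) :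
    False := by
  classical
  let P := IsLocalRing.maximalIdeal B
  let Q := fun n : ℕ => (P ^ n).comap r
  obtain ⟨π, hπ⟩ := IsDiscreteValuationRing.exists_irreducible B
  obtain ⟨e, w, hw⟩ := IsDiscreteValuationRing.eq_unit_mul_pow_irreducible hb0 hπ
  have hP : P = Ideal.span {π} := hπ.maximalIdeal_eq
  have he : 1 ≤ e := by
    by_contra he
    rw [show e = 0 by omega, pow_zero, mul_one] at hw
    exact (IsLocalRing.mem_maximalIdeal b).1 hb (IsUnit.of_map r b (hw ▸ w.isUnit))
  have hmem : ∀ n (x : B), x ∈ P ^ n ↔ π ^ n ∣ x := fun n x => by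
    rw [hP, Ideal.span_singleton_pow, Ideal.mem_span_singleton]
  have layer : ∀ j : ℕ, Module.length A (A ⧸ Q (j * e)) + ((j + 1 : ℕ) : ℕ∞) ≤
      Module.length A (A ⧸ Q (j * e + 1)) := by
    intro j
    let v : Fin (j + 1) → A := fun i => a ^ (i : ℕ) * b ^ (j - i)
    have hv : ∀ i, r (v i) = u ^ (i : ℕ) * r b ^ j := fun i => by
      simp only [v, map_mul, map_pow, ← hab, mul_pow, mul_assoc, ← pow_add,
        Nat.add_sub_cancel' (Nat.le_of_lt_succ i.2)]
    have hvm : ∀ i, v i ∈ Q (j * e) := fun i => by
      rw [Ideal.mem_comap, hmem, hv]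
      refine Dvd.dvd.mul_left ?_ _
      rw [hw, mul_pow, ← pow_mul, mul_comm e j]
      exact dvd_mul_left _ _
    let L : Submodule A A := Q (j * e)
    let R := ↥L ⧸ Submodule.comap L.subtype (Q (j * e + 1))
    let φ : (Fin (j + 1) → A) →ₗ[A] R :=
      Fintype.linearCombination A fun i => Submodule.Quotient.mk (⟨v i, hvm i⟩ : L)
    let m := IsLocalRing.maximalIdeal A
    let p : (Fin (j + 1) → A) →ₗ[A] (Fin (j + 1) → A ⧸ m) :=
      LinearMap.pi fun i => (Submodule.mkQ m).comp (LinearMap.proj i)
    have hker : LinearMap.ker φ ≤ LinearMap.ker p := by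
      intro t ht
      rw [LinearMap.mem_ker, Fintype.linearCombination_apply] at ht
      have ht' : Submodule.mkQ (Submodule.comap L.subtype (Q (j * e + 1))) (∑ i, t i • (⟨v i, hvm i⟩ : L)) = 0 := by
        rw [map_sum]
        refine Eq.trans ?_ ht
        exact Finset.sum_congr rfl fun i _ => map_smul _ _ _
      have h1 : (∑ i, t i * v i) ∈ Q (j * e + 1) := by
        have := (Submodule.Quotient.mk_eq_zero _).1 ht'
        rw [Submodule.mem_comap] at this
        simpa [map_sum, smul_eq_mul] using this
      rw [Ideal.mem_comap, hmem, map_sum] at h1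
      simp only [map_mul, hv, ← mul_assoc, ← Finset.sum_mul] at h1
      rw [hw, mul_pow, ← pow_mul, mul_comm e j, ← mul_assoc, pow_succ] at h1
      have h2 : π ∣ (∑ i, r (t i) * u ^ (i : ℕ)) * (w : B) ^ j := by
        obtain ⟨d, hd⟩ := h1
        refine ⟨d, mul_left_cancel₀ (pow_ne_zero (j * e) hπ.ne_zero) ?_⟩
        linear_combination hd
      have h3 : π ∣ ∑ i, r (t i) * u ^ (i : ℕ) := (w.isUnit.pow j).dvd_mul_right.1 h2
      let q : A[X] := ∑ i : Fin (j + 1), Polynomial.monomial (i : ℕ) (t i)
      have hq : q.eval₂ r u = ∑ i, r (t i) * u ^ (i : ℕ) := by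
        simp [q, Polynomial.eval₂_finsetSum, Polynomial.eval₂_monomial]
      have h4 := hu q (by
        rw [IsLocalRing.residue_eq_zero_iff, hq]
        show _ ∈ P
        rw [hP, Ideal.mem_span_singleton]
        exact h3)
      rw [LinearMap.mem_ker]
      ext i
      refine (Submodule.Quotient.mk_eq_zero _).2 ?_
      have h5 := h4 (i : ℕ)
      rwa [Polynomial.finsetSum_coeff, Finset.sum_eq_single i (fun k _ hk => by
        rw [Polynomial.coeff_monomial, if_neg fun h => hk (Fin.ext h)]) (fun h => absurd (Finset.mem_univ i) h),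
        Polynomial.coeff_monomial, if_pos rfl] at h5
    have hp : Function.Surjective p := fun y => ⟨fun i => (Submodule.mkQ_surjective m (y i)).choose,
      funext fun i => (Submodule.mkQ_surjective m (y i)).choose_spec⟩
    haveI : IsSimpleModule A (A ⧸ m) := isSimpleModule_iff_isCoatom.2 (IsLocalRing.maximalIdeal.isMaximal A).out
    have h6 : ((j + 1 : ℕ) : ℕ∞) ≤ Module.length A R := by
      have h7 : Module.length A ((Fin (j + 1) → A) ⧸ LinearMap.ker p) ≤
          Module.length A ((Fin (j + 1) → A) ⧸ LinearMap.ker φ) :=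
        Module.length_le_of_surjective _ (Submodule.factor_surjective hker)
      rw [(LinearMap.quotKerEquivOfSurjective p hp).length_eq, (LinearMap.quotKerEquivRange φ).length_eq] at h7
      refine le_trans ?_ (h7.trans (Module.length_le_of_injective _ (LinearMap.range φ).injective_subtype))
      rw [Module.length_pi_of_fintype]
      simp [Module.length_eq_one]
    have hle : Q (j * e + 1) ≤ L := Ideal.comap_mono (Ideal.pow_le_pow_right (Nat.le_succ _))
    let a' : R →ₗ[A] A ⧸ Q (j * e + 1) := Submodule.mapQ _ (Q (j * e + 1)) L.subtype le_rfl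
    let b' : (A ⧸ Q (j * e + 1)) →ₗ[A] A ⧸ Q (j * e) := Submodule.factor hle
    have hlen := Module.length_eq_add_of_exact a' b'
      (by
        rw [← LinearMap.ker_eq_bot, eq_bot_iff]
        rintro x hx
        obtain ⟨v, rfl⟩ := Submodule.Quotient.mk_surjective _ x
        rw [LinearMap.mem_ker] at hx
        exact (Submodule.Quotient.mk_eq_zero _).2 ((Submodule.Quotient.mk_eq_zero (Q (j * e + 1))).1 hx : (v : A) ∈ Q (j * e + 1)))
      (Submodule.factor_surjective _)
      (fun y => by
        obtain ⟨y, rfl⟩ := Submodule.Quotient.mk_surjective _ y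
        refine ⟨fun h => ⟨Submodule.Quotient.mk ⟨y, (Submodule.Quotient.mk_eq_zero _).1 h⟩, rfl⟩, ?_⟩
        rintro ⟨v, hv'⟩
        obtain ⟨v, rfl⟩ := Submodule.Quotient.mk_surjective _ v
        rw [← hv']
        exact (Submodule.Quotient.mk_eq_zero _).2 v.2)
    rw [hlen, add_comm]
    exact add_le_add h6 le_rfl
  have key : ∀ j : ℕ, (((j + 1) * (j + 2) / 2 : ℕ) : ℕ∞) ≤ Module.length A (A ⧸ Q (j * e + 1)) := by
    intro j
    induction j with
    | zero => exact le_trans (by simp) (le_trans le_add_self (layer 0))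
    | succ j ih =>
      have hle : Q ((j + 1) * e) ≤ Q (j * e + 1) := Ideal.comap_mono (Ideal.pow_le_pow_right (by rw [add_mul]; omega))
      have h8 := Module.length_le_of_surjective _ (Submodule.factor_surjective hle)
      refine le_trans ?_ ((add_le_add (ih.trans h8) le_rfl).trans (layer (j + 1)))
      rw [← Nat.cast_add]
      refine Nat.cast_le.2 ?_
      have e2 : (j + 1 + 1) * (j + 1 + 2) = (j + 1) * (j + 2) + 2 * (j + 2) := by ring
      rw [e2, Nat.add_mul_div_left _ _ two_pos]
  let j := 4 * c * (e + 1) + 1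
  have h9 : (j + 1) * (j + 2) / 2 ≤ (j * e + 1) * c := by exact_mod_cast (key j).trans (hc _)
  have h10 : (j + 1) * (j + 2) ≤ 2 * ((j * e + 1) * c) + 1 := by omega
  have hj : 4 * c * e + 4 * c + 1 = j := by simp [j]; ring
  nlinarith

/-- Modules killed by powers of the elements of the maximal ideal. -/
theorem length_ne_top [IsLocalRing A] [IsNoetherianRing A] (M : Type u) [AddCommGroup M] [Module A M] [Module.Finite A M]
    (h : ∀ a ∈ IsLocalRing.maximalIdeal A, ∃ N : ℕ, ∀ z : M, a ^ N • z = 0) : Module.length A M ≠ ⊤ := by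
  obtain ⟨n, hn⟩ := Ideal.exists_pow_le_of_le_radical_of_fg (I := IsLocalRing.maximalIdeal A) (J := Module.annihilator A M)
    (fun a ha => by
      obtain ⟨N, hN⟩ := h a ha
      exact ⟨N, Module.mem_annihilator.2 hN⟩) (IsNoetherian.noetherian _)
  obtain ⟨k, g, hg⟩ := Module.Finite.exists_fin' A M
  let m := IsLocalRing.maximalIdeal A ^ n
  let p : (Fin k → A) →ₗ[A] (Fin k → A ⧸ m) := LinearMap.pi fun i => (Submodule.mkQ m).comp (LinearMap.proj i)
  have hp : Function.Surjective p := fun y => ⟨fun i => (Submodule.mkQ_surjective m (y i)).choose,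
    funext fun i => (Submodule.mkQ_surjective m (y i)).choose_spec⟩
  have hle : LinearMap.ker p ≤ LinearMap.ker g := fun t ht => by
    rw [LinearMap.mem_ker] at ht ⊢
    rw [pi_eq_sum_univ t, map_sum]
    refine Finset.sum_eq_zero fun i _ => ?_
    rw [map_smul]
    exact Module.mem_annihilator.1 (hn ((Submodule.Quotient.mk_eq_zero _).1 (congr_fun ht i))) _
  have h1 := Module.length_le_of_surjective _ (Submodule.factor_surjective hle)
  rw [(LinearMap.quotKerEquivOfSurjective p hp).length_eq, (LinearMap.quotKerEquivOfSurjective g hg).length_eq,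
    Module.length_pi_of_fintype] at h1
  refine ne_top_of_le_ne_top ?_ h1
  exact (WithTop.sum_ne_top).2 fun i _ => Module.length_ne_top_iff.2 (InjHull.Complete.isFiniteLength_quotient_pow (R := A) _ n)

/-- Let (A, m) be a local Noetherian normal domain of dimension two, f : X → Spec A a proper morphism
from an integral normal scheme which is an isomorphism over some nonempty open, and Z ⊂ X a nonempty
effective Cartier divisor, with ideal sheaf I, whose support lies in the closed fibre of f. Then the
conormal sheaf of Z in X, namely the pullback of I to Z, is not isomorphic to O_Z. (The published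
statement adds that the restriction of the conormal sheaf to some irreducible component of the
closed fibre contained in Z has positive degree; this row states only that the conormal sheaf is not
trivial.) -/
theorem result (A : Type u) [CommRing A] [IsDomain A] [IsLocalRing A] [IsNoetherianRing A]
    [IsIntegrallyClosed A] (hdim : ringKrullDim A = 2)
    (X : Scheme.{u}) (f : X ⟶ Spec (CommRingCat.of A)) [IsProper f] [IsIntegral X]
    (hbir : ∃ U : (Spec (CommRingCat.of A)).Opens, (U : Set (Spec (CommRingCat.of A))).Nonempty ∧ IsIso (f ∣_ U)) (hXn : Pi1.IsNormalScheme X)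
    (I : X.IdealSheafData) (hI : BlowUp.IsEffCartierIdeal I) (hne : (I.support : Set X).Nonempty)
    (hZ : (I.support : Set X) ⊆ f.base ⁻¹' {IsLocalRing.closedPoint A}) :
    IsEmpty ((Scheme.Modules.pullback I.subschemeι).obj (ClSub.idealMod I) ≅ Coh.structureModule I.subscheme) := by
  classical
  refine ⟨fun iN => ?_⟩
  letI : X.Over (Spec (CommRingCat.of A)) := ⟨f⟩
  haveI : IsProper (X ↘ Spec (CommRingCat.of A)) := ‹IsProper f›
  haveI : IsLocallyNoetherian X := LocallyOfFiniteType.isLocallyNoetherian f
  haveI : CompactSpace X := QuasiCompact.compactSpace_of_compactSpace f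
  haveI : IsNoetherian X := {}
  obtain ⟨U₀, hU₀, hU₀iso⟩ := hbir
  haveI := hU₀iso
  have hgen := Amp36.Modif.Birat.apply_genericPoint f U₀ hU₀
  have hst := Amp36.Modif.Birat.stalkMap_bijective f U₀ (Amp36.Modif.Birat.apply_genericPoint_mem f U₀ hU₀)
  -- the point
  obtain ⟨η, hηZ, hηc⟩ : ∃ η ∈ (I.support : Set X), ¬ IsClosed ({η} : Set X) := by
    by_contra hall
    push Not at hall
    obtain ⟨x, hx⟩ := hne
    obtain ⟨V, hViso, -, hout⟩ := ZMTStein.exists_open f
      (ZMTStein.bijective_app_of_normal f (RatSing74.FiniteExt.spec_isNormalScheme A) hgen hst)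
    haveI := hViso
    have hd1 : ringKrullDim (X.presheaf.stalk x) ≤ 1 := by
      obtain ⟨d, hd⟩ : ∃ d : I.subscheme, I.subschemeι d = x := by
        rw [← Scheme.IdealSheafData.range_subschemeι] at hx; exact hx
      subst hd
      obtain ⟨g, hg, hgm, ⟨φ⟩⟩ := Groth.Agent.S7337.exists_stalk_equiv hI d
      haveI : IsLocallyNoetherian I.subscheme := LocallyOfFiniteType.isLocallyNoetherian I.subschemeι
      have h0 : ringKrullDim (I.subscheme.presheaf.stalk d) ≤ 0 := by
        haveI : Subsingleton (PrimeSpectrum (I.subscheme.presheaf.stalk d)) := by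
          refine ⟨fun q q' => (I.subscheme.fromSpecStalk d).isEmbedding.injective ?_⟩
          have key : ∀ q, I.subscheme.fromSpecStalk d q = d := fun q => by
            have hs : I.subscheme.fromSpecStalk d q ⤳ d := by
              have := Set.mem_range_self (f := ⇑(I.subscheme.fromSpecStalk d)) q
              rwa [Scheme.range_fromSpecStalk] at this
            refine I.subschemeι.isClosedEmbedding.injective ?_
            exact ((hs.map I.subschemeι.continuous).mem_closed
              (hall _ (Scheme.IdealSheafData.range_subschemeι I ▸ Set.mem_range_self (I.subscheme.fromSpecStalk d q))) rfl).symm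
          rw [key q, key q']
        exact Order.krullDim_nonpos_of_subsingleton
      haveI : IsDomain (X.presheaf.stalk (I.subschemeι d)) := (hXn _).1
      have hd2 := ringKrullDim_le_ringKrullDim_quotient_add_spanFinrank (Ideal.span {g})
        ((Ideal.span_singleton_le_iff_mem _).2 hgm |>.trans (IsLocalRing.ringJacobson_eq_maximalIdeal _).ge)
      rw [ringKrullDim_eq_of_ringEquiv φ] at hd2
      refine hd2.trans ((add_le_add h0 (Nat.cast_le.2 (show _ ≤ 1 from ?_))).trans (by simp))
      exact (Submodule.spanFinrank_span_le_ncard_of_finite (Set.finite_singleton g)).trans (by simp)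
    have hfx : f x = IsLocalRing.closedPoint A := hZ hx
    by_cases hV : IsLocalRing.closedPoint A ∈ V
    · have hbx := Amp36.Modif.Birat.stalkMap_bijective f V (z := x) (hfx ▸ hV)
      have h2 : ringKrullDim ((Spec (CommRingCat.of A)).presheaf.stalk (f x)) ≤ 1 := by
        rw [ringKrullDim_eq_of_ringEquiv (RingEquiv.ofBijective (f.stalkMap x).hom hbx)]; exact hd1
      rw [hfx] at h2
      let p0 : PrimeSpectrum A := IsLocalRing.closedPoint A
      letI : Algebra A ((Spec.structureSheaf A).presheaf.stalk p0) := inferInstance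
      have h3 := ringKrullDim_eq_of_ringEquiv (IsLocalization.atUnits A p0.asIdeal.primeCompl
        (S := (Spec.structureSheaf A).presheaf.stalk p0) (fun y hy => IsLocalRing.notMem_maximalIdeal.1 hy)).toRingEquiv
      rw [hdim] at h3
      exact absurd ((le_of_eq h3).trans h2) (by decide)
    · let hom := f.fiberHomeo (IsLocalRing.closedPoint A)
      refine hout _ hV (hom.symm ⟨x, hfx⟩) ?_
      have : IsOpen ({(⟨x, hfx⟩ : f ⁻¹' {IsLocalRing.closedPoint A})} : Set _) := by
        obtain ⟨S, hSf, hSc, hSi, hS⟩ := NoetherianSpace.exists_finite_set_isClosed_irreducible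
          ((IsLocalRing.isClosed_singleton_closedPoint A).preimage f.continuous)
        have hgenx : ∀ C ∈ S, x ∈ C → C = {x} := by
          intro C hC hxC
          obtain ⟨γ, hγ⟩ := QuasiSober.sober (hSi C hC) (hSc C hC)
          by_cases hγx : γ = x
          · rw [← hγ.def, hγx, (hall x hx).closure_eq]
          · exfalso
            haveI := (hXn x).1
            obtain ⟨p, hpγ⟩ : γ ∈ Set.range (X.fromSpecStalk x) := by
              rw [Scheme.range_fromSpecStalk]; exact hγ.specializes hxC
            have h4 : X.fromSpecStalk x p = genericPoint X := by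
              haveI : Ring.KrullDimLE 1 (X.presheaf.stalk x) := Ring.krullDimLE_iff.2 hd1
              by_cases hp : p.asIdeal = ⊥
              · have hp' : p = ⟨⊥, Ideal.isPrime_bot⟩ := PrimeSpectrum.ext hp
                subst hp'
                haveI := (hXn x).1
                refine ((genericPoint_spec X).eq ?_).symm
                refine isGenericPoint_iff_specializes.2 fun y => ⟨fun _ => trivial, fun _ => ?_⟩
                exact (Unram.UnramifiedNormalFibre.bot_specializes x (genericPoint_specializes x)).trans (genericPoint_specializes y)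
              · have hmax := Ring.krullDimLE_one_iff_of_noZeroDivisors.1 inferInstance _ hp p.2
                exact (hγx (by rw [← hpγ, show p = IsLocalRing.closedPoint _ from PrimeSpectrum.ext (IsLocalRing.eq_maximalIdeal hmax), Scheme.fromSpecStalk_closedPoint])).elim
            have hγf : f γ = IsLocalRing.closedPoint A := by
              have : γ ∈ f ⁻¹' {IsLocalRing.closedPoint A} := hS ▸ Set.mem_sUnion_of_mem hγ.mem hC
              exact this
            rw [← hpγ, h4, hgen] at hγf
            have h5 : (IsLocalRing.closedPoint A).asIdeal = (⊥ : Ideal A) := by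
              rw [← hγf, genericPoint_eq_bot_of_affine]; rfl
            have h6 := ringKrullDim_eq_zero_of_isField (IsLocalRing.isField_iff_maximalIdeal_eq.2 h5)
            rw [hdim] at h6
            exact absurd h6 (by decide)
        have hO : IsOpen (⋃ C ∈ {C ∈ S | x ∉ C}, C)ᶜ :=
          ((hSf.subset fun C h => h.1).isClosed_biUnion fun C h => hSc C h.1).isOpen_compl
        refine isOpen_induced_iff.2 ⟨_, hO, ?_⟩
        ext ⟨z, hz⟩
        simp only [Set.mem_preimage, Set.mem_compl_iff, Set.mem_iUnion, Set.mem_setOf_eq, Set.mem_singleton_iff,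
          exists_prop, not_exists, not_and, Subtype.mk.injEq]
        constructor
        · intro h
          obtain ⟨C, hC, hzC⟩ := Set.mem_sUnion.1 (hS ▸ hz : z ∈ ⋃₀ S)
          by_cases hxC : x ∈ C
          · rw [hgenx C hC hxC] at hzC
            have e := Set.mem_singleton_iff.1 hzC
            first | exact e | exact Subtype.ext e | (subst e; rfl)
          · exact absurd hzC (h C ⟨hC, hxC⟩)
        · intro hzx C hC
          cases hzx
          exact hC.2
      have := hom.symm.isOpenMap _ this
      rwa [Set.image_singleton] at this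
  have hfη : f η = IsLocalRing.closedPoint A := hZ hηZ
  -- the valuation
  haveI := (hXn η).1
  haveI := (hXn η).2
  have hdη : ringKrullDim (X.presheaf.stalk η) ≤ 1 := by
    obtain ⟨z, hz, hne'⟩ : ∃ z, η ⤳ z ∧ η ≠ z := by
      by_contra hno
      push Not at hno
      refine hηc ?_
      rw [show ({η} : Set X) = closure {η} from Set.Subset.antisymm subset_closure
        fun b hb => (hno b (specializes_iff_mem_closure.2 hb)).symm]
      exact isClosed_closure
    exact ModelFibre.Centered.ringKrullDim_stalk_le_one (Amp36.Modif.Birat.ringKrullDim_stalk_le f _ hU₀ 2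
      ((PrimeSpectrum.topologicalKrullDim_eq_ringKrullDim A).trans hdim).le z) hz hne'
  haveI := RefHull.Generic.isPrincipalIdealRing_of_dim_le_one hXn η hdη
  let r := ρx f η
  haveI : IsLocalHom r := ⟨fun a ha => by
    by_contra hna
    have h1 : a ∈ IsLocalRing.maximalIdeal A := hna
    have h2 : r a = _ := ρx_eq f η a
    rw [h2, isUnit_map_iff] at ha
    have ha' := (Scheme.mem_basicOpen (Spec (CommRingCat.of A)) (U := ⊤) _ (f η) trivial).2 ha
    rw [basicOpen_eq_of_affine, hfη] at ha'
    exact ha' h1⟩
  have hker : ∀ a, a ∈ IsLocalRing.maximalIdeal A → r a ∈ IsLocalRing.maximalIdeal (X.presheaf.stalk η) := fun a ha =>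
    fun h => ha (IsUnit.of_map r a h)
  have halg : ∃ u, ∀ p : A[X], IsLocalRing.residue (X.presheaf.stalk η) (p.eval₂ r u) = 0 →
      ∀ i, p.coeff i ∈ IsLocalRing.maximalIdeal A := by
    let ψ : IsLocalRing.ResidueField A →+* X.residueField η :=
      Ideal.Quotient.lift _ ((X.residue η).hom.comp r) fun a ha => (IsLocalRing.residue_eq_zero_iff _).2 (hker a ha)
    letI := ψ.toAlgebra
    suffices h : ∃ t : X.residueField η, Transcendental (IsLocalRing.ResidueField A) t by
      obtain ⟨t, ht⟩ := h
      obtain ⟨u, rfl⟩ := X.residue_surjective η t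
      refine ⟨u, fun p hp i => ?_⟩
      have h1 : (p.map (IsLocalRing.residue A)) = 0 := transcendental_iff.1 ht _ (by
        rw [aeval_def, eval₂_map]
        refine Eq.trans ?_ hp
        exact (Polynomial.hom_eval₂ p r (X.residue η).hom u).symm)
      have h2 := congrArg (fun q => q.coeff i) h1
      simp only [coeff_map, coeff_zero] at h2
      exact (IsLocalRing.residue_eq_zero_iff _).1 h2
    by_contra hno
    push Not at hno
    haveI : Algebra.IsAlgebraic (IsLocalRing.ResidueField A) (X.residueField η) := ⟨fun t => not_not.1 (hno t)⟩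
    let g := X.fromSpecResidueField η ≫ f
    haveI : LocallyOfFiniteType (f ≫ 𝟙 _) := inferInstance
    haveI : Algebra.EssFiniteType (IsLocalRing.ResidueField A) (X.residueField η) := by
      have h1 : (f.stalkMap η).hom.EssFiniteType := LocallyOfFiniteType.stalkMap f η
      have hgerm : (((Spec (CommRingCat.of A)).presheaf.germ ⊤ (f η) trivial).hom.comp
          (Scheme.ΓSpecIso (CommRingCat.of A)).inv.hom).EssFiniteType := by
        letI := TopCat.Presheaf.algebra_section_stalk (Spec (CommRingCat.of A)).presheaf (⟨f η, trivial⟩ : (⊤ : (Spec (CommRingCat.of A)).Opens))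
        haveI := (isAffineOpen_top (Spec (CommRingCat.of A))).isLocalization_stalk ⟨f η, trivial⟩
        refine RingHom.EssFiniteType.comp (RingHom.FiniteType.of_surjective _ (ConcreteCategory.bijective_of_isIso (Scheme.ΓSpecIso (CommRingCat.of A)).inv).2).essFiniteType ?_
        exact (RingHom.essFiniteType_algebraMap (R := Γ(Spec (CommRingCat.of A), ⊤))).2 (Algebra.EssFiniteType.of_isLocalization _ ((isAffineOpen_top (Spec (CommRingCat.of A))).primeIdealOf ⟨f η, trivial⟩).asIdeal.primeCompl)
      have h2 : (ψ.comp (IsLocalRing.residue A)).EssFiniteType := by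
        have e : ψ.comp (IsLocalRing.residue A) = (X.residue η).hom.comp ((f.stalkMap η).hom.comp
            (((Spec (CommRingCat.of A)).presheaf.germ ⊤ (f η) trivial).hom.comp (Scheme.ΓSpecIso (CommRingCat.of A)).inv.hom)) :=
          RingHom.ext fun a => congrArg (X.residue η) (ρx_eq f η a)
        rw [e]
        exact (hgerm.comp h1).comp (RingHom.FiniteType.of_surjective _ (X.residue_surjective η)).essFiniteType
      letI : Algebra A (X.residueField η) := (ψ.comp (IsLocalRing.residue A)).toAlgebra
      haveI : IsScalarTower A (IsLocalRing.ResidueField A) (X.residueField η) := IsScalarTower.of_algebraMap_eq fun _ => rfl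
      haveI : Algebra.EssFiniteType A (X.residueField η) := h2
      exact Algebra.EssFiniteType.of_comp A (IsLocalRing.ResidueField A) (X.residueField η)
    have hfin : (ψ.comp (IsLocalRing.residue A)).Finite := by
      haveI := Algebra.finite_of_essFiniteType_of_isAlgebraic (F := IsLocalRing.ResidueField A) (E := X.residueField η)
      exact RingHom.Finite.comp (show ψ.Finite from RingHom.finite_algebraMap.mpr inferInstance) (RingHom.Finite.of_surjective _ IsLocalRing.residue_surjective)
    have hg : g = Spec.map (CommRingCat.ofHom (ψ.comp (IsLocalRing.residue A))) := by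
      obtain ⟨φ', hφ'⟩ := Spec.map_surjective g
      rw [← hφ']
      congr 1
      ext a
      have e1 := congrArg (fun h : Spec (X.residueField η) ⟶ Spec (CommRingCat.of A) => h.appTop ((Scheme.ΓSpecIso (CommRingCat.of A)).inv a)) hφ'
      have e2 := ConcreteCategory.congr_hom (Scheme.ΓSpecIso_inv_naturality φ') a
      refine (ConcreteCategory.bijective_of_isIso (Scheme.ΓSpecIso (X.residueField η)).inv).1 ?_
      refine (e2.trans e1).trans ?_
      rw [show g = X.fromSpecResidueField η ≫ f from rfl, Scheme.Hom.comp_appTop]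
      show (X.fromSpecResidueField η).appTop (f.appTop _) = _
      rw [Scheme.fromSpecResidueField, Scheme.Hom.comp_appTop, Scheme.fromSpecStalk_appTop]
      show (Spec.map (X.residue η)).appTop ((Scheme.ΓSpecIso (X.presheaf.stalk η)).inv (X.presheaf.germ ⊤ η trivial _)) = _
      refine (ConcreteCategory.congr_hom (Scheme.ΓSpecIso_inv_naturality (X.residue η)) _).symm.trans ?_
      refine congrArg (Scheme.ΓSpecIso (X.residueField η)).inv (congrArg (X.residue η) ?_)
      exact (TopCat.Presheaf.germ_res_apply X.presheaf (homOfLE (le_top : (⊤ : X.Opens) ≤ ⊤)) η trivial _).symm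
    haveI : IsFinite g := hg ▸ (IsFinite.SpecMap_iff _).2 hfin
    haveI : IsFinite (X.fromSpecResidueField η) := IsFinite.of_comp _ f
    exact hηc (Scheme.range_fromSpecResidueField η ▸ (X.fromSpecResidueField η).isClosedMap.isClosed_range)
  obtain ⟨u, hu⟩ := halg
  obtain ⟨a, b, hb, hb0, hab⟩ : ∃ a b : A, b ∈ IsLocalRing.maximalIdeal A ∧ r b ≠ 0 ∧ u * r b = r a := by
    have hW := isAffineOpen_top (Spec (CommRingCat.of A))
    obtain ⟨t, ht⟩ := hst.2 (algebraMap (X.presheaf.stalk η) X.functionField u)
    letI := TopCat.Presheaf.algebra_section_stalk (Spec (CommRingCat.of A)).presheaf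
      (⟨f (genericPoint X), trivial⟩ : (⊤ : (Spec (CommRingCat.of A)).Opens))
    haveI := hW.isLocalization_stalk ⟨f (genericPoint X), trivial⟩
    obtain ⟨⟨a', b'⟩, hd⟩ := IsLocalization.surj (hW.primeIdealOf ⟨f (genericPoint X), trivial⟩).asIdeal.primeCompl t
    have hbu := IsLocalization.map_units ((Spec (CommRingCat.of A)).presheaf.stalk (f (genericPoint X))) b'
    have hbij := ConcreteCategory.bijective_of_isIso (Scheme.ΓSpecIso (CommRingCat.of A)).inv
    obtain ⟨a, ha⟩ := hbij.2 a'
    obtain ⟨b, hb'⟩ := hbij.2 b'.1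
    have hη' : ∀ c, algebraMap (X.presheaf.stalk η) X.functionField (r c) = ρx f (genericPoint X) c := fun c =>
      RefHull.Generic.algebraMap_germ (X := X) (U := ⊤) trivial _
    obtain ⟨c, hc, hc0⟩ : ∃ c ∈ IsLocalRing.maximalIdeal A, c ≠ 0 := by
      refine Submodule.exists_mem_ne_zero_of_ne_bot fun h => ?_
      have h6 := ringKrullDim_eq_zero_of_isField (IsLocalRing.isField_iff_maximalIdeal_eq.2 h)
      rw [hdim] at h6
      exact absurd h6 (by decide)
    have hinj : ∀ d, ρx f (genericPoint X) d = 0 → d = 0 := fun d hd' => by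
      have h1 := (ρx_eq f (genericPoint X) d).symm.trans hd'
      have h2 := hst.1 (h1.trans (map_zero _).symm)
      have h3 := germ_injective_of_isIntegral (X := Spec (CommRingCat.of A)) (U := ⊤) (f (genericPoint X)) trivial (h2.trans (map_zero _).symm)
      exact hbij.1 (h3.trans (map_zero _).symm)
    have hb0 : b ≠ 0 := fun h0 => by
      rw [h0, map_zero] at hb'
      rw [← hb', map_zero] at hbu
      exact not_isUnit_zero hbu
    refine ⟨c * a, c * b, Ideal.mul_mem_right _ _ hc, fun h0 => mul_ne_zero hc0 hb0 (hinj _ (by rw [← hη', h0, map_zero])), ?_⟩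
    refine IsFractionRing.injective (X.presheaf.stalk η) X.functionField ?_
    rw [map_mul, hη', hη', ← ht, map_mul, map_mul, ρx_eq f _ a, ρx_eq f _ b, ha, hb', mul_left_comm]
    congr 1
    refine Eq.trans ?_ (congrArg (f.stalkMap (genericPoint X)) hd)
    exact (map_mul (f.stalkMap (genericPoint X)).hom t _).symm
  haveI : IsDiscreteValuationRing (X.presheaf.stalk η) :=
    { not_a_field' := fun h => hb0 (Ideal.mem_bot.1 (h ▸ hker b hb)) }
  -- the upper bound
  have h0fin : ∀ F : X.Modules, Coh.IsCoh F → Module.Finite A (Coh.HH X F 0) := fun F hF =>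
    ProperFin.Assembly.qfin_of_isCoh Snapper.Finite.facts F hF 0
  have hQcoh : Coh.IsCoh (ClSub.quotMod I) := SurfInt.Effective.isCoh_quotMod I
  haveI := h0fin _ hQcoh
  have htop : Module.length A (Coh.HH X (ClSub.quotMod I) 0) ≠ ⊤ := by
    refine length_ne_top _ fun a ha => ?_
    haveI : CompactSpace I.subscheme := QuasiCompact.compactSpace_of_compactSpace I.subschemeι
    let s : Γ(I.subscheme, ⊤) := I.subschemeι.appTop (ρ f ⊤ a)
    have hnil : IsNilpotent s := (Scheme.isNilpotent_iff_basicOpen_eq_bot s).2 (by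
      refine eq_bot_iff.2 fun d hd => ?_
      have h1 : I.subschemeι d ∈ X.basicOpen (ρ f ⊤ a) := by
        rw [show s = I.subschemeι.appTop (ρ f ⊤ a) from rfl, ← Scheme.preimage_basicOpen_top] at hd
        exact hd
      replace h1 := (Scheme.mem_basicOpen X (U := ⊤) _ (I.subschemeι d) trivial).1 h1
      have h2 : f (I.subschemeι d) = IsLocalRing.closedPoint A :=
        hZ (Scheme.IdealSheafData.range_subschemeι I ▸ Set.mem_range_self d)
      change IsUnit (ρx f (I.subschemeι d) a) at h1
      rw [ρx_eq, isUnit_map_iff] at h1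
      have h1' := (Scheme.mem_basicOpen (Spec (CommRingCat.of A)) (U := ⊤) _ (f (I.subschemeι d)) trivial).2 h1
      rw [basicOpen_eq_of_affine, h2] at h1'
      exact (h1' ha).elim)
    obtain ⟨N, hN⟩ := hnil
    refine ⟨N, fun z => (Curves.GlobalSections.h0Equiv (ClSub.quotMod I)).injective ?_⟩
    rw [map_zero]
    refine (Curves.GlobalSections.h0Equiv_smul (ClSub.quotMod I) (Coh.toGlobal f (a ^ N)) z).trans ?_
    show (I.subschemeι.appTop (show Γ(X, ⊤) from Coh.toGlobal f (a ^ N))) *
      (show Γ(I.subscheme, ⊤) from Curves.GlobalSections.h0Equiv (ClSub.quotMod I) z) = 0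
    have h3 : I.subschemeι.appTop (show Γ(X, ⊤) from Coh.toGlobal f (a ^ N)) = s ^ N := by
      rw [← map_pow]
      refine congrArg I.subschemeι.appTop ?_
      rw [← map_pow]
      exact (ConcreteCategory.congr_hom (show X.presheaf.map (homOfLE (le_top : (⊤ : X.Opens) ≤ ⊤)).op = 𝟙 _ from
        X.presheaf.map_id _) _).symm
    rw [h3, hN, zero_mul]
  obtain ⟨c, hc⟩ := WithTop.ne_top_iff_exists.1 htop
  have hbound : ∀ n, Module.length A (Coh.HH X (ClSub.quotMod (I ^ n)) 0) ≤ ((n * c : ℕ) : ℕ∞) := by
    intro n
    induction n with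
    | zero =>
      haveI : Subsingleton (Coh.HH X (ClSub.quotMod (I ^ 0)) 0) := by
        refine subsingleton_HH_of_isZero ?_ 0
        refine Modules.Support.support_eq_empty_iff.mp ?_
        rw [ClSub.Quot.support_quotMod, pow_zero, Scheme.IdealSheafData.one_eq_top,
          Scheme.IdealSheafData.support_top]
        rfl
      simp [Module.length_eq_zero]
    | succ n ih =>
      cases n with
      | zero =>
        rw [zero_add, pow_one, one_mul, ← hc]
        exact le_rfl
      | succ k =>
        have hC := Ideal.EffCartier.isEffCartier_pow hI (k + 1)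
        have hCi := SurfInt.Effective.isInvertible_idealMod hC
        obtain ⟨α, β, w, hS⟩ := SurfInt.ColonSeq.exists_colonSeq (I ^ (k + 1)) I (I ^ (k + 1 + 1)) hCi fun x => by
          obtain ⟨g, hg, hgs⟩ := CartierDescent.stalkIdeal_eq_span hI x
          refine ⟨g ^ (k + 1), by rw [ModelFibre.StalkIdeal.stalkIdeal_pow, hgs, Ideal.span_singleton_pow], fun a => ?_⟩
          rw [ModelFibre.StalkIdeal.stalkIdeal_pow, hgs, Ideal.span_singleton_pow,
            Ideal.mem_span_singleton', Ideal.mem_span_singleton']
          constructor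
          · rintro ⟨b, hb'⟩
            refine ⟨b, (mul_cancel_left_mem_nonZeroDivisors (pow_mem hg (k + 1))).1 ?_⟩
            rw [← hb', pow_succ g (k + 1)]; ring
          · rintro ⟨b, rfl⟩
            exact ⟨b, by rw [pow_succ g (k + 1)]; ring⟩
        obtain ⟨eP⟩ := PointBlow96.nonempty_tensorPow_ideal hI k
        obtain ⟨e₂⟩ := ModelFibre.TorsGen.nonempty_pullback_tensorPow I.subschemeι (ClSub.idealMod I) (k + 1)
        have htriv : ∀ j, Nonempty (CohB1.tensorPow ((Scheme.Modules.pullback I.subschemeι).obj (ClSub.idealMod I)) j ≅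
            Coh.structureModule I.subscheme) := fun j => by
          induction j with
          | zero => exact ⟨Iso.refl _⟩
          | succ j ihj => exact ⟨tensorIso ihj.some iN ≪≫ leftUnit _⟩
        let e' : CohB1.tensorMod (ClSub.idealMod (I ^ (k + 1))) (ClSub.quotMod I) ≅ ClSub.quotMod I :=
          tensorIso eP.symm (Iso.refl _) ≪≫
          (Modules.ProjFormula.projIso I.subschemeι (Modules.DualBasis.hasDBases_of_isFinLocFree
            (TensorMod.LocFree.of_rank <| TensorMod.LocFree.of_isInvertible
              (TensorMod.Invertible.isInvertible_tensorPow (SurfInt.Effective.isInvertible_idealMod hI) (k + 1))))).app (Coh.structureModule I.subscheme) ≪≫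
          (Scheme.Modules.pushforward I.subschemeι).mapIso (tensorIso (e₂ ≪≫ (htriv (k + 1)).some) (Iso.refl _) ≪≫ leftUnit _)
        have hsup : I ^ (k + 1) ⊔ I ^ (k + 1 + 1) = I ^ (k + 1) := sup_eq_left.2 (Scheme.IdealSheafData.le_def.mpr fun U => by
          rw [Scheme.IdealSheafData.ideal_pow, Scheme.IdealSheafData.ideal_pow, Pi.pow_apply, Pi.pow_apply]
          exact Ideal.pow_le_pow_right (k + 1).le_succ)
        have hex := Curves.LES.exactK₂ A hS 0
        rw [ModelFibre.LenEuler.length_eq_range_add hex, add_mul, one_mul, Nat.cast_add, add_comm]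
        refine add_le_add ?_ ?_
        · refine (Module.length_le_of_injective _ (Submodule.injective_subtype _)).trans ?_
          rw [(Curves.LES.isoK A (eqToIso (congrArg ClSub.quotMod hsup)) 0).length_eq]
          exact ih
        · refine (Module.length_le_of_surjective _ (LinearMap.surjective_rangeRestrict (Curves.LES.mapK A α 0))).trans ?_
          rw [(Curves.LES.isoK A e' 0).length_eq, ← hc]
          exact le_rfl
  refine growth r u a b hab hb hb0 hu c fun n => le_trans ?_ (hbound n)
  let q : A →ₗ[A] Coh.HH X (ClSub.quotMod (I ^ n)) 0 :=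
    (Curves.LES.mapK A (ClSub.toSubscheme (I ^ n)) 0).comp Groth.Agent.S7337.const
  have hq : LinearMap.ker q ≤ (IsLocalRing.maximalIdeal (X.presheaf.stalk η) ^ n).comap r := by
    intro a ha
    rw [LinearMap.mem_ker] at ha
    obtain ⟨z, hz⟩ := (Curves.LES.exactK₂ A (ClSub.Quot.idealSeq_shortExact (I ^ n)) 0 (Groth.Agent.S7337.const a)).1 ha
    have h2 := (Groth.Agent.S7337.h0Equiv_natural (A := A) (ClSub.idealModι (I ^ n)) z).symm.trans
      ((congrArg (Curves.GlobalSections.h0Equiv (Coh.structureModule X)) hz).trans (Groth.Agent.S7337.h0Equiv_const a))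
    obtain ⟨U, hU, hηU, -⟩ := exists_isAffineOpen_mem_and_subset (X := X) (x := η) (U := ⊤) trivial
    have h4 : X.presheaf.map (homOfLE (le_top : U ≤ ⊤)).op (ρ f ⊤ a) ∈ (I ^ n).ideal ⟨U, hU⟩ := by
      refine (ClSub.Sections.mem_range_idealModι_app_affine_iff _ ⟨U, hU⟩ _).1
        ⟨(ClSub.idealMod (I ^ n)).presheaf.map (homOfLE (le_top : U ≤ ⊤)).op
          (Curves.GlobalSections.h0Equiv (ClSub.idealMod (I ^ n)) z), ?_⟩
      refine (ClSub.Basis.map_app (ClSub.idealModι (I ^ n)) le_top _).trans ?_
      exact congrArg _ h2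
    rw [Scheme.IdealSheafData.ideal_pow, Pi.pow_apply] at h4
    rw [Ideal.mem_comap]
    have h5 : r a = X.presheaf.germ U η hηU (X.presheaf.map (homOfLE (le_top : U ≤ ⊤)).op (ρ f ⊤ a)) :=
      (TopCat.Presheaf.germ_res_apply X.presheaf (homOfLE (le_top : U ≤ ⊤)) η hηU (ρ f ⊤ a)).symm
    rw [h5]
    have h6 := Ideal.mem_map_of_mem (X.presheaf.germ U η hηU).hom h4
    rw [Ideal.map_pow] at h6
    refine Ideal.pow_right_mono (Ideal.map_le_iff_le_comap.2 fun s hs => ?_) n h6
    have h7 := (Scheme.IdealSheafData.mem_support_iff_of_mem (U := ⟨U, hU⟩) hηU).1 hηZ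
    exact fun hu' => (Scheme.mem_zeroLocus_iff _ _ _).1 h7 s hs ((X.mem_basicOpen s η hηU).2 hu')
  refine (Module.length_le_of_surjective _ (Submodule.factor_surjective hq)).trans ?_
  rw [(LinearMap.quotKerEquivRange q).length_eq]
  exact Module.length_le_of_injective _ (Submodule.injective_subtype _)

end Groth.Agent.S7303
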