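import Groth.Statements.S7304
import Groth.Agent.S7927
import Groth.Agent.Lib.BlowUpExists.Exists

set_option autoImplicit false
universe u
open CategoryTheory CategoryTheory.Limits AlgebraicGeometry
open Resolve

namespace Groth.Agent.S7304

/-- Let (A, m) be a Noetherian local ring with m-adic completion A^, and U ⊂ Spec A, U^ ⊂ Spec A^ the
punctured spectra. If c : Y → Spec A^ is a U^-admissible blowing up (a blowing up in a
quasi-coherent ideal of finite type whose support misses U^), then there is a U-admissible blowing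
up b : X → Spec A such that Y is isomorphic, over Spec A^, to the base change of X to Spec A^. -/
theorem result (A : Type u) [CommRing A] [IsLocalRing A] [IsNoetherianRing A]
    (Y : Scheme.{u}) (c : Y ⟶ Spec (CommRingCat.of (Curv2.cpl A)))
    (J : (Spec (CommRingCat.of (Curv2.cpl A))).IdealSheafData)
    (hJ : BlowUp.IsAdmissibleFor (FEt.puncturedSpec (Curv2.cpl A)) J) (hc : BlowUp.IsBlowUp c J) :
    ∃ (I : (Spec (CommRingCat.of A)).IdealSheafData) (X : Scheme.{u}) (b : X ⟶ Spec (CommRingCat.of A)),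
      BlowUp.IsAdmissibleFor (FEt.puncturedSpec A) I ∧ BlowUp.IsBlowUp b I ∧
      ∃ e : Y ≅ Curv2.bcCpl A b, e.hom ≫ Curv2.bcCplSnd A b = c := by
  haveI := AdicCompletion.isLocalRing_of_fg (IsNoetherian.noetherian (IsLocalRing.maximalIdeal A))
  set φ := Spec.map (CommRingCat.ofHom (algebraMap A (Curv2.cpl A))) with hφ
  have hsub : (J.support : Set (Spec (CommRingCat.of (Curv2.cpl A)))) ⊆
      (φ ≫ 𝟙 _).base ⁻¹' {IsLocalRing.closedPoint A} := by
    intro z hz
    have hzc : z = IsLocalRing.closedPoint (Curv2.cpl A) := by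
      by_contra hne
      exact hJ.2.le_bot ⟨hz, hne⟩
    subst hzc
    haveI := AdicCompletion.algebraMap_isLocalHom_of_fg (IsNoetherian.noetherian (IsLocalRing.maximalIdeal A))
    exact IsLocalRing.comap_closedPoint (algebraMap A (Curv2.cpl A))
  obtain ⟨I, hI0, hIJ, hbu⟩ := S7927.descend A (𝟙 (Spec (CommRingCat.of A))) φ (𝟙 _)
    (IsPullback.of_vert_isIso ⟨by simp [hφ]⟩) J hsub
  obtain ⟨X, b, hb⟩ := Lib.BlowUpExists.exists_isBlowUp _ I
  refine ⟨I, X, b, ⟨fun U => ?_, ?_⟩, hb, ?_⟩
  · haveI : IsNoetherianRing Γ(Spec (CommRingCat.of A), U.1) :=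
      IsLocallyNoetherian.component_noetherian U
    exact IsNoetherian.noetherian _
  · rw [Set.disjoint_left]
    intro z hz hzU
    exact hzU (hI0 hz)
  have h2 : BlowUp.IsBlowUp (Curv2.bcCplSnd A b) J := hbu X b hb
  obtain ⟨u, hu, -⟩ := h2.2 Y c hc.1
  obtain ⟨v, hv, -⟩ := hc.2 _ (Curv2.bcCplSnd A b) h2.1
  refine ⟨⟨u, v, ?_, ?_⟩, hu⟩
  · exact (hc.2 Y c hc.1).unique (by rw [Category.assoc, hv, hu]) (Category.id_comp c)
  · exact (h2.2 _ _ h2.1).unique (by rw [Category.assoc, hu, hv]) (Category.id_comp _)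

end Groth.Agent.S7304
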