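import Groth.Statements.S7305
import Mathlib.RingTheory.AdicCompletion.Completeness

set_option autoImplicit false
universe u
open CategoryTheory CategoryTheory.Limits AlgebraicGeometry
open Resolve

namespace Groth.Agent.S7305

open IsLocalRing

set_option linter.style.haveILetI false

/-- `R → S` is bijective modulo the `n`-th powers of the maximal ideals if `R → T` is surjective
and both kernels lie in these powers. -/
theorem bijective_quotientMap {R S T : Type*} [CommRing R] [CommRing S] [CommRing T]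
    [IsLocalRing R] [IsLocalRing S] [IsLocalRing T] (ψ : R →+* S) (χ : S →+* T) [IsLocalHom χ]
    {n : ℕ} (hX : RingHom.ker (χ.comp ψ) ≤ maximalIdeal R ^ n)
    (hY : RingHom.ker χ ≤ maximalIdeal S ^ n) (hs : Function.Surjective (χ.comp ψ))
    (h : maximalIdeal R ^ n ≤ (maximalIdeal S ^ n).comap ψ) :
    Function.Bijective (Ideal.quotientMap (maximalIdeal S ^ n) ψ h) := by
  constructor
  · rw [injective_iff_map_eq_zero]
    intro x hx
    obtain ⟨r, rfl⟩ := Ideal.Quotient.mk_surjective x
    rw [Ideal.quotientMap_mk, Ideal.Quotient.eq_zero_iff_mem] at hx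
    rw [Ideal.Quotient.eq_zero_iff_mem]
    have h1 : χ (ψ r) ∈ Ideal.map (χ.comp ψ)
        (maximalIdeal R ^ n) := by
      rw [Ideal.map_pow, IsLocalRing.map_maximalIdeal_of_surjective _ hs]
      refine Ideal.pow_right_mono ?_ n ((Ideal.map_pow χ _ n) ▸ Ideal.mem_map_of_mem χ hx)
      exact Ideal.map_le_iff_le_comap.mpr fun a ha hu => ha (isUnit_of_map_unit χ a hu)
    obtain ⟨r', hr', hrr⟩ := (Ideal.mem_map_iff_of_surjective _ hs).mp h1
    have h2 : r - r' ∈ RingHom.ker (χ.comp ψ) := by
      rw [RingHom.mem_ker, map_sub, hrr, RingHom.comp_apply, sub_self]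
    have h3 := add_mem (hX h2) hr'
    rwa [sub_add_cancel] at h3
  · intro y
    obtain ⟨s, rfl⟩ := Ideal.Quotient.mk_surjective y
    obtain ⟨r, hr⟩ := hs (χ s)
    refine ⟨Ideal.Quotient.mk _ r, ?_⟩
    rw [Ideal.quotientMap_mk, Ideal.Quotient.eq]
    exact hY (by rw [RingHom.mem_ker, map_sub, ← hr, RingHom.comp_apply, sub_self])


/-- The kernel on stalks of the base change of `Spec C → Spec B` lies in the `n`-th power of the
maximal ideal if the kernel of `B → C` lies in the `n`-th power of an ideal vanishing at the point. -/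
theorem ker_stalkMap_le {B C : CommRingCat.{u}} (π : B ⟶ C) (hπ : Function.Surjective π.hom)
    {W T : Scheme.{u}} {j : W ⟶ T} {r : W ⟶ Spec C} {h : T ⟶ Spec B}
    (H : IsPullback j r h (Spec.map π)) [IsPreimmersion j] (w : W) (n : ℕ) (hn : 1 ≤ n)
    (K : Ideal B) (hK : K ≤ (h (j w)).asIdeal) (hker : RingHom.ker π.hom ≤ K ^ n) :
    RingHom.ker (j.stalkMap w).hom ≤ maximalIdeal (T.presheaf.stalk (j w)) ^ n := by
  set I := maximalIdeal (T.presheaf.stalk (j w)) ^ n
  have hle : I ≤ maximalIdeal (T.presheaf.stalk (j w)) := Ideal.pow_le_self (by omega)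
  haveI : Nontrivial (T.presheaf.stalk (j w) ⧸ I) :=
    Ideal.Quotient.nontrivial_iff.2 fun he =>
      (maximalIdeal.isMaximal (T.presheaf.stalk (j w))).ne_top (top_le_iff.1 (he ▸ hle))
  haveI : IsLocalRing (T.presheaf.stalk (j w) ⧸ I) :=
    .of_surjective' (Ideal.Quotient.mk I) Ideal.Quotient.mk_surjective
  let Q : CommRingCat.{u} := CommRingCat.of (T.presheaf.stalk (j w) ⧸ I)
  haveI : IsLocalRing Q := ‹IsLocalRing (T.presheaf.stalk (j w) ⧸ I)›
  let mk : T.presheaf.stalk (j w) ⟶ Q := CommRingCat.ofHom (Ideal.Quotient.mk I)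
  let g : B ⟶ T.presheaf.stalk (j w) := Spec.preimage (T.fromSpecStalk (j w) ≫ h)
  have hg : Spec.map g = T.fromSpecStalk (j w) ≫ h := Spec.map_preimage _
  have hgK : Ideal.map g.hom K ≤ maximalIdeal (T.presheaf.stalk (j w)) := by
    rw [Ideal.map_le_iff_le_comap]
    refine hK.trans (le_of_eq ?_)
    have h1 : (Spec.map g (closedPoint (T.presheaf.stalk (j w)))).asIdeal = (h (j w)).asIdeal := by
      rw [hg]
      exact congrArg (fun z => (h z).asIdeal) Scheme.fromSpecStalk_closedPoint
    exact h1.symm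
  have hkill : RingHom.ker π.hom ≤ RingHom.ker (g ≫ mk).hom := fun b hb => by
    refine RingHom.mem_ker.mpr (Ideal.Quotient.eq_zero_iff_mem.mpr ?_)
    have h1 := Ideal.mem_map_of_mem g.hom (hker hb)
    rw [Ideal.map_pow] at h1
    exact Ideal.pow_right_mono hgK n h1
  let g' : C ⟶ Q := CommRingCat.ofHom (π.hom.liftOfSurjective hπ ⟨(g ≫ mk).hom, hkill⟩)
  have hg' : π ≫ g' = g ≫ mk :=
    CommRingCat.hom_ext (RingHom.liftOfRightInverse_comp _ _ _ _)
  let l : Spec Q ⟶ W := H.lift (Spec.map mk ≫ T.fromSpecStalk (j w)) (Spec.map g') (by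
    rw [Category.assoc, ← hg, ← Spec.map_comp, ← Spec.map_comp, hg'])
  have hl : l ≫ j = Spec.map mk ≫ T.fromSpecStalk (j w) := H.lift_fst _ _ _
  haveI hloc : IsLocalHom mk.hom :=
    .of_surjective (Ideal.Quotient.mk I) Ideal.Quotient.mk_surjective
  have hpt : l (closedPoint Q) = w := by
    apply j.isEmbedding.injective
    refine (congrArg (fun m : Spec Q ⟶ T => m (closedPoint Q)) hl).trans ?_
    show T.fromSpecStalk (j w) (Spec.map mk (closedPoint Q)) = j w
    have : Spec.map mk (closedPoint Q) = closedPoint (T.presheaf.stalk (j w)) :=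
      IsLocalRing.comap_closedPoint mk.hom
    rw [this, Scheme.fromSpecStalk_closedPoint]
  let φ : W.presheaf.stalk w ⟶ Q :=
    W.presheaf.stalkSpecializes (specializes_of_eq hpt) ≫ Scheme.stalkClosedPointTo l
  have key : j.stalkMap w ≫ φ = mk := by
    apply Spec.map_injective
    rw [← cancel_mono (T.fromSpecStalk (j w)), Spec.map_comp, Category.assoc,
      Scheme.SpecMap_stalkMap_fromSpecStalk, ← hl, ← Category.assoc]
    congr 1
    simp only [φ, Spec.map_comp, Category.assoc,
      Scheme.SpecMap_stalkSpecializes_fromSpecStalk, Scheme.Spec_stalkClosedPointTo_fromSpecStalk]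
  intro s hs
  have : mk.hom s = 0 := by
    rw [← key]
    show φ.hom ((j.stalkMap w).hom s) = 0
    rw [RingHom.mem_ker.1 hs, map_zero]
  exact Ideal.Quotient.eq_zero_iff_mem.1 this

/-- Let (A, m) be a local ring with m finitely generated, f : X → Spec A a scheme over A, and Y = X
×_{Spec A} Spec(A^) the base change to the m-adic completion. Take a point q of Y whose image p in X
maps to the closed point of Spec A. Then the map of local rings O_{X,p} → O_{Y,q} becomes an
isomorphism after completing both sides: for every n ≥ 1 the induced map O_{X,p}/m_p^n →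
O_{Y,q}/m_q^n is bijective. -/
theorem result (A : Type u) [CommRing A] [IsLocalRing A]
    (hm : (IsLocalRing.maximalIdeal A).FG) (X : Scheme.{u}) (f : X ⟶ Spec (CommRingCat.of A))
    (q : ↥(Curv2.bcCpl A f)) (hq : f.base ((Curv2.bcCplFst A f).base q) = IsLocalRing.closedPoint A) (n : ℕ) (hn : 1 ≤ n)
    (h : IsLocalRing.maximalIdeal (X.presheaf.stalk ((Curv2.bcCplFst A f).base q)) ^ n ≤
      (IsLocalRing.maximalIdeal ((Curv2.bcCpl A f).presheaf.stalk q) ^ n).comap ((Curv2.bcCplFst A f).stalkMap q).hom) :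
    Function.Bijective (Ideal.quotientMap (IsLocalRing.maximalIdeal ((Curv2.bcCpl A f).presheaf.stalk q) ^ n)
      ((Curv2.bcCplFst A f).stalkMap q).hom h) := by
  set m := maximalIdeal A
  let π : CommRingCat.of (Curv2.cpl A) ⟶ CommRingCat.of (A ⧸ m ^ n) :=
    CommRingCat.ofHom (AdicCompletion.evalₐ m n).toRingHom
  let φ : CommRingCat.of A ⟶ CommRingCat.of (Curv2.cpl A) :=
    CommRingCat.ofHom (algebraMap A (Curv2.cpl A))
  have hπ : Function.Surjective π.hom := AdicCompletion.surjective_evalₐ m n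
  have hφπ : φ ≫ π = CommRingCat.ofHom (Ideal.Quotient.mk (m ^ n)) :=
    CommRingCat.hom_ext ((AdicCompletion.evalₐ m n).comp_algebraMap)
  have hker : RingHom.ker π.hom ≤ Ideal.map φ.hom m ^ n := by
    intro x hx
    have h0 : AdicCompletion.eval m A n x = 0 := by
      have h1 : (AdicCompletion.evalₐ m n) x = 0 := hx
      exact (AdicCompletion.factor_evalₐ_eq_eval m x (by simp)).symm.trans (by rw [h1, map_zero])
    rw [← LinearMap.mem_ker, ← AdicCompletion.pow_smul_top_eq_ker_eval hm,
      Ideal.smul_top_eq_map, Submodule.restrictScalars_mem, Ideal.map_pow] at h0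
    exact h0
  haveI : IsClosedImmersion (Spec.map π) := IsClosedImmersion.spec_of_surjective π hπ
  have hsurj' : Function.Surjective (φ ≫ π).hom := by
    rw [hφπ]; exact Ideal.Quotient.mk_surjective
  haveI : IsClosedImmersion (Spec.map π ≫ Spec.map φ) := by
    rw [← Spec.map_comp]; exact IsClosedImmersion.spec_of_surjective _ hsurj'
  let p := (Curv2.bcCplFst A f) q
  have hKY : Ideal.map φ.hom m ≤ ((Curv2.bcCplSnd A f) q).asIdeal := by
    rw [Ideal.map_le_iff_le_comap]
    refine le_of_eq ?_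
    have h1 : (Spec.map φ) ((Curv2.bcCplSnd A f) q) = f p := by
      rw [← Scheme.Hom.comp_apply, ← pullback.condition, Scheme.Hom.comp_apply]
    have h2 := congrArg PrimeSpectrum.asIdeal (h1.trans hq)
    exact h2.symm
  obtain ⟨w, hw⟩ : q ∈ Set.range (pullback.fst (Curv2.bcCplSnd A f) (Spec.map π)) := by
    rw [Scheme.Pullback.range_fst]
    show (Curv2.bcCplSnd A f) q ∈ Set.range (PrimeSpectrum.comap π.hom)
    rw [range_comap_of_surjective _ π.hom hπ]
    exact hker.trans ((Ideal.pow_le_self (by omega)).trans hKY)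
  let l := pullback.fst (Curv2.bcCplSnd A f) (Spec.map π)
  have H : IsPullback (l ≫ Curv2.bcCplFst A f) (pullback.snd _ _) f (Spec.map (φ ≫ π)) := by
    rw [Spec.map_comp]
    exact (IsPullback.of_hasPullback _ _).paste_horiz (IsPullback.of_hasPullback _ _)
  haveI : IsClosedImmersion (Spec.map (φ ≫ π)) := IsClosedImmersion.spec_of_surjective _ hsurj'
  haveI : IsClosedImmersion (l ≫ Curv2.bcCplFst A f) :=
    MorphismProperty.of_isPullback H.flip inferInstance
  subst hw
  have hY : RingHom.ker (l.stalkMap w).hom ≤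
      maximalIdeal ((Curv2.bcCpl A f).presheaf.stalk (l w)) ^ n :=
    ker_stalkMap_le π hπ (IsPullback.of_hasPullback (Curv2.bcCplSnd A f) (Spec.map π)) w n hn
      _ hKY hker
  have hX : RingHom.ker ((l ≫ Curv2.bcCplFst A f).stalkMap w).hom ≤
      maximalIdeal (X.presheaf.stalk ((l ≫ Curv2.bcCplFst A f) w)) ^ n :=
    ker_stalkMap_le (φ ≫ π) hsurj' H w n hn m (le_of_eq (congrArg PrimeSpectrum.asIdeal hq).symm)
      (by rw [hφπ]; exact le_of_eq Ideal.mk_ker)
  have hs := (l ≫ Curv2.bcCplFst A f).stalkMap_surjective w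
  rw [Scheme.Hom.stalkMap_comp] at hX hs
  set ψ := ((Curv2.bcCplFst A f).stalkMap (l w)).hom with hψ
  set χ := (l.stalkMap w).hom with hχ
  haveI : IsLocalHom ψ := by rw [hψ]; infer_instance
  haveI : IsLocalHom χ := by rw [hχ]; infer_instance
  replace hX : RingHom.ker (χ.comp ψ) ≤
      maximalIdeal (X.presheaf.stalk ((Curv2.bcCplFst A f) (l w))) ^ n := hX
  replace hs : Function.Surjective (χ.comp ψ) := hs
  exact bijective_quotientMap ψ χ hX hY hs h

end Groth.Agent.S7305
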