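import Groth.Statements.S7308
import Groth.Agent.Lib.Flat55.ContractionUniversal

set_option autoImplicit false
universe u
open CategoryTheory CategoryTheory.Limits AlgebraicGeometry
open Resolve

namespace Groth.Agent.S7308

/-- Let X be a Noetherian scheme and ι : E → X a closed immersion which is an exceptional curve of the
first kind. A contraction of E, if it exists, is unique up to unique isomorphism: for contractions
b₁ : X → X₁ and b₂ : X → X₂ of E there is a unique isomorphism e : X₁ ≅ X₂ with b₁ ≫ e = b₂. -/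
theorem result {E X X₁ X₂ : Scheme.{u}} [IsNoetherian X] (ι : E ⟶ X) [IsClosedImmersion ι]
    (hE : Models.IsExcCurve ι) (b₁ : X ⟶ X₁) (hb₁ : Models.IsContractionOf ι b₁) (b₂ : X ⟶ X₂) (hb₂ : Models.IsContractionOf ι b₂) :
    ∃! e : X₁ ≅ X₂, b₁ ≫ e.hom = b₂ := by
  obtain ⟨y₁, -, hr₁, -⟩ := hb₁.2.2
  obtain ⟨y₂, -, hr₂, -⟩ := hb₂.2.2
  obtain ⟨f, hf, -⟩ := Groth.Agent.Lib.Flat55.ContractionUniversal.existsUnique_desc ι hE b₁ hb₁ b₂ y₂ hr₂
  obtain ⟨g, hg, -⟩ := Groth.Agent.Lib.Flat55.ContractionUniversal.existsUnique_desc ι hE b₂ hb₂ b₁ y₁ hr₁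
  obtain ⟨_, -, hu₁⟩ := Groth.Agent.Lib.Flat55.ContractionUniversal.existsUnique_desc ι hE b₁ hb₁ b₁ y₁ hr₁
  obtain ⟨_, -, hu₂⟩ := Groth.Agent.Lib.Flat55.ContractionUniversal.existsUnique_desc ι hE b₂ hb₂ b₂ y₂ hr₂
  have h1 : f ≫ g = CategoryTheory.CategoryStruct.id X₁ :=
    (hu₁ _ (by show b₁ ≫ f ≫ g = b₁; rw [← CategoryTheory.Category.assoc, hf, hg])).trans (hu₁ _ (CategoryTheory.Category.comp_id _)).symm
  have h2 : g ≫ f = CategoryTheory.CategoryStruct.id X₂ :=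
    (hu₂ _ (by show b₂ ≫ g ≫ f = b₂; rw [← CategoryTheory.Category.assoc, hg, hf])).trans (hu₂ _ (CategoryTheory.Category.comp_id _)).symm
  refine ⟨⟨f, g, h1, h2⟩, hf, fun e he => CategoryTheory.Iso.ext ?_⟩
  obtain ⟨_, -, hu⟩ := Groth.Agent.Lib.Flat55.ContractionUniversal.existsUnique_desc ι hE b₁ hb₁ b₂ y₂ hr₂
  exact (hu _ he).trans (hu _ hf).symm

end Groth.Agent.S7308
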