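import Groth.Statements.S7321
import Groth.Agent.Lib.Flat55.CurveResolution

set_option autoImplicit false
universe u
open CategoryTheory CategoryTheory.Limits AlgebraicGeometry
open Resolve

namespace Groth.Agent.S7321

/-- Let Y be an integral Noetherian scheme of dimension one. Then (1) there is an alteration X → Y with
X regular, if and only if (2) Y has a resolution of singularities, i.e. a proper morphism X → Y from
an integral regular scheme which is an isomorphism over a nonempty open of Y; and (2) holds if and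
only if (4) the normalization morphism of Y is finite. (A further equivalent condition, a finite
sequence of blowings up in closed points ending in a regular scheme, is stated separately. The
quasi-compactness and quasi-separatedness binders on Spec K(Y) → Y always hold; they are needed only
to form the normalization.) -/
theorem result (Y : Scheme.{u}) [IsIntegral Y] [IsNoetherian Y]
    (hdim : topologicalKrullDim Y = 1)
    [QuasiCompact (Y.fromSpecStalk (genericPoint Y))] [QuasiSeparated (Y.fromSpecStalk (genericPoint Y))] :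
    ((∃ (X : Scheme.{u}) (g : X ⟶ Y), Curv2.IsAlteration g ∧ ∀ x : X, IsRegularLocalRing (X.presheaf.stalk x)) ↔
      (∃ (X : Scheme.{u}) (g : X ⟶ Y), IsProper g ∧ IsIntegral X ∧
        (∃ V : Y.Opens, (V : Set Y).Nonempty ∧ IsIso (g ∣_ V)) ∧ ∀ x : X, IsRegularLocalRing (X.presheaf.stalk x))) ∧
    ((∃ (X : Scheme.{u}) (g : X ⟶ Y), IsProper g ∧ IsIntegral X ∧
        (∃ V : Y.Opens, (V : Set Y).Nonempty ∧ IsIso (g ∣_ V)) ∧ ∀ x : X, IsRegularLocalRing (X.presheaf.stalk x)) ↔
      IsFinite (Curv2.normalizationι Y)) := by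
  have h14 : ∀ (X : Scheme.{u}) (g : X ⟶ Y), Curv2.IsAlteration g →
      (∀ x : X, IsRegularLocalRing (X.presheaf.stalk x)) → IsFinite (Curv2.normalizationι Y) := by
    rintro X g ⟨hp, hX, -, hd, -⟩ hreg
    exact Groth.Agent.Lib.Flat55.CurveResolution.isFinite_normalizationι g fun x =>
      have := hreg x
      Groth.Agent.Lib.Regular.UFD.isIntegrallyClosed _
  have h21 : ∀ (X : Scheme.{u}) (g : X ⟶ Y), (IsProper g ∧ IsIntegral X ∧
      (∃ V : Y.Opens, (V : Set Y).Nonempty ∧ IsIso (g ∣_ V)) ∧ ∀ x : X, IsRegularLocalRing (X.presheaf.stalk x)) →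
      Curv2.IsAlteration g := by
    rintro X g ⟨hp, hX, ⟨V, hV, hiso⟩, -⟩
    exact Groth.Agent.Lib.Flat55.CurveResolution.isAlteration g V hV
  have h42 : IsFinite (Curv2.normalizationι Y) → ∃ (X : Scheme.{u}) (g : X ⟶ Y), IsProper g ∧ IsIntegral X ∧
      (∃ V : Y.Opens, (V : Set Y).Nonempty ∧ IsIso (g ∣_ V)) ∧ ∀ x : X, IsRegularLocalRing (X.presheaf.stalk x) :=
    fun h => ⟨_, _, Groth.Agent.Lib.Flat55.CurveResolution.resolution_of_isFinite hdim.le h⟩
  refine ⟨⟨fun ⟨X, g, hg, hreg⟩ => h42 (h14 X g hg hreg), fun ⟨X, g, h⟩ => ⟨X, g, h21 X g h, h.2.2.2⟩⟩,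
    ⟨fun ⟨X, g, h⟩ => h14 X g (h21 X g h) h.2.2.2, h42⟩⟩

end Groth.Agent.S7321
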