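import Groth.Statements.S7322
import Groth.Agent.Lib.Amp36.Modif.Divisorial
import Groth.Agent.Lib.Amp36.Modif.Principalise

set_option autoImplicit false
universe u
open CategoryTheory CategoryTheory.Limits AlgebraicGeometry
open Resolve

namespace Groth.Agent.S7322

open Groth.Agent Groth.Agent.Lib Groth.Agent.Lib.Amp36.Modif TopologicalSpace

/-- Let X be an integral Noetherian scheme which is regular of dimension two and Z ⊂ X a closed
subscheme, with ideal sheaf I, different from X. Then there is a sequence of blowings up in closed
points g : X' → X (a finite composite of blowings up at closed points with regular two-dimensional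
local rings, i.e. of contractions of exceptional curves of the first kind) such that the inverse
image of Z in X' is an effective Cartier divisor. (The published statement takes X any regular
scheme of dimension two; for X the disjoint union of a regular surface and a regular curve C and Z =
C no blowing up in closed points makes the inverse image of Z Cartier, so X is taken integral here,
as the proof's largest-Cartier-divisor step requires.) -/
theorem result (X : Scheme.{u}) [IsIntegral X] [IsNoetherian X]
    (hreg : ∀ x : X, IsRegularLocalRing (X.presheaf.stalk x)) (hdim : topologicalKrullDim X = 2)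
    (I : X.IdealSheafData) (hI : I ≠ ⊥) :
    ∃ (X' : Scheme.{u}) (g : X' ⟶ X), Models.IsContractionSeq g ∧ BlowUp.IsEffCartierIdeal (I.comap g) := by
  classical
  obtain ⟨J, I₁, hJ, hIJ, hsupp⟩ := Divisorial.exists_decomp hreg I hI
  have hd2 : ∀ x : X, ringKrullDim (X.presheaf.stalk x) ≤ 2 := fun x =>
    (Cyc.TorPD.ringKrullDim_stalk_le x).trans hdim.le
  have h2 : ∀ x ∈ I₁.support, ringKrullDim (X.presheaf.stalk x) = 2 := fun x hx => by
    refine le_antisymm (hd2 x) ?_
    have h := hsupp x hx
    rcases hd : ringKrullDim (X.presheaf.stalk x) with _ | a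
    · rw [hd] at h; exact absurd h not_lt_bot
    · rw [hd] at h
      exact WithBot.coe_le_coe.2 (Order.add_one_le_of_lt (WithBot.coe_lt_coe.1 h))
  have hcl : ∀ x ∈ I₁.support, IsClosed ({x} : Set X) := fun x hx =>
    Divisorial.isClosed_of_dim (n := 2) hdim.le x (h2 x hx).ge
  have hfin : (I₁.support : Set X).Finite := by
    obtain ⟨S, hSf, hSc, hSi, hS⟩ :=
      NoetherianSpace.exists_finite_set_isClosed_irreducible I₁.support.isClosed
    rw [hS]
    refine hSf.sUnion fun C hC => ?_
    obtain ⟨η, hη⟩ := QuasiSober.sober (hSi C hC) (hSc C hC)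
    have hηm : η ∈ I₁.support := hS.ge (Set.mem_sUnion_of_mem hη.mem hC)
    rw [← hη.def, (hcl η hηm).closure_eq]
    exact Set.finite_singleton η
  have hT : Principalise.Adm (I₁.support : Set X) I₁ :=
    ⟨hfin, subset_rfl, fun x hx => ⟨hcl x hx, hreg x, h2 x hx⟩⟩
  obtain ⟨n, hn⟩ := Principalise.exists_bound X _ I₁ hT
  obtain ⟨X', g, hg, -, he⟩ := Principalise.exists_principal n X _ I₁ hT hn
  refine ⟨X', g, hg, ?_⟩
  rw [hIJ, Ideal.Comap.comap_mul]
  exact Ideal.EffCartier.isEffCartier_mul (Principalise.isEffCartier_comap_seq hg hJ) he

end Groth.Agent.S7322
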