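import Groth.Statements.S7324
import Groth.Agent.S7929
import Groth.Agent.Lib.SurfFactor85.Exc
import Groth.Agent.Lib.PointBlow85.Main
-- import your own Groth.Agent.* helpers here

set_option autoImplicit false
set_option linter.style.haveILetI false
universe u
open CategoryTheory CategoryTheory.Limits AlgebraicGeometry
open Resolve

namespace Groth.Agent.S7324

open Groth.Agent.Lib Groth.Agent.Lib.ModelFibre TopologicalSpace

noncomputable local instance picLawInst (Z : Scheme.{u}) : PicGrp.Law Z := TensorMod.Invertible.law Z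

/-- An invertible module on the spectrum of a local ring is trivial. -/
theorem trivial_local {A : Type u} [CommRing A] [IsLocalRing A] {L : (Spec (CommRingCat.of A)).Modules}
    (hL : PicF.IsInvertible L) : Nonempty (L ≅ Coh.structureModule (Spec (CommRingCat.of A))) := by
  let Y : Scheme.{u} := Spec (CommRingCat.of A)
  obtain ⟨U, hU, ⟨e⟩⟩ := hL (IsLocalRing.closedPoint A)
  obtain rfl : U = ⊤ := top_le_iff.1 fun z _ =>
    ((PrimeSpectrum.le_iff_specializes z (IsLocalRing.closedPoint A)).1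
      (IsLocalRing.le_maximalIdeal z.2.ne_top)).mem_open U.2 hU
  let j : Y ⟶ (⊤ : Y.Opens).toScheme := Y.topIso.inv
  have hj : j ≫ (⊤ : Y.Opens).ι = 𝟙 Y := by simp [j]
  exact ⟨((Scheme.Modules.pullbackId Y).app L).symm ≪≫
    (Scheme.Modules.pullbackCongr hj.symm).app L ≪≫
    (Scheme.Modules.pullbackComp j _).symm.app L ≪≫
    (Scheme.Modules.pullback j).mapIso
      ((Scheme.Modules.restrictFunctorIsoPullback _).symm.app L ≪≫ e) ≪≫
    PicLoc.pullbackStructureIso j⟩


/-- Let (A, m) be a regular local ring of dimension two and b : X → Spec A the blowing up in m, with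
exceptional divisor E, ideal sheaf I = O_X(-E), and M = O_X(E) an inverse of I for the tensor
product. Then Pic(X) = Z generated by O_X(E): every invertible O_X-module is isomorphic to I^{⊗ n}
or to M^{⊗ n} for some n ≥ 0, and I^{⊗ n} is not isomorphic to O_X for n ≥ 1. -/
theorem result (A : Type u) [CommRing A] [IsRegularLocalRing A] (hA : ringKrullDim A = 2)
    (X : Scheme.{u}) (b : X ⟶ Spec (CommRingCat.of A)) (hb : BlowUp.IsBlowUp b (Curv2.idealSheaf A (IsLocalRing.maximalIdeal A)))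
    (M : X.Modules) (hM : ClSub.IsInverseOf M (ClSub.idealMod (BlowUp.exceptional b (Curv2.idealSheaf A (IsLocalRing.maximalIdeal A))))) :
    (∀ L : X.Modules, PicF.IsInvertible L → ∃ n : ℕ,
      Nonempty (L ≅ CohB1.tensorPow (ClSub.idealMod (BlowUp.exceptional b (Curv2.idealSheaf A (IsLocalRing.maximalIdeal A)))) n) ∨
        Nonempty (L ≅ CohB1.tensorPow M n)) ∧
    ∀ n : ℕ, 1 ≤ n →
      IsEmpty (CohB1.tensorPow (ClSub.idealMod (BlowUp.exceptional b (Curv2.idealSheaf A (IsLocalRing.maximalIdeal A)))) n ≅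
        Coh.structureModule X) := by
  classical
  haveI : IsDomain A := Regular.Quotient.isDomain A
  haveI := PointBlow85.isIntegral hA hb
  set 𝓜 := Curv2.idealSheaf A (IsLocalRing.maximalIdeal A) with h𝓜
  haveI : IsProper b := BlowUpExists.isProper_of_isBlowUp hb fun U => by
    haveI : IsNoetherianRing Γ(Spec (CommRingCat.of A), U.1) := IsLocallyNoetherian.component_noetherian U
    exact IsNoetherian.noetherian _
  haveI : IsLocallyNoetherian X := LocallyOfFiniteType.isLocallyNoetherian b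
  haveI : CompactSpace X := QuasiCompact.compactSpace_of_compactSpace b
  haveI : IsNoetherian X := {}
  have hXreg := PointBlow85.isRegularLocalRing_stalk hA hb
  set EX := BlowUp.exceptional b 𝓜 with hEX
  obtain ⟨hcart, k, hk, e', htw⟩ : Models.IsExcCurve EX.subschemeι := (SurfFactor85.Exc.main hA hb).2
  haveI : IsIntegral (CohB1.ProjSpace 1 k) := inferInstance
  haveI : Nonempty EX.subscheme := ⟨e'.hom (genericPoint (CohB1.ProjSpace 1 k))⟩
  haveI : IsIntegral EX.subscheme := isIntegral_of_isOpenImmersion e'.inv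
  have hker : EX.subschemeι.ker = EX := Scheme.IdealSheafData.ker_subschemeι _
  have hEc : BlowUp.IsEffCartierIdeal EX := hker ▸ hcart
  set cI := PicGrp.cls _ (ClSub.Cartier.isInvertible_idealMod hEc)
  refine ⟨fun L hL => ?_, fun n hn => ⟨fun φ => ?_⟩⟩
  swap
  · obtain ⟨m, rfl⟩ : ∃ m, n = m + 1 := ⟨n - 1, by omega⟩
    have h1 : cI ^ (m + 1) = 1 :=
      (VertPic.nonempty_tensorPow_iso (ClSub.Cartier.isInvertible_idealMod hEc) (m + 1)).1 ⟨φ⟩
    rw [← VertPic.cls_pow_ideal hEc] at h1
    rw [hker] at htw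
    obtain ⟨i⟩ := (PicGrp.cls_eq_one_iff _).1 h1
    exact Groth.Agent.S7886.not_trivial (e'.hom ≫ EX.subschemeι) hEc htw m
      ⟨(Scheme.Modules.pullback _).mapIso i ≪≫ PicLoc.pullbackStructureIso _⟩
  haveI : ∀ z : Spec (CommRingCat.of A), IsRegularLocalRing ((Spec (CommRingCat.of A)).presheaf.stalk z) :=
    PointBlow85.isRegularLocalRing_stalk_spec
  have hsupp : (𝓜.support : Set (Spec (CommRingCat.of A))) = {IsLocalRing.closedPoint A} :=
    Flat55.ContractionFibre.support_eq
  set Ω : (Spec (CommRingCat.of A)).Opens := 𝓜.support.compl with hΩ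
  haveI : IsIso (b ∣_ Ω) := Ideal.BlowUp.isIso_off_center hb
  have hηΩ : genericPoint (Spec (CommRingCat.of A)) ∈ Ω := by
    show genericPoint (Spec (CommRingCat.of A)) ∉ (𝓜.support : Set _)
    rw [hsupp]
    intro h0
    have h : genericPoint (Spec (CommRingCat.of A)) = IsLocalRing.closedPoint A := h0
    have h1 : (genericPoint (Spec (CommRingCat.of A)) : PrimeSpectrum A).asIdeal = IsLocalRing.maximalIdeal A :=
      congrArg PrimeSpectrum.asIdeal h
    have h2 : (genericPoint (Spec (CommRingCat.of A)) : PrimeSpectrum A).asIdeal = ⊥ :=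
      le_antisymm ((PrimeSpectrum.le_iff_specializes _ (⟨⊥, _root_.Ideal.isPrime_bot⟩ : PrimeSpectrum A)).2
        (genericPoint_specializes _)) bot_le
    have h3 := IsLocalRing.maximalIdeal_height_eq_ringKrullDim (R := A)
    rw [hA, ← h1, h2, _root_.Ideal.height_bot] at h3
    norm_cast at h3
  let G : X.Opens := b ⁻¹ᵁ Ω
  let g' : (Ω : Scheme.{u}) ⟶ X := inv (b ∣_ Ω) ≫ G.ι
  haveI : Nonempty Ω := ⟨⟨_, hηΩ⟩⟩
  haveI : IsIntegral (Ω : Scheme.{u}) := isIntegral_of_isOpenImmersion Ω.ι
  have hdimS : topologicalKrullDim (Spec (CommRingCat.of A)) ≤ 2 :=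
    (PrimeSpectrum.topologicalKrullDim_eq_ringKrullDim (R := A)).trans_le hA.le
  obtain ⟨L₀, hL₀, ⟨eL⟩⟩ := PicExtend.exists_extension Ω.ι PointBlow85.isRegularLocalRing_stalk_spec hdimS
    (PicLoc.isInvertible_pullback g' hL)
  obtain ⟨i₀⟩ := trivial_local hL₀
  have hj : (b ∣_ Ω) ≫ g' = G.ι := IsIso.hom_inv_id_assoc _ _
  have htriv : Nonempty (L.restrict G.ι ≅ Coh.structureModule (G : Scheme.{u})) :=
    ⟨(Scheme.Modules.restrictFunctorIsoPullback G.ι).app L ≪≫
      (Scheme.Modules.pullbackCongr hj.symm).app L ≪≫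
      (Scheme.Modules.pullbackComp _ g').symm.app L ≪≫
      (Scheme.Modules.pullback (b ∣_ Ω)).mapIso (eL.symm ≪≫ (Scheme.Modules.pullback Ω.ι).mapIso i₀ ≪≫
        PicLoc.pullbackStructureIso Ω.ι) ≪≫ PicLoc.pullbackStructureIso _⟩
  have hG : (G : Set X) = (Set.range EX.subschemeι)ᶜ := by
    rw [Scheme.IdealSheafData.range_subschemeι, hEX, BlowUp.exceptional, Scheme.IdealSheafData.support_comap]
    rfl
  have hGne : (G : Set X).Nonempty :=
    ⟨(inv (b ∣_ Ω) ⟨_, hηΩ⟩).1, (inv (b ∣_ Ω) ⟨_, hηΩ⟩).2⟩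
  obtain ⟨z, hz⟩ := Groth.Agent.S7929.cls_zpow hXreg EX.subschemeι hcart G hG hGne hL htriv
  rw [VertPic.cls_congr hker _ (ClSub.Cartier.isInvertible_idealMod hEc)] at hz
  have hMi : PicF.IsInvertible M := TensorMod.TensorInv.isInvertible_of_tensor_iso hM.some
  refine ⟨z.natAbs, ?_⟩
  rcases Int.natAbs_eq z with h | h
  · left
    refine (PicGrp.cls_eq_cls_iff hL (TensorMod.Invertible.isInvertible_tensorPow (ClSub.Cartier.isInvertible_idealMod hEc) _)).1 ?_
    rw [VertPic.cls_pow (ClSub.Cartier.isInvertible_idealMod hEc), hz]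
    conv_lhs => rw [h, zpow_natCast]
  · right
    refine (PicGrp.cls_eq_cls_iff hL (TensorMod.Invertible.isInvertible_tensorPow hMi _)).1 ?_
    rw [VertPic.cls_pow hMi, hz,
      eq_inv_of_mul_eq_one_left ((PicGrp.cls_mul_cls_eq_one_iff hMi (ClSub.Cartier.isInvertible_idealMod hEc)).2 hM)]
    conv_lhs => rw [h, zpow_neg, zpow_natCast]
    exact (inv_pow cI _).symm

end Groth.Agent.S7324
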