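import Groth.Statements.S7325
import Groth.Agent.S7324
import Groth.Agent.Lib.Flat55.ContractionUniversal
import Groth.Agent.H52.PushInv
-- import your own Groth.Agent.* helpers here

set_option autoImplicit false
set_option linter.style.haveILetI false
universe u
open CategoryTheory CategoryTheory.Limits AlgebraicGeometry
open Resolve

namespace Groth.Agent.S7325

open Groth.Agent.Lib Groth.Agent.Lib.ModelFibre TopologicalSpace
open Groth.Agent.Lib.TensorMod Groth.Agent.Lib.TensorMod.Dual Groth.Agent.Lib.TensorMod.Gen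

noncomputable local instance picLawInst (Z : Scheme.{u}) : PicGrp.Law Z := TensorMod.Invertible.law Z

/-- A morphism from a reduced scheme into the range of a reduced closed subscheme factors through it. -/
theorem exists_factor {W Z X : Scheme.{u}} [IsReduced W] [IsReduced Z] (i : Z ⟶ X) [IsClosedImmersion i]
    (g : W ⟶ X) (h : ∀ w, g w ∈ Set.range i) : ∃ t : W ⟶ Z, t ≫ i = g := by
  refine ⟨IsClosedImmersion.lift i g ?_, IsClosedImmersion.lift_fac _ _ _⟩
  rw [PointExc74.ker_eq i, ← Scheme.IdealSheafData.map_bot, Scheme.IdealSheafData.le_map_iff_comap_le,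
    le_bot_iff, ← Scheme.IdealSheafData.support_eq_top_iff, Scheme.IdealSheafData.support_comap]
  refine Closeds.ext (Set.eq_univ_of_forall fun w => ?_)
  show g w ∈ ((Scheme.IdealSheafData.vanishingIdeal
    (⟨Set.range i, i.isClosedEmbedding.isClosed_range⟩ : Closeds X)).support : Set X)
  rw [Scheme.IdealSheafData.coe_support_vanishingIdeal]
  exact h w


/-- Let X be a Noetherian scheme, ι : E → X a closed immersion which is an exceptional curve of the
first kind, and b : X → X' a contraction of E. Then pullback along b is injective on isomorphism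
classes of invertible modules, and an invertible O_X-module L is the pullback of some invertible
O_{X'}-module if and only if ι^* L ≅ O_E. (The published statement is a split short exact sequence 0
→ Pic(X') → Pic(X) → Z → 0 whose second map is the degree on E; this row states the injectivity of
the first map and the description of its image, and does not restate the degree map or the
splitting.) -/
theorem result {E X X' : Scheme.{u}} [IsNoetherian X] (ι : E ⟶ X) [IsClosedImmersion ι]
    (hE : Models.IsExcCurve ι) (b : X ⟶ X') (hb : Models.IsContractionOf ι b) :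
    (∀ L₁ L₂ : X'.Modules, PicF.IsInvertible L₁ → PicF.IsInvertible L₂ →
      Nonempty ((Scheme.Modules.pullback b).obj L₁ ≅ (Scheme.Modules.pullback b).obj L₂) → Nonempty (L₁ ≅ L₂)) ∧
    ∀ L : X.Modules, PicF.IsInvertible L →
      ((∃ L' : X'.Modules, PicF.IsInvertible L' ∧ Nonempty ((Scheme.Modules.pullback b).obj L' ≅ L)) ↔
        Nonempty ((Scheme.Modules.pullback ι).obj L ≅ Coh.structureModule E)) := by
  classical
  obtain ⟨hN, hP, y, hy, hr, hreg, hdim, hbl⟩ := hb
  haveI := hN; haveI := hP; haveI := hreg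
  have hF := Flat55.ContractionUniversal.fibre_eq_range ι hE b y hy hdim hbl hr
  set W₀ : X'.Opens := ⟨{y}ᶜ, hy.isOpen_compl⟩ with hW₀
  haveI : IsIso (b ∣_ W₀) := by
    have h := Ideal.BlowUp.isIso_off_center hbl
    have e : (Scheme.IdealSheafData.vanishingIdeal ⟨{y}, hy⟩).support.compl = W₀ :=
      Opens.ext (congrArg compl (Flat55.ContractionUniversal.support_vanishingIdeal_point y hy))
    rwa [e] at h
  -- functions do not change
  have hfun : ∀ V : X'.Opens, Function.Bijective (b.app V) := by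
    refine H52.PushInv.bijective_app_of_affine b fun q O hq => ?_
    by_cases hqy : q = y
    · subst hqy
      obtain ⟨U, hU, hyU, hUO, hUiso⟩ := Flat55.ContractionUniversal.exists_good_nhd b q hy hdim hbl O hq
      refine ⟨U, hyU, hUO, ?_⟩
      have h1 := ConcreteCategory.bijective_of_isIso (b ∣_ U).appTop
      rw [morphismRestrict_appTop] at h1
      haveI : IsIso (b.app (U.ι ''ᵁ ⊤) ≫ X.presheaf.map (eqToHom (image_morphismRestrict_preimage b U ⊤)).op) := by
        rw [ConcreteCategory.isIso_iff_bijective]; exact h1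
      have h2 : IsIso (b.app (U.ι ''ᵁ ⊤)) := IsIso.of_isIso_comp_right _ (X.presheaf.map (eqToHom (image_morphismRestrict_preimage b U ⊤)).op)
      have h3 : U.ι ''ᵁ ⊤ = U := by simp
      rw [h3] at h2
      exact ConcreteCategory.bijective_of_isIso (b.app U)
    · exact ⟨O ⊓ W₀, ⟨hq, hqy⟩, inf_le_left,
        Flat55.ContractionPush.bijective_app_of_le b W₀ _ inf_le_right⟩
  refine ⟨fun L₁ L₂ h₁ h₂ ⟨i⟩ => ?_, fun L hL => ⟨?_, ?_⟩⟩
  · have hunit : ∀ {M : X'.Modules}, PicF.IsInvertible M →
        IsIso ((Scheme.Modules.pullbackPushforwardAdjunction b).unit.app M) := fun {M} hM => by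
      refine H52.PushInv.isIso_of_gens _ fun x => ?_
      obtain ⟨U, e, hx, he⟩ := TensorMod.Gen.isInvertible_iff.1 hM x
      exact ⟨U, e, hx, he, H52.PushInv.isGen_push b hfun (Ample.GenLocus.isGen_unitSec b he)⟩
    haveI := hunit h₁
    haveI := hunit h₂
    exact ⟨asIso ((Scheme.Modules.pullbackPushforwardAdjunction b).unit.app L₁) ≪≫
      (Scheme.Modules.pushforward b).mapIso i ≪≫
      (asIso ((Scheme.Modules.pullbackPushforwardAdjunction b).unit.app L₂)).symm⟩
  · rintro ⟨L', hL', ⟨i⟩⟩
    obtain ⟨-, k, hk, e, -⟩ := hE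
    haveI : Nonempty E := ⟨e.hom (genericPoint (CohB1.ProjSpace 1 k))⟩
    haveI : IsIntegral E := isIntegral_of_isOpenImmersion e.inv
    haveI : IsClosedImmersion (X'.fromSpecResidueField y) := isClosed_singleton_iff_isClosedImmersion.mp hy
    obtain ⟨t, ht⟩ := exists_factor (X'.fromSpecResidueField y) (ι ≫ b) fun w => by
      rw [Scheme.range_fromSpecResidueField]
      exact hr.le ⟨w, rfl⟩
    haveI : Subsingleton (Spec (X'.residueField y) : Scheme.{u}) :=
      inferInstanceAs (Subsingleton (PrimeSpectrum (X'.residueField y)))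
    haveI : Nonempty (Spec (X'.residueField y) : Scheme.{u}) :=
      inferInstanceAs (Nonempty (PrimeSpectrum (X'.residueField y)))
    obtain ⟨j⟩ := H3.PicCalc.isInvertible_subsingleton (PicLoc.isInvertible_pullback (X'.fromSpecResidueField y) hL')
    exact ⟨(Scheme.Modules.pullback ι).mapIso i.symm ≪≫ (Scheme.Modules.pullbackComp ι b).app L' ≪≫
      (Scheme.Modules.pullbackCongr ht.symm).app L' ≪≫
      (Scheme.Modules.pullbackComp t _).symm.app L' ≪≫ (Scheme.Modules.pullback t).mapIso j ≪≫
      PicLoc.pullbackStructureIso t⟩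
  rintro ⟨i⟩
  -- generators near every point of the base
  have hgen : ∀ q : X', ∃ (W : X'.Opens) (e : Γ(L, b ⁻¹ᵁ W)), q ∈ W ∧ IsGen L (b ⁻¹ᵁ W) e := by
    intro q
    by_cases hqy : q = y
    swap
    · have hex : ∃ x : X, b x = q := by
        obtain ⟨w, hw⟩ := (b ∣_ W₀).homeomorph.surjective ⟨q, hqy⟩
        refine ⟨(b ⁻¹ᵁ W₀).ι w, ?_⟩
        rw [← Scheme.Hom.comp_apply, ← morphismRestrict_ι, Scheme.Hom.comp_apply]
        exact congrArg Subtype.val hw
      obtain ⟨x, rfl⟩ := hex
      obtain ⟨U, e, hx, he⟩ := TensorMod.Gen.isInvertible_iff.1 hL x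
      let W : X'.Opens := W₀ ⊓ ⟨(b '' (U : Set X)ᶜ)ᶜ, (b.isClosedMap _ U.2.isClosed_compl).isOpen_compl⟩
      refine ⟨W, rs L (fun z hz => ?_) e, ⟨hqy, ?_⟩, he.res _⟩
      · by_contra h
        exact hz.2 ⟨z, h, rfl⟩
      · rintro ⟨z, hz, hzx⟩
        have hzW : z ∈ b ⁻¹ᵁ W₀ := by show b z ∈ W₀; rw [hzx]; exact hqy
        have h1 : (b ∣_ W₀) ⟨z, hzW⟩ = (b ∣_ W₀) ⟨x, hqy⟩ := by
          apply W₀.ι.isOpenEmbedding.injective
          have key : ∀ w, W₀.ι ((b ∣_ W₀) w) = b w.1 := fun w => congr($(morphismRestrict_ι b W₀) w)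
          exact (key ⟨z, hzW⟩).trans (hzx.trans (key ⟨x, hqy⟩).symm)
        have h2 : z = x := congrArg Subtype.val ((b ∣_ W₀).homeomorph.injective h1)
        exact hz (h2.symm ▸ hx)
    subst hqy
    -- the local blow-up
    set g := X'.fromSpecStalk q with hg
    haveI : Flat g := Unram.BaseChangeNhd.flat_fromSpecStalk q
    have hb' := Ideal.BlowUp.isBlowUp_flat_baseChange g hbl
    rw [Flat55.ContractionUniversal.comap_vanishingIdeal_stalk] at hb'
    set P := pullback.fst g b
    set Q := pullback.snd g b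
    set EW := BlowUp.exceptional P (Curv2.idealSheaf (X'.presheaf.stalk q) (IsLocalRing.maximalIdeal _)) with hEW
    obtain ⟨hcW, k', hk', e', htw⟩ : Models.IsExcCurve EW.subschemeι :=
      (@SurfFactor85.Exc.main (X'.presheaf.stalk q) _ _ _ _ hdim hb').2
    have hkerW : EW.subschemeι.ker = EW := Scheme.IdealSheafData.ker_subschemeι _
    have hEc : BlowUp.IsEffCartierIdeal EW := hkerW ▸ hcW
    rw [hkerW] at htw
    set cI := PicGrp.cls _ (ClSub.Cartier.isInvertible_idealMod hEc)
    obtain ⟨M, hM, hMc⟩ := PicGrp.exists_eq_cls cI⁻¹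
    have hMI : _root_.ClSub.IsInverseOf M (_root_.ClSub.idealMod EW) :=
      (PicGrp.cls_mul_cls_eq_one_iff hM (ClSub.Cartier.isInvertible_idealMod hEc)).1
        ((congrArg (· * cI) hMc.symm).trans (inv_mul_cancel cI))
    have hLQ : PicF.IsInvertible ((Scheme.Modules.pullback Q).obj L) := PicLoc.isInvertible_pullback Q hL
    obtain ⟨n, hn⟩ := (@Groth.Agent.S7324.result (X'.presheaf.stalk q) _ _ hdim _ P hb' M hMI).1 _ hLQ
    obtain ⟨hcE, k, hk, e, -⟩ := hE
    haveI : Nonempty E := ⟨e.hom (genericPoint (CohB1.ProjSpace 1 k))⟩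
    haveI : IsIntegral E := isIntegral_of_isOpenImmersion e.inv
    haveI : Nonempty EW.subscheme := ⟨e'.hom (genericPoint (CohB1.ProjSpace 1 k'))⟩
    haveI : IsIntegral EW.subscheme := isIntegral_of_isOpenImmersion e'.inv
    obtain ⟨t, ht⟩ := exists_factor ι (EW.subschemeι ≫ Q) fun w => by
      rw [← hF]
      show b ((EW.subschemeι ≫ Q) w) = q
      have h1 : EW.subschemeι w ∈ Set.range EW.subschemeι := ⟨w, rfl⟩
      rw [Scheme.IdealSheafData.range_subschemeι] at h1
      have h2 : P (EW.subschemeι w) = IsLocalRing.closedPoint _ := by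
        have hs : EW.support = (Curv2.idealSheaf (X'.presheaf.stalk q)
            (IsLocalRing.maximalIdeal _)).support.preimage P.continuous := Scheme.IdealSheafData.support_comap _ P
        have h3 := h1
        rw [hs] at h3
        have h4 : P (EW.subschemeι w) ∈ ((Curv2.idealSheaf (X'.presheaf.stalk q)
          (IsLocalRing.maximalIdeal _)).support : Set (Spec (X'.presheaf.stalk q))) := h3
        have h5 := (@Flat55.ContractionFibre.support_eq (X'.presheaf.stalk q) _ _).le h4
        exact h5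
      rw [Scheme.Hom.comp_apply, ← Scheme.Hom.comp_apply Q b, ← pullback.condition, Scheme.Hom.comp_apply, h2]
      exact Scheme.fromSpecStalk_closedPoint
    let q' : CohB1.ProjSpace 1 k' ⟶ pullback g b := e'.hom ≫ EW.subschemeι
    have hq' : PicGrp.pullHom q' (TensorMod.Pullback.pullMul q') (PicGrp.cls _ hLQ) = 1 := by
      rw [VertPic.cls_pullback, PicGrp.cls_eq_one_iff]
      exact ⟨(Scheme.Modules.pullbackComp q' Q).app L ≪≫
        (Scheme.Modules.pullbackCongr (show q' ≫ Q = (e'.hom ≫ t) ≫ ι by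
          show (e'.hom ≫ EW.subschemeι) ≫ Q = _
          rw [Category.assoc, Category.assoc, ht])).app L ≪≫
        (Scheme.Modules.pullbackComp (e'.hom ≫ t) ι).symm.app L ≪≫
        (Scheme.Modules.pullback (e'.hom ≫ t)).mapIso i ≪≫ PicLoc.pullbackStructureIso _⟩
    have hn0 : n = 0 := by
      by_contra hne
      obtain ⟨m, rfl⟩ : ∃ m, n = m + 1 := ⟨n - 1, by omega⟩
      have h1 : PicGrp.pullHom q' (TensorMod.Pullback.pullMul q') cI ^ (m + 1) = 1 := by
        rcases hn with ⟨⟨φ⟩⟩ | ⟨⟨φ⟩⟩
        · rw [VertPic.cls_eq_of_iso hLQ (TensorMod.Invertible.isInvertible_tensorPow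
            (ClSub.Cartier.isInvertible_idealMod hEc) _) φ, VertPic.cls_pow (ClSub.Cartier.isInvertible_idealMod hEc), map_pow] at hq'
          exact hq'
        · rw [VertPic.cls_eq_of_iso hLQ (TensorMod.Invertible.isInvertible_tensorPow hM _) φ,
            VertPic.cls_pow hM, ← hMc, map_pow, map_inv, inv_pow, inv_eq_one] at hq'
          exact hq'
      rw [← map_pow, ← VertPic.cls_pow_ideal hEc] at h1
      exact Groth.Agent.S7886.not_trivial q' hEc htw m
        ((PicGrp.cls_eq_one_iff _).1 ((VertPic.cls_pullback q' _).symm.trans h1))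
    subst hn0
    obtain ⟨φ⟩ : Nonempty ((Scheme.Modules.pullback Q).obj L ≅ Coh.structureModule _) := by
      rcases hn with h | h <;> exact h
    obtain ⟨e₀, he₀⟩ := H52.PushInv.exists_gen_of_iso_unit φ
    obtain ⟨V, hV, hqV, -⟩ := exists_isAffineOpen_mem_and_subset (X := X') (x := q) (U := ⊤) trivial
    have hle : (⊤ : (Spec (X'.presheaf.stalk q)).Opens) ≤ g ⁻¹ᵁ V := fun t _ =>
      ((Scheme.range_fromSpecStalk (x := q)).le ⟨t, rfl⟩ : g t ∈ {z | z ⤳ q}).mem_open V.isOpen hqV
    obtain ⟨W, e₁, hW, he₁⟩ := H52.GenDescent.exists_gen (IsPullback.of_hasPullback g b).flip hL hV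
      (isAffineOpen_top _) hle (hfun V) (he₀.res (le_top : P ⁻¹ᵁ ⊤ ≤ ⊤)) (IsLocalRing.closedPoint _) trivial
    exact ⟨W, e₁, by rwa [hg, Scheme.fromSpecStalk_closedPoint] at hW, he₁⟩
  haveI := H52.PushInv.isIso_counit b hfun hgen
  exact ⟨_, H52.PushInv.isInvertible_push b hfun hgen,
    ⟨asIso ((Scheme.Modules.pullbackPushforwardAdjunction b).counit.app L)⟩⟩

end Groth.Agent.S7325
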