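import Groth.Statements.S7326
import Groth.Agent.Lib.ModelFibre.Inter

set_option autoImplicit false
universe u
open CategoryTheory CategoryTheory.Limits AlgebraicGeometry
open Models

namespace Groth.Agent.S7326

/-- Let R be a discrete valuation ring with fraction field K, C a smooth proper curve over K with H^0(C,
O_C) = K, X a regular proper model of C, Γ_1, …, Γ_n the irreducible components of the closed fibre
with multiplicities m_i, d = gcd(m_i), and D = Σ (m_i/d) Γ_i the effective Cartier divisor with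
ideal sheaf I_D = Π I(Γ_i)^{m_i/d}. Then O_X(D) (any L with L ⊗ I_D ≅ O_X) has order dividing d in
Pic(X), i.e. L^{⊗ d} ≅ O_X, and the conormal sheaf I_D|_D, an invertible O_D-module, has order
dividing d in Pic(D). -/
theorem result (R : Type u) [CommRing R] [IsDomain R] [IsDiscreteValuationRing R]
    (C X : Scheme.{u}) (f : C ⟶ Spec (CommRingCat.of (FractionRing R))) (p : X ⟶ Spec (CommRingCat.of R))
    (hC : Curve.IsSmoothProperCurve (FractionRing R) C f) (hH0 : IsIso f.appTop)
    (hX : Models.IsRegularProperModel R X p C f)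
    {n : ℕ} (Γ : Fin n → ArSurf.VertComp R (Over.mk p)) (hΓ : Models.IsComponentList R (Over.mk p) Γ)
    (L : X.Modules)
    (hL : ClSub.IsInverseOf L (ClSub.idealMod (∏ i, (Γ i).ι.ker ^ (Models.mult R (Over.mk p) (Γ i) / Models.multGcd R (Over.mk p) Γ)))) :
    Nonempty (CohB1.tensorPow L (Models.multGcd R (Over.mk p) Γ) ≅ Coh.structureModule X) ∧
      Nonempty (CohB1.tensorPow ((Scheme.Modules.pullback
          (∏ i, (Γ i).ι.ker ^ (Models.mult R (Over.mk p) (Γ i) / Models.multGcd R (Over.mk p) Γ)).subschemeι).obj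
          (ClSub.idealMod (∏ i, (Γ i).ι.ker ^ (Models.mult R (Over.mk p) (Γ i) / Models.multGcd R (Over.mk p) Γ))))
          (Models.multGcd R (Over.mk p) Γ) ≅
        Coh.structureModule (∏ i, (Γ i).ι.ker ^ (Models.mult R (Over.mk p) (Γ i) / Models.multGcd R (Over.mk p) Γ)).subscheme) := by
  classical
  have hS := Groth.Agent.Lib.ModelFibre.Inter.IsSurf.of_model hC hX
  haveI : Flat p := hS.flat
  obtain ⟨π, hπ⟩ := IsDiscreteValuationRing.exists_irreducible R
  set d := Models.multGcd R (Over.mk p) Γ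
  set D : X.IdealSheafData := ∏ i, (Γ i).ι.ker ^ (Models.mult R (Over.mk p) (Γ i) / d)
  have hker : ∀ i, BlowUp.IsEffCartierIdeal (X := X) (Γ i).ι.ker := fun i =>
    Groth.Agent.Lib.ModelFibre.Inter.isEffCartier hS (Γ i)
  have hD : BlowUp.IsEffCartierIdeal D :=
    Finset.prod_induction _ (fun J => BlowUp.IsEffCartierIdeal J)
      (fun _ _ h h' => Groth.Agent.Lib.Ideal.EffCartier.isEffCartier_mul h h')
      Groth.Agent.Lib.Ideal.EffCartier.isEffCartier_top
      (fun i _ => Groth.Agent.Lib.Ideal.EffCartier.isEffCartier_pow (hker i) _)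
  have htriv : ∀ (I : X.IdealSheafData) (s : Γ(X, ⊤)),
      (∀ z, IsSMulRegular (X.presheaf.stalk z) (X.presheaf.germ ⊤ z trivial s)) →
      (∀ z, Groth.Agent.Lib.Ideal.Prime.stalkIdeal I z = Ideal.span {X.presheaf.germ ⊤ z trivial s}) →
      Nonempty (ClSub.idealMod I ≅ Coh.structureModule X) := fun I s hs hI => by
    obtain ⟨e⟩ := Groth.Agent.Lib.ModelFibre.SmoothModel.pullback_idealMod_trivial (𝟙 X) I s hs ⊤
      (fun _ => trivial) (fun z _ => hI z)
    exact ⟨((Scheme.Modules.pullbackId X).app _).symm ≪≫ e⟩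
  have hpow : ∀ m, Nonempty (CohB1.tensorPow (ClSub.idealMod D) m ≅ ClSub.idealMod (D ^ m)) := by
    intro m
    induction m with
    | zero =>
      obtain ⟨e⟩ := htriv (⊤ : X.IdealSheafData) 1 (fun z => by simpa only [map_one] using IsSMulRegular.one _)
        fun z => by
          rw [map_one, Ideal.span_singleton_one, Groth.Agent.Lib.ModelFibre.StalkIdeal.stalkIdeal_top]
      show Nonempty (Coh.structureModule X ≅ ClSub.idealMod (D ^ 0))
      rw [pow_zero]
      exact ⟨e.symm⟩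
    | succ m ih =>
      obtain ⟨e⟩ := ih
      obtain ⟨e'⟩ := Groth.Agent.Lib.SurfInt.Mul.nonempty_idealMod_mul
        (Groth.Agent.Lib.Ideal.EffCartier.isEffCartier_pow hD m) D
      rw [pow_succ]
      exact ⟨Groth.Agent.Lib.TensorMod.Basic.tensorIso e (Iso.refl _) ≪≫ e'⟩
  have hdvd : ∀ i, d ∣ Models.mult R (Over.mk p) (Γ i) := fun i => Finset.gcd_dvd (Finset.mem_univ i)
  have hst : ∀ z, Groth.Agent.Lib.Ideal.Prime.stalkIdeal (D ^ d) z =
      Ideal.span {Groth.Agent.Lib.ModelFibre.Stalk.baseHom p z π} := fun z => by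
    have h := (Groth.Agent.Lib.ModelFibre.Components.stalk_structure p hS.reg hπ Γ
      (fun i => hΓ.2 ▸ ⟨i, rfl⟩)).2 hΓ.1
      (fun S hS' => (hΓ.2.symm ▸ hS' :
        S ∈ Set.range fun i => Set.range ((Γ i).ι.base : (Γ i).curve.left → X))) z
    rw [h, Groth.Agent.Lib.ModelFibre.StalkIdeal.stalkIdeal_pow,
      Groth.Agent.Lib.ModelFibre.StalkIdeal.stalkIdeal_prod, ← Finset.prod_pow]
    refine Finset.prod_congr rfl fun i _ => ?_
    rw [Groth.Agent.Lib.ModelFibre.StalkIdeal.stalkIdeal_pow, ← pow_mul, Nat.div_mul_cancel (hdvd i)]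
  obtain ⟨eT⟩ := htriv (D ^ d) (Groth.Agent.Lib.ModelFibre.RegularExt.glob p π)
    (fun z a b hab => Groth.Agent.Lib.ModelFibre.Chart.isSMulRegular_baseHom p z
      (IsRegular.of_ne_zero hπ.ne_zero) hab) hst
  obtain ⟨eD⟩ := hpow d
  refine ⟨?_, ?_⟩
  · have hinv : ∀ m, Nonempty (CohB1.tensorMod (CohB1.tensorPow L m) (CohB1.tensorPow (ClSub.idealMod D) m) ≅
        Coh.structureModule X) := fun m => by
      induction m with
      | zero => exact ⟨Groth.Agent.Lib.TensorMod.Basic.leftUnit _⟩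
      | succ m ih =>
        obtain ⟨e⟩ := ih
        obtain ⟨e₀⟩ := hL
        open Groth.Agent.Lib.TensorMod.Basic in
        exact ⟨assoc _ _ _ ≪≫ tensorIso (Iso.refl _) ((assoc _ _ _).symm ≪≫
          tensorIso (comm _ _) (Iso.refl _) ≪≫ assoc _ _ _ ≪≫ tensorIso (Iso.refl _) e₀ ≪≫ rightUnit _) ≪≫ e⟩
    obtain ⟨e⟩ := hinv d
    open Groth.Agent.Lib.TensorMod.Basic in
    exact ⟨(rightUnit _).symm ≪≫ tensorIso (Iso.refl _) (eT.symm ≪≫ eD.symm) ≪≫ e⟩
  · have hpb : ∀ m, Nonempty ((Scheme.Modules.pullback D.subschemeι).obj (CohB1.tensorPow (ClSub.idealMod D) m) ≅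
        CohB1.tensorPow ((Scheme.Modules.pullback D.subschemeι).obj (ClSub.idealMod D)) m) := fun m => by
      induction m with
      | zero => exact ⟨PicLoc.pullbackStructureIso _⟩
      | succ m ih =>
        obtain ⟨e⟩ := ih
        exact ⟨Groth.Agent.Lib.TensorMod.Pullback.pullbackTensorIso _ _ _ ≪≫
          Groth.Agent.Lib.TensorMod.Basic.tensorIso e (Iso.refl _)⟩
    obtain ⟨e⟩ := hpb d
    exact ⟨e.symm ≪≫ (Scheme.Modules.pullback D.subschemeι).mapIso (eD ≪≫ eT) ≪≫
      PicLoc.pullbackStructureIso _⟩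

end Groth.Agent.S7326
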