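import Groth.Statements.S7327
import Groth.Agent.Lib.Flat55.AnalyticFiniteNormalization

set_option autoImplicit false
universe u
open CategoryTheory CategoryTheory.Limits AlgebraicGeometry
open Resolve

namespace Groth.Agent.S7327

/-- Let (A, m) be a Noetherian local ring with completion A^, f : X → Spec A a morphism locally of
finite type with X integral, and Y = X ×_{Spec A} Spec(A^). If the complement of the closed fibre in
Y is normal (the local rings of Y at points not over the closed point of Spec(A^) are integrally
closed domains), then the normalization morphism of X is finite. (The published statement also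
identifies the base change of the normalization of X to A^ with the normalization of Y; this row
does not restate that part. The quasi-compactness and quasi-separatedness binders on Spec K(X) → X
always hold.) -/
theorem result (A : Type u) [CommRing A] [IsLocalRing A] [IsNoetherianRing A]
    (X : Scheme.{u}) [IsIntegral X] (f : X ⟶ Spec (CommRingCat.of A)) [LocallyOfFiniteType f]
    [QuasiCompact (X.fromSpecStalk (genericPoint X))] [QuasiSeparated (X.fromSpecStalk (genericPoint X))]
    (hY : ∀ y : ↥(Curv2.bcCpl A f), (Curv2.bcCplSnd A f).base y ≠ IsLocalRing.closedPoint (Curv2.cpl A) →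
      IsDomain ((Curv2.bcCpl A f).presheaf.stalk y) ∧ IsIntegrallyClosed ((Curv2.bcCpl A f).presheaf.stalk y)) :
    IsFinite (Curv2.normalizationι X) := by
  refine Groth.Agent.Lib.Flat55.AnalyticFiniteNormalization.isFinite_normalizationι f fun V _ hV => ?_
  let : Algebra A Γ(X, V) := (Groth.Agent.Lib.Flat55.CompletionFibreRegular.sec f V).hom.toAlgebra
  by_cases hex : ∃ a ∈ IsLocalRing.maximalIdeal A, algebraMap A Γ(X, V) a ≠ 0
  · obtain ⟨a, ha, ha0⟩ := hex
    refine Groth.Agent.Lib.Flat55.AnalyticFiniteNormalization.isReduced_tensor f V hV _ ha0 fun y hy => ?_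
    have hyV := X.basicOpen_le _ hy
    rw [Scheme.mem_basicOpen _ _ _ hyV] at hy
    have hnot := (Groth.Agent.Lib.Flat55.CompletionFibreRegular.isUnit_germ_sec_iff f _ hyV a).1 hy
    have := (hY y fun hcl => hnot ?_).1
    · infer_instance
    · rw [← Scheme.Hom.comp_apply, Limits.pullback.condition, Scheme.Hom.comp_apply]
      erw [hcl]
      exact map_nonunit (algebraMap A (Curv2.cpl A)) a ha
  · push Not at hex
    let Ah := AdicCompletion (IsLocalRing.maximalIdeal A) A
    have : Module.FaithfullyFlat A Ah := Module.FaithfullyFlat.of_flat_of_isLocalHom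
    let φ : Γ(X, V) →+* TensorProduct A Γ(X, V) Ah := Algebra.TensorProduct.includeLeftRingHom
    have hinj : Function.Injective φ := fun a b hab =>
      Module.FaithfullyFlat.tensorProduct_mk_injective (A := A) (B := Ah) Γ(X, V)
        (congrArg (TensorProduct.comm A Γ(X, V) Ah) hab)
    have hsurj : Function.Surjective φ := by
      intro z
      induction z using TensorProduct.induction_on with
      | zero => exact ⟨0, map_zero _⟩
      | add u v hu hv =>
        obtain ⟨p, rfl⟩ := hu
        obtain ⟨q, rfl⟩ := hv
        exact ⟨p + q, map_add _ _ _⟩
      | tmul b r =>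
        obtain ⟨r₁, hr₁⟩ := (AdicCompletion.residueField_map_bijective_of_fg
          (IsNoetherian.noetherian (IsLocalRing.maximalIdeal A))).2 (IsLocalRing.residue _ r)
        obtain ⟨r₀, rfl⟩ := IsLocalRing.residue_surjective r₁
        have hr : r - algebraMap A Ah r₀ ∈ (IsLocalRing.maximalIdeal A).map (algebraMap A Ah) := by
          rw [← AdicCompletion.maximalIdeal_eq_map, ← IsLocalRing.residue_eq_zero_iff, map_sub, ← hr₁,
            IsLocalRing.ResidueField.map_residue, sub_self]
        have key : ∀ w ∈ (IsLocalRing.maximalIdeal A).map (algebraMap A Ah), ∀ b' : Γ(X, V),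
            TensorProduct.tmul A b' w = 0 := by
          intro w hw
          induction hw using Submodule.span_induction with
          | mem x hx =>
            obtain ⟨m, hm, rfl⟩ := hx
            intro b'
            rw [Algebra.algebraMap_eq_smul_one, TensorProduct.tmul_smul, TensorProduct.smul_tmul',
              Algebra.smul_def, hex m hm, zero_mul, TensorProduct.zero_tmul]
          | zero => intro b'; rw [TensorProduct.tmul_zero]
          | add x y _ _ hx hy => intro b'; rw [TensorProduct.tmul_add, hx, hy, add_zero]
          | smul t x _ hx =>
            intro b'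
            have h1 : TensorProduct.tmul A b' (t • x) =
                (TensorProduct.tmul A (1 : Γ(X, V)) t) * TensorProduct.tmul A b' x := by
              rw [Algebra.TensorProduct.tmul_mul_tmul, one_mul, smul_eq_mul]
            rw [h1, hx, mul_zero]
        refine ⟨algebraMap A Γ(X, V) r₀ * b, ?_⟩
        show TensorProduct.tmul A (algebraMap A Γ(X, V) r₀ * b) (1 : Ah) = _
        rw [← sub_add_cancel r (algebraMap A Ah r₀), TensorProduct.tmul_add, key _ hr b, zero_add,
          Algebra.algebraMap_eq_smul_one (A := Ah), TensorProduct.tmul_smul, TensorProduct.smul_tmul',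
          Algebra.smul_def]
    exact isReduced_of_injective (RingEquiv.ofBijective φ ⟨hinj, hsurj⟩).symm
      (RingEquiv.ofBijective φ ⟨hinj, hsurj⟩).symm.injective

end Groth.Agent.S7327
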