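import Groth.Statements.S7331
import Groth.Agent.Lib.AnalyticNormal74.Basic
import Groth.Agent.Lib.CurveCompl53.Basic
import Groth.Agent.H21.CplCompare
import Groth.Agent.S2351
import Groth.Agent.S7327

set_option autoImplicit false
set_option linter.style.haveILetI false
set_option backward.isDefEq.respectTransparency.types false
universe u
open CategoryTheory CategoryTheory.Limits AlgebraicGeometry
open Models

namespace Groth.Agent.S7331

open Groth.Agent.Lib IsLocalRing TensorProduct

/-- Analytic normality only depends on the isomorphism class. -/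
theorem normal_cpl_congr {L L' : Type u} [CommRing L] [IsLocalRing L] [CommRing L'] [IsLocalRing L']
    (e : L ≃+* L') (h : IsDomain (AdicCompletion (maximalIdeal L) L) ∧
      IsIntegrallyClosed (AdicCompletion (maximalIdeal L) L)) :
    IsDomain (AdicCompletion (maximalIdeal L') L') ∧ IsIntegrallyClosed (AdicCompletion (maximalIdeal L') L') := by
  letI : Algebra L L' := e.toRingHom.toAlgebra
  have hm : (maximalIdeal L).map (algebraMap L L') = maximalIdeal L' :=
    IsLocalRing.eq_maximalIdeal (Ideal.map_isMaximal_of_equiv e)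
  obtain ⟨c, -⟩ := H21.CplCompare.exists_cplEquiv L L' hm (fun n r hr => by
      rw [← hm, ← Ideal.map_pow] at hr
      exact (Ideal.mem_map_iff_of_surjective _ e.surjective).mp hr |>.elim fun a ha => e.injective ha.2 ▸ ha.1)
    fun n s => ⟨e.symm s, by
      rw [show algebraMap L L' (e.symm s) = s from e.apply_symm_apply s, sub_self]; exact zero_mem _⟩
  exact Excellent.NormalRing.isoInvariant_domainIntClosed _ _ c h

variable {R : Type u} [CommRing R] [IsDomain R] [IsDiscreteValuationRing R]

/-- The completed base change of a model of a geometrically normal variety has normal generic fibre. -/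
theorem normal_bcCpl {V X : Scheme.{u}} (f : V ⟶ Spec (CommRingCat.of (FractionRing R)))
    (hgn : ∀ (K' : Type u) [Field K'] [Algebra (FractionRing R) K'],
      Pi1.IsNormalScheme (pullback f (Spec.map (CommRingCat.ofHom (algebraMap (FractionRing R) K')))))
    (p : X ⟶ Spec (CommRingCat.of R)) {g : V ⟶ X}
    (hg : IsPullback g f p (Spec.map (CommRingCat.ofHom (algebraMap R (FractionRing R)))))
    (y : ↥(Curv2.bcCpl R p)) (hy : (Curv2.bcCplSnd R p).base y ≠ closedPoint (Curv2.cpl R)) :
    IsDomain ((Curv2.bcCpl R p).presheaf.stalk y) ∧ IsIntegrallyClosed ((Curv2.bcCpl R p).presheaf.stalk y) := by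
  obtain ⟨_, _⟩ := Cohen.DedekindGRing.exists_dvr R
  let C := Curv2.cpl R
  let K' := FractionRing C
  haveI : Module.FaithfullyFlat R C := Module.FaithfullyFlat.of_flat_of_isLocalHom
  have hinj : Function.Injective (algebraMap R K') := by
    rw [IsScalarTower.algebraMap_eq R C K']
    exact (IsFractionRing.injective C K').comp (FaithfulSMul.algebraMap_injective R C)
  letI : Algebra (FractionRing R) K' := (IsFractionRing.lift hinj).toAlgebra
  let jC := Spec.map (CommRingCat.ofHom (algebraMap C K'))
  obtain ⟨ϖ, hϖ⟩ := IsDiscreteValuationRing.exists_irreducible C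
  haveI := ModelFibre.SmoothGeneric.isLocalization_away hϖ
  haveI : IsOpenImmersion jC := IsOpenImmersion.of_isLocalization ϖ
  have hw : jC ≫ Spec.map (CommRingCat.ofHom (algebraMap R C)) =
      Spec.map (CommRingCat.ofHom (algebraMap (FractionRing R) K')) ≫
        Spec.map (CommRingCat.ofHom (algebraMap R (FractionRing R))) := by
    rw [← Spec.map_comp, ← Spec.map_comp]
    congr 1
    ext r
    show algebraMap C K' (algebraMap R C r) = IsFractionRing.lift hinj (algebraMap R (FractionRing R) r)
    rw [IsFractionRing.lift_algebraMap, ← IsScalarTower.algebraMap_apply R C K']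
  let W := pullback f (Spec.map (CommRingCat.ofHom (algebraMap (FractionRing R) K')))
  let w : W ⟶ Curv2.bcCpl R p := pullback.lift (pullback.fst _ _ ≫ g) (pullback.snd _ _ ≫ jC) (by
    rw [Category.assoc, hg.w, Category.assoc, hw, pullback.condition_assoc])
  have hsq : IsPullback w (pullback.snd _ _) (Curv2.bcCplSnd R p) jC := by
    refine IsPullback.of_right ?_ ?_ (IsPullback.of_hasPullback p
      (Spec.map (CommRingCat.ofHom (algebraMap R C))))
    · rw [show w ≫ pullback.fst p (Spec.map (CommRingCat.ofHom (algebraMap R C))) = pullback.fst _ _ ≫ g from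
        pullback.lift_fst _ _ _, hw]
      exact (IsPullback.of_hasPullback f _).paste_horiz hg
    · exact pullback.lift_snd _ _ _
  haveI : IsOpenImmersion w := MorphismProperty.of_isPullback hsq.flip inferInstance
  have hgen : Curv2.bcCplSnd R p y = jC (IsLocalRing.closedPoint K') := by
    refine PrimeSpectrum.ext ?_
    have h0 : ((Curv2.bcCplSnd R p y : Spec (CommRingCat.of C))).asIdeal = ⊥ := by
      by_contra hne
      exact hy (PrimeSpectrum.ext (IsLocalRing.eq_maximalIdeal
        (((Curv2.bcCplSnd R p y : Spec (CommRingCat.of C))).isPrime.isMaximal hne)))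
    rw [h0]
    show ⊥ = (maximalIdeal K').comap (algebraMap C K')
    rw [maximalIdeal_eq_bot, ← RingHom.ker_eq_comap_bot,
      (RingHom.injective_iff_ker_eq_bot _).mp (IsFractionRing.injective C K')]
  obtain ⟨z, hz, -⟩ := Scheme.Pullback.exists_preimage_pullback y _ hgen
  obtain rfl : w (hsq.isoPullback.inv z) = y := by
    rw [← Scheme.Hom.comp_apply, hsq.isoPullback_inv_fst, hz]
  exact Excellent.NormalRing.isoInvariant_domainIntClosed _ _
    (asIso (w.stalkMap (hsq.isoPullback.inv z))).symm.commRingCatIsoToRingEquiv (hgn K' _)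

/-- Let R be a discrete valuation ring with fraction field K, f : V → Spec K a geometrically normal
variety (separated, of finite type, integral, and V_{K'} normal for every field extension K'/K), and
X an (integral) model of V over R. Then the normalization morphism X' → X is finite, and for every
point x of X' the completion of O_{X',x} is a normal domain. (The published statement also
identifies the base change of X' to the completion of R with the normalization of the base change of
X; this row does not restate that part. The quasi-compactness and quasi-separatedness binders on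
Spec K(X) → X always hold.) -/
theorem result (R : Type u) [CommRing R] [IsDomain R] [IsDiscreteValuationRing R]
    (V X : Scheme.{u}) (f : V ⟶ Spec (CommRingCat.of (FractionRing R))) (p : X ⟶ Spec (CommRingCat.of R))
    [IsIntegral V] [IsSeparated f] [LocallyOfFiniteType f] [QuasiCompact f]
    (hgn : ∀ (K' : Type u) [Field K'] [Algebra (FractionRing R) K'],
      Pi1.IsNormalScheme (pullback f (Spec.map (CommRingCat.ofHom (algebraMap (FractionRing R) K')))))
    (hX : Models.IsModel R X p V f) [IsIntegral X]
    [QuasiCompact (X.fromSpecStalk (genericPoint X))] [QuasiSeparated (X.fromSpecStalk (genericPoint X))] :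
    IsFinite (Curv2.normalizationι X) ∧
      ∀ x : ↥(Curv2.normalization X), IsDomain (Curv2.cpl ((Curv2.normalization X).presheaf.stalk x)) ∧
        IsIntegrallyClosed (Curv2.cpl ((Curv2.normalization X).presheaf.stalk x)) := by
  obtain ⟨hflat, hlft, hqc, g, hg⟩ := hX
  haveI := hlft
  have hfin : IsFinite (Curv2.normalizationι X) :=
    S7327.result R X p fun y hy => normal_bcCpl f hgn p hg y hy
  refine ⟨hfin, fun x => ?_⟩
  obtain ⟨π, hπ⟩ := IsDiscreteValuationRing.exists_irreducible R
  -- the generic fibre of the normalization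
  haveI := ModelFibre.SmoothGeneric.isOpenImmersion_gK hg
  have hVn : Pi1.IsNormalScheme V := fun v => by
    haveI : IsIso (Spec.map (CommRingCat.ofHom (algebraMap (FractionRing R) (FractionRing R)))) := by
      rw [show algebraMap (FractionRing R) (FractionRing R) = RingHom.id _ from rfl, CommRingCat.ofHom_id]
      infer_instance
    let c := pullback.fst f (Spec.map (CommRingCat.ofHom (algebraMap (FractionRing R) (FractionRing R))))
    obtain ⟨z, rfl⟩ : ∃ z, c z = v := ⟨(inv c) v, by rw [← Scheme.Hom.comp_apply, IsIso.inv_hom_id]; rfl⟩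
    exact Excellent.NormalRing.isoInvariant_domainIntClosed _ _
      (asIso (c.stalkMap z)).symm.commRingCatIsoToRingEquiv (hgn (FractionRing R) z)
  let U := g.opensRange
  haveI hiso : IsIso (Curv2.normalizationι X ∣_ U) :=
    CurveCompl53.Basic.isIso_normalizationι_restrict X U (by
      rintro _ ⟨v, rfl⟩
      exact (Excellent.NormalRing.isoInvariant_domainIntClosed _ _
        (asIso (g.stalkMap v)).symm.commRingCatIsoToRingEquiv (hVn v)).2)
  let g' : V ⟶ Curv2.normalization X :=
    g.isoOpensRange.hom ≫ inv (Curv2.normalizationι X ∣_ U) ≫ ((Curv2.normalizationι X) ⁻¹ᵁ U).ι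
  have hsq : IsPullback g' (𝟙 V) (Curv2.normalizationι X) g := by
    refine (isPullback_morphismRestrict (Curv2.normalizationι X) U).flip.of_iso
      (asIso (Curv2.normalizationι X ∣_ U) ≪≫ g.isoOpensRange.symm) (Iso.refl _) g.isoOpensRange.symm
      (Iso.refl _) ?_ ?_ ?_ ?_
    all_goals simp [g', U, Scheme.Hom.isoOpensRange_inv_comp]
  have hg' : IsPullback g' f (Curv2.normalizationι X ≫ p)
      (Spec.map (CommRingCat.ofHom (algebraMap R (FractionRing R)))) := by
    simpa using hsq.paste_vert hg
  obtain ⟨hint, hnor, -⟩ := S2351.result X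
  let X' := Curv2.normalization X
  let p' := Curv2.normalizationι X ≫ p
  -- an affine chart
  let i := X'.affineOpenCover.idx x
  let B : Type u := X'.affineOpenCover.X i
  let j : Spec (CommRingCat.of B) ⟶ X' := X'.affineOpenCover.f i
  haveI : IsOpenImmersion j := inferInstanceAs (IsOpenImmersion (X'.affineOpenCover.f i))
  obtain ⟨(P : PrimeSpectrum B), hP⟩ : x ∈ Set.range j.base := X'.affineOpenCover.covers x
  letI : Algebra R B := (Spec.preimage (j ≫ p')).hom.toAlgebra
  have hψ : Spec.map (CommRingCat.ofHom (algebraMap R B)) = j ≫ p' := Spec.map_preimage (j ≫ p')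
  haveI : Algebra.FiniteType R B := by
    have : LocallyOfFiniteType (Spec.map (CommRingCat.ofHom (algebraMap R B))) := by
      rw [hψ]; infer_instance
    exact (HasRingHomProperty.Spec_iff (P := @LocallyOfFiniteType)).mp this
  haveI : Nonempty (Spec (CommRingCat.of B)) := ⟨P⟩
  haveI : IsIntegral (Spec (CommRingCat.of B)) := isIntegral_of_isOpenImmersion j
  haveI : IsDomain B := (affine_isIntegral_iff (CommRingCat.of B)).mp inferInstance
  haveI : IsIntegrallyClosed B := IsIntegrallyClosed.of_localization_maximal fun M _ hM =>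
    (Excellent.NormalRing.isoInvariant_domainIntClosed _ _ (S1597.stalkEquiv j ⟨M, hM.isPrime⟩)
      (hnor _)).2
  have hπB : algebraMap R B π ≠ 0 := fun h0 => by
    haveI := ModelFibre.SmoothGeneric.isOpenImmersion_gK hg'
    have h1 : g' (genericPoint V) = j (⊥ : PrimeSpectrum B) := by
      rw [genericPoint_eq_of_isOpenImmersion, ← genericPoint_eq_of_isOpenImmersion j]
      exact congrArg j (genericPoint_eq_bot_of_affine (CommRingCat.of B))
    have h2 : p' (g' (genericPoint V)) =
        (Spec.map (CommRingCat.ofHom (algebraMap R B))) (⊥ : PrimeSpectrum B) := by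
      rw [hψ, h1]; rfl
    rw [← Scheme.Hom.comp_apply, hg'.w, Scheme.Hom.comp_apply] at h2
    have h3 : algebraMap R (FractionRing R) π ∈ (f (genericPoint V)).asIdeal :=
      (congrArg PrimeSpectrum.asIdeal h2).ge (show algebraMap R B π ∈ (⊥ : Ideal B) from h0)
    exact (f (genericPoint V)).isPrime.ne_top (Ideal.eq_top_of_isUnit_mem _ h3
      (IsUnit.mk0 _ fun h => hπ.ne_zero (IsFractionRing.injective R (FractionRing R) (h.trans (map_zero _).symm))))
  have hgen : ∀ (Q : Ideal (B ⊗[R] Curv2.cpl R)) [Q.IsPrime], algebraMap R _ π ∉ Q →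
      IsDomain (Localization.AtPrime Q) ∧ IsIntegrallyClosed (Localization.AtPrime Q) := by
    intro Q _ hQ
    let c := Spec.map (CommRingCat.ofHom (algebraMap R (Curv2.cpl R)))
    let e : Spec (CommRingCat.of (B ⊗[R] Curv2.cpl R)) ≅ pullback j (pullback.fst p' c) :=
      (pullbackSpecIso R B (Curv2.cpl R)).symm ≪≫
        pullback.congrHom hψ rfl ≪≫ (pullbackRightPullbackFstIso p' c j).symm
    let j' : Spec (CommRingCat.of (B ⊗[R] Curv2.cpl R)) ⟶ Curv2.bcCpl R p' :=
      e.hom ≫ pullback.snd j (pullback.fst p' c)
    haveI : IsOpenImmersion j' := inferInstanceAs (IsOpenImmersion (e.hom ≫ pullback.snd j (pullback.fst p' c)))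
    have hsnd : j' ≫ Curv2.bcCplSnd R p' =
        Spec.map (CommRingCat.ofHom (Algebra.TensorProduct.includeRight :
          Curv2.cpl R →ₐ[R] B ⊗[R] Curv2.cpl R).toRingHom) := by
      simp only [j', e, Curv2.bcCplSnd, Iso.trans_hom, Iso.symm_hom, Category.assoc, c]
      rw [pullbackRightPullbackFstIso_inv_snd_snd, pullback.congrHom_hom, pullback.lift_snd,
        Category.comp_id, pullbackSpecIso_inv_snd]
      rfl
    refine Excellent.NormalRing.isoInvariant_domainIntClosed _ _ (S1597.stalkEquiv j' ⟨Q, inferInstance⟩)
      (normal_bcCpl f hgn p' hg' _ fun hcl => hQ ?_)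
    rw [← Scheme.Hom.comp_apply, hsnd] at hcl
    have h3 : algebraMap R (Curv2.cpl R) π ∈ maximalIdeal (Curv2.cpl R) :=
      map_nonunit (algebraMap R (Curv2.cpl R)) π hπ.not_isUnit
    have h4 := (congrArg PrimeSpectrum.asIdeal hcl).ge h3
    exact (AlgHom.commutes (Algebra.TensorProduct.includeRight : Curv2.cpl R →ₐ[R] B ⊗[R] Curv2.cpl R) π) ▸ h4
  rw [← hP]
  exact normal_cpl_congr (S1597.stalkEquiv j P).symm
    (AnalyticNormal74.Basic.isNormal_cpl_localization hπ hπB hgen P.asIdeal)

end Groth.Agent.S7331
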