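import Groth.Statements.S7336
import Groth.Agent.H26.ExcFn.Main


set_option autoImplicit false
set_option maxHeartbeats 1000000
set_option linter.all false
universe u
open CategoryTheory CategoryTheory.Limits AlgebraicGeometry
open Resolve

namespace Groth.Agent.S7336

/-- Let (A, m) be a local Noetherian normal domain of dimension two and f : X → Spec A a proper morphism
from an integral scheme which is an isomorphism over some nonempty open and is not an isomorphism
(so that every irreducible component of the closed fibre is a curve). Then there is a nonzero a ∈ m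
such that for every irreducible component C of the closed fibre, with generic point ξ, there are a
closed point x ∈ C lying on no other component and a factorization a = g · q in O_{X,x} with g in
the maximal ideal of O_{X,x} and g not vanishing identically on C near x, i.e. the image of g in
O_{X,ξ} is a unit. -/
theorem result (A : Type u) [CommRing A] [IsDomain A] [IsLocalRing A] [IsNoetherianRing A]
    [IsIntegrallyClosed A] (hdim : ringKrullDim A = 2)
    (X : Scheme.{u}) (f : X ⟶ Spec (CommRingCat.of A)) [IsProper f] [IsIntegral X]
    (hbir : ∃ U : (Spec (CommRingCat.of A)).Opens, (U : Set (Spec (CommRingCat.of A))).Nonempty ∧ IsIso (f ∣_ U)) (hf : ¬ IsIso f) :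
    ∃ a : A, a ≠ 0 ∧ a ∈ IsLocalRing.maximalIdeal A ∧
      ∀ C ∈ irreducibleComponents ↥(f.base ⁻¹' {IsLocalRing.closedPoint A}),
        ∃ (x ξ : ↥(f.base ⁻¹' {IsLocalRing.closedPoint A})) (hξx : (ξ : X) ⤳ (x : X)),
          x ∈ C ∧ IsGenericPoint ξ C ∧ IsClosed ({(x : X)} : Set X) ∧
          (∀ C' ∈ irreducibleComponents ↥(f.base ⁻¹' {IsLocalRing.closedPoint A}), C' ≠ C → x ∉ C') ∧
          ∃ g q : X.presheaf.stalk (x : X), g ∈ IsLocalRing.maximalIdeal (X.presheaf.stalk (x : X)) ∧
            (X.presheaf.germ ⊤ (x : X) trivial).hom (Coh.toGlobal f a) = g * q ∧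
            IsUnit ((X.presheaf.stalkSpecializes hξx).hom g) := by
  obtain ⟨U, hU, hiso⟩ := hbir
  haveI := hiso
  refine Groth.Agent.H26.ExcFn.Main.main f U hU hf ?_
  intro h
  have hfield : IsField A := IsLocalRing.isField_iff_maximalIdeal_eq.2 h
  have h0 := ringKrullDim_eq_zero_of_isField hfield
  rw [h0] at hdim
  exact absurd hdim (by decide)

end Groth.Agent.S7336
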