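import Groth.Statements.S7339
import Groth.Agent.Lib.ModelFibre.P1Curve
import Groth.Agent.Lib.SurfInt.PushIso
import Groth.Agent.Lib.CurveBundle.Twist
import Groth.Agent.Lib.ZarCoh.Morph

set_option autoImplicit false
universe u
open CategoryTheory CategoryTheory.Limits AlgebraicGeometry
open Resolve

namespace Groth.Agent.S7339

open Groth.Agent.Lib TensorMod.Basic

section aux

/-- The intrinsic degree on a projective line. -/
noncomputable def idg {E : Scheme.{u}} (G : E.Modules) : ℤ :=
  ((ModelFibre.P1Curve.gdim G 0 : ℤ) - ModelFibre.P1Curve.gdim G 1) -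
    ((ModelFibre.P1Curve.gdim (Coh.structureModule E) 0 : ℤ) -
      ModelFibre.P1Curve.gdim (Coh.structureModule E) 1)

variable (K : Type u) [Field K]

noncomputable local instance overLine : (CohB1.ProjSpace 1 K).Over (Spec (CommRingCat.of K)) :=
  ⟨CohB1.ProjSpace.toSpec 1 K⟩

lemma line_facts : IsProper (CohB1.ProjSpace 1 K ↘ Spec (CommRingCat.of K)) ∧
    topologicalKrullDim (CohB1.ProjSpace 1 K) ≤ 1 :=
  ⟨ProjSpace.Basic.isProper_toSpec 1 K, by rw [ProjSpace.Dim.topologicalKrullDim_projSpace]; simp⟩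

lemma h0_line :
    Module.finrank K (Coh.HH (CohB1.ProjSpace 1 K) (Coh.structureModule (CohB1.ProjSpace 1 K)) 0) = 1 ∧
      Curv2.genus K (CohB1.ProjSpace 1 K) = 0 :=
  Curves.DegreeOne.h0_genus_of_iso_line (X := CohB1.ProjSpace 1 K) (e := Iso.refl _) (k := K)
    (Category.id_comp _)

/-- Degrees along two parametrisations of a line agree. -/
lemma deg_line {E : Scheme.{u}} (e : CohB1.ProjSpace 1 K ≅ E) {G : E.Modules} (hG : PicF.IsInvertible G) :
    Curv2.deg K (CohB1.ProjSpace 1 K) ((Scheme.Modules.pullback e.hom).obj G) 1 = idg G := by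
  letI : E.Over (Spec (CommRingCat.of K)) := ⟨e.inv ≫ CohB1.ProjSpace.toSpec 1 K⟩
  obtain ⟨hp, hd⟩ := line_facts K
  haveI : IsProper (E ↘ Spec (CommRingCat.of K)) :=
    inferInstanceAs (IsProper (e.inv ≫ CohB1.ProjSpace.toSpec 1 K))
  obtain ⟨h0, -⟩ := Curves.DegreeOne.h0_genus_of_iso_line (X := E) (e := e.symm) (k := K) rfl
  haveI := (ProjSpace.Basic.isIntegral_projSpace 1 K)
  haveI : Nonempty E := ⟨e.hom (genericPoint (CohB1.ProjSpace 1 K))⟩
  haveI : IsIntegral E := isIntegral_of_isOpenImmersion e.inv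
  have hdE : topologicalKrullDim E ≤ 1 :=
    (IsHomeomorph.topologicalKrullDim_eq e.inv e.inv.homeomorph.isHomeomorph).trans_le hd
  rw [SurfInt.PushIso.deg_pullback e.hom (show e.hom ≫ e.inv ≫ CohB1.ProjSpace.toSpec 1 K =
    CohB1.ProjSpace.toSpec 1 K by rw [Iso.hom_inv_id_assoc]) hG]
  exact ModelFibre.P1Curve.deg_eq_gdim
    (isField_of_universallyClosed K (E ↘ Spec (CommRingCat.of K))) hdE h0 hG

lemma deg_twist_nat (n : ℕ) :
    Curv2.deg K (CohB1.ProjSpace 1 K) (Twist.twistProjSpace 1 K (n : ℤ)) 1 = n := by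
  obtain ⟨hp, hd⟩ := line_facts K
  obtain ⟨h0, hg⟩ := h0_line K
  have hinv : PicF.IsInvertible (Twist.twistProjSpace 1 K (n : ℤ)) :=
    ProjCoh.Horrocks.isInvertible_TS (d := 1) (k := K) _
  have h := Groth.Agent.S4466.result K 1 one_pos (n : ℤ)
  simp only [Finset.sum_range_succ, Finset.sum_range_zero, zero_add, pow_zero, one_mul, pow_one,
    Nat.cast_one, Ring.choose_one_right] at h
  have hr := Curves.Degree.riemann_roch (k := K) hd h0 hinv
  rw [hg] at hr
  simp only [Curves.Euler.hdim] at hr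
  push_cast at hr h ⊢
  linarith

end aux


/-- Let X be a Noetherian scheme, ι : E → X a closed immersion which is an exceptional curve of the
first kind, with ideal sheaf I and M = O_X(E) an inverse of I for the tensor product, and L an
invertible O_X-module whose pullback to E ≅ P^1_k (for some field k and isomorphism e : P^1_k ≅ E)
is isomorphic to O(n). If H^1(X, L) = 0 and n ≥ 0, then H^1(X, L(iE)) = 0 for 0 ≤ i ≤ n + 1, where
L(iE) = L ⊗ M^{⊗ i}. (The published statement also asserts, for n ≤ 0, that H^1(X, L) → H^1(X, L(E))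
is injective; this row states only the vanishing for n ≥ 0.) -/
theorem result {E X : Scheme.{u}} [IsNoetherian X] (ι : E ⟶ X) [IsClosedImmersion ι]
    (hE : Models.IsExcCurve ι) (M : X.Modules) (hM : ClSub.IsInverseOf M (ClSub.idealMod ι.ker))
    (L : X.Modules) (hL : PicF.IsInvertible L)
    (k : Type u) [Field k] (e : CohB1.ProjSpace 1 k ≅ E) (n : ℕ)
    (hn : Nonempty ((Scheme.Modules.pullback (e.hom ≫ ι)).obj L ≅ Twist.twistProjSpace 1 k (n : ℤ)))
    (h1 : Subsingleton (Coh.HH X L 1)) (i : ℕ) (hi : i ≤ n + 1) :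
    Subsingleton (Coh.HH X (CohB1.tensorMod L (CohB1.tensorPow M i)) 1) := by
  letI : X.Over (Spec (CommRingCat.of Γ(X, ⊤))) := ⟨X.toSpecΓ⟩
  letI : (CohB1.ProjSpace 1 k).Over (Spec (CommRingCat.of k)) := ⟨CohB1.ProjSpace.toSpec 1 k⟩
  obtain ⟨hcart, k₀, _, e₀, ⟨eI⟩⟩ := hE
  obtain ⟨hp, hd⟩ := line_facts k
  obtain ⟨h0, hg⟩ := h0_line k
  set I := ι.ker
  have hJ : PicF.IsInvertible (ClSub.idealMod I) := Lib.ClSub.Cartier.isInvertible_idealMod hcart
  have hMinv : PicF.IsInvertible M := TensorMod.TensorInv.isInvertible_of_tensor_iso hM.some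
  let f : CohB1.ProjSpace 1 k ⟶ X := e.hom ≫ ι
  -- degrees on the line
  have hdI : Curv2.deg k (CohB1.ProjSpace 1 k) ((Scheme.Modules.pullback f).obj (ClSub.idealMod I)) 1 = 1 := by
    have hG := PicLoc.isInvertible_pullback ι hJ
    refine (Curves.Euler.deg_eq_of_iso (k := k) ((Scheme.Modules.pullbackComp e.hom ι).app (ClSub.idealMod I)) 1).symm.trans ?_
    refine (deg_line k e hG).trans ((deg_line k₀ e₀ hG).symm.trans ?_)
    letI := overLine k₀
    refine (Curves.Euler.deg_eq_of_iso (k := k₀) ((Scheme.Modules.pullbackComp e₀.hom ι).app (ClSub.idealMod I) ≪≫ eI) 1).trans ?_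
    exact_mod_cast deg_twist_nat k₀ 1
  have hdM : Curv2.deg k (CohB1.ProjSpace 1 k) ((Scheme.Modules.pullback f).obj M) 1 = -1 := by
    have h := Curves.Degree.deg_tensor (k := k) hd (PicLoc.isInvertible_pullback f hMinv)
      (PicLoc.isInvertible_pullback f hJ)
    rw [Curves.Euler.deg_eq_of_iso ((TensorMod.Pullback.pullbackTensorIso f _ _).symm ≪≫
      (Scheme.Modules.pullback f).mapIso hM.some ≪≫ PicLoc.pullbackStructureIso f) 1,
      Curves.Degree.deg_structureModule, hdI] at h
    linarith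
  obtain ⟨eL⟩ := hn
  have hdeg : ∀ j : ℕ, PicF.IsInvertible (CohB1.tensorMod L (CohB1.tensorPow M j)) ∧
      Curv2.deg k (CohB1.ProjSpace 1 k)
        ((Scheme.Modules.pullback f).obj (CohB1.tensorMod L (CohB1.tensorPow M j))) 1 = (n : ℤ) - j := by
    intro j
    induction j with
    | zero =>
      refine ⟨TensorMod.Invertible.isInvertible_of_iso (rightUnit L).symm hL, ?_⟩
      refine (Curves.Euler.deg_eq_of_iso (k := k) ((Scheme.Modules.pullback f).mapIso (rightUnit L) ≪≫ eL) 1).trans ?_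
      rw [deg_twist_nat k n]
      simp
    | succ j ih =>
      obtain ⟨hi', hd'⟩ := ih
      let a : CohB1.tensorMod L (CohB1.tensorPow M (j + 1)) ≅
          CohB1.tensorMod (CohB1.tensorMod L (CohB1.tensorPow M j)) M := (assoc _ _ _).symm
      refine ⟨TensorMod.Invertible.isInvertible_of_iso a.symm
        (TensorMod.Invertible.isInvertible_tensorMod hi' hMinv), ?_⟩
      rw [Curves.Euler.deg_eq_of_iso ((Scheme.Modules.pullback f).mapIso a ≪≫
          TensorMod.Pullback.pullbackTensorIso f _ _) 1,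
        Curves.Degree.deg_tensor hd (PicLoc.isInvertible_pullback f hi')
          (PicLoc.isInvertible_pullback f hMinv), hd', hdM]
      push_cast
      ring
  -- the closed subscheme is the line
  haveI : IsIso ι.toImage := inferInstance
  let c : CohB1.ProjSpace 1 k ⟶ I.subscheme := e.hom ≫ ι.toImage
  haveI : IsIso c := inferInstance
  have hc : c ≫ I.subschemeι = f := by
    show (e.hom ≫ ι.toImage) ≫ ι.imageι = e.hom ≫ ι
    rw [Category.assoc, Scheme.Hom.toImage_imageι]
  letI : I.subscheme.Over (Spec (CommRingCat.of k)) := ⟨inv c ≫ CohB1.ProjSpace.toSpec 1 k⟩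
  haveI : IsProper (I.subscheme ↘ Spec (CommRingCat.of k)) :=
    inferInstanceAs (IsProper (inv c ≫ CohB1.ProjSpace.toSpec 1 k))
  haveI := (ProjSpace.Basic.isIntegral_projSpace 1 k)
  haveI : Nonempty I.subscheme := ⟨c (genericPoint (CohB1.ProjSpace 1 k))⟩
  haveI : IsIntegral I.subscheme := isIntegral_of_isOpenImmersion (inv c)
  obtain ⟨h0Z, hgZ⟩ := Curves.DegreeOne.h0_genus_of_iso_line (X := I.subscheme) (e := (asIso c).symm)
    (k := k) rfl
  have hdZ : topologicalKrullDim I.subscheme ≤ 1 :=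
    (IsHomeomorph.topologicalKrullDim_eq (inv c) (inv c).homeomorph.isHomeomorph).trans_le hd
  induction i with
  | zero =>
    exact (Curves.LES.isoK Γ(X, ⊤) (rightUnit L) 1).injective.subsingleton
  | succ i ih =>
    have h1' := ih (by omega)
    obtain ⟨hNi, hdN⟩ := hdeg (i + 1)
    set N := CohB1.tensorMod L (CohB1.tensorPow M (i + 1)) with hNdef
    obtain ⟨hNinv, hNd⟩ : PicF.IsInvertible N ∧
        Curv2.deg k (CohB1.ProjSpace 1 k) ((Scheme.Modules.pullback f).obj N) 1 = (n : ℤ) - (i + 1 : ℕ) :=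
      ⟨hNi, hdN⟩
    -- the first term
    let a₁ : CohB1.tensorMod (ClSub.idealMod I) N ≅ CohB1.tensorMod L (CohB1.tensorPow M i) :=
      comm _ _ ≪≫ tensorIso (assoc L (CohB1.tensorPow M i) M).symm (Iso.refl _) ≪≫
        assoc _ _ _ ≪≫ tensorIso (Iso.refl _) hM.some ≪≫ rightUnit _
    have hA : Subsingleton (Coh.HH X (CohB1.tensorMod (ClSub.idealMod I) N) 1) :=
      (Curves.LES.isoK Γ(X, ⊤) a₁ 1).injective.subsingleton
    -- the last term
    let G := (Scheme.Modules.pullback I.subschemeι).obj N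
    have hG : PicF.IsInvertible G := PicLoc.isInvertible_pullback _ hNinv
    have hGd : -1 ≤ Curv2.deg k I.subscheme G 1 := by
      have he : Curv2.deg k I.subscheme G 1 = (n : ℤ) - (i + 1 : ℕ) :=
        (SurfInt.PushIso.deg_pullback c (show c ≫ inv c ≫ CohB1.ProjSpace.toSpec 1 k =
          CohB1.ProjSpace.toSpec 1 k by rw [IsIso.hom_inv_id_assoc]) hG).symm.trans
        ((Curves.Euler.deg_eq_of_iso (k := k) ((Scheme.Modules.pullbackComp c I.subschemeι).app N ≪≫
          (Scheme.Modules.pullbackCongr hc).app N) 1).trans hNd)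
      omega
    have hGs : Subsingleton (Coh.HH I.subscheme G 1) :=
      Curves.Clifford.subsingleton_one_of_deg k hdZ h0Z hG (by rw [hgZ]; omega)
    have hC : Subsingleton (Coh.HH X (CohB1.tensorMod (ClSub.quotMod I) N) 1) := by
      have hb := Modules.DualBasis.hasDBases_of_isFinLocFree
        (TensorMod.LocFree.of_rank (TensorMod.LocFree.of_isInvertible hNinv))
      let a₃ : CohB1.tensorMod (ClSub.quotMod I) N ≅ (Coh.push I.subschemeι).obj G :=
        comm _ _ ≪≫ (Modules.ProjFormula.projIso I.subschemeι hb).app (Coh.structureModule I.subscheme) ≪≫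
          (Coh.push I.subschemeι).mapIso (rightUnit G)
      haveI : G.IsQuasicoherent := TensorMod.QCohInv.isQCoh_of_isInvertible hG
      have := (ZarCoh.Morph.affineEquiv I.subschemeι G 1).injective.subsingleton
      exact (Curves.LES.isoK Γ(X, ⊤) a₃ 1).injective.subsingleton
    have hS := CurveBundle.Twist.shortExact hNinv (Lib.ClSub.Quot.idealSeq_shortExact I)
    have hmid : Subsingleton (Coh.HH X (CohB1.tensorMod (Coh.structureModule X) N) 1) := by
      refine subsingleton_of_forall_eq 0 fun x => ?_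
      obtain ⟨y, hy⟩ := ((Curves.LES.exactK₂ Γ(X, ⊤) hS 1) x).1 (@Subsingleton.elim _ hC _ _)
      rw [← hy, @Subsingleton.elim _ hA y 0]
      exact map_zero _
    exact (Curves.LES.isoK Γ(X, ⊤) (leftUnit N).symm 1).injective.subsingleton


end Groth.Agent.S7339
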