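import Groth.Statements.S7340
import Mathlib.RingTheory.Kaehler.Basic
import Mathlib.RingTheory.Derivation.Basic
import Mathlib.Algebra.Polynomial.Expand
import Mathlib.Algebra.CharP.Invertible
import Mathlib.Algebra.MvPolynomial.CommRing

set_option autoImplicit false
universe u
open Polynomial
open Resolve

namespace Groth.Agent.S7340

variable {R : Type u} [CommRing R]

theorem succ_mul_sub {p : ℕ} (hp : p ≠ 0) (k : ℕ) : (k + 1) * p - 1 + 1 = (k + 1) * p :=
  Nat.succ_pred_eq_of_pos (Nat.mul_pos k.succ_pos (Nat.pos_of_ne_zero hp))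

/-- The coefficient extraction behind the trace. -/
noncomputable def M (p : ℕ) (h : R[X]) : R[X] := (contract p (X * h)).divX

theorem coeff_M (p : ℕ) (hp : p ≠ 0) (h : R[X]) (k : ℕ) : (M p h).coeff k = h.coeff ((k + 1) * p - 1) := by
  rw [M, coeff_divX, coeff_contract hp]
  obtain ⟨m, hm⟩ : ∃ m, (k + 1) * p = m + 1 :=
    ⟨(k + 1) * p - 1, (Nat.succ_pred_eq_of_pos (Nat.mul_pos k.succ_pos (Nat.pos_of_ne_zero hp))).symm⟩
  rw [hm, coeff_X_mul, Nat.add_sub_cancel]

theorem M_derivative (p : ℕ) (hp : p ≠ 0) [CharP R p] (h : R[X]) : M p (derivative h) = 0 := by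
  ext k
  rw [coeff_M p hp, coeff_derivative, coeff_zero]
  have h1 : (k + 1) * p - 1 + 1 = (k + 1) * p := succ_mul_sub hp k
  rw [← Nat.cast_add_one, h1, Nat.cast_mul, CharP.cast_eq_zero R p, mul_zero, mul_zero]

theorem coeff_key_int {σ : Type*} (p : ℕ) (hp : p ≠ 0) (G : (MvPolynomial σ ℤ)[X]) (k : ℕ) :
    (G ^ (p - 1) * derivative G).coeff ((k + 1) * p - 1) = (k + 1 : ℕ) * (G ^ p).coeff ((k + 1) * p) := by
  have h1 : (k + 1) * p - 1 + 1 = (k + 1) * p := succ_mul_sub hp k
  have h := congrArg (fun q => q.coeff ((k + 1) * p - 1)) (derivative_pow G p)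
  simp only [coeff_derivative, h1] at h
  rw [mul_assoc, coeff_C_mul, ← Nat.cast_add_one, h1, Nat.cast_mul, mul_comm ((k + 1 : ℕ) : MvPolynomial σ ℤ) (p : MvPolynomial σ ℤ), mul_left_comm] at h
  have hp0 : (p : MvPolynomial σ ℤ) ≠ 0 := by
    rw [← map_natCast MvPolynomial.C, Ne, MvPolynomial.C_eq_zero]; exact_mod_cast hp
  refine mul_left_cancel₀ hp0 ?_
  rw [← h]
  ring

theorem M_pow_mul_derivative (p : ℕ) [Fact p.Prime] [CharP R p] (G : R[X]) :
    M p (G ^ (p - 1) * derivative G) = derivative (G.map (frobenius R p)) := by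
  have hp : p ≠ 0 := (Fact.out : p.Prime).ne_zero
  ext k
  obtain ⟨G', rfl⟩ := Polynomial.map_surjective
    (MvPolynomial.eval₂Hom (Int.castRingHom R) id : MvPolynomial R ℤ →+* R)
    (fun r => ⟨MvPolynomial.X r, MvPolynomial.eval₂Hom_X' _ _ _⟩) G
  rw [coeff_M p hp, derivative_map, ← Polynomial.map_pow, ← Polynomial.map_mul, coeff_map,
    coeff_key_int p hp, map_mul, map_natCast, coeff_derivative, coeff_map, ← coeff_map, Polynomial.map_pow,
    ← Polynomial.map_frobenius_expand (p := p), coeff_map, coeff_expand_mul (Nat.pos_of_ne_zero hp),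
    Nat.cast_add, Nat.cast_one, mul_comm, frobenius_def]

theorem M_pow_derivative (p : ℕ) [Fact p.Prime] [CharP R p] (G : R[X]) (i : ℕ) (hi : i + 2 ≤ p) :
    M p (G ^ i * derivative G) = 0 := by
  have hp : p ≠ 0 := (Fact.out : p.Prime).ne_zero
  have hu : IsUnit ((i + 1 : ℕ) : R) := by
    rw [CharP.isUnit_natCast_iff (Fact.out : p.Prime)]
    intro h; have := Nat.le_of_dvd i.succ_pos h; omega
  have h : derivative (C (hu.unit⁻¹ : Rˣ).1 * G ^ (i + 1)) = G ^ i * derivative G := by
    rw [derivative_C_mul, derivative_pow, Nat.add_sub_cancel, ← mul_assoc, ← mul_assoc, ← C_mul,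
      IsUnit.val_inv_mul, C_1, one_mul]
  rw [← h, M_derivative p hp]

theorem M_C_mul (p : ℕ) (hp : p ≠ 0) (c : R) (h : R[X]) : M p (C c * h) = C c * M p h := by
  ext k; simp [coeff_M p hp]

theorem M_add (p : ℕ) (hp : p ≠ 0) (f h : R[X]) : M p (f + h) = M p f + M p h := by
  ext k; simp [coeff_M p hp]

theorem D_eval_map_frobenius (p : ℕ) [Fact p.Prime] [CharP R p] (b : R) (G : R[X]) :
    KaehlerDifferential.D ℤ R ((G.map (frobenius R p)).eval b) =
      (derivative (G.map (frobenius R p))).eval b • KaehlerDifferential.D ℤ R b := by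
  induction G using Polynomial.induction_on' with
  | add f g hf hg => simp [hf, hg, add_smul]
  | monomial n c =>
    rw [map_monomial, eval_monomial, derivative_monomial, eval_monomial, Derivation.leibniz, Derivation.leibniz_pow,
      frobenius_def, Derivation.leibniz_pow]
    simp [smul_smul, ← Nat.cast_smul_eq_nsmul R, mul_assoc]

variable (p : ℕ) [Fact p.Prime] (b : R) (T : Ω[AdjoinRoot (X ^ p - C b : R[X])⁄R] →ₗ[R] Ω[R⁄ℤ])
  (h0 : ∀ i : ℕ, i + 2 ≤ p →
    T (AdjoinRoot.root (X ^ p - C b) ^ i • KaehlerDifferential.D R _ (AdjoinRoot.root (X ^ p - C b))) = 0)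
  (h1 : T (AdjoinRoot.root (X ^ p - C b) ^ (p - 1) • KaehlerDifferential.D R _ (AdjoinRoot.root (X ^ p - C b))) =
    KaehlerDifferential.D ℤ R b)

include h0 h1 in
theorem trace_aeval (h : R[X]) :
    T (aeval (AdjoinRoot.root (X ^ p - C b)) h • KaehlerDifferential.D R _ (AdjoinRoot.root (X ^ p - C b))) =
      (M p h).eval b • KaehlerDifferential.D ℤ R b := by
  have hp : p ≠ 0 := (Fact.out : p.Prime).ne_zero
  have hp2 := (Fact.out : p.Prime).two_le
  induction h using Polynomial.induction_on' with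
  | add f g hf hg => rw [map_add, add_smul, map_add, hf, hg, M_add p hp, eval_add, add_smul]
  | monomial n c =>
    set y := AdjoinRoot.root (X ^ p - C b) with hydef
    have hy : y ^ p = algebraMap R _ b := by
      have := AdjoinRoot.eval₂_root (X ^ p - C b : R[X])
      simpa [sub_eq_zero] using this
    rw [← C_mul_X_pow_eq_monomial, M_C_mul p hp, map_mul, aeval_C, aeval_X_pow, eval_mul, eval_C, mul_smul,
      mul_smul, algebraMap_smul, map_smul]
    congr 1
    conv_lhs => rw [← Nat.div_add_mod n p, pow_add, pow_mul, hy, ← map_pow, mul_smul, algebraMap_smul, map_smul]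
    by_cases hr : n % p = p - 1
    · rw [hr, h1]
      congr 1
      have hM : M p (X ^ n : R[X]) = X ^ (n / p) := by
        ext k
        rw [coeff_M p hp, coeff_X_pow, coeff_X_pow]
        congr 1
        rw [eq_iff_iff]
        have := Nat.div_add_mod n p
        constructor
        · intro h
          have h2 : (k + 1) * p = n + 1 := by
            have := succ_mul_sub hp k; omega
          have h3 : (k + 1) * p = (n / p + 1) * p := by rw [h2, add_mul, mul_comm (n / p)]; omega
          have := Nat.eq_of_mul_eq_mul_right (Nat.pos_of_ne_zero hp) h3; omega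
        · rintro rfl; rw [add_mul, mul_comm (n / p)]; omega
      rw [hM, eval_pow, eval_X]
    · have hlt := Nat.mod_lt n (Nat.pos_of_ne_zero hp)
      rw [h0 _ (by omega), smul_zero]
      have hM : M p (X ^ n : R[X]) = 0 := by
        ext k
        rw [coeff_M p hp, coeff_X_pow, if_neg, coeff_zero]
        intro h
        apply hr
        rw [← h]
        have h4 : (k + 1) * p - 1 = (p - 1) + p * k := by rw [add_mul, mul_comm k]; omega
        rw [h4, Nat.add_mul_mod_self_left, Nat.mod_eq_of_lt (by omega)]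
      rw [hM, eval_zero, zero_smul]

/-- Let p be a prime number and R an F_p-algebra, a, b ∈ R, S_a = R[x]/(x^p - a) and S_b = R[y]/(y^p -
b). The trace Tr_x : Ω_{S_a/R} → Ω_R is the R-linear map with x^i dx ↦ 0 for 0 ≤ i ≤ p - 2 and
x^{p-1} dx ↦ da (these determine it, Ω_{S_a/R} being free over R on the x^i dx), and similarly Tr_y.
Then for every R-algebra homomorphism φ : S_a → S_b one has Tr_x = Tr_y ∘ φ_*: for all s, t ∈ S_a,
Tr_x(s dt) = Tr_y(φ(s) dφ(t)). Here Ω_R is the module of absolute differentials Ω_{R/Z}. -/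
theorem result (p : ℕ) [Fact p.Prime] (R : Type u) [CommRing R] [CharP R p] (a b : R)
    (φ : AdjoinRoot (X ^ p - C a : R[X]) →ₐ[R] AdjoinRoot (X ^ p - C b : R[X]))
    (Tx : Ω[AdjoinRoot (X ^ p - C a : R[X])⁄R] →ₗ[R] Ω[R⁄ℤ])
    (Ty : Ω[AdjoinRoot (X ^ p - C b : R[X])⁄R] →ₗ[R] Ω[R⁄ℤ])
    (hTx : ∀ i : ℕ, i + 2 ≤ p →
      Tx (AdjoinRoot.root (X ^ p - C a) ^ i • KaehlerDifferential.D R _ (AdjoinRoot.root (X ^ p - C a))) = 0)
    (hTx' : Tx (AdjoinRoot.root (X ^ p - C a) ^ (p - 1) • KaehlerDifferential.D R _ (AdjoinRoot.root (X ^ p - C a))) =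
      KaehlerDifferential.D ℤ R a)
    (hTy : ∀ i : ℕ, i + 2 ≤ p →
      Ty (AdjoinRoot.root (X ^ p - C b) ^ i • KaehlerDifferential.D R _ (AdjoinRoot.root (X ^ p - C b))) = 0)
    (hTy' : Ty (AdjoinRoot.root (X ^ p - C b) ^ (p - 1) • KaehlerDifferential.D R _ (AdjoinRoot.root (X ^ p - C b))) =
      KaehlerDifferential.D ℤ R b)
    (s t : AdjoinRoot (X ^ p - C a : R[X])) :
    Tx (s • KaehlerDifferential.D R _ t) = Ty (φ s • KaehlerDifferential.D R _ (φ t)) := by
  have hp : p ≠ 0 := (Fact.out : p.Prime).ne_zero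
  set x := AdjoinRoot.root (X ^ p - C a : R[X]) with hx
  set y := AdjoinRoot.root (X ^ p - C b : R[X]) with hy
  obtain ⟨G, hG⟩ : ∃ G : R[X], aeval y G = φ x := by
    obtain ⟨G, hG⟩ := AdjoinRoot.mk_surjective (φ x)
    exact ⟨G, (AdjoinRoot.aeval_eq G).trans hG⟩
  -- `a` in terms of `G`
  have ha : a = (G.map (frobenius R p)).eval b := by
    have hinj : Function.Injective (algebraMap R (AdjoinRoot (X ^ p - C b : R[X]))) := by
      refine (injective_iff_map_eq_zero _).2 fun c hc => ?_
      have : Nontrivial R := CharP.nontrivial_of_char_ne_one (Fact.out : p.Prime).ne_one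
      have hm : (X ^ p - C b : R[X]).Monic := monic_X_pow_sub_C b hp
      have h2 := (modByMonic_eq_zero_iff_dvd hm).2 (AdjoinRoot.mk_eq_zero.1
        (show AdjoinRoot.mk (X ^ p - C b) (C c) = 0 by rw [← hc]; rfl))
      rwa [(modByMonic_eq_self_iff hm).2 (lt_of_le_of_lt degree_C_le (by
        rw [degree_X_pow_sub_C (Nat.pos_of_ne_zero hp)]; exact_mod_cast Nat.pos_of_ne_zero hp)), C_eq_zero] at h2
    apply hinj
    have hyp : y ^ p = algebraMap R _ b := by
      have := AdjoinRoot.eval₂_root (X ^ p - C b : R[X])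
      simpa [sub_eq_zero] using this
    have hxp : x ^ p = algebraMap R _ a := by
      have := AdjoinRoot.eval₂_root (X ^ p - C a : R[X])
      simpa [sub_eq_zero] using this
    rw [← φ.commutes, ← hxp, map_pow, ← hG, ← map_pow, ← Polynomial.map_frobenius_expand p G, map_expand,
      expand_aeval, hyp, aeval_algebraMap_apply, aeval_def, Algebra.algebraMap_self, eval₂_id]
  -- the two linear maps agree on `xⁿ dx`
  have key : ∀ F : R[X], Tx (aeval x F • KaehlerDifferential.D R _ x) =
      Ty (aeval (φ x) F • KaehlerDifferential.D R _ (φ x)) := by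
    intro F
    induction F using Polynomial.induction_on' with
    | add f g hf hg => rw [map_add, map_add, add_smul, add_smul, map_add, map_add, hf, hg]
    | monomial n c =>
      rw [← C_mul_X_pow_eq_monomial, map_mul, map_mul, aeval_C, aeval_C, aeval_X_pow, aeval_X_pow,
        mul_smul, mul_smul, algebraMap_smul, algebraMap_smul, LinearMap.map_smul, LinearMap.map_smul]
      congr 1
      have hxp : x ^ p = algebraMap R _ a := by
        have := AdjoinRoot.eval₂_root (X ^ p - C a : R[X])
        simpa [sub_eq_zero] using this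
      have hgp : φ x ^ p = algebraMap R _ a := by rw [← map_pow, hxp, φ.commutes]
      rw [← Nat.div_add_mod n p, pow_add, pow_mul, hxp, pow_add, pow_mul, hgp, ← map_pow, ← map_pow, mul_smul,
        mul_smul, algebraMap_smul, algebraMap_smul, LinearMap.map_smul, LinearMap.map_smul]
      congr 1
      have hlt := Nat.mod_lt n (Nat.pos_of_ne_zero hp)
      have hd : φ x ^ (n % p) • KaehlerDifferential.D R (AdjoinRoot (X ^ p - C b : R[X])) (φ x) =
          aeval y (G ^ (n % p) * derivative G) • KaehlerDifferential.D R _ y := by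
        rw [map_mul, map_pow, mul_smul, ← Derivation.map_aeval, hG]
      rw [hd, trace_aeval p b Ty hTy hTy']
      by_cases hr : n % p = p - 1
      · rw [hr, hTx', M_pow_mul_derivative, ha, D_eval_map_frobenius]
      · rw [hTx _ (by omega), M_pow_derivative p G _ (by omega), eval_zero, zero_smul]
  obtain ⟨f, rfl⟩ : ∃ f : R[X], aeval x f = t := by
    obtain ⟨f, hf⟩ := AdjoinRoot.mk_surjective t
    exact ⟨f, (AdjoinRoot.aeval_eq f).trans hf⟩
  obtain ⟨g, rfl⟩ : ∃ g : R[X], aeval x g = s := by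
    obtain ⟨f, hf⟩ := AdjoinRoot.mk_surjective s
    exact ⟨f, (AdjoinRoot.aeval_eq f).trans hf⟩
  rw [Derivation.map_aeval, smul_smul, ← map_mul, key, ← Polynomial.aeval_algHom_apply,
    ← Polynomial.aeval_algHom_apply, Derivation.map_aeval, smul_smul, ← map_mul]

end Groth.Agent.S7340
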