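import Groth.Statements.S7341
import Groth.Agent.Lib.NumType.Proper

set_option autoImplicit false
open Finset
open Models Models.NumericalType

namespace Groth.Agent.S7341

/-- Classification of proper subgraphs which are chains of three vertices: let T be a numerical type on
n > 3 indices and i, j, k distinct (-2)-indices with a_ij > 0 and a_jk > 0. Then a_ik = 0 and, up to
reversing the order of i, j, k, one of the following holds for some integer w: (A3) w_i = w_j = w_k
= w, a_ij = a_jk = w, with 2 m_i ≥ m_j, 2 m_j ≥ m_i + m_k, 2 m_k ≥ m_j; (C3) w_i = w_j = w, w_k =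
2w, a_ij = w, a_jk = 2w, with 2 m_i ≥ m_j, 2 m_j ≥ m_i + 2 m_k, 2 m_k ≥ m_j; (B3) w_i = w_j = 2w,
w_k = w, a_ij = a_jk = 2w, with 2 m_i ≥ m_j, 2 m_j ≥ m_i + m_k, m_k ≥ m_j. -/
theorem result {n : ℕ} (T : Models.NumericalType n) (hn : 3 < n) (i j k : Fin n)
    (hij : i ≠ j) (hjk : j ≠ k) (hik : i ≠ k) (hi : T.IsMinusTwo i) (hj : T.IsMinusTwo j) (hk : T.IsMinusTwo k)
    (h1 : 0 < T.a i j) (h2 : 0 < T.a j k) :
    T.a i k = 0 ∧ ∃ (i' k' : Fin n) (w : ℤ), ((i' = i ∧ k' = k) ∨ (i' = k ∧ k' = i)) ∧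
      ((T.w i' = w ∧ T.w j = w ∧ T.w k' = w ∧ T.a i' j = w ∧ T.a j k' = w ∧
          T.m j ≤ 2 * T.m i' ∧ T.m i' + T.m k' ≤ 2 * T.m j ∧ T.m j ≤ 2 * T.m k') ∨
        (T.w i' = w ∧ T.w j = w ∧ T.w k' = 2 * w ∧ T.a i' j = w ∧ T.a j k' = 2 * w ∧
          T.m j ≤ 2 * T.m i' ∧ T.m i' + 2 * T.m k' ≤ 2 * T.m j ∧ T.m j ≤ 2 * T.m k') ∨
        (T.w i' = 2 * w ∧ T.w j = 2 * w ∧ T.w k' = w ∧ T.a i' j = 2 * w ∧ T.a j k' = 2 * w ∧
          T.m j ≤ 2 * T.m i' ∧ T.m i' + T.m k' ≤ 2 * T.m j ∧ T.m j ≤ T.m k')) := by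
  open Groth.Agent.Lib.NumType Groth.Agent.Lib.NumType.Proper Groth.Agent.Lib.NumType.Paths in
  have hp : Path T 3 (seq ![i, j, k]) := by
    refine path_seq _ (fun a b e => ?_) (fun a => ?_) (fun a b hab => ?_)
    · fin_cases a <;> fin_cases b <;> simp at e <;> first
        | rfl | exact absurd e hij | exact absurd e.symm hij | exact absurd e hjk
        | exact absurd e.symm hjk | exact absurd e hik | exact absurd e.symm hik
    · fin_cases a <;> assumption
    · fin_cases a <;> fin_cases b <;> simp at hab <;> simp [h1.ne', h2.ne']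
  obtain ⟨u, w, hrev, hu, hshape⟩ := chain_shape hp hn le_rfl
  refine ⟨no_chord hp hn (i := 0) (j := 2) (by norm_num) (by norm_num), ?_⟩
  have ej : u 1 = j := by rcases hrev with h | h <;> exact h 1 (by norm_num)
  refine ⟨u 0, u 2, w, ?_, ?_⟩
  · rcases hrev with h | h
    · exact .inl ⟨h 0 (by norm_num), h 2 (by norm_num)⟩
    · exact .inr ⟨h 0 (by norm_num), h 2 (by norm_num)⟩
  have hne : ∀ a b, a < 3 → b < 3 → a ≠ b → u a ≠ u b := fun a b ha hb h e => h (hu.inj a b ha hb e)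
  have r0 := row_le (hu.two 0 (by norm_num)) {u 1} (by simpa using hne 0 1 (by norm_num) (by norm_num) (by norm_num))
  have r2 := row_le (hu.two 2 (by norm_num)) {u 1} (by simpa using hne 2 1 (by norm_num) (by norm_num) (by norm_num))
  have r1 := row_le (hu.two 1 (by norm_num)) {u 0, u 2} (by
    simpa using ⟨hne 1 0 (by norm_num) (by norm_num) (by norm_num), hne 1 2 (by norm_num) (by norm_num) (by norm_num)⟩)
  rw [Finset.sum_singleton] at r0 r2
  rw [Finset.sum_pair (hne 0 2 (by norm_num) (by norm_num) (by norm_num)), Basic.a_comm T (u 1) (u 0)] at r1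
  rw [Basic.a_comm T (u 2) (u 1)] at r2
  have hwp := T.w_pos (u 0)
  have hwp2 := T.w_pos (u 2)
  rw [← ej]
  rcases hshape with ⟨hw, ha⟩ | ⟨hw, hwl, ha, hal⟩ | ⟨hw, hwl, ha⟩ | ⟨h4, -⟩
  · simp only [hw 0 (by norm_num), hw 1 (by norm_num), hw 2 (by norm_num), ha 0 (by norm_num), ha 1 (by norm_num)] at *
    exact .inl ⟨trivial, trivial, trivial, trivial, trivial, by nlinarith, by nlinarith, by nlinarith⟩
  · simp only [show 3 - 1 = 2 from rfl, show 3 - 2 = 1 from rfl] at hwl hal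
    simp only [hw 0 (by norm_num), hw 1 (by norm_num), hwl, ha 0 (by norm_num), hal] at *
    exact .inr (.inl ⟨trivial, trivial, trivial, trivial, trivial, by nlinarith, by nlinarith, by nlinarith⟩)
  · simp only [show 3 - 1 = 2 from rfl] at hwl
    simp only [hw 0 (by norm_num), hw 1 (by norm_num), hwl, ha 0 (by norm_num), ha 1 (by norm_num)] at *
    exact .inr (.inr ⟨trivial, trivial, trivial, trivial, trivial, by nlinarith, by nlinarith, by nlinarith⟩)
  · omega

end Groth.Agent.S7341
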