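import Groth.Statements.S7342
import Groth.Agent.Lib.NumType.Proper

set_option autoImplicit false
open Finset
open Models Models.NumericalType

namespace Groth.Agent.S7342

/-- Let T be a numerical type on n indices, t ≥ 4 and n > t + 2. Then no t + 2 (-2)-indices of T,
pairwise distinct and numbered i_0, …, i_{t+1}, satisfy: a_{i_j i_{j+1}} > 0 for 1 ≤ j ≤ t - 1,
a_{i_0 i_2} > 0 and a_{i_{t-1} i_{t+1}} > 0. -/
theorem result {n : ℕ} (T : Models.NumericalType n) (t : ℕ) (ht : 4 ≤ t) (hn : t + 2 < n)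
    (v : Fin (t + 2) ↪ Fin n) (hv : ∀ j, T.IsMinusTwo (v j))
    (hchain : ∀ j j' : Fin (t + 2), 1 ≤ j.val → j.val + 1 ≤ t → j'.val = j.val + 1 → 0 < T.a (v j) (v j'))
    (h02 : ∀ j j' : Fin (t + 2), j.val = 0 → j'.val = 2 → 0 < T.a (v j) (v j'))
    (hlast : ∀ j j' : Fin (t + 2), j.val = t - 1 → j'.val = t + 1 → 0 < T.a (v j) (v j')) : False := by
  open Groth.Agent.Lib.NumType Groth.Agent.Lib.NumType.Proper Groth.Agent.Lib.NumType.Paths in
  have hp : Path T t (fun i => seq v (i + 1)) := by
    refine ⟨fun i j hi hj e => ?_, fun i hi => hv _, fun i hi => ?_⟩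
    · have := congrArg Fin.val (v.injective ((seq_val v (show i + 1 < t + 2 by omega)).symm.trans
        (e.trans (seq_val v (show j + 1 < t + 2 by omega)))))
      simp at this; omega
    · rw [seq_val v (show i + 1 < t + 2 by omega), seq_val v (show i + 1 + 1 < t + 2 by omega)]
      exact hchain _ _ (by simp) (by simp; omega) rfl
  have hne : ∀ j : Fin (t + 2), ((j : ℕ) = 0 ∨ (j : ℕ) = t + 1) → ∀ i, i < t → seq v (i + 1) ≠ v j := by
    intro j hj i hi e
    rw [seq_val v (show i + 1 < t + 2 by omega)] at e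
    have := congrArg Fin.val (v.injective e)
    simp at this; omega
  have := (hp.fork_fork_type (y := v ⟨0, by omega⟩) (z := v ⟨t + 1, by omega⟩) (by omega) (hv _) (hv _)
    (fun e => by have := congrArg Fin.val (v.injective e); simp at this)
    (hne _ (.inl rfl)) (hne _ (.inr rfl))
    (by rw [seq_val v (show 1 + 1 < t + 2 by omega), Basic.a_comm]; exact h02 _ _ rfl rfl)
    (by rw [seq_val v (show t - 2 + 1 < t + 2 by omega)]
        exact hlast _ _ (by simp; omega) rfl)).1
  omega

end Groth.Agent.S7342
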