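import Groth.Statements.S7343
import Groth.Agent.Lib.NumType.Proper

set_option autoImplicit false
open Finset
open Models Models.NumericalType

namespace Groth.Agent.S7343

/-- Let T be a numerical type on n > 7 indices. Then no seven (-2)-indices of T, pairwise distinct and
named f, g, h, i, j, k, l, have a_fg, a_gh, a_ij, a_jh, a_kl and a_lh all nonzero (three chains of
length two attached to h). -/
theorem result {n : ℕ} (T : Models.NumericalType n) (hn : 7 < n)
    (v : Fin 7 ↪ Fin n) (hv : ∀ j, T.IsMinusTwo (v j))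
    (h01 : T.a (v 0) (v 1) ≠ 0) (h12 : T.a (v 1) (v 2) ≠ 0) (h34 : T.a (v 3) (v 4) ≠ 0)
    (h42 : T.a (v 4) (v 2) ≠ 0) (h56 : T.a (v 5) (v 6) ≠ 0) (h62 : T.a (v 6) (v 2) ≠ 0) : False := by
  open Groth.Agent.Lib.NumType Groth.Agent.Lib.NumType.Proper Groth.Agent.Lib.NumType.Paths in
  have hne : ∀ a b : Fin 7, a ≠ b → v a ≠ v b := fun a b h e => h (v.injective e)
  have hp : Path T 5 (seq ![v 0, v 1, v 2, v 4, v 3]) := by
    refine path_seq _ (fun a b e => ?_) (fun a => ?_) (fun a b hab => ?_)
    · fin_cases a <;> fin_cases b <;> first | rfl | exact absurd e (hne _ _ (by decide))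
    · fin_cases a <;> exact hv _
    · fin_cases a <;> fin_cases b <;> simp at hab <;> simp_all [Basic.a_comm T (v 4) (v 3), Basic.a_comm T (v 4) (v 2)]
  have := (hp.e6_type (y := v 5) (z := v 6) (hv _) (hv _) (hne _ _ (by decide)) (fun i hi => by interval_cases i <;> exact hne _ _ (by decide)) (fun i hi => by interval_cases i <;> exact hne _ _ (by decide))
    (Basic.pos_of_ne_zero T (hne _ _ (by decide)) (by rw [Basic.a_comm] at h62; exact h62)) (Basic.pos_of_ne_zero T (hne _ _ (by decide)) (by rw [Basic.a_comm] at h56; exact h56))).1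
  omega

end Groth.Agent.S7343
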