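import Groth.Statements.S7344
import Groth.Agent.Lib.NumType.Proper

set_option autoImplicit false
open Finset
open Models Models.NumericalType

namespace Groth.Agent.S7344

/-- Let T be a numerical type on n > 8 indices. Then no eight (-2)-indices of T, pairwise distinct and
named e, f, g, h, i, j, k, l, have a_ef, a_fg, a_gh, a_hi, a_ij, a_jk and a_lh all nonzero (a chain
of seven, e to k, with l joined to its fourth vertex h). -/
theorem result {n : ℕ} (T : Models.NumericalType n) (hn : 8 < n)
    (v : Fin 8 ↪ Fin n) (hv : ∀ j, T.IsMinusTwo (v j))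
    (h01 : T.a (v 0) (v 1) ≠ 0) (h12 : T.a (v 1) (v 2) ≠ 0) (h23 : T.a (v 2) (v 3) ≠ 0)
    (h34 : T.a (v 3) (v 4) ≠ 0) (h45 : T.a (v 4) (v 5) ≠ 0) (h56 : T.a (v 5) (v 6) ≠ 0)
    (h73 : T.a (v 7) (v 3) ≠ 0) : False := by
  open Groth.Agent.Lib.NumType Groth.Agent.Lib.NumType.Proper Groth.Agent.Lib.NumType.Paths in
  have hne : ∀ a b : Fin 8, a ≠ b → v a ≠ v b := fun a b h e => h (v.injective e)
  have hp : Path T 7 (seq ![v 0, v 1, v 2, v 3, v 4, v 5, v 6]) := by
    refine path_seq _ (fun a b e => ?_) (fun a => ?_) (fun a b hab => ?_)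
    · fin_cases a <;> fin_cases b <;> first | rfl | exact absurd e (hne _ _ (by decide))
    · fin_cases a <;> exact hv _
    · fin_cases a <;> fin_cases b <;> simp at hab <;> simp_all [Basic.a_comm T (v 4) (v 3), Basic.a_comm T (v 4) (v 2)]
  have := (hp.e7_type (z := v 7) (hv _) (fun i hi => by interval_cases i <;> exact hne _ _ (by decide))
    (Basic.pos_of_ne_zero T (hne _ _ (by decide)) (by rw [Basic.a_comm] at h73; exact h73))).1
  omega

end Groth.Agent.S7344
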