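import Groth.Statements.S7346
import Groth.Agent.Lib.NumType.Proper

set_option autoImplicit false
open Finset
open Models Models.NumericalType

namespace Groth.Agent.S7346

/-- Classification of proper subgraphs of type D4 (one vertex joined to three others): let T be a
numerical type on n > 4 indices and i_1, …, i_4 distinct (-2)-indices with a_{12}, a_{13}, a_{14}
nonzero. Then for some integer w all w_{i_j} equal w, these intersection numbers equal w, all other
a_{i_j i_k} (j ≠ k) vanish, and 2 m_1 ≥ m_2 + m_3 + m_4, 2 m_2 ≥ m_1, 2 m_3 ≥ m_1, 2 m_4 ≥ m_1. -/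
theorem result {n : ℕ} (T : Models.NumericalType n) (hn : 4 < n)
    (v : Fin 4 ↪ Fin n) (hv : ∀ j, T.IsMinusTwo (v j)) (h01 : T.a (v 0) (v 1) ≠ 0) (h02 : T.a (v 0) (v 2) ≠ 0) (h03 : T.a (v 0) (v 3) ≠ 0) :
    ∃ w : ℤ, (∀ j : Fin 4, T.w (v j) = w) ∧
      T.a (v 0) (v 1) = w ∧
      T.a (v 0) (v 2) = w ∧
      T.a (v 0) (v 3) = w ∧
      T.a (v 1) (v 2) = 0 ∧
      T.a (v 1) (v 3) = 0 ∧
      T.a (v 2) (v 3) = 0 ∧
      T.m (v 1) + T.m (v 2) + T.m (v 3) ≤ 2 * T.m (v 0) ∧
      T.m (v 0) ≤ 2 * T.m (v 1) ∧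
      T.m (v 0) ≤ 2 * T.m (v 2) ∧
      T.m (v 0) ≤ 2 * T.m (v 3) := by
  open Groth.Agent.Lib.NumType Groth.Agent.Lib.NumType.Proper Groth.Agent.Lib.NumType.Paths in
  have hne : ∀ a b : Fin 4, a ≠ b → v a ≠ v b := fun a b h e => h (v.injective e)
  have hp : Path T 3 (seq ![v 1, v 0, v 2]) := by
    refine path_seq _ (fun a b e => ?_) (fun a => ?_) (fun a b hab => ?_)
    · fin_cases a <;> fin_cases b <;> first | rfl | exact absurd e (hne _ _ (by decide))
    · fin_cases a <;> exact hv _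
    · fin_cases a <;> fin_cases b <;> simp at hab <;> simp_all [Basic.a_comm T (v 1) (v 0)]
  obtain ⟨w, ⟨hw, ha⟩, hwz, haz, hnc, hzn⟩ := tree_shape hp (hv 3) (k := 1)
    (fun i hi => by interval_cases i <;> exact hne _ _ (by decide)) (by norm_num) (by norm_num) (by omega)
    (by exact h03)
  have w1 : T.w (v 1) = w := hw 0 (by norm_num)
  have w0 : T.w (v 0) = w := hw 1 (by norm_num)
  have w2 : T.w (v 2) = w := hw 2 (by norm_num)
  have a10 : T.a (v 1) (v 0) = w := ha 0 (by norm_num)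
  have a01 : T.a (v 0) (v 1) = w := Basic.a_comm T (v 1) (v 0) ▸ a10
  have a02 : T.a (v 0) (v 2) = w := ha 1 (by norm_num)
  have a20 : T.a (v 2) (v 0) = w := Basic.a_comm T (v 0) (v 2) ▸ a02
  have a03 : T.a (v 0) (v 3) = w := haz
  have a30 : T.a (v 3) (v 0) = w := Basic.a_comm T (v 0) (v 3) ▸ a03
  have r0 := row_le (hv 0) {v 1, v 2, v 3} (by simp [v.injective.eq_iff])
  rw [Finset.sum_insert (by simp [v.injective.eq_iff]), Finset.sum_pair (hne _ _ (by decide)), a01, a02, a03, w0] at r0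
  have r1 := row_le (hv 1) {v 0} (by simp [v.injective.eq_iff])
  rw [Finset.sum_singleton, a10, w1] at r1
  have r2 := row_le (hv 2) {v 0} (by simp [v.injective.eq_iff])
  rw [Finset.sum_singleton, a20, w2] at r2
  have r3 := row_le (hv 3) {v 0} (by simp [v.injective.eq_iff])
  rw [Finset.sum_singleton, a30, hwz] at r3
  have hw0 : 0 < w := hwz ▸ T.w_pos _
  refine ⟨w, fun j => by fin_cases j <;> first | exact hwz | exact w1 | exact w0 | exact w2, a01, a02, a03, hnc 0 2 (by norm_num) (by norm_num), hzn 0 (by norm_num) (by norm_num), hzn 2 (by norm_num) (by norm_num), ?_, ?_, ?_, ?_⟩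
  all_goals nlinarith

end Groth.Agent.S7346
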