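import Groth.Statements.S7347
import Groth.Agent.Lib.NumType.Proper

set_option autoImplicit false
open Finset
open Models Models.NumericalType

namespace Groth.Agent.S7347

/-- Classification of proper subgraphs of type D5 (a chain i_1 i_2 i_3 with i_4 and i_5 both joined to
i_3): let T be a numerical type on n > 5 indices and i_1, …, i_5 distinct (-2)-indices with a_{12},
a_{23}, a_{34}, a_{35} nonzero. Then for some integer w all w_{i_j} equal w, these intersection
numbers equal w, all other a_{i_j i_k} (j ≠ k) vanish, and 2 m_1 ≥ m_2, 2 m_2 ≥ m_1 + m_3, 2 m_3 ≥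
m_2 + m_4 + m_5, 2 m_4 ≥ m_3, 2 m_5 ≥ m_3. -/
theorem result {n : ℕ} (T : Models.NumericalType n) (hn : 5 < n)
    (v : Fin 5 ↪ Fin n) (hv : ∀ j, T.IsMinusTwo (v j)) (h01 : T.a (v 0) (v 1) ≠ 0) (h12 : T.a (v 1) (v 2) ≠ 0) (h23 : T.a (v 2) (v 3) ≠ 0) (h24 : T.a (v 2) (v 4) ≠ 0) :
    ∃ w : ℤ, (∀ j : Fin 5, T.w (v j) = w) ∧
      T.a (v 0) (v 1) = w ∧
      T.a (v 1) (v 2) = w ∧
      T.a (v 2) (v 3) = w ∧
      T.a (v 2) (v 4) = w ∧
      T.a (v 0) (v 2) = 0 ∧
      T.a (v 0) (v 3) = 0 ∧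
      T.a (v 0) (v 4) = 0 ∧
      T.a (v 1) (v 3) = 0 ∧
      T.a (v 1) (v 4) = 0 ∧
      T.a (v 3) (v 4) = 0 ∧
      T.m (v 1) ≤ 2 * T.m (v 0) ∧
      T.m (v 0) + T.m (v 2) ≤ 2 * T.m (v 1) ∧
      T.m (v 1) + T.m (v 3) + T.m (v 4) ≤ 2 * T.m (v 2) ∧
      T.m (v 2) ≤ 2 * T.m (v 3) ∧
      T.m (v 2) ≤ 2 * T.m (v 4) := by
  open Groth.Agent.Lib.NumType Groth.Agent.Lib.NumType.Proper Groth.Agent.Lib.NumType.Paths in
  have hne : ∀ a b : Fin 5, a ≠ b → v a ≠ v b := fun a b h e => h (v.injective e)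
  have hp : Path T 4 (seq ![v 0, v 1, v 2, v 3]) := by
    refine path_seq _ (fun a b e => ?_) (fun a => ?_) (fun a b hab => ?_)
    · fin_cases a <;> fin_cases b <;> first | rfl | exact absurd e (hne _ _ (by decide))
    · fin_cases a <;> exact hv _
    · fin_cases a <;> fin_cases b <;> simp at hab <;> simp_all [Basic.a_comm T (v 1) (v 0)]
  obtain ⟨w, ⟨hw, ha⟩, hwz, haz, hnc, hzn⟩ := tree_shape hp (hv 4) (k := 2)
    (fun i hi => by interval_cases i <;> exact hne _ _ (by decide)) (by norm_num) (by norm_num) (by omega)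
    (by exact h24)
  have w0 : T.w (v 0) = w := hw 0 (by norm_num)
  have w1 : T.w (v 1) = w := hw 1 (by norm_num)
  have w2 : T.w (v 2) = w := hw 2 (by norm_num)
  have w3 : T.w (v 3) = w := hw 3 (by norm_num)
  have a01 : T.a (v 0) (v 1) = w := ha 0 (by norm_num)
  have a10 : T.a (v 1) (v 0) = w := Basic.a_comm T (v 0) (v 1) ▸ a01
  have a12 : T.a (v 1) (v 2) = w := ha 1 (by norm_num)
  have a21 : T.a (v 2) (v 1) = w := Basic.a_comm T (v 1) (v 2) ▸ a12
  have a23 : T.a (v 2) (v 3) = w := ha 2 (by norm_num)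
  have a32 : T.a (v 3) (v 2) = w := Basic.a_comm T (v 2) (v 3) ▸ a23
  have a24 : T.a (v 2) (v 4) = w := haz
  have a42 : T.a (v 4) (v 2) = w := Basic.a_comm T (v 2) (v 4) ▸ a24
  have r0 := row_le (hv 0) {v 1} (by simp [v.injective.eq_iff])
  rw [Finset.sum_singleton, a01, w0] at r0
  have r1 := row_le (hv 1) {v 0, v 2} (by simp [v.injective.eq_iff])
  rw [Finset.sum_pair (hne _ _ (by decide)), a10, a12, w1] at r1
  have r2 := row_le (hv 2) {v 1, v 3, v 4} (by simp [v.injective.eq_iff])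
  rw [Finset.sum_insert (by simp [v.injective.eq_iff]), Finset.sum_pair (hne _ _ (by decide)), a21, a23, a24, w2] at r2
  have r3 := row_le (hv 3) {v 2} (by simp [v.injective.eq_iff])
  rw [Finset.sum_singleton, a32, w3] at r3
  have r4 := row_le (hv 4) {v 2} (by simp [v.injective.eq_iff])
  rw [Finset.sum_singleton, a42, hwz] at r4
  have hw0 : 0 < w := hwz ▸ T.w_pos _
  refine ⟨w, fun j => by fin_cases j <;> first | exact hwz | exact w0 | exact w1 | exact w2 | exact w3, a01, a12, a23, a24, hnc 0 2 (by norm_num) (by norm_num), hnc 0 3 (by norm_num) (by norm_num), hzn 0 (by norm_num) (by norm_num), hnc 1 3 (by norm_num) (by norm_num), hzn 1 (by norm_num) (by norm_num), hzn 3 (by norm_num) (by norm_num), ?_, ?_, ?_, ?_, ?_⟩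
  all_goals nlinarith

end Groth.Agent.S7347
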