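import Groth.Statements.S7348
import Groth.Agent.Lib.NumType.Proper

set_option autoImplicit false
open Finset
open Models Models.NumericalType

namespace Groth.Agent.S7348

/-- Classification of proper subgraphs of type E6 (a chain i_1 … i_5 with i_6 joined to i_3): let T be a
numerical type on n > 6 indices and i_1, …, i_6 distinct (-2)-indices with a_{12}, a_{23}, a_{34},
a_{45}, a_{36} nonzero. Then for some integer w all w_{i_j} equal w, these intersection numbers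
equal w, all other a_{i_j i_k} (j ≠ k) vanish, and 2 m_1 ≥ m_2, 2 m_2 ≥ m_1 + m_3, 2 m_3 ≥ m_2 + m_4
+ m_6, 2 m_4 ≥ m_3 + m_5, 2 m_5 ≥ m_4, 2 m_6 ≥ m_3. (The published list of inequalities has 2 m_5 ≥
m_3 where the intersection matrix gives 2 m_5 ≥ m_4; the former fails for the extended E8
configuration of multiplicities 4, 5, 6, 4, 2 with 3 attached to the third vertex, so 2 m_5 ≥ m_4 is
stated.) -/
theorem result {n : ℕ} (T : Models.NumericalType n) (hn : 6 < n)
    (v : Fin 6 ↪ Fin n) (hv : ∀ j, T.IsMinusTwo (v j)) (h01 : T.a (v 0) (v 1) ≠ 0) (h12 : T.a (v 1) (v 2) ≠ 0) (h23 : T.a (v 2) (v 3) ≠ 0) (h34 : T.a (v 3) (v 4) ≠ 0) (h25 : T.a (v 2) (v 5) ≠ 0) :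
    ∃ w : ℤ, (∀ j : Fin 6, T.w (v j) = w) ∧
      T.a (v 0) (v 1) = w ∧
      T.a (v 1) (v 2) = w ∧
      T.a (v 2) (v 3) = w ∧
      T.a (v 3) (v 4) = w ∧
      T.a (v 2) (v 5) = w ∧
      T.a (v 0) (v 2) = 0 ∧
      T.a (v 0) (v 3) = 0 ∧
      T.a (v 0) (v 4) = 0 ∧
      T.a (v 0) (v 5) = 0 ∧
      T.a (v 1) (v 3) = 0 ∧
      T.a (v 1) (v 4) = 0 ∧
      T.a (v 1) (v 5) = 0 ∧
      T.a (v 2) (v 4) = 0 ∧
      T.a (v 3) (v 5) = 0 ∧
      T.a (v 4) (v 5) = 0 ∧
      T.m (v 1) ≤ 2 * T.m (v 0) ∧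
      T.m (v 0) + T.m (v 2) ≤ 2 * T.m (v 1) ∧
      T.m (v 1) + T.m (v 3) + T.m (v 5) ≤ 2 * T.m (v 2) ∧
      T.m (v 2) + T.m (v 4) ≤ 2 * T.m (v 3) ∧
      T.m (v 3) ≤ 2 * T.m (v 4) ∧
      T.m (v 2) ≤ 2 * T.m (v 5) := by
  open Groth.Agent.Lib.NumType Groth.Agent.Lib.NumType.Proper Groth.Agent.Lib.NumType.Paths in
  have hne : ∀ a b : Fin 6, a ≠ b → v a ≠ v b := fun a b h e => h (v.injective e)
  have hp : Path T 5 (seq ![v 0, v 1, v 2, v 3, v 4]) := by
    refine path_seq _ (fun a b e => ?_) (fun a => ?_) (fun a b hab => ?_)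
    · fin_cases a <;> fin_cases b <;> first | rfl | exact absurd e (hne _ _ (by decide))
    · fin_cases a <;> exact hv _
    · fin_cases a <;> fin_cases b <;> simp at hab <;> simp_all [Basic.a_comm T (v 1) (v 0)]
  obtain ⟨w, ⟨hw, ha⟩, hwz, haz, hnc, hzn⟩ := tree_shape hp (hv 5) (k := 2)
    (fun i hi => by interval_cases i <;> exact hne _ _ (by decide)) (by norm_num) (by norm_num) (by omega)
    (by exact h25)
  have w0 : T.w (v 0) = w := hw 0 (by norm_num)
  have w1 : T.w (v 1) = w := hw 1 (by norm_num)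
  have w2 : T.w (v 2) = w := hw 2 (by norm_num)
  have w3 : T.w (v 3) = w := hw 3 (by norm_num)
  have w4 : T.w (v 4) = w := hw 4 (by norm_num)
  have a01 : T.a (v 0) (v 1) = w := ha 0 (by norm_num)
  have a10 : T.a (v 1) (v 0) = w := Basic.a_comm T (v 0) (v 1) ▸ a01
  have a12 : T.a (v 1) (v 2) = w := ha 1 (by norm_num)
  have a21 : T.a (v 2) (v 1) = w := Basic.a_comm T (v 1) (v 2) ▸ a12
  have a23 : T.a (v 2) (v 3) = w := ha 2 (by norm_num)
  have a32 : T.a (v 3) (v 2) = w := Basic.a_comm T (v 2) (v 3) ▸ a23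
  have a34 : T.a (v 3) (v 4) = w := ha 3 (by norm_num)
  have a43 : T.a (v 4) (v 3) = w := Basic.a_comm T (v 3) (v 4) ▸ a34
  have a25 : T.a (v 2) (v 5) = w := haz
  have a52 : T.a (v 5) (v 2) = w := Basic.a_comm T (v 2) (v 5) ▸ a25
  have r0 := row_le (hv 0) {v 1} (by simp [v.injective.eq_iff])
  rw [Finset.sum_singleton, a01, w0] at r0
  have r1 := row_le (hv 1) {v 0, v 2} (by simp [v.injective.eq_iff])
  rw [Finset.sum_pair (hne _ _ (by decide)), a10, a12, w1] at r1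
  have r2 := row_le (hv 2) {v 1, v 3, v 5} (by simp [v.injective.eq_iff])
  rw [Finset.sum_insert (by simp [v.injective.eq_iff]), Finset.sum_pair (hne _ _ (by decide)), a21, a23, a25, w2] at r2
  have r3 := row_le (hv 3) {v 2, v 4} (by simp [v.injective.eq_iff])
  rw [Finset.sum_pair (hne _ _ (by decide)), a32, a34, w3] at r3
  have r4 := row_le (hv 4) {v 3} (by simp [v.injective.eq_iff])
  rw [Finset.sum_singleton, a43, w4] at r4
  have r5 := row_le (hv 5) {v 2} (by simp [v.injective.eq_iff])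
  rw [Finset.sum_singleton, a52, hwz] at r5
  have hw0 : 0 < w := hwz ▸ T.w_pos _
  refine ⟨w, fun j => by fin_cases j <;> first | exact hwz | exact w0 | exact w1 | exact w2 | exact w3 | exact w4, a01, a12, a23, a34, a25, hnc 0 2 (by norm_num) (by norm_num), hnc 0 3 (by norm_num) (by norm_num), hnc 0 4 (by norm_num) (by norm_num), hzn 0 (by norm_num) (by norm_num), hnc 1 3 (by norm_num) (by norm_num), hnc 1 4 (by norm_num) (by norm_num), hzn 1 (by norm_num) (by norm_num), hnc 2 4 (by norm_num) (by norm_num), hzn 3 (by norm_num) (by norm_num), hzn 4 (by norm_num) (by norm_num), ?_, ?_, ?_, ?_, ?_, ?_⟩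
  all_goals nlinarith

end Groth.Agent.S7348
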