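import Groth.Statements.S7350
import Groth.Agent.Lib.NumType.Proper

set_option autoImplicit false
open Finset
open Models Models.NumericalType

namespace Groth.Agent.S7350

/-- Classification of proper subgraphs of type E8 (a chain i_1 … i_7 with i_8 joined to i_5): let T be a
numerical type on n > 8 indices and i_1, …, i_8 distinct (-2)-indices with a_{12}, a_{23}, a_{34},
a_{45}, a_{56}, a_{67}, a_{58} nonzero. Then for some integer w all w_{i_j} equal w, these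
intersection numbers equal w, all other a_{i_j i_k} (j ≠ k) vanish, and 2 m_1 ≥ m_2, 2 m_2 ≥ m_1 +
m_3, 2 m_3 ≥ m_2 + m_4, 2 m_4 ≥ m_3 + m_5, 2 m_5 ≥ m_4 + m_6 + m_8, 2 m_6 ≥ m_5 + m_7, 2 m_7 ≥ m_6,
2 m_8 ≥ m_5. (The published statement lists a_{65} and a_{57} among the nonzero entries, which
contradicts its own conclusion a_{57} = 0; this row uses the edges of the E8 graph, a_{67} and
a_{58}, as the pictured graph and the matrix give them.) -/
theorem result {n : ℕ} (T : Models.NumericalType n) (hn : 8 < n)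
    (v : Fin 8 ↪ Fin n) (hv : ∀ j, T.IsMinusTwo (v j)) (h01 : T.a (v 0) (v 1) ≠ 0) (h12 : T.a (v 1) (v 2) ≠ 0) (h23 : T.a (v 2) (v 3) ≠ 0) (h34 : T.a (v 3) (v 4) ≠ 0) (h45 : T.a (v 4) (v 5) ≠ 0) (h56 : T.a (v 5) (v 6) ≠ 0) (h47 : T.a (v 4) (v 7) ≠ 0) :
    ∃ w : ℤ, (∀ j : Fin 8, T.w (v j) = w) ∧
      T.a (v 0) (v 1) = w ∧
      T.a (v 1) (v 2) = w ∧
      T.a (v 2) (v 3) = w ∧
      T.a (v 3) (v 4) = w ∧
      T.a (v 4) (v 5) = w ∧
      T.a (v 5) (v 6) = w ∧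
      T.a (v 4) (v 7) = w ∧
      T.a (v 0) (v 2) = 0 ∧
      T.a (v 0) (v 3) = 0 ∧
      T.a (v 0) (v 4) = 0 ∧
      T.a (v 0) (v 5) = 0 ∧
      T.a (v 0) (v 6) = 0 ∧
      T.a (v 0) (v 7) = 0 ∧
      T.a (v 1) (v 3) = 0 ∧
      T.a (v 1) (v 4) = 0 ∧
      T.a (v 1) (v 5) = 0 ∧
      T.a (v 1) (v 6) = 0 ∧
      T.a (v 1) (v 7) = 0 ∧
      T.a (v 2) (v 4) = 0 ∧
      T.a (v 2) (v 5) = 0 ∧
      T.a (v 2) (v 6) = 0 ∧
      T.a (v 2) (v 7) = 0 ∧
      T.a (v 3) (v 5) = 0 ∧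
      T.a (v 3) (v 6) = 0 ∧
      T.a (v 3) (v 7) = 0 ∧
      T.a (v 4) (v 6) = 0 ∧
      T.a (v 5) (v 7) = 0 ∧
      T.a (v 6) (v 7) = 0 ∧
      T.m (v 1) ≤ 2 * T.m (v 0) ∧
      T.m (v 0) + T.m (v 2) ≤ 2 * T.m (v 1) ∧
      T.m (v 1) + T.m (v 3) ≤ 2 * T.m (v 2) ∧
      T.m (v 2) + T.m (v 4) ≤ 2 * T.m (v 3) ∧
      T.m (v 3) + T.m (v 5) + T.m (v 7) ≤ 2 * T.m (v 4) ∧
      T.m (v 4) + T.m (v 6) ≤ 2 * T.m (v 5) ∧
      T.m (v 5) ≤ 2 * T.m (v 6) ∧
      T.m (v 4) ≤ 2 * T.m (v 7) := by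
  open Groth.Agent.Lib.NumType Groth.Agent.Lib.NumType.Proper Groth.Agent.Lib.NumType.Paths in
  have hne : ∀ a b : Fin 8, a ≠ b → v a ≠ v b := fun a b h e => h (v.injective e)
  have hp : Path T 7 (seq ![v 0, v 1, v 2, v 3, v 4, v 5, v 6]) := by
    refine path_seq _ (fun a b e => ?_) (fun a => ?_) (fun a b hab => ?_)
    · fin_cases a <;> fin_cases b <;> first | rfl | exact absurd e (hne _ _ (by decide))
    · fin_cases a <;> exact hv _
    · fin_cases a <;> fin_cases b <;> simp at hab <;> simp_all [Basic.a_comm T (v 1) (v 0)]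
  obtain ⟨w, ⟨hw, ha⟩, hwz, haz, hnc, hzn⟩ := tree_shape hp (hv 7) (k := 4)
    (fun i hi => by interval_cases i <;> exact hne _ _ (by decide)) (by norm_num) (by norm_num) (by omega)
    (by exact h47)
  have w0 : T.w (v 0) = w := hw 0 (by norm_num)
  have w1 : T.w (v 1) = w := hw 1 (by norm_num)
  have w2 : T.w (v 2) = w := hw 2 (by norm_num)
  have w3 : T.w (v 3) = w := hw 3 (by norm_num)
  have w4 : T.w (v 4) = w := hw 4 (by norm_num)
  have w5 : T.w (v 5) = w := hw 5 (by norm_num)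
  have w6 : T.w (v 6) = w := hw 6 (by norm_num)
  have a01 : T.a (v 0) (v 1) = w := ha 0 (by norm_num)
  have a10 : T.a (v 1) (v 0) = w := Basic.a_comm T (v 0) (v 1) ▸ a01
  have a12 : T.a (v 1) (v 2) = w := ha 1 (by norm_num)
  have a21 : T.a (v 2) (v 1) = w := Basic.a_comm T (v 1) (v 2) ▸ a12
  have a23 : T.a (v 2) (v 3) = w := ha 2 (by norm_num)
  have a32 : T.a (v 3) (v 2) = w := Basic.a_comm T (v 2) (v 3) ▸ a23
  have a34 : T.a (v 3) (v 4) = w := ha 3 (by norm_num)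
  have a43 : T.a (v 4) (v 3) = w := Basic.a_comm T (v 3) (v 4) ▸ a34
  have a45 : T.a (v 4) (v 5) = w := ha 4 (by norm_num)
  have a54 : T.a (v 5) (v 4) = w := Basic.a_comm T (v 4) (v 5) ▸ a45
  have a56 : T.a (v 5) (v 6) = w := ha 5 (by norm_num)
  have a65 : T.a (v 6) (v 5) = w := Basic.a_comm T (v 5) (v 6) ▸ a56
  have a47 : T.a (v 4) (v 7) = w := haz
  have a74 : T.a (v 7) (v 4) = w := Basic.a_comm T (v 4) (v 7) ▸ a47
  have r0 := row_le (hv 0) {v 1} (by simp [v.injective.eq_iff])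
  rw [Finset.sum_singleton, a01, w0] at r0
  have r1 := row_le (hv 1) {v 0, v 2} (by simp [v.injective.eq_iff])
  rw [Finset.sum_pair (hne _ _ (by decide)), a10, a12, w1] at r1
  have r2 := row_le (hv 2) {v 1, v 3} (by simp [v.injective.eq_iff])
  rw [Finset.sum_pair (hne _ _ (by decide)), a21, a23, w2] at r2
  have r3 := row_le (hv 3) {v 2, v 4} (by simp [v.injective.eq_iff])
  rw [Finset.sum_pair (hne _ _ (by decide)), a32, a34, w3] at r3
  have r4 := row_le (hv 4) {v 3, v 5, v 7} (by simp [v.injective.eq_iff])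
  rw [Finset.sum_insert (by simp [v.injective.eq_iff]), Finset.sum_pair (hne _ _ (by decide)), a43, a45, a47, w4] at r4
  have r5 := row_le (hv 5) {v 4, v 6} (by simp [v.injective.eq_iff])
  rw [Finset.sum_pair (hne _ _ (by decide)), a54, a56, w5] at r5
  have r6 := row_le (hv 6) {v 5} (by simp [v.injective.eq_iff])
  rw [Finset.sum_singleton, a65, w6] at r6
  have r7 := row_le (hv 7) {v 4} (by simp [v.injective.eq_iff])
  rw [Finset.sum_singleton, a74, hwz] at r7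
  have hw0 : 0 < w := hwz ▸ T.w_pos _
  refine ⟨w, fun j => by fin_cases j <;> first | exact hwz | exact w0 | exact w1 | exact w2 | exact w3 | exact w4 | exact w5 | exact w6, a01, a12, a23, a34, a45, a56, a47, hnc 0 2 (by norm_num) (by norm_num), hnc 0 3 (by norm_num) (by norm_num), hnc 0 4 (by norm_num) (by norm_num), hnc 0 5 (by norm_num) (by norm_num), hnc 0 6 (by norm_num) (by norm_num), hzn 0 (by norm_num) (by norm_num), hnc 1 3 (by norm_num) (by norm_num), hnc 1 4 (by norm_num) (by norm_num), hnc 1 5 (by norm_num) (by norm_num), hnc 1 6 (by norm_num) (by norm_num), hzn 1 (by norm_num) (by norm_num), hnc 2 4 (by norm_num) (by norm_num), hnc 2 5 (by norm_num) (by norm_num), hnc 2 6 (by norm_num) (by norm_num), hzn 2 (by norm_num) (by norm_num), hnc 3 5 (by norm_num) (by norm_num), hnc 3 6 (by norm_num) (by norm_num), hzn 3 (by norm_num) (by norm_num), hnc 4 6 (by norm_num) (by norm_num), hzn 5 (by norm_num) (by norm_num),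 hzn 6 (by norm_num) (by norm_num), ?_, ?_, ?_, ?_, ?_, ?_, ?_, ?_⟩
  all_goals nlinarith

end Groth.Agent.S7350
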