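import Groth.Statements.S7352
import Groth.Agent.Lib.NumType.Proper

set_option autoImplicit false
open Finset
open Models Models.NumericalType

namespace Groth.Agent.S7352

/-- Classification of proper subgraphs which are chains of four vertices: let T be a numerical type on n
> 4 indices and i_1, …, i_4 distinct (-2)-indices with a_{i_j i_{j+1}} nonzero for j < 4. Then
a_{i_j i_l} = 0 for |j - l| ≥ 2 and, after possibly reversing the order of the indices, for some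
integer w one of the following holds: (A4) w = (w, w, w, w), consecutive a = (w, w, w), with 2m_1 ≥
m_2, 2m_2 ≥ m_1 + m_3, 2m_3 ≥ m_2 + m_4, 2m_4 ≥ m_3; (C4) w = (w, w, w, 2w), consecutive a = (w, w,
2w), with 2m_1 ≥ m_2, 2m_2 ≥ m_1 + m_3, 2m_3 ≥ m_2 + 2m_4, 2m_4 ≥ m_3; (B4) w = (2w, 2w, 2w, w),
consecutive a = (2w, 2w, 2w), with 2m_1 ≥ m_2, 2m_2 ≥ m_1 + m_3, 2m_3 ≥ m_2 + m_4, m_4 ≥ m_3; (F4) w
= (w, w, 2w, 2w), consecutive a = (w, 2w, 2w), with 2m_1 ≥ m_2, 2m_2 ≥ m_1 + 2m_3, 2m_3 ≥ m_2 + m_4,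
2m_4 ≥ m_3. -/
theorem result {n : ℕ} (T : Models.NumericalType n) (hn : 4 < n)
    (v : Fin 4 ↪ Fin n) (hv : ∀ j, T.IsMinusTwo (v j)) (h01 : T.a (v 0) (v 1) ≠ 0) (h12 : T.a (v 1) (v 2) ≠ 0) (h23 : T.a (v 2) (v 3) ≠ 0) :
    (T.a (v 0) (v 2) = 0 ∧ T.a (v 0) (v 3) = 0 ∧ T.a (v 1) (v 3) = 0) ∧
    ∃ (u : Fin 4 → Fin n) (w : ℤ), ((∀ j, u j = v j) ∨ (∀ j, u j = v (Fin.rev j))) ∧
      ((T.w (u 0) = w ∧ T.w (u 1) = w ∧ T.w (u 2) = w ∧ T.w (u 3) = w ∧ T.a (u 0) (u 1) = w ∧ T.a (u 1) (u 2) = w ∧ T.a (u 2) (u 3) = w ∧ T.m (u 1) ≤ 2 * T.m (u 0) ∧ T.m (u 0) + T.m (u 2) ≤ 2 * T.m (u 1) ∧ T.m (u 1) + T.m (u 3) ≤ 2 * T.m (u 2) ∧ T.m (u 2) ≤ 2 * T.m (u 3)) ∨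
      (T.w (u 0) = w ∧ T.w (u 1) = w ∧ T.w (u 2) = w ∧ T.w (u 3) = 2 * w ∧ T.a (u 0) (u 1) = w ∧ T.a (u 1) (u 2) = w ∧ T.a (u 2) (u 3) = 2 * w ∧ T.m (u 1) ≤ 2 * T.m (u 0) ∧ T.m (u 0) + T.m (u 2) ≤ 2 * T.m (u 1) ∧ T.m (u 1) + 2 * T.m (u 3) ≤ 2 * T.m (u 2) ∧ T.m (u 2) ≤ 2 * T.m (u 3)) ∨
      (T.w (u 0) = 2 * w ∧ T.w (u 1) = 2 * w ∧ T.w (u 2) = 2 * w ∧ T.w (u 3) = w ∧ T.a (u 0) (u 1) = 2 * w ∧ T.a (u 1) (u 2) = 2 * w ∧ T.a (u 2) (u 3) = 2 * w ∧ T.m (u 1) ≤ 2 * T.m (u 0) ∧ T.m (u 0) + T.m (u 2) ≤ 2 * T.m (u 1) ∧ T.m (u 1) + T.m (u 3) ≤ 2 * T.m (u 2) ∧ T.m (u 2) ≤ T.m (u 3)) ∨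
      (T.w (u 0) = w ∧ T.w (u 1) = w ∧ T.w (u 2) = 2 * w ∧ T.w (u 3) = 2 * w ∧ T.a (u 0) (u 1) = w ∧ T.a (u 1) (u 2) = 2 * w ∧ T.a (u 2) (u 3) = 2 * w ∧ T.m (u 1) ≤ 2 * T.m (u 0) ∧ T.m (u 0) + 2 * T.m (u 2) ≤ 2 * T.m (u 1) ∧ T.m (u 1) + T.m (u 3) ≤ 2 * T.m (u 2) ∧ T.m (u 2) ≤ 2 * T.m (u 3))) := by
  open Groth.Agent.Lib.NumType Groth.Agent.Lib.NumType.Proper Groth.Agent.Lib.NumType.Paths in
  have hne : ∀ a b : Fin 4, a ≠ b → v a ≠ v b := fun a b h e => h (v.injective e)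
  have hp : Path T 4 (seq v) := path_seq _ v.injective hv (fun a b hab => by
    fin_cases a <;> fin_cases b <;> simp at hab <;> assumption)
  have hnc : ∀ a b : Fin 4, a.val + 1 < b.val → T.a (v a) (v b) = 0 := fun a b h => by
    have := no_chord hp hn h b.isLt
    rwa [seq_val v a.isLt, seq_val v b.isLt] at this
  obtain ⟨u, w, hrev, hu, hshape⟩ := chain_shape hp hn (by norm_num)
  refine ⟨⟨hnc 0 2 (by simp), hnc 0 3 (by simp), hnc 1 3 (by simp)⟩, fun j => u j, w, ?_, ?_⟩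
  · rcases hrev with h | h
    · exact .inl fun j => (h j j.isLt).trans (seq_val v j.isLt)
    · exact .inr fun j => (h j j.isLt).trans ((seq_val v (show 4 - 1 - (j : ℕ) < 4 by omega)).trans
        (congrArg v (Fin.ext (by simp only [Fin.val_rev]; omega))))
  have hu' : ∀ a b, a < 4 → b < 4 → a ≠ b → u a ≠ u b := fun a b ha hb h e => h (hu.inj a b ha hb e)
  have r0 := row_le (hu.two 0 (by norm_num)) {u 1} (by simpa using hu' 0 1 (by norm_num) (by norm_num) (by norm_num))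
  rw [Finset.sum_singleton] at r0
  have r1 := row_le (hu.two 1 (by norm_num)) {u 0, u 2} (by
    simpa using ⟨hu' 1 0 (by norm_num) (by norm_num) (by norm_num), hu' 1 2 (by norm_num) (by norm_num) (by norm_num)⟩)
  rw [Finset.sum_pair (hu' 0 2 (by norm_num) (by norm_num) (by norm_num)), Basic.a_comm T (u 1) (u 0)] at r1
  have r2 := row_le (hu.two 2 (by norm_num)) {u 1, u 3} (by
    simpa using ⟨hu' 2 1 (by norm_num) (by norm_num) (by norm_num), hu' 2 3 (by norm_num) (by norm_num) (by norm_num)⟩)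
  rw [Finset.sum_pair (hu' 1 3 (by norm_num) (by norm_num) (by norm_num)), Basic.a_comm T (u 2) (u 1)] at r2
  have r3 := row_le (hu.two 3 (by norm_num)) {u 2} (by simpa using hu' 3 2 (by norm_num) (by norm_num) (by norm_num))
  rw [Finset.sum_singleton, Basic.a_comm T (u 3) (u 2)] at r3
  have hw0 := T.w_pos (u 0)
  have hwl0 := T.w_pos (u 3)
  simp only [Fin.coe_ofNat_eq_mod, Nat.reduceMod, Fin.val_zero, Fin.val_one, Fin.val_two]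
  rcases hshape with ⟨hw, ha⟩ | ⟨hw, hwl, ha, hal⟩ | ⟨hw, hwl, ha⟩ | ⟨h4, f0, f1, f2, f3, g0, g1, g2⟩
  · simp only [hw 0 (by norm_num), hw 1 (by norm_num), hw 2 (by norm_num), hw 3 (by norm_num), ha 0 (by norm_num), ha 1 (by norm_num), ha 2 (by norm_num)] at *
    refine .inl ⟨?_, ?_, ?_, ?_, ?_, ?_, ?_, ?_, ?_, ?_, ?_⟩
    all_goals first | (simp; done) | nlinarith
  · simp only [show 4 - 1 = 3 from rfl, show 4 - 2 = 2 from rfl] at hwl hal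
    simp only [hw 0 (by norm_num), hw 1 (by norm_num), hw 2 (by norm_num), hwl, ha 0 (by norm_num), ha 1 (by norm_num), hal] at *
    refine .inr (.inl ⟨?_, ?_, ?_, ?_, ?_, ?_, ?_, ?_, ?_, ?_, ?_⟩)
    all_goals first | (simp; done) | nlinarith
  · simp only [show 4 - 1 = 3 from rfl] at hwl
    simp only [hw 0 (by norm_num), hw 1 (by norm_num), hw 2 (by norm_num), hwl, ha 0 (by norm_num), ha 1 (by norm_num), ha 2 (by norm_num)] at *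
    refine .inr (.inr (.inl ⟨?_, ?_, ?_, ?_, ?_, ?_, ?_, ?_, ?_, ?_, ?_⟩))
    all_goals first | (simp; done) | nlinarith
  · simp only [f0, f1, f2, f3, g0, g1, g2] at *
    refine .inr (.inr (.inr ⟨?_, ?_, ?_, ?_, ?_, ?_, ?_, ?_, ?_, ?_, ?_⟩))
    all_goals first | (simp; done) | nlinarith

end Groth.Agent.S7352
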