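import Groth.Statements.S7354
import Groth.Agent.Lib.NumType.Proper

set_option autoImplicit false
open Finset
open Models Models.NumericalType

namespace Groth.Agent.S7354

/-- Let T be a numerical type on n indices, t > 5 with n > t, and i_1, …, i_t distinct (-2)-indices with
a_{i_j i_{j+1}} nonzero for j = 1, …, t - 1. Then, after possibly reversing the order of the
indices, for some integer w either (A) w_{i_1} = … = w_{i_t} = w and a_{i_j i_{j+1}} = w for all j;
or (C) w_{i_1} = … = w_{i_{t-1}} = w, w_{i_t} = 2w, a_{i_j i_{j+1}} = w for j < t - 1 and a_{i_{t-1}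
i_t} = 2w; or (B) w_{i_1} = … = w_{i_{t-1}} = 2w, w_{i_t} = w and a_{i_j i_{j+1}} = 2w for all j;
and in every case a_{i_j i_k} = 0 whenever k > j + 1. -/
theorem result {n : ℕ} (T : Models.NumericalType n) (t : ℕ) (ht : 5 < t) (hn : t < n)
    (v : Fin t ↪ Fin n) (hv : ∀ j, T.IsMinusTwo (v j))
    (hchain : ∀ j j' : Fin t, j'.val = j.val + 1 → T.a (v j) (v j') ≠ 0) :
    ∃ (u : Fin t → Fin n) (w : ℤ), ((∀ j, u j = v j) ∨ (∀ j, u j = v (Fin.rev j))) ∧
      (∀ j k : Fin t, j.val + 1 < k.val → T.a (u j) (u k) = 0) ∧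
      ((∀ j : Fin t, T.w (u j) = w) ∧ (∀ j j' : Fin t, j'.val = j.val + 1 → T.a (u j) (u j') = w) ∨
        ((∀ j : Fin t, j.val + 1 < t → T.w (u j) = w) ∧ (∀ j : Fin t, j.val + 1 = t → T.w (u j) = 2 * w) ∧
          (∀ j j' : Fin t, j'.val = j.val + 1 → j'.val + 1 < t → T.a (u j) (u j') = w) ∧
          (∀ j j' : Fin t, j'.val = j.val + 1 → j'.val + 1 = t → T.a (u j) (u j') = 2 * w)) ∨
        ((∀ j : Fin t, j.val + 1 < t → T.w (u j) = 2 * w) ∧ (∀ j : Fin t, j.val + 1 = t → T.w (u j) = w) ∧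
          (∀ j j' : Fin t, j'.val = j.val + 1 → T.a (u j) (u j') = 2 * w))) := by
  open Groth.Agent.Lib.NumType Groth.Agent.Lib.NumType.Proper Groth.Agent.Lib.NumType.Paths in
  have : NeZero t := ⟨by omega⟩
  have hp : Path T t (seq v) := path_seq _ v.injective hv hchain
  obtain ⟨u, w, hrev, hu, hshape⟩ := chain_shape hp hn (by omega)
  have hjj : ∀ j j' : Fin t, j'.val = j.val + 1 → T.a (u j) (u j') = T.a (u j) (u (j + 1)) :=
    fun j j' h => by rw [h]
  refine ⟨fun j => u j, w, ?_, fun j k h => no_chord hu hn h k.isLt, ?_⟩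
  · rcases hrev with h | h
    · exact .inl fun j => (h j j.isLt).trans (seq_val v j.isLt)
    · exact .inr fun j => (h j j.isLt).trans ((seq_val v (show t - 1 - (j : ℕ) < t by omega)).trans
        (congrArg v (Fin.ext (by simp only [Fin.val_rev]; omega))))
  rcases hshape with ⟨hw, ha⟩ | ⟨hw, hwl, ha, hal⟩ | ⟨hw, hwl, ha⟩ | ⟨h4, -⟩
  · exact .inl ⟨fun j => hw j j.isLt, fun j j' h => (hjj j j' h).trans (ha j (by omega))⟩
  · refine .inr (.inl ⟨fun j h => hw j h, fun j h => ?_, fun j j' h h' => (hjj j j' h).trans (ha j (by omega)),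
      fun j j' h h' => ?_⟩)
    · simp only; rw [show (j : ℕ) = t - 1 by omega]; exact hwl
    · simp only; rw [show (j : ℕ) = t - 2 by omega, show (j' : ℕ) = t - 1 by omega]; exact hal
  · refine .inr (.inr ⟨fun j h => hw j h, fun j h => ?_, fun j j' h => (hjj j j' h).trans (ha j (by omega))⟩)
    simp only; rw [show (j : ℕ) = t - 1 by omega]; exact hwl
  · omega

end Groth.Agent.S7354
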