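import Groth.Statements.S7355
import Groth.Agent.Lib.NumType.Proper

set_option autoImplicit false
open Finset
open Models Models.NumericalType

namespace Groth.Agent.S7355

/-- Classification of proper subgraphs of type D: let T be a numerical type on n indices, t > 4 with n >
t + 1, and i_1, …, i_{t+1} distinct (-2)-indices such that a_{i_j i_{j+1}} is nonzero for j = 1, …,
t - 1 and a_{i_{t-1} i_{t+1}} is nonzero. Then for some integer w one has w_{i_1} = … = w_{i_{t+1}}
= w, a_{i_j i_{j+1}} = w for j < t, a_{i_{t-1} i_{t+1}} = w, and a_{i_j i_k} = 0 for all other pairs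
j ≠ k. -/
theorem result {n : ℕ} (T : Models.NumericalType n) (t : ℕ) (ht : 4 < t) (hn : t + 1 < n)
    (v : Fin (t + 1) ↪ Fin n) (hv : ∀ j, T.IsMinusTwo (v j))
    (hchain : ∀ j j' : Fin (t + 1), j'.val = j.val + 1 → j'.val < t → T.a (v j) (v j') ≠ 0)
    (hbranch : ∀ j j' : Fin (t + 1), j.val + 2 = t → j'.val = t → T.a (v j) (v j') ≠ 0) :
    ∃ w : ℤ, (∀ j : Fin (t + 1), T.w (v j) = w) ∧
      (∀ j j' : Fin (t + 1), j'.val = j.val + 1 → j'.val < t → T.a (v j) (v j') = w) ∧
      (∀ j j' : Fin (t + 1), j.val + 2 = t → j'.val = t → T.a (v j) (v j') = w) ∧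
      (∀ j k : Fin (t + 1), j.val < k.val → ¬ (k.val = j.val + 1 ∧ k.val < t) → ¬ (j.val + 2 = t ∧ k.val = t) →
        T.a (v j) (v k) = 0) := by
  open Groth.Agent.Lib.NumType Groth.Agent.Lib.NumType.Proper Groth.Agent.Lib.NumType.Paths in
  have hp : Path T t (seq v) := by
    refine ⟨fun i j hi hj e => ?_, fun i hi => hv _, fun i hi => ?_⟩
    · rw [seq_val v (show i < t + 1 by omega), seq_val v (show j < t + 1 by omega)] at e
      exact congrArg Fin.val (v.injective e)
    · rw [seq_val v (show i < t + 1 by omega), seq_val v (show i + 1 < t + 1 by omega)]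
      exact Basic.pos_of_ne_zero T (fun e => by have := congrArg Fin.val (v.injective e); simp at this)
        (hchain _ _ rfl hi)
  obtain ⟨w, ⟨hw, ha⟩, hwz, haz, hnc, hzn⟩ := tree_shape hp (hv ⟨t, by omega⟩) (k := t - 2)
    (fun i hi e => by
      rw [seq_val v (show i < t + 1 by omega)] at e
      have := congrArg Fin.val (v.injective e); simp at this; omega)
    (by omega) (by omega) (by omega)
    (by rw [seq_val v (show t - 2 < t + 1 by omega)]; exact hbranch _ _ (by simp; omega) rfl)
  have hs : ∀ j : Fin (t + 1), seq v j = v j := fun j => seq_val v j.isLt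
  refine ⟨w, fun j => ?_, fun j j' h h' => ?_, fun j j' h h' => ?_, fun j k h h1 h2 => ?_⟩
  · by_cases hj : j.val = t
    · rw [show j = ⟨t, by omega⟩ from Fin.ext hj]; exact hwz
    · rw [← hs j]; exact hw j (by omega)
  · rw [← hs j, ← hs j', h]; exact ha j (by omega)
  · rw [← hs j, show j' = ⟨t, by omega⟩ from Fin.ext h', show (j : ℕ) = t - 2 by omega]; exact haz
  · by_cases hk : k.val = t
    · rw [← hs j, show k = ⟨t, by omega⟩ from Fin.ext hk]
      exact hzn j (by omega) (by omega)
    · rw [← hs j, ← hs k]; exact hnc j k (by omega) (by omega)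

end Groth.Agent.S7355
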