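import Groth.Statements.S7358
import Groth.Agent.H81.CurveRes.MultDrop
-- import your own Groth.Agent.* helpers here

set_option autoImplicit false
universe u
open CategoryTheory CategoryTheory.Limits AlgebraicGeometry
open Resolve

namespace Groth.Agent.S7358

/-- Let X be a locally Noetherian scheme, Y and Z closed subschemes with ideal sheaves I_Y and I_Z, p a
closed point lying on Y and on Z, with Y integral of dimension one, the generic point of Y not on Z,
and O_{Y,p} regular; the multiplicity m_p(Y ∩ Z) is the length of the local ring of Y ∩ Z (ideal I_Y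
+ I_Z) at p. Let b : X' → X be the blowing up of X at p (in the reduced point), E its exceptional
divisor, and Y', Z' ⊂ X' the strict transforms of Y and Z, i.e. the closed subschemes whose ideals
are the kernels of b^{-1}(Y) ∖ E → X' and b^{-1}(Z) ∖ E → X'. Then (1) b induces an isomorphism Y' ≅
Y; (2) Y' meets E in exactly one point q, and m_q(Y' ∩ E) = 1; (3) if moreover q ∈ Z', then m_q(Y' ∩
Z') < m_p(Y ∩ Z). -/
theorem result (X : Scheme.{u}) [IsLocallyNoetherian X]
    (IY IZ : X.IdealSheafData) [IsIntegral IY.subscheme] (hdimY : topologicalKrullDim ↥IY.subscheme = 1)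
    (p : X) (hp : IsClosed ({p} : Set X)) (hpY : p ∈ (IY.support : Set X)) (hpZ : p ∈ (IZ.support : Set X))
    (hgen : IY.subschemeι.base (genericPoint ↥IY.subscheme) ∉ (IZ.support : Set X))
    (hreg : ∀ y : ↥IY.subscheme, IY.subschemeι.base y = p → IsRegularLocalRing (IY.subscheme.presheaf.stalk y))
    (X' : Scheme.{u}) (b : X' ⟶ X) (hb : BlowUp.IsBlowUp b (Scheme.IdealSheafData.vanishingIdeal ⟨{p}, hp⟩))
    (IY' IZ' : X'.IdealSheafData)
    (hY' : IY' = Scheme.Hom.ker ((((IY.comap b).subschemeι ⁻¹ᵁ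
        (BlowUp.exceptional b (Scheme.IdealSheafData.vanishingIdeal ⟨{p}, hp⟩)).support.compl).ι) ≫ (IY.comap b).subschemeι))
    (hZ' : IZ' = Scheme.Hom.ker ((((IZ.comap b).subschemeι ⁻¹ᵁ
        (BlowUp.exceptional b (Scheme.IdealSheafData.vanishingIdeal ⟨{p}, hp⟩)).support.compl).ι) ≫ (IZ.comap b).subschemeι)) :
    (∃ e : IY'.subscheme ≅ IY.subscheme, e.hom ≫ IY.subschemeι = IY'.subschemeι ≫ b) ∧
    (∃ q : X', {x : X' | x ∈ (IY'.support : Set X') ∧
          x ∈ ((BlowUp.exceptional b (Scheme.IdealSheafData.vanishingIdeal ⟨{p}, hp⟩)).support : Set X')} = {q} ∧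
      (∀ q1 : ↥(IY' ⊔ BlowUp.exceptional b (Scheme.IdealSheafData.vanishingIdeal ⟨{p}, hp⟩)).subscheme,
          (IY' ⊔ BlowUp.exceptional b (Scheme.IdealSheafData.vanishingIdeal ⟨{p}, hp⟩)).subschemeι.base q1 = q →
          Module.length
            ((IY' ⊔ BlowUp.exceptional b (Scheme.IdealSheafData.vanishingIdeal ⟨{p}, hp⟩)).subscheme.presheaf.stalk q1)
            ((IY' ⊔ BlowUp.exceptional b (Scheme.IdealSheafData.vanishingIdeal ⟨{p}, hp⟩)).subscheme.presheaf.stalk q1) = 1) ∧
      (q ∈ (IZ'.support : Set X') →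
        ∀ (q0 : ↥(IY ⊔ IZ).subscheme) (q1 : ↥(IY' ⊔ IZ').subscheme),
          (IY ⊔ IZ).subschemeι.base q0 = p → (IY' ⊔ IZ').subschemeι.base q1 = q →
          Module.length ((IY' ⊔ IZ').subscheme.presheaf.stalk q1) ((IY' ⊔ IZ').subscheme.presheaf.stalk q1) <
            Module.length ((IY ⊔ IZ).subscheme.presheaf.stalk q0) ((IY ⊔ IZ).subscheme.presheaf.stalk q0))) := by
  classical
  set ι := IY.subschemeι with hι
  have hker : ι.ker = IY := Scheme.IdealSheafData.ker_subschemeι IY
  haveI : IsLocallyNoetherian IY.subscheme := LocallyOfFiniteType.isLocallyNoetherian ι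
  obtain ⟨y, hy⟩ : p ∈ Set.range ι := by rw [hι, Scheme.IdealSheafData.range_subschemeι]; exact hpY
  subst hy
  have hyg : y ≠ genericPoint ↥IY.subscheme := fun e => hgen (e ▸ hpZ)
  have hr := hreg y rfl
  have he := Groth.Agent.H81.CurveRes.isEffCartier_comap_centre ι y hp hdimY hr hyg
  obtain ⟨j, hj, -⟩ := hb.2 _ ι he
  haveI : IsProper b := Groth.Agent.Lib.BlowUpExists.isProper_of_isBlowUp hb fun U => by
    haveI := IsLocallyNoetherian.component_noetherian U
    exact IsNoetherian.noetherian _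
  haveI : IsClosedImmersion (j ≫ b) := by rw [hj]; infer_instance
  haveI : IsClosedImmersion j := IsClosedImmersion.of_comp j b
  obtain rfl : IY' = j.ker := hY'.trans
    (Groth.Agent.H81.CurveRes.strict_eq ι y hp hdimY hyg hb j hj IY hker.symm)
  haveI : IsIso j.toImage := inferInstanceAs (IsIso j.toImage)
  have hyc := Groth.Agent.Lib.CDivInt.isClosed_singleton_of_ne_genericPoint hdimY.le hyg
  have hEy : ((BlowUp.exceptional b (Scheme.IdealSheafData.vanishingIdeal ⟨{ι y}, hp⟩)).comap j) =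
      Scheme.IdealSheafData.vanishingIdeal ⟨{y}, hyc⟩ := by
    rw [← Scheme.IdealSheafData.comap_comp, hj]
    exact Groth.Agent.H81.CurveRes.comap_point ι y hyc hp
  haveI := hr
  haveI := Groth.Agent.H81.CurveRes.isPrincipalIdealRing_of_regular (IY.subscheme.presheaf.stalk y)
    (Groth.Agent.H81.CurveRes.stalk_dim_le_one hdimY.le y)
  haveI : Ring.KrullDimLE 1 (IY.subscheme.presheaf.stalk y) := by
    rw [Ring.krullDimLE_iff]; exact Groth.Agent.H81.CurveRes.stalk_dim_le_one hdimY.le y
  refine ⟨⟨(asIso j.toImage).symm, ?_⟩, j y, ?_, fun q1 hq1 => ?_, fun _ q0 q1 hq0 hq1 => ?_⟩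
  · rw [Iso.symm_hom, asIso_inv, IsIso.inv_comp_eq]
    exact hj.symm.trans ((congrArg (· ≫ b) j.toImage_imageι.symm).trans (Category.assoc _ _ _))
  · ext x
    rw [Set.mem_singleton_iff]
    constructor
    · rintro ⟨h1, h2⟩
      obtain ⟨z, rfl⟩ := (Groth.Agent.H81.CurveRes.mem_support_ker j).1 h1
      have : z ∈ ((BlowUp.exceptional b (Scheme.IdealSheafData.vanishingIdeal ⟨{ι y}, hp⟩)).comap j).support := by
        rw [Scheme.IdealSheafData.support_comap]; exact h2
      rw [hEy] at this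
      rw [show z = y from (Groth.Agent.H81.CurveRes.support_point y hyc ▸ this : z ∈ ({y} : Set _))]
    · rintro rfl
      refine ⟨(Groth.Agent.H81.CurveRes.mem_support_ker j).2 ⟨y, rfl⟩, ?_⟩
      rw [Scheme.IdealSheafData.support_comap]
      show b (j y) ∈ (Scheme.IdealSheafData.vanishingIdeal ⟨{ι y}, hp⟩).support
      rw [← Scheme.Hom.comp_apply, hj]
      exact (Groth.Agent.H81.CurveRes.support_point (ι y) hp).ge rfl
  · rw [Groth.Agent.H81.CurveRes.length_inter j _ y q1 hq1, hEy,
      Groth.Agent.H81.CurveRes.stalkIdeal_vanishingIdeal_point y hyc, Module.length_eq_one_iff]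
    exact isSimpleModule_iff_isCoatom.2 (Ideal.isMaximal_def.1 inferInstance)
  · have hle := Groth.Agent.H81.CurveRes.comap_le_mul ι y hp IZ hpZ hb j hj IZ' hZ'
    have h0 : Groth.Agent.Lib.Ideal.Prime.stalkIdeal (IZ.comap ι) y ≠ ⊥ := fun h => by
      have hs := (genericPoint_spec ↥IY.subscheme).specializes (Set.mem_univ y)
      have h1 := Groth.Agent.Lib.ModelFibre.StalkIdeal.map_stalkSpecializes (IZ.comap ι) hs
      rw [h, Ideal.map_bot, (Groth.Agent.Lib.ModelFibre.StalkIdeal.stalkIdeal_eq_top_iff _ _).2 fun hm => by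
        rw [Scheme.IdealSheafData.support_comap] at hm
        exact hgen hm] at h1
      exact bot_ne_top h1
    have hlen := Groth.Agent.H81.CurveRes.length_lt_of_le_mul hle h0
    rw [Groth.Agent.H81.CurveRes.length_inter j IZ' y q1 hq1]
    refine lt_of_lt_of_eq hlen ?_
    have key : ∀ (A : X.IdealSheafData), A = ι.ker → ∀ z : ↥(A ⊔ IZ).subscheme, (A ⊔ IZ).subschemeι z = ι y →
        Module.length ((A ⊔ IZ).subscheme.presheaf.stalk z) ((A ⊔ IZ).subscheme.presheaf.stalk z) =
        Module.length (IY.subscheme.presheaf.stalk y)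
          (IY.subscheme.presheaf.stalk y ⧸ Groth.Agent.Lib.Ideal.Prime.stalkIdeal (IZ.comap ι) y) := by
      rintro A rfl z hz
      exact Groth.Agent.H81.CurveRes.length_inter ι IZ y z hz
    exact (key IY hker.symm q0 hq0).symm

end Groth.Agent.S7358
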