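import Groth.Statements.S7359
import Groth.Agent.S9674
import Groth.Agent.S0566
import Groth.Agent.S9833
import Groth.Agent.S2351
import Groth.Agent.Lib.BlowUpExists.Proper

set_option autoImplicit false
universe u
open CategoryTheory CategoryTheory.Limits AlgebraicGeometry
open Resolve

namespace Groth.Agent.S7359

/-- Let X be an integral locally Noetherian Nagata scheme (every affine open has a Nagata coordinate
ring), x ∈ X a closed point, b : X' → X the blowing up of X at x (in the reduced point; X' is again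
integral) and X'' → X' the normalization of X'. Then the normalized blowing up X'' is a normal
scheme, is Nagata, and X'' → X is proper. (The quasi-compactness and quasi-separatedness binders on
Spec K(X') → X' always hold; they are needed only to form the normalization.) -/
theorem result (X : Scheme.{u}) [IsIntegral X] [IsLocallyNoetherian X]
    (hN : ∀ U : X.affineOpens, CAlg.IsNagata Γ(X, U.1)) (x : X) (hx : IsClosed ({x} : Set X))
    (X' : Scheme.{u}) (b : X' ⟶ X) (hb : BlowUp.IsBlowUp b (Scheme.IdealSheafData.vanishingIdeal ⟨{x}, hx⟩)) [IsIntegral X']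
    [QuasiCompact (X'.fromSpecStalk (genericPoint X'))] [QuasiSeparated (X'.fromSpecStalk (genericPoint X'))] :
    Pi1.IsNormalScheme (Curv2.normalization X') ∧
      (∀ U : (Curv2.normalization X').affineOpens, CAlg.IsNagata Γ(Curv2.normalization X', U.1)) ∧
      IsProper (Curv2.normalizationι X' ≫ b) := by
  have hI : ∀ U, ((Scheme.IdealSheafData.vanishingIdeal ⟨{x}, hx⟩).ideal U).FG := fun U => by
    have : IsNoetherianRing Γ(X, U.1) := IsLocallyNoetherian.component_noetherian U
    exact IsNoetherian.noetherian _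
  have : IsProper b := Groth.Agent.Lib.BlowUpExists.isProper_of_isBlowUp hb hI
  have hX' : ∀ U : X'.affineOpens, CAlg.IsNagata Γ(X', U.1) := by
    intro U
    let ι := {p : X.affineOpens × X'.affineOpens // p.2.1 ≤ b ⁻¹ᵁ p.1.1}
    refine Groth.Agent.S9833.result X' (fun i : ι => i.1.2.1) ?_ (fun i => i.1.2.2) (fun i => ?_) U.1 U.2
    · refine eq_top_iff.2 fun y _ => TopologicalSpace.Opens.mem_iSup.2 ?_
      obtain ⟨A, hA, hyA, -⟩ := exists_isAffineOpen_mem_and_subset (x := b y) (U := ⊤) trivial
      obtain ⟨B, hB, hyB, hBA⟩ := exists_isAffineOpen_mem_and_subset (x := y) (U := b ⁻¹ᵁ A) hyA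
      exact ⟨⟨(⟨A, hA⟩, ⟨B, hB⟩), hBA⟩, hyB⟩
    · let := (b.appLE i.1.1.1 i.1.2.1 i.2).hom.toAlgebra
      have : Algebra.FiniteType Γ(X, i.1.1.1) Γ(X', i.1.2.1) :=
        b.finiteType_appLE i.1.1.2 i.1.2.2 i.2
      exact Groth.Agent.S0566.result _ (hN i.1.1) _
  let g := X'.fromSpecStalk (genericPoint X')
  have : Subsingleton (Spec (X'.presheaf.stalk (genericPoint X'))) :=
    inferInstanceAs (Subsingleton (PrimeSpectrum X'.functionField))
  have : AlgebraicGeometry.IsIntegral (Spec X'.functionField) := inferInstance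
  have : AlgebraicGeometry.IsReduced (Spec (X'.presheaf.stalk (genericPoint X'))) :=
    inferInstanceAs (AlgebraicGeometry.IsReduced (Spec X'.functionField))
  have : IsFinite (Curv2.normalizationι X') := by
    refine Groth.Agent.S9674.result g hX' (locallyFinite_of_finite _) fun y _ => ?_
    refine RingHom.FiniteType.essFiniteType (RingHom.FiniteType.of_surjective _ ?_)
    intro a
    obtain ⟨a, rfl⟩ := Scheme.residue_surjective _ y a
    obtain ⟨c, rfl⟩ := g.stalkMap_surjective y a
    exact ⟨X'.residue (g y) c, DFunLike.congr_fun (congrArg CommRingCat.Hom.hom (Scheme.residue_residueFieldMap g y)) c⟩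
  obtain ⟨-, hn, -⟩ := Groth.Agent.S2351.result X'
  refine ⟨hn, fun U => ?_, inferInstance⟩
  let ν := Curv2.normalizationι X'
  let ι := {p : X'.affineOpens × (Curv2.normalization X').affineOpens // p.2.1 ≤ ν ⁻¹ᵁ p.1.1}
  refine Groth.Agent.S9833.result _ (fun i : ι => i.1.2.1) ?_ (fun i => i.1.2.2) (fun i => ?_) U.1 U.2
  · refine eq_top_iff.2 fun y _ => TopologicalSpace.Opens.mem_iSup.2 ?_
    obtain ⟨A, hA, hyA, -⟩ := exists_isAffineOpen_mem_and_subset (x := ν y) (U := ⊤) trivial
    obtain ⟨B, hB, hyB, hBA⟩ := exists_isAffineOpen_mem_and_subset (x := y) (U := ν ⁻¹ᵁ A) hyA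
    exact ⟨⟨(⟨A, hA⟩, ⟨B, hB⟩), hBA⟩, hyB⟩
  · let := (ν.appLE i.1.1.1 i.1.2.1 i.2).hom.toAlgebra
    have : Algebra.FiniteType Γ(X', i.1.1.1) Γ(Curv2.normalization X', i.1.2.1) :=
      ν.finiteType_appLE i.1.1.2 i.1.2.2 i.2
    exact Groth.Agent.S0566.result _ (hX' i.1.1) _

end Groth.Agent.S7359
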