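import Groth.Statements.S7362
import Groth.Agent.Lib.NumType.GenusOne

set_option autoImplicit false
open Finset
open Models Models.NumericalType

namespace Groth.Agent.S7362

/-- Genus one classification: case n = 2: let T be a minimal numerical type of genus 1 on two indices.
Then for some ordering i, j of the indices and some integers m, w, either m_i = m_j = m, a_ii = a_jj
= -2w, a_ij = 2w, w_i = w_j = w, g_i = g_j = 0; or m_i = 2m, m_j = m, a_ii = -2w, a_ij = 4w, a_jj =
-8w, w_i = w, w_j = 4w, g_i = g_j = 0. Only the classification direction is stated. -/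
theorem result (T : Models.NumericalType 2) (hmin : T.IsMinimal) (hg : T.genus = 1) :
    ∃ (i j : Fin 2) (m w : ℤ), i ≠ j ∧ T.g i = 0 ∧ T.g j = 0 ∧
      ((T.m i = m ∧ T.m j = m ∧ T.a i i = -2 * w ∧ T.a i j = 2 * w ∧ T.a j j = -2 * w ∧ T.w i = w ∧ T.w j = w) ∨
        (T.m i = 2 * m ∧ T.m j = m ∧ T.a i i = -2 * w ∧ T.a i j = 4 * w ∧ T.a j j = -8 * w ∧ T.w i = w ∧ T.w j = 4 * w)) := by
  open Groth.Agent.Lib.NumType.GenusOne Groth.Agent.Lib.NumType.Families Groth.Agent.Lib.NumType in
  have h2 := Basic.isMinusTwo_of_genus_one T hmin (by norm_num) hg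
  rcases two T hmin hg with h | h
  · obtain ⟨σ, m, w, hm, hw, hd, ho⟩ := data h
    refine ⟨σ 0, σ 1, m, w, σ.injective.ne (by decide), (h2 _).1, (h2 _).1, .inl ?_⟩
    simp [hm, hw, hd, ho, Config.Cfg.sym, two22]
  · obtain ⟨σ, m, w, hm, hw, hd, ho⟩ := data h
    refine ⟨σ 0, σ 1, m, w, σ.injective.ne (by decide), (h2 _).1, (h2 _).1, .inr ?_⟩
    simp [hm, hw, hd, ho, Config.Cfg.sym, two14]
    omega

end Groth.Agent.S7362
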