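import Groth.Statements.S7363
import Groth.Agent.Lib.NumType.GenusOne

set_option autoImplicit false
open Finset
open Models Models.NumericalType

namespace Groth.Agent.S7363

/-- Genus one classification: case n = 3: let T be a minimal numerical type of genus 1 on three indices.
Then all g = 0 and, for some ordering i, j, k of the indices and some integers m, w, the data (m; a;
w) is one of: (m,m,m; a_ii = a_jj = a_kk = -2w, a_ij = a_ik = a_jk = w; w,w,w); (m,2m,m; a_ii = -2w,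
a_ij = w, a_ik = 0, a_jj = -2w, a_jk = 3w, a_kk = -6w; w,w,3w); (m,2m,3m; a_ii = -6w, a_ij = 3w,
a_ik = 0, a_jj = -6w, a_jk = 3w, a_kk = -2w; 3w,3w,w); (2m,2m,m; a_ii = -2w, a_ij = 2w, a_ik = 0,
a_jj = -4w, a_jk = 4w, a_kk = -8w; w,2w,4w); (m,m,m; a_ii = -2w, a_ij = 2w, a_ik = 0, a_jj = -4w,
a_jk = 2w, a_kk = -2w; w,2w,w); (m,2m,m; a_ii = -4w, a_ij = 2w, a_ik = 0, a_jj = -2w, a_jk = 2w,
a_kk = -4w; 2w,w,2w). Only the classification direction is stated. -/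
theorem result (T : Models.NumericalType 3) (hmin : T.IsMinimal) (hg : T.genus = 1) :
    ∃ (i j k : Fin 3) (m w : ℤ), i ≠ j ∧ j ≠ k ∧ i ≠ k ∧ T.g i = 0 ∧ T.g j = 0 ∧ T.g k = 0 ∧
      ((T.m i = m ∧ T.m j = m ∧ T.m k = m ∧ T.a i i = -2 * w ∧ T.a j j = -2 * w ∧ T.a k k = -2 * w ∧
          T.a i j = w ∧ T.a i k = w ∧ T.a j k = w ∧ T.w i = w ∧ T.w j = w ∧ T.w k = w) ∨
        (T.m i = m ∧ T.m j = 2 * m ∧ T.m k = m ∧ T.a i i = -2 * w ∧ T.a i j = w ∧ T.a i k = 0 ∧ T.a j j = -2 * w ∧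
          T.a j k = 3 * w ∧ T.a k k = -6 * w ∧ T.w i = w ∧ T.w j = w ∧ T.w k = 3 * w) ∨
        (T.m i = m ∧ T.m j = 2 * m ∧ T.m k = 3 * m ∧ T.a i i = -6 * w ∧ T.a i j = 3 * w ∧ T.a i k = 0 ∧ T.a j j = -6 * w ∧
          T.a j k = 3 * w ∧ T.a k k = -2 * w ∧ T.w i = 3 * w ∧ T.w j = 3 * w ∧ T.w k = w) ∨
        (T.m i = 2 * m ∧ T.m j = 2 * m ∧ T.m k = m ∧ T.a i i = -2 * w ∧ T.a i j = 2 * w ∧ T.a i k = 0 ∧ T.a j j = -4 * w ∧
          T.a j k = 4 * w ∧ T.a k k = -8 * w ∧ T.w i = w ∧ T.w j = 2 * w ∧ T.w k = 4 * w) ∨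
        (T.m i = m ∧ T.m j = m ∧ T.m k = m ∧ T.a i i = -2 * w ∧ T.a i j = 2 * w ∧ T.a i k = 0 ∧ T.a j j = -4 * w ∧
          T.a j k = 2 * w ∧ T.a k k = -2 * w ∧ T.w i = w ∧ T.w j = 2 * w ∧ T.w k = w) ∨
        (T.m i = m ∧ T.m j = 2 * m ∧ T.m k = m ∧ T.a i i = -4 * w ∧ T.a i j = 2 * w ∧ T.a i k = 0 ∧ T.a j j = -2 * w ∧
          T.a j k = 2 * w ∧ T.a k k = -4 * w ∧ T.w i = 2 * w ∧ T.w j = w ∧ T.w k = 2 * w)) := by
  open Groth.Agent.Lib.NumType.GenusOne Groth.Agent.Lib.NumType.Families Groth.Agent.Lib.NumType in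
  obtain ⟨hg0, -, h⟩ := affine (by norm_num) hmin hg
  rcases h with h | h | h | h | ⟨he, h⟩ | ⟨he, h⟩ | ⟨he, h⟩ | ⟨he, h⟩ | ⟨he, h⟩ | ⟨he, h⟩ | ⟨he, h⟩ | ⟨he, h⟩
  · obtain ⟨σ, m, w, hm, hw, hd, ho⟩ := data h
    refine ⟨σ 0, σ 1, σ 2, m, w, σ.injective.ne (by decide), σ.injective.ne (by decide), σ.injective.ne (by decide), hg0 _, hg0 _, hg0 _, .inl ?_⟩
    simp [hm, hw, hd, ho, Config.Cfg.sym, cycle] <;> omega
  · obtain ⟨σ, m, w, hm, hw, hd, ho⟩ := data h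
    refine ⟨σ 0, σ 1, σ 2, m, w, σ.injective.ne (by decide), σ.injective.ne (by decide), σ.injective.ne (by decide), hg0 _, hg0 _, hg0 _, .inr (.inr (.inr (.inl ?_)))⟩
    simp [hm, hw, hd, ho, Config.Cfg.sym, chainUU] <;> omega
  · obtain ⟨σ, m, w, hm, hw, hd, ho⟩ := data h
    refine ⟨σ 0, σ 1, σ 2, m, w, σ.injective.ne (by decide), σ.injective.ne (by decide), σ.injective.ne (by decide), hg0 _, hg0 _, hg0 _, .inr (.inr (.inr (.inr (.inl ?_))))⟩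
    simp [hm, hw, hd, ho, Config.Cfg.sym, chainUD] <;> omega
  · obtain ⟨σ, m, w, hm, hw, hd, ho⟩ := data h
    refine ⟨σ 0, σ 1, σ 2, m, w, σ.injective.ne (by decide), σ.injective.ne (by decide), σ.injective.ne (by decide), hg0 _, hg0 _, hg0 _, .inr (.inr (.inr (.inr (.inr (?_)))))⟩
    simp [hm, hw, hd, ho, Config.Cfg.sym, chainDU] <;> omega
  · omega
  · omega
  · omega
  · rcases h with h | h
    · obtain ⟨σ, m, w, hm, hw, hd, ho⟩ := data h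
      refine ⟨σ 0, σ 1, σ 2, m, w, σ.injective.ne (by decide), σ.injective.ne (by decide), σ.injective.ne (by decide), hg0 _, hg0 _, hg0 _, .inr (.inl ?_)⟩
      simp [hm, hw, hd, ho, Config.Cfg.sym, g2U] <;> omega
    · obtain ⟨σ, m, w, hm, hw, hd, ho⟩ := data h
      refine ⟨σ 0, σ 1, σ 2, m, w, σ.injective.ne (by decide), σ.injective.ne (by decide), σ.injective.ne (by decide), hg0 _, hg0 _, hg0 _, .inr (.inr (.inl ?_))⟩
      simp [hm, hw, hd, ho, Config.Cfg.sym, g2D] <;> omega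
  · omega
  · omega
  · omega
  · omega

end Groth.Agent.S7363
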