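import Groth.Statements.S7365
import Groth.Agent.Lib.NumType.GenusOne

set_option autoImplicit false
open Finset
open Models Models.NumericalType

namespace Groth.Agent.S7365

/-- Genus one classification: case n = 5: let T be a minimal numerical type of genus 1 on 5 indices.
Then all g_i = 0 and, for some permutation σ of the indices and some integers m, w, the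
multiplicities, weights and intersection matrix (m_{σ(i)}, w_{σ(i)}, a_{σ(i)σ(j)}) are those of one
of the following 9 types: [five cycle] m = (m, m, m, m, m), w = (w, w, w, w, w), a = (-2 * w w 0 0 w
/ w -2 * w w 0 0 / 0 w -2 * w w 0 / 0 0 w -2 * w w / w 0 0 w -2 * w); [equal equal up equal] m = (m,
2 * m, 3 * m, 2 * m, m), w = (w, w, w, 2 * w, 2 * w), a = (-2 * w w 0 0 0 / w -2 * w w 0 0 / 0 w -2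
* w 2 * w 0 / 0 0 2 * w -4 * w 2 * w / 0 0 0 2 * w -4 * w); [equal equal down equal] m = (m, 2 * m,
3 * m, 4 * m, 2 * m), w = (2 * w, 2 * w, 2 * w, w, w), a = (-4 * w 2 * w 0 0 0 / 2 * w -4 * w 2 * w
0 0 / 0 2 * w -4 * w 2 * w 0 / 0 0 2 * w -2 * w w / 0 0 0 w -2 * w); [up equal equal up] m = (2 * m,
2 * m, 2 * m, 2 * m, m), w = (w, 2 * w, 2 * w, 2 * w, 4 * w), a = (-2 * w 2 * w 0 0 0 / 2 * w -4 * w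
2 * w 0 0 / 0 2 * w -4 * w 2 * w 0 / 0 0 2 * w -4 * w 4 * w / 0 0 0 4 * w -8 * w); [up equal equal
down] m = (m, m, m, m, m), w = (w, 2 * w, 2 * w, 2 * w, w), a = (-2 * w 2 * w 0 0 0 / 2 * w -4 * w 2
* w 0 0 / 0 2 * w -4 * w 2 * w 0 / 0 0 2 * w -4 * w 2 * w / 0 0 0 2 * w -2 * w); [down equal equal
up] m = (m, 2 * m, 2 * m, 2 * m, m), w = (2 * w, w, w, w, 2 * w), a = (-4 * w 2 * w 0 0 0 / 2 * w -2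
* w w 0 0 / 0 w -2 * w w 0 / 0 0 w -2 * w 2 * w / 0 0 0 2 * w -4 * w); [quadruple] m = (2 * m, m, m,
m, m), w = (w, w, w, w, w), a = (-2 * w w w w w / w -2 * w 0 0 0 / w 0 -2 * w 0 0 / w 0 0 -2 * w 0 /
w 0 0 0 -2 * w); [triple extended up] m = (m, 2 * m, 2 * m, m, m), w = (2 * w, w, w, w, w), a = (-4
* w 2 * w 0 0 0 / 2 * w -2 * w w 0 0 / 0 w -2 * w w w / 0 0 w -2 * w 0 / 0 0 w 0 -2 * w); [triple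
extended down] m = (2 * m, 2 * m, 2 * m, m, m), w = (w, 2 * w, 2 * w, 2 * w, 2 * w), a = (-2 * w 2 *
w 0 0 0 / 2 * w -4 * w 2 * w 0 0 / 0 2 * w -4 * w 2 * w 2 * w / 0 0 2 * w -4 * w 0 / 0 0 2 * w 0 -4
* w). Only the classification direction is stated. -/
theorem result (T : Models.NumericalType 5) (hmin : T.IsMinimal) (hg : T.genus = 1) :
    (∀ i, T.g i = 0) ∧ ∃ (σ : Equiv.Perm (Fin 5)) (m w : ℤ),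
      ((T.m (σ 0) = m ∧ T.m (σ 1) = m ∧ T.m (σ 2) = m ∧ T.m (σ 3) = m ∧ T.m (σ 4) = m ∧ T.w (σ 0) = w ∧ T.w (σ 1) = w ∧ T.w (σ 2) = w ∧ T.w (σ 3) = w ∧ T.w (σ 4) = w ∧ T.a (σ 0) (σ 0) = -2 * w ∧ T.a (σ 0) (σ 1) = w ∧ T.a (σ 0) (σ 2) = 0 ∧ T.a (σ 0) (σ 3) = 0 ∧ T.a (σ 0) (σ 4) = w ∧ T.a (σ 1) (σ 1) = -2 * w ∧ T.a (σ 1) (σ 2) = w ∧ T.a (σ 1) (σ 3) = 0 ∧ T.a (σ 1) (σ 4) = 0 ∧ T.a (σ 2) (σ 2) = -2 * w ∧ T.a (σ 2) (σ 3) = w ∧ T.a (σ 2) (σ 4) = 0 ∧ T.a (σ 3) (σ 3) = -2 * w ∧ T.a (σ 3) (σ 4) = w ∧ T.a (σ 4) (σ 4) = -2 * w) ∨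
      (T.m (σ 0) = m ∧ T.m (σ 1) = 2 * m ∧ T.m (σ 2) = 3 * m ∧ T.m (σ 3) = 2 * m ∧ T.m (σ 4) = m ∧ T.w (σ 0) = w ∧ T.w (σ 1) = w ∧ T.w (σ 2) = w ∧ T.w (σ 3) = 2 * w ∧ T.w (σ 4) = 2 * w ∧ T.a (σ 0) (σ 0) = -2 * w ∧ T.a (σ 0) (σ 1) = w ∧ T.a (σ 0) (σ 2) = 0 ∧ T.a (σ 0) (σ 3) = 0 ∧ T.a (σ 0) (σ 4) = 0 ∧ T.a (σ 1) (σ 1) = -2 * w ∧ T.a (σ 1) (σ 2) = w ∧ T.a (σ 1) (σ 3) = 0 ∧ T.a (σ 1) (σ 4) = 0 ∧ T.a (σ 2) (σ 2) = -2 * w ∧ T.a (σ 2) (σ 3) = 2 * w ∧ T.a (σ 2) (σ 4) = 0 ∧ T.a (σ 3) (σ 3) = -4 * w ∧ T.a (σ 3) (σ 4) = 2 * w ∧ T.a (σ 4) (σ 4) = -4 * w) ∨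
      (T.m (σ 0) = m ∧ T.m (σ 1) = 2 * m ∧ T.m (σ 2) = 3 * m ∧ T.m (σ 3) = 4 * m ∧ T.m (σ 4) = 2 * m ∧ T.w (σ 0) = 2 * w ∧ T.w (σ 1) = 2 * w ∧ T.w (σ 2) = 2 * w ∧ T.w (σ 3) = w ∧ T.w (σ 4) = w ∧ T.a (σ 0) (σ 0) = -4 * w ∧ T.a (σ 0) (σ 1) = 2 * w ∧ T.a (σ 0) (σ 2) = 0 ∧ T.a (σ 0) (σ 3) = 0 ∧ T.a (σ 0) (σ 4) = 0 ∧ T.a (σ 1) (σ 1) = -4 * w ∧ T.a (σ 1) (σ 2) = 2 * w ∧ T.a (σ 1) (σ 3) = 0 ∧ T.a (σ 1) (σ 4) = 0 ∧ T.a (σ 2) (σ 2) = -4 * w ∧ T.a (σ 2) (σ 3) = 2 * w ∧ T.a (σ 2) (σ 4) = 0 ∧ T.a (σ 3) (σ 3) = -2 * w ∧ T.a (σ 3) (σ 4) = w ∧ T.a (σ 4) (σ 4) = -2 * w) ∨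
      (T.m (σ 0) = 2 * m ∧ T.m (σ 1) = 2 * m ∧ T.m (σ 2) = 2 * m ∧ T.m (σ 3) = 2 * m ∧ T.m (σ 4) = m ∧ T.w (σ 0) = w ∧ T.w (σ 1) = 2 * w ∧ T.w (σ 2) = 2 * w ∧ T.w (σ 3) = 2 * w ∧ T.w (σ 4) = 4 * w ∧ T.a (σ 0) (σ 0) = -2 * w ∧ T.a (σ 0) (σ 1) = 2 * w ∧ T.a (σ 0) (σ 2) = 0 ∧ T.a (σ 0) (σ 3) = 0 ∧ T.a (σ 0) (σ 4) = 0 ∧ T.a (σ 1) (σ 1) = -4 * w ∧ T.a (σ 1) (σ 2) = 2 * w ∧ T.a (σ 1) (σ 3) = 0 ∧ T.a (σ 1) (σ 4) = 0 ∧ T.a (σ 2) (σ 2) = -4 * w ∧ T.a (σ 2) (σ 3) = 2 * w ∧ T.a (σ 2) (σ 4) = 0 ∧ T.a (σ 3) (σ 3) = -4 * w ∧ T.a (σ 3) (σ 4) = 4 * w ∧ T.a (σ 4) (σ 4) = -8 * w) ∨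
      (T.m (σ 0) = m ∧ T.m (σ 1) = m ∧ T.m (σ 2) = m ∧ T.m (σ 3) = m ∧ T.m (σ 4) = m ∧ T.w (σ 0) = w ∧ T.w (σ 1) = 2 * w ∧ T.w (σ 2) = 2 * w ∧ T.w (σ 3) = 2 * w ∧ T.w (σ 4) = w ∧ T.a (σ 0) (σ 0) = -2 * w ∧ T.a (σ 0) (σ 1) = 2 * w ∧ T.a (σ 0) (σ 2) = 0 ∧ T.a (σ 0) (σ 3) = 0 ∧ T.a (σ 0) (σ 4) = 0 ∧ T.a (σ 1) (σ 1) = -4 * w ∧ T.a (σ 1) (σ 2) = 2 * w ∧ T.a (σ 1) (σ 3) = 0 ∧ T.a (σ 1) (σ 4) = 0 ∧ T.a (σ 2) (σ 2) = -4 * w ∧ T.a (σ 2) (σ 3) = 2 * w ∧ T.a (σ 2) (σ 4) = 0 ∧ T.a (σ 3) (σ 3) = -4 * w ∧ T.a (σ 3) (σ 4) = 2 * w ∧ T.a (σ 4) (σ 4) = -2 * w) ∨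
      (T.m (σ 0) = m ∧ T.m (σ 1) = 2 * m ∧ T.m (σ 2) = 2 * m ∧ T.m (σ 3) = 2 * m ∧ T.m (σ 4) = m ∧ T.w (σ 0) = 2 * w ∧ T.w (σ 1) = w ∧ T.w (σ 2) = w ∧ T.w (σ 3) = w ∧ T.w (σ 4) = 2 * w ∧ T.a (σ 0) (σ 0) = -4 * w ∧ T.a (σ 0) (σ 1) = 2 * w ∧ T.a (σ 0) (σ 2) = 0 ∧ T.a (σ 0) (σ 3) = 0 ∧ T.a (σ 0) (σ 4) = 0 ∧ T.a (σ 1) (σ 1) = -2 * w ∧ T.a (σ 1) (σ 2) = w ∧ T.a (σ 1) (σ 3) = 0 ∧ T.a (σ 1) (σ 4) = 0 ∧ T.a (σ 2) (σ 2) = -2 * w ∧ T.a (σ 2) (σ 3) = w ∧ T.a (σ 2) (σ 4) = 0 ∧ T.a (σ 3) (σ 3) = -2 * w ∧ T.a (σ 3) (σ 4) = 2 * w ∧ T.a (σ 4) (σ 4) = -4 * w) ∨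
      (T.m (σ 0) = 2 * m ∧ T.m (σ 1) = m ∧ T.m (σ 2) = m ∧ T.m (σ 3) = m ∧ T.m (σ 4) = m ∧ T.w (σ 0) = w ∧ T.w (σ 1) = w ∧ T.w (σ 2) = w ∧ T.w (σ 3) = w ∧ T.w (σ 4) = w ∧ T.a (σ 0) (σ 0) = -2 * w ∧ T.a (σ 0) (σ 1) = w ∧ T.a (σ 0) (σ 2) = w ∧ T.a (σ 0) (σ 3) = w ∧ T.a (σ 0) (σ 4) = w ∧ T.a (σ 1) (σ 1) = -2 * w ∧ T.a (σ 1) (σ 2) = 0 ∧ T.a (σ 1) (σ 3) = 0 ∧ T.a (σ 1) (σ 4) = 0 ∧ T.a (σ 2) (σ 2) = -2 * w ∧ T.a (σ 2) (σ 3) = 0 ∧ T.a (σ 2) (σ 4) = 0 ∧ T.a (σ 3) (σ 3) = -2 * w ∧ T.a (σ 3) (σ 4) = 0 ∧ T.a (σ 4) (σ 4) = -2 * w) ∨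
      (T.m (σ 0) = m ∧ T.m (σ 1) = 2 * m ∧ T.m (σ 2) = 2 * m ∧ T.m (σ 3) = m ∧ T.m (σ 4) = m ∧ T.w (σ 0) = 2 * w ∧ T.w (σ 1) = w ∧ T.w (σ 2) = w ∧ T.w (σ 3) = w ∧ T.w (σ 4) = w ∧ T.a (σ 0) (σ 0) = -4 * w ∧ T.a (σ 0) (σ 1) = 2 * w ∧ T.a (σ 0) (σ 2) = 0 ∧ T.a (σ 0) (σ 3) = 0 ∧ T.a (σ 0) (σ 4) = 0 ∧ T.a (σ 1) (σ 1) = -2 * w ∧ T.a (σ 1) (σ 2) = w ∧ T.a (σ 1) (σ 3) = 0 ∧ T.a (σ 1) (σ 4) = 0 ∧ T.a (σ 2) (σ 2) = -2 * w ∧ T.a (σ 2) (σ 3) = w ∧ T.a (σ 2) (σ 4) = w ∧ T.a (σ 3) (σ 3) = -2 * w ∧ T.a (σ 3) (σ 4) = 0 ∧ T.a (σ 4) (σ 4) = -2 * w) ∨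
      (T.m (σ 0) = 2 * m ∧ T.m (σ 1) = 2 * m ∧ T.m (σ 2) = 2 * m ∧ T.m (σ 3) = m ∧ T.m (σ 4) = m ∧ T.w (σ 0) = w ∧ T.w (σ 1) = 2 * w ∧ T.w (σ 2) = 2 * w ∧ T.w (σ 3) = 2 * w ∧ T.w (σ 4) = 2 * w ∧ T.a (σ 0) (σ 0) = -2 * w ∧ T.a (σ 0) (σ 1) = 2 * w ∧ T.a (σ 0) (σ 2) = 0 ∧ T.a (σ 0) (σ 3) = 0 ∧ T.a (σ 0) (σ 4) = 0 ∧ T.a (σ 1) (σ 1) = -4 * w ∧ T.a (σ 1) (σ 2) = 2 * w ∧ T.a (σ 1) (σ 3) = 0 ∧ T.a (σ 1) (σ 4) = 0 ∧ T.a (σ 2) (σ 2) = -4 * w ∧ T.a (σ 2) (σ 3) = 2 * w ∧ T.a (σ 2) (σ 4) = 2 * w ∧ T.a (σ 3) (σ 3) = -4 * w ∧ T.a (σ 3) (σ 4) = 0 ∧ T.a (σ 4) (σ 4) = -4 * w)) := by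
  open Groth.Agent.Lib.NumType.GenusOne Groth.Agent.Lib.NumType.Families Groth.Agent.Lib.NumType in
  obtain ⟨hg0, -, h⟩ := affine (by norm_num) hmin hg
  refine ⟨hg0, ?_⟩
  rcases h with h | h | h | h | ⟨he, h⟩ | ⟨he, h⟩ | ⟨he, h⟩ | ⟨he, h⟩ | ⟨he, h⟩ | ⟨he, h⟩ | ⟨he, h⟩ | ⟨he, h⟩
  · obtain ⟨σ, m, w, hm, hw, hd, ho⟩ := data h
    refine ⟨σ, m, w, .inl ?_⟩
    simp [hm, hw, hd, ho, Config.Cfg.sym, cycle] <;> omega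
  · obtain ⟨σ, m, w, hm, hw, hd, ho⟩ := data h
    refine ⟨σ, m, w, .inr (.inr (.inr (.inl ?_)))⟩
    simp [hm, hw, hd, ho, Config.Cfg.sym, chainUU] <;> omega
  · obtain ⟨σ, m, w, hm, hw, hd, ho⟩ := data h
    refine ⟨σ, m, w, .inr (.inr (.inr (.inr (.inl ?_))))⟩
    simp [hm, hw, hd, ho, Config.Cfg.sym, chainUD] <;> omega
  · obtain ⟨σ, m, w, hm, hw, hd, ho⟩ := data h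
    refine ⟨σ, m, w, .inr (.inr (.inr (.inr (.inr (.inl ?_)))))⟩
    simp [hm, hw, hd, ho, Config.Cfg.sym, chainDU] <;> omega
  · obtain ⟨σ, m, w, hm, hw, hd, ho⟩ := data h
    refine ⟨σ, m, w, .inr (.inr (.inr (.inr (.inr (.inr (.inr (.inl ?_)))))))⟩
    simp [hm, hw, hd, ho, Config.Cfg.sym, forkU] <;> omega
  · obtain ⟨σ, m, w, hm, hw, hd, ho⟩ := data h
    refine ⟨σ, m, w, .inr (.inr (.inr (.inr (.inr (.inr (.inr (.inr (?_))))))))⟩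
    simp [hm, hw, hd, ho, Config.Cfg.sym, forkD] <;> omega
  · obtain ⟨σ, m, w, hm, hw, hd, ho⟩ := data h
    refine ⟨(⟨![2, 0, 1, 3, 4], ![1, 2, 0, 3, 4], by decide, by decide⟩ : Equiv.Perm (Fin 5)).trans σ, m, w, .inr (.inr (.inr (.inr (.inr (.inr (.inl ?_))))))⟩
    simp [hm, hw, hd, ho, Config.Cfg.sym, forks, Equiv.trans_apply, Equiv.swap_apply_def, Equiv.coe_fn_mk] <;> omega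
  · omega
  · rcases h with h | h
    · obtain ⟨σ, m, w, hm, hw, hd, ho⟩ := data h
      refine ⟨σ, m, w, .inr (.inl ?_)⟩
      simp [hm, hw, hd, ho, Config.Cfg.sym, f4U] <;> omega
    · obtain ⟨σ, m, w, hm, hw, hd, ho⟩ := data h
      refine ⟨σ, m, w, .inr (.inr (.inl ?_))⟩
      simp [hm, hw, hd, ho, Config.Cfg.sym, f4D] <;> omega
  · omega
  · omega
  · omega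

end Groth.Agent.S7365
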