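import Groth.Statements.S7371
import Groth.Agent.Lib.NumType.GenusOne

set_option autoImplicit false
open Finset
open Models Models.NumericalType

namespace Groth.Agent.S7371

/-- Genus one classification: cases n ≥ 10: let T be a minimal numerical type of genus 1 on n ≥ 10
indices. Then all g_i = 0, a_{ii} = -2 w_i, and for some permutation σ of the indices and integers
m, w the type is one of: the n-cycle (all m_i = m, all w_i = w, a_{i,i+1} = a_{1n} = w); the chain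
with m = (2m,…,2m,m), w = (w,2w,…,2w,4w), a_{i,i+1} = 2w except a_{n-1,n} = 4w; the chain with all
m_i = m, w = (w,2w,…,2w,w), a_{i,i+1} = 2w; the chain with m = (m,2m,…,2m,m), w = (2w,w,…,w,2w),
a_{12} = a_{n-1,n} = 2w and a_{i,i+1} = w otherwise; the D-type graph (chain 1 … n-1 with n attached
to n-2) with m = (m,2m,…,2m,m,m), w = (2w,w,…,w), a_{12} = 2w, other edges w; the same D-type graph
with m = (2m,…,2m,m,m), w = (w,2w,…,2w), all edges 2w; the double fork (1, 2 attached to 3; chain 3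
… n-2; n-1, n attached to n-2) with m = (m,m,2m,…,2m,m,m), all w_i = w, all edges w; all
intersection numbers not listed are zero. (Indices are written 0, …, n-1 in the formal statement.
For n ≥ 10 the exceptional completed E6, E7, E8 types do not occur, so only the infinite families
remain. In the family with weights (w,2w,…,2w,w) the consecutive intersection numbers are 2w, as
divisibility by the weights forces; the published list prints w there, and omits m_{n-2} = 2m in the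
two D-type families.) Only the classification direction is stated. -/
theorem result {n : ℕ} (T : Models.NumericalType n) (hn : 10 ≤ n) (hmin : T.IsMinimal) (hg : T.genus = 1) :
    (∀ i, T.g i = 0) ∧ (∀ i, T.a i i = -2 * T.w i) ∧ ∃ (σ : Equiv.Perm (Fin n)) (m w : ℤ),
      (((∀ i : Fin n, T.m (σ i) = m) ∧
        (∀ i : Fin n, T.w (σ i) = w) ∧
        (∀ i j : Fin n, i.val < j.val → j.val = i.val + 1 → T.a (σ i) (σ j) = w) ∧
        (∀ i j : Fin n, i.val < j.val → i.val = 0 ∧ j.val + 1 = n → T.a (σ i) (σ j) = w) ∧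
        (∀ i j : Fin n, i.val < j.val → ¬ (j.val = i.val + 1) → ¬ (i.val = 0 ∧ j.val + 1 = n) → T.a (σ i) (σ j) = 0)) ∨
      ((∀ i : Fin n, i.val + 1 < n → T.m (σ i) = 2 * m) ∧
        (∀ i : Fin n, i.val + 1 = n → T.m (σ i) = m) ∧
        (∀ i : Fin n, i.val = 0 → T.w (σ i) = w) ∧
        (∀ i : Fin n, 0 < i.val ∧ i.val + 1 < n → T.w (σ i) = 2 * w) ∧
        (∀ i : Fin n, i.val + 1 = n → T.w (σ i) = 4 * w) ∧
        (∀ i j : Fin n, i.val < j.val → j.val = i.val + 1 ∧ j.val + 1 < n → T.a (σ i) (σ j) = 2 * w) ∧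
        (∀ i j : Fin n, i.val < j.val → j.val = i.val + 1 ∧ j.val + 1 = n → T.a (σ i) (σ j) = 4 * w) ∧
        (∀ i j : Fin n, i.val < j.val → ¬ (j.val = i.val + 1 ∧ j.val + 1 < n) → ¬ (j.val = i.val + 1 ∧ j.val + 1 = n) → T.a (σ i) (σ j) = 0)) ∨
      ((∀ i : Fin n, T.m (σ i) = m) ∧
        (∀ i : Fin n, i.val = 0 → T.w (σ i) = w) ∧
        (∀ i : Fin n, 0 < i.val ∧ i.val + 1 < n → T.w (σ i) = 2 * w) ∧
        (∀ i : Fin n, i.val + 1 = n → T.w (σ i) = w) ∧
        (∀ i j : Fin n, i.val < j.val → j.val = i.val + 1 → T.a (σ i) (σ j) = 2 * w) ∧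
        (∀ i j : Fin n, i.val < j.val → ¬ (j.val = i.val + 1) → T.a (σ i) (σ j) = 0)) ∨
      ((∀ i : Fin n, i.val = 0 → T.m (σ i) = m) ∧
        (∀ i : Fin n, 0 < i.val ∧ i.val + 1 < n → T.m (σ i) = 2 * m) ∧
        (∀ i : Fin n, i.val + 1 = n → T.m (σ i) = m) ∧
        (∀ i : Fin n, i.val = 0 → T.w (σ i) = 2 * w) ∧
        (∀ i : Fin n, 0 < i.val ∧ i.val + 1 < n → T.w (σ i) = w) ∧
        (∀ i : Fin n, i.val + 1 = n → T.w (σ i) = 2 * w) ∧
        (∀ i j : Fin n, i.val < j.val → i.val = 0 ∧ j.val = 1 → T.a (σ i) (σ j) = 2 * w) ∧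
        (∀ i j : Fin n, i.val < j.val → j.val = i.val + 1 ∧ 1 ≤ i.val ∧ j.val + 2 ≤ n → T.a (σ i) (σ j) = w) ∧
        (∀ i j : Fin n, i.val < j.val → j.val = i.val + 1 ∧ j.val + 1 = n → T.a (σ i) (σ j) = 2 * w) ∧
        (∀ i j : Fin n, i.val < j.val → ¬ (i.val = 0 ∧ j.val = 1) → ¬ (j.val = i.val + 1 ∧ 1 ≤ i.val ∧ j.val + 2 ≤ n) → ¬ (j.val = i.val + 1 ∧ j.val + 1 = n) → T.a (σ i) (σ j) = 0)) ∨
      ((∀ i : Fin n, i.val = 0 → T.m (σ i) = m) ∧
        (∀ i : Fin n, 1 ≤ i.val ∧ i.val + 2 < n → T.m (σ i) = 2 * m) ∧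
        (∀ i : Fin n, n ≤ i.val + 2 → T.m (σ i) = m) ∧
        (∀ i : Fin n, i.val = 0 → T.w (σ i) = 2 * w) ∧
        (∀ i : Fin n, 0 < i.val → T.w (σ i) = w) ∧
        (∀ i j : Fin n, i.val < j.val → i.val = 0 ∧ j.val = 1 → T.a (σ i) (σ j) = 2 * w) ∧
        (∀ i j : Fin n, i.val < j.val → j.val = i.val + 1 ∧ 1 ≤ i.val ∧ j.val + 2 ≤ n → T.a (σ i) (σ j) = w) ∧
        (∀ i j : Fin n, i.val < j.val → i.val + 3 = n ∧ j.val + 1 = n → T.a (σ i) (σ j) = w) ∧
        (∀ i j : Fin n, i.val < j.val → ¬ (i.val = 0 ∧ j.val = 1) → ¬ (j.val = i.val + 1 ∧ 1 ≤ i.val ∧ j.val + 2 ≤ n) → ¬ (i.val + 3 = n ∧ j.val + 1 = n) → T.a (σ i) (σ j) = 0)) ∨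
      ((∀ i : Fin n, i.val + 2 < n → T.m (σ i) = 2 * m) ∧
        (∀ i : Fin n, n ≤ i.val + 2 → T.m (σ i) = m) ∧
        (∀ i : Fin n, i.val = 0 → T.w (σ i) = w) ∧
        (∀ i : Fin n, 0 < i.val → T.w (σ i) = 2 * w) ∧
        (∀ i j : Fin n, i.val < j.val → j.val = i.val + 1 ∧ j.val + 2 ≤ n → T.a (σ i) (σ j) = 2 * w) ∧
        (∀ i j : Fin n, i.val < j.val → i.val + 3 = n ∧ j.val + 1 = n → T.a (σ i) (σ j) = 2 * w) ∧
        (∀ i j : Fin n, i.val < j.val → ¬ (j.val = i.val + 1 ∧ j.val + 2 ≤ n) → ¬ (i.val + 3 = n ∧ j.val + 1 = n) → T.a (σ i) (σ j) = 0)) ∨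
      ((∀ i : Fin n, i.val ≤ 1 → T.m (σ i) = m) ∧
        (∀ i : Fin n, 2 ≤ i.val ∧ i.val + 2 < n → T.m (σ i) = 2 * m) ∧
        (∀ i : Fin n, n ≤ i.val + 2 → T.m (σ i) = m) ∧
        (∀ i : Fin n, T.w (σ i) = w) ∧
        (∀ i j : Fin n, i.val < j.val → i.val = 0 ∧ j.val = 2 → T.a (σ i) (σ j) = w) ∧
        (∀ i j : Fin n, i.val < j.val → i.val = 1 ∧ j.val = 2 → T.a (σ i) (σ j) = w) ∧
        (∀ i j : Fin n, i.val < j.val → j.val = i.val + 1 ∧ 2 ≤ i.val ∧ j.val + 2 ≤ n → T.a (σ i) (σ j) = w) ∧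
        (∀ i j : Fin n, i.val < j.val → i.val + 3 = n ∧ j.val + 1 = n → T.a (σ i) (σ j) = w) ∧
        (∀ i j : Fin n, i.val < j.val → ¬ (i.val = 0 ∧ j.val = 2) → ¬ (i.val = 1 ∧ j.val = 2) → ¬ (j.val = i.val + 1 ∧ 2 ≤ i.val ∧ j.val + 2 ≤ n) → ¬ (i.val + 3 = n ∧ j.val + 1 = n) → T.a (σ i) (σ j) = 0))) := by
  open Groth.Agent.Lib.NumType.GenusOne Groth.Agent.Lib.NumType.Families Groth.Agent.Lib.NumType in
  obtain ⟨hg0, hdiag, h⟩ := affine (by omega) hmin hg
  refine ⟨hg0, hdiag, ?_⟩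
  rcases h with h | h | h | h | ⟨he, h⟩ | ⟨he, h⟩ | ⟨he, h⟩ | ⟨he, h⟩ | ⟨he, h⟩ | ⟨he, h⟩ | ⟨he, h⟩ | ⟨he, h⟩
  · obtain ⟨σ, m, w, h2, h1, hA⟩ := h
    refine ⟨σ, m, w, .inl ?_⟩
    repeat' apply And.intro
    all_goals intros
    all_goals first | rw [(h1 _).1] | rw [(h1 _).2] | rw [hA _ _ (by assumption)]
    all_goals simp only [cycle]
    all_goals first | (split_ifs <;> first | omega | ring) | omega | ring
  · obtain ⟨σ, m, w, h2, h1, hA⟩ := h
    refine ⟨σ, m, w, .inr (.inl ?_)⟩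
    repeat' apply And.intro
    all_goals intros
    all_goals first | rw [(h1 _).1] | rw [(h1 _).2] | rw [hA _ _ (by assumption)]
    all_goals simp only [chainUU]
    all_goals first | (split_ifs <;> first | omega | ring) | omega | ring
  · obtain ⟨σ, m, w, h2, h1, hA⟩ := h
    refine ⟨σ, m, w, .inr (.inr (.inl ?_))⟩
    repeat' apply And.intro
    all_goals intros
    all_goals first | rw [(h1 _).1] | rw [(h1 _).2] | rw [hA _ _ (by assumption)]
    all_goals simp only [chainUD]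
    all_goals first | (split_ifs <;> first | omega | ring) | omega | ring
  · obtain ⟨σ, m, w, h2, h1, hA⟩ := h
    refine ⟨σ, m, w, .inr (.inr (.inr (.inl ?_)))⟩
    repeat' apply And.intro
    all_goals intros
    all_goals first | rw [(h1 _).1] | rw [(h1 _).2] | rw [hA _ _ (by assumption)]
    all_goals simp only [chainDU]
    all_goals first | (split_ifs <;> first | omega | ring) | omega | ring
  · obtain ⟨σ, m, w, h2, h1, hA⟩ := h
    refine ⟨σ, m, w, .inr (.inr (.inr (.inr (.inl ?_))))⟩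
    repeat' apply And.intro
    all_goals intros
    all_goals first | rw [(h1 _).1] | rw [(h1 _).2] | rw [hA _ _ (by assumption)]
    all_goals simp only [forkU]
    all_goals first | (split_ifs <;> first | omega | ring) | omega | ring
  · obtain ⟨σ, m, w, h2, h1, hA⟩ := h
    refine ⟨σ, m, w, .inr (.inr (.inr (.inr (.inr (.inl ?_)))))⟩
    repeat' apply And.intro
    all_goals intros
    all_goals first | rw [(h1 _).1] | rw [(h1 _).2] | rw [hA _ _ (by assumption)]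
    all_goals simp only [forkD]
    all_goals first | (split_ifs <;> first | omega | ring) | omega | ring
  · obtain ⟨σ, m, w, h2, h1, hA⟩ := h
    refine ⟨σ, m, w, .inr (.inr (.inr (.inr (.inr (.inr (?_))))))⟩
    repeat' apply And.intro
    all_goals intros
    all_goals first | rw [(h1 _).1] | rw [(h1 _).2] | rw [hA _ _ (by assumption)]
    all_goals simp only [forks]
    all_goals first | (split_ifs <;> first | omega | ring) | omega | ring
  · omega
  · omega
  · omega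
  · omega
  · omega

end Groth.Agent.S7371
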