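import Groth.Statements.S7373
import Groth.Agent.H81.CurveRes.Embedded
-- import your own Groth.Agent.* helpers here

set_option autoImplicit false
universe u
open CategoryTheory CategoryTheory.Limits AlgebraicGeometry
open Resolve

namespace Groth.Agent.S7373

/-- Let X be a Noetherian scheme and Y ⊂ X an integral closed subscheme of dimension one (given by its
ideal sheaf I) whose normalization morphism is finite. Then there is a finite sequence of blowings
up in closed points g : X' → X such that the strict transform Y' of Y in X' is a regular curve: an
integral closed subscheme Y' ⊂ X' (ideal I') mapped by g into Y, isomorphically over a nonempty open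
of Y, all of whose local rings are regular. (The quasi-compactness and quasi-separatedness binders
on Spec K(Y) → Y always hold.) -/
theorem result (X : Scheme.{u}) [IsNoetherian X] (I : X.IdealSheafData)
    [IsIntegral I.subscheme] (hdim : topologicalKrullDim ↥I.subscheme = 1)
    [QuasiCompact (I.subscheme.fromSpecStalk (genericPoint ↥I.subscheme))]
    [QuasiSeparated (I.subscheme.fromSpecStalk (genericPoint ↥I.subscheme))]
    (hfin : IsFinite (Curv2.normalizationι I.subscheme)) :
    ∃ (X' : Scheme.{u}) (g : X' ⟶ X), Resolve.IsPtBlowupSeq g ∧
      ∃ (I' : X'.IdealSheafData) (g' : I'.subscheme ⟶ I.subscheme), IsIntegral I'.subscheme ∧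
        g' ≫ I.subschemeι = I'.subschemeι ≫ g ∧
        (∃ V : I.subscheme.Opens, (V : Set ↥I.subscheme).Nonempty ∧ IsIso (g' ∣_ V)) ∧
        ∀ y : ↥I'.subscheme, IsRegularLocalRing (I'.subscheme.presheaf.stalk y) := by
  haveI : IsNoetherian I.subscheme :=
    { toIsLocallyNoetherian := LocallyOfFiniteType.isLocallyNoetherian I.subschemeι
      toCompactSpace := QuasiCompact.compactSpace_of_compactSpace I.subschemeι }
  exact Groth.Agent.H81.CurveRes.exists_embedded_resolution X I hdim hfin

end Groth.Agent.S7373
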