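import Groth.Statements.S7374
import Groth.Agent.H81.CurveRes.Separate
-- import your own Groth.Agent.* helpers here

set_option autoImplicit false
universe u
open CategoryTheory CategoryTheory.Limits AlgebraicGeometry
open Resolve

namespace Groth.Agent.S7374

/-- Let X be a Noetherian scheme and Y_1, …, Y_n ⊂ X integral closed subschemes of dimension one (ideal
sheaves I_i), pairwise distinct, each with finite normalization morphism. Then there is a finite
sequence of blowings up in closed points g : X' → X such that the strict transforms Y'_i ⊂ X' —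
integral closed subschemes (ideals I'_i) mapped by g into Y_i, isomorphically over a nonempty open
of Y_i — are pairwise disjoint and have regular local rings. (The quasi-compactness and
quasi-separatedness binders always hold. The published statement does not say the Y_i are distinct;
for Y_1 = Y_2 the strict transforms coincide and cannot be disjoint, so distinctness is assumed
here, as the proof's use of the intersection multiplicities m_p(Y_i ∩ Y_j) requires.) -/
theorem result (X : Scheme.{u}) [IsNoetherian X] {n : ℕ}
    (I : Fin n → X.IdealSheafData) [∀ i, IsIntegral (I i).subscheme] (hdim : ∀ i, topologicalKrullDim ↥(I i).subscheme = 1)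
    [∀ i, QuasiCompact ((I i).subscheme.fromSpecStalk (genericPoint ↥(I i).subscheme))]
    [∀ i, QuasiSeparated ((I i).subscheme.fromSpecStalk (genericPoint ↥(I i).subscheme))]
    (hfin : ∀ i, IsFinite (Curv2.normalizationι (I i).subscheme)) (hdist : Function.Injective I) :
    ∃ (X' : Scheme.{u}) (g : X' ⟶ X), Resolve.IsPtBlowupSeq g ∧
      ∃ (I' : Fin n → X'.IdealSheafData) (g' : ∀ i, (I' i).subscheme ⟶ (I i).subscheme),
        (∀ i, IsIntegral (I' i).subscheme ∧ g' i ≫ (I i).subschemeι = (I' i).subschemeι ≫ g ∧
          (∃ V : (I i).subscheme.Opens, (V : Set ↥(I i).subscheme).Nonempty ∧ IsIso (g' i ∣_ V)) ∧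
          ∀ y : ↥(I' i).subscheme, IsRegularLocalRing ((I' i).subscheme.presheaf.stalk y)) ∧
        ∀ i j, i ≠ j → Disjoint ((I' i).support : Set X') ((I' j).support : Set X') := by
  haveI : ∀ i, IsNoetherian (I i).subscheme := fun i =>
    { toIsLocallyNoetherian := LocallyOfFiniteType.isLocallyNoetherian (I i).subschemeι
      toCompactSpace := QuasiCompact.compactSpace_of_compactSpace (I i).subschemeι }
  have hres : ∀ i, ∃ (R : Scheme.{u}) (_ : IsIntegral R) (h : R ⟶ (I i).subscheme), Groth.Agent.H81.CurveRes.PB h ∧
      ∀ z : R, IsRegularLocalRing (R.presheaf.stalk z) := fun i => by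
    obtain ⟨hp, hN, hV, hreg⟩ := Groth.Agent.Lib.Flat55.CurveResolution.resolution_of_isFinite (hdim i).le (hfin i)
    exact ⟨_, hN, _, ⟨hp, hV⟩, hreg⟩
  obtain ⟨W, G, C, hG, hreg, hdisj⟩ := Groth.Agent.H81.CurveRes.exists_disjoint (fun i => (I i).subscheme) hdim
    (fun i => (I i).subschemeι)
    (fun a b h => hdist (by simpa [Scheme.IdealSheafData.ker_subschemeι] using h)) hres
  haveI : ∀ i, IsClosedImmersion (C i).j := fun i => (C i).closed
  haveI : ∀ i, IsIso (C i).j.toImage := fun i => inferInstanceAs (IsIso (C i).j.toImage)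
  refine ⟨W, G, hG, fun i => (C i).j.ker, fun i => inv (C i).j.toImage ≫ (C i).g, fun i => ⟨?_, ?_, ?_, ?_⟩, ?_⟩
  · haveI := (C i).int
    haveI : Nonempty (C i).j.ker.subscheme := ⟨(C i).j.toImage.base (genericPoint (C i).Z)⟩
    exact isIntegral_of_isOpenImmersion (inv (C i).j.toImage)
  · rw [Category.assoc, ← (C i).comm, ← Category.assoc]
    congr 1
    rw [IsIso.inv_comp_eq]; exact (C i).j.toImage_imageι.symm
  · obtain ⟨-, V, hne, hV⟩ := (C i).pb
    refine ⟨V, hne, ?_⟩
    rw [morphismRestrict_comp]
    exact IsIso.comp_isIso' (Groth.Agent.H81.CurveRes.isIso_restrict_of_isIso _ _) hV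
  · intro y
    haveI := hreg i ((inv (C i).j.toImage).base y)
    exact IsRegularLocalRing.of_ringEquiv
      (asIso ((inv (C i).j.toImage).stalkMap y)).commRingCatIsoToRingEquiv
  · intro i k hik
    refine Set.disjoint_left.2 fun w hw hw' => Set.disjoint_left.1 (hdisj i k hik)
      ((Groth.Agent.H81.CurveRes.mem_support_ker _).1 hw) ((Groth.Agent.H81.CurveRes.mem_support_ker _).1 hw')

end Groth.Agent.S7374
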