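import Groth.Statements.S7375
import Groth.Agent.Lib.NormBlow74.Main

set_option autoImplicit false
universe u
open CategoryTheory CategoryTheory.Limits AlgebraicGeometry
open Resolve

namespace Groth.Agent.S7375

/-- Let X be an integral Noetherian Nagata scheme of dimension two and f : Y → X a proper birational
morphism (Y integral, f an isomorphism over a nonempty open). Then there are a finite sequence of
normalized blowings up in closed points g : X_n → … → X_1 → X_0 = X^ν, where X^ν → X is the
normalization, and a morphism X_n → Y over X. (The quasi-compactness and quasi-separatedness binders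
on Spec K(X) → X always hold.) -/
theorem result (X : Scheme.{u}) [IsIntegral X] [IsNoetherian X]
    (hN : ∀ U : X.affineOpens, CAlg.IsNagata Γ(X, U.1)) (hdim : topologicalKrullDim X = 2)
    [QuasiCompact (X.fromSpecStalk (genericPoint X))] [QuasiSeparated (X.fromSpecStalk (genericPoint X))]
    {Y : Scheme.{u}} [IsIntegral Y] (f : Y ⟶ X) [IsProper f]
    (hbir : ∃ U : X.Opens, (U : Set X).Nonempty ∧ IsIso (f ∣_ U)) :
    ∃ (Xn : Scheme.{u}) (g : Xn ⟶ Curv2.normalization X), Resolve.IsNormPtBlowupSeq g ∧
      ∃ h : Xn ⟶ Y, h ≫ f = g ≫ Curv2.normalizationι X := by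
  obtain ⟨hNi, hνf, hNn, hNnor, hNnag, hνb⟩ := Groth.Agent.Lib.NormBlow74.Modif.normalization_good X hN
  haveI := hNn
  haveI : IsLocallyNoetherian Y := LocallyOfFiniteType.isLocallyNoetherian f
  haveI : CompactSpace Y := QuasiCompact.compactSpace_of_compactSpace f
  haveI : IsNoetherian Y := {}
  haveI := Groth.Agent.Lib.NormBlow74.Modif.finiteSpec_qc Y
  haveI := Groth.Agent.Lib.NormBlow74.Modif.qs_generic Y
  obtain ⟨hYi, hYf, hYn, hYnor, -, hYb⟩ := Groth.Agent.Lib.NormBlow74.Modif.normalization_good Y
    (Groth.Agent.Lib.NormBlow74.Modif.isNag_of_lft f hN)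
  haveI := hYn
  haveI : IsProper (Curv2.normalizationι Y ≫ f) := inferInstance
  obtain ⟨Xn, g, hg, h, hh⟩ := Groth.Agent.Lib.NormBlow74.Main.exists_dominating (Curv2.normalizationι Y ≫ f)
    (Groth.Agent.Lib.NormBlow74.Modif.bir_comp hYb hbir) hYnor hdim.le hNnor hNnag (Curv2.normalizationι X) hνb
  exact ⟨Xn, g, hg, h ≫ Curv2.normalizationι Y, by rw [Category.assoc, hh]⟩

end Groth.Agent.S7375
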