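import Groth.Statements.S7378
import Groth.Agent.S7375

set_option autoImplicit false
universe u
open CategoryTheory CategoryTheory.Limits AlgebraicGeometry
open Resolve

namespace Groth.Agent.S7378

/-- Agreement over an open passes to a further modification. -/
theorem agree_lift {Z W X Y : Scheme.{u}} (π : W ⟶ X) (h : Z ⟶ W) (r : W ⟶ Y) {U : X.Opens}
    (f : (U : Scheme.{u}) ⟶ Y) (hagree : (π ⁻¹ᵁ U).ι ≫ r = π ∣_ U ≫ f) :
    ((h ≫ π) ⁻¹ᵁ U).ι ≫ h ≫ r = (h ≫ π) ∣_ U ≫ f := by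
  rw [morphismRestrict_comp]
  show (h ⁻¹ᵁ π ⁻¹ᵁ U).ι ≫ h ≫ r = (h ∣_ π ⁻¹ᵁ U ≫ π ∣_ U) ≫ f
  exact (morphismRestrict_ι_assoc h (π ⁻¹ᵁ U) r).symm.trans
    ((congrArg (h ∣_ (π ⁻¹ᵁ U) ≫ ·) hagree).trans (Category.assoc _ _ _).symm)

/-- Let S be a scheme, p : X → S with X an integral Noetherian Nagata scheme of dimension two, q : Y → S
proper, and f : U → Y an S-morphism defined on a dense open U ⊂ X (an S-rational map from X to Y).
Then there exist a finite sequence of normalized blowings up in closed points g : X_n → … → X_1 →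
X_0 = X^ν, X^ν → X the normalization, and an S-morphism f_n : X_n → Y which agrees with f on the
inverse image of U. (The quasi-compactness and quasi-separatedness binders on Spec K(X) → X always
hold.) -/
theorem result {S : Scheme.{u}} (X Y : Scheme.{u}) (p : X ⟶ S) (q : Y ⟶ S) [IsProper q]
    [IsIntegral X] [IsNoetherian X] (hN : ∀ V : X.affineOpens, CAlg.IsNagata Γ(X, V.1)) (hdim : topologicalKrullDim X = 2)
    [QuasiCompact (X.fromSpecStalk (genericPoint X))] [QuasiSeparated (X.fromSpecStalk (genericPoint X))]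
    (U : X.Opens) (hU : Dense (U : Set X)) (f : (U : Scheme.{u}) ⟶ Y) (hf : f ≫ q = U.ι ≫ p) :
    ∃ (Xn : Scheme.{u}) (g : Xn ⟶ Curv2.normalization X) (fn : Xn ⟶ Y), Resolve.IsNormPtBlowupSeq g ∧
      fn ≫ q = (g ≫ Curv2.normalizationι X) ≫ p ∧
      ((g ≫ Curv2.normalizationι X) ⁻¹ᵁ U).ι ≫ fn = ((g ≫ Curv2.normalizationι X) ∣_ U) ≫ f := by
  haveI : Nonempty X := ⟨genericPoint X⟩
  obtain ⟨W, i, hi, hW, hiso, hagree⟩ := Groth.Agent.Lib.NormBlow74.Graph.exists_graph p q U hU.nonempty f hf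
  haveI := hi
  haveI := hW
  haveI : IsProper (i ≫ pullback.fst p q) := inferInstance
  obtain ⟨Xn, g, hg, h, hh⟩ := Groth.Agent.S7375.result X hN hdim (i ≫ pullback.fst p q) ⟨U, hU.nonempty, hiso⟩
  refine ⟨Xn, g, h ≫ i ≫ pullback.snd p q, hg, ?_, ?_⟩
  · rw [Category.assoc, Category.assoc, ← pullback.condition, ← hh]
    simp only [Category.assoc]
  · rw [← hh]
    exact agree_lift _ h _ f hagree

end Groth.Agent.S7378
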