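import Groth.Statements.S7379
import Groth.Agent.Lib.Lim.IdealFP
-- import your own Groth.Agent.* helpers here

set_option autoImplicit false
universe u
open CategoryTheory AlgebraicGeometry
open Lim

namespace Groth.Agent.S7379
set_option backward.isDefEq.respectTransparency false

/-- Let `ι : X → Y` be a closed immersion with `Y` quasi-compact and quasi-separated. Then, in the
category of schemes over `Y`, `X` is the limit of a nonempty directed inverse system whose objects
`X_i → Y` are closed immersions of finite presentation. -/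
theorem result {X Y : Scheme.{u}} (ι : X ⟶ Y)
    [IsClosedImmersion ι] [CompactSpace Y] [QuasiSeparatedSpace Y] :
    ∃ (I : Type u) (_ : Preorder I) (_ : IsDirected I (fun a b => a ≤ b)) (_ : Nonempty I)
      (D : Iᵒᵖ ⥤ Over Y) (c : Limits.Cone D) (_ : Limits.IsLimit c),
      (∀ i, IsClosedImmersion (D.obj i).hom ∧ LocallyOfFinitePresentation (D.obj i).hom) ∧
      Nonempty (c.pt ≅ Over.mk ι) := by
  refine ⟨Groth.Agent.Lib.Lim.IdealExt.FGSub ι.ker, inferInstance, inferInstance, inferInstance,
    Groth.Agent.Lib.Lim.IdealFP.overDiagram ι.ker, Groth.Agent.Lib.Lim.IdealFP.overCone ι.ker,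
    Groth.Agent.Lib.Lim.IdealFP.isLimitOverCone ι.ker, fun J => ⟨?_, ?_⟩, ⟨?_⟩⟩
  · exact inferInstanceAs (IsClosedImmersion J.unop.1.subschemeι)
  · exact Groth.Agent.Lib.Lim.IdealFP.lfp_subschemeι J.unop.1 J.unop.2.2
  · exact (Over.isoMk (asIso ι.toImage) ι.toImage_imageι).symm

end Groth.Agent.S7379
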