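import Groth.Statements.S7381
import Groth.Agent.Lib.Lim.Approx.Rel
-- import your own Groth.Agent.* helpers here

set_option autoImplicit false
universe u
open CategoryTheory AlgebraicGeometry
open Lim

namespace Groth.Agent.S7381
set_option backward.isDefEq.respectTransparency false
open CategoryTheory.Limits Opposite

/-- Let `f : X → S` be finite with `S` quasi-compact and quasi-separated. Then, in the category of
schemes over `S`, `X` is the limit of a nonempty directed inverse system of schemes `X_i → S` that
are finite and locally of finite presentation, with closed immersions as transition morphisms. -/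
theorem result {X S : Scheme.{u}} (f : X ⟶ S) [IsFinite f]
    [CompactSpace S] [QuasiSeparatedSpace S] :
    ∃ (I : Type u) (_ : Preorder I) (_ : IsDirected I (fun a b => a ≤ b)) (_ : Nonempty I)
      (D : Iᵒᵖ ⥤ Over S) (c : Limits.Cone D) (_ : Limits.IsLimit c),
      (∀ i, IsFinite (D.obj i).hom ∧ LocallyOfFinitePresentation (D.obj i).hom) ∧
      (∀ (i j : Iᵒᵖ) (a : i ⟶ j), IsClosedImmersion (D.map a).left) ∧
      Nonempty (c.pt ≅ Over.mk f) := by
  have : CompactSpace X := QuasiCompact.compactSpace_of_compactSpace f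
  have : QuasiSeparatedSpace X := quasiSeparatedSpace_of_quasiSeparated f
  obtain ⟨R, hcl, hπ⟩ := Groth.Agent.Lib.Lim.Approx.Rel.exists_closedApprox f
  obtain ⟨k⟩ := R.ne
  have : IsIntegralHom (R.cone.π.app (op k) ≫ R.t.app (op k)) := by rw [R.w]; infer_instance
  have := fun i j (a : i ⟶ j) => hcl a
  have : ∀ i j (a : i ⟶ j), IsFinite (R.D.map a) := fun i j a => inferInstance
  obtain ⟨i, hi⟩ := Groth.Agent.Lib.Lim.Eventual.exists_isFinite R.t R.isLimit (op k)
  let R' := R.tail i.unop
  exact ⟨R'.K, R'.pre, R'.dir, R'.ne, R'.overD, R'.overCone, R'.isLimitOverCone,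
    fun k' => ⟨hi _ (homOfLE k'.unop.2).op, R'.lfp k'⟩, fun a b g => hcl _, ⟨Iso.refl _⟩⟩

end Groth.Agent.S7381
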