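import Groth.Statements.S7386
import Groth.Agent.H75.GenPts.Basic

set_option autoImplicit false
universe u
open CategoryTheory AlgebraicGeometry
open Mor

namespace Groth.Agent.S7386

open TopologicalSpace

/-- Let `X` be a quasi-separated scheme, `η_1, …, η_n` generic points of irreducible components of `X`
and `x` any point of `X`. Then some affine open of `X` contains `x` and all the `η_i`. -/
theorem result (X : Scheme.{u}) [QuasiSeparatedSpace X] {n : ℕ}
    (η : Fin n → X) (hη : ∀ i, closure ({η i} : Set X) ∈ irreducibleComponents (X : Type u)) (x : X) :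
    ∃ U : X.Opens, IsAffineOpen U ∧ x ∈ U ∧ ∀ i, η i ∈ U := by
  obtain ⟨V, hV, hxV, -⟩ := exists_isAffineOpen_mem_and_subset (X := X) (x := x) (U := ⊤) trivial
  let ι := {p : X // (∃ i, η i = p) ∧ p ∉ V}
  haveI : Finite ι := Finite.of_injective (fun p : ι => (⟨p.1, p.2.1⟩ : Set.range η)) (fun a b h => Subtype.ext (congrArg (fun q : Set.range η => (q : X)) h))
  have hι : ∀ p : ι, closure ({p.1} : Set X) ∈ irreducibleComponents (X : Type u) := fun p => by
    obtain ⟨⟨i, hi⟩, -⟩ := p.2
    exact hi ▸ hη i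
  have hnc : ∀ p : ι, p.1 ∈ (⟨(closure (V : Set X))ᶜ, isClosed_closure.isOpen_compl⟩ : X.Opens) := fun p =>
    Groth.Agent.H75.GenPts.notMem_closure (hι p) V hV.isCompact p.2.2
  obtain ⟨U, hU, hd⟩ := Groth.Agent.H75.GenPts.exists_disjoint_affine (fun p : ι => p.1) hι Subtype.val_injective _ hnc
  have hA := IsAffineOpen.iSup_of_disjoint (fun p => (hU p).1) (fun p q h => hd p q h)
  have hdis : Disjoint V (⨆ p, U p) := by
    rw [disjoint_iff]
    ext z
    simp only [TopologicalSpace.Opens.coe_inf, Set.mem_inter_iff, TopologicalSpace.Opens.coe_bot,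
      Set.mem_empty_iff_false, iff_false, not_and]
    intro hzV hz
    obtain ⟨p, hp⟩ := TopologicalSpace.Opens.mem_iSup.mp hz
    exact (hU p).2.2 hp (subset_closure hzV)
  refine ⟨V ⊔ ⨆ p, U p, hV.sup_of_disjoint hA hdis, Or.inl hxV, fun i => ?_⟩
  by_cases h : η i ∈ V
  · exact Or.inl h
  · exact Or.inr (TopologicalSpace.Opens.mem_iSup.mpr ⟨⟨η i, ⟨i, rfl⟩, h⟩, (hU _).2.1⟩)

end Groth.Agent.S7386
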