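import Groth.Statements.S7389
import Groth.Agent.Lib.Ferrand.Finite

set_option autoImplicit false
universe u
open CategoryTheory AlgebraicGeometry
open Mor

namespace Groth.Agent.S7389

open TopologicalSpace

/-- Let `X` be a scheme admitting an immersion into an affine scheme. Then any finite set of points of
`X` is contained in an affine open of `X`. -/
theorem result {X Y : Scheme.{u}} [IsAffine Y] (ι : X ⟶ Y)
    [IsImmersion ι] (E : Set X) (hE : E.Finite) :
    ∃ U : X.Opens, IsAffineOpen U ∧ E ⊆ U := by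
  obtain ⟨f, hf, hEf⟩ := Groth.Agent.Lib.Ferrand.exists_basicOpen_finite_le (isAffineOpen_top Y)
    (hE.image ι.base) (Set.subset_univ _) ι.coborderRange (by rintro _ ⟨x, -, rfl⟩; exact subset_coborder ⟨x, rfl⟩)
  refine ⟨ι ⁻¹ᵁ Y.basicOpen f, ?_, fun x hx => hEf ⟨x, hx, rfl⟩⟩
  have h1 : IsAffineOpen (ι.coborderRange.ι ⁻¹ᵁ Y.basicOpen f) :=
    ((isAffineOpen_top Y).basicOpen f).preimage_of_isOpenImmersion _ (by rw [Scheme.Opens.opensRange_ι]; exact hf)
  have h2 := h1.preimage ι.liftCoborder
  rwa [← Scheme.Hom.comp_preimage, Scheme.Hom.liftCoborder_ι] at h2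

end Groth.Agent.S7389
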