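import Groth.Statements.S7390
import Groth.Agent.Lib.Ample.Basis

set_option autoImplicit false
universe u
open CategoryTheory AlgebraicGeometry
open Mor

namespace Groth.Agent.S7390

open TopologicalSpace Limits

/-- Let `X` be a scheme such that every point lies in some affine open `X_s`, the locus where a global
section `s` generates an invertible `O_X`-module `L` (both depending on the point). Then the
diagonal of `X` is an affine morphism. -/
theorem result (X : Scheme.{u})
    (h : ∀ x : X, ∃ (L : X.Modules) (s : Coh.structureModule X ⟶ L), PicF.IsInvertible L ∧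
      x ∈ CohB1.genLocus L s ∧ IsAffineOpen (CohB1.genLocus L s)) :
    IsAffineHom (Limits.pullback.diagonal (Limits.terminal.from X)) := by
  choose L s hL hx haff using h
  refine isAffineHom_diagonal_iff.mpr fun T _ V₁ _ V₂ _ h₁ h₂ => ?_
  haveI : IsAffineHom V₁.ι := by
    refine (IsZariskiLocalAtTarget.iff_of_iSup_eq_top (P := @IsAffineHom) (fun x => CohB1.genLocus (L x) (s x))
      (eq_top_iff.mpr fun x _ => TopologicalSpace.Opens.mem_iSup.mpr ⟨x, hx x⟩)).mpr fun x => ?_
    haveI : IsAffine (CohB1.genLocus (L x) (s x) : Scheme.{u}) := haff x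
    haveI : IsAffine ((V₁.ι ⁻¹ᵁ CohB1.genLocus (L x) (s x) : (V₁ : Scheme.{u}).Opens) : Scheme.{u}) := by
      show IsAffineOpen _
      rw [← V₁.ι.isAffineOpen_iff_of_isOpenImmersion, Scheme.Hom.image_preimage_eq_opensRange_inf,
        Scheme.Opens.opensRange_ι, inf_comm]
      exact Groth.Agent.Lib.Ample.Basis.isAffineOpen_genLocus_inf (hL x) (s x) h₁
    infer_instance
  have h := (h₂.preimage V₁.ι).image_of_isOpenImmersion V₁.ι
  rwa [Scheme.Hom.image_preimage_eq_opensRange_inf, Scheme.Opens.opensRange_ι] at h

end Groth.Agent.S7390
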