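import Groth.Statements.S7392
import Groth.Agent.H52.QCoh.ProjLocal

set_option autoImplicit false
universe u
open CategoryTheory AlgebraicGeometry
open Opposite
open Mor

namespace Groth.Agent.S7392

/-- For a ring `A` and an `A`-module `M`, the module `M~` on `Spec A` is locally projective (projective
sections over every affine open) if and only if `M` is a projective `A`-module. -/
theorem result (A : CommRingCat.{u}) (M : ModuleCat.{u} A) :
    (∀ U : (Spec A).Opens, IsAffineOpen U →
      Module.Projective ((Spec A).ringCatSheaf.obj.obj (op U)) ((tilde M).val.obj (op U))) ↔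
      Module.Projective A M := by
  letI : RingHomInvPair (↑(Scheme.ΓSpecIso A).inv.hom : A →+* Γ(Spec A, ⊤)) (Scheme.ΓSpecIso A).hom.hom :=
    ⟨by ext a; simp, by ext a; simp⟩
  letI : RingHomInvPair ((Scheme.ΓSpecIso A).hom.hom : Γ(Spec A, ⊤) →+* A) (Scheme.ΓSpecIso A).inv.hom :=
    ⟨by ext a; simp, by ext a; simp⟩
  let e : M ≃ₛₗ[((Scheme.ΓSpecIso A).inv.hom : A →+* Γ(Spec A, ⊤))] Γ(tilde M, ⊤) :=
    { (tilde.isoTop M).toLinearEquiv.toAddEquiv with
      map_smul' := fun a x => (tilde.isoTop M).toLinearEquiv.map_smul a x }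
  refine ⟨fun h => ?_, fun h U hU => ?_⟩
  · haveI : Module.Projective Γ(Spec A, ⊤) Γ(tilde M, ⊤) := h ⊤ (isAffineOpen_top _)
    exact Module.Projective.of_equiv e.symm
  · haveI : Module.Projective A M := h
    exact H52.QCoh.ProjLocal.projective_sections (tilde M) (fun _ : PUnit.{u+1} => (⊤ : (Spec A).Opens))
      (top_le_iff.1 fun x _ => TopologicalSpace.Opens.mem_iSup.2 ⟨PUnit.unit, trivial⟩)
      (fun _ => ⟨isAffineOpen_top _, Module.Projective.of_equiv e⟩) hU

end Groth.Agent.S7392
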