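import Groth.Statements.S7394
-- import your own Groth.Agent.* helpers here

set_option autoImplicit false
universe u
open CategoryTheory AlgebraicGeometry
open Lim

namespace Groth.Agent.S7394
set_option backward.isDefEq.respectTransparency false

lemma exists_common_field {K : Type u} [Field K] {I : Type u} (L : I → Type u)
    [∀ i, CommRing (L i)] [∀ i, Nontrivial (L i)] [∀ i, Algebra K (L i)] :
    ∃ (M : Type u) (_ : Field M) (_ : Algebra K M), ∀ i, Nonempty (L i →ₐ[K] M) := by
  let σ := Σ i, L i
  let ev : ∀ i, MvPolynomial (L i) K →ₐ[K] L i := fun i => MvPolynomial.aeval id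
  let emb : ∀ i, MvPolynomial (L i) K →ₐ[K] MvPolynomial σ K := fun i => MvPolynomial.rename (fun x => ⟨i, x⟩)
  let J : Ideal (MvPolynomial σ K) := ⨆ i, (RingHom.ker (ev i).toRingHom).map (emb i).toRingHom
  have hfin : ∀ F : Finset I, ∃ (M : Type u) (_ : Field M) (_ : Algebra K M), ∀ i ∈ F, Nonempty (L i →ₐ[K] M) := by
    classical
    intro F
    induction F using Finset.induction with
    | empty => exact ⟨K, inferInstance, inferInstance, fun i hi => (Finset.notMem_empty i hi).elim⟩
    | insert a F ha ih =>
      obtain ⟨M, _, _, hM⟩ := ih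
      let A := TensorProduct K (L a) M
      have : Nontrivial A := (Algebra.TensorProduct.includeLeft_injective (R := K) (S := K) (A := L a) (B := M)
        (FaithfulSMul.algebraMap_injective K M)).nontrivial
      obtain ⟨m, hm⟩ := Ideal.exists_maximal A
      let π := Ideal.Quotient.mkₐ K m
      refine ⟨A ⧸ m, Ideal.Quotient.field m, inferInstance, fun i hi => ?_⟩
      rcases Finset.mem_insert.mp hi with rfl | hi
      · exact ⟨π.comp Algebra.TensorProduct.includeLeft⟩
      · exact ⟨(π.comp Algebra.TensorProduct.includeRight).comp (hM i hi).some⟩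
  have hJ : J ≠ ⊤ := by
    classical
    intro htop
    obtain ⟨F, hF⟩ := Submodule.exists_finset_of_mem_iSup
      (fun i => (RingHom.ker (ev i).toRingHom).map (emb i).toRingHom) ((Ideal.eq_top_iff_one J).mp htop)
    obtain ⟨M, _, _, hM⟩ := hfin F
    let v : σ → M := fun x => if h : x.1 ∈ F then (hM x.1 h).some x.2 else 0
    have hle : (⨆ i ∈ F, (RingHom.ker (ev i).toRingHom).map (emb i).toRingHom) ≤
        RingHom.ker (MvPolynomial.aeval (R := K) v).toRingHom := by
      refine iSup₂_le fun i hi => Ideal.map_le_iff_le_comap.mpr fun p hp => ?_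
      show MvPolynomial.aeval v (MvPolynomial.rename (fun x => (⟨i, x⟩ : σ)) p) = 0
      have hv : (v ∘ fun x => (⟨i, x⟩ : σ)) = fun x => (hM i hi).some x := by
        funext x; simp [v, hi]
      rw [MvPolynomial.aeval_rename, hv]
      have h0 : (hM i hi).some (ev i p) = 0 := by rw [show ev i p = 0 from hp, map_zero]
      rw [← h0]
      exact DFunLike.congr_fun (MvPolynomial.comp_aeval (hM i hi).some (f := id)).symm p
    have h1 := hle hF
    rw [RingHom.mem_ker, map_one] at h1
    exact one_ne_zero h1
  obtain ⟨m, hm, hJm⟩ := Ideal.exists_le_maximal J hJ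
  let M := MvPolynomial σ K ⧸ m
  letI : Field M := Ideal.Quotient.field m
  let π := Ideal.Quotient.mkₐ K m
  have hker : ∀ i, ∀ x ∈ RingHom.ker (ev i), π (emb i x) = 0 := fun i x hx =>
    Ideal.Quotient.eq_zero_iff_mem.mpr (hJm (Ideal.mem_iSup_of_mem i (Ideal.mem_map_of_mem _ hx)))
  have hsurj : ∀ i, Function.Surjective (ev i) := fun i x => ⟨MvPolynomial.X x, MvPolynomial.aeval_X _ _⟩
  exact ⟨M, inferInstance, inferInstance, fun i =>
    ⟨AlgHom.liftOfSurjective (ev i) (hsurj i) (π.comp (emb i)) (hker i)⟩⟩

/-- Let `S` be a scheme and `T_i → S`, `i ∈ I`, surjective affine morphisms. Then any product of the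
`T_i` in the category of schemes over `S` maps surjectively onto `S`. -/
theorem result {S : Scheme.{u}} {I : Type u} (T : I → Over S)
    (hT : ∀ i, IsAffineHom (T i).hom ∧ Surjective (T i).hom) (c : Limits.Fan T) (hc : Limits.IsLimit c) :
    Surjective c.pt.hom := by
  refine ⟨fun s => ?_⟩
  let K := S.residueField s
  have hpt : ∀ i, ∃ t : (T i).left, (T i).hom t = s := fun i => (hT i).2.surj s
  choose t ht using hpt
  let L : I → CommRingCat.{u} := fun i => (T i).left.residueField (t i)
  let ψ : ∀ i, K ⟶ L i := fun i => (S.residueFieldCongr (ht i).symm).hom ≫ (T i).hom.residueFieldMap (t i)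
  letI : ∀ i, Algebra K (L i) := fun i => (ψ i).hom.toAlgebra
  obtain ⟨M, _, _, hM⟩ := exists_common_field (K := (K : Type u)) (fun i => (L i : Type u))
  let φ : ∀ i, L i →ₐ[K] M := fun i => (hM i).some
  let P : Over S := Over.mk (Spec.map (CommRingCat.ofHom (algebraMap K M)) ≫ S.fromSpecResidueField s)
  let leg : ∀ i, P ⟶ T i := fun i => Over.homMk (Spec.map (CommRingCat.ofHom (φ i).toRingHom) ≫ (T i).left.fromSpecResidueField (t i)) (by
    show _ = Spec.map (CommRingCat.ofHom (algebraMap K M)) ≫ S.fromSpecResidueField s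
    have e : CommRingCat.ofHom (algebraMap K M) = ψ i ≫ CommRingCat.ofHom (φ i).toRingHom := by
      ext x; exact ((φ i).commutes x).symm
    rw [e, Spec.map_comp, Category.assoc, Category.assoc]
    congr 1
    simp [ψ])
  let l := hc.lift (Limits.Fan.mk P leg)
  let pt : P.left := (⊥ : PrimeSpectrum M)
  refine ⟨l.left pt, ?_⟩
  rw [← Scheme.Hom.comp_apply, Over.w l]
  show (Spec.map (CommRingCat.ofHom (algebraMap K M)) ≫ S.fromSpecResidueField s) pt = s
  rw [Scheme.Hom.comp_apply]
  exact Scheme.fromSpecResidueField_apply _ _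

end Groth.Agent.S7394
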