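import Groth.Statements.S7396
import Groth.Agent.Lib.Lim.Approx.Rel
-- import your own Groth.Agent.* helpers here

set_option autoImplicit false
universe u
open CategoryTheory AlgebraicGeometry
open Lim

namespace Groth.Agent.S7396
set_option backward.isDefEq.respectTransparency false
open CategoryTheory.Limits Opposite

/-- Let `f : X → S` be finite with `S` quasi-compact and quasi-separated. Then there are a morphism `f'
: X' → S` which is finite and of finite presentation and a closed immersion `X → X'` over `S`. -/
theorem result {X S : Scheme.{u}} (f : X ⟶ S) [IsFinite f]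
    [CompactSpace S] [QuasiSeparatedSpace S] :
    ∃ (X' : Scheme.{u}) (f' : X' ⟶ S) (j : X ⟶ X'), IsFinite f' ∧ LocallyOfFinitePresentation f' ∧
      IsClosedImmersion j ∧ j ≫ f' = f := by
  have : CompactSpace X := QuasiCompact.compactSpace_of_compactSpace f
  have : QuasiSeparatedSpace X := quasiSeparatedSpace_of_quasiSeparated f
  obtain ⟨R, hcl, hπ⟩ := Groth.Agent.Lib.Lim.Approx.Rel.exists_closedApprox f
  obtain ⟨k⟩ := R.ne
  have : IsIntegralHom (R.cone.π.app (op k) ≫ R.t.app (op k)) := by rw [R.w]; infer_instance
  have := fun i j (a : i ⟶ j) => hcl a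
  have : ∀ i j (a : i ⟶ j), IsFinite (R.D.map a) := fun i j a => inferInstance
  obtain ⟨i, hi⟩ := Groth.Agent.Lib.Lim.Eventual.exists_isFinite R.t R.isLimit (op k)
  exact ⟨_, R.t.app i, R.π.app i, hi i (𝟙 i), R.lfp _, hπ _, R.w _⟩

end Groth.Agent.S7396
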