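import Groth.Statements.S7397
import Mathlib.Algebra.Ring.Subring.Basic
import Mathlib.Data.Finset.Max
import Mathlib.Data.Nat.Find
import Mathlib.Tactic.Ring
import Mathlib.Tactic.Linarith

set_option autoImplicit false
universe u
open Mor

namespace Groth.Agent.S7397

/-- Let `A ⊆ B` be a ring extension and `b ∈ B`, `b ∉ A`, with `b^n, b^(n+1) ∈ A` for some `n ≥ 2`. Then
some `b' ∈ B` with `b' ∉ A` has `b'^2 ∈ A` and `b'^3 ∈ A`. -/
theorem result {B : Type u} [CommRing B] (A : Subring B) (b : B) (hb : b ∉ A)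
    (n : ℕ) (hn : 2 ≤ n) (h1 : b ^ n ∈ A) (h2 : b ^ (n + 1) ∈ A) :
    ∃ b' : B, b' ∉ A ∧ b' ^ 2 ∈ A ∧ b' ^ 3 ∈ A := by
  have big : ∀ j, n * n ≤ j → b ^ j ∈ A := by
    intro j hj
    have hr : j % n < n := Nat.mod_lt _ (by omega)
    have hq : n ≤ j / n := (Nat.le_div_iff_mul_le (by omega)).2 hj
    have key : j = n * (j / n - j % n) + (n + 1) * (j % n) := by
      have h0 := Nat.div_add_mod j n
      obtain ⟨d, hd⟩ := Nat.exists_eq_add_of_le (show j % n ≤ j / n by omega)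
      rw [hd, Nat.add_sub_cancel_left]
      rw [hd] at h0
      conv_lhs => rw [← h0]
      ring
    rw [key, pow_add, pow_mul, pow_mul]
    exact A.mul_mem (pow_mem h1 _) (pow_mem h2 _)
  classical
  let S := (Finset.range (n * n)).filter fun j => b ^ j ∉ A
  have hS : 1 ∈ S := by
    simp only [S, Finset.mem_filter, Finset.mem_range, pow_one]
    exact ⟨by nlinarith, hb⟩
  have hm := S.max'_mem ⟨1, hS⟩
  have hmax : ∀ j, S.max' ⟨1, hS⟩ < j → b ^ j ∈ A := by
    intro j hj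
    by_cases hj' : n * n ≤ j
    · exact big j hj'
    · by_contra hc
      exact absurd (S.le_max' j (Finset.mem_filter.2 ⟨Finset.mem_range.2 (by omega), hc⟩)) (by omega)
  have h0 : 0 < S.max' ⟨1, hS⟩ := S.le_max' 1 hS
  refine ⟨b ^ S.max' ⟨1, hS⟩, (Finset.mem_filter.1 hm).2, ?_, ?_⟩
  · rw [← pow_mul]; exact hmax _ (by omega)
  · rw [← pow_mul]; exact hmax _ (by omega)

end Groth.Agent.S7397
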