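import Groth.Statements.S7400
import Groth.Agent.H75.UH.Descend

set_option autoImplicit false
universe u
open CategoryTheory AlgebraicGeometry
open Mor

namespace Groth.Agent.S7400

/-- Let `A ⊆ B` be a ring extension. The morphism `Spec B → Spec A` is a universal homeomorphism with
all residue field extensions trivial exactly when each finite subset of `B` is contained in some
`A[b_1, …, b_n] ⊆ B` such that `b_i^2` and `b_i^3` lie in `A[b_1, …, b_{i-1}]` for every `i`. (Here
`A → B` is an injective ring map and `A[b_1, …, b_{i-1}]` is the `A`-subalgebra generated by the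
earlier entries.) -/
theorem result {A B : Type u} [CommRing A] [CommRing B] [Algebra A B]
    (hinj : Function.Injective (algebraMap A B)) :
    (FlatMor.IsUnivHomeo (Spec.map (CommRingCat.ofHom (algebraMap A B))) ∧
      ∀ x : Spec (CommRingCat.of B),
        Function.Surjective ((Spec.map (CommRingCat.ofHom (algebraMap A B))).residueFieldMap x)) ↔
    ∀ E : Finset B, ∃ l : List B, (↑E : Set B) ⊆ Algebra.adjoin A {b : B | b ∈ l} ∧
      ∀ i : Fin l.length, l.get i ^ 2 ∈ Algebra.adjoin A {b : B | ∃ j : Fin l.length, j < i ∧ b = l.get j} ∧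
        l.get i ^ 3 ∈ Algebra.adjoin A {b : B | ∃ j : Fin l.length, j < i ∧ b = l.get j} := by
    classical
    rw [H75.UH.isUnivHomeo_residue_algebraMap_iff]
    constructor
    · rintro ⟨-, h⟩ E
      obtain ⟨S, hS, hE⟩ := H75.UH.exists_reach_sqCube h E
      obtain ⟨l, rfl, hl⟩ := hS.exists_list
      exact ⟨l, hE, hl⟩
    · intro h
      refine ⟨fun a ha => by
        rw [show a = 0 from hinj (by rw [map_zero]; exact ha)]; exact zero_mem _,
        eq_top_iff.mpr fun b _ => ?_⟩
      obtain ⟨l, hE, hl⟩ := h {b}
      exact (H75.UH.IsTowerList.reach (St := H75.UH.SqCube) hl).le_of_stepClosed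
        H75.UH.stepMono_sqCube H75.UH.stepClosed_trivGood (hE (by simp))

end Groth.Agent.S7400
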