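import Groth.Statements.S7402
import Groth.Agent.H75.UH.Descend

set_option autoImplicit false
universe u
open CategoryTheory AlgebraicGeometry
open Polynomial
open Mor

namespace Groth.Agent.S7402

/-- Let `A` be a ring and `x, y ∈ A` with `x^3 = y^2`. Then `A → B = A[t]/(t^2 - x, t^3 - y)` induces a
universal homeomorphism on spectra and isomorphisms on residue fields. -/
theorem result (A : Type u) [CommRing A] (x y : A) (h : x ^ 3 = y ^ 2) :
    FlatMor.IsUnivHomeo (Spec.map (CommRingCat.ofHom (algebraMap A
      (A[X] ⧸ Ideal.span ({X ^ 2 - C x, X ^ 3 - C y} : Set A[X]))))) ∧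
    ∀ q : Spec (CommRingCat.of (A[X] ⧸ Ideal.span ({X ^ 2 - C x, X ^ 3 - C y} : Set A[X]))),
      Function.Surjective ((Spec.map (CommRingCat.ofHom (algebraMap A
        (A[X] ⧸ Ideal.span ({X ^ 2 - C x, X ^ 3 - C y} : Set A[X]))))).residueFieldMap q) := by
    rw [H75.UH.isUnivHomeo_residue_algebraMap_iff]
    set I : Ideal A[X] := Ideal.span ({X ^ 2 - C x, X ^ 3 - C y} : Set A[X]) with hI
    let t : A[X] ⧸ I := Ideal.Quotient.mk I X
    have h2 : t ^ 2 = algebraMap A _ x :=
      Ideal.Quotient.eq.mpr (Ideal.subset_span (by simp))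
    have h3 : t ^ 3 = algebraMap A _ y :=
      Ideal.Quotient.eq.mpr (Ideal.subset_span (by simp))
    refine ⟨H75.UH.ker_le_nilradical_of_fields fun p hp => ?_, eq_top_iff.mpr fun b _ => ?_⟩
    · let g : A →+* p.ResidueField := algebraMap A _
      obtain ⟨r, hr2, hr3⟩ : ∃ r : p.ResidueField, r ^ 2 = g x ∧ r ^ 3 = g y := by
        have he : g x ^ 3 = g y ^ 2 := by rw [← map_pow, ← map_pow, h]
        by_cases hx : g x = 0
        · have hy : g y = 0 := eq_zero_of_pow_eq_zero (n := 2) (by rw [← he, hx]; simp)
          exact ⟨0, by simp [hx], by simp [hy]⟩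
        · refine ⟨g y / g x, ?_, ?_⟩
          · field_simp; exact he.symm
          · field_simp; linear_combination (-g y) * he
      have hH : I ≤ RingHom.ker (eval₂RingHom g r) := by
        refine Ideal.span_le.mpr ?_
        intro z hz
        rcases hz with rfl | rfl <;> simp [RingHom.mem_ker, hr2, hr3]
      refine ⟨_, inferInstance, Ideal.Quotient.lift I (eval₂RingHom g r) fun a ha => hH ha, ?_⟩
      · have : ((Ideal.Quotient.lift I (eval₂RingHom g r) fun a ha => hH ha).comp
            (algebraMap A (A[X] ⧸ I))) = g :=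
          RingHom.ext fun a => by
            show eval₂ g r (C a) = g a
            simp
        rw [this]; exact p.ker_algebraMap_residueField
    · have ht : t ∈ H75.UH.trivGood A (A[X] ⧸ I) := H75.UH.stepClosed_trivGood t
        ⟨h2 ▸ Subalgebra.algebraMap_mem _ x, h3 ▸ Subalgebra.algebraMap_mem _ y⟩
      obtain ⟨P, rfl⟩ := Ideal.Quotient.mk_surjective b
      have : Ideal.Quotient.mk I P = aeval t P := by
        rw [show t = Ideal.Quotient.mkₐ A I X from rfl, aeval_algHom_apply, aeval_X_left_apply]
        rfl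
      rw [this]
      exact Algebra.adjoin_le (Set.singleton_subset_iff.mpr ht) (aeval_mem_adjoin_singleton A t)

end Groth.Agent.S7402
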