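import Groth.Statements.S7403
import Groth.Agent.H75.UH.Descend

set_option autoImplicit false
universe u
open CategoryTheory AlgebraicGeometry
open Polynomial
open Mor

namespace Groth.Agent.S7403

/-- Let `A` be a ring, `p` a prime number and `x, y ∈ A` with `p^p x = y^p`. Then `A → B = A[t]/(t^p -
x, p t - y)` induces a universal homeomorphism on spectra. -/
theorem result (A : Type u) [CommRing A] (p : ℕ) (hp : p.Prime) (x y : A)
    (h : (p : A) ^ p * x = y ^ p) :
    FlatMor.IsUnivHomeo (Spec.map (CommRingCat.ofHom (algebraMap A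
      (A[X] ⧸ Ideal.span ({X ^ p - C x, C (p : A) * X - C y} : Set A[X]))))) := by
    rw [H75.UH.isUnivHomeo_algebraMap_iff]
    set I : Ideal A[X] := Ideal.span ({X ^ p - C x, C (p : A) * X - C y} : Set A[X]) with hI
    let t : A[X] ⧸ I := Ideal.Quotient.mk I X
    have h2 : t ^ p = algebraMap A _ x :=
      Ideal.Quotient.eq.mpr (Ideal.subset_span (by simp))
    have h3 : (p : A[X] ⧸ I) * t = algebraMap A _ y := by
      rw [← map_natCast (Ideal.Quotient.mk I) p, ← map_mul, ← C_eq_natCast]
      exact Ideal.Quotient.eq.mpr (Ideal.subset_span (by simp))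
    refine ⟨H75.UH.ker_le_nilradical_of_fields fun P hP => ?_, eq_top_iff.mpr fun b _ => ?_⟩
    · let g : A →+* AlgebraicClosure P.ResidueField :=
        (algebraMap P.ResidueField (AlgebraicClosure P.ResidueField)).comp (algebraMap A _)
      obtain ⟨r, hr2, hr3⟩ : ∃ r : AlgebraicClosure P.ResidueField, r ^ p = g x ∧
          (p : AlgebraicClosure P.ResidueField) * r = g y := by
        have he : (p : AlgebraicClosure P.ResidueField) ^ p * g x = g y ^ p := by
          rw [← map_natCast g, ← map_pow, ← map_mul, h, map_pow]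
        by_cases hpz : (p : AlgebraicClosure P.ResidueField) = 0
        · obtain ⟨r, hr⟩ := IsAlgClosed.exists_pow_nat_eq (g x) hp.pos
          refine ⟨r, hr, ?_⟩
          rw [hpz, zero_pow hp.ne_zero, zero_mul] at he
          rw [hpz, zero_mul, eq_zero_of_pow_eq_zero he.symm]
        · refine ⟨g y / p, ?_, ?_⟩
          · rw [div_pow, ← he, mul_div_cancel_left₀ _ (pow_ne_zero _ hpz)]
          · field_simp
      have hH : I ≤ RingHom.ker (eval₂RingHom g r) := by
        refine Ideal.span_le.mpr ?_
        intro z hz
        rcases hz with rfl | rfl <;> simp [RingHom.mem_ker, hr2, hr3]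
      refine ⟨_, inferInstance, Ideal.Quotient.lift I (eval₂RingHom g r) fun a ha => hH ha, ?_⟩
      · have : ((Ideal.Quotient.lift I (eval₂RingHom g r) fun a ha => hH ha).comp
            (algebraMap A (A[X] ⧸ I))) = g :=
          RingHom.ext fun a => by
            show eval₂ g r (C a) = g a
            simp
        rw [this]
        ext a
        simp [g, RingHom.mem_ker]
    · have ht : t ∈ H75.UH.good A (A[X] ⧸ I) := H75.UH.stepClosed_good t (Or.inr ⟨p, hp,
        h3 ▸ Subalgebra.algebraMap_mem _ y, h2 ▸ Subalgebra.algebraMap_mem _ x⟩)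
      obtain ⟨Q, rfl⟩ := Ideal.Quotient.mk_surjective b
      have : Ideal.Quotient.mk I Q = aeval t Q := by
        rw [show t = Ideal.Quotient.mkₐ A I X from rfl, aeval_algHom_apply, aeval_X_left_apply]
        rfl
      rw [this]
      exact Algebra.adjoin_le (Set.singleton_subset_iff.mpr ht) (aeval_mem_adjoin_singleton A t)

end Groth.Agent.S7403
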