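import Groth.Statements.S7404
import Groth.Agent.H75.UH.Descend

set_option autoImplicit false
universe u
open CategoryTheory AlgebraicGeometry
open Mor

namespace Groth.Agent.S7404

/-- Let `A → B` be a ring map and `B' ⊆ B` an `A`-subalgebra, with `f : Spec B → Spec A` and `f' : Spec
B' → Spec A` the induced morphisms. Each of the following properties passes from `f` to `f'`: being
a universal homeomorphism; being a universal homeomorphism with trivial residue field extensions;
being universally closed; being both universally closed and universally injective. -/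
theorem result {A B : Type u} [CommRing A] [CommRing B] [Algebra A B]
    (B' : Subalgebra A B) :
    (FlatMor.IsUnivHomeo (Spec.map (CommRingCat.ofHom (algebraMap A B))) →
      FlatMor.IsUnivHomeo (Spec.map (CommRingCat.ofHom (algebraMap A B')))) ∧
    ((FlatMor.IsUnivHomeo (Spec.map (CommRingCat.ofHom (algebraMap A B))) ∧
      ∀ x : Spec (CommRingCat.of B),
        Function.Surjective ((Spec.map (CommRingCat.ofHom (algebraMap A B))).residueFieldMap x)) →
      FlatMor.IsUnivHomeo (Spec.map (CommRingCat.ofHom (algebraMap A B'))) ∧
      ∀ x : Spec (CommRingCat.of B'),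
        Function.Surjective ((Spec.map (CommRingCat.ofHom (algebraMap A B'))).residueFieldMap x)) ∧
    (UniversallyClosed (Spec.map (CommRingCat.ofHom (algebraMap A B))) →
      UniversallyClosed (Spec.map (CommRingCat.ofHom (algebraMap A B')))) ∧
    (UniversallyClosed (Spec.map (CommRingCat.ofHom (algebraMap A B))) →
      UniversallyInjective (Spec.map (CommRingCat.ofHom (algebraMap A B))) →
      UniversallyClosed (Spec.map (CommRingCat.ofHom (algebraMap A B'))) ∧
      UniversallyInjective (Spec.map (CommRingCat.ofHom (algebraMap A B')))) := by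
    have hker : RingHom.ker (algebraMap A B') = RingHom.ker (algebraMap A B) := by
      ext a
      exact ⟨fun h => congrArg Subtype.val h, fun h => Subtype.ext h⟩
    have hv : Function.Injective B'.val := Subtype.val_injective
    have hint : (algebraMap A B).IsIntegral → (algebraMap A B').IsIntegral := fun h =>
      (H75.UH.isIntegral_of_injective B'.val hv h).2
    refine ⟨fun h => ?_, fun h => ?_, fun h => ?_, fun h1 h2 => ?_⟩
    · rw [H75.UH.isUnivHomeo_algebraMap_iff] at h ⊢
      exact ⟨hker ▸ h.1, H75.UH.good_eq_top_of_injective B'.val hv h.2⟩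
    · rw [H75.UH.isUnivHomeo_residue_algebraMap_iff] at h ⊢
      exact ⟨hker ▸ h.1, H75.UH.trivGood_eq_top_of_injective B'.val hv h.2⟩
    · rw [H75.UH.universallyClosed_iff] at h ⊢
      exact hint h
    · rw [H75.UH.universallyClosed_iff] at h1 ⊢
      rw [H75.UH.universallyInjective_iff] at h2 ⊢
      exact ⟨hint h1, ((H75.UH.good_eq_top_iff _ _).mp (H75.UH.good_eq_top_of_injective B'.val hv
        ((H75.UH.good_eq_top_iff _ _).mpr ⟨h1, h2⟩))).2⟩

end Groth.Agent.S7404
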