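import Groth.Statements.S7405
import Groth.Agent.H75.UH.Descend
import Mathlib.CategoryTheory.Limits.Preserves.Over
import Mathlib.Algebra.Category.Ring.FilteredColimits

set_option autoImplicit false
universe u
open CategoryTheory AlgebraicGeometry
open Mor

namespace Groth.Agent.S7405

/-- Let `A` be a ring and `B` the colimit of a filtered diagram `j ↦ B_j` of `A`-algebras. Each of the
following properties, when it holds for every `Spec B_j → Spec A`, holds for `Spec B → Spec A`:
being a universal homeomorphism; being a universal homeomorphism with trivial residue field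
extensions; being universally closed; being both universally closed and universally injective. -/
theorem result (A : CommRingCat.{u}) {J : Type u} [SmallCategory J]
    [IsFiltered J] (F : J ⥤ Under A) (c : Limits.Cocone F) (hc : Limits.IsColimit c) :
    ((∀ j, FlatMor.IsUnivHomeo (Spec.map (F.obj j).hom)) → FlatMor.IsUnivHomeo (Spec.map c.pt.hom)) ∧
    ((∀ j, FlatMor.IsUnivHomeo (Spec.map (F.obj j).hom) ∧
        ∀ x : Spec (F.obj j).right, Function.Surjective ((Spec.map (F.obj j).hom).residueFieldMap x)) →
      FlatMor.IsUnivHomeo (Spec.map c.pt.hom) ∧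
        ∀ x : Spec c.pt.right, Function.Surjective ((Spec.map c.pt.hom).residueFieldMap x)) ∧
    ((∀ j, UniversallyClosed (Spec.map (F.obj j).hom)) → UniversallyClosed (Spec.map c.pt.hom)) ∧
    ((∀ j, UniversallyClosed (Spec.map (F.obj j).hom) ∧ UniversallyInjective (Spec.map (F.obj j).hom)) →
      UniversallyClosed (Spec.map c.pt.hom) ∧ UniversallyInjective (Spec.map c.pt.hom)) := by
    have hc' := Limits.isColimitOfPreserves (Under.forget A ⋙ forget CommRingCat) hc
    have hw : ∀ j a, (c.ι.app j).right.hom ((F.obj j).hom.hom a) = c.pt.hom.hom a := fun j a =>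
      congrArg (fun f : A ⟶ c.pt.right => f.hom a) (Under.w (c.ι.app j))
    have hsurj : ∀ b : c.pt.right, ∃ j x, (c.ι.app j).right.hom x = b := fun b =>
      Limits.Types.jointly_surjective_of_isColimit hc' b
    have hint : (∀ j, (F.obj j).hom.hom.IsIntegral) → c.pt.hom.hom.IsIntegral := by
      intro h b
      obtain ⟨j, x, rfl⟩ := hsurj b
      obtain ⟨P, hP, hPx⟩ := h j x
      refine ⟨P, hP, ?_⟩
      rw [show c.pt.hom.hom = (c.ι.app j).right.hom.comp (F.obj j).hom.hom from
        (RingHom.ext fun a => (hw j a).symm), ← Polynomial.hom_eval₂, hPx, map_zero]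
    have hker : (∀ j, RingHom.ker (F.obj j).hom.hom ≤ nilradical A) →
        RingHom.ker c.pt.hom.hom ≤ nilradical A := by
      intro h a ha
      have : Nonempty J := IsFiltered.nonempty
      obtain ⟨j⟩ := this
      have e : (c.ι.app j).right.hom ((F.obj j).hom.hom a) = (c.ι.app j).right.hom 0 := by
        rw [hw, map_zero]; exact ha
      obtain ⟨k, f, g, hfg⟩ := (Limits.Types.FilteredColimit.isColimit_eq_iff _ hc').mp e
      refine h k (RingHom.mem_ker.mpr ?_)
      have h0 : (F.map f).right.hom ((F.obj j).hom.hom a) = (F.map g).right.hom 0 := hfg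
      rw [map_zero] at h0
      rw [← congrArg (fun f : A ⟶ (F.obj k).right => f.hom a) (Under.w (F.map f))]
      exact h0
    have hrad : (∀ j, H75.UH.Radicial (F.obj j).hom.hom) → H75.UH.Radicial c.pt.hom.hom := by
      intro h p hp b
      obtain ⟨j, x, rfl⟩ := hsurj b
      exact (h j p hp x).map (hw j)
    have htriv : (∀ j, H75.UH.TrivRad (F.obj j).hom.hom) → H75.UH.TrivRad c.pt.hom.hom := by
      intro h p hp b
      obtain ⟨j, x, rfl⟩ := hsurj b
      exact (h j p hp x).map (hw j)
    refine ⟨fun h => ?_, fun h => ?_, fun h => ?_, fun h => ?_⟩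
    · have := fun j => (H75.UH.isUnivHomeo_iff (F.obj j).hom.hom).mp (h j)
      exact (H75.UH.isUnivHomeo_iff c.pt.hom.hom).mpr
        ⟨hint fun j => (this j).1, hker fun j => (this j).2.1, hrad fun j => (this j).2.2⟩
    · have := fun j => (H75.UH.isUnivHomeo_residue_iff (F.obj j).hom.hom).mp (h j)
      exact (H75.UH.isUnivHomeo_residue_iff c.pt.hom.hom).mpr
        ⟨hint fun j => (this j).1, hker fun j => (this j).2.1, htriv fun j => (this j).2.2⟩
    · exact (H75.UH.universallyClosed_iff c.pt.hom.hom).mpr
        (hint fun j => (H75.UH.universallyClosed_iff (F.obj j).hom.hom).mp (h j))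
    · exact ⟨(H75.UH.universallyClosed_iff c.pt.hom.hom).mpr
        (hint fun j => (H75.UH.universallyClosed_iff (F.obj j).hom.hom).mp (h j).1),
        (H75.UH.universallyInjective_iff c.pt.hom.hom).mpr
        (hrad fun j => (H75.UH.universallyInjective_iff (F.obj j).hom.hom).mp (h j).2)⟩

end Groth.Agent.S7405
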