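import Groth.Statements.S7412

set_option autoImplicit false
set_option backward.isDefEq.respectTransparency false
set_option backward.isDefEq.respectTransparency.types false
universe u
open Desc

namespace Groth.Agent.S7412

/-- Let `R` be a ring and `f : M → N` a map of `R`-modules. Then `f` is universally injective (`f ⊗ 1_P`
is injective for every `R`-module `P`; here `P` ranges over modules in the same universe, which
suffices) if and only if the map of character modules `C(N) → C(M)`, `C(-) = Hom_ℤ(-, ℚ/ℤ)`, is a
split surjection of `R`-modules. -/
theorem result {R : Type u} [CommRing R] {M N : Type u}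
    [AddCommGroup M] [Module R M] [AddCommGroup N] [Module R N] (f : M →ₗ[R] N) :
    (∀ (P : Type u) [AddCommGroup P] [Module R P], Function.Injective (f.lTensor P)) ↔
      ∃ g : CharacterModule M →ₗ[R] CharacterModule N, (CharacterModule.dual f).comp g = LinearMap.id := by
  have key : ∀ (P : Type u) [AddCommGroup P] [Module R P]
      (L : P →ₗ[R] CharacterModule N),
      CharacterModule.homEquiv.symm
        (CharacterModule.dual (f.lTensor P) (CharacterModule.homEquiv L)) =
        (CharacterModule.dual f).comp L := fun P _ _ L ↦ rfl
  constructor
  · intro h
    obtain ⟨c, hc⟩ := CharacterModule.dual_surjective_iff_injective.2 (h (CharacterModule M))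
      (CharacterModule.homEquiv LinearMap.id)
    refine ⟨CharacterModule.homEquiv.symm c, ?_⟩
    rw [← key, LinearEquiv.apply_symm_apply, hc, LinearEquiv.symm_apply_apply]
  · rintro ⟨g, hg⟩ P _ _
    rw [← CharacterModule.dual_surjective_iff_injective]
    intro c
    refine ⟨CharacterModule.homEquiv (g.comp (CharacterModule.homEquiv.symm c)), ?_⟩
    apply CharacterModule.homEquiv.symm.injective
    rw [key, ← LinearMap.comp_assoc, hg, LinearMap.id_comp]

end Groth.Agent.S7412
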