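import Groth.Statements.S7413
import Groth.Agent.H52.QCoh.ProjLocal
import Groth.Agent.Lib.QCoh.Pullback

set_option autoImplicit false
universe u
open CategoryTheory AlgebraicGeometry
open Opposite
open Mor

namespace Groth.Agent.S7413

open Groth.Agent.Lib Groth.Agent.Lib.QCoh Groth.Agent.Lib.QCoh.Localizing in
theorem sections_equiv {X : Scheme.{u}} (M : X.Modules) {U : X.Opens} (hU : IsAffineOpen U) :
    Nonempty (((QCoh.Tilde.specΓ Γ(X, U)).obj (M.restrict hU.fromSpec) : Type u) ≃ₗ[Γ(X, U)] Γ(M, U)) := by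
  have hi : hU.fromSpec ''ᵁ ⊤ = U := by
    simp
  let e : Γ(M.restrict hU.fromSpec, ⊤) ≃+ Γ(M, U) :=
    (M.presheaf.mapIso (eqToIso (congrArg op hi))).addCommGroupIsoToAddEquiv
  refine ⟨{ e with map_smul' := fun r x => ?_ }⟩
  show M.presheaf.map _ (r • x : Γ(M.restrict hU.fromSpec, ⊤)) = r • M.presheaf.map _ x
  have h1 : (r • x : Γ(M.restrict hU.fromSpec, ⊤)) =
      (hU.fromSpec.appIso ⊤).inv ((Spec Γ(X, U)).presheaf.map (⊤ : (Spec Γ(X, U)).Opens).leTop.op
        ((Scheme.ΓSpecIso Γ(X, U)).inv r)) • (show Γ(M, hU.fromSpec ''ᵁ ⊤) from x) := rfl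
  rw [h1]
  refine (M.map_smul (homOfLE hi.ge) _ _).trans ?_
  congr 1
  have h2 : (Scheme.ΓSpecIso Γ(X, U)).inv ≫ (Spec Γ(X, U)).presheaf.map (⊤ : (Spec Γ(X, U)).Opens).leTop.op ≫
      (hU.fromSpec.appIso ⊤).inv ≫ X.presheaf.map (homOfLE hi.ge).op = 𝟙 _ := by
    rw [← cancel_epi (Scheme.ΓSpecIso Γ(X, U)).hom, Iso.hom_inv_id_assoc]
    simp
    rw [Iso.inv_comp_eq, Scheme.Hom.appIso_hom',
      ← Scheme.Hom.map_appLE hU.fromSpec (U := U) (V := ⊤) (by rw [hU.fromSpec_preimage_self]) (homOfLE hi.ge).op,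
      Scheme.Hom.appLE, hU.fromSpec_app_self]
    simp only [Category.assoc, ← CategoryTheory.Functor.map_comp_assoc, ← CategoryTheory.Functor.map_comp]
    erw [CategoryTheory.Functor.map_id, Category.id_comp, Iso.inv_hom_id, Category.comp_id]
  exact congr($h2 r)


/-- Let `f : X → Y` be a morphism of schemes and `G` a quasi-coherent, locally projective `O_Y`-module
(projective sections over every affine open). Then `f^* G` is locally projective on `X`. -/
theorem result {X Y : Scheme.{u}} (f : X ⟶ Y) (G : Y.Modules) [Coh.IsQCoh G]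
    (hG : ∀ V : Y.Opens, IsAffineOpen V → Module.Projective (Y.ringCatSheaf.obj.obj (op V)) (G.val.obj (op V)))
    (U : X.Opens) (hU : IsAffineOpen U) :
    Module.Projective (X.ringCatSheaf.obj.obj (op U)) (((Scheme.Modules.pullback f).obj G).val.obj (op U)) := by
  haveI : G.IsQuasicoherent := ‹Coh.IsQCoh G›
  haveI := Groth.Agent.Lib.QCoh.Pullback.isQCoh_pullback f G
  have hloc : ∀ x : X, ∃ W : X.Opens, x ∈ W ∧ IsAffineOpen W ∧
      Module.Projective Γ(X, W) Γ((Scheme.Modules.pullback f).obj G, W) := fun x => by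
    obtain ⟨V, hV, hxV, -⟩ := exists_isAffineOpen_mem_and_subset (U := ⊤) (x := f x) trivial
    obtain ⟨W, hW, hxW, hWV⟩ := exists_isAffineOpen_mem_and_subset (U := f ⁻¹ᵁ V) (x := x) hxV
    obtain ⟨e₁⟩ := sections_equiv G hV
    obtain ⟨e₂⟩ := sections_equiv ((Scheme.Modules.pullback f).obj G) hW
    haveI : Module.Projective Γ(Y, V) Γ(G, V) := hG V hV
    haveI : Module.Projective Γ(Y, V) ((Groth.Agent.Lib.QCoh.Tilde.specΓ _).obj (G.restrict hV.fromSpec) : Type u) :=
      Module.Projective.of_equiv e₁.symm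
    let N := (ModuleCat.extendScalars (f.appLE V W hWV).hom).obj
        ((Groth.Agent.Lib.QCoh.Tilde.specΓ _).obj (G.restrict hV.fromSpec))
    haveI : Module.Projective Γ(X, W) N := by
      letI := (f.appLE V W hWV).hom.toAlgebra
      exact inferInstanceAs (Module.Projective Γ(X, W) (TensorProduct Γ(Y, V) Γ(X, W) _))
    let e₃ := ((Groth.Agent.Lib.QCoh.Tilde.specΓ _).mapIso
      (Groth.Agent.Lib.QCoh.Pullback.restrictPullbackTildeIso f G hV hW hWV) ≪≫
      (Groth.Agent.Lib.QCoh.Tilde.sectionsTildeIso.app N).symm).toLinearEquiv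
    exact ⟨W, hxW, hW, @Module.Projective.of_equiv _ _ _ _ _ _ _ _ _ _ _ _ _ _ (e₃.symm.trans e₂) ‹_›⟩
  choose W hxW hW hP using hloc
  exact Groth.Agent.H52.QCoh.ProjLocal.projective_sections _ W
    (top_le_iff.1 fun x _ => TopologicalSpace.Opens.mem_iSup.2 ⟨x, hxW x⟩) (fun i => ⟨hW i, hP i⟩) hU

end Groth.Agent.S7413
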