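import Groth.Statements.S7415
import Groth.Agent.Lib.SchTopo.Closure
import Mathlib.AlgebraicGeometry.SpreadingOut

set_option autoImplicit false
universe u
open CategoryTheory AlgebraicGeometry
open Mor

namespace Groth.Agent.S7415

/-- Let `X` be a reduced scheme with finitely many irreducible components and `x ∈ X`. Then `x` has an
affine open neighbourhood `U` such that `O_X(U) → O_{X,x}` is injective. -/
theorem result (X : Scheme.{u}) [AlgebraicGeometry.IsReduced X]
    (hirr : (irreducibleComponents (X : Type u)).Finite) (x : X) : X.IsGermInjectiveAt x := by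
  refine @Scheme.IsGermInjective.of_openCover _ X.affineOpenCover.openCover (fun i => ?_) x
  let R := X.affineOpenCover.X i
  let j : Spec R ⟶ X := X.affineOpenCover.f i
  have hj : IsOpenImmersion j := X.affineOpenCover.map_prop i
  classical
  have : AlgebraicGeometry.IsReduced (Spec R) := isReduced_of_isOpenImmersion j
  have : _root_.IsReduced R := (affine_isReduced_iff R).1 this
  have hfin : (minimalPrimes R).Finite := by
    refine Set.Finite.of_injOn
      (f := fun p : Ideal R => if h : p.IsPrime then closure {j (⟨p, h⟩ : PrimeSpectrum R)} else ∅) ?_ ?_ hirr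
    · intro p hp
      have hp' : p.IsPrime := hp.1.1
      simp only [dif_pos hp']
      refine Groth.Agent.Lib.SchTopo.Closure.maximal_of_forall_eq fun y hy => ?_
      obtain ⟨q, rfl⟩ := hy.mem_open j.isOpenEmbedding.isOpen_range ⟨_, rfl⟩
      replace hy := j.isOpenEmbedding.isInducing.specializes_iff.1 hy
      refine congrArg _ (PrimeSpectrum.ext ?_)
      have hle := (PrimeSpectrum.le_iff_specializes (q : PrimeSpectrum R) ⟨p, hp'⟩).2 hy
      exact le_antisymm hle (hp.2 ⟨q.2, bot_le⟩ hle)
    · intro p hp q hq h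
      simp only [dif_pos hp.1.1, dif_pos hq.1.1] at h
      have e1 : j (⟨p, hp.1.1⟩ : PrimeSpectrum R) = j (⟨q, hq.1.1⟩ : PrimeSpectrum R) :=
        (specializes_iff_closure_subset.2 h.ge).antisymm (specializes_iff_closure_subset.2 h.le) |>.eq
      exact congrArg PrimeSpectrum.asIdeal (j.isOpenEmbedding.injective e1)
  exact Scheme.IsGermInjective.Spec fun I hI => by
    classical
    let t := hfin.toFinset.filter fun p => ¬ p ≤ I
    have : ¬ t.inf id ≤ I := fun h => by
      obtain ⟨p, hp, hpI⟩ := hI.inf_le'.1 h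
      exact (Finset.mem_filter.1 hp).2 hpI
    obtain ⟨f, hft, hfI⟩ := SetLike.not_le_iff_exists.1 this
    refine ⟨f, hfI, fun a b hab hbI => ⟨1, IsReduced.eq_zero _ ?_⟩⟩
    rw [← mem_nilradical, nilradical_eq_sInf, Submodule.mem_sInf]
    intro q hq'
    have hq : Ideal.IsPrime q := hq'
    obtain ⟨p, hp, hpq⟩ := Ideal.exists_minimalPrimes_le (J := q) (I := ⊥) bot_le
    refine hpq ?_
    rw [pow_one]
    by_cases hpI : p ≤ I
    · refine p.mul_mem_left _ ((hp.1.1.mem_or_mem (?_ : b * a ∈ p)).resolve_left fun h => hbI (hpI h))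
      rw [hab]; exact p.zero_mem
    · exact p.mul_mem_right _ ((Finset.inf_le (f := id) (Finset.mem_filter.2 ⟨hfin.mem_toFinset.2 hp, hpI⟩) : _ ≤ id p) hft)

end Groth.Agent.S7415
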