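import Groth.Statements.S7416
import Mathlib

set_option autoImplicit false
universe u
open CategoryTheory AlgebraicGeometry
open Mor

namespace Groth.Agent.S7416

open TopologicalSpace

/-- Let `U`, `V` be affine schemes and `W → U`, `W → V` open immersions. Then every `w ∈ W` has an open
neighbourhood `W' ⊆ W` whose images in `U` and in `V` are standard opens `D(f) ⊆ U`, `D(g) ⊆ V` (in
particular `W'` is affine). -/
theorem result {U V W : Scheme.{u}} [IsAffine U]
    [IsAffine V] (i : W ⟶ U) (j : W ⟶ V) [IsOpenImmersion i] [IsOpenImmersion j] (w : W) :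
    ∃ (W' : W.Opens) (f : Γ(U, ⊤)) (g : Γ(V, ⊤)), w ∈ W' ∧ i ''ᵁ W' = U.basicOpen f ∧ j ''ᵁ W' = V.basicOpen g := by
  obtain ⟨a, haW, hwa⟩ := (isAffineOpen_top U).exists_basicOpen_le (V := i.opensRange) ⟨i w, ⟨w, rfl⟩⟩ trivial
  let W0 : W.Opens := i ⁻¹ᵁ U.basicOpen a
  have hW0 : IsAffineOpen W0 := ((isAffineOpen_top U).basicOpen a).preimage_of_isOpenImmersion i haW
  have hiW0 : i ''ᵁ W0 = U.basicOpen a := by
    rw [Scheme.Hom.image_preimage_eq_opensRange_inf]; exact inf_eq_right.mpr haW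
  obtain ⟨b, g, hbg, hwb⟩ := exists_basicOpen_le_affine_inter (hW0.image_of_isOpenImmersion j) (isAffineOpen_top V) (j w)
    ⟨⟨w, hwa, rfl⟩, trivial⟩
  let c : Γ(W, W0) := (j.appIso W0).hom b
  have hc : j ''ᵁ W.basicOpen c = V.basicOpen b := by
    rw [Scheme.image_basicOpen]
    congr 1
    exact congrArg (fun φ => φ.hom b) (j.appIso W0).hom_inv_id
  refine ⟨W.basicOpen c, ?_⟩
  let d : Γ(U, i ''ᵁ W0) := (i.appIso W0).inv c
  have hd : i ''ᵁ W.basicOpen c = U.basicOpen d := Scheme.image_basicOpen i c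
  let d' : Γ(U, U.basicOpen a) := U.presheaf.map (eqToHom hiW0.symm).op d
  have hd' : U.basicOpen d' = U.basicOpen d := Scheme.basicOpen_res_eq U d (eqToHom hiW0.symm).op
  obtain ⟨e, he⟩ := (isAffineOpen_top U).basicOpen_basicOpen_is_basicOpen a d'
  refine ⟨e, g, ?_, ?_, ?_⟩
  · have : j w ∈ j ''ᵁ W.basicOpen c := by rw [hc]; exact hwb
    obtain ⟨w', hw', e'⟩ := this
    exact j.isOpenEmbedding.injective e' ▸ hw'
  · rw [hd, ← hd', he]
  · rw [hc, hbg]

end Groth.Agent.S7416
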