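import Groth.Statements.S7426
import Groth.Agent.Lib.WeakNormal.AbsScheme

set_option autoImplicit false
universe u
open CategoryTheory AlgebraicGeometry
open HTop

namespace Groth.Agent.S7426

/-- For a scheme `X` the following are equivalent: `X` is absolutely weakly normal; `X^awn → X` is an
isomorphism (equivalently, the identity of `X` is an absolute weak normalization); every universal
homeomorphism `Y → X` with `Y` reduced is an isomorphism. -/
theorem result (X : Scheme.{u}) :
    (HTop.IsAWN X ↔ HTop.IsAWNormalization (𝟙 X)) ∧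
    (HTop.IsAWN X ↔ ∀ (Y : Scheme.{u}) (π : Y ⟶ X), FlatMor.IsUnivHomeo π → AlgebraicGeometry.IsReduced Y → IsIso π) := by
  have h1 : HTop.IsAWN X → HTop.IsAWNormalization (𝟙 X) := fun h =>
    Groth.Agent.Lib.WeakNormal.AbsScheme.isAWNormalization_of_isAWN _ (Groth.Agent.Lib.UnivHomeo.Basic.of_isIso _) h
  have h2 : HTop.IsAWN X → ∀ (Y : Scheme.{u}) (π : Y ⟶ X), FlatMor.IsUnivHomeo π →
      AlgebraicGeometry.IsReduced Y → IsIso π := fun h Y π hπ _ =>
    Groth.Agent.Lib.WeakNormal.AbsScheme.isIso_of_isAWN h π hπ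
  refine ⟨⟨h1, fun h => Groth.Agent.Lib.WeakNormal.AbsScheme.isAWN_source h⟩, ⟨h2, fun h => ?_⟩⟩
  obtain ⟨X', ν, hν, hX'⟩ := Groth.Agent.Lib.WeakNormal.AbsScheme.exists_isAWNormalization X
  have := h X' ν hν.1 (Groth.Agent.Lib.WeakNormal.AbsScheme.isReduced_of_isAWN hX')
  exact Groth.Agent.Lib.WeakNormal.AbsScheme.isAWN_of_isOpenImmersion (inv ν) hX'

end Groth.Agent.S7426
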