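import Groth.Statements.S7427
import Groth.Agent.H75.UH.Descend

set_option autoImplicit false
universe u
open CategoryTheory AlgebraicGeometry
open Mor

namespace Groth.Agent.S7427

/-- Let `A → B` be a ring map with `Spec B → Spec A` dominant. Then some `A`-subalgebra `B' ⊆ B` has
`Spec B' → Spec A` a universal homeomorphism and contains the image of `C → B` whenever `C` is an
`A`-algebra with an `A`-algebra map `C → B` whose structure map gives a universal homeomorphism
`Spec C → Spec A`. (The test algebras `C` range over the universe of `A` and `B`.) -/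
theorem result {A B : Type u} [CommRing A] [CommRing B] [Algebra A B]
    [IsDominant (Spec.map (CommRingCat.ofHom (algebraMap A B)))] :
    ∃ B' : Subalgebra A B, FlatMor.IsUnivHomeo (Spec.map (CommRingCat.ofHom (algebraMap A B'))) ∧
      ∀ (C : Type u) [CommRing C] [Algebra A C] (g : C →ₐ[A] B),
        FlatMor.IsUnivHomeo (Spec.map (CommRingCat.ofHom (algebraMap A C))) → g.range ≤ B' := by
    let K := integralClosure A B
    have hK : (algebraMap A K).IsIntegral := fun x =>
      (isIntegral_algHom_iff K.val Subtype.val_injective).mp x.2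
    let B' : Subalgebra A B := (H75.UH.good A K).map K.val
    have hle : B' ≤ K := fun b ⟨k, _, hk⟩ => hk ▸ k.2
    refine ⟨B', H75.UH.isUnivHomeo_algebraMap_iff.mpr ⟨fun a ha =>
      H75.UH.ker_le_nilradical_of_dominant (φ := algebraMap A B) (congrArg Subtype.val ha),
      eq_top_iff.mpr fun b _ => ?_⟩, fun C _ _ g hg => ?_⟩
    · refine H75.UH.mem_good_of_map (Subalgebra.inclusion hle)
        (Subalgebra.inclusion_injective hle) hK ?_
      obtain ⟨k, hk, hkb⟩ := b.2
      rw [show Subalgebra.inclusion hle b = k from Subtype.ext hkb.symm]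
      exact hk
    · rintro _ ⟨c, rfl⟩
      have hC := (H75.UH.isUnivHomeo_algebraMap_iff.mp hg).2
      have hc : c ∈ H75.UH.good A C := hC ▸ Algebra.mem_top
      let g' : C →ₐ[A] K := g.codRestrict K fun d =>
        ((hC ▸ Algebra.mem_top : d ∈ H75.UH.good A C)).1.map g
      exact ⟨g' c, H75.UH.map_good g' hc, rfl⟩

end Groth.Agent.S7427
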