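import Groth.Statements.S7428
import Groth.Agent.H75.UH.Descend

set_option autoImplicit false
universe u
open CategoryTheory AlgebraicGeometry
open Mor

namespace Groth.Agent.S7428

/-- Let `A → B` be a ring map with `Spec B → Spec A` dominant. Then some `A`-subalgebra `B' ⊆ B` has
`Spec B' → Spec A` a universal homeomorphism with trivial residue field extensions and contains the
image of `C → B` for every `A`-algebra `C` with an `A`-algebra map `C → B` such that `Spec C → Spec
A` is a universal homeomorphism with trivial residue field extensions. (Trivial residue field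
extensions: every residue field map of the morphism of spectra is surjective. The test algebras `C`
range over the universe of `A` and `B`.) -/
theorem result {A B : Type u} [CommRing A] [CommRing B] [Algebra A B]
    [IsDominant (Spec.map (CommRingCat.ofHom (algebraMap A B)))] :
    ∃ B' : Subalgebra A B, (FlatMor.IsUnivHomeo (Spec.map (CommRingCat.ofHom (algebraMap A B'))) ∧
      ∀ x : Spec (CommRingCat.of B'),
        Function.Surjective ((Spec.map (CommRingCat.ofHom (algebraMap A B'))).residueFieldMap x)) ∧
      ∀ (C : Type u) [CommRing C] [Algebra A C] (g : C →ₐ[A] B),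
        FlatMor.IsUnivHomeo (Spec.map (CommRingCat.ofHom (algebraMap A C))) →
        (∀ x : Spec (CommRingCat.of C),
          Function.Surjective ((Spec.map (CommRingCat.ofHom (algebraMap A C))).residueFieldMap x)) →
        g.range ≤ B' := by
    let K := integralClosure A B
    have hK : (algebraMap A K).IsIntegral := fun x =>
      (isIntegral_algHom_iff K.val Subtype.val_injective).mp x.2
    let B' : Subalgebra A B := (H75.UH.trivGood A K).map K.val
    have hle : B' ≤ K := fun b ⟨k, _, hk⟩ => hk ▸ k.2
    refine ⟨B', H75.UH.isUnivHomeo_residue_algebraMap_iff.mpr ⟨fun a ha =>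
      H75.UH.ker_le_nilradical_of_dominant (φ := algebraMap A B) (congrArg Subtype.val ha),
      eq_top_iff.mpr fun b _ => ?_⟩, fun C _ _ g hg hres => ?_⟩
    · refine H75.UH.mem_trivGood_of_map (Subalgebra.inclusion hle)
        (Subalgebra.inclusion_injective hle) hK ?_
      obtain ⟨k, hk, hkb⟩ := b.2
      rw [show Subalgebra.inclusion hle b = k from Subtype.ext hkb.symm]
      exact hk
    · rintro _ ⟨c, rfl⟩
      have hC := (H75.UH.isUnivHomeo_residue_algebraMap_iff.mp ⟨hg, hres⟩).2
      have hc : c ∈ H75.UH.trivGood A C := hC ▸ Algebra.mem_top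
      let g' : C →ₐ[A] K := g.codRestrict K fun d =>
        ((hC ▸ Algebra.mem_top : d ∈ H75.UH.trivGood A C)).1.map g
      exact ⟨g' c, H75.UH.map_trivGood g' hc, rfl⟩

end Groth.Agent.S7428
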