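import Groth.Statements.S7431
import Groth.Agent.Lib.Lim.Approx.Local
-- import your own Groth.Agent.* helpers here

set_option autoImplicit false
universe u
open CategoryTheory AlgebraicGeometry
open Lim

namespace Groth.Agent.S7431
set_option backward.isDefEq.respectTransparency false
open CategoryTheory.Limits

/-- Let `B' = B ×_R R'` be a cartesian square of rings with maps `s : B → R`, `t : R' → R`, and let `W'
= D(f_1) ∪ … ∪ D(f_n) ⊆ Spec R'` with `t(f_i) = s(g_i)` for elements `g_i ∈ B` such that `B_{g_i} →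
R_{s(g_i)}` is an isomorphism for each `i`. Then the composite `W' → Spec R' → Spec B'`, the second
map coming from `B' → R'`, is an open immersion. -/
theorem result {B B' R R' : Type u} [CommRing B] [CommRing B']
    [CommRing R] [CommRing R'] (s : B →+* R) (t : R' →+* R) (p : B' →+* B) (q : B' →+* R')
    (hsq : IsPullback (CommRingCat.ofHom p) (CommRingCat.ofHom q) (CommRingCat.ofHom s) (CommRingCat.ofHom t))
    {n : ℕ} (f : Fin n → R') (g : Fin n → B) (hfg : ∀ i, t (f i) = s (g i))
    (hiso : ∀ i, Function.Bijective (Localization.awayMap s (g i))) :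
    IsOpenImmersion (Scheme.Opens.ι (X := Spec (CommRingCat.of R')) (⨆ i, PrimeSpectrum.basicOpen (f i)) ≫
      Spec.map (CommRingCat.ofHom q)) := by
  let W : (Spec (CommRingCat.of R')).Opens := ⨆ i, PrimeSpectrum.basicOpen (f i)
  have : CompactSpace (W : Scheme.{u}) := isCompact_iff_compactSpace.mp (by
    rw [show (W : Set (Spec (CommRingCat.of R'))) = ⋃ i, (PrimeSpectrum.basicOpen (f i) : Set (PrimeSpectrum R')) from
      TopologicalSpace.Opens.coe_iSup _]
    exact isCompact_iUnion fun i => PrimeSpectrum.isCompact_basicOpen _)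
  have hext : ∀ x y : B', p x = p y → q x = q y → x = y := by
    intro x y h1 h2
    let φx : CommRingCat.of (Polynomial (ULift.{u} ℤ)) ⟶ CommRingCat.of B' :=
      CommRingCat.ofHom (Polynomial.eval₂RingHom ((Int.castRingHom B').comp ULift.ringEquiv.toRingHom) x)
    let φy : CommRingCat.of (Polynomial (ULift.{u} ℤ)) ⟶ CommRingCat.of B' :=
      CommRingCat.ofHom (Polynomial.eval₂RingHom ((Int.castRingHom B').comp ULift.ringEquiv.toRingHom) y)
    have e : φx = φy := by
      apply hsq.hom_ext <;>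
      · refine CommRingCat.hom_ext (Polynomial.ringHom_ext (fun n => ?_) ?_)
        · simp [φx, φy]
        · simpa [φx, φy]
    simpa [φx, φy] using congr($e Polynomial.X)
  have hlift : ∀ (b : B) (r : R'), s b = t r → ∃ x : B', p x = b ∧ q x = r := by
    intro b r h
    let φb : CommRingCat.of (Polynomial (ULift.{u} ℤ)) ⟶ CommRingCat.of B :=
      CommRingCat.ofHom (Polynomial.eval₂RingHom ((Int.castRingHom B).comp ULift.ringEquiv.toRingHom) b)
    let φr : CommRingCat.of (Polynomial (ULift.{u} ℤ)) ⟶ CommRingCat.of R' :=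
      CommRingCat.ofHom (Polynomial.eval₂RingHom ((Int.castRingHom R').comp ULift.ringEquiv.toRingHom) r)
    have w : φb ≫ CommRingCat.ofHom s = φr ≫ CommRingCat.ofHom t := by
      refine CommRingCat.hom_ext (Polynomial.ringHom_ext (fun n => ?_) ?_)
      · simp [φb, φr]
      · simpa [φb, φr]
    refine ⟨hsq.lift φb φr w Polynomial.X, ?_, ?_⟩
    · exact (congr($(hsq.lift_fst φb φr w) Polynomial.X)).trans (Polynomial.eval₂_X _ _)
    · exact (congr($(hsq.lift_snd φb φr w) Polynomial.X)).trans (Polynomial.eval₂_X _ _)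
  choose hh hhp hhq using fun i => hlift (g i) (f i) (hfg i).symm
  have hst : ∀ x : B', s (p x) = t (q x) := fun x => congr($(hsq.w) x)
  let ρ : CommRingCat.of R' ⟶ Γ((W : Scheme.{u}), ⊤) :=
    (Scheme.ΓSpecIso (CommRingCat.of R')).inv ≫ W.ι.appTop
  let φ : CommRingCat.of B' ⟶ Γ((W : Scheme.{u}), ⊤) := CommRingCat.ofHom q ≫ ρ
  have hu : W.ι ≫ Spec.map (CommRingCat.ofHom q) = Groth.Agent.Lib.Lim.Approx.Local.toSpec φ := by
    rw [Groth.Agent.Lib.Lim.Approx.Local.toSpec, Spec.map_comp, ← Category.assoc]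
    congr 1
    rw [Spec.map_comp, ← Scheme.toSpecΓ_naturality_assoc, toSpecΓ_SpecMap_ΓSpecIso_inv, Category.comp_id]
  have hbo : ∀ r : R', W.ι ''ᵁ (W : Scheme.{u}).basicOpen (ρ r) = W ⊓ PrimeSpectrum.basicOpen r := by
    intro r
    show W.ι ''ᵁ (W : Scheme.{u}).basicOpen (W.ι.appTop _) = _
    rw [← Scheme.preimage_basicOpen_top, Scheme.Hom.image_preimage_eq_opensRange_inf,
      Scheme.Opens.opensRange_ι, basicOpen_eq_of_affine']
    congr 2
    exact congr($((Scheme.ΓSpecIso (CommRingCat.of R')).inv_hom_id) r)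
  have hbi : ∀ i, W.ι ''ᵁ (W : Scheme.{u}).basicOpen (φ (hh i)) = PrimeSpectrum.basicOpen (f i) := by
    intro i
    show W.ι ''ᵁ (W : Scheme.{u}).basicOpen (ρ (q (hh i))) = _
    rw [hhq, hbo]
    exact inf_eq_right.mpr (le_iSup (fun i => PrimeSpectrum.basicOpen (f i)) i)
  have hres : ∀ i (r : R'), ρ r = 0 → ∃ m : ℕ, f i ^ m * r = 0 := by
    intro i r hr
    have hle : PrimeSpectrum.basicOpen (f i) ≤ W := le_iSup (fun i => PrimeSpectrum.basicOpen (f i)) i
    let j : Spec (CommRingCat.of (Localization.Away (f i))) ⟶ Spec (CommRingCat.of R') :=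
      Spec.map (CommRingCat.ofHom (algebraMap R' (Localization.Away (f i))))
    have : IsOpenImmersion j := .of_isLocalization (f i)
    have hrange : Set.range j ⊆ Set.range W.ι := by
      rw [Scheme.Opens.range_ι]
      exact (PrimeSpectrum.localization_away_comap_range (Localization.Away (f i)) (f i)).le.trans hle
    have e : j.appTop ((Scheme.ΓSpecIso (CommRingCat.of R')).inv r) = 0 := by
      rw [← IsOpenImmersion.lift_fac W.ι j hrange, Scheme.Hom.comp_appTop, ConcreteCategory.comp_apply]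
      exact (congrArg _ hr).trans (map_zero _)
    have e2 : algebraMap R' (Localization.Away (f i)) r = 0 := by
      have h1 := congr($(Scheme.ΓSpecIso_inv_naturality (CommRingCat.ofHom (algebraMap R' (Localization.Away (f i))))) r)
      have h2 : (Scheme.ΓSpecIso (CommRingCat.of (Localization.Away (f i)))).inv (algebraMap R' (Localization.Away (f i)) r) = 0 :=
        Eq.trans h1 e
      exact (ConcreteCategory.bijective_of_isIso (Scheme.ΓSpecIso (CommRingCat.of (Localization.Away (f i)))).inv).1 (h2.trans (map_zero _).symm)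
    obtain ⟨⟨_, m, rfl⟩, hm⟩ := (IsLocalization.map_eq_zero_iff (Submonoid.powers (f i)) _ _).mp e2
    exact ⟨m, hm⟩
  have hinj : ∀ i x, φ x = 0 → ∃ m : ℕ, hh i ^ m * x = 0 := by
    intro i x hx
    obtain ⟨m, hm⟩ := hres i (q x) hx
    have h1 : s (g i ^ m * p x) = 0 := by
      rw [map_mul, map_pow, hst, ← hfg, ← map_pow, ← map_mul, hm, map_zero]
    have h2 : algebraMap B (Localization.Away (g i)) (g i ^ m * p x) = 0 := by
      apply (hiso i).1
      rw [map_zero, Localization.awayMap, IsLocalization.Away.map, IsLocalization.map_eq, h1, map_zero]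
    obtain ⟨⟨_, n, rfl⟩, hn⟩ := (IsLocalization.map_eq_zero_iff (Submonoid.powers (g i)) _ _).mp h2
    refine ⟨n + m, hext _ _ ?_ ?_⟩
    · rw [map_mul, map_pow, hhp, map_zero, pow_add, mul_assoc, hn]
    · rw [map_mul, map_pow, hhq, map_zero, pow_add, mul_assoc, hm, mul_zero]
  have hsurj : ∀ i (z : Γ((W : Scheme.{u}), (W : Scheme.{u}).basicOpen (φ (hh i)))),
      ∃ (m : ℕ) (x : B'), (W : Scheme.{u}).presheaf.map (homOfLE le_top).op (φ x) =
        z * (W : Scheme.{u}).presheaf.map (homOfLE le_top).op (φ (hh i)) ^ m := by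
    intro i z
    let res := ((W : Scheme.{u}).presheaf.map
      (homOfLE (le_top : (W : Scheme.{u}).basicOpen (φ (hh i)) ≤ ⊤)).op).hom
    have hz : ∃ (m : ℕ) (r : R'), res (ρ r) = z * res (φ (hh i)) ^ m := by
      let O := (W : Scheme.{u}).basicOpen (φ (hh i))
      have : IsLocalization.Away ((Scheme.ΓSpecIso (CommRingCat.of R')).inv (f i))
          Γ(Spec (CommRingCat.of R'), (Spec (CommRingCat.of R')).basicOpen ((Scheme.ΓSpecIso (CommRingCat.of R')).inv (f i))) :=
        (isAffineOpen_top _).isLocalization_basicOpen _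
      have hle : O ≤ W.ι ⁻¹ᵁ (Spec (CommRingCat.of R')).basicOpen ((Scheme.ΓSpecIso (CommRingCat.of R')).inv (f i)) := by
        rw [Scheme.preimage_basicOpen_top]
        show (W : Scheme.{u}).basicOpen (ρ (q (hh i))) ≤ _
        rw [hhq]
        exact le_rfl
      have : IsIso (W.ι.appLE ((Spec (CommRingCat.of R')).basicOpen ((Scheme.ΓSpecIso (CommRingCat.of R')).inv (f i))) O hle) := by
        have e : O = W.ι ⁻¹ᵁ (Spec (CommRingCat.of R')).basicOpen ((Scheme.ΓSpecIso (CommRingCat.of R')).inv (f i)) := by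
          rw [Scheme.preimage_basicOpen_top]
          show (W : Scheme.{u}).basicOpen (ρ (q (hh i))) = _
          rw [hhq]
          rfl
        revert hle
        rw [e]
        intro hle
        rw [← Scheme.Hom.app_eq_appLE]
        refine Scheme.Hom.isIso_app _ _ ?_
        rw [Scheme.Opens.opensRange_ι, basicOpen_eq_of_affine']
        refine le_trans (le_of_eq ?_) (le_iSup (fun i => PrimeSpectrum.basicOpen (f i)) i)
        exact congrArg PrimeSpectrum.basicOpen (congr($((Scheme.ΓSpecIso (CommRingCat.of R')).inv_hom_id) (f i)))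
      obtain ⟨z', rfl⟩ := (ConcreteCategory.bijective_of_isIso (W.ι.appLE
        ((Spec (CommRingCat.of R')).basicOpen ((Scheme.ΓSpecIso (CommRingCat.of R')).inv (f i))) O hle)).2 z
      obtain ⟨⟨r, _, m, rfl⟩, hr⟩ := IsLocalization.surj (Submonoid.powers ((Scheme.ΓSpecIso (CommRingCat.of R')).inv (f i))) z'
      obtain ⟨r, rfl⟩ := (ConcreteCategory.bijective_of_isIso (Scheme.ΓSpecIso (CommRingCat.of R')).inv).2 r
      refine ⟨m, r, ?_⟩
      have hmap : ∀ y, W.ι.appLE ((Spec (CommRingCat.of R')).basicOpen ((Scheme.ΓSpecIso (CommRingCat.of R')).inv (f i))) O hle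
          ((Spec (CommRingCat.of R')).presheaf.map (homOfLE le_top).op y) = res (W.ι.appTop y) := by
        intro y
        rw [← ConcreteCategory.comp_apply, Scheme.Hom.map_appLE]
        exact congr($(show W.ι.appLE ⊤ O (by simp) = W.ι.appTop ≫ (W : Scheme.{u}).presheaf.map (homOfLE le_top).op from rfl) y)
      have h := congrArg (W.ι.appLE _ O hle) hr
      simp only [RingHom.algebraMap_toAlgebra] at h
      erw [map_mul, hmap, hmap, map_pow W.ι.appTop.hom, map_pow res] at h
      show res (ρ r) = _ * res (ρ (q (hh i))) ^ m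
      rw [hhq]
      exact h.symm
    obtain ⟨m, r, hr⟩ := hz
    obtain ⟨b, hb⟩ := (hiso i).2 (algebraMap R (Localization.Away (s (g i))) (t r))
    obtain ⟨⟨b₀, _, n, rfl⟩, hb₀⟩ := IsLocalization.surj (Submonoid.powers (g i)) b
    have h3 := congrArg (Localization.awayMap s (g i)) hb₀
    rw [map_mul, hb, Localization.awayMap, IsLocalization.Away.map, IsLocalization.map_eq, IsLocalization.map_eq, ← map_mul] at h3
    obtain ⟨⟨_, e, rfl⟩, he⟩ := (IsLocalization.eq_iff_exists (Submonoid.powers (s (g i))) _).mp h3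
    obtain ⟨x, hxp, hxq⟩ := hlift (g i ^ e * b₀) (f i ^ (e + n) * r) (by
      rw [map_mul, map_pow, map_mul t, map_pow t, hfg, pow_add]
      simp only [map_pow] at he
      rw [← he]; ring)
    refine ⟨m + (e + n), x, ?_⟩
    show res (ρ (q x)) = z * res (φ (hh i)) ^ (m + (e + n))
    rw [hxq, map_mul, map_pow, map_mul, map_pow, hr, pow_add]
    show _ = z * res (ρ (q (hh i))) ^ (m + (e + n))
    erw [hhq]
    rw [show res (φ (hh i)) = res (ρ (f i)) from congrArg (fun w => res (ρ w)) (hhq i)]
    ring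
  rw [show Scheme.Opens.ι (X := Spec (CommRingCat.of R')) (⨆ i, PrimeSpectrum.basicOpen (f i)) ≫ Spec.map (CommRingCat.ofHom q) = Groth.Agent.Lib.Lim.Approx.Local.toSpec φ from hu]
  refine (Groth.Agent.Lib.Lim.Approx.Local.isOpenImmersion_toSpec φ hh (fun i => ?_) (fun x => ?_) hinj hsurj).1
  · rw [← Scheme.Hom.isAffineOpen_iff_of_isOpenImmersion W.ι, hbi]
    exact IsAffineOpen.Spec_basicOpen _
  · obtain ⟨i, hi⟩ := TopologicalSpace.Opens.mem_iSup.mp x.2
    obtain ⟨y, hy, hyx⟩ := (hbi i).ge hi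
    exact ⟨i, (Subtype.ext hyx : y = x) ▸ hy⟩

end Groth.Agent.S7431
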