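import Groth.Statements.S7432
import Groth.Agent.Lib.FibreVanish36.Finite
import Groth.Agent.H84.FormalFun.Stalk
import Groth.Agent.S0030
import Groth.Agent.H69.FibreLoci.Approx
-- import your own Groth.Agent.* helpers here

set_option autoImplicit false
universe u
open Lim

namespace Groth.Agent.S7432

open AlgebraicGeometry CategoryTheory in
/-- Assume `f : X → Y` is a proper morphism whose fibres all have dimension no greater than `d`, and
consider an `O_X`-module `F` that is quasi-coherent and of finite type. Then `R^d f_* F` is again an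
`O_Y`-module that is quasi-coherent and of finite type. (Being 'quasi-coherent of finite type' is
expressed via the prelude's predicate `Coh.IsCoh`, which on an arbitrary scheme means precisely
this; `R^d f_*` denotes the right derived functor of `f_*` on `O`-modules, defined under the
instance binder asserting that `O_X`-modules admit injective resolutions.) -/
theorem result {X Y : Scheme.{u}} (f : X ⟶ Y) [IsProper f] (d : ℕ)
    (hd : ∀ y : Y, topologicalKrullDim ↥(f.fiber y) ≤ d) [HasInjectiveResolutions X.Modules] (M : X.Modules)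
    (hM : Coh.IsCoh M) : Coh.IsCoh ((Coh.Rpush f d).obj M) := by
  haveI := hM.1
  haveI hq : ((Coh.Rpush f d).obj M).IsQuasicoherent := Groth.Agent.S0030.result f M d
  refine ⟨hq, Groth.Agent.Lib.CohBasics.Affine.isFiniteType_of_finite_sections fun y => ?_⟩
  obtain ⟨V, hV, hy, -⟩ := exists_isAffineOpen_mem_and_subset (X := Y) (x := y)
    (U := ⊤) trivial
  haveI : IsAffine (V : Scheme.{u}) := hV
  refine ⟨V.ι ''ᵁ ⊤, V.ι_image_top.symm ▸ hV, V.ι_image_top.symm ▸ hy, ?_⟩
  letI : ((f ⁻¹ᵁ V : X.Opens) : Scheme.{u}).Over (Spec (CommRingCat.of Γ(Y, V.ι ''ᵁ ⊤))) :=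
    ⟨Groth.Agent.H84.FormalFun.Stalk.struct f V⟩
  have hV' : IsAffineOpen (V.ι ''ᵁ ⊤) := V.ι_image_top.symm ▸ hV
  have hP := Groth.Agent.H84.FormalFun.Stalk.isPullback_struct f hV hV'
  haveI : IsProper (((f ⁻¹ᵁ V : X.Opens) : Scheme.{u}) ↘ Spec (CommRingCat.of Γ(Y, V.ι ''ᵁ ⊤))) :=
    MorphismProperty.of_isPullback hP inferInstance
  obtain ⟨e⟩ := Groth.Agent.H84.FormalFun.Stalk.nonempty_sections f (V := V) M hM.1 d
  haveI := Groth.Agent.Lib.FibreVanish36.Finite.finite_HH Γ(Y, V.ι ''ᵁ ⊤)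
    ((f ⁻¹ᵁ V : X.Opens) : Scheme.{u}) d
    (fun z => (Groth.Agent.H69.FibreLoci.Approx.dim_baseChange f _ _ _ hP z).le.trans (hd _))
    (M.restrict (f ⁻¹ᵁ V).ι) ⟨inferInstance, ?_⟩
  · exact Module.Finite.equiv e
  · exact (Groth.Agent.Lib.CohBasics.Closure.isCoh_of_iso
      ((Scheme.Modules.restrictFunctorIsoPullback (f ⁻¹ᵁ V).ι).app M).symm
      (Groth.Agent.Lib.Cyc.FP.Stalk.isCoh_pullback (f ⁻¹ᵁ V).ι hM)).2
end Groth.Agent.S7432
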