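import Groth.Statements.S7440
import Groth.Agent.Lib.FibreDeg.Compose
import Groth.Agent.S0658
import Mathlib.RingTheory.Etale.Field

set_option autoImplicit false
universe u
open CategoryTheory AlgebraicGeometry
open BddFib

namespace Groth.Agent.S7440

open Groth.Agent.Lib.FibreDeg Limits

theorem fd_of_etale {K : Type u} [Field K] [IsAlgClosed K] {T : Scheme.{u}}
    (p : T ⟶ Spec (CommRingCat.of K)) [Etale p] [Finite T] {n : ℕ} (h : Nat.card T ≤ n) :
    Basic.FD p n := by
  classical
  haveI := Groth.Agent.S0658.discreteTopology K p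
  haveI : IsAffine T := inferInstance
  rw [← Basic.finiteOfDegLE_iff]
  letI : Algebra K Γ(T, ⊤) := BddFib.secAlgebra (CommRingCat.of K) p
  haveI : Algebra.Etale K Γ(T, ⊤) := RingHom.etale_algebraMap.1
    (RingHom.Etale.stableUnderComposition _ _
      (RingHom.Etale.of_bijective (f := (Scheme.ΓSpecIso (CommRingCat.of K)).inv.hom) (ConcreteCategory.bijective_of_isIso _))
      (HasRingHomProperty.appTop (P := @Etale) p inferInstance))
  haveI := Algebra.FormallyUnramified.finite_of_free K Γ(T, ⊤)
  obtain ⟨I, hI, Ai, hF, hA, e, hsep⟩ := (Algebra.FormallyEtale.iff_exists_algEquiv_prod K Γ(T, ⊤)).1 inferInstance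
  haveI : Fintype I := Fintype.ofFinite I
  have hfin : ∀ i, Module.Finite K (Ai i) := fun i =>
    Module.Finite.of_surjective ((LinearMap.proj i).comp e.toLinearMap)
      ((Function.surjective_eval i).comp e.surjective)
  have hone : ∀ i, Module.finrank K (Ai i) = 1 := fun i => by
    haveI := hfin i
    exact ((AlgEquiv.ofBijective (Algebra.ofId K (Ai i))
      IsAlgClosed.algebraMap_bijective_of_isIntegral).toLinearEquiv.finrank_eq).symm.trans (Module.finrank_self K)
  refine ⟨inferInstance, inferInstance, ?_⟩
  rw [e.toLinearEquiv.finrank_eq, Module.finrank_pi_fintype]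
  simp only [hone, Finset.sum_const, Finset.card_univ, smul_eq_mul, mul_one, ← Nat.card_eq_fintype_card]
  let j : I → T := fun i => T.isoSpec.inv
    (PrimeSpectrum.comap e.toRingHom (PrimeSpectrum.sigmaToPi Ai ⟨i, ⊥⟩))
  have hj : Function.Injective j := fun i i' hii => by
    have h1 := T.isoSpec.inv.homeomorph.injective hii
    have h2 := PrimeSpectrum.comap_injective_of_surjective e.toRingHom e.surjective h1
    exact (Sigma.mk.inj_iff.1 (PrimeSpectrum.sigmaToPi_injective Ai h2)).1
  exact (Nat.card_le_card_of_injective j hj).trans h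

/-- Let `f : X → Y` be étale and `n ≥ 0`. If for every field `k` and every `Spec k → Y` the base change
`X_k = Spec k ×_Y X` has finitely many, and at most `n`, points, then `n` bounds the degrees of the
fibres of `f`. (The converse implication holds for every morphism of schemes, étale or not, and is
not restated here.) -/
theorem result {X Y : Scheme.{u}} (f : X ⟶ Y) [Etale f] (n : ℕ)
    (h : ∀ (k : Type u) [Field k] (g : Spec (CommRingCat.of k) ⟶ Y),
      Finite ↥(Limits.pullback f g) ∧ Nat.card ↥(Limits.pullback f g) ≤ n) :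
    BddFib.FibreDegLE f n := by
  rw [Basic.fibreDegLE_iff]
  intro y
  let K : Type u := AlgebraicClosure (Y.residueField y)
  let a : Y.residueField y ⟶ CommRingCat.of K := CommRingCat.ofHom (algebraMap (Y.residueField y) K)
  obtain ⟨hfin, hcard⟩ := h K (Spec.map a ≫ Y.fromSpecResidueField y)
  haveI : Etale (pullback.snd f (Spec.map a ≫ Y.fromSpecResidueField y)) :=
    MorphismProperty.pullback_snd _ _ inferInstance
  exact (Basic.fd_pullback_iff f y a n).1
    (fd_of_etale (pullback.snd f (Spec.map a ≫ Y.fromSpecResidueField y)) hcard)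

end Groth.Agent.S7440
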