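import Groth.Statements.S7444
import Groth.Agent.H75.UH.Descend
import Groth.Agent.H75.UH.Approx

set_option autoImplicit false
universe u
open CategoryTheory AlgebraicGeometry
open Mor

namespace Groth.Agent.S7444

/-- Let `φ : A → B` be a ring map such that `Spec B → Spec A` is a universal homeomorphism and all
residue field extensions are trivial (every residue field map is surjective). Then `B`, as an
`A`-algebra, is the colimit of a filtered diagram of finitely presented `A`-algebras `B_i`, each of
which has the same two properties over `A`. (The colimit is taken in the category of rings under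
`A`, over a small filtered index category.) -/
theorem result {A B : Type u} [CommRing A] [CommRing B]
    (φ : A →+* B) (hφ : FlatMor.IsUnivHomeo (Spec.map (CommRingCat.ofHom φ)))
    (hres : ∀ x : Spec (CommRingCat.of B), Function.Surjective ((Spec.map (CommRingCat.ofHom φ)).residueFieldMap x)) :
    ∃ (J : Type u) (_ : SmallCategory J) (_ : IsFiltered J) (F : J ⥤ Under (CommRingCat.of A))
      (c : Limits.Cocone F) (_ : Limits.IsColimit c),
      (∀ j, (F.obj j).hom.hom.FinitePresentation ∧ FlatMor.IsUnivHomeo (Spec.map (F.obj j).hom) ∧
        ∀ x : Spec (F.obj j).right, Function.Surjective ((Spec.map (F.obj j).hom).residueFieldMap x)) ∧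
      Nonempty (c.pt ≅ Under.mk (CommRingCat.ofHom φ)) := by
    classical
    letI : Algebra A B := φ.toAlgebra
    obtain ⟨hker, htop⟩ :=
      (H75.UH.isUnivHomeo_residue_algebraMap_iff (A := A) (B := B)).mp ⟨hφ, hres⟩
    let G : ∀ (P : Type u) [CommRing P] [Algebra A P], Subalgebra A P :=
      fun P _ _ => H75.UH.trivGood A P
    have hmap : ∀ {P Q : Type u} [CommRing P] [CommRing Q] [Algebra A P] [Algebra A Q]
        (f : P →ₐ[A] Q) {x : P}, x ∈ G P → f x ∈ G Q := fun f _ hx => H75.UH.map_trivGood f hx
    have hc : H75.UH.Approx.AllCovered G B :=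
      H75.UH.Approx.allCovered_of_covered hmap fun E₀ => by
        obtain ⟨S, hS, hE⟩ := H75.UH.exists_reach_sqCube htop E₀
        refine ⟨S, ?_, hE⟩
        clear hE
        induction hS with
        | bot => exact H75.UH.Approx.covered_bot
        | step _ hb ih =>
          exact H75.UH.Approx.covered_sqCube hmap (fun Q _ _ => H75.UH.stepClosed_trivGood) ih hb
    refine ⟨H75.UH.Approx.Idx G B, inferInstance, H75.UH.Approx.isFiltered hmap hc,
      H75.UH.Approx.diagram G B, H75.UH.Approx.cocone G B,
      (H75.UH.Approx.nonempty_isColimit hmap hc).some,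
      fun i => ⟨H75.UH.Approx.finitePresentation i, ?_⟩, ⟨Iso.refl _⟩⟩
    exact (H75.UH.isUnivHomeo_residue_algebraMap_iff (A := A) (B := H75.UH.Approx.Obj i)).mpr
      ⟨H75.UH.Approx.ker_algebraMap_le i hker, i.top⟩

end Groth.Agent.S7444
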