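import Groth.Statements.S7447
import Groth.Agent.Lib.Lim.Approx.Main
-- import your own Groth.Agent.* helpers here

set_option autoImplicit false
universe u
open CategoryTheory AlgebraicGeometry
open Opposite
open Lim

namespace Groth.Agent.S7447
set_option backward.isDefEq.respectTransparency false

/-- Noetherian approximation relative to a quasi-compact open: let `S` be quasi-compact and
quasi-separated, `V ⊆ S` a quasi-compact open, and `V = lim V_i` the limit of an inverse system,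
over a nonempty directed set `I`, of schemes of finite type over `ℤ` with affine transition
morphisms. Then there are a nonempty directed set `J`, an inverse system `(S_j)` of schemes of
finite type over `ℤ` with affine transition morphisms and `S = lim S_j`, an order preserving map `α
: J → I`, opens `V'_j ⊆ S_j` and isomorphisms `V'_j ≅ V_{α(j)}` such that: the transition maps
satisfy `g_{jj'}⁻¹(V'_{j'}) = V'_j`; `V` is the inverse image of each `V'_j` under `S → S_j` (which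
identifies `V` with `lim V'_j`); the composite `V → V'_j → V_{α(j)}` is the projection; and the
squares `V'_j → V_{α(j)} → V_{α(j')}`, `V'_j → V'_{j'} → V_{α(j')}` commute. -/
theorem result (S : Scheme.{u}) [CompactSpace S] [QuasiSeparatedSpace S]
    (V : S.Opens) (hV : IsCompact (V : Set S)) (I : Type u) [Preorder I] [IsDirected I (fun a b => a ≤ b)] [Nonempty I]
    (DV : Iᵒᵖ ⥤ Scheme.{u}) (haff : ∀ (i i' : Iᵒᵖ) (a : i ⟶ i'), IsAffineHom (DV.map a))
    (hft : ∀ i, CompactSpace (DV.obj i) ∧ LocallyOfFiniteType (Limits.IsTerminal.from specULiftZIsTerminal (DV.obj i)))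
    (cV : Limits.Cone DV) (hcV : Limits.IsLimit cV) (eV : cV.pt ≅ (V : Scheme.{u})) :
    ∃ (J : Type u) (_ : Preorder J) (_ : IsDirected J (fun a b => a ≤ b)) (_ : Nonempty J)
      (DS : Jᵒᵖ ⥤ Scheme.{u}) (cS : Limits.Cone DS) (_ : Limits.IsLimit cS) (eS : cS.pt ≅ S)
      (α : J →o I) (V' : ∀ j : J, (DS.obj (op j)).Opens)
      (φ : ∀ j : J, (V' j : Scheme.{u}) ≅ DV.obj (op (α j))),
      (∀ (j j' : Jᵒᵖ) (a : j ⟶ j'), IsAffineHom (DS.map a)) ∧
      (∀ j, CompactSpace (DS.obj j) ∧ LocallyOfFiniteType (Limits.IsTerminal.from specULiftZIsTerminal (DS.obj j))) ∧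
      (∀ (j j' : J) (h : j' ≤ j), (DS.map (homOfLE h).op) ⁻¹ᵁ (V' j') = V' j) ∧
      (∀ j : J, (eS.inv ≫ cS.π.app (op j)) ⁻¹ᵁ (V' j) = V) ∧
      (∀ j : J, ∃ ρ : (V : Scheme.{u}) ⟶ (V' j : Scheme.{u}),
        ρ ≫ (V' j).ι = V.ι ≫ eS.inv ≫ cS.π.app (op j) ∧ ρ ≫ (φ j).hom = eV.inv ≫ cV.π.app (op (α j))) ∧
      (∀ (j j' : J) (h : j' ≤ j), ∃ τ : (V' j : Scheme.{u}) ⟶ (V' j' : Scheme.{u}),
        τ ≫ (V' j').ι = (V' j).ι ≫ DS.map (homOfLE h).op ∧
        (φ j).hom ≫ DV.map (homOfLE (α.mono h)).op = τ ≫ (φ j').hom) := by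
  let AV : Groth.Agent.Lib.Lim.Approx.Basic.Approx (V : Scheme.{u}) :=
    { I := I, D := DV, affine := fun {i j} a => haff i j a,
      compact := fun i => (hft i).1, lft := fun i => (hft i).2,
      π := (Functor.const _).map eV.inv ≫ cV.π,
      isLimit := hcV.ofIsoLimit (Limits.Cone.ext eV (fun j => (eV.hom_inv_id_assoc _).symm)) }
  obtain ⟨A, ⟨e⟩⟩ := Groth.Agent.Lib.Lim.Approx.Main.exists_extends V hV AV
  have hpre : ∀ j : A.I, A.pr j ⁻¹ᵁ (e.ι j).opensRange = V := by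
    intro j
    refine le_antisymm (fun x hx => ?_) (fun x hx => ?_)
    · obtain ⟨y, rfl⟩ := e.pre_π j hx
      exact y.2
    · exact ⟨AV.pr (e.α j) ⟨x, hx⟩, (congr($(e.π_w j) ⟨x, hx⟩)).symm⟩
  refine ⟨A.I, A.pre, A.dir, A.ne, A.D, A.cone, A.isLimit, Iso.refl _, e.α,
    fun j => (e.ι j).opensRange, fun j => (e.ι j).isoOpensRange.symm, fun i j a => A.affine a,
    fun i => ⟨A.compact i, A.lft i⟩, fun j j' h => ?_, fun j => ?_, fun j => ?_, fun j j' h => ?_⟩
  · refine le_antisymm (fun x hx => e.pre h hx) ?_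
    rintro x ⟨y, rfl⟩
    exact ⟨AV.tr (e.α.monotone h) y, congr($(e.w h) y)⟩
  · show (𝟙 _ ≫ A.pr j) ⁻¹ᵁ _ = V
    rw [Category.id_comp, hpre j]
  · refine ⟨(eV.inv ≫ cV.π.app (op (e.α j))) ≫ (e.ι j).isoOpensRange.hom, ?_, ?_⟩
    · rw [Category.assoc, Scheme.Hom.isoOpensRange_hom_ι]
      show _ = V.ι ≫ 𝟙 _ ≫ A.pr j
      rw [Category.id_comp, e.π_w j]
      rfl
    · rw [Category.assoc]
      exact (congrArg (_ ≫ ·) (Iso.hom_inv_id _)).trans (Category.comp_id _)
  · refine ⟨(e.ι j).isoOpensRange.inv ≫ AV.tr (e.α.monotone h) ≫ (e.ι j').isoOpensRange.hom, ?_, ?_⟩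
    · rw [Category.assoc, Category.assoc, Scheme.Hom.isoOpensRange_hom_ι, e.w h,
        Scheme.Hom.isoOpensRange_inv_comp_assoc]
    · show (e.ι j).isoOpensRange.inv ≫ AV.tr (e.α.monotone h) = _
      rw [Category.assoc, Category.assoc]
      exact congrArg (_ ≫ ·)
        (((congrArg (_ ≫ ·) (Iso.hom_inv_id _)).trans (Category.comp_id _)).symm)

end Groth.Agent.S7447
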