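import Groth.Statements.S7448
import Groth.Agent.Lib.CohDelta.RelDim

set_option autoImplicit false
universe u
open Lim

namespace Groth.Agent.S7448

open AlgebraicGeometry CategoryTheory in
/-- Let `f : X → Y` be a morphism with `X`, `Y` quasi-compact and quasi-separated, and `d ≥ 0` such that
`R^i f_* F = 0` for all `i > d` and all quasi-coherent `F`. Then for every cartesian square with
base change `f' : X' → Y'` of `f`, `R^i f'_* F' = 0` for all `i > d` and all quasi-coherent
`O_{X'}`-modules `F'`. -/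
theorem result {X Y X' Y' : Scheme.{u}} (f : X ⟶ Y) [CompactSpace X]
    [QuasiSeparatedSpace X] [CompactSpace Y] [QuasiSeparatedSpace Y] (d : ℕ)
    (hvan : ∀ (M : X.Modules) (i : ℕ), Coh.IsQCoh M → d < i → Limits.IsZero ((Coh.RpushAb f i).obj (Coh.toAb M)))
    (g : Y' ⟶ Y) (f' : X' ⟶ Y') (g' : X' ⟶ X) (sq : IsPullback g' f' f g) (M' : X'.Modules) [Coh.IsQCoh M']
    (i : ℕ) (hi : d < i) : Limits.IsZero ((Coh.RpushAb f' i).obj (Coh.toAb M')) := by
  obtain ⟨p, rfl⟩ := Nat.exists_eq_succ_of_ne_zero (Nat.ne_zero_of_lt hi)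
  haveI : M'.IsQuasicoherent := ‹Coh.IsQCoh M'›
  haveI : QuasiCompact f := quasiCompact_of_compactSpace f
  haveI : QuasiSeparated f := QuasiSeparated.of_quasiSeparatedSpace f
  exact Groth.Agent.Lib.CohDelta.RelDim.isZero_RpushAb f g f' g' sq p
    (fun M hM => hvan M (p + 1) hM hi) M'

end Groth.Agent.S7448
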