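import Groth.Statements.S7450
import Groth.Agent.Lib.DvrCrit.CurveCrit
import Groth.Agent.S0566
-- import your own Groth.Agent.* helpers here

set_option autoImplicit false
universe u
open CategoryTheory AlgebraicGeometry
open Lim

namespace Groth.Agent.S7450
set_option backward.isDefEq.respectTransparency false

/-- Assume `S` is a Nagata scheme and `f : X → Y` is a morphism over `S` between schemes `X`, `Y` that
are locally of finite type over `S`. Then `f` is separated exactly when the following holds. Take
any normal integral scheme `C` of finite type over `S` and a closed point `c ∈ C` such that the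
local ring `A = O_{C,c}` is one-dimensional, put `U = C ∖ {c}`, and consider any commutative diagram
of `S`-schemes formed by `U → X` and `C → Y`. Then at most one morphism `Spec A → X` makes the
square with `Spec K → X` and `Spec A → Y` commute. -/
theorem result (S : Scheme.{u}) (hS : ∀ W : S.affineOpens, CAlg.IsNagata Γ(S, W))
    {X Y : Scheme.{u}} (p : X ⟶ S) (q : Y ⟶ S) [LocallyOfFiniteType p] [LocallyOfFiniteType q] (f : X ⟶ Y)
    (hf : f ≫ q = p) :
    IsSeparated f ↔
      ∀ (C : Scheme.{u}) (r : C ⟶ S) [IsIntegral C] [LocallyOfFiniteType r] [QuasiCompact r],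
        (∀ x : C, IsIntegrallyClosed (C.presheaf.stalk x)) →
        ∀ (c : C), IsClosed ({c} : Set C) → ringKrullDim (C.presheaf.stalk c) = 1 →
        ∀ (U : C.Opens), (U : Set C) = {c}ᶜ →
        ∀ (u : (U : Scheme.{u}) ⟶ X) (g : C ⟶ Y), g ≫ q = r → u ≫ f = U.ι ≫ g →
        ∀ (k : Spec (CommRingCat.of (FractionRing (C.presheaf.stalk c))) ⟶ (U : Scheme.{u})),
          k ≫ U.ι = Spec.map (CommRingCat.ofHom (algebraMap (C.presheaf.stalk c)
            (FractionRing (C.presheaf.stalk c)))) ≫ C.fromSpecStalk c →
        ∀ l l' : Spec (C.presheaf.stalk c) ⟶ X,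
          l ≫ f = C.fromSpecStalk c ≫ g →
          Spec.map (CommRingCat.ofHom (algebraMap (C.presheaf.stalk c) (FractionRing (C.presheaf.stalk c)))) ≫ l =
            k ≫ u →
          l' ≫ f = C.fromSpecStalk c ≫ g →
          Spec.map (CommRingCat.ofHom (algebraMap (C.presheaf.stalk c) (FractionRing (C.presheaf.stalk c)))) ≫ l' =
            k ≫ u → l = l' := by
  haveI : IsLocallyNoetherian S := ⟨fun W => (hS W).1⟩
  haveI : IsLocallyNoetherian Y := LocallyOfFiniteType.isLocallyNoetherian q
  constructor
  · intro hs C r _ _ _ hn c hc hd U hU u g hgr huf k hk l l' h1 h2 h3 h4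
    haveI := Lib.DvrCrit.existence_curve r (hn c) hd
    exact Lib.DvrCrit.uniqueness_apply (A := C.presheaf.stalk c) (K := FractionRing (C.presheaf.stalk c))
      (Lib.DvrCrit.uniqueness_of_isSeparated f) l l' (h1.trans h3.symm) (h2.trans h4.symm)
  · intro H
    exact Lib.DvrCrit.isSeparated_of_curves (fun R _ hR A _ _ hA => Groth.Agent.S0566.result R hR A) hS p q f hf H

end Groth.Agent.S7450
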