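import Groth.Statements.S7451
import Groth.Agent.Lib.DescAlg.ElemAut
import Mathlib.Algebra.CharP.Reduced
import Mathlib.FieldTheory.Finite.Basic
import Mathlib.RingTheory.Spectrum.Prime.Noetherian
import Mathlib.RingTheory.Polynomial.Basic

set_option autoImplicit false
set_option backward.isDefEq.respectTransparency false
set_option backward.isDefEq.respectTransparency.types false
universe u
open CategoryTheory AlgebraicGeometry
open Desc

namespace Groth.Agent.S7451

/-- Let `k` be a field and `n ≥ 2`. For `i ≠ j` and `d ≥ 0` let `T_{i,j,d}` be the automorphism of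
`𝔸^n_k` given by `x_i ↦ x_i + x_j^d` and fixing the other coordinates. Let `W ⊆ 𝔸^n_k` be a nonempty
open subscheme with `T_{i,j,d}⁻¹(W) = W` for all `i, j, d`. Then either `W = 𝔸^n_k`, or `k` has
prime characteristic `p` and the complement `𝔸^n_k ∖ W` consists of finitely many closed points,
each of whose coordinates `a` in the residue field satisfies `a^(p^m) = a` for some `m ≥ 1`
(equivalently, is algebraic over `𝔽_p`). -/
theorem result (k : Type u) [Field k] (n : ℕ) (hn : 2 ≤ n)
    (W : (Spec (CommRingCat.of (MvPolynomial (Fin n) k))).Opens)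
    (hW : (W : Set ↥(Spec (CommRingCat.of (MvPolynomial (Fin n) k)))).Nonempty)
    (hinv : ∀ (i j : Fin n), i ≠ j → ∀ d : ℕ,
      (Spec.map (CommRingCat.ofHom (MvPolynomial.aeval (R := k)
        (Function.update MvPolynomial.X i (MvPolynomial.X i + MvPolynomial.X j ^ d) :
          Fin n → MvPolynomial (Fin n) k)).toRingHom)) ⁻¹ᵁ W = W) :
    W = ⊤ ∨ ∃ p : ℕ, p.Prime ∧ CharP k p ∧ ((W : Set ↥(Spec (CommRingCat.of (MvPolynomial (Fin n) k))))ᶜ).Finite ∧
      ∀ x : ↥(Spec (CommRingCat.of (MvPolynomial (Fin n) k))),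
        x ∉ (W : Set ↥(Spec (CommRingCat.of (MvPolynomial (Fin n) k)))) →
        IsClosed ({x} : Set ↥(Spec (CommRingCat.of (MvPolynomial (Fin n) k)))) ∧ ∀ i : Fin n, ∃ m : ℕ, 0 < m ∧
          (algebraMap (MvPolynomial (Fin n) k) x.asIdeal.ResidueField (MvPolynomial.X i)) ^ (p ^ m) =
            algebraMap (MvPolynomial (Fin n) k) x.asIdeal.ResidueField (MvPolynomial.X i) := by
  classical
  let R := MvPolynomial (Fin n) k
  let Z : Set (PrimeSpectrum R) := (W : Set ↥(Spec (CommRingCat.of R)))ᶜ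
  have hZc : IsClosed Z := W.isOpen.isClosed_compl
  let I : Ideal R := PrimeSpectrum.vanishingIdeal Z
  have hmem : ∀ x : PrimeSpectrum R, x ∈ Z ↔ I ≤ x.asIdeal := fun x => by
    conv_lhs => rw [← hZc.closure_eq, ← PrimeSpectrum.zeroLocus_vanishingIdeal_eq_closure]
    exact Iff.rfl
  have hstab : Groth.Agent.Lib.DescAlg.ElemAut.Stable I :=
    Groth.Agent.Lib.DescAlg.ElemAut.stable_of_comap I fun x i j d hij hx =>
      (hmem (PrimeSpectrum.comap (Groth.Agent.Lib.DescAlg.ElemAut.elemHom (k := k) i j d).toRingHom x)).1 (by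
        intro hw
        refine (hmem x).2 hx ?_
        rw [← hinv i j hij d]
        exact hw)
  by_cases hbad : ∃ x ∈ Z, ∃ j : Fin n, CharZero k ∨
      Function.Injective fun d : ℕ => (Ideal.Quotient.mk (x : PrimeSpectrum R).asIdeal (MvPolynomial.X j)) ^ d
  · exfalso
    obtain ⟨x, hx, j, hj⟩ := hbad
    let A := R ⧸ x.asIdeal
    let a : Fin n → A := fun l => Ideal.Quotient.mk x.asIdeal (MvPolynomial.X l)
    have ha : ∀ f ∈ I, MvPolynomial.aeval a f = 0 := by
      intro f hf
      have : MvPolynomial.aeval a = Ideal.Quotient.mkₐ k x.asIdeal := MvPolynomial.algHom_ext fun l => (MvPolynomial.aeval_X a l).trans rfl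
      rw [this]
      exact Ideal.Quotient.eq_zero_iff_mem.2 ((hmem x).1 hx hf)
    have hI : I = ⊥ := Groth.Agent.Lib.DescAlg.ElemAut.eq_bot hstab hn a ha j
      (hj.imp (fun h => by haveI := h; exact charZero_of_injective_algebraMap (algebraMap k A).injective) id)
    obtain ⟨w, hw⟩ := hW
    exact (hmem w).2 (hI ▸ bot_le) hw
  · push Not at hbad
    by_cases hZ : Z = ∅
    · left
      apply TopologicalSpace.Opens.ext
      simpa [Z] using hZ
    right
    obtain ⟨x₀, hx₀⟩ := Set.nonempty_iff_ne_empty.2 hZ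
    obtain ⟨p, hp⟩ := CharP.exists k
    haveI := hp
    have hp0 : p ≠ 0 := fun h => by
      subst h
      exact not_isEmpty_iff.2 ⟨CharP.charP_to_charZero k⟩ ⟨fun h => (hbad x₀ hx₀ ⟨0, by omega⟩).1 h⟩
    have hpp : p.Prime := (CharP.char_is_prime_or_zero k p).resolve_right hp0
    haveI := Fact.mk hpp
    have hroot : ∀ x ∈ Z, ∀ j : Fin n, ∃ m : ℕ, 0 < m ∧
        (Ideal.Quotient.mk (x : PrimeSpectrum R).asIdeal (MvPolynomial.X j)) ^ p ^ m =
          Ideal.Quotient.mk x.asIdeal (MvPolynomial.X j) := by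
      intro x hx j
      haveI : CharP (R ⧸ x.asIdeal) p := charP_of_injective_algebraMap (algebraMap k (R ⧸ x.asIdeal)).injective p
      exact Groth.Agent.Lib.DescAlg.ElemAut.exists_pow_pow_eq p _ (hbad x hx j).2
    have hclosed : ∀ x ∈ Z, IsClosed ({x} : Set (PrimeSpectrum R)) := by
      intro x hx
      rw [PrimeSpectrum.isClosed_singleton_iff_isMaximal]
      have hint : Algebra.IsIntegral k (R ⧸ x.asIdeal) := by
        have htop : Algebra.adjoin k (Set.range fun j : Fin n => Ideal.Quotient.mkₐ k x.asIdeal (MvPolynomial.X j)) = ⊤ := by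
          rw [Set.range_comp', ← AlgHom.map_adjoin, MvPolynomial.adjoin_range_X, Algebra.map_top,
            AlgHom.range_eq_top]
          exact Ideal.Quotient.mkₐ_surjective _ _
        refine ⟨fun y => (Algebra.adjoin_le (S := integralClosure k (R ⧸ x.asIdeal)) ?_) (htop.symm ▸ Algebra.mem_top : y ∈ Algebra.adjoin k _)⟩
        rintro _ ⟨j, rfl⟩
        show IsIntegral k _
        obtain ⟨m, hm, he⟩ := hroot x hx j
        refine ⟨Polynomial.X ^ p ^ m - Polynomial.X, Polynomial.monic_X_pow_sub (by rw [Polynomial.degree_X]; exact_mod_cast Nat.one_lt_pow hm.ne' hpp.one_lt), ?_⟩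
        rw [← Polynomial.aeval_def, map_sub, map_pow, Polynomial.aeval_X, sub_eq_zero]
        exact he
      exact Ideal.Quotient.maximal_of_isField _ (isField_of_isIntegral_of_isField' (Field.toIsField k))
    refine ⟨p, hpp, hp, ?_, fun x hx => ⟨hclosed x hx, fun j => ?_⟩⟩
    · show Z.Finite
      obtain ⟨T, hT, hTc, hTi, hTZ⟩ := TopologicalSpace.NoetherianSpace.exists_finite_set_isClosed_irreducible hZc
      rw [hTZ]
      refine hT.sUnion fun t ht => ?_
      obtain ⟨η, hη⟩ := QuasiSober.sober (hTi t ht) (hTc t ht)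
      have hηZ : η ∈ Z := hTZ ▸ ⟨t, ht, hη.mem⟩
      rw [← hη.def, (hclosed η hηZ).closure_eq]
      exact Set.finite_singleton η
    · obtain ⟨m, hm, he⟩ := hroot x hx j
      refine ⟨m, hm, ?_⟩
      rw [IsScalarTower.algebraMap_apply R (R ⧸ x.asIdeal) x.asIdeal.ResidueField, Ideal.Quotient.algebraMap_eq,
        ← map_pow, he]

end Groth.Agent.S7451
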