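import Groth.Statements.S7454
import Groth.Agent.H63.GrpdSmooth
import Groth.Agent.H63.GrpdIrred
import Groth.Agent.H63.GrpdDim
-- import your own Groth.Agent.* helpers here

set_option autoImplicit false
universe u
open CategoryTheory CategoryTheory.Limits AlgebraicGeometry
open Grpd

namespace Groth.Agent.S7454
open Groth.Agent.H63.GrpdDim
open Groth.Agent.H63.GrpdIrred
open Groth.Agent.H63.GrpdSmooth

/-- Let (U, R, s, t, c) be a groupoid scheme over S with U the spectrum of a field of characteristic
zero and s, t locally of finite type. Then s and t are smooth. (A groupoid scheme carries U, R, s,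
t, c, e, i over S with the groupoid axioms on T-points; c is defined on the fibre product of s and t
and sends a pair (a, b) with s(a) = t(b) to a composed with b.) -/
theorem result (S : Scheme.{u}) (G : Grpd.GroupoidScheme S) (k : Type u) [Field k] [CharZero k] (eU : G.U ≅ Spec (CommRingCat.of k)) [LocallyOfFiniteType G.s] [LocallyOfFiniteType G.t] : Smooth G.s ∧ Smooth G.t := by
  exact smooth_s_t G eU ⟨_, ePt_mem_smoothLocus G eU⟩

end Groth.Agent.S7454
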