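import Groth.Statements.S7456
import Groth.Agent.H63.GrpdBasic
-- import your own Groth.Agent.* helpers here

set_option autoImplicit false
universe u
open CategoryTheory CategoryTheory.Limits AlgebraicGeometry
open Grpd

namespace Groth.Agent.S7456
open Groth.Agent.H63.GrpdBasic

/-- Let (U, R, s, t, c) be a groupoid scheme over S. For every subset W of U, the subset t(s^{-1}(W)) is
set-theoretically R-invariant: its preimages under s and t coincide. If moreover s and t are open
maps and quasi-compact, then U is covered by R-invariant quasi-compact open subsets. (The published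
statement also asserts that this set is open when W is open and s, t are open maps; this row omits
that clause.) (A groupoid scheme carries U, R, s, t, c, e, i over S with the groupoid axioms on
T-points; c is defined on the fibre product of s and t and sends a pair (a, b) with s(a) = t(b) to a
composed with b.) -/
theorem result (S : Scheme.{u}) (G : Grpd.GroupoidScheme S) : (∀ W : Set G.U, ⇑G.s ⁻¹' (⇑G.t '' (⇑G.s ⁻¹' W)) = ⇑G.t ⁻¹' (⇑G.t '' (⇑G.s ⁻¹' W))) ∧ (IsOpenMap ⇑G.s → IsOpenMap ⇑G.t → QuasiCompact G.s → QuasiCompact G.t → ∀ u : G.U, ∃ W : G.U.Opens, IsCompact (W : Set G.U) ∧ u ∈ W ∧ G.s ⁻¹ᵁ W = G.t ⁻¹ᵁ W) := by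
  have key : ∀ W : Set G.U, ⇑G.s ⁻¹' (⇑G.t '' (⇑G.s ⁻¹' W)) = ⇑G.t ⁻¹' (⇑G.t '' (⇑G.s ⁻¹' W)) := by
    intro W
    have hit : ∀ r, G.t (G.i r) = G.s r := fun r => by rw [← Scheme.Hom.comp_apply, G.i_t]
    have his : ∀ r, G.s (G.i r) = G.t r := fun r => by rw [← Scheme.Hom.comp_apply, G.i_s]
    ext r
    constructor
    · rintro ⟨x, hx, hxr⟩
      obtain ⟨q, hq1, hq2⟩ := exists_cmp_point G r x hxr.symm
      exact ⟨q, by rw [Set.mem_preimage, hq2]; exact hx, hq1⟩
    · rintro ⟨x, hx, hxr⟩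
      obtain ⟨q, hq1, hq2⟩ := exists_cmp_point G (G.i r) x (by rw [his, hxr])
      exact ⟨q, by rw [Set.mem_preimage, hq2]; exact hx, hq1.trans (hit r)⟩
  refine ⟨key, fun hso hto _ _ u => ?_⟩
  obtain ⟨V, hV, hu, -⟩ := exists_isAffineOpen_mem_and_subset (show u ∈ (⊤ : G.U.Opens) from trivial)
  let W : G.U.Opens := ⟨⇑G.t '' (⇑G.s ⁻¹' (V : Set G.U)),
    hto _ (V.isOpen.preimage G.s.continuous)⟩
  refine ⟨W, (G.s.isCompact_preimage hV.isCompact).image G.t.continuous, ?_, ?_⟩
  · refine ⟨G.e u, ?_, ?_⟩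
    · rw [Set.mem_preimage, ← Scheme.Hom.comp_apply, G.e_s]; exact hu
    · rw [← Scheme.Hom.comp_apply, G.e_t]; rfl
  · exact TopologicalSpace.Opens.ext (key _)

end Groth.Agent.S7456
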