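import Groth.Statements.S7459
import Groth.Agent.H63.GrpTranslate
-- import your own Groth.Agent.* helpers here

set_option autoImplicit false
universe u
open CategoryTheory MonoidalCategory CartesianMonoidalCategory MonObj GrpObj AlgebraicGeometry
open GrpSch

namespace Groth.Agent.S7459
open Groth.Agent.H63.GrpTranslate

/-- Let G be a group scheme over a field k, W an open subscheme of G and f : T -> G a morphism of
schemes (T becomes a k-scheme through f). Then the image of the composition T x_k W -> G x_k G -> G,
the second map being the multiplication, is open. -/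
theorem result (K : Type u) [Field K] (G : Over (Spec (CommRingCat.of K))) [GrpObj G] (W : G.left.Opens) (T : Scheme.{u}) (f : T ⟶ G.left) : IsOpen (Set.range ⇑(((Over.homMk f rfl : Over.mk (f ≫ G.hom) ⟶ G) ⊗ₘ (Over.homMk W.ι rfl : Over.mk (W.ι ≫ G.hom) ⟶ G)) ≫ μ[G]).left) := by
  let T' : Over (Spec (CommRingCat.of K)) := Over.mk (f ≫ G.hom)
  let ψ : T' ⟶ G := Over.homMk f rfl
  let w : Over.mk (W.ι ≫ G.hom) ⟶ G := Over.homMk W.ι rfl
  have h1 : UniversallyOpen ((ψ ▷ G) ≫ μ[G]).left :=
    property_translate_mul (P := @UniversallyOpen) ψ inferInstance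
  have h2 : IsOpenImmersion (T' ◁ w).left :=
    by
      rw [Over.whiskerLeft_left]
      have : IsOpenImmersion w.left := inferInstanceAs (IsOpenImmersion W.ι)
      infer_instance
  show IsOpen (Set.range ⇑((ψ ⊗ₘ w) ≫ μ[G]).left)
  rw [MonoidalCategory.tensorHom_def', Category.assoc, Over.comp_left, Scheme.Hom.comp_base,
    TopCat.coe_comp, Set.range_comp]
  exact ((ψ ▷ G) ≫ μ[G]).left.isOpenMap _ (T' ◁ w).left.isOpenEmbedding.isOpen_range

end Groth.Agent.S7459
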