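import Groth.Statements.S7460

import Mathlib.AlgebraicGeometry.Pullbacks
import Mathlib.RingTheory.TensorProduct.Maps

set_option autoImplicit false
open scoped TensorProduct
universe u
open CategoryTheory CategoryTheory.Limits AlgebraicGeometry
open GrpSch

open CategoryTheory CategoryTheory.Limits AlgebraicGeometry

namespace Groth.Agent.S7460


section
variable {k : Type u} [Field k] {A : Type u} [CommRing A] [Algebra k A]

theorem exists_local_const
    (hA : ∀ s : Finset A, ∃ (B : Subalgebra k A) (n : ℕ), (↑s : Set A) ⊆ (B : Set A) ∧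
      Nonempty (B ≃ₐ[k] (Fin n → k))) (a : PrimeSpectrum A) (x : A) :
    ∃ (e : A) (c : k), e ∉ a.asIdeal ∧ e * x = algebraMap k A c * e := by
  classical
  obtain ⟨B, n, hs, ⟨φ⟩⟩ := hA {x}
  have hx : x ∈ B := hs (by simp)
  let e : Fin n → A := fun i => (φ.symm (Pi.single i 1) : B)
  have he : ∑ i, e i = 1 := by
    simp only [e]
    rw [← AddSubmonoidClass.coe_finsetSum, ← map_sum, Finset.univ_sum_single (fun _ : Fin n => (1 : k)),
      show (fun _ : Fin n => (1 : k)) = 1 from rfl, map_one]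
    rfl
  obtain ⟨i, hi⟩ : ∃ i, e i ∉ a.asIdeal := by
    by_contra h
    push Not at h
    exact a.2.ne_top ((Ideal.eq_top_iff_one _).2 (he ▸ Ideal.sum_mem _ fun i _ => h i))
  refine ⟨e i, φ ⟨x, hx⟩ i, hi, ?_⟩
  have : φ.symm (Pi.single i 1) * ⟨x, hx⟩ = algebraMap k B (φ ⟨x, hx⟩ i) * φ.symm (Pi.single i 1) := by
    apply φ.injective
    simp only [map_mul, AlgEquiv.apply_symm_apply, AlgEquiv.commutes]
    funext j
    by_cases hj : j = i
    · subst hj; simp
    · simp [hj]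
  exact congrArg (fun z : B => (z : A)) this

theorem exists_point
    (hA : ∀ s : Finset A, ∃ (B : Subalgebra k A) (n : ℕ), (↑s : Set A) ⊆ (B : Set A) ∧
      Nonempty (B ≃ₐ[k] (Fin n → k))) (a : PrimeSpectrum A) :
    ∃ φ : A →ₐ[k] k, a = PrimeSpectrum.comap φ.toRingHom (IsLocalRing.closedPoint k) := by
  have key : ∀ x : A, ∃ c : k, x - algebraMap k A c ∈ a.asIdeal := fun x => by
    obtain ⟨e, c, he, hex⟩ := exists_local_const hA a x
    refine ⟨c, (a.2.mem_or_mem ?_).resolve_left he⟩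
    rw [mul_sub, hex, mul_comm e, sub_self]
    exact Ideal.zero_mem _
  have hb : Function.Bijective (algebraMap k (A ⧸ a.asIdeal)) := by
    refine ⟨(algebraMap k (A ⧸ a.asIdeal)).injective, fun y => ?_⟩
    obtain ⟨x, rfl⟩ := Ideal.Quotient.mk_surjective y
    obtain ⟨c, hc⟩ := key x
    exact ⟨c, ((Ideal.Quotient.mk_eq_mk_iff_sub_mem _ _).2 hc).symm⟩
  let ψ := AlgEquiv.ofBijective (Algebra.ofId k (A ⧸ a.asIdeal)) hb
  refine ⟨ψ.symm.toAlgHom.comp (Ideal.Quotient.mkₐ k a.asIdeal), ?_⟩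
  ext x
  rw [PrimeSpectrum.comap_asIdeal, Ideal.mem_comap]
  show x ∈ a.asIdeal ↔ ψ.symm (Ideal.Quotient.mk a.asIdeal x) ∈ IsLocalRing.maximalIdeal k
  rw [IsLocalRing.maximalIdeal_eq_bot, Ideal.mem_bot, map_eq_zero_iff _ ψ.symm.injective,
    Ideal.Quotient.eq_zero_iff_mem]

theorem exists_split
    (hA : ∀ s : Finset A, ∃ (B : Subalgebra k A) (n : ℕ), (↑s : Set A) ⊆ (B : Set A) ∧
      Nonempty (B ≃ₐ[k] (Fin n → k))) (a : PrimeSpectrum A) {R : Type u} [CommRing R] [Algebra k R]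
    (s : A ⊗[k] R) :
    ∃ (e : A) (r : R), e ∉ a.asIdeal ∧ (e ⊗ₜ[k] (1 : R)) * s = e ⊗ₜ[k] r := by
  induction s using TensorProduct.induction_on with
  | zero => exact ⟨1, 0, fun h => a.2.ne_top ((Ideal.eq_top_iff_one _).2 h), by simp⟩
  | tmul x y =>
    obtain ⟨e, c, he, hex⟩ := exists_local_const hA a x
    refine ⟨e, c • y, he, ?_⟩
    rw [Algebra.TensorProduct.tmul_mul_tmul, one_mul, hex, ← Algebra.smul_def, TensorProduct.smul_tmul]
  | add s₁ s₂ h₁ h₂ =>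
    obtain ⟨e₁, r₁, he₁, h₁⟩ := h₁
    obtain ⟨e₂, r₂, he₂, h₂⟩ := h₂
    refine ⟨e₁ * e₂, r₁ + r₂, fun h => (a.2.mem_or_mem h).elim he₁ he₂, ?_⟩
    have g₁ : ((e₁ * e₂) ⊗ₜ[k] (1 : R)) * s₁ = (e₁ * e₂) ⊗ₜ[k] r₁ := by
      rw [show (e₁ * e₂) ⊗ₜ[k] (1 : R) = (e₂ ⊗ₜ[k] (1 : R)) * (e₁ ⊗ₜ[k] (1 : R)) by simp [mul_comm],
        mul_assoc, h₁, Algebra.TensorProduct.tmul_mul_tmul, one_mul, mul_comm e₂]
    have g₂ : ((e₁ * e₂) ⊗ₜ[k] (1 : R)) * s₂ = (e₁ * e₂) ⊗ₜ[k] r₂ := by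
      rw [show (e₁ * e₂) ⊗ₜ[k] (1 : R) = (e₁ ⊗ₜ[k] (1 : R)) * (e₂ ⊗ₜ[k] (1 : R)) by simp,
        mul_assoc, h₂, Algebra.TensorProduct.tmul_mul_tmul, one_mul]
    rw [mul_add, g₁, g₂, TensorProduct.tmul_add]

end

/-- Let k be a field and A a k-algebra such that every finite subset of A is contained in a k-subalgebra
isomorphic to a finite product of copies of k (that is, A is a directed colimit of finite products
of copies of k). Let X be a scheme over k. Then the map from the underlying space of Spec A x_k X to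
the product of the underlying spaces of Spec A and X, given by the two projections, is a
homeomorphism. -/
theorem result (k : Type u) [Field k] (A : Type u) [CommRing A] [Algebra k A] (hA : ∀ s : Finset A, ∃ (B : Subalgebra k A) (n : ℕ), (↑s : Set A) ⊆ (B : Set A) ∧ Nonempty (B ≃ₐ[k] (Fin n → k))) (X : Scheme.{u}) (f : X ⟶ Spec (CommRingCat.of k)) : IsHomeomorph (fun p : ↑(pullback (Spec.map (CommRingCat.ofHom (algebraMap k A))) f) => (pullback.fst (Spec.map (CommRingCat.ofHom (algebraMap k A))) f p, pullback.snd (Spec.map (CommRingCat.ofHom (algebraMap k A))) f p)) := by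
  let g := Spec.map (CommRingCat.ofHom (algebraMap k A))
  let π₁ := pullback.fst g f
  let π₂ := pullback.snd g f
  have hinj : ∀ a : PrimeSpectrum A, ∃ m : X ⟶ pullback g f, m ≫ π₂ = 𝟙 X ∧
      (∀ x, π₁ (m x) = a) ∧ ∀ p, π₁ p = a → p = m (π₂ p) := by
    intro a
    obtain ⟨φ, hφ⟩ := exists_point hA a
    let a' : Spec (CommRingCat.of k) ⟶ Spec (CommRingCat.of A) := Spec.map (CommRingCat.ofHom φ.toRingHom)
    have ha' : a' ≫ g = 𝟙 _ := by
      simp only [a', g, ← Spec.map_comp, ← Spec.map_id]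
      congr 1
      ext x
      exact φ.commutes x
    let m : X ⟶ pullback g f := pullback.lift (f ≫ a') (𝟙 X) (by rw [Category.assoc, ha']; simp)
    have hm : IsPullback m f π₁ a' := by
      refine IsPullback.of_right ?_ (pullback.lift_fst _ _ _) (IsPullback.of_hasPullback g f).flip
      rw [pullback.lift_snd, ha']
      exact IsPullback.of_horiz_isIso ⟨by simp⟩
    have hmem : ∀ x, π₁ (m x) = a := fun x => by
      rw [← Scheme.Hom.comp_apply, pullback.lift_fst, Scheme.Hom.comp_apply, hφ]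
      exact congrArg a' (Subsingleton.elim (α := PrimeSpectrum k) _ _)
    refine ⟨m, pullback.lift_snd _ _ _, hmem, fun p hp => ?_⟩
    obtain ⟨t, ht, -⟩ := Scheme.exists_preimage_of_isPullback hm p (IsLocalRing.closedPoint k) (hp.trans hφ)
    rw [← ht]
    show m t = m ((m ≫ π₂) t)
    rw [pullback.lift_snd]
    rfl
  refine ⟨(π₁.continuous.prodMk π₂.continuous), ?_, ?_, ?_⟩
  swap
  · intro p q hpq
    obtain ⟨h1, h2⟩ := Prod.mk.injEq .. ▸ hpq
    obtain ⟨m, -, -, hm⟩ := hinj (π₁ q)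
    rw [hm q rfl, hm p h1, h2]
  swap
  · rintro ⟨a, x⟩
    obtain ⟨m, hm2, hm1, -⟩ := hinj a
    refine ⟨m x, Prod.ext (hm1 x) ?_⟩
    show (m ≫ π₂) x = x
    rw [hm2]
    rfl
  intro W hW
  rw [isOpen_iff_forall_mem_open]
  rintro _ ⟨p, hpW, rfl⟩
  obtain ⟨U, hU, hxU, -⟩ := exists_isAffineOpen_mem_and_subset (X := X) (x := π₂ p) (U := ⊤) trivial
  let R := Γ(X, U)
  obtain ⟨φ, hφ⟩ := Spec.map_surjective (hU.fromSpec ≫ f)
  let : Algebra k R := φ.hom.toAlgebra
  let J : Spec (CommRingCat.of (A ⊗[k] R)) ⟶ pullback g f :=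
    (pullbackSpecIso k A R).inv ≫ pullback.map _ _ _ _ (𝟙 _) hU.fromSpec (𝟙 _) (by simp [g])
      (by rw [Category.comp_id]; exact hφ)
  have hJ1 : J ≫ π₁ = Spec.map (CommRingCat.ofHom (algebraMap A (A ⊗[k] R))) := by
    simp only [J, π₁, Category.assoc, pullback.map, pullback.lift_fst, Category.comp_id]
    exact pullbackSpecIso_inv_fst k A R
  have hJ2 : J ≫ π₂ = Spec.map (CommRingCat.ofHom (Algebra.TensorProduct.includeRight.toRingHom : R →+* A ⊗[k] R)) ≫ hU.fromSpec := by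
    simp only [J, π₂, Category.assoc, pullback.map, pullback.lift_snd]
    rw [← Category.assoc, pullbackSpecIso_inv_snd]
    rfl
  have hsurj : ∀ q, π₂ q ∈ U → q ∈ Set.range J := by
    intro q hq
    have : q ∈ Set.range (pullback.map (Spec.map (CommRingCat.ofHom (algebraMap k A))) (Spec.map (CommRingCat.ofHom (algebraMap k R)))
        g f (𝟙 _) hU.fromSpec (𝟙 _) (by simp [g]) (by rw [Category.comp_id]; exact hφ)) := by
      rw [Scheme.Pullback.range_map]
      exact ⟨⟨π₁ q, rfl⟩, by rw [Set.mem_preimage, hU.range_fromSpec]; exact hq⟩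
    obtain ⟨t, ht⟩ := this
    refine ⟨(pullbackSpecIso k A R).hom t, ?_⟩
    show ((pullbackSpecIso k A R).hom ≫ J) t = q
    simp only [J, Iso.hom_inv_id_assoc]
    exact ht
  obtain ⟨t, rfl⟩ := hsurj p hxU
  obtain ⟨_, ⟨s, rfl⟩, hts, hsW⟩ :=
    PrimeSpectrum.isTopologicalBasis_basic_opens.exists_subset_of_mem_open (a := t) hpW (hW.preimage J.continuous)
  obtain ⟨e, r, he, her⟩ := exists_split hA (π₁ (J t)) s
  have hiff : ∀ q : PrimeSpectrum (A ⊗[k] R), e ⊗ₜ[k] (1 : R) ∉ q.asIdeal →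
      (s ∉ q.asIdeal ↔ (1 : A) ⊗ₜ[k] r ∉ q.asIdeal) := by
    intro q hq
    have h : (e ⊗ₜ[k] (1 : R)) * s = (e ⊗ₜ[k] (1 : R)) * ((1 : A) ⊗ₜ[k] r) := by
      rw [her, Algebra.TensorProduct.tmul_mul_tmul, mul_one, one_mul]
    constructor <;> intro h' h''
    · exact (q.2.mem_or_mem (show e ⊗ₜ[k] (1 : R) * s ∈ q.asIdeal from h ▸ Ideal.mul_mem_left _ _ h'')).elim hq h'
    · exact (q.2.mem_or_mem (show e ⊗ₜ[k] (1 : R) * ((1 : A) ⊗ₜ[k] r) ∈ q.asIdeal from h ▸ Ideal.mul_mem_left _ _ h'')).elim hq h'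
  have h1 : ∀ q : PrimeSpectrum (A ⊗[k] R), e ⊗ₜ[k] (1 : R) ∉ q.asIdeal ↔ π₁ (J q) ∈ PrimeSpectrum.basicOpen e := by
    intro q
    show _ ↔ (J ≫ π₁) q ∈ _
    rw [hJ1]
    rfl
  refine ⟨((PrimeSpectrum.basicOpen e : TopologicalSpace.Opens (PrimeSpectrum A)) : Set (PrimeSpectrum A)) ×ˢ (hU.fromSpec '' ((PrimeSpectrum.basicOpen r : TopologicalSpace.Opens (PrimeSpectrum R)) : Set (PrimeSpectrum R))), ?_, ?_, ?_⟩
  · rintro ⟨a, _⟩ ⟨ha, z, hz, rfl⟩
    obtain ⟨m, hm2, hm1, -⟩ := hinj a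
    have hx : (m ≫ π₂) (hU.fromSpec z) ∈ U := by
      rw [hm2]
      exact hU.range_fromSpec.le ⟨z, rfl⟩
    obtain ⟨q, hq⟩ := hsurj (m (hU.fromSpec z)) hx
    refine ⟨J q, hsW ?_, Prod.ext ?_ ?_⟩
    · have hq1 : e ⊗ₜ[k] (1 : R) ∉ q.asIdeal := (h1 q).2 (by rw [hq, hm1]; exact ha)
      show s ∉ q.asIdeal
      refine (hiff q hq1).2 ?_
      have : hU.fromSpec (PrimeSpectrum.comap (Algebra.TensorProduct.includeRight.toRingHom : R →+* A ⊗[k] R) q) = hU.fromSpec z := by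
        show ((Spec.map (CommRingCat.ofHom (Algebra.TensorProduct.includeRight.toRingHom : R →+* A ⊗[k] R))) ≫ hU.fromSpec) q = _
        rw [← hJ2, Scheme.Hom.comp_apply, hq, ← Scheme.Hom.comp_apply, hm2]
        rfl
      have h3 := hU.fromSpec.isOpenEmbedding.injective this
      intro h4
      rw [← h3] at hz
      exact hz h4
    · show π₁ (J q) = a
      rw [hq, hm1]
    · show π₂ (J q) = _
      rw [hq, ← Scheme.Hom.comp_apply, hm2]
      rfl
  · exact (PrimeSpectrum.basicOpen e).2.prod (hU.fromSpec.isOpenEmbedding.isOpenMap _ (PrimeSpectrum.basicOpen r).2)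
  · refine ⟨he, PrimeSpectrum.comap (Algebra.TensorProduct.includeRight.toRingHom : R →+* A ⊗[k] R) t, ?_, ?_⟩
    · exact ((hiff t ((h1 t).2 he)).1 hts)
    · show ((Spec.map (CommRingCat.ofHom (Algebra.TensorProduct.includeRight.toRingHom : R →+* A ⊗[k] R))) ≫ hU.fromSpec) t = π₂ (J t)
      rw [← hJ2, Scheme.Hom.comp_apply]


end Groth.Agent.S7460
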