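import Groth.Statements.S7462
import Groth.Agent.H63.GrpdBasic
import Groth.Agent.H63.PullbackClosure
-- import your own Groth.Agent.* helpers here

set_option autoImplicit false
universe u
open CategoryTheory CategoryTheory.Limits AlgebraicGeometry
open Grpd

namespace Groth.Agent.S7462
open Groth.Agent.H63.PullbackClosure
open Groth.Agent.H63.GrpdBasic

/-- Consider two groupoid schemes (U, R_1, s_1, t_1, c_1) and (U, R_2, s_2, t_2, c_2) over S, where U is
the spectrum of a field, together with a map a : R_1 -> R_2 respecting source, target and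
composition (in the Lean: a morphism of groupoid schemes whose object-scheme component is an
isomorphism). Write Z for the closure in R_2 of the image of a. Then, as a map of sets, c_2 sends Z
x_(s_2,U,t_2) Z into Z: any point of R_2 x_(s_2,U,t_2) R_2 with both projections in Z has its
c_2-image in Z. (Here a groupoid scheme over S consists of U, R, s, t, c, e, i satisfying the
groupoid axioms on T-points; c lives on the fibre product of s and t and takes a pair (a, b) with
s(a) = t(b) to the composite of a with b.) -/
theorem result (S : Scheme.{u}) (G₁ G₂ : Grpd.GroupoidScheme S) (f : Grpd.GroupoidScheme.Hom G₁ G₂) [IsIso f.fU] (k : Type u) [Field k] (eU : G₂.U ≅ Spec (CommRingCat.of k)) (p : ↑(pullback G₂.s G₂.t)) (h₁ : pullback.fst G₂.s G₂.t p ∈ closure (Set.range ⇑f.fR)) (h₂ : pullback.snd G₂.s G₂.t p ∈ closure (Set.range ⇑f.fR)) : G₂.c p ∈ closure (Set.range ⇑f.fR) := by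
  have := isIntegral_of_iso_spec k eU
  have := subsingleton_of_iso_spec k eU
  let m : pullback G₁.s G₁.t ⟶ pullback G₂.s G₂.t :=
    pullback.map G₁.s G₁.t G₂.s G₂.t f.fR f.fR f.fU f.comm_s.symm f.comm_t.symm
  have hm : m ≫ G₂.c = G₁.c ≫ f.fR := by
    have := f.comm_c (pullback.fst G₁.s G₁.t) (pullback.snd G₁.s G₁.t) pullback.condition
    rw [show pullback.lift (pullback.fst G₁.s G₁.t) (pullback.snd G₁.s G₁.t) pullback.condition =
      𝟙 _ from by apply pullback.hom_ext <;> simp, Category.id_comp] at this
    exact this.symm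
  have h3 := image_closure_subset_closure_image G₂.c.continuous
    ⟨p, mem_closure_both G₂.s G₂.t p _ _ h₁ h₂, rfl⟩
  refine closure_mono ?_ h3
  rintro _ ⟨q, hq, rfl⟩
  have : q ∈ Set.range m := by
    show q ∈ Set.range (pullback.map G₁.s G₁.t G₂.s G₂.t f.fR f.fR f.fU _ _)
    rw [Scheme.Pullback.range_map]
    exact hq
  obtain ⟨z, rfl⟩ := this
  exact ⟨G₁.c z, by rw [← Scheme.Hom.comp_apply, ← hm, Scheme.Hom.comp_apply]⟩

end Groth.Agent.S7462
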