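import Groth.Statements.S7463
import Groth.Agent.H63.GrpdBasic
import Groth.Agent.H63.GrpdStab
import Groth.Agent.H63.PullbackClosure
-- import your own Groth.Agent.* helpers here

set_option autoImplicit false
universe u
open CategoryTheory CategoryTheory.Limits AlgebraicGeometry
open Grpd

namespace Groth.Agent.S7463
open Groth.Agent.H63.PullbackClosure
open Groth.Agent.H63.GrpdStab
open Groth.Agent.H63.GrpdBasic

/-- Consider a groupoid scheme (U, R, s, t, c) over S in which U is the spectrum of a field, and write Z
for the closure of the image of the morphism j = (t, s) : R -> U x_S U. Then, set-theoretically,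
pr_02 carries Z x_(pr_1,U,pr_0) Z into Z: given the morphism pr_02 from (U x_S U) x_(pr_1,U,pr_0) (U
x_S U) to U x_S U, whose components are pr_0 of the first factor and pr_1 of the second, any point
both of whose projections land in Z is mapped to a point of Z. (A groupoid scheme consists of U, R,
s, t, c, e, i over S satisfying the groupoid axioms on T-points; c is defined on the fibre product
of s and t and takes a pair (a, b) with s(a) = t(b) to the composite of a with b.) -/
theorem result (S : Scheme.{u}) (G : Grpd.GroupoidScheme S) (k : Type u) [Field k] (eU : G.U ≅ Spec (CommRingCat.of k)) (pr02 : pullback (pullback.snd G.pU G.pU) (pullback.fst G.pU G.pU) ⟶ pullback G.pU G.pU) (h0 : pr02 ≫ pullback.fst G.pU G.pU = pullback.fst (pullback.snd G.pU G.pU) (pullback.fst G.pU G.pU) ≫ pullback.fst G.pU G.pU) (h1 : pr02 ≫ pullback.snd G.pU G.pU = pullback.snd (pullback.snd G.pU G.pU) (pullback.fst G.pU G.pU) ≫ pullback.snd G.pU G.pU) (p : ↑(pullback (pullback.snd G.pU G.pU) (pullback.fst G.pU G.pU))) (h₁ : pullback.fst (pullback.snd G.pU G.pU) (pullback.fst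 G.pU G.pU) p ∈ closure (Set.range ⇑G.j)) (h₂ : pullback.snd (pullback.snd G.pU G.pU) (pullback.fst G.pU G.pU) p ∈ closure (Set.range ⇑G.j)) : pr02 p ∈ closure (Set.range ⇑G.j) := by
  have := isIntegral_of_iso_spec k eU
  have := subsingleton_of_iso_spec k eU
  let m : pullback G.s G.t ⟶ pullback (pullback.snd G.pU G.pU) (pullback.fst G.pU G.pU) :=
    pullback.map G.s G.t _ _ G.j G.j (𝟙 G.U)
      (by rw [Category.comp_id, j_snd]) (by rw [Category.comp_id, j_fst])
  have hm : m ≫ pr02 = G.c ≫ G.j := by
    apply pullback.hom_ext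
    · rw [Category.assoc, h0, Category.assoc, j_fst, c_t, ← Category.assoc]
      rw [show m ≫ pullback.fst _ _ = pullback.fst G.s G.t ≫ G.j from pullback.lift_fst _ _ _,
        Category.assoc, j_fst]
    · rw [Category.assoc, h1, Category.assoc, j_snd, c_s, ← Category.assoc]
      rw [show m ≫ pullback.snd _ _ = pullback.snd G.s G.t ≫ G.j from pullback.lift_snd _ _ _,
        Category.assoc, j_snd]
  have h3 := image_closure_subset_closure_image pr02.continuous
    ⟨p, mem_closure_both (pullback.snd G.pU G.pU) (pullback.fst G.pU G.pU) p _ _ h₁ h₂, rfl⟩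
  refine closure_mono ?_ h3
  rintro _ ⟨q, hq, rfl⟩
  have : q ∈ Set.range m := by
    show q ∈ Set.range (pullback.map G.s G.t (pullback.snd G.pU G.pU) (pullback.fst G.pU G.pU)
      G.j G.j (𝟙 G.U) _ _)
    rw [Scheme.Pullback.range_map]
    exact hq
  obtain ⟨z, rfl⟩ := this
  exact ⟨G.c z, by rw [← Scheme.Hom.comp_apply, ← hm, Scheme.Hom.comp_apply]⟩

end Groth.Agent.S7463
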