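import Groth.Statements.S7464
import Groth.Agent.H63.GrpdBasic
import Mathlib.AlgebraicGeometry.Morphisms.QuasiFinite
-- import your own Groth.Agent.* helpers here

set_option autoImplicit false
universe u
open CategoryTheory CategoryTheory.Limits AlgebraicGeometry
open Grpd

namespace Groth.Agent.S7464
open Groth.Agent.H63.GrpdBasic

/-- Let (U, R, s, t, c) be a groupoid scheme over S with s and t finite, and let u, u' be distinct
points of U in the same orbit, say u = s(r) and u' = t(r). Then u' does not lie in the closure of u.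
(The published statement calls u, u' points of R; this row takes them to be points of U, as the
orbit condition and the proof require.) (A groupoid scheme carries U, R, s, t, c, e, i over S with
the groupoid axioms on T-points; c is defined on the fibre product of s and t and sends a pair (a,
b) with s(a) = t(b) to a composed with b.) -/
theorem result (S : Scheme.{u}) (G : Grpd.GroupoidScheme S) [IsFinite G.s] [IsFinite G.t] (r : G.R) (hne : G.s r ≠ G.t r) : ¬ (G.s r ⤳ G.t r) := by
  intro hsp
  let O : Set G.U := {v | ∃ x : G.R, G.t x = G.s r ∧ G.s x = v}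
  have hO : O.Finite := by
    have : O = ⇑G.s '' (⇑G.t ⁻¹' {G.s r}) := by
      ext v; simp [O]
    rw [this]
    exact (G.t.finite_preimage_singleton _).image _
  have hne' : O.Nonempty := by
    refine ⟨G.s r, G.e (G.s r), ?_, ?_⟩
    · rw [← Scheme.Hom.comp_apply G.e G.t, G.e_t]; rfl
    · rw [← Scheme.Hom.comp_apply G.e G.s, G.e_s]; rfl
  have step : ∀ v ∈ O, ∃ v' ∈ O, v ⤳ v' ∧ v ≠ v' := by
    rintro v ⟨x, hx, rfl⟩
    obtain ⟨x', hxx', hx'⟩ := G.t.isClosedMap.specializingMap (by rw [hx]; exact hsp : G.t x ⤳ G.t r)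
    refine ⟨G.s x', ?_, hxx'.map G.s.continuous, fun heq => ?_⟩
    · have hi1 : G.t (G.i r) = G.s r := by rw [← Scheme.Hom.comp_apply, G.i_t]
      have hi2 : G.s (G.i r) = G.t x' := by rw [← Scheme.Hom.comp_apply, G.i_s, hx']
      obtain ⟨q, hq1, hq2⟩ := exists_cmp_point G (G.i r) x' hi2
      exact ⟨q, hq1.trans hi1, hq2⟩
    · have hd := G.s.isDiscrete_preimage_singleton (G.s x)
      have hd' : DiscreteTopology ↥(⇑G.s ⁻¹' {G.s x}) := hd.to_subtype
      have h' : (⟨x, rfl⟩ : ↥(⇑G.s ⁻¹' {G.s x})) ⤳ ⟨x', heq.symm⟩ :=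
        (subtype_specializes_iff _ _).2 hxx'
      have : x = x' := congrArg Subtype.val h'.eq
      subst this
      exact hne (hx.symm.trans hx')
  obtain ⟨m, hm⟩ := (hO.image fun v => closure ({v} : Set G.U)).exists_minimal (hne'.image _)
  obtain ⟨⟨v, hv, rfl⟩, hmin⟩ := hm
  obtain ⟨v', hv', hvv', hne2⟩ := step v hv
  have h1 : closure ({v'} : Set G.U) ⊆ closure {v} := specializes_iff_closure_subset.1 hvv'
  have h2 := hmin ⟨v', hv', rfl⟩ h1
  exact hne2 (hvv'.antisymm (specializes_iff_closure_subset.2 h2)).eq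

end Groth.Agent.S7464
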