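import Groth.Statements.S7467
import Groth.Agent.Lib.Subtrusive.VCover

set_option autoImplicit false
universe w u
open HTop

namespace Groth.Agent.S7467

open CategoryTheory CategoryTheory.Limits AlgebraicGeometry in
/-- A standard fpqc covering, that is a finite family of flat morphisms T_j -> T of affine schemes whose
images jointly cover the affine scheme T, is a standard V covering (every morphism from the spectrum
of a valuation ring to T lifts to some T_j after an extension of valuation rings). -/
theorem result {T : Scheme.{u}} [IsAffine T] (E : PreZeroHypercover.{w} T) (hfin : Finite E.I₀) (haff : ∀ j, IsAffine (E.X j)) (hflat : ∀ j, Flat (E.f j)) (hsurj : ∀ t : T, ∃ (j : E.I₀) (x : E.X j), E.f j x = t) : HTop.IsStandardV E := by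
  exact Groth.Agent.Lib.Subtrusive.VCover.isStandardV_of_liftsFam E haff (Groth.Agent.Lib.Subtrusive.VCover.liftsFam_of_flat E hflat hsurj)

end Groth.Agent.S7467
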