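import Groth.Statements.S7470
import Groth.Agent.Lib.Subtrusive.VCover

set_option autoImplicit false
universe w u
open HTop

namespace Groth.Agent.S7470

open CategoryTheory CategoryTheory.Limits AlgebraicGeometry in
/-- Let E be a standard V covering of an affine scheme T and, for every member T_j of E, let F_j be a
standard V covering of T_j. Then the composite family of all T_ji -> T is a standard V covering. -/
theorem result {T : Scheme.{u}} (E : PreZeroHypercover.{w} T) (hE : HTop.IsStandardV E) (F : ∀ j, PreZeroHypercover.{w} (E.X j)) (hF : ∀ j, HTop.IsStandardV (F j)) : HTop.IsStandardV (E.bind F) := by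
  exact Groth.Agent.Lib.Subtrusive.VCover.isStandardV_bind hE hF

end Groth.Agent.S7470
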