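import Groth.Statements.S7474
import Groth.Agent.Lib.HTopSheaf.Local
import Groth.Agent.Lib.Subtrusive.VCover
import Groth.Agent.S7473

set_option autoImplicit false
universe w u
open HTop

namespace Groth.Agent.S7474

open CategoryTheory CategoryTheory.Limits AlgebraicGeometry in
/-- A presheaf F of sets on the category of all schemes has the sheaf property for every V covering
family exactly when F is a sheaf for the Zariski topology and has the sheaf property for each
standard V covering. -/
theorem result (F : Scheme.{u}ᵒᵖ ⥤ Type w) : HTop.IsVSheaf F ↔ (Presieve.IsSheaf Scheme.zariskiTopology F ∧ ∀ (T : Scheme.{u}) (E : PreZeroHypercover.{u} T), HTop.IsStandardV E → Presieve.IsSheafFor F E.presieve₀) := by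
  constructor
  · refine fun h => ⟨?_, fun T E hE => ?_⟩
    · rw [Precoverage.isSheaf_toGrothendieck_iff_of_isStableUnderBaseChange]
      intro X R hR
      obtain ⟨E, rfl⟩ := R.exists_eq_preZeroHypercover
      refine h _ ((HTop.presieve₀_mem_vPrecoverage_iff E).mpr ?_)
      exact Groth.Agent.S7473.result ⟨E, Scheme.zariskiPrecoverage_le_fpqcPrecoverage _ hR⟩
    · refine h _ ((HTop.presieve₀_mem_vPrecoverage_iff E).mpr ?_)
      refine Groth.Agent.Lib.Subtrusive.VCover.isVCover_of_exists fun U => ?_
      have : IsAffine (U.1 : Scheme.{u}) := U.2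
      exact ⟨E.pullback₁ U.1.ι,
        Groth.Agent.Lib.Subtrusive.VCover.isStandardV_pullback₁ _ hE, fun j =>
        ⟨j, pullback.snd U.1.ι (E.f j), pullback.condition.symm⟩⟩
  · rintro ⟨hzar, hV⟩ X R hR
    obtain ⟨E, hE, rfl⟩ := PreZeroHypercoverFamily.mem_precoverage_iff.mp hR
    have hpb : ∀ ⦃T T' : Scheme.{u}⦄ [IsAffine T] [IsAffine T'] (g : T' ⟶ T)
        (E : PreZeroHypercover.{0} T), HTop.IsStandardV E → HTop.IsStandardV (E.pullback₁ g) :=
      fun _ _ _ _ g _ h => Groth.Agent.Lib.Subtrusive.VCover.isStandardV_pullback₁ g h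
    refine Groth.Agent.Lib.HTopSheaf.Local.isSheafFor_of_forall_refines F hzar
      (fun T E => HTop.IsStandardV E) hpb (fun T _ E hE => ?_) E
      (fun Z _ g _ => Groth.Agent.Lib.HTopSheaf.Local.exists_refining_of_affineOpens
        (fun T E => HTop.IsStandardV E) hpb E hE g)
    let E' : PreZeroHypercover.{u} T := E.restrictIndex (fun i : ULift.{u} E.I₀ => i.down)
    have := hE.finite_index
    have hE' : HTop.IsStandardV E' := by
      refine ⟨hE.isAffine, inferInstanceAs (Finite (ULift.{u} E.I₀)),
        fun j => hE.isAffine_obj j.down, fun V _ _ g => ?_⟩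
      obtain ⟨W, iD, iV, φ, hφ, j, a, ha⟩ := hE.lift V g
      exact ⟨W, iD, iV, φ, hφ, ⟨j⟩, a, ha⟩
    have heq : E'.presieve₀ = E.presieve₀ := by
      refine le_antisymm ?_ ?_
      · rintro _ _ ⟨i⟩
        exact .mk i.down
      · rintro _ _ ⟨i⟩
        exact .mk (ULift.up.{u} i)
    have hs := hV T E' hE'
    rw [heq, Presieve.isSheafFor_iff_generate] at hs
    exact hs

end Groth.Agent.S7474
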