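import Groth.Statements.S7475
import Groth.Agent.S7474
import Groth.Agent.Lib.Subtrusive.VCover
import Mathlib.CategoryTheory.Sites.CoproductSheafCondition

set_option autoImplicit false
universe w u
open HTop

namespace Groth.Agent.S7475

open CategoryTheory CategoryTheory.Limits AlgebraicGeometry in
/-- Variant with a single arrow: a presheaf of sets on all schemes has the sheaf property for every V
covering family exactly when it is a Zariski sheaf and has the sheaf property for every morphism V
-> U of affine schemes that on its own forms a standard V covering. -/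
theorem result (F : Scheme.{u}ᵒᵖ ⥤ Type w) : HTop.IsVSheaf F ↔ (Presieve.IsSheaf Scheme.zariskiTopology F ∧ ∀ (U V : Scheme.{u}) (f : V ⟶ U), HTop.IsStandardV (PreZeroHypercover.singleton f) → Presieve.IsSheafFor F (Presieve.singleton f)) := by
  rw [Groth.Agent.S7474.result F]
  refine and_congr_right fun hzar => ⟨fun h U V f hf => ?_, fun h T E hE => ?_⟩
  · have hf' : HTop.IsStandardV (PreZeroHypercover.singleton.{u} f) := by
      refine ⟨hf.isAffine, inferInstanceAs (Finite PUnit.{u + 1}),
        fun _ => hf.isAffine_obj PUnit.unit, fun R _ _ g => ?_⟩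
      obtain ⟨W, iD, iV, φ, hφ, _, a, ha⟩ := hf.lift R g
      exact ⟨W, iD, iV, φ, hφ, PUnit.unit, a, ha⟩
    have := h U _ hf'
    rwa [PreZeroHypercover.presieve₀_singleton] at this
  · have := hE.isAffine
    have := hE.finite_index
    have := hE.isAffine_obj
    have hs : HTop.IsStandardV (PreZeroHypercover.singleton (Sigma.desc E.f)) := by
      refine ⟨inferInstance, inferInstanceAs (Finite PUnit),
        fun _ => inferInstanceAs (IsAffine (∐ E.X)), ?_⟩
      rw [Groth.Agent.Lib.Subtrusive.VCover.hasValLift_iff,
        Groth.Agent.Lib.Subtrusive.VCover.liftsFam_singleton_iff,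
        Groth.Agent.Lib.Subtrusive.VCover.hasLifts_sigmaDesc_iff,
        ← Groth.Agent.Lib.Subtrusive.VCover.hasValLift_iff]
      exact hE.lift
    have hf := h T _ _ hs
    have : PreservesLimitsOfShape (Discrete (E.I₀ × E.I₀)) F :=
      preservesLimitsOfShape_discrete_of_isSheaf_zariskiTopology hzar
    have : PreservesLimitsOfShape (Discrete E.I₀) F :=
      preservesLimitsOfShape_discrete_of_isSheaf_zariskiTopology hzar
    exact (Presieve.isSheafFor_sigmaDesc_iff E.f (coproductIsCoproduct _)
      (FinitaryExtensive.isVanKampen_finiteCoproducts (coproductIsCoproduct _)).isUniversal F).mp hf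

end Groth.Agent.S7475
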