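import Groth.Statements.S7477
import Groth.Agent.Lib.Subtrusive.VCover
import Groth.Agent.Lib.Subtrusive.Submersive

set_option autoImplicit false
universe w u
open HTop

namespace Groth.Agent.S7477

open CategoryTheory CategoryTheory.Limits AlgebraicGeometry in
/-- If {f_i : X_i -> X} is a V covering (indexed by a type in the universe of X), then the morphism from
the coproduct of the X_i to X induced by the f_i is universally submersive. -/
theorem result {X : Scheme.{u}} (E : PreZeroHypercover.{u} X) (hE : HTop.IsVCover E) : SGA1.UnivSubmersive (Sigma.desc E.f) := by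
  intro X' Y' i₁ i₂ f' h
  show Topology.IsQuotientMap f'
  have key : ∀ O : Y'.affineOpens, ∃ (P : Scheme.{u}) (p : P ⟶ (O.1 : Scheme.{u})) (q : P ⟶ X'),
      q ≫ f' = p ≫ O.1.ι ∧ Topology.IsQuotientMap p := by
    intro O
    have : IsAffine (O.1 : Scheme.{u}) := O.2
    obtain ⟨F, hF, hr⟩ := Groth.Agent.Lib.Subtrusive.VCover.exists_standard_refining hE (O.1.ι ≫ i₂)
    choose i k hk using hr
    have := hF.finite_index
    have := hF.isAffine_obj
    have hq : QuasiCompact (Sigma.desc F.f) := inferInstance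
    refine ⟨∐ F.X, Sigma.desc F.f, h.lift (Sigma.desc F.f ≫ O.1.ι)
      (Sigma.desc fun j => k j ≫ Sigma.ι E.X (i j)) ?_, h.lift_fst _ _ _, ?_⟩
    · refine Sigma.hom_ext _ _ fun j => ?_
      simp only [Sigma.ι_desc_assoc, Category.assoc, Sigma.ι_desc]
      exact (hk j).symm
    · exact Groth.Agent.Lib.Subtrusive.Submersive.isQuotientMap_of_isSSubtrusive _
        (Groth.Agent.Lib.Subtrusive.Criterion.isSSubtrusive_of_univ (Groth.Agent.Lib.Subtrusive.Criterion.univSSubtrusive_of_hasLifts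
          ((Groth.Agent.Lib.Subtrusive.VCover.hasLifts_sigmaDesc_iff F).mpr ((Groth.Agent.Lib.Subtrusive.VCover.hasValLift_iff F).mp hF.lift))))
  have hmem : ∀ y : Y', ∃ O : Y'.affineOpens, y ∈ O.1 := fun y => by
    obtain ⟨O, hO, hy, -⟩ := exists_isAffineOpen_mem_and_subset (x := y) (U := ⊤) trivial
    exact ⟨⟨O, hO⟩, hy⟩
  rw [Topology.isQuotientMap_iff]
  refine ⟨.of_isOpen_preimage_iff_isOpen fun W =>
    ⟨fun hW => ?_, fun hW => hW.preimage f'.continuous⟩, fun y => ?_⟩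
  · rw [isOpen_iff_forall_mem_open]
    intro y hy
    obtain ⟨O, hyO⟩ := hmem y
    obtain ⟨P, p, q, hqp, hp⟩ := key O
    have he : p ⁻¹' (O.1.ι ⁻¹' W) = q ⁻¹' (f' ⁻¹' W) := by
      ext z
      show O.1.ι (p z) ∈ W ↔ f' (q z) ∈ W
      rw [← Scheme.Hom.comp_apply, ← Scheme.Hom.comp_apply, hqp]
    have ho : IsOpen (O.1.ι ⁻¹' W) := by
      rw [← hp.isOpen_preimage, he]
      exact hW.preimage q.continuous
    exact ⟨O.1.ι '' (O.1.ι ⁻¹' W), Set.image_preimage_subset _ _,
      O.1.ι.isOpenEmbedding.isOpenMap _ ho, ⟨y, hyO⟩, hy, rfl⟩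
  · obtain ⟨O, hyO⟩ := hmem y
    obtain ⟨P, p, q, hqp, hp⟩ := key O
    obtain ⟨z, hz⟩ := hp.surjective ⟨y, hyO⟩
    exact ⟨q z, by rw [← Scheme.Hom.comp_apply, hqp, Scheme.Hom.comp_apply, hz]; rfl⟩

end Groth.Agent.S7477
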