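import Groth.Statements.S7479
import Groth.Agent.Lib.HTopSheaf.Ph

set_option autoImplicit false
universe w u
open HTop

namespace Groth.Agent.S7479

open CategoryTheory CategoryTheory.Limits AlgebraicGeometry in
/-- Let T be an affine scheme. (1) For every open covering of T there is a standard ph covering of T
that refines it. (2) If E is a standard ph covering of T and, for each member U_j of E, F_j is a
standard ph covering of U_j, then some standard ph covering of T refines the composite family of all
W_ji -> T. -/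
theorem result {T : Scheme.{u}} [IsAffine T] : (∀ 𝒰 : T.OpenCover, ∃ F : PreZeroHypercover.{0} T, HTop.IsStandardPh F ∧ Nonempty (F.Hom 𝒰.toPreZeroHypercover)) ∧ (∀ (E : PreZeroHypercover.{w} T), HTop.IsStandardPh E → ∀ F : ∀ j, PreZeroHypercover.{w} (E.X j), (∀ j, HTop.IsStandardPh (F j)) → ∃ F' : PreZeroHypercover.{0} T, HTop.IsStandardPh F' ∧ Nonempty (F'.Hom (E.bind F))) := by
  constructor
  · intro 𝒰
    obtain ⟨F, hF, hr⟩ := Groth.Agent.Lib.HTopSheaf.Ph.exists_standard_openCover (𝟙 T)
      𝒰.toPreZeroHypercover fun x => by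
        obtain ⟨i, y, hy⟩ := 𝒰.exists_eq x
        exact ⟨(𝒰.f i).opensRange, ⟨y, hy⟩, i, (𝒰.f i).isoOpensRange.inv, by
          simp [Scheme.Hom.isoOpensRange_inv_comp]⟩
    choose s h hh using hr
    exact ⟨F, hF, ⟨{ s₀ := s, h₀ := h, w₀ := fun i => (hh i).trans (Category.comp_id _) }⟩⟩
  · intro E hE F hF
    obtain ⟨F', hF', hr⟩ := Groth.Agent.Lib.HTopSheaf.Ph.exists_standard_bind hE F hF
    choose s h hh using hr
    exact ⟨F', hF', ⟨{ s₀ := s, h₀ := h, w₀ := fun i => (hh i).trans (Category.comp_id _) }⟩⟩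

end Groth.Agent.S7479
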