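import Groth.Statements.S7481
import Groth.Agent.Lib.HTopSheaf.Ph

set_option autoImplicit false
universe w u
open HTop

namespace Groth.Agent.S7481

open CategoryTheory CategoryTheory.Limits AlgebraicGeometry in
/-- Let E be a ph covering of a scheme T and, for every member T_i of E, let F_i be a ph covering of
T_i. Then the composite family of all T_ij -> T is a ph covering of T. -/
theorem result {T : Scheme.{u}} (E : PreZeroHypercover.{w} T) (hE : HTop.IsPhCover E) (F : ∀ i, PreZeroHypercover.{w} (E.X i)) (hF : ∀ i, HTop.IsPhCover (F i)) : HTop.IsPhCover (E.bind F) := by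
  exact Groth.Agent.Lib.HTopSheaf.Ph.isPhCover_bind hE hF

end Groth.Agent.S7481
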