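import Groth.Statements.S7490
import Groth.Agent.Lib.AlgSpace.Local

set_option autoImplicit false
open CategoryTheory CategoryTheory.Limits AlgebraicGeometry
universe u
open QuotSh

namespace Groth.Agent.S7490

/-- Let K be a precoverage on schemes (the topology τ), S a scheme, s, t : R -> U morphisms of schemes
over S (a pre-relation) and q : U -> M a morphism over S such that (1) q coequalizes s and t, (2)
the induced map of τ-sheaves h_U -> h_M is an epimorphism, and (3) the map h_R -> h_(U x_M U)
induced by (t, s) is an epimorphism of τ-sheaves. Then M, through q, represents the quotient sheaf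
U/R: the canonical map from the coequalizer of h_s, h_t to h_M is an isomorphism. (The published
statement takes τ to be the Zariski, étale, fppf, smooth or syntomic topology; this row allows the
topology generated by any precoverage K.) -/
theorem result (K : Precoverage Scheme.{u}) {S : Scheme.{u}} {R U M : Over S} (s t : R ⟶ U) (q : U ⟶ M) (w : s ≫ q = t ≫ q) (w' : t.left ≫ q.left = s.left ≫ q.left) (h₂ : Epi (QuotSh.repMap K q)) (h₃ : Epi (QuotSh.repMap K (Over.homMk (pullback.lift t.left s.left w') (((Category.assoc _ _ _).symm.trans (congrArg (fun k => k ≫ U.hom) (pullback.lift_fst t.left s.left w'))).trans (Over.w t)) : R ⟶ Over.mk (pullback.fst q.left q.left ≫ U.hom)))) : QuotSh.IsQuotient K s t q := by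
  let F : Over S ⥤ QuotSh.Sh K S :=
    (yoneda ⋙ (Functor.whiskeringRight _ _ _).obj uliftFunctor.{u + 1, u}) ⋙
      presheafToSheaf (QuotSh.J K S) (Type (u + 1))
  let P : Over S := Over.mk (pullback.fst q.left q.left ≫ U.hom)
  let p₁ : P ⟶ U := Over.homMk (pullback.fst q.left q.left) rfl
  let p₂ : P ⟶ U := Over.homMk (pullback.snd q.left q.left) (by
    show pullback.snd q.left q.left ≫ U.hom = pullback.fst q.left q.left ≫ U.hom
    rw [← Over.w q, pullback.condition_assoc])
  have sq : IsPullback p₁ p₂ q q := IsPullback.of_map (Over.forget S)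
    (Over.OverMorphism.ext pullback.condition) (IsPullback.of_hasPullback q.left q.left)
  let l : R ⟶ P := Over.homMk (pullback.lift t.left s.left w') (by
    show pullback.lift t.left s.left w' ≫ pullback.fst q.left q.left ≫ U.hom = R.hom
    rw [pullback.lift_fst_assoc]
    exact Over.w t)
  have hl₁ : l ≫ p₁ = t := Over.OverMorphism.ext (pullback.lift_fst _ _ _)
  have hl₂ : l ≫ p₂ = s := Over.OverMorphism.ext (pullback.lift_snd _ _ _)
  have sqF : IsPullback (F.map p₁) (F.map p₂) (F.map q) (F.map q) := sq.map F
  haveI : Epi (F.map q) := h₂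
  haveI : Epi (F.map l) := h₃
  haveI : IsRegularEpi (F.map q) := IsRegularEpiCategory.regularEpiOfEpi _
  have hc : IsColimit (Cofork.ofπ (F.map q) sqF.w) :=
    isColimitCoforkOfEffectiveEpi (F.map q) sqF.cone sqF.isLimit
  refine ⟨w, ?_⟩
  have hπ : QuotSh.quotπ K s t ≫ QuotSh.quotDesc K q w = F.map q := coequalizer.π_desc _ _
  have hw : F.map p₁ ≫ QuotSh.quotπ K s t = F.map p₂ ≫ QuotSh.quotπ K s t := by
    rw [← cancel_epi (F.map l), ← Functor.map_comp_assoc, ← Functor.map_comp_assoc, hl₁, hl₂]
    exact (QuotSh.quot_condition K s t).symm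
  let inv := Cofork.IsColimit.desc hc (QuotSh.quotπ K s t) hw
  have hinv : F.map q ≫ inv = QuotSh.quotπ K s t := Cofork.IsColimit.π_desc' hc _ hw
  haveI : Epi (QuotSh.quotπ K s t) := coequalizer.π_epi
  refine ⟨⟨inv, ?_, ?_⟩⟩
  · rw [← cancel_epi (QuotSh.quotπ K s t), reassoc_of% hπ, hinv]
    exact (Category.comp_id _).symm
  · rw [← cancel_epi (F.map q), reassoc_of% hinv, hπ]
    exact (Category.comp_id _).symm

end Groth.Agent.S7490
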