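import Groth.Statements.S7493
import Groth.Agent.H63.BigClosed
import Groth.Agent.H63.GrpdRestrict
import Groth.Agent.H63.GrpdBasic
-- import your own Groth.Agent.* helpers here

set_option autoImplicit false
universe u
open CategoryTheory CategoryTheory.Limits AlgebraicGeometry
open Grpd

namespace Groth.Agent.S7493
open Groth.Agent.H63.GrpdBasic
open Groth.Agent.H63.GrpdRestrict
open Groth.Agent.H63.BigClosed

/-- Let (U, R, s, t, c) be a groupoid scheme over S with U = Spec k for a field k, and let r be a point
of R. Then there exist a field extension k -> k' with k' algebraically closed and a point r' of the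
restriction R' of R along g : U' = Spec k' -> U, that is R' = (U' x_(g,U,t) R) x_(s pr, U, g) U'
with t' the projection to the first factor U' and s' the projection to the last factor U', such that
r' maps to r under R' -> R and both s' and t' induce isomorphisms on residue fields at r' (k' ->
κ(r') bijective). (A groupoid scheme carries U, R, s, t, c, e, i over S with the groupoid axioms on
T-points; c is defined on the fibre product of s and t and sends a pair (a, b) with s(a) = t(b) to a
composed with b.) -/
theorem result (S : Scheme.{u}) (G : Grpd.GroupoidScheme S) (k : Type u) [Field k] (eU : G.U ≅ Spec (CommRingCat.of k)) (r : G.R) : ∃ (k' : Type u) (_ : Field k') (_ : IsAlgClosed k') (_ : Algebra k k'), ∃ r' : ↑(pullback (pullback.snd (Spec.map (CommRingCat.ofHom (algebraMap k k')) ≫ eU.inv) G.t ≫ G.s) (Spec.map (CommRingCat.ofHom (algebraMap k k')) ≫ eU.inv)), (pullback.fst (pullback.snd (Spec.map (CommRingCat.ofHom (algebraMap k k')) ≫ eU.inv) G.t ≫ G.s) (Spec.map (CommRingCat.ofHom (algebraMap k k')) ≫ eU.inv) ≫ pullback.snd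 (Spec.map (CommRingCat.ofHom (algebraMap k k')) ≫ eU.inv) G.t) r' = r ∧ IsIso ((pullback.snd (pullback.snd (Spec.map (CommRingCat.ofHom (algebraMap k k')) ≫ eU.inv) G.t ≫ G.s) (Spec.map (CommRingCat.ofHom (algebraMap k k')) ≫ eU.inv)).residueFieldMap r') ∧ IsIso ((pullback.fst (pullback.snd (Spec.map (CommRingCat.ofHom (algebraMap k k')) ≫ eU.inv) G.t ≫ G.s) (Spec.map (CommRingCat.ofHom (algebraMap k k')) ≫ eU.inv) ≫ pullback.fst (Spec.map (CommRingCat.ofHom (algebraMap k k')) ≫ eU.inv) G.t).residueFieldMap r') := by
  open CategoryTheory.Limits in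
    have := subsingleton_of_iso_spec k eU
    let κ : Type u := ↑(G.R.residueField r)
    let ρ : Spec (CommRingCat.of κ) ⟶ G.R := G.R.fromSpecResidueField r
    let σ : CommRingCat.of k ⟶ CommRingCat.of κ := Spec.preimage (ρ ≫ G.s ≫ eU.hom)
    let τ : CommRingCat.of k ⟶ CommRingCat.of κ := Spec.preimage (ρ ≫ G.t ≫ eU.hom)
    have hσ : Spec.map σ = ρ ≫ G.s ≫ eU.hom := Spec.map_preimage _
    have hτ : Spec.map τ = ρ ≫ G.t ≫ eU.hom := Spec.map_preimage _
    obtain ⟨φ, hφ⟩ := exists_auto σ.hom τ.hom
    let incl : CommRingCat.of κ ⟶ CommRingCat.of (Big κ) := CommRingCat.ofHom (algebraMap κ (Big κ))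
    letI alg : Algebra k (Big κ) := ((algebraMap κ (Big κ)).comp σ.hom).toAlgebra
    refine ⟨Big κ, inferInstance, inferInstance, alg, ?_⟩
    let f : Spec (CommRingCat.of (Big κ)) ⟶ G.U :=
      Spec.map (CommRingCat.ofHom (algebraMap k (Big κ))) ≫ eU.inv
    let β : Spec (CommRingCat.of (Big κ)) ⟶ G.R := Spec.map incl ≫ ρ
    let a : Spec (CommRingCat.of (Big κ)) ⟶ Spec (CommRingCat.of (Big κ)) :=
      Spec.map (CommRingCat.ofHom φ.toRingHom)
    have hs : β ≫ G.s = 𝟙 _ ≫ f := by
      rw [Category.id_comp, ← cancel_mono eU.hom]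
      simp only [β, f, Category.assoc, ← hσ]
      simp only [Iso.inv_hom_id, Category.comp_id, ← Spec.map_comp]
      congr 1
    have ht : a ≫ f = β ≫ G.t := by
      rw [← cancel_mono eU.hom]
      simp only [β, f, Category.assoc, ← hτ]
      simp only [a, Iso.inv_hom_id, Category.comp_id, ← Spec.map_comp]
      refine congrArg Spec.map (CommRingCat.hom_ext (RingHom.ext fun x => ?_))
      exact hφ x
    let q : Spec (CommRingCat.of (Big κ)) ⟶ RR G f := mk G f a β (𝟙 _) ht hs
    have key : ∀ (π : RR G f ⟶ Spec (CommRingCat.of (Big κ))), IsIso (q ≫ π) →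
        IsIso (π.residueFieldMap (q (IsLocalRing.closedPoint (Big κ)))) := by
      intro π hπ
      rw [ConcreteCategory.isIso_iff_bijective]
      refine ⟨(π.residueFieldMap _).hom.injective, ?_⟩
      have h := Scheme.residueFieldMap_comp q π (IsLocalRing.closedPoint (Big κ))
      have : IsIso ((q ≫ π).residueFieldMap (IsLocalRing.closedPoint (Big κ))) := inferInstance
      intro y
      obtain ⟨x, hx⟩ := (ConcreteCategory.bijective_of_isIso
        ((q ≫ π).residueFieldMap (IsLocalRing.closedPoint (Big κ)))).2 (q.residueFieldMap _ y)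
      rw [h] at hx
      exact ⟨_, (q.residueFieldMap _).hom.injective hx⟩
    refine ⟨q (IsLocalRing.closedPoint (Big κ)), ?_, ?_, ?_⟩
    · show (pr G f) (q _) = r
      rw [← Scheme.Hom.comp_apply, mk_pr]
      exact Scheme.fromSpecResidueField_apply r _
    · refine key (ss G f) ?_
      rw [mk_ss]; infer_instance
    · refine key (tt G f) ?_
      rw [mk_tt]
      have : IsIso (CommRingCat.ofHom φ.toRingHom) := φ.toCommRingCatIso.isIso_hom
      infer_instance

end Groth.Agent.S7493
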