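import Groth.Statements.S7494
import Groth.Agent.Lib.GrpSch.Basic

set_option autoImplicit false
universe u
open CategoryTheory MonoidalCategory CartesianMonoidalCategory MonObj GrpObj AlgebraicGeometry
open AlgGrp

namespace Groth.Agent.S7494

/-- Let G be a group scheme over S acting on a scheme X over S by a. The action is free, meaning that
for every scheme T over S and all T-points g of G and x of X with g · x = x one has g = 1, if and
only if the morphism G x_S X -> X x_S X, (g, x) ↦ (a(g, x), x), is a monomorphism of schemes. -/
theorem result {S : Scheme.{u}} (G X : Over S) [GrpObj G] (a : AlgGrp.Action G X) : (∀ (T : Over S) (g : T ⟶ G) (x : T ⟶ X), lift g x ≫ a.act = x → g = toUnit T ≫ η[G]) ↔ Mono (lift a.act (snd G X)).left := by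
  constructor
  · intro hfree
    have : Mono (lift a.act (snd G X)) := by
      constructor
      intro T f g hfg
      have h1 : f ≫ snd G X = g ≫ snd G X := by simpa using congr($hfg ≫ snd X X)
      have h2 : f ≫ a.act = g ≫ a.act := by simpa using congr($hfg ≫ fst X X)
      rw [← lift_comp_fst_snd f, ← lift_comp_fst_snd g] at h2 ⊢
      rw [h1] at h2 ⊢
      have h3 : lift ((g ≫ fst G X)⁻¹ * (f ≫ fst G X)) (g ≫ snd G X) ≫ a.act = g ≫ snd G X := by
        rw [Groth.Agent.Lib.GrpSch.act_mul, h2, Groth.Agent.Lib.GrpSch.act_inv_act]
      have h4 := hfree T _ _ h3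
      rw [← Hom.one_def, inv_mul_eq_one] at h4
      rw [h4]
    infer_instance
  · intro hm T g x hgx
    have : Mono (lift a.act (snd G X)) := Over.mono_of_mono_left _
    have : lift g x = lift (toUnit T ≫ η[G]) x := by
      rw [← cancel_mono (lift a.act (snd G X))]
      apply CartesianMonoidalCategory.hom_ext <;> simp [hgx]
    simpa using congr($this ≫ fst G X)

end Groth.Agent.S7494
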