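import Groth.Statements.S7496
import Mathlib.AlgebraicGeometry.Cover.QuasiCompact
import Mathlib.AlgebraicGeometry.Morphisms.QuasiSeparated

set_option autoImplicit false
universe w u
open CategoryTheory CategoryTheory.Limits AlgebraicGeometry
open HTop

namespace Groth.Agent.S7496

/-- Let T be a quasi-separated scheme and {f_i : T_i -> T} a family of morphisms. Then every affine open
of T is the union of the images of finitely many quasi-compact opens of the T_i (the
quasi-compactness condition in the definition of an fpqc covering) if and only if for every point t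
of T there are finitely many quasi-compact opens U_j of members T_(i_j) such that the union of the
f_(i_j)(U_j) is a neighbourhood of t. (The published statement also asks every f_i to be flat, on
both sides, and lists two more equivalent forms of the quasi-compactness condition; this row omits
flatness, which plays no part in the equivalence, and states only the equivalence of the
quasi-compactness condition with the neighbourhood condition.) -/
theorem result {T : Scheme.{u}} [QuasiSeparatedSpace T] (E : PreZeroHypercover.{w} T) : QuasiCompactCover E ↔ ∀ t : T, ∃ (n : ℕ) (i : Fin n → E.I₀) (V : ∀ j, (E.X (i j)).Opens), (∀ j, IsCompact (V j : Set (E.X (i j)))) ∧ (⋃ j, ⇑(E.f (i j)) '' (V j : Set (E.X (i j)))) ∈ nhds t := by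
  refine ⟨fun h t => ?_, fun h => ⟨fun {U} hU => ?_⟩⟩
  · obtain ⟨O, hO, htO, -⟩ := exists_isAffineOpen_mem_and_subset (x := t) (U := ⊤) trivial
    obtain ⟨n, i, V, hV, hc⟩ := QuasiCompactCover.exists_isAffineOpen_of_isCompact E hO.isCompact
    exact ⟨n, i, V, fun j => (hV j).isCompact, by rw [hc]; exact O.2.mem_nhds htO⟩
  · refine .of_isCompact_of_forall_exists_isCompactOpenCovered hU.isCompact fun x hx => ?_
    obtain ⟨n, i, V, hV, hn⟩ := h x
    obtain ⟨O, hOn, hO, hxO⟩ := mem_nhds_iff.mp hn
    obtain ⟨W, hW, hxW, hle⟩ := exists_isAffineOpen_mem_and_subset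
      (x := x) (U := U ⊓ ⟨O, hO⟩) ⟨hx, hxO⟩
    refine ⟨W, fun y hy => (hle hy).1, hxW, W.2,
      .of_finite i (fun j => V j ⊓ E.f (i j) ⁻¹ᵁ W) (fun j => ?_) ?_⟩
    · have : CompactSpace (V j : Scheme.{u}) := isCompact_iff_compactSpace.mp (hV j)
      have : QuasiCompact ((V j).ι ≫ E.f (i j)) := quasiCompact_of_compactSpace _
      have := (((V j).ι ≫ E.f (i j)).isCompact_preimage hW.isCompact).image (V j).ι.continuous
      convert this using 1
      ext y
      refine ⟨fun hy => ⟨⟨y, hy.1⟩, hy.2, rfl⟩, ?_⟩
      rintro ⟨z, hz, rfl⟩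
      exact ⟨z.2, hz⟩
    · refine Set.Subset.antisymm (Set.iUnion_subset fun j => ?_) fun y hy => ?_
      · rintro _ ⟨z, hz, rfl⟩
        exact hz.2
      · obtain ⟨j, z, hz, rfl⟩ := Set.mem_iUnion.mp (hOn (hle hy).2)
        exact Set.mem_iUnion.mpr ⟨j, z, ⟨hz, hy⟩, rfl⟩

end Groth.Agent.S7496
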