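import Groth.Statements.S7497
import Mathlib.AlgebraicGeometry.Sites.Fpqc

set_option autoImplicit false
universe u
open CategoryTheory CategoryTheory.Limits AlgebraicGeometry
open HTop

namespace Groth.Agent.S7497

/-- Let {f_i : T_i -> T} be a family of flat morphisms of schemes and {g_j : S_j -> T} an fpqc covering
such that for every j the family of base changes {S_j x_T T_i -> S_j} is an fpqc covering. Then {f_i
: T_i -> T} is an fpqc covering. (fpqc coverings are Mathlib's: flat, jointly surjective, every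
affine open of the target covered by images of finitely many quasi-compact opens.) -/
theorem result {T : Scheme.{u}} (E : PreZeroHypercover.{u} T) (hflat : ∀ i, Flat (E.f i)) (𝒱 : Scheme.Cover Scheme.fpqcPrecoverage T) (hloc : ∀ j, (E.pullback₁ (𝒱.f j)).presieve₀ ∈ Scheme.fpqcPrecoverage (𝒱.X j)) : E.presieve₀ ∈ Scheme.fpqcPrecoverage T := by
  have h𝒱 : QuasiCompactCover 𝒱.toPreZeroHypercover :=
    Scheme.presieve₀_mem_qcPrecoverage_iff.mp 𝒱.mem₀.1
  let 𝒱' := QuasiCompactCover.ulift 𝒱.toPreZeroHypercover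
  have hj : ∀ j, QuasiCompactCover (E.pullback₁ (𝒱'.f j)) := fun j =>
    Scheme.presieve₀_mem_qcPrecoverage_iff.mp (hloc _).1
  have : QuasiCompactCover (𝒱'.bind fun j => E.pullback₁ (𝒱'.f j)) := inferInstance
  refine ⟨Scheme.presieve₀_mem_qcPrecoverage_iff.mpr (QuasiCompactCover.of_hom
    (𝒱 := 𝒱'.bind fun j => E.pullback₁ (𝒱'.f j))
    { s₀ := fun p => p.2, h₀ := fun p => pullback.snd _ _, w₀ := fun p => ?_ }),
    (Scheme.presieve₀_mem_precoverage_iff _).mpr ⟨fun t => ?_, hflat⟩⟩
  · exact pullback.condition.symm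
  · obtain ⟨j, y, rfl⟩ := ((Scheme.presieve₀_mem_precoverage_iff _).mp 𝒱.mem₀.2).1 t
    obtain ⟨i, z, rfl⟩ := ((Scheme.presieve₀_mem_precoverage_iff _).mp (hloc j).2).1 y
    refine ⟨i, pullback.snd (𝒱.f j) (E.f i) z, ?_⟩
    exact ((Scheme.Hom.comp_apply (pullback.snd (𝒱.f j) (E.f i)) (E.f i) z).symm.trans
      (by rw [← pullback.condition]; rfl)).trans (Scheme.Hom.comp_apply _ _ _)

end Groth.Agent.S7497
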