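import Groth.Statements.S7498
import Groth.Agent.H63.GrpdBasic
-- import your own Groth.Agent.* helpers here

set_option autoImplicit false
universe u
open CategoryTheory CategoryTheory.Limits AlgebraicGeometry
open Grpd

namespace Groth.Agent.S7498
open Groth.Agent.H63.GrpdBasic

/-- Let (U, R, s, t, c) be a groupoid scheme over S and r, r' points of R with t(r) = t(r'); put u =
s(r), u' = s(r') and let F_u, F_u' be the scheme-theoretic fibres of s. Then there are a field k
which is a common extension of κ(u) and κ(u') (morphisms a, b : Spec k -> U with images u, u') and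
an isomorphism of the base changes (F_u)_k and (F_u')_k over Spec k, which moreover can be chosen to
send some point lying over r to a point lying over r'. (The published statement also compares the
germs of s at r and at r' when s and t are flat or flat of finite presentation; this row omits
that.) (A groupoid scheme carries U, R, s, t, c, e, i over S with the groupoid axioms on T-points; c
is defined on the fibre product of s and t and sends a pair (a, b) with s(a) = t(b) to a composed
with b.) -/
theorem result (S : Scheme.{u}) (G : Grpd.GroupoidScheme S) (r r' : G.R) (h : G.t r = G.t r') : ∃ (k : Type u) (_ : Field k) (a b : Spec (CommRingCat.of k) ⟶ G.U) (φ : pullback G.s a ≅ pullback G.s b) (p : ↑(pullback G.s a)), a (IsLocalRing.closedPoint k) = G.s r ∧ b (IsLocalRing.closedPoint k) = G.s r' ∧ φ.hom ≫ pullback.snd G.s b = pullback.snd G.s a ∧ pullback.fst G.s a p = r ∧ pullback.fst G.s b (φ.hom p) = r' := by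
  obtain ⟨z, hz1, hz2⟩ := Scheme.Pullback.exists_preimage_pullback r r' h
  obtain ⟨k, hk, ρ, ρ', hρ, pt, hρr, hρr'⟩ :
      ∃ (k : Type u) (_ : Field k) (ρ ρ' : Spec (CommRingCat.of k) ⟶ G.R) (_ : ρ ≫ G.t = ρ' ≫ G.t)
        (pt : ↑(Spec (CommRingCat.of k))), ρ pt = r ∧ ρ' pt = r' := by
    let x := (pullback G.t G.t).fromSpecResidueField z
    refine ⟨(pullback G.t G.t).residueField z, inferInstance, x ≫ pullback.fst G.t G.t,
      x ≫ pullback.snd G.t G.t, by rw [Category.assoc, Category.assoc, pullback.condition],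
      IsLocalRing.closedPoint _, ?_, ?_⟩
    · exact (congrArg (pullback.fst G.t G.t) (Scheme.fromSpecResidueField_apply z _)).trans hz1
    · exact (congrArg (pullback.snd G.t G.t) (Scheme.fromSpecResidueField_apply z _)).trans hz2
  let δ := cmp G (ρ ≫ G.i) ρ' (by rw [Category.assoc, G.i_s, hρ])
  have hδt : δ ≫ G.t = ρ ≫ G.s := by simp [δ, G.i_t]
  have hδs : δ ≫ G.s = ρ' ≫ G.s := by simp [δ]
  let fw : pullback G.s (ρ ≫ G.s) ⟶ pullback G.s (ρ' ≫ G.s) :=
    pullback.lift (cmp G (pullback.fst _ _) (pullback.snd G.s (ρ ≫ G.s) ≫ δ)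
      (by rw [Category.assoc, hδt, pullback.condition]))
      (pullback.snd _ _) (by rw [cmp_s, Category.assoc, hδs])
  let bw : pullback G.s (ρ' ≫ G.s) ⟶ pullback G.s (ρ ≫ G.s) :=
    pullback.lift (cmp G (pullback.fst _ _) (pullback.snd G.s (ρ' ≫ G.s) ≫ δ ≫ G.i)
      (by simp [G.i_t, hδs, pullback.condition]))
      (pullback.snd _ _) (by simp [G.i_s, hδt])
  have h1 : fw ≫ bw = 𝟙 _ := by
    apply pullback.hom_ext
    · rw [Category.assoc, pullback.lift_fst, comp_cmp, Category.id_comp]
      rw [cmp_congr G (pullback.lift_fst _ _ _) (by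
        rw [← Category.assoc, pullback.lift_snd, Category.assoc] :
        fw ≫ pullback.snd G.s (ρ' ≫ G.s) ≫ δ ≫ G.i = (pullback.snd G.s (ρ ≫ G.s) ≫ δ) ≫ G.i) _
        (by simp [G.i_t])]
      exact cmp_cancel_right G _ _ _
    · rw [Category.assoc, pullback.lift_snd, pullback.lift_snd, Category.id_comp]
  have h2 : bw ≫ fw = 𝟙 _ := by
    apply pullback.hom_ext
    · rw [Category.assoc, pullback.lift_fst, comp_cmp, Category.id_comp]
      rw [cmp_congr G (pullback.lift_fst _ _ _) (pullback.lift_snd_assoc _ _ _ δ) _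
        (by simp [G.i_s])]
      rw [cmp_congr G (cmp_congr G rfl (Category.assoc _ _ _).symm _
        (by simp [G.i_t, hδs, pullback.condition])) rfl _ (by simp [G.i_s])]
      exact cmp_inv_cancel_right G _ _ (by rw [Category.assoc, hδs, pullback.condition])
    · rw [Category.assoc, pullback.lift_snd, pullback.lift_snd, Category.id_comp]
  let e : pullback G.s (ρ ≫ G.s) ≅ pullback G.s (ρ' ≫ G.s) := ⟨fw, bw, h1, h2⟩
  let σ : Spec (CommRingCat.of k) ⟶ pullback G.s (ρ ≫ G.s) :=
    pullback.lift ρ (𝟙 _) (Category.id_comp _).symm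
  have hσ1 : σ ≫ pullback.fst G.s (ρ ≫ G.s) = ρ := pullback.lift_fst _ _ _
  have hσ2 : σ ≫ fw ≫ pullback.fst G.s (ρ' ≫ G.s) = ρ' := by
    rw [pullback.lift_fst, comp_cmp,
      cmp_congr G hσ1 (by rw [← Category.assoc, pullback.lift_snd, Category.id_comp] :
        σ ≫ pullback.snd G.s (ρ ≫ G.s) ≫ δ = δ) _ hδt.symm]
    exact cmp_inv_cancel_left G ρ ρ' hρ
  have hpt : pt = IsLocalRing.closedPoint k := Subsingleton.elim (α := PrimeSpectrum k) _ _
  refine ⟨k, hk, ρ ≫ G.s, ρ' ≫ G.s, e, σ pt, ?_, ?_,
    pullback.lift_snd _ _ _, ?_, ?_⟩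
  · rw [← hρr, hpt]; rfl
  · rw [← hρr', hpt]; rfl
  · rw [← Scheme.Hom.comp_apply, hσ1, hρr]
  · show pullback.fst G.s (ρ' ≫ G.s) (fw (σ pt)) = r'
    rw [← Scheme.Hom.comp_apply, ← Scheme.Hom.comp_apply, hσ2, hρr']

end Groth.Agent.S7498
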