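import Groth.Statements.S7499
import Groth.Agent.S0593


set_option autoImplicit false
set_option maxHeartbeats 1000000
set_option linter.all false
universe u
open CategoryTheory CategoryTheory.Limits AlgebraicGeometry
open Grpd

namespace Groth.Agent.S7499

/-- Let (U, R, s, t, c) be a groupoid scheme over S with s and t integral, and g : U' -> U an integral
morphism such that every R-orbit of U meets the image of g. Let R' = (U' x_(g,U,t) R) x_(s pr, U, g)
U' be the restriction of R to U', with t' the projection to the first factor U' and s' the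
projection to the last. If u' is a point of U' contained in an affine open W' of U' with t'^{-1}(W')
= s'^{-1}(W'), then g(u') is contained in an affine open W of U with s^{-1}(W) = t^{-1}(W). (A
groupoid scheme carries U, R, s, t, c, e, i over S with the groupoid axioms on T-points; c is
defined on the fibre product of s and t and sends a pair (a, b) with s(a) = t(b) to a composed with
b.) -/
theorem result (S : Scheme.{u}) (G : Grpd.GroupoidScheme S) [IsIntegralHom G.s] [IsIntegralHom G.t] (U' : Scheme.{u}) (g : U' ⟶ G.U) [IsIntegralHom g] (horb : ∀ u : G.U, ∃ r : G.R, G.s r = u ∧ G.t r ∈ Set.range ⇑g) (u' : U') (W' : U'.Opens) (hW' : IsAffineOpen W') (hu' : u' ∈ W') (hinv : (pullback.fst (pullback.snd g G.t ≫ G.s) g ≫ pullback.fst g G.t) ⁻¹ᵁ W' = (pullback.snd (pullback.snd g G.t ≫ G.s) g) ⁻¹ᵁ W') : ∃ W : G.U.Opens, IsAffineOpen W ∧ g u' ∈ W ∧ G.s ⁻¹ᵁ W = G.t ⁻¹ᵁ W := by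
  classical
  let Rel : G.U → G.U → Prop := fun a b => ∃ r : G.R, G.t r = a ∧ G.s r = b
  have hsymm : ∀ a b, Rel a b → Rel b a := fun a b ⟨r, h1, h2⟩ => ⟨G.i r,
    by rw [← Scheme.Hom.comp_apply, G.i_t, h2], by rw [← Scheme.Hom.comp_apply, G.i_s, h1]⟩
  have htrans : ∀ a b c, Rel a b → Rel b c → Rel a c := by
    rintro a b c ⟨r₁, h1, h2⟩ ⟨r₂, h3, h4⟩
    obtain ⟨p, hp1, hp2⟩ := Scheme.Pullback.exists_preimage_pullback r₁ r₂ (h2.trans h3.symm)
    have hl : pullback.lift (pullback.fst G.s G.t) (pullback.snd G.s G.t) pullback.condition = 𝟙 _ := by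
      apply pullback.hom_ext <;> simp
    have hs := G.comp_s (pullback.fst G.s G.t) (pullback.snd G.s G.t) pullback.condition
    have ht := G.comp_t (pullback.fst G.s G.t) (pullback.snd G.s G.t) pullback.condition
    rw [hl, Category.id_comp] at hs ht
    refine ⟨G.c p, ?_, ?_⟩
    · rw [← Scheme.Hom.comp_apply, ht, Scheme.Hom.comp_apply, hp1, h1]
    · rw [← Scheme.Hom.comp_apply, hs, Scheme.Hom.comp_apply, hp2, h4]
  have hinvW : ∀ a b : U', Rel (g a) (g b) → (a ∈ W' ↔ b ∈ W') := by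
    rintro a b ⟨r, h1, h2⟩
    obtain ⟨q, hq1, hq2⟩ := Scheme.Pullback.exists_preimage_pullback (f := g) (g := G.t) a r h1.symm
    obtain ⟨z, hz1, hz2⟩ := Scheme.Pullback.exists_preimage_pullback (f := pullback.snd g G.t ≫ G.s) (g := g)
      q b (by rw [Scheme.Hom.comp_apply, hq2, h2])
    have h := SetLike.ext_iff.1 hinv z
    simp only [Scheme.Hom.mem_preimage, Scheme.Hom.comp_apply, hz1, hq1, hz2] at h
    exact h
  have hZ : IsClosed (G.t '' (G.s ⁻¹' (g '' (W' : Set U')ᶜ))) :=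
    G.t.isClosedMap _ ((g.isClosedMap _ W'.isOpen.isClosed_compl).preimage G.s.continuous)
  let W : G.U.Opens := ⟨(G.t '' (G.s ⁻¹' (g '' (W' : Set U')ᶜ)))ᶜ, hZ.isOpen_compl⟩
  have hW : ∀ a : G.U, a ∈ W ↔ ∀ b : U', Rel a (g b) → b ∈ W' := by
    intro a
    constructor
    · rintro ha b ⟨r, h1, h2⟩
      by_contra hb
      exact ha ⟨r, ⟨b, hb, h2.symm⟩, h1⟩
    · rintro h ⟨r, ⟨b, hb, hb'⟩, h1⟩
      exact hb (h b ⟨r, h1, hb'.symm⟩)
  have hgW : ∀ b : U', g b ∈ W ↔ b ∈ W' := fun b => by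
    rw [hW]
    refine ⟨fun h => h b ⟨G.e (g b), by rw [← Scheme.Hom.comp_apply, G.e_t]; rfl,
      by rw [← Scheme.Hom.comp_apply, G.e_s]; rfl⟩, fun hb c hc => (hinvW b c hc).1 hb⟩
  have hst : ∀ r : G.R, G.s r ∈ W ↔ G.t r ∈ W := fun r => by
    have h1 : Rel (G.t r) (G.s r) := ⟨r, rfl, rfl⟩
    rw [hW, hW]
    exact ⟨fun h b hb => h b (htrans _ _ _ (hsymm _ _ h1) hb), fun h b hb => h b (htrans _ _ _ h1 hb)⟩
  refine ⟨W, ?_, (hgW u').2 hu', TopologicalSpace.Opens.ext (Set.ext hst)⟩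
  let φ : pullback g G.t ⟶ G.U := pullback.snd g G.t ≫ G.s
  haveI : IsIntegralHom φ := inferInstance
  haveI : Surjective φ := ⟨fun u => by
    obtain ⟨r, hr, a, ha⟩ := horb u
    obtain ⟨q, hq1, hq2⟩ := Scheme.Pullback.exists_preimage_pullback (f := g) (g := G.t) a r ha
    exact ⟨q, by rw [Scheme.Hom.comp_apply, hq2, hr]⟩⟩
  have hpre : φ ⁻¹ᵁ W = pullback.fst g G.t ⁻¹ᵁ W' := by
    ext q
    have hq : g (pullback.fst g G.t q) = G.t (pullback.snd g G.t q) := by
      rw [← Scheme.Hom.comp_apply, pullback.condition, Scheme.Hom.comp_apply]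
    show φ q ∈ W ↔ pullback.fst g G.t q ∈ W'
    rw [Scheme.Hom.comp_apply, hst, ← hq, hgW]
  haveI : IsAffine (φ ⁻¹ᵁ W : (pullback g G.t).Opens) := by
    rw [hpre]
    exact hW'.preimage _
  haveI : Surjective (φ ∣_ W) := IsZariskiLocalAtTarget.restrict ‹Surjective φ› W
  haveI : UniversallyClosed (φ ∣_ W) := inferInstance
  exact Groth.Agent.S0593.result _ _ (φ ∣_ W)

end Groth.Agent.S7499
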