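import Groth.Statements.S7500
import Groth.Agent.H63.GrpdBasic
import Groth.Agent.H63.GrpdStab
-- import your own Groth.Agent.* helpers here

set_option autoImplicit false
universe u
open CategoryTheory CategoryTheory.Limits AlgebraicGeometry
open Grpd

namespace Groth.Agent.S7500
open Groth.Agent.H63.GrpdStab
open Groth.Agent.H63.GrpdBasic

/-- Let (U, R, s, t, c) be a groupoid scheme over S and G -> U its stabilizer group scheme (the base
change of j = (t, s) along the diagonal). The action of G on R by composition, base changed to G_0 =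
G x_(U, pr_0) (U x_S U), makes R a pseudo G_0-torsor over U x_S U. Concretely: let α : G x_(U, t) R
-> R x_(s, U, t) R be the morphism with components (γ viewed in R, r) and β : G x_(U, t) R -> R
x_(j, U x_S U, j) R the morphism with components (c ∘ α, r); then β is an isomorphism. (A groupoid
scheme carries U, R, s, t, c, e, i over S with the groupoid axioms on T-points; c is defined on the
fibre product of s and t and sends a pair (a, b) with s(a) = t(b) to a composed with b.) -/
theorem result (S : Scheme.{u}) (G : Grpd.GroupoidScheme S) (α : pullback G.stabilizerToU G.t ⟶ pullback G.s G.t) (hα₁ : α ≫ pullback.fst G.s G.t = pullback.fst G.stabilizerToU G.t ≫ pullback.fst G.j G.diag) (hα₂ : α ≫ pullback.snd G.s G.t = pullback.snd G.stabilizerToU G.t) (β : pullback G.stabilizerToU G.t ⟶ pullback G.j G.j) (hβ₁ : β ≫ pullback.fst G.j G.j = α ≫ G.c) (hβ₂ : β ≫ pullback.snd G.j G.j = pullback.snd G.stabilizerToU G.t) : IsIso β := by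
  suffices aux : ∀ (α : pullback (pullback.snd G.j G.diag) G.t ⟶ pullback G.s G.t),
      α ≫ pullback.fst G.s G.t = pullback.fst (pullback.snd G.j G.diag) G.t ≫ pullback.fst G.j G.diag →
      α ≫ pullback.snd G.s G.t = pullback.snd (pullback.snd G.j G.diag) G.t →
      ∀ (β : pullback (pullback.snd G.j G.diag) G.t ⟶ pullback G.j G.j),
      β ≫ pullback.fst G.j G.j = α ≫ G.c →
      β ≫ pullback.snd G.j G.j = pullback.snd (pullback.snd G.j G.diag) G.t → IsIso β from
    aux α hα₁ hα₂ β hβ₁ hβ₂
  clear! α β
  intro α hα₁ hα₂ β hβ₁ hβ₂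
  have hw' : pullback.fst (pullback.snd G.j G.diag) G.t ≫ pullback.fst G.j G.diag ≫ G.s =
      pullback.snd (pullback.snd G.j G.diag) G.t ≫ G.t := by
    have h' : pullback.fst G.j G.diag ≫ G.s = pullback.snd G.j G.diag := by
      rw [← j_snd, pullback.condition_assoc, diag_snd, Category.comp_id]
    rw [h']
    exact pullback.condition
  let γ : pullback G.j G.j ⟶ G.R :=
    cmp G (pullback.fst G.j G.j) (pullback.snd G.j G.j ≫ G.i)
      (by rw [Category.assoc, G.i_t, fstjj_s])
  let inv₁ : pullback G.j G.j ⟶ pullback G.j G.diag :=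
    pullback.lift γ (pullback.snd G.j G.j ≫ G.t) (by
      apply pullback.hom_ext
      · simp [γ, fstjj_t]
      · simp [γ, G.i_s])
  let inv : pullback G.j G.j ⟶ pullback (pullback.snd G.j G.diag) G.t :=
    pullback.lift inv₁ (pullback.snd G.j G.j) (pullback.lift_snd _ _ _)
  have hβ₁' : β ≫ pullback.fst G.j G.j =
      cmp G (pullback.fst (pullback.snd G.j G.diag) G.t ≫ pullback.fst G.j G.diag)
        (pullback.snd (pullback.snd G.j G.diag) G.t) (by rw [Category.assoc]; exact hw') := by
    rw [hβ₁, c_eq_cmp, comp_cmp]
    exact cmp_congr G hα₁ hα₂ _ _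
  refine ⟨inv, ?_, ?_⟩
  · apply pullback.hom_ext
    · rw [Category.assoc, Category.id_comp, pullback.lift_fst]
      apply pullback.hom_ext
      · rw [Category.assoc, pullback.lift_fst, comp_cmp]
        rw [cmp_congr G hβ₁' ((Category.assoc _ _ _).symm.trans (congrArg (· ≫ G.i) hβ₂)) _
          (by rw [cmp_s, Category.assoc, G.i_t])]
        exact cmp_cancel_right G _ _ _
      · rw [Category.assoc, pullback.lift_snd, ← Category.assoc, hβ₂]
        exact (pullback.condition).symm
    · rw [Category.assoc, Category.id_comp, pullback.lift_snd, hβ₂]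
  · apply pullback.hom_ext
    · rw [Category.assoc, Category.id_comp, hβ₁', comp_cmp]
      rw [cmp_congr G (by rw [← Category.assoc, pullback.lift_fst, pullback.lift_fst] :
          inv ≫ pullback.fst (pullback.snd G.j G.diag) G.t ≫ pullback.fst G.j G.diag = γ)
        (pullback.lift_snd _ _ _) _ (by simp [γ, G.i_s])]
      exact cmp_inv_cancel_right G _ _ (fstjj_s G)
    · rw [Category.assoc, Category.id_comp, hβ₂, pullback.lift_snd]

end Groth.Agent.S7500
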