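import Groth.Statements.S7501
import Groth.Agent.Lib.HTopSheaf.Local
import Groth.Agent.S7478

set_option autoImplicit false
universe w u
open HTop

namespace Groth.Agent.S7501

open CategoryTheory CategoryTheory.Limits AlgebraicGeometry in
/-- Let F be a presheaf of sets on the category of schemes. If F is a sheaf for the Zariski topology
and, for every proper surjective morphism f : V -> U, F has the sheaf property for the one-arrow
family {f} (sections over V whose two pullbacks to V x_U V agree come from exactly one section over
U), then F has the sheaf property for every ph covering. (The published statement is an equivalence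
for presheaves on the big ph site of a base scheme and adds that, for a Zariski sheaf, the condition
on proper surjective morphisms may be asked only for affine targets; this row states, for presheaves
on all schemes, only that the two conditions imply the sheaf property for ph coverings.) -/
theorem result (F : Scheme.{u}ᵒᵖ ⥤ Type w) (h₁ : Presieve.IsSheaf Scheme.zariskiTopology F) (h₂ : ∀ (U V : Scheme.{u}) (f : V ⟶ U), IsProper f → Surjective f → Presieve.IsSheafFor F (Presieve.singleton f)) : HTop.IsPhSheaf F := by
  intro X R hR
  obtain ⟨E, hE, rfl⟩ := PreZeroHypercoverFamily.mem_precoverage_iff.mp hR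
  have hpb : ∀ ⦃T T' : Scheme.{u}⦄ [IsAffine T] [IsAffine T'] (g : T' ⟶ T)
      (E : PreZeroHypercover.{0} T), HTop.IsStandardPh E → HTop.IsStandardPh (E.pullback₁ g) :=
    fun _ _ _ _ g E h => Groth.Agent.S7478.result g E h
  refine Groth.Agent.Lib.HTopSheaf.Local.isSheafFor_of_forall_refines F h₁
    (fun T E => HTop.IsStandardPh E) hpb (fun T _ E hE => ?_) E
    (fun Z _ g _ => Groth.Agent.Lib.HTopSheaf.Local.exists_refining_of_affineOpens
      (fun T E => HTop.IsStandardPh E) hpb E hE.2 g)
  obtain ⟨U, f, ι, hf, hfs, hι, hιf, hcov⟩ := hE.exists_proper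
  let P : PreZeroHypercover.{0} T := PreZeroHypercover.singleton f
  have hP : ∀ {Y : Scheme.{u}} (g : Y ⟶ T),
      Presieve.IsSheafFor F ((Sieve.ofArrows P.X P.f).pullback g : Presieve Y) := fun {Y} g => by
    rw [Groth.Agent.Lib.HTopSheaf.Local.pullback_sieve₀ g P, Sieve.ofArrows,
      ← Presieve.isSheafFor_iff_generate]
    have := h₂ Y (pullback g f) (pullback.fst g f) inferInstance inferInstance
    have e : (P.pullback₁ g).presieve₀ = Presieve.singleton (pullback.fst g f) := by
      refine le_antisymm ?_ ?_
      · rintro _ _ ⟨i⟩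
        exact Presieve.singleton_self _
      · rintro _ _ ⟨⟩
        exact Presieve.ofArrows.mk (f := (P.pullback₁ g).f) PUnit.unit
    rw [← e] at this
    exact this
  let 𝒰 : U.OpenCover :=
    Scheme.Cover.mkOfCovers E.I₀ E.X ι (fun x => hcov x) hι
  refine Presieve.isSheafFor_trans F (Sieve.ofArrows P.X P.f) _ ?_ (fun Y g _ => (hP g).isSeparatedFor)
    fun Y g hg => ?_
  · have := h₂ T U f hf hfs
    have e : P.presieve₀ = Presieve.singleton f := PreZeroHypercover.presieve₀_singleton f
    rw [← e, Presieve.isSheafFor_iff_generate] at this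
    exact this
  · obtain ⟨_, k, _, ⟨_⟩, hk⟩ := hg
    refine h₁ _ (Scheme.zariskiTopology.superset_covering ?_
      (Scheme.zariskiTopology.pullback_stable k 𝒰.mem_grothendieckTopology))
    rintro Z h ⟨_, l, _, ⟨i⟩, hl⟩
    refine ⟨_, l, _, ⟨i⟩, ?_⟩
    show l ≫ E.f i = h ≫ g
    rw [← hk, ← hιf i]
    show l ≫ ι i ≫ f = h ≫ k ≫ f
    have hl2 : l ≫ ι i = h ≫ k := hl
    exact ((Category.assoc _ _ _).symm.trans (congrArg (· ≫ f) hl2)).trans (Category.assoc _ _ _)

end Groth.Agent.S7501
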