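import Groth.Statements.S9818
import Groth.Agent.Lib.CohDelta.IdealMul.DevTools
import Groth.Agent.Lib.Modules.Local
import Groth.Agent.Lib.QCoh.Closure
import Groth.Agent.Lib.QCoh.Pushforward

set_option autoImplicit false
universe u
open CategoryTheory CategoryTheory.Limits AlgebraicGeometry TopologicalSpace Opposite
open Props

namespace Groth.Agent.S9818

open Groth.Agent.Lib Groth.Agent.Lib.Modules.StalkModule Groth.Agent.Lib.CohDelta.IdealMul
open CategoryTheory CategoryTheory.Limits AlgebraicGeometry TopologicalSpace Opposite
set_option linter.style.haveILetI false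

theorem isQCoh_pullback {X : Scheme.{u}} {A B C : X.Modules} [A.IsQuasicoherent] [B.IsQuasicoherent]
    [C.IsQuasicoherent] (a : A ⟶ C) (b : B ⟶ C) : (pullback a b).IsQuasicoherent := by
  haveI : (A ⊞ B).IsQuasicoherent := QCoh.Closure.isQCoh_biprod
  let d : A ⊞ B ⟶ C := biprod.desc a (-b)
  haveI := QCoh.Closure.isQCoh_kernel d
  have w : (kernel.ι d ≫ biprod.fst) ≫ a = (kernel.ι d ≫ biprod.snd) ≫ b := by
    have h := kernel.condition d
    simp only [d, biprod.desc_eq, Preadditive.comp_add, Preadditive.comp_neg] at h
    rw [Category.assoc, Category.assoc]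
    exact sub_eq_zero.mp ((sub_eq_add_neg _ _).trans h)
  let e : pullback a b ≅ kernel d :=
    { hom := kernel.lift d (biprod.lift (pullback.fst a b) (pullback.snd a b)) (by
        simp [d, pullback.condition])
      inv := pullback.lift (kernel.ι d ≫ biprod.fst) (kernel.ι d ≫ biprod.snd) w
      hom_inv_id := by
        apply pullback.hom_ext <;>
          simp only [Category.assoc, Category.id_comp, pullback.lift_fst, pullback.lift_snd,
            kernel.lift_ι_assoc, biprod.lift_fst, biprod.lift_snd]
      inv_hom_id := by
        rw [← cancel_mono (kernel.ι d), Category.assoc, kernel.lift_ι, Category.id_comp]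
        apply biprod.hom_ext <;>
          simp only [Category.assoc, biprod.lift_fst, biprod.lift_snd, pullback.lift_fst,
            pullback.lift_snd] }
  exact CohBasics.Closure.isQCoh_of_iso e.symm

/-- For an open subscheme U of a scheme X with quasi-compact inclusion, a quasi-coherent module G on U
with a map to the restriction of a quasi-coherent module F on X extends to a quasi-coherent module H
on X with a map to F restricting to the given one. Taking F = 0, every quasi-coherent module on U
extends to a quasi-coherent module on X. -/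
theorem result {X : Scheme.{u}} (U : X.Opens) [QuasiCompact U.ι]
    (F : X.Modules) [Coh.IsQCoh F] (G : (U : Scheme.{u}).Modules) [Coh.IsQCoh G] (φ : G ⟶ F.restrict U.ι) :
    ∃ (H : X.Modules) (ψ : H ⟶ F) (e : H.restrict U.ι ≅ G), Coh.IsQCoh H ∧
      e.hom ≫ φ = (Scheme.Modules.restrictFunctor U.ι).map ψ := by
  haveI : F.IsQuasicoherent := ‹Coh.IsQCoh F›
  haveI : G.IsQuasicoherent := ‹Coh.IsQCoh G›
  haveI : (F.restrict U.ι).IsQuasicoherent := inferInstance
  let P := Scheme.Modules.pushforward U.ι
  let R := Scheme.Modules.restrictFunctor U.ι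
  let adj := Scheme.Modules.restrictAdjunction U.ι
  haveI : (P.obj G).IsQuasicoherent := QCoh.Pushforward.isQCoh_pushforward U.ι (M := G)
  haveI : (P.obj (R.obj F)).IsQuasicoherent := QCoh.Pushforward.isQCoh_pushforward U.ι (M := R.obj F)
  let η : F ⟶ P.obj (R.obj F) := adj.unit.app F
  haveI : IsIso (adj.counit.app (R.obj F)) := inferInstance
  haveI hη : IsIso (R.map η) := by
    haveI : IsIso (R.map η ≫ adj.counit.app (R.obj F)) := by
      rw [adj.left_triangle_components F]
      exact IsIso.id (R.obj F)
    exact IsIso.of_isIso_comp_right _ (adj.counit.app (R.obj F))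
  have sq : IsPullback (R.map (pullback.fst η (P.map φ))) (R.map (pullback.snd η (P.map φ)))
      (R.map η) (R.map (P.map φ)) :=
    (IsPullback.of_hasPullback η (P.map φ)).map R
  haveI : IsIso (R.map (pullback.snd η (P.map φ))) := sq.isIso_snd_of_isIso
  haveI : IsIso (adj.counit.app G) := inferInstance
  refine ⟨pullback η (P.map φ), pullback.fst η (P.map φ),
    asIso (R.map (pullback.snd η (P.map φ)) ≫ adj.counit.app G), isQCoh_pullback η (P.map φ), ?_⟩
  have n1 : R.map (P.map φ) ≫ adj.counit.app (R.obj F) = adj.counit.app G ≫ φ :=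
    adj.counit.naturality φ
  have n2 : R.map η ≫ adj.counit.app (R.obj F) = 𝟙 (R.obj F) := adj.left_triangle_components F
  show (R.map (pullback.snd η (P.map φ)) ≫ adj.counit.app G) ≫ φ = R.map (pullback.fst η (P.map φ))
  refine (Category.assoc _ _ _).trans ((congrArg (R.map _ ≫ ·) n1.symm).trans ?_)
  refine ((Category.assoc _ _ _).symm.trans (congrArg (· ≫ _) ((R.map_comp _ _).symm.trans
    ((congrArg R.map pullback.condition.symm).trans (R.map_comp _ _))))).trans ?_
  exact (Category.assoc _ _ _).trans ((congrArg (R.map _ ≫ ·) n2).trans (Category.comp_id _))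

end Groth.Agent.S9818
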