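import Groth.Statements.S7502
import Groth.Agent.S5134
import Groth.Agent.S9818
import Groth.Agent.Lib.CohDelta.BC.Flat
import Groth.Agent.Lib.ZarCoh.FP

set_option autoImplicit false
universe u
open CategoryTheory CategoryTheory.Limits AlgebraicGeometry
open Coh

namespace Groth.Agent.S7502

open Groth.Agent.Lib
open CategoryTheory CategoryTheory.Limits AlgebraicGeometry TopologicalSpace Opposite
set_option linter.style.haveILetI false

/-- Let f : Y -> X be a morphism of schemes which is quasi-compact, quasi-separated, flat and
surjective, with X and Y locally Noetherian. Let F be a quasi-coherent O_X-module, G a coherent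
O_Y-module and φ : G -> f^*F an injective map of O_Y-modules. Then the O_X-module F ∩ f_*G, defined
as the fibre product of the adjunction unit F -> f_*f^*F with f_*φ : f_*G -> f_*f^*F, is coherent.
('Coherent' is quasi-coherent of finite type, the usual notion on locally Noetherian schemes.) -/
theorem result {X Y : Scheme.{u}} (f : Y ⟶ X) [QuasiCompact f] [QuasiSeparated f] [Flat f] [Surjective f] [IsLocallyNoetherian X] [IsLocallyNoetherian Y] (F : X.Modules) (hF : Coh.IsQCoh F) (G : Y.Modules) (hG : Coh.IsCoh G) (φ : G ⟶ (Scheme.Modules.pullback f).obj F) [Mono φ] : Coh.IsCoh (Limits.pullback ((Scheme.Modules.pullbackPushforwardAdjunction f).unit.app F) ((Scheme.Modules.pushforward f).map φ)) := by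
  haveI : F.IsQuasicoherent := hF
  haveI : G.IsQuasicoherent := hG.1
  let P := Scheme.Modules.pushforward f
  let L := Scheme.Modules.pullback f
  let adj := Scheme.Modules.pullbackPushforwardAdjunction f
  haveI := QCoh.Pullback.isQCoh_pullback f F
  haveI : (P.obj G).IsQuasicoherent := QCoh.Pushforward.isQCoh_pushforward f (M := G)
  haveI : (P.obj (L.obj F)).IsQuasicoherent := QCoh.Pushforward.isQCoh_pushforward f (M := L.obj F)
  haveI hK : (pullback (adj.unit.app F) (P.map φ)).IsQuasicoherent :=
    Groth.Agent.S9818.isQCoh_pullback (A := F) (B := P.obj G) (C := P.obj (L.obj F)) _ _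
  haveI : P.IsRightAdjoint := adj.isRightAdjoint
  haveI : PreservesLimitsOfSize.{0, 0} P := adj.rightAdjoint_preservesLimits
  haveI : Mono (P.map φ) := inferInstance
  haveI := CohDelta.BC.Flat.preservesFiniteLimits_pullback f
  haveI : Mono (L.map (pullback.fst (adj.unit.app F) (P.map φ))) := inferInstance
  let ψ : L.obj (pullback (adj.unit.app F) (P.map φ)) ⟶ G :=
    L.map (pullback.snd (adj.unit.app F) (P.map φ)) ≫ adj.counit.app G
  have e : ψ ≫ φ = L.map (pullback.fst (adj.unit.app F) (P.map φ)) := by
    have n1 : L.map (P.map φ) ≫ adj.counit.app (L.obj F) = adj.counit.app G ≫ φ :=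
      adj.counit.naturality φ
    have n2 : L.map (adj.unit.app F) ≫ adj.counit.app (L.obj F) = 𝟙 (L.obj F) :=
      adj.left_triangle_components F
    refine (Category.assoc _ _ _).trans ((congrArg (L.map _ ≫ ·) n1.symm).trans ?_)
    refine ((Category.assoc _ _ _).symm.trans (congrArg (· ≫ _) ((L.map_comp _ _).symm.trans
      ((congrArg L.map pullback.condition.symm).trans (L.map_comp _ _))))).trans ?_
    exact (Category.assoc _ _ _).trans ((congrArg (L.map _ ≫ ·) n2).trans (Category.comp_id _))
  haveI : Mono (ψ ≫ φ) := e ▸ inferInstance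
  haveI : Mono ψ := mono_of_mono ψ φ
  haveI := QCoh.Pullback.isQCoh_pullback f (pullback (adj.unit.app F) (P.map φ))
  have hfp := Groth.Agent.S5134.result f (pullback (adj.unit.app F) (P.map φ)) hK
    (ZarCoh.FP.isFP_of_isCoh _ (CohBasics.Closure.isCoh_of_mono ψ hG))
  refine CohBasics.Closure.isCoh_of_finite_sections
    (M := pullback (adj.unit.app F) (P.map φ)) fun W hW => ?_
  haveI := DescAlg.FPPush.finitePresentation_sections hW _ hfp
  infer_instance

end Groth.Agent.S7502
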