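import Groth.Statements.S7509
import Groth.Agent.H63.GrpdImage
-- import your own Groth.Agent.* helpers here

set_option autoImplicit false
universe u
open CategoryTheory CategoryTheory.Limits AlgebraicGeometry
open Grpd

namespace Groth.Agent.S7509
open Groth.Agent.H63.GrpdImage

/-- Let (U, R, s, t, c) be a groupoid scheme over S with U the spectrum of a field and R quasi-compact
(equivalently s, t quasi-compact), and let Z be the scheme-theoretic image of j = (t, s) : R -> U
x_S U. Then (U, Z, pr_0|_Z, pr_1|_Z, pr_02) is a groupoid scheme over S; stated as: there are a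
groupoid scheme G' over S and a morphism of groupoid schemes φ : (U, R, s, t, c) -> G' which is an
isomorphism on object schemes, such that j' : G'.R -> G'.U x_S G'.U is a closed immersion whose
kernel ideal sheaf equals the kernel ideal sheaf of j followed by the induced isomorphism U x_S U ->
G'.U x_S G'.U (so G'.R is the scheme-theoretic image of j, transported). (A groupoid scheme carries
U, R, s, t, c, e, i over S with the groupoid axioms on T-points; c is defined on the fibre product
of s and t and sends a pair (a, b) with s(a) = t(b) to a composed with b.) -/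
theorem result (S : Scheme.{u}) (G : Grpd.GroupoidScheme S) (k : Type u) [Field k] (eU : G.U ≅ Spec (CommRingCat.of k)) [CompactSpace G.R] : ∃ (G' : Grpd.GroupoidScheme S) (φ : Grpd.GroupoidScheme.Hom G G'), IsIso φ.fU ∧ IsClosedImmersion G'.j ∧ G'.j.ker = (G.j ≫ pullback.map G.pU G.pU G'.pU G'.pU φ.fU φ.fU (𝟙 S) ((Category.comp_id _).trans φ.fU_over.symm) ((Category.comp_id _).trans φ.fU_over.symm)).ker := by
  have : IsIso (jHom G).fU := inferInstanceAs (IsIso (𝟙 _))
  have : IsAffine G.U := .of_isIso eU.hom
  have : IsSeparated (G.pU ≫ terminal.from S) := by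
    rw [terminalIsTerminal.hom_ext (G.pU ≫ terminal.from S) (terminal.from G.U)]; infer_instance
  have : IsSeparated G.pU := IsSeparated.of_comp G.pU (terminal.from S)
  have : QuasiCompact G.t := inferInstance
  have : QuasiCompact (G.j ≫ pullback.fst G.pU G.pU) := by
    rw [show G.j ≫ pullback.fst G.pU G.pU = G.t from pullback.lift_fst _ _ _]; infer_instance
  have : QuasiCompact G.j := QuasiCompact.of_comp G.j (pullback.fst G.pU G.pU)
  have : QuasiCompact (jHom G).fR := ‹QuasiCompact G.j›
  obtain ⟨L⟩ := exists_image_hom (jHom G) (show (pairGrpd G).U ≅ _ from eU)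
  refine ⟨sub L, toSubHom (jHom G) L, inferInstanceAs (IsIso (𝟙 _)), by rw [sub_pair_j]; exact inferInstanceAs (IsClosedImmersion G.j.ker.subschemeι), ?_⟩
  have hid : pullback.map G.pU G.pU G.pU G.pU (𝟙 _) (𝟙 _) (𝟙 S) (by simp) (by simp) = 𝟙 _ := by
    apply pullback.hom_ext <;> simp
  erw [sub_pair_j, hid, Category.comp_id]
  exact Scheme.IdealSheafData.ker_subschemeι _

end Groth.Agent.S7509
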