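import Groth.Statements.S7510
import Groth.Agent.H63.GrpdBasic
-- import your own Groth.Agent.* helpers here

set_option autoImplicit false
universe u
open CategoryTheory CategoryTheory.Limits AlgebraicGeometry
open Grpd

namespace Groth.Agent.S7510
open Groth.Agent.H63.GrpdBasic

/-- Let (U, R, s, t, c, e, i) be a groupoid scheme over S and g : U' -> U a morphism; write h = s ∘ pr_1
: U' x_(g,U,t) R -> U. Let P, Q, R be properties of morphisms of schemes, with P invariant under
composition with isomorphisms, such that (1) R implies Q, (2) Q is stable under base change and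
composition, (3) every morphism f : X -> Y with Q has a largest open W(P, f) of X on which the
restriction of f has P (given here as a function W with these two properties), and (4) for f with Q
and a base change along Y' -> Y with R, the preimage of W(P, f) in X x_Y Y' is W(P, f') for the base
change f'. If s, t have R and g has Q, then there is an open W of U' whose preimage in U' x_(g,U,t)
R equals W(P, h). (The published statement speaks of arbitrary properties of morphisms; this row
asks P to be invariant under composition with isomorphisms, which the proof uses to identify the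
largest opens on the two isomorphic fibre products of h with t and with s.) (A groupoid scheme
carries U, R, s, t, c, e, i over S with the groupoid axioms on T-points; c is defined on the fibre
product of s and t and sends a pair (a, b) with s(a) = t(b) to a composed with b.) -/
theorem result (S : Scheme.{u}) (G : Grpd.GroupoidScheme S) {U' : Scheme.{u}} (g : U' ⟶ G.U) (P Q R : MorphismProperty Scheme.{u}) [P.RespectsIso] (hRQ : R ≤ Q) [Q.IsStableUnderBaseChange] [Q.IsStableUnderComposition] (W : ∀ {X Y : Scheme.{u}} (f : X ⟶ Y), Q f → X.Opens) (hWP : ∀ {X Y : Scheme.{u}} (f : X ⟶ Y) (hf : Q f), P ((W f hf).ι ≫ f)) (hWmax : ∀ {X Y : Scheme.{u}} (f : X ⟶ Y) (hf : Q f) (V : X.Opens), P (V.ι ≫ f) → V ≤ W f hf) (hWbc : ∀ {X Y Y' : Scheme.{u}} (f : X ⟶ Y) (hf : Q f) (b : Y' ⟶ Y), R b → ∀ hf' : Q (pullback.snd f b), pullback.fst f b ⁻¹ᵁ W f hf = W (pullback.snd f b) hf') (hs : R G.s) (ht : R G.t) (hg : Q g) (hh : Q (pullback.snd g G.t ≫ G.s)) : ∃ V : U'.Opens, pullback.fst g G.t ⁻¹ᵁ V = W (pullback.snd g G.t ≫ G.s) hh := by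
  open CategoryTheory.Limits in
    let f := pullback.snd g G.t ≫ G.s
    let σ : U' ⟶ pullback g G.t := pullback.lift (𝟙 U') (g ≫ G.e)
      (by rw [Category.assoc, G.e_t, Category.id_comp, Category.comp_id])
    have hab : (pullback.fst f G.t ≫ pullback.snd g G.t) ≫ G.s = pullback.snd f G.t ≫ G.t := by
      rw [Category.assoc]; exact pullback.condition
    let q₂ : (pullback f G.t) ⟶ pullback g G.t := pullback.lift (pullback.fst f G.t ≫ pullback.fst g G.t)
      (cmp G (pullback.fst f G.t ≫ pullback.snd g G.t) (pullback.snd f G.t) hab)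
      (by rw [cmp_t, Category.assoc, Category.assoc, pullback.condition])
    have hq₂ : q₂ ≫ f = pullback.snd f G.t ≫ G.s := by
      rw [pullback.lift_snd_assoc, cmp_s]
    let m : (pullback f G.t) ⟶ pullback f G.s := pullback.lift q₂ (pullback.snd f G.t) hq₂
    have hbc : ∀ (p : pullback f G.s ⟶ pullback g G.t) (r : pullback f G.s ⟶ G.R),
        p ≫ f = r ≫ G.s → (p ≫ pullback.snd g G.t) ≫ G.s = r ≫ G.s := by
      intro p r h; rw [Category.assoc]; exact h
    let n₁ : pullback f G.s ⟶ pullback g G.t := pullback.lift (pullback.fst f G.s ≫ pullback.fst g G.t)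
      (cmp G (pullback.fst f G.s ≫ pullback.snd g G.t) (pullback.snd f G.s ≫ G.i)
        (by rw [hbc _ _ pullback.condition, Category.assoc, G.i_t]))
      (by rw [cmp_t, Category.assoc, Category.assoc, pullback.condition])
    let n : pullback f G.s ⟶ (pullback f G.t) := pullback.lift n₁ (pullback.snd f G.s)
      (by rw [pullback.lift_snd_assoc, cmp_s, Category.assoc, G.i_s])
    have m_fst : m ≫ pullback.fst f G.s = q₂ := pullback.lift_fst _ _ _
    have m_snd : m ≫ pullback.snd f G.s = pullback.snd f G.t := pullback.lift_snd _ _ _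
    have n_fst : n ≫ pullback.fst f G.t = n₁ := pullback.lift_fst _ _ _
    have n_snd : n ≫ pullback.snd f G.t = pullback.snd f G.s := pullback.lift_snd _ _ _
    have q_fst : q₂ ≫ pullback.fst g G.t = pullback.fst f G.t ≫ pullback.fst g G.t := pullback.lift_fst _ _ _
    have q_snd : q₂ ≫ pullback.snd g G.t =
        cmp G (pullback.fst f G.t ≫ pullback.snd g G.t) (pullback.snd f G.t) hab := pullback.lift_snd _ _ _
    have n₁_fst : n₁ ≫ pullback.fst g G.t = pullback.fst f G.s ≫ pullback.fst g G.t := pullback.lift_fst _ _ _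
    have n₁_snd : n₁ ≫ pullback.snd g G.t =
        cmp G (pullback.fst f G.s ≫ pullback.snd g G.t) (pullback.snd f G.s ≫ G.i)
          (by rw [hbc _ _ pullback.condition, Category.assoc, G.i_t]) := pullback.lift_snd _ _ _
    have hmn : m ≫ n = 𝟙 _ := by
      apply pullback.hom_ext
      · apply pullback.hom_ext
        · simp only [Category.assoc, Category.id_comp]
          rw [reassoc_of% n_fst, n₁_fst, reassoc_of% m_fst, q_fst]
        · simp only [Category.assoc, Category.id_comp]
          rw [reassoc_of% n_fst, n₁_snd, comp_cmp]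
          refine (cmp_congr G (α' := cmp G (pullback.fst f G.t ≫ pullback.snd g G.t) (pullback.snd f G.t) hab)
            (β' := pullback.snd f G.t ≫ G.i) (by rw [reassoc_of% m_fst, q_snd])
            (by rw [reassoc_of% m_snd]) _ (by rw [cmp_s, Category.assoc, G.i_t])).trans ?_
          exact cmp_cancel_right G _ _ hab
      · rw [Category.assoc, n_snd, m_snd, Category.id_comp]
    have hnm : n ≫ m = 𝟙 _ := by
      apply pullback.hom_ext
      · apply pullback.hom_ext
        · simp only [Category.assoc, Category.id_comp]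
          rw [reassoc_of% m_fst, q_fst, reassoc_of% n_fst, n₁_fst]
        · simp only [Category.assoc, Category.id_comp]
          rw [reassoc_of% m_fst, q_snd, comp_cmp]
          refine (cmp_congr G (α' := cmp G (pullback.fst f G.s ≫ pullback.snd g G.t) (pullback.snd f G.s ≫ G.i)
              (by rw [hbc _ _ pullback.condition, Category.assoc, G.i_t]))
            (β' := pullback.snd f G.s) (by rw [reassoc_of% n_fst, n₁_snd]) n_snd _
            (by rw [cmp_s, Category.assoc, G.i_s])).trans ?_
          exact cmp_inv_cancel_right G _ _ (hbc _ _ pullback.condition)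
      · rw [Category.assoc, m_snd, n_snd, Category.id_comp]
    have : IsIso m := ⟨n, hmn, hnm⟩
    have hQt : Q (pullback.snd f G.t) := Q.pullback_snd _ _ hh
    have hQs : Q (pullback.snd f G.s) := Q.pullback_snd _ _ hh
    have e₁ : pullback.fst f G.t ⁻¹ᵁ W f hh = W (pullback.snd f G.t) hQt := hWbc f hh G.t ht hQt
    have e₂ : pullback.fst f G.s ⁻¹ᵁ W f hh = W (pullback.snd f G.s) hQs := hWbc f hh G.s hs hQs
    have hm : m ≫ pullback.snd f G.s = pullback.snd f G.t := pullback.lift_snd _ _ _
    have e₃ : m ⁻¹ᵁ W (pullback.snd f G.s) hQs = W (pullback.snd f G.t) hQt := by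
      refine le_antisymm (hWmax _ hQt _ ?_) ?_
      · have h1 : (m ⁻¹ᵁ W (pullback.snd f G.s) hQs).ι ≫ pullback.snd f G.t =
            (m ∣_ W (pullback.snd f G.s) hQs) ≫ (W (pullback.snd f G.s) hQs).ι ≫ pullback.snd f G.s := by
          rw [morphismRestrict_ι_assoc, hm]
        rw [h1, P.cancel_left_of_respectsIso]
        exact hWP _ hQs
      · let V := W (pullback.snd f G.t) hQt
        have hV : m ⁻¹ᵁ (n ⁻¹ᵁ V) = V := by
          rw [← Scheme.Hom.comp_preimage, hmn]; rfl
        have : IsIso n := ⟨m, hnm, hmn⟩
        have h1 : (n ⁻¹ᵁ V).ι ≫ pullback.snd f G.s = (n ∣_ V) ≫ V.ι ≫ pullback.snd f G.t := by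
          rw [morphismRestrict_ι_assoc, n_snd]
        have h2 : n ⁻¹ᵁ V ≤ W (pullback.snd f G.s) hQs := hWmax _ hQs _ (by
          rw [h1, P.cancel_left_of_respectsIso]; exact hWP _ hQt)
        exact hV.ge.trans (m.preimage_mono h2)
    have key : q₂ ⁻¹ᵁ W f hh = pullback.fst f G.t ⁻¹ᵁ W f hh := by
      rw [e₁, ← e₃, ← e₂, ← Scheme.Hom.comp_preimage, pullback.lift_fst]
    refine ⟨σ ⁻¹ᵁ W f hh, ?_⟩
    have σ_fst : σ ≫ pullback.fst g G.t = 𝟙 U' := pullback.lift_fst _ _ _
    have σ_snd : σ ≫ pullback.snd g G.t = g ≫ G.e := pullback.lift_snd _ _ _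
    let b : pullback g G.t ⟶ pullback f G.t := pullback.lift (pullback.fst g G.t ≫ σ) (pullback.snd g G.t)
      (by show _ ≫ pullback.snd g G.t ≫ G.s = _
          rw [Category.assoc, reassoc_of% σ_snd, G.e_s, Category.comp_id, pullback.condition])
    have hb₁ : b ≫ pullback.fst f G.t = pullback.fst g G.t ≫ σ := pullback.lift_fst _ _ _
    have b_snd : b ≫ pullback.snd f G.t = pullback.snd g G.t := pullback.lift_snd _ _ _
    have hb₂ : b ≫ q₂ = 𝟙 _ := by
      apply pullback.hom_ext
      · rw [Category.assoc, q_fst, reassoc_of% hb₁, σ_fst, Category.comp_id, Category.id_comp]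
      · rw [Category.assoc, q_snd, comp_cmp, Category.id_comp]
        refine (cmp_congr G (α' := pullback.snd g G.t ≫ G.t ≫ G.e) (β' := pullback.snd g G.t)
          (by rw [reassoc_of% hb₁, σ_snd, pullback.condition_assoc]) b_snd _
          (by rw [Category.assoc, Category.assoc, G.e_s, Category.comp_id])).trans ?_
        exact one_cmp G _ _ rfl _
    rw [← Scheme.Hom.comp_preimage, ← hb₁, Scheme.Hom.comp_preimage, ← key, ← Scheme.Hom.comp_preimage, hb₂]
    rfl

end Groth.Agent.S7510
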