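import Groth.Statements.S7511
import Mathlib.AlgebraicGeometry.Sites.Fpqc
import Mathlib.AlgebraicGeometry.Limits

set_option autoImplicit false
universe u
open CategoryTheory CategoryTheory.Limits AlgebraicGeometry
open HTop

namespace Groth.Agent.S7511

/-- Let {f_i : T_i -> T} be a family of morphisms of schemes (indexed by a type in the universe of T, so
that the coproduct exists). Then it is an fpqc covering if and only if the one-arrow family
consisting of the induced morphism from the coproduct of the T_i to T is an fpqc covering. -/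
theorem result {T : Scheme.{u}} (E : PreZeroHypercover.{u} T) : E.presieve₀ ∈ Scheme.fpqcPrecoverage T ↔ Presieve.singleton (Sigma.desc E.f) ∈ Scheme.fpqcPrecoverage T := by
  rw [← PreZeroHypercover.presieve₀_singleton.{u} (Sigma.desc E.f)]
  refine ⟨fun h => ?_, fun h => ?_⟩
  · have hq : QuasiCompactCover E := Scheme.presieve₀_mem_qcPrecoverage_iff.mp h.1
    obtain ⟨hs, hf⟩ := (Scheme.presieve₀_mem_precoverage_iff _).mp h.2
    refine ⟨Scheme.presieve₀_mem_qcPrecoverage_iff.mpr (QuasiCompactCover.of_hom (𝒱 := E)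
      { s₀ := fun _ => PUnit.unit, h₀ := fun i => Sigma.ι E.X i, w₀ := fun i => Sigma.ι_desc _ _ }),
      (Scheme.presieve₀_mem_precoverage_iff _).mpr ⟨fun t => ?_, fun _ => ?_⟩⟩
    · obtain ⟨i, y, rfl⟩ := hs t
      refine ⟨PUnit.unit, Sigma.ι E.X i y, ?_⟩
      show Sigma.desc E.f (Sigma.ι E.X i y) = _
      rw [← Scheme.Hom.comp_apply, Sigma.ι_desc]
    · exact IsZariskiLocalAtSource.sigmaDesc (P := @Flat) hf
  · have hq : QuasiCompactCover (PreZeroHypercover.singleton.{u} (Sigma.desc E.f)) :=
      Scheme.presieve₀_mem_qcPrecoverage_iff.mp h.1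
    obtain ⟨hs, hf⟩ := (Scheme.presieve₀_mem_precoverage_iff _).mp h.2
    let B : ∀ x : (PreZeroHypercover.singleton.{u} (Sigma.desc E.f)).I₀,
        PreZeroHypercover.{u} ((PreZeroHypercover.singleton.{u} (Sigma.desc E.f)).X x) := fun _ =>
      (sigmaOpenCover E.X).toPreZeroHypercover
    have : ∀ x, QuasiCompactCover (B x) := fun _ =>
      inferInstanceAs (QuasiCompactCover (sigmaOpenCover E.X).toPreZeroHypercover)
    have : QuasiCompactCover ((PreZeroHypercover.singleton.{u} (Sigma.desc E.f)).bind B) :=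
      inferInstance
    refine ⟨Scheme.presieve₀_mem_qcPrecoverage_iff.mpr (QuasiCompactCover.of_hom
      (𝒱 := (PreZeroHypercover.singleton.{u} (Sigma.desc E.f)).bind B)
      { s₀ := fun p => p.2, h₀ := fun _ => 𝟙 _, w₀ := fun p => ?_ }),
      (Scheme.presieve₀_mem_precoverage_iff _).mpr ⟨fun t => ?_, fun i => ?_⟩⟩
    · exact (Category.id_comp _).trans (Sigma.ι_desc E.f p.2).symm
    · obtain ⟨_, y, rfl⟩ := hs t
      obtain ⟨i, z, rfl⟩ := (sigmaOpenCover E.X).exists_eq y
      exact ⟨i, z, by
        show E.f i z = Sigma.desc E.f (Sigma.ι E.X i z)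
        rw [← Scheme.Hom.comp_apply, Sigma.ι_desc]⟩
    · have : Flat (Sigma.desc E.f) := hf PUnit.unit
      rw [← Sigma.ι_desc E.f i]
      infer_instance

end Groth.Agent.S7511
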