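import Groth.Statements.S7516
import Groth.Agent.H63.GrpdComponent
import Groth.Agent.H63.GrpdIrred
import Groth.Agent.H63.GrpdBasic
-- import your own Groth.Agent.* helpers here

set_option autoImplicit false
universe u
open CategoryTheory CategoryTheory.Limits AlgebraicGeometry
open Grpd

namespace Groth.Agent.S7516
open Groth.Agent.H63.GrpdBasic
open Groth.Agent.H63.GrpdIrred
open Groth.Agent.H63.GrpdComponent

/-- Let (U, R, s, t, c) be a groupoid scheme over S with U = Spec k for a field k, and let Z be an
irreducible component of R passing through the identity point e (there is exactly one). Then Z is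
geometrically irreducible over k via either s or t: for any closed immersion ι : Z -> R from an
irreducible scheme whose image is an irreducible component of R containing e, the composites Z -> R
-> U = Spec k through s and through t are geometrically irreducible. (A groupoid scheme carries U,
R, s, t, c, e, i over S with the groupoid axioms on T-points; c is defined on the fibre product of s
and t and sends a pair (a, b) with s(a) = t(b) to a composed with b.) -/
theorem result (S : Scheme.{u}) (G : Grpd.GroupoidScheme S) (k : Type u) [Field k] (eU : G.U ≅ Spec (CommRingCat.of k)) (Z : Scheme.{u}) (ι : Z ⟶ G.R) [IsClosedImmersion ι] [IrreducibleSpace Z] (hZ : Set.range ⇑ι ∈ irreducibleComponents ↥G.R) (he : G.e (eU.inv (IsLocalRing.closedPoint k)) ∈ Set.range ⇑ι) : GeometricallyIrreducible (ι ≫ G.s ≫ eU.hom) ∧ GeometricallyIrreducible (ι ≫ G.t ≫ eU.hom) := by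
  have hZ' : Set.range ι = comp0 G eU := Groth.Agent.H63.GrpdIrred.eq_irreducibleComponent G eU hZ he
  refine ⟨geometricallyIrreducible_of_range G eU ι hZ', ?_⟩
  have hei : G.i (ePt G eU) = ePt G eU := by
    have h1 : G.e ≫ G.i = G.e := by
      have h2 := cmp_inv G G.e
      rw [reassoc_of% G.e_t] at h2
      refine Eq.trans ?_ h2
      exact (one_cmp G (G.e ≫ G.i) G.e (by rw [Category.assoc, reassoc_of% G.i_t, reassoc_of% G.e_s]) _).symm
    show (G.e ≫ G.i) _ = _
    rw [h1]
  have hsub : G.i '' comp0 G eU ⊆ comp0 G eU := by
    obtain ⟨C, hC, hsub⟩ := exists_mem_irreducibleComponents_subset_of_isIrreducible _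
      ((isIrreducible_irreducibleComponent (x := ePt G eU)).image G.i G.i.continuous.continuousOn)
    have := Groth.Agent.H63.GrpdIrred.eq_irreducibleComponent G eU hC (hsub ⟨_, mem_irreducibleComponent, hei⟩)
    exact hsub.trans this.le
  have hr : Set.range (ι ≫ G.i) = comp0 G eU := by
    rw [Scheme.Hom.comp_base, TopCat.coe_comp, Set.range_comp, hZ']
    refine hsub.antisymm fun x hx => ⟨G.i x, hsub ⟨x, hx, rfl⟩, ?_⟩
    rw [← Scheme.Hom.comp_apply, i_i]; rfl
  have := geometricallyIrreducible_of_range G eU (ι ≫ G.i) hr
  rwa [Category.assoc, reassoc_of% G.i_s] at this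

end Groth.Agent.S7516
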