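import Groth.Statements.S7517
import Groth.Agent.H63.GrpConnected
import Groth.Agent.H63.GrpComponent
import Groth.Agent.H63.GrpIrred
-- import your own Groth.Agent.* helpers here

set_option autoImplicit false
universe u
open CategoryTheory MonoidalCategory CartesianMonoidalCategory MonObj GrpObj AlgebraicGeometry
open GrpSch

namespace Groth.Agent.S7517
open Groth.Agent.H63.GrpIrred
open Groth.Agent.H63.GrpComponent
open Groth.Agent.H63.GrpConnected

/-- Let G be a group scheme over a field k and Z the irreducible component of G passing through the
identity e (there is exactly one). Then Z is geometrically irreducible over k: for any closed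
immersion incl : Z -> G from an irreducible scheme whose image is an irreducible component of G
containing e, the composite Z -> G -> Spec k is geometrically irreducible. (Parts (1) and (2) of the
source are not stated here.) -/
theorem result (K : Type u) [Field K] (G : Over (Spec (CommRingCat.of K))) [GrpObj G] (Z : Scheme.{u}) (incl : Z ⟶ G.left) [IsClosedImmersion incl] [IrreducibleSpace Z] (hZ : Set.range ⇑incl ∈ irreducibleComponents ↥G.left) (he : η[G].left (IsLocalRing.closedPoint K) ∈ Set.range ⇑incl) : GeometricallyIrreducible (incl ≫ G.hom) := by
  open CategoryTheory.Limits in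
    have hZ' : Set.range incl = comp0 G := by
      exact eq_irreducibleComponent G hZ he
    refine ⟨geometrically_iff_of_isClosedUnderIsomorphisms.mpr fun L _ g => ?_⟩
    show IrreducibleSpace ↑(pullback (incl ≫ G.hom) g)
    let m : pullback (incl ≫ G.hom) g ⟶ pullback G.hom g :=
      pullback.map _ g G.hom g incl (𝟙 _) (𝟙 _) (by simp) (by simp)
    have hr : Set.range m = pullback.fst G.hom g ⁻¹' comp0 G := by
      show Set.range (pullback.map _ g G.hom g incl (𝟙 _) (𝟙 _) _ _) = _
      rw [Scheme.Pullback.range_map, hZ']
      simp
    have hc : IsClosedImmersion m := by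
      refine MorphismProperty.of_isPullback (P := @IsClosedImmersion)
        (f' := pullback.fst (incl ≫ G.hom) g) (f := pullback.fst G.hom g) (g := incl) ?_ ‹_›
      have h1 : IsPullback (m ≫ pullback.snd G.hom g) (pullback.fst (incl ≫ G.hom) g) g (incl ≫ G.hom) := by
        rw [show m ≫ pullback.snd G.hom g = pullback.snd (incl ≫ G.hom) g from
          (pullback.lift_snd _ _ _).trans (Category.comp_id _)]
        exact (IsPullback.of_hasPullback (incl ≫ G.hom) g).flip
      exact (IsPullback.of_right h1 (pullback.lift_fst _ _ _) (IsPullback.of_hasPullback G.hom g).flip).flip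
    have hirr : IrreducibleSpace ↥(Set.range m) := by
      rw [hr]; exact Subtype.irreducibleSpace (isIrreducible_preimage G g) 
    exact m.isClosedEmbedding.isEmbedding.toHomeomorph.symm.surjective.irreducibleSpace
      m.isClosedEmbedding.isEmbedding.toHomeomorph.symm.continuous

end Groth.Agent.S7517
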