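import Groth.Statements.S7522
-- import your own Groth.Agent.* helpers here

set_option autoImplicit false
universe u
open CategoryTheory CategoryTheory.Limits AlgebraicGeometry
open Grpd

namespace Groth.Agent.S7522

/-- Let S be a scheme, U a scheme over S and j : R -> U x_S U a pre-equivalence relation, that is a
morphism such that for every scheme T the image of the T-points of R in pairs of T-points of U is an
equivalence relation; write t = pr_0 ∘ j and s = pr_1 ∘ j. Then the relation on the points of U in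
which x ∼ y when some point r of R has t(r) = x and s(r) = y is an equivalence relation. -/
theorem result {S U R : Scheme.{u}} (pU : U ⟶ S) (j : R ⟶ pullback pU pU) (hj : ∀ T : Scheme.{u}, Equivalence (fun a b : T ⟶ U => ∃ r : T ⟶ R, r ≫ j ≫ pullback.fst pU pU = a ∧ r ≫ j ≫ pullback.snd pU pU = b)) : Equivalence (fun x y : ↥U => ∃ r : R, (j ≫ pullback.fst pU pU) r = x ∧ (j ≫ pullback.snd pU pU) r = y) := by
  refine ⟨fun x => ?_, ?_, ?_⟩
  · obtain ⟨r, h1, h2⟩ := (hj _).refl (U.fromSpecResidueField x)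
    have key := U.fromSpecResidueField_apply x (IsLocalRing.closedPoint _)
    refine ⟨r (IsLocalRing.closedPoint _), ?_, ?_⟩
    · exact ((Scheme.Hom.comp_apply r _ _).symm.trans (congrArg (fun f => f (IsLocalRing.closedPoint _)) h1)).trans key
    · exact ((Scheme.Hom.comp_apply r _ _).symm.trans (congrArg (fun f => f (IsLocalRing.closedPoint _)) h2)).trans key
  · rintro x y ⟨r, rfl, rfl⟩
    obtain ⟨r', h1, h2⟩ := (hj R).symm ⟨𝟙 R, Category.id_comp _, Category.id_comp _⟩
    exact ⟨r' r, by rw [← Scheme.Hom.comp_apply, h1], by rw [← Scheme.Hom.comp_apply, h2]⟩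
  · rintro x y z ⟨r, hr1, hr2⟩ ⟨r', hr1', hr2'⟩
    obtain ⟨w, hw1, hw2⟩ := Scheme.Pullback.exists_preimage_pullback r r' (hr2.trans hr1'.symm)
    let f₁ := pullback.fst (j ≫ pullback.snd pU pU) (j ≫ pullback.fst pU pU)
    let f₂ := pullback.snd (j ≫ pullback.snd pU pU) (j ≫ pullback.fst pU pU)
    obtain ⟨r'', h1, h2⟩ := (hj _).trans
      (x := f₁ ≫ j ≫ pullback.fst pU pU) (y := f₁ ≫ j ≫ pullback.snd pU pU)
      (z := f₂ ≫ j ≫ pullback.snd pU pU) ⟨f₁, rfl, rfl⟩ ⟨f₂, pullback.condition.symm, rfl⟩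
    refine ⟨r'' w, ?_, ?_⟩
    · rw [← Scheme.Hom.comp_apply, h1, Scheme.Hom.comp_apply, hw1, hr1]
    · rw [← Scheme.Hom.comp_apply, h2, Scheme.Hom.comp_apply, hw2, hr2']

end Groth.Agent.S7522
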