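import Groth.Statements.S7527
import Groth.Agent.Lib.Spectral.Basic

set_option autoImplicit false
universe u
open SpecSp

namespace Groth.Agent.S7527

/-- Let X be a spectral space and x, y ∈ X. Then either there is a third point specializing to both x
and y, or there are disjoint open neighbourhoods of x and of y. -/
theorem result {X : Type u} [TopologicalSpace X] [SpectralSpace X] (x y : X) :
    (∃ z : X, z ⤳ x ∧ z ⤳ y) ∨
    (∃ U V : Set X, IsOpen U ∧ IsOpen V ∧ x ∈ U ∧ y ∈ V ∧ Disjoint U V) := by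
  open Groth.Agent.Lib.Spectral.Basic Set in
  let ι := {U : Set X // IsOpen U ∧ IsCompact U ∧ (x ∈ U ∨ y ∈ U)}
  by_cases h : ∀ u : Finset ι, (⋂ U ∈ u, U.1).Nonempty
  · left
    obtain ⟨z, hz⟩ := nonempty_iInter_of_isClosed_cons (fun U : ι ↦ U.1)
      (fun U ↦ isClosed_cons U.2.1 U.2.2.1) h
    rw [mem_iInter] at hz
    refine ⟨z, specializes_iff_forall_open.mpr fun V hV hxV ↦ ?_,
      specializes_iff_forall_open.mpr fun V hV hyV ↦ ?_⟩
    · obtain ⟨U, ⟨hUo, hUc⟩, hxU, hUV⟩ :=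
        PrespectralSpace.isTopologicalBasis.exists_subset_of_mem_open hxV hV
      exact hUV (hz ⟨U, hUo, hUc, .inl hxU⟩)
    · obtain ⟨U, ⟨hUo, hUc⟩, hyU, hUV⟩ :=
        PrespectralSpace.isTopologicalBasis.exists_subset_of_mem_open hyV hV
      exact hUV (hz ⟨U, hUo, hUc, .inr hyU⟩)
  · right
    obtain ⟨u, hu⟩ := not_forall.mp h
    refine ⟨⋂ U ∈ u, ⋂ (_ : x ∈ (U : ι).1), (U : ι).1, ⋂ U ∈ u, ⋂ (_ : x ∉ (U : ι).1), (U : ι).1,
      isOpen_biInter_finset fun U _ ↦ isOpen_iInter_of_finite fun _ ↦ U.2.1,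
      isOpen_biInter_finset fun U _ ↦ isOpen_iInter_of_finite fun _ ↦ U.2.1,
      mem_iInter₂.mpr fun U _ ↦ mem_iInter.mpr fun h ↦ h,
      mem_iInter₂.mpr fun U _ ↦ mem_iInter.mpr fun h ↦ U.2.2.2.resolve_left h, ?_⟩
    rw [disjoint_left]
    intro z hz hz'
    refine hu ⟨z, mem_iInter₂.mpr fun U hU ↦ ?_⟩
    by_cases hx : x ∈ U.1
    · exact mem_iInter.mp (mem_iInter₂.mp hz U hU) hx
    · exact mem_iInter.mp (mem_iInter₂.mp hz' U hU) hx

end Groth.Agent.S7527
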