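import Groth.Statements.S7528
import Groth.Agent.Lib.Spectral.Basic

set_option autoImplicit false
universe u
open SpecSp

namespace Groth.Agent.S7528

/-- For a spectral space X the following are equivalent: (1) X is profinite, i.e. quasi-compact,
Hausdorff and totally disconnected (quasi-compactness being automatic); (2) X is Hausdorff; (3) X is
totally disconnected; (4) every quasi-compact open subset is closed; (5) there are no nontrivial
specializations between points; (6) every point is closed; (7) every point is the generic point of
an irreducible component; (8) the constructible topology coincides with the topology of X. -/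
theorem result (X : Type u) [tX : TopologicalSpace X] [SpectralSpace X] :
    List.TFAE [
      T2Space X ∧ TotallyDisconnectedSpace X,
      T2Space X,
      TotallyDisconnectedSpace X,
      ∀ U : Set X, IsOpen U → IsCompact U → IsClosed U,
      ∀ x y : X, x ⤳ y → x = y,
      ∀ x : X, IsClosed ({x} : Set X),
      ∀ x : X, closure ({x} : Set X) ∈ irreducibleComponents X,
      constructibleTopology X = tX] := by
  open Groth.Agent.Lib.Spectral.Basic Set in
  tfae_have 1 → 2 := fun h ↦ h.1
  tfae_have 1 → 3 := fun h ↦ h.2
  tfae_have 2 → 4 := fun h U _ hUc ↦ hUc.isClosed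
  tfae_have 4 → 8 := by
    intro h
    refine le_antisymm cons_le ?_
    refine le_generateFrom fun s hs ↦ ?_
    rcases hs with ⟨h1, _⟩ | ⟨h1, h2⟩
    · exact h1
    · simpa using (h _ h1.isOpen_compl h2).isOpen_compl
  tfae_have 8 → 1 := by
    intro h
    have h1 := t2Space_cons (X := X)
    have h2 := totallyDisconnectedSpace_cons (X := X)
    rw [h] at h1 h2
    exact ⟨h1, h2⟩
  tfae_have 3 → 5 := by
    intro h x y hxy
    have := h.isTotallyDisconnected_univ (closure {x}) (subset_univ _)
      isPreconnected_singleton.closure
    exact this (subset_closure rfl) hxy.mem_closure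
  tfae_have 5 → 6 := by
    intro h x
    rw [← closure_subset_iff_isClosed]
    exact fun y hy ↦ (h x y (specializes_iff_mem_closure.mpr hy)).symm
  tfae_have 6 → 5 := fun h x y hxy ↦ (hxy.mem_closed (h x) rfl).symm
  tfae_have 5 → 7 := by
    intro h x
    refine ⟨isIrreducible_singleton.closure, fun Z hZ hxZ ↦ ?_⟩
    have hz := hZ.isGenericPoint_genericPoint_closure
    have hspec : hZ.genericPoint ⤳ x :=
      hz.specializes (subset_closure (hxZ (subset_closure rfl)))
    have he := h _ _ hspec
    intro a ha
    rw [← he]
    exact (hz.specializes (subset_closure ha)).mem_closure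
  tfae_have 7 → 5 := by
    intro h x y hxy
    have hsub : closure {y} ⊆ closure ({x} : Set X) :=
      closure_minimal (by simpa using hxy.mem_closure) isClosed_closure
    have := (h y).2 isIrreducible_singleton.closure hsub
    exact (hxy.antisymm (specializes_iff_mem_closure.mpr (this (subset_closure rfl)))).eq
  tfae_have 5 → 4 := fun h U hUo hUc ↦ isClosed_of_isClosed_cons (isClosed_cons hUo hUc)
    fun x y hxy hx ↦ h x y hxy ▸ hx
  tfae_finish

end Groth.Agent.S7528
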