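import Groth.Statements.S7530
import Groth.Agent.Lib.Spectral.Basic

set_option autoImplicit false
universe u
open SpecSp

namespace Groth.Agent.S7530

/-- Let f : X → Y be a map of spectral spaces which is spectral and bijective, and assume that
generalizations lift along f or that specializations lift along f. Then f is a homeomorphism. -/
theorem result {X Y : Type u} [TopologicalSpace X] [TopologicalSpace Y]
    [SpectralSpace X] [SpectralSpace Y] (f : X → Y) (hf : IsSpectralMap f) (hb : Function.Bijective f)
    (hlift : GeneralizingMap f ∨ SpecializingMap f) :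
    IsHomeomorph f := by
  open Groth.Agent.Lib.Spectral.Basic Set in
  rcases hlift with hg | hs
  · refine ⟨hf.continuous, ?_, hb⟩
    intro V hV
    obtain ⟨S, hS, rfl⟩ := PrespectralSpace.isTopologicalBasis.open_eq_sUnion hV
    rw [image_sUnion]
    refine isOpen_sUnion ?_
    rintro _ ⟨U, hU, rfl⟩
    obtain ⟨hUo, hUc⟩ := hS hU
    refine isOpen_of_isOpen_cons ?_ (hg.stableUnderGeneralization_image hUo.stableUnderGeneralization)
    refine (@isClosed_compl_iff Y (constructibleTopology Y) _).mp ?_
    rw [← image_compl_eq hb]
    exact isClosed_cons_image hf (isClosed_cons_of_isClosed hUo.isClosed_compl)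
  · have hc : IsClosedMap f := fun Z hZ ↦ isClosed_of_isClosed_cons
      (isClosed_cons_image hf (isClosed_cons_of_isClosed hZ))
      (hs.stableUnderSpecialization_image hZ.stableUnderSpecialization)
    exact isHomeomorph_iff_continuous_isClosedMap_bijective.mpr ⟨hf.continuous, hc, hb⟩

end Groth.Agent.S7530
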