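import Groth.Statements.S7536
import Groth.Agent.Lib.Spectral.Limit

set_option autoImplicit false
universe u
open CategoryTheory CategoryTheory.Limits
open SpecSp

namespace Groth.Agent.S7536

/-- Let j ↦ X_j be a cofiltered diagram of spectral spaces with spectral transition maps and X its limit
with projections p_j. For every constructible E ⊆ X there are an object i and a constructible E_i ⊆
X_i with p_i⁻¹(E_i) = E; if E is open, resp. closed, then E_i may be chosen open, resp. closed. -/
theorem result {J : Type u} [SmallCategory J] [IsCofiltered J] (F : J ⥤ TopCat.{u})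
    (hF : ∀ j, SpectralSpace (F.obj j))
    (hFm : ∀ {i j : J} (a : i ⟶ j), IsSpectralMap (F.map a : F.obj i → F.obj j))
    (c : Cone F) (hc : IsLimit c)
    (E : Set c.pt) (hE : Topology.IsConstructible E) :
    (∃ (i : J) (Ei : Set (F.obj i)), Topology.IsConstructible Ei ∧ c.π.app i ⁻¹' Ei = E) ∧
    (IsOpen E → ∃ (i : J) (Ei : Set (F.obj i)), Topology.IsConstructible Ei ∧ IsOpen Ei ∧ c.π.app i ⁻¹' Ei = E) ∧
    (IsClosed E → ∃ (i : J) (Ei : Set (F.obj i)), Topology.IsConstructible Ei ∧ IsClosed Ei ∧ c.π.app i ⁻¹' Ei = E) := by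
  open Groth.Agent.Lib.Spectral.Limit Groth.Agent.Lib.Spectral.Basic in
  have hsp := spectralSpace_pt hc hF hFm
  have hopen : ∀ E : Set c.pt, Topology.IsConstructible E → IsOpen E →
      ∃ (i : J) (Ei : Set (F.obj i)), Topology.IsConstructible Ei ∧ IsOpen Ei ∧
        c.π.app i ⁻¹' Ei = E := fun E hE hEo ↦ by
    obtain ⟨i, V, hVo, hVc, h⟩ :=
      exists_compactOpen_preimage_eq hc hF hFm hEo (isCompact_of_isConstructible hE)
    exact ⟨i, V, have := hF i; hVc.isConstructible hVo, hVo, h⟩
  refine ⟨exists_isConstructible_preimage_eq hc hF hFm hE, hopen E hE, fun hEc ↦ ?_⟩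
  obtain ⟨i, V, hV, hVo, h⟩ := hopen Eᶜ hE.compl hEc.isOpen_compl
  exact ⟨i, Vᶜ, hV.compl, hVo.isClosed_compl, by rw [Set.preimage_compl, h, compl_compl]⟩

end Groth.Agent.S7536
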