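import Groth.Statements.S7538
import Groth.Agent.Lib.Spectral.Limit

set_option autoImplicit false
universe u
open CategoryTheory CategoryTheory.Limits
open SpecSp

namespace Groth.Agent.S7538

/-- Let j ↦ X_j be a cofiltered diagram of spectral spaces with spectral transition maps f_a and X its
limit with projections p_j. (1) Any quasi-compact open U ⊆ X is p_i⁻¹(U_i) for some i and some
quasi-compact open U_i ⊆ X_i. (2) If U_i ⊆ X_i and U_j ⊆ X_j are quasi-compact opens with p_i⁻¹(U_i)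
⊆ p_j⁻¹(U_j), there are k and a : k → i, b : k → j with f_a⁻¹(U_i) ⊆ f_b⁻¹(U_j). (3) If U_i and
finitely many U_{l,i} are quasi-compact opens of X_i with p_i⁻¹(U_i) = ⋃_l p_i⁻¹(U_{l,i}), then
f_a⁻¹(U_i) = ⋃_l f_a⁻¹(U_{l,i}) for some a : j → i. (4) The same with intersections. -/
theorem result {J : Type u} [SmallCategory J] [IsCofiltered J] (F : J ⥤ TopCat.{u})
    (hF : ∀ j, SpectralSpace (F.obj j))
    (hFm : ∀ {i j : J} (a : i ⟶ j), IsSpectralMap (F.map a : F.obj i → F.obj j))
    (c : Cone F) (hc : IsLimit c) :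
    (∀ U : Set c.pt, IsOpen U → IsCompact U →
      ∃ (i : J) (Ui : Set (F.obj i)), IsOpen Ui ∧ IsCompact Ui ∧ c.π.app i ⁻¹' Ui = U) ∧
    (∀ (i j : J) (Ui : Set (F.obj i)) (Uj : Set (F.obj j)),
      IsOpen Ui → IsCompact Ui → IsOpen Uj → IsCompact Uj →
      c.π.app i ⁻¹' Ui ⊆ c.π.app j ⁻¹' Uj →
      ∃ (k : J) (a : k ⟶ i) (b : k ⟶ j), F.map a ⁻¹' Ui ⊆ F.map b ⁻¹' Uj) ∧
    (∀ (i : J) (n : ℕ) (Ui : Set (F.obj i)) (V : Fin n → Set (F.obj i)),
      IsOpen Ui → IsCompact Ui → (∀ l, IsOpen (V l) ∧ IsCompact (V l)) →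
      (c.π.app i ⁻¹' Ui = ⋃ l, c.π.app i ⁻¹' V l →
        ∃ (j : J) (a : j ⟶ i), F.map a ⁻¹' Ui = ⋃ l, F.map a ⁻¹' V l) ∧
      (c.π.app i ⁻¹' Ui = ⋂ l, c.π.app i ⁻¹' V l →
        ∃ (j : J) (a : j ⟶ i), F.map a ⁻¹' Ui = ⋂ l, F.map a ⁻¹' V l)) := by
  open Groth.Agent.Lib.Spectral.Limit Groth.Agent.Lib.Spectral.Basic Set in
  refine ⟨fun U hUo hUc ↦ exists_compactOpen_preimage_eq hc hF hFm hUo hUc,
    fun i j Ui Uj hio hic hjo hjc h ↦ ?_, fun i n Ui V hUo hUc hV ↦ ⟨fun h ↦ ?_, fun h ↦ ?_⟩⟩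
  · let m := IsCofiltered.min i j
    let α := IsCofiltered.minToLeft i j
    let β := IsCofiltered.minToRight i j
    obtain ⟨k, a, ha⟩ := exists_hom_preimage_subset hc hF hFm (i := m)
      (E := F.map α ⁻¹' Ui) (E' := F.map β ⁻¹' Uj)
      (isClosed_cons (hio.preimage (hFm α).continuous) (hic.preimage_of_isOpen (hFm α) hio))
      (isOpen_cons (hjo.preimage (hFm β).continuous) (hjc.preimage_of_isOpen (hFm β) hjo))
      (by rwa [preimage_map_preimage, preimage_map_preimage])
    refine ⟨k, a ≫ α, a ≫ β, fun x hx ↦ ?_⟩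
    simp only [mem_preimage, Functor.map_comp, ConcreteCategory.comp_apply] at hx ⊢
    exact ha hx
  · obtain ⟨j, a, ha⟩ := exists_hom_preimage_subset hc hF hFm (i := i)
      (E := (Ui \ ⋃ l, V l) ∪ ((⋃ l, V l) \ Ui)) (E' := ∅) (by
        have := hF i
        refine (isClopen_cons_of_isConstructible ?_).1
        have h1 := hUc.isConstructible hUo
        have h2 := Topology.IsConstructible.iUnion fun l ↦ (hV l).2.isConstructible (hV l).1
        exact (h1.sdiff h2).union (h2.sdiff h1))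
      (@isOpen_empty _ (constructibleTopology (F.obj i)))
      (by simp [preimage_union, preimage_sdiff, preimage_iUnion, ← h])
    refine ⟨j, a, ?_⟩
    simp only [preimage_union, preimage_sdiff, preimage_iUnion, preimage_empty, subset_empty_iff,
      union_empty_iff, sdiff_eq_empty] at ha
    exact subset_antisymm ha.1 ha.2
  · obtain ⟨j, a, ha⟩ := exists_hom_preimage_subset hc hF hFm (i := i)
      (E := (Ui \ ⋂ l, V l) ∪ ((⋂ l, V l) \ Ui)) (E' := ∅) (by
        have := hF i
        refine (isClopen_cons_of_isConstructible ?_).1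
        have h1 := hUc.isConstructible hUo
        have h2 := Topology.IsConstructible.iInter fun l ↦ (hV l).2.isConstructible (hV l).1
        exact (h1.sdiff h2).union (h2.sdiff h1))
      (@isOpen_empty _ (constructibleTopology (F.obj i)))
      (by simp [preimage_union, preimage_sdiff, preimage_iInter, ← h])
    refine ⟨j, a, ?_⟩
    simp only [preimage_union, preimage_sdiff, preimage_iInter, preimage_empty, subset_empty_iff,
      union_empty_iff, sdiff_eq_empty] at ha
    exact subset_antisymm ha.1 ha.2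

end Groth.Agent.S7538
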