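import Groth.Statements.S7539
import Groth.Agent.Lib.Spectral.Basic

set_option autoImplicit false
universe u
open SpecSp

namespace Groth.Agent.S7539

/-- For a subset W of a spectral space X, these five conditions coincide: (1) W can be written as an
intersection of constructible subsets and is stable under generalization; (2) W is quasi-compact and
stable under generalization; (3) for some quasi-compact E ⊆ X, W consists exactly of the points that
specialize to a point of E; (4) W is the intersection of some family of quasi-compact opens; (5)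
there are a nonempty index set I and quasi-compact opens U_i with W = ⋂ U_i such that for all i, j
some U_k is contained in U_i ∩ U_j. -/
theorem result {X : Type u} [TopologicalSpace X] [SpectralSpace X] (W : Set X) :
    List.TFAE [
      (∃ S : Set (Set X), (∀ s ∈ S, Topology.IsConstructible s) ∧ W = ⋂₀ S) ∧ StableUnderGeneralization W,
      IsCompact W ∧ StableUnderGeneralization W,
      ∃ E : Set X, IsCompact E ∧ W = {x | ∃ e ∈ E, x ⤳ e},
      ∃ S : Set (Set X), (∀ s ∈ S, IsOpen s ∧ IsCompact s) ∧ W = ⋂₀ S,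
      ∃ (I : Type u) (_ : Nonempty I) (U : I → Set X), (∀ i, IsOpen (U i) ∧ IsCompact (U i)) ∧
        W = ⋂ i, U i ∧ ∀ i j, ∃ k, U k ⊆ U i ∩ U j] := by
  open Groth.Agent.Lib.Spectral.Basic Set in
  tfae_have 1 → 2 := by
    rintro ⟨⟨S, hS, rfl⟩, hg⟩
    refine ⟨isCompact_of_isClosed_cons ?_, hg⟩
    exact @isClosed_sInter X (constructibleTopology X) S
      fun s hs ↦ (isClopen_cons_of_isConstructible (hS s hs)).1
  tfae_have 2 → 3 := by
    rintro ⟨hc, hg⟩
    exact ⟨W, hc, subset_antisymm (fun x hx ↦ ⟨x, hx, specializes_rfl⟩)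
      fun x ⟨e, he, hxe⟩ ↦ hg hxe he⟩
  tfae_have 3 → 4 := by
    rintro ⟨E, hEc, rfl⟩
    refine ⟨{U | IsOpen U ∧ IsCompact U ∧ E ⊆ U}, fun s hs ↦ ⟨hs.1, hs.2.1⟩,
      subset_antisymm (fun x ⟨e, he, hxe⟩ ↦ mem_sInter.mpr fun U hU ↦
        hxe.mem_open hU.1 (hU.2.2 he)) (fun x hx ↦ ?_)⟩
    by_contra hne
    have : E ⊆ (closure {x})ᶜ := fun e he hmem ↦ hne ⟨e, he, specializes_iff_mem_closure.mpr hmem⟩
    obtain ⟨U, hUc, hUo, hEU, hU⟩ := PrespectralSpace.exists_isCompact_and_isOpen_between hEc
      isClosed_closure.isOpen_compl this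
    exact hU (mem_sInter.mp hx U ⟨hUo, hUc, hEU⟩) (subset_closure rfl)
  tfae_have 4 → 5 := by
    rintro ⟨S, hS, rfl⟩
    classical
    refine ⟨Finset S, ⟨∅⟩, fun u ↦ ⋂ s ∈ u, (s : Set X), fun u ↦ ?_, ?_, fun u v ↦ ⟨u ∪ v, ?_⟩⟩
    · induction u using Finset.induction_on with
      | empty => simpa using (CompactSpace.isCompact_univ (X := X))
      | insert a s _ ih =>
        dsimp only at ih ⊢
        rw [Finset.set_biInter_insert]
        exact ⟨(hS a a.2).1.inter ih.1, (hS a a.2).2.inter_of_isOpen ih.2 (hS a a.2).1 ih.1⟩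
    · refine subset_antisymm (subset_iInter fun u ↦ subset_iInter₂ fun s _ ↦
        sInter_subset_of_mem s.2) (fun x hx s hs ↦ ?_)
      simpa using mem_iInter.mp hx {⟨s, hs⟩}
    · intro x hx
      simp only [mem_inter_iff, mem_iInter, Finset.mem_union] at hx ⊢
      exact ⟨fun s hs ↦ hx s (.inl hs), fun s hs ↦ hx s (.inr hs)⟩
  tfae_have 5 → 1 := by
    rintro ⟨I, hI, U, hU, rfl, _⟩
    refine ⟨⟨range U, ?_, (sInter_range U).symm⟩,
      stableUnderGeneralization_iInter U fun i ↦ (hU i).1.stableUnderGeneralization⟩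
    rintro _ ⟨i, rfl⟩
    exact (hU i).2.isConstructible (hU i).1
  tfae_finish

end Groth.Agent.S7539
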