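import Groth.Statements.S7540
import Groth.Agent.Lib.Spectral.Basic

set_option autoImplicit false
universe u
open SpecSp

namespace Groth.Agent.S7540

/-- Let X be a spectral space, I a nonempty index set and U_i ⊆ X quasi-compact opens such that for all
i, j some U_k lies in U_i ∩ U_j; put W = ⋂ U_i. Then every open subset of X containing W contains
some U_i. The published statement also asserts that W is spectral and is the limit of the U_i; this
row states the neighbourhood property. -/
theorem result {X : Type u} [TopologicalSpace X] [SpectralSpace X]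
    {I : Type u} [Nonempty I] (U : I → Set X) (hU : ∀ i, IsOpen (U i) ∧ IsCompact (U i))
    (hdir : ∀ i j, ∃ k, U k ⊆ U i ∩ U j) :
    ∀ V : Set X, IsOpen V → (⋂ i, U i) ⊆ V → ∃ i, U i ⊆ V := by
  open Groth.Agent.Lib.Spectral.Basic Set in
  intro V hV hW
  by_contra hne
  push_neg at hne
  have h : (⋂ i, U i ∩ Vᶜ).Nonempty := by
    refine nonempty_iInter_of_isClosed_cons _ (fun i ↦ ?_) (fun u ↦ ?_)
    · exact @IsClosed.inter X _ _ (constructibleTopology X) (isClosed_cons (hU i).1 (hU i).2)
        (isClosed_cons_of_isClosed hV.isClosed_compl)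
    · obtain ⟨k, hk⟩ : ∃ k, ∀ i ∈ u, U k ⊆ U i := by
        classical
        induction u using Finset.induction_on with
        | empty => exact ⟨Classical.arbitrary I, by simp⟩
        | insert a s _ ih =>
          obtain ⟨k, hk⟩ := ih
          obtain ⟨l, hl⟩ := hdir a k
          refine ⟨l, fun i hi ↦ ?_⟩
          rcases Finset.mem_insert.mp hi with rfl | hi
          · exact hl.trans inter_subset_left
          · exact (hl.trans inter_subset_right).trans (hk i hi)
      obtain ⟨x, hx, hxV⟩ := not_subset.mp (hne k)
      exact ⟨x, mem_iInter₂.mpr fun i hi ↦ ⟨hk i hi hx, hxV⟩⟩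
  obtain ⟨x, hx⟩ := h
  rw [mem_iInter] at hx
  exact (hx (Classical.arbitrary I)).2 (hW (mem_iInter.mpr fun i ↦ (hx i).1))

end Groth.Agent.S7540
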