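import Groth.Statements.S7541
import Groth.Agent.Lib.Spectral.Subspace

set_option autoImplicit false
universe u
open SpecSp

namespace Groth.Agent.S7541

/-- Let X be a spectral space, E ⊆ X a constructible subset and W the set of points of X that specialize
to a point of E. Then the subspace W minus E is a spectral space. (The description of W minus E as a
limit of the U_i minus E is not recorded here.) -/
theorem result {X : Type u} [TopologicalSpace X] [SpectralSpace X]
    (E : Set X) (hE : Topology.IsConstructible E) :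
    SpectralSpace ↥({x : X | ∃ e ∈ E, x ⤳ e} \ E) := by
  open Groth.Agent.Lib.Spectral.Basic Set in
  apply Groth.Agent.Lib.Spectral.Subspace.spectralSpace
  have hEc := isCompact_of_isConstructible hE
  have hW : {x : X | ∃ e ∈ E, x ⤳ e} =
      ⋂ U ∈ {U : Set X | IsOpen U ∧ IsCompact U ∧ E ⊆ U}, U := by
    refine subset_antisymm (fun x ⟨e, he, hxe⟩ ↦ mem_iInter₂.mpr fun U hU ↦
      hxe.mem_open hU.1 (hU.2.2 he)) (fun x hx ↦ ?_)
    by_contra hne
    have : E ⊆ (closure {x})ᶜ := fun e he hmem ↦ hne ⟨e, he, specializes_iff_mem_closure.mpr hmem⟩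
    obtain ⟨U, hUc, hUo, hEU, hU⟩ := PrespectralSpace.exists_isCompact_and_isOpen_between hEc
      isClosed_closure.isOpen_compl this
    exact hU (mem_iInter₂.mp hx U ⟨hUo, hUc, hEU⟩) (subset_closure rfl)
  rw [hW]
  rw [sdiff_eq]
  refine @IsClosed.inter X _ _ (constructibleTopology X) ?_
    (@IsOpen.isClosed_compl X (constructibleTopology X) _ (isClopen_cons_of_isConstructible hE).2)
  exact @isClosed_biInter X _ (constructibleTopology X) {U : Set X | IsOpen U ∧ IsCompact U ∧ E ⊆ U}
    (fun U ↦ U) fun U hU ↦ isClosed_cons hU.1 hU.2.1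

end Groth.Agent.S7541
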