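import Groth.Statements.S7544
import Groth.Agent.Lib.Spectral.Constructible

set_option autoImplicit false
universe u
open ConstrTop

namespace Groth.Agent.S7544

/-- Let X be a quasi-compact topological space whose quasi-compact opens form a basis and are closed
under pairwise intersection. Take T ⊆ X to be locally closed, quasi-compact, and with retrocompact
complement. Then T is constructible in X. -/
theorem result {X : Type u} [TopologicalSpace X]
    [CompactSpace X] [PrespectralSpace X] [QuasiSeparatedSpace X]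
    (T : Set X) (hT : IsLocallyClosed T) (hTc : IsCompact T) (hTr : IsRetrocompact Tᶜ) :
    Topology.IsConstructible T := by
  open Set in
  obtain ⟨U, Z, hU, hZ, rfl⟩ := hT
  obtain ⟨W, hWc, hWo, hTW, hWU⟩ :=
    PrespectralSpace.exists_isCompact_and_isOpen_between hTc hU inter_subset_left
  have hWT : (U ∩ Z)ᶜ ∩ W = W ∩ Zᶜ := by
    ext x
    simp only [mem_inter_iff, mem_compl_iff, not_and]
    exact ⟨fun h ↦ ⟨h.2, h.1 (hWU h.2)⟩, fun h ↦ ⟨fun _ ↦ h.2, h.1⟩⟩
  have heq : U ∩ Z = W \ ((U ∩ Z)ᶜ ∩ W) := by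
    ext x
    simp only [Set.mem_sdiff, mem_inter_iff, mem_compl_iff, not_and]
    exact ⟨fun h ↦ ⟨hTW h, fun h' ↦ absurd h.2 (h' h.1)⟩,
      fun h ↦ by_contra fun hn ↦ h.2 (fun h1 h2 ↦ hn ⟨h1, h2⟩) h.1⟩
  rw [heq]
  refine (hWc.isConstructible hWo).sdiff ((hTr hWc hWo).isConstructible ?_)
  rw [hWT]
  exact hWo.inter hZ.isOpen_compl

end Groth.Agent.S7544
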