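import Groth.Statements.S7546
import Groth.Agent.Lib.Spectral.Noetherian

set_option autoImplicit false
universe u
open ConstrTop

namespace Groth.Agent.S7546

/-- Let X be a topological space, Z ⊆ X irreducible and E ⊆ X a finite union of locally closed subsets
(for instance a constructible set). Then E ∩ Z is dense in Z if and only if E ∩ Z contains a subset
of the form U ∩ Z, U open in X, which is dense in Z. If moreover ξ ∈ Z is a generic point of Z,
these conditions are equivalent to ξ ∈ E. -/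
theorem result {X : Type u} [TopologicalSpace X] (Z : Set X) (hZ : IsIrreducible Z)
    {n : ℕ} (L : Fin n → Set X) (hL : ∀ i, IsLocallyClosed (L i)) (E : Set X) (hE : E = ⋃ i, L i) :
    (Z ⊆ closure (E ∩ Z) ↔ ∃ U : Set X, IsOpen U ∧ U ∩ Z ⊆ E ∧ Z ⊆ closure (U ∩ Z)) ∧
    (∀ ξ : X, ξ ∈ Z → Z ⊆ closure {ξ} → (Z ⊆ closure (E ∩ Z) ↔ ξ ∈ E)) := by
  open Groth.Agent.Lib.Spectral.Noetherian Set in
  have hfwd : Z ⊆ closure (E ∩ Z) → ∃ U : Set X, IsOpen U ∧ (U ∩ Z).Nonempty ∧ U ∩ Z ⊆ E := by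
    intro h
    rw [hE, ← sUnion_range] at h ⊢
    exact exists_isOpen_of_dense hZ (finite_range L) (forall_mem_range.mpr hL) h
  refine ⟨⟨fun h ↦ ?_, fun ⟨U, _, hsub, hd⟩ ↦
    hd.trans (closure_mono (subset_inter hsub inter_subset_right))⟩, fun ξ hξ hgen ↦ ⟨fun h ↦ ?_,
      fun h ↦ hgen.trans (closure_mono (singleton_subset_iff.mpr ⟨h, hξ⟩))⟩⟩
  · obtain ⟨U, hU, hne, hsub⟩ := hfwd h
    exact ⟨U, hU, hsub, subset_closure_of_isOpen hZ.2 hU hne⟩
  · obtain ⟨U, hU, ⟨z, hzU, hz⟩, hsub⟩ := hfwd h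
    exact hsub ⟨(specializes_iff_mem_closure.mpr (hgen hz)).mem_open hU hzU, hξ⟩

end Groth.Agent.S7546
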