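import Groth.Statements.S7547
import Mathlib.Topology.Constructible
import Mathlib.Topology.Separation.Basic
import Mathlib.Topology.LocallyClosed

set_option autoImplicit false
universe u
open PtTop

namespace Groth.Agent.S7547

/-- Let X be a Kolmogorov topological space whose quasi-compact opens form a basis for the topology. If
X is not Jacobson, there is a point x ∈ X which is not closed but such that {x} is locally closed. -/
theorem result {X : Type u} [TopologicalSpace X]
    [T0Space X] [PrespectralSpace X] (hX : ¬ JacobsonSpace X) :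
    ∃ x : X, ¬ IsClosed ({x} : Set X) ∧ IsLocallyClosed ({x} : Set X) := by
  open Set in
  rw [jacobsonSpace_iff_locallyClosed] at hX
  push Not at hX
  obtain ⟨L, ⟨z, hz⟩, hL, hLc⟩ := hX
  obtain ⟨U, C, hU, hC, rfl⟩ := hL
  obtain ⟨W, hWc, hWo, hzW, hWU⟩ := PrespectralSpace.exists_isCompact_and_isOpen_between
    (isCompact_singleton (x := z)) hU (singleton_subset_iff.mpr hz.1)
  have : CompactSpace W := isCompact_iff_compactSpace.mp hWc
  obtain ⟨⟨x, hxW⟩, hxC, hx⟩ := (hC.preimage continuous_subtype_val :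
    IsClosed ((Subtype.val : W → X) ⁻¹' C)).exists_closed_singleton
    ⟨⟨z, hzW rfl⟩, hz.2⟩
  refine ⟨x, fun hcl ↦ ?_, W, closure {x}, hWo, isClosed_closure, ?_⟩
  · have : x ∈ (∅ : Set X) := hLc ▸ ⟨⟨hWU hxW, hxC⟩, hcl⟩
    exact this
  · ext y
    refine ⟨fun (h : y = x) ↦ h.symm ▸ ⟨hxW, subset_closure rfl⟩, fun ⟨hyW, hy⟩ ↦ ?_⟩
    have h1 : (⟨y, hyW⟩ : W) ∈ closure ({⟨x, hxW⟩} : Set W) := by
      rw [closure_subtype, image_singleton]
      exact hy
    rw [hx.closure_eq] at h1
    exact congrArg Subtype.val h1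

end Groth.Agent.S7547
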