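import Groth.Statements.S7548
import Mathlib.Topology.LocallyClosed

set_option autoImplicit false
universe u
open PtTop

namespace Groth.Agent.S7548

/-- Let X be a Jacobson space and let T = ⋃ T_i be a union of subsets T_i ⊆ X each locally closed in X
(open, closed, locally closed and constructible subsets are of this form). Then T is Jacobson and
every point of T closed in T is closed in X. -/
theorem result {X : Type u} [TopologicalSpace X] [JacobsonSpace X]
    {ι : Type u} (T : ι → Set X) (hT : ∀ i, IsLocallyClosed (T i)) :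
    JacobsonSpace ↥(⋃ i, T i) ∧
      closedPoints ↥(⋃ i, T i) ⊆ (Subtype.val : ↥(⋃ i, T i) → X) ⁻¹' closedPoints X := by
  open Set in
  have hclosed : closedPoints ↥(⋃ i, T i) ⊆ Subtype.val ⁻¹' closedPoints X := by
    rintro ⟨x, hx⟩ hxc
    obtain ⟨i, hxi⟩ := mem_iUnion.mp hx
    refine isClosed_singleton_of_isLocallyClosed_singleton ?_
    have heq : ({x} : Set X) = T i ∩ closure {x} := by
      ext y
      refine ⟨fun (h : y = x) ↦ h.symm ▸ ⟨hxi, subset_closure rfl⟩, fun ⟨hy, hy'⟩ ↦ ?_⟩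
      have h1 : (⟨y, mem_iUnion.mpr ⟨i, hy⟩⟩ : ↥(⋃ i, T i)) ∈
          closure ({⟨x, hx⟩} : Set ↥(⋃ i, T i)) := by
        rw [closure_subtype, image_singleton]
        exact hy'
      rw [(show IsClosed ({⟨x, hx⟩} : Set ↥(⋃ i, T i)) from hxc).closure_eq] at h1
      exact congrArg Subtype.val h1
    rw [heq]
    exact (hT i).inter isClosed_closure.isLocallyClosed
  refine ⟨?_, hclosed⟩
  rw [jacobsonSpace_iff_locallyClosed]
  rintro L ⟨⟨z, hz⟩, hzL⟩ ⟨U, C, hU, hC, rfl⟩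
  obtain ⟨U, hU', rfl⟩ := isOpen_induced_iff.mp hU
  obtain ⟨C, hC', rfl⟩ := isClosed_induced_iff.mp hC
  obtain ⟨i, hzi⟩ := mem_iUnion.mp hz
  obtain ⟨y, ⟨⟨hyi, hyU⟩, hyC⟩, hy⟩ := nonempty_inter_closedPoints
    (Z := T i ∩ U ∩ C) ⟨z, ⟨hzi, hzL.1⟩, hzL.2⟩
    (((hT i).inter hU'.isLocallyClosed).inter hC'.isLocallyClosed)
  refine ⟨⟨y, mem_iUnion.mpr ⟨i, hyi⟩⟩, ⟨hyU, hyC⟩, ?_⟩
  have heq : ({⟨y, mem_iUnion.mpr ⟨i, hyi⟩⟩} : Set ↥(⋃ i, T i)) = Subtype.val ⁻¹' {y} := by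
    ext
    simp [Subtype.ext_iff]
  change IsClosed _
  rw [heq]
  exact IsClosed.preimage continuous_subtype_val hy

end Groth.Agent.S7548
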