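import Groth.Statements.S7549
import Groth.Agent.Lib.Spectral.Constructible

set_option autoImplicit false
universe u
open PtTop

namespace Groth.Agent.S7549
open Set

variable {X : Type u} [TopologicalSpace X] [JacobsonSpace X]

lemma eq_empty_of_trace {L : Set X} (hL : IsLocallyClosed L)
    (h : (Subtype.val : closedPoints X → X) ⁻¹' L = ∅) : L = ∅ := by
  by_contra hne
  obtain ⟨x, hxL, hx⟩ := nonempty_inter_closedPoints (nonempty_iff_ne_empty.mpr hne) hL
  exact (Set.ext_iff.mp h ⟨x, hx⟩).mp hxL

lemma subset_of_trace {U O : Set X} (hU : IsOpen U) (hO : IsOpen O)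
    (h : (Subtype.val : closedPoints X → X) ⁻¹' U ⊆ Subtype.val ⁻¹' O) : U ⊆ O := by
  intro x hxU
  by_contra hxO
  have := eq_empty_of_trace (L := U ∩ Oᶜ) (hU.isLocallyClosed.inter hO.isClosed_compl.isLocallyClosed)
    (eq_empty_of_forall_notMem fun y hy ↦ hy.2 (h hy.1))
  exact (Set.ext_iff.mp this x).mp ⟨hxU, hxO⟩

lemma isCompact_iff_trace {U : Set X} (hU : IsOpen U) :
    IsCompact U ↔ IsCompact ((Subtype.val : closedPoints X → X) ⁻¹' U) := by
  constructor
  · intro hc
    refine isCompact_of_finite_subcover fun O hO hcov ↦ ?_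
    choose O' hO' hO'eq using fun i ↦ isOpen_induced_iff.mp (hO i)
    obtain ⟨t, ht⟩ := hc.elim_finite_subcover O' hO' (subset_of_trace hU (isOpen_iUnion hO') (by
      simp only [preimage_iUnion, hO'eq]
      exact hcov))
    refine ⟨t, fun y hy ↦ ?_⟩
    obtain ⟨i, hi, hyi⟩ := mem_iUnion₂.mp (ht hy)
    exact mem_iUnion₂.mpr ⟨i, hi, (Set.ext_iff.mp (hO'eq i) y).mp hyi⟩
  · intro hc
    refine isCompact_of_finite_subcover fun O hO hcov ↦ ?_
    obtain ⟨t, ht⟩ := hc.elim_finite_subcover (fun i ↦ (Subtype.val : closedPoints X → X) ⁻¹' O i)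
      (fun i ↦ (hO i).preimage continuous_subtype_val) (by
        rw [← preimage_iUnion]
        exact preimage_mono hcov)
    refine ⟨t, subset_of_trace hU (isOpen_biUnion fun i _ ↦ hO i) ?_⟩
    simpa only [preimage_iUnion] using ht

lemma isRetrocompact_iff_trace {U : Set X} (hU : IsOpen U) :
    IsRetrocompact U ↔ IsRetrocompact ((Subtype.val : closedPoints X → X) ⁻¹' U) := by
  constructor
  · intro h W hWc hWo
    obtain ⟨W', hW', rfl⟩ := isOpen_induced_iff.mp hWo
    rw [← preimage_inter]
    exact (isCompact_iff_trace (hU.inter hW')).mp (h ((isCompact_iff_trace hW').mpr hWc) hW')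
  · intro h W hWc hWo
    refine (isCompact_iff_trace (hU.inter hWo)).mpr ?_
    rw [preimage_inter]
    exact h ((isCompact_iff_trace hWo).mp hWc) (hWo.preimage continuous_subtype_val)


/-- Let X be a Jacobson space and X₀ ⊆ X the subspace of closed points. (a) For U ⊆ X open, U is
quasi-compact if and only if U ∩ X₀ is quasi-compact, and U is retrocompact in X if and only if U ∩
X₀ is retrocompact in X₀. (b) The rule E ↦ E ∩ X₀ is an inclusion-preserving and
inclusion-reflecting bijection between the constructible subsets of X and the constructible subsets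
of X₀. -/
theorem result {X : Type u} [TopologicalSpace X] [JacobsonSpace X] :
    (∀ U : Set X, IsOpen U →
      (IsCompact U ↔ IsCompact ((Subtype.val : closedPoints X → X) ⁻¹' U)) ∧
      (IsRetrocompact U ↔ IsRetrocompact ((Subtype.val : closedPoints X → X) ⁻¹' U))) ∧
    (∀ E : Set X, Topology.IsConstructible E →
      Topology.IsConstructible ((Subtype.val : closedPoints X → X) ⁻¹' E)) ∧
    (∀ E E' : Set X, Topology.IsConstructible E → Topology.IsConstructible E' →
      ((Subtype.val : closedPoints X → X) ⁻¹' E ⊆ Subtype.val ⁻¹' E' ↔ E ⊆ E')) ∧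
    (∀ F : Set (closedPoints X), Topology.IsConstructible F →
      ∃ E : Set X, Topology.IsConstructible E ∧ (Subtype.val : closedPoints X → X) ⁻¹' E = F) := by
  open Groth.Agent.Lib.Spectral.Constructible in
  refine ⟨fun U hU ↦ ⟨isCompact_iff_trace hU, isRetrocompact_iff_trace hU⟩,
    fun E hE ↦ hE.preimage continuous_subtype_val fun s hso hs ↦ (isRetrocompact_iff_trace hso).mp hs,
    fun E E' hE hE' ↦ ⟨fun h ↦ ?_, fun h ↦ Set.preimage_mono h⟩, fun F hF ↦ ?_⟩
  · rw [← Set.sdiff_eq_empty]
    refine diffUnion_induction (P := fun s ↦ (Subtype.val : closedPoints X → X) ⁻¹' s = ∅ → s = ∅)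
      (hE.sdiff hE') (fun U V hU _ hV _ h ↦ eq_empty_of_trace
        (hU.isLocallyClosed.inter hV.isClosed_compl.isLocallyClosed) h)
      (fun s t _ _ hs ht h ↦ ?_) ?_
    · rw [Set.preimage_union, Set.union_empty_iff] at h
      rw [hs h.1, ht h.2, Set.union_empty]
    · rw [Set.preimage_sdiff, Set.sdiff_eq_empty]
      exact h
  · induction hF using Topology.IsConstructible.empty_union_induction with
    | open_retrocompact U hUo hUr =>
      obtain ⟨O, hO, rfl⟩ := isOpen_induced_iff.mp hUo
      exact ⟨O, ((isRetrocompact_iff_trace hO).mpr hUr).isConstructible hO, rfl⟩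
    | union s hs t ht hs' ht' =>
      obtain ⟨A, hA, rfl⟩ := hs'
      obtain ⟨B, hB, rfl⟩ := ht'
      exact ⟨A ∪ B, hA.union hB, rfl⟩
    | compl s hs hs' =>
      obtain ⟨A, hA, rfl⟩ := hs'
      exact ⟨Aᶜ, hA.compl, rfl⟩

end Groth.Agent.S7549
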