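import Groth.Statements.S7550
import Mathlib.Topology.Constructible
import Mathlib.Topology.NoetherianSpace

set_option autoImplicit false
universe u
open PtTop

namespace Groth.Agent.S7550

/-- Let f : X → Y be a continuous and open map of topological spaces, with X Noetherian, every
irreducible closed subset of X having a generic point, and Y Kolmogorov. Then generalizations lift
along f. (Part (1), closed maps are specializing, is a library fact.) -/
theorem result {X Y : Type u} [TopologicalSpace X] [TopologicalSpace Y]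
    [TopologicalSpace.NoetherianSpace X] [QuasiSober X] [T0Space Y]
    (f : X → Y) (hf : Continuous f) (hfo : IsOpenMap f) :
    GeneralizingMap f := by
  open Set in
  intro x y hy
  have hx : x ∈ closure (f ⁻¹' {y}) := mem_closure_iff.mpr fun o ho hxo ↦ by
    obtain ⟨p, hp, hpy⟩ := hy.mem_open (hfo o ho) (mem_image_of_mem f hxo)
    exact ⟨p, hp, hpy⟩
  obtain ⟨S, hSfin, hSc, hSi, hS⟩ :=
    TopologicalSpace.NoetherianSpace.exists_finite_set_isClosed_irreducible
      (isClosed_closure (s := f ⁻¹' {y}))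
  let S' := {Z ∈ S | (Z ∩ f ⁻¹' {y}).Nonempty}
  have hsub : closure (f ⁻¹' {y}) ⊆ ⋃ Z ∈ S', Z := by
    refine closure_minimal (fun p hp ↦ ?_)
      (Set.Finite.isClosed_biUnion (hSfin.subset fun Z hZ ↦ hZ.1) fun Z hZ ↦ hSc Z hZ.1)
    obtain ⟨Z, hZ, hpZ⟩ := (hS ▸ subset_closure hp : p ∈ ⋃₀ S)
    exact mem_iUnion₂.mpr ⟨Z, ⟨hZ, p, hpZ, hp⟩, hpZ⟩
  obtain ⟨Z, ⟨hZ, p, hpZ, hp⟩, hxZ⟩ := mem_iUnion₂.mp (hsub hx)
  obtain ⟨ξ, hξ⟩ := QuasiSober.sober (hSi Z hZ) (hSc Z hZ)
  refine ⟨ξ, hξ.specializes hxZ, ?_⟩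
  have h1 : f ξ ⤳ y := (hp : f p = y) ▸ (hξ.specializes hpZ).map hf
  have h2 : f ξ ∈ closure {y} := by
    have : ξ ∈ closure (f ⁻¹' {y}) := hS ▸ mem_sUnion_of_mem hξ.mem hZ
    exact closure_mono (image_preimage_subset f {y}) (image_closure_subset_closure_image hf
      (mem_image_of_mem f this))
  exact (h1.antisymm (specializes_iff_mem_closure.mpr h2)).eq

end Groth.Agent.S7550
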