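import Groth.Statements.S7551
import Mathlib.Topology.Separation.Basic
import Mathlib.Data.Set.Finite.Basic

set_option autoImplicit false
universe u
open PtTop

namespace Groth.Agent.S7551

/-- Let s, t : R → U and π : U → X be continuous maps between topological spaces satisfying: (1) π is an
open map, (2) U is a sober space, (3) s and t have finite fibres, (4) generalizations lift along s
and along t, and (5) the image of (t, s) : R → U × U is an equivalence relation on U and π
identifies X, as a set, with the quotient of U by it. Then X is Kolmogorov. -/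
theorem result {R U X : Type u}
    [TopologicalSpace R] [TopologicalSpace U] [TopologicalSpace X] [QuasiSober U] [T0Space U]
    (s t : R → U) (π : U → X) (hs : Continuous s) (ht : Continuous t) (hπ : Continuous π)
    (hπo : IsOpenMap π) (hsf : ∀ u, (s ⁻¹' {u}).Finite) (htf : ∀ u, (t ⁻¹' {u}).Finite)
    (hsg : GeneralizingMap s) (htg : GeneralizingMap t)
    (hE : Equivalence fun u u' : U => ∃ r, t r = u ∧ s r = u')
    (hπs : Function.Surjective π) (hπq : ∀ u u' : U, π u = π u' ↔ ∃ r, t r = u ∧ s r = u') :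
    T0Space X := by
  open Set in
  have hfin : ∀ a : X, (π ⁻¹' {a}).Finite := fun a ↦ by
    obtain ⟨u', rfl⟩ := hπs a
    refine ((hsf u').image t).subset fun u hu ↦ ?_
    obtain ⟨r, h1, h2⟩ := (hπq u u').mp hu
    exact ⟨r, h2, h1⟩
  have hlift : ∀ (x x' : X) (u : U), π u = x → x' ⤳ x → ∃ v, π v = x' ∧ v ⤳ u := by
    rintro x x' u rfl h
    have hu : u ∈ closure (π ⁻¹' {x'}) := mem_closure_iff.mpr fun o ho huo ↦ by
      obtain ⟨p, hp, hpx⟩ := h.mem_open (hπo o ho) (mem_image_of_mem π huo)
      exact ⟨p, hp, hpx⟩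
    rw [← biUnion_of_singleton (π ⁻¹' {x'}), (hfin x').closure_biUnion] at hu
    obtain ⟨v, hv, huv⟩ := mem_iUnion₂.mp hu
    exact ⟨v, hv, specializes_iff_mem_closure.mpr huv⟩
  refine ⟨fun x x' hxx' ↦ ?_⟩
  letI : PartialOrder U := specializationOrder U
  obtain ⟨u, rfl, humax⟩ : ∃ u, π u = x ∧ ∀ w, π w = x → u ≤ w → w = u := by
    obtain ⟨u₀, hu₀⟩ := hπs x
    obtain ⟨u, hu⟩ := (hfin x).exists_maximal ⟨u₀, hu₀⟩
    exact ⟨u, hu.1, fun w hw hle ↦ le_antisymm (hu.2 hw hle) hle⟩
  obtain ⟨v, hv, hvu⟩ := hlift (π u) x' u rfl hxx'.specializes'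
  obtain ⟨w, hw, hwv⟩ := hlift x' (π u) v hv hxx'.specializes
  have hwu : w = u := humax w hw (hwv.trans hvu)
  have : v = u := (hvu.antisymm (hwu ▸ hwv)).eq
  rw [← hv, this]

end Groth.Agent.S7551
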