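import Groth.Statements.S7552
import Mathlib.Topology.Sober
import Mathlib.Topology.KrullDimension

set_option autoImplicit false
universe u
open PtTop

namespace Groth.Agent.S7552

/-- Let f : X → Y be a continuous surjective map of topological spaces with Y sober, and assume that
specializations lift along f or that generalizations lift along f. Then dim X ≥ dim Y (Krull
dimensions as suprema of lengths of chains of irreducible closed subsets). -/
theorem result {X Y : Type u}
    [TopologicalSpace X] [TopologicalSpace Y] [QuasiSober Y] [T0Space Y]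
    (f : X → Y) (hf : Continuous f) (hsurj : Function.Surjective f)
    (hlift : SpecializingMap f ∨ GeneralizingMap f) :
    topologicalKrullDim Y ≤ topologicalKrullDim X := by
  open TopologicalSpace Order in
  let mkX : X → IrreducibleCloseds X := fun x ↦
    ⟨closure {x}, isIrreducible_singleton.closure, isClosed_closure⟩
  have hmkle : ∀ x x' : X, x' ⤳ x → mkX x ≤ mkX x' := fun x x' h ↦
    (closure_minimal (Set.singleton_subset_iff.mpr h.mem_closure) isClosed_closure :
      closure {x} ⊆ closure ({x'} : Set X))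
  have hmkeq : ∀ x x' : X, mkX x = mkX x' → f x = f x' := fun x x' h ↦ by
    have h' : closure ({x} : Set X) = closure {x'} := congrArg (fun Z : IrreducibleCloseds X ↦ (Z : Set X)) h
    exact ((specializes_iff_closure_subset.mpr h'.symm.subset).map hf |>.antisymm
      ((specializes_iff_closure_subset.mpr h'.subset).map hf)).eq
  refine iSup_le fun s ↦ ?_
  choose gen hgen using fun Z : IrreducibleCloseds Y ↦ QuasiSober.sober Z.isIrreducible Z.isClosed
  have hgmono : ∀ Z Z' : IrreducibleCloseds Y, Z ≤ Z' → gen Z' ⤳ gen Z := fun Z Z' h ↦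
    (hgen Z').specializes (h (hgen Z).mem)
  have hginj : ∀ Z Z' : IrreducibleCloseds Y, gen Z = gen Z' → Z = Z' := fun Z Z' h ↦
    IrreducibleCloseds.ext ((hgen Z).def.symm.trans ((congrArg (fun y ↦ closure ({y} : Set Y)) h).trans (hgen Z').def))
  let y : ℕ → Y := fun i ↦ gen (s ⟨min i s.length, by omega⟩)
  have hy : ∀ i j, i ≤ j → y j ⤳ y i := fun i j hij ↦ hgmono _ _ (s.monotone (by
    simp only [Fin.mk_le_mk]
    omega))
  have hyinj : ∀ i j, i < j → j ≤ s.length → y i ≠ y j := fun i j hij hj h ↦ by
    have h1 := congrArg Fin.val (s.strictMono.injective (hginj _ _ h))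
    simp only at h1
    omega
  obtain ⟨x, hxy, hxspec⟩ : ∃ x : ℕ → X, (∀ i, i ≤ s.length → f (x i) = y i) ∧
      ∀ i, i < s.length → x (i + 1) ⤳ x i := by
    rcases hlift with hs | hg
    · have step : ∀ (i : ℕ) (a : X), f a = y (s.length - i) →
          ∃ b, f b = y (s.length - (i + 1)) ∧ a ⤳ b := fun i a ha ↦ by
        obtain ⟨b, hb, hfb⟩ := hs (show f a ⤳ y (s.length - (i + 1)) from ha ▸ hy _ _ (by omega))
        exact ⟨b, hfb, hb⟩
      choose b hb1 hb2 using step
      let z : ∀ i, {a : X // f a = y (s.length - i)} := fun i ↦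
        Nat.rec ⟨(hsurj (y (s.length - 0))).choose, (hsurj (y (s.length - 0))).choose_spec⟩
          (fun i a ↦ ⟨b i a.1 a.2, hb1 i a.1 a.2⟩) i
      refine ⟨fun i ↦ (z (s.length - i)).1, fun i hi ↦ ?_, fun i hi ↦ ?_⟩
      · rw [(z (s.length - i)).2]
        congr 1
        omega
      · have key : ∀ m n, n = m + 1 → (z m).1 ⤳ (z n).1 := by
          rintro m _ rfl
          exact hb2 m (z m).1 (z m).2
        exact key _ _ (by omega)
    · have step : ∀ (i : ℕ) (a : X), f a = y i → ∃ b, f b = y (i + 1) ∧ b ⤳ a := fun i a ha ↦ by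
        obtain ⟨b, hb, hfb⟩ := hg (show y (i + 1) ⤳ f a from ha ▸ hy _ _ (Nat.le_succ i))
        exact ⟨b, hfb, hb⟩
      choose b hb1 hb2 using step
      let z : ∀ i, {a : X // f a = y i} := fun i ↦
        Nat.rec ⟨(hsurj (y 0)).choose, (hsurj (y 0)).choose_spec⟩
          (fun i a ↦ ⟨b i a.1 a.2, hb1 i a.1 a.2⟩) i
      exact ⟨fun i ↦ (z i).1, fun i _ ↦ (z i).2, fun i _ ↦ hb2 i (z i).1 (z i).2⟩
  refine le_iSup_of_le (α := WithBot ℕ∞)
    { length := s.length, toFun := fun i ↦ mkX (x i), step := fun i ↦ ?_ } le_rfl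
  refine lt_of_le_of_ne (hmkle _ _ (hxspec i i.2)) fun h ↦ ?_
  have := hmkeq _ _ h
  simp only [Fin.val_castSucc, Fin.val_succ] at this
  rw [hxy i (by omega), hxy (i + 1) (by omega)] at this
  exact hyinj i (i + 1) (by omega) (by omega) this

end Groth.Agent.S7552
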