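import Groth.Statements.S7554
import Mathlib.Topology.GDelta.Basic

set_option autoImplicit false
universe u
open PtTop

namespace Groth.Agent.S7554

/-- Let X be a topological space with an open covering X = ⋃ U_i and let T ⊆ X. If T ∩ U_i is nowhere
dense in U_i (with the induced topology) for every i, then T is nowhere dense in X. -/
theorem result {X : Type u} [TopologicalSpace X] {ι : Type u}
    (U : ι → Set X) (hU : ∀ i, IsOpen (U i)) (hcov : ⋃ i, U i = Set.univ) (T : Set X)
    (hT : ∀ i, IsNowhereDense ((Subtype.val : U i → X) ⁻¹' T)) :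
    IsNowhereDense T := by
  open Set in
  rw [IsNowhereDense, eq_empty_iff_forall_notMem]
  intro x hx
  obtain ⟨i, hi⟩ := mem_iUnion.mp (hcov.symm ▸ mem_univ x)
  have h : (⟨x, hi⟩ : U i) ∈ interior (closure ((Subtype.val : U i → X) ⁻¹' T)) := by
    refine interior_maximal (fun (y : U i) (hy : y ∈ Subtype.val ⁻¹' interior (closure T)) ↦ ?_)
      (isOpen_interior.preimage continuous_subtype_val) hx
    rw [closure_subtype, Subtype.image_preimage_coe]
    exact (hU i).inter_closure ⟨y.2, interior_subset hy⟩
  rw [hT i] at h
  exact h

end Groth.Agent.S7554
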