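import Groth.Statements.S7555
import Mathlib.Topology.Separation.Hausdorff

set_option autoImplicit false
universe u
open PtTop

namespace Groth.Agent.S7555

/-- Let f : X → X be a surjective continuous self-map of a Hausdorff topological space with f ≠ id. Then
there is a closed subset E ⊊ X such that X = E ∪ f(E). -/
theorem result {X : Type u} [TopologicalSpace X] [T2Space X]
    (f : X → X) (hf : Continuous f) (hsurj : Function.Surjective f) (hne : f ≠ id) :
    ∃ E : Set X, IsClosed E ∧ E ≠ Set.univ ∧ E ∪ f '' E = Set.univ := by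
  open Set in
  obtain ⟨x, hx⟩ : ∃ x, f x ≠ x := by
    by_contra h
    exact hne (funext fun x ↦ not_not.mp fun hx ↦ h ⟨x, hx⟩)
  obtain ⟨A, B, hA, hB, hfxA, hxB, hAB⟩ := t2_separation hx
  refine ⟨(B ∩ f ⁻¹' A)ᶜ, (hB.inter (hA.preimage hf)).isClosed_compl,
    fun h ↦ (h ▸ mem_univ x : x ∈ (B ∩ f ⁻¹' A)ᶜ) ⟨hxB, hfxA⟩, eq_univ_of_forall fun w ↦ ?_⟩
  by_cases hw : w ∈ (B ∩ f ⁻¹' A)ᶜ
  · exact .inl hw
  · obtain ⟨z, rfl⟩ := hsurj w
    refine .inr ⟨z, fun hz ↦ ?_, rfl⟩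
    exact disjoint_left.mp hAB hz.2 (not_not.mp hw).1

end Groth.Agent.S7555
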