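import Groth.Statements.S7556
import Mathlib.Topology.ExtremallyDisconnected
import Mathlib.Topology.Homeomorph.Lemmas

set_option autoImplicit false
universe u
open PtTop

namespace Groth.Agent.S7556
def Disc (X : Type u) : Type u := X

instance (X : Type u) : TopologicalSpace (Disc X) := ⊥

instance (X : Type u) : DiscreteTopology (Disc X) := ⟨rfl⟩

/-- The underlying map. -/
def unDisc {X : Type u} (x : Disc X) : X := x

/-- A surjective self-map over the base of a minimal cover is the identity. -/
theorem eq_id_of_minimal {E X : Type*} [TopologicalSpace E] [T2Space E] (p : E → X)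
    (hp : Function.Surjective p)
    (hmin : ∀ F : Set E, IsClosed F → F ≠ Set.univ → p '' F ≠ Set.univ)
    (g : E → E) (hg : Continuous g) (hgs : Function.Surjective g) (hpg : ∀ e, p (g e) = p e) :
    g = id := by
  funext e
  by_contra hne
  obtain ⟨U, V, hU, hV, hgU, heV, hd⟩ := t2_separation hne
  have hW : IsOpen (V ∩ g ⁻¹' U) := hV.inter (hU.preimage hg)
  have := hmin _ hW.isClosed_compl fun h ↦ (Set.compl_univ_iff.mp h).subset ⟨heV, hgU⟩
  obtain ⟨x, hx⟩ := (Set.ne_univ_iff_exists_notMem _).mp this
  obtain ⟨e', rfl⟩ := hp x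
  obtain ⟨e'', rfl⟩ := hgs e'
  have h1 : e'' ∈ V ∩ g ⁻¹' U := by
    by_contra h
    exact hx ⟨e'', h, (hpg e'').symm⟩
  have h2 : g e'' ∈ V ∩ g ⁻¹' U := by
    by_contra h
    exact hx ⟨g e'', h, rfl⟩
  exact Set.disjoint_left.mp hd h1.2 h2.1

theorem surjective_over {E F X : Type*} [TopologicalSpace E] [CompactSpace E] [TopologicalSpace F]
    [T2Space F] (q : F → X) (hmin : ∀ A : Set F, IsClosed A → A ≠ Set.univ → q '' A ≠ Set.univ)
    (p : E → X) (hp : Function.Surjective p) (h : E → F) (hh : Continuous h) (hqh : ∀ e, q (h e) = p e) :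
    Function.Surjective h := by
  refine Set.range_eq_univ.mp ?_
  by_contra hne
  refine hmin _ (isCompact_range hh).isClosed hne (Set.eq_univ_of_forall fun x ↦ ?_)
  obtain ⟨e, rfl⟩ := hp x
  exact ⟨h e, ⟨e, rfl⟩, hqh e⟩


/-- Let X be a quasi-compact Hausdorff space. There is a continuous surjection p : X' → X with X'
quasi-compact, Hausdorff and extremally disconnected such that no proper closed subset of X' maps
onto X; and if q : X'' → X is a second cover with the same properties, there is a homeomorphism X' ≃
X'' compatible with p and q. -/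
theorem result (X : Type u) [TopologicalSpace X] [CompactSpace X] [T2Space X] :
    (∃ (X' : Type u) (_ : TopologicalSpace X') (_ : CompactSpace X') (_ : T2Space X') (_ : ExtremallyDisconnected X')
        (p : X' → X), Continuous p ∧ Function.Surjective p ∧
        ∀ E : Set X', IsClosed E → E ≠ Set.univ → p '' E ≠ Set.univ) ∧
    (∀ (X' X'' : Type u) [TopologicalSpace X'] [CompactSpace X'] [T2Space X'] [ExtremallyDisconnected X']
        [TopologicalSpace X''] [CompactSpace X''] [T2Space X''] [ExtremallyDisconnected X'']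
        (p : X' → X) (q : X'' → X),
        Continuous p → Function.Surjective p → (∀ E : Set X', IsClosed E → E ≠ Set.univ → p '' E ≠ Set.univ) →
        Continuous q → Function.Surjective q → (∀ E : Set X'', IsClosed E → E ≠ Set.univ → q '' E ≠ Set.univ) →
        ∃ h : X' ≃ₜ X'', q ∘ h = p) := by
  constructor
  · let p₀ : StoneCech (Disc X) → X :=
      stoneCechExtend (continuous_of_discreteTopology (f := @unDisc X))
    have hp₀c : Continuous p₀ := continuous_stoneCechExtend _
    have hp₀s : Function.Surjective p₀ := fun x ↦ ⟨stoneCechUnit (α := Disc X) x, by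
      exact congrFun (stoneCechExtend_extends
        (continuous_of_discreteTopology (f := @unDisc X))) x⟩
    obtain ⟨E, hEc, hEs, hEmin⟩ := exists_compact_surjective_zorn_subset hp₀c hp₀s
    let p : E → X := fun e ↦ p₀ e
    have hpc : Continuous p := hp₀c.comp continuous_subtype_val
    have hps : Function.Surjective p := fun x ↦ by
      obtain ⟨d, hd, rfl⟩ := hEs.superset (Set.mem_univ x)
      exact ⟨⟨d, hd⟩, rfl⟩
    have hmin : ∀ F : Set E, IsClosed F → F ≠ Set.univ → p '' F ≠ Set.univ :=
      fun F hF hne ↦ hEmin F hne hF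
    obtain ⟨h, hhc, hh⟩ := StoneCech.projective (X := Disc X) hp₀c hpc hps
    have hid := eq_id_of_minimal p hps hmin (fun e : E ↦ h e) (hhc.comp continuous_subtype_val)
      (surjective_over p hmin p hps _ (hhc.comp continuous_subtype_val) (fun e ↦ congrFun hh e))
      (fun e ↦ congrFun hh e)
    have hproj : CompactT2.Projective E := by
      intro Y Z _ _ _ _ _ _ f g hf hg hgs
      obtain ⟨k, hk, hgk⟩ := StoneCech.projective (X := Disc X) (hf.comp hhc) hg hgs
      exact ⟨k ∘ Subtype.val, hk.comp continuous_subtype_val, funext fun e ↦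
        (congrFun hgk e).trans (congrArg f (congrFun hid e))⟩
    exact ⟨E, inferInstance, hEc, inferInstance, hproj.extremallyDisconnected, p, hpc, hps, hmin⟩
  · intro X' X'' _ _ _ _ _ _ _ _ p q hpc hps hpmin hqc hqs hqmin
    obtain ⟨h, hhc, hh⟩ := CompactT2.ExtremallyDisconnected.projective hpc hqc hqs
    obtain ⟨k, hkc, hk⟩ := CompactT2.ExtremallyDisconnected.projective hqc hpc hps
    have hs := surjective_over q hqmin p hps h hhc (congrFun hh)
    have ks := surjective_over p hpmin q hqs k hkc (congrFun hk)
    have h1 := eq_id_of_minimal p hps hpmin (k ∘ h) (hkc.comp hhc) (ks.comp hs)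
      (fun e ↦ (congrFun hk (h e)).trans (congrFun hh e))
    have h2 := eq_id_of_minimal q hqs hqmin (h ∘ k) (hhc.comp hkc) (hs.comp ks)
      (fun e ↦ (congrFun hh (k e)).trans (congrFun hk e))
    exact ⟨⟨⟨h, k, congrFun h1, congrFun h2⟩, hhc, hkc⟩, hh⟩

end Groth.Agent.S7556
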