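import Groth.Statements.S7557
import Mathlib.Topology.Category.TopCommRingCat
import Mathlib.Topology.Category.TopCat.Limits.Basic
import Mathlib.Algebra.Category.Ring.Limits

set_option autoImplicit false
universe u
open CategoryTheory CategoryTheory.Limits
open PtTop

namespace Groth.Agent.S7557
section

variable {J : Type u} [SmallCategory J] (F : J ⥤ TopCommRingCat.{u})

/-- The limit of the underlying rings. -/
noncomputable abbrev baseCone : Cone (F ⋙ forget₂ TopCommRingCat.{u} CommRingCat.{u}) :=
  limit.cone _

/-- The projection to the `j`-th ring. -/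
noncomputable def proj (j : J) : (baseCone F).pt →+* (F.obj j) := ((baseCone F).π.app j).hom

/-- The coarsest topology making the projections continuous. -/
@[instance_reducible]
noncomputable def top : TopologicalSpace (baseCone F).pt :=
  ⨅ j, TopologicalSpace.induced (proj F j) (F.obj j).isTopologicalSpace

theorem isTopRing : @IsTopologicalRing (baseCone F).pt (top F) _ := by
  letI := top F
  have hp : ∀ j, Continuous (proj F j) := fun j ↦ continuous_iInf_dom continuous_induced_dom
  have hadd : ContinuousAdd (baseCone F).pt := ⟨continuous_iInf_rng.mpr fun j ↦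
    continuous_induced_rng.mpr (by
      rw [show (proj F j : _ → _) ∘ (fun p : (baseCone F).pt × (baseCone F).pt ↦ p.1 + p.2) =
        fun p ↦ proj F j p.1 + proj F j p.2 from funext fun p ↦ map_add _ _ _]
      exact ((hp j).comp continuous_fst).add ((hp j).comp continuous_snd))⟩
  have hmul : ContinuousMul (baseCone F).pt := ⟨continuous_iInf_rng.mpr fun j ↦
    continuous_induced_rng.mpr (by
      rw [show (proj F j : _ → _) ∘ (fun p : (baseCone F).pt × (baseCone F).pt ↦ p.1 * p.2) =
        fun p ↦ proj F j p.1 * proj F j p.2 from funext fun p ↦ map_mul _ _ _]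
      exact ((hp j).comp continuous_fst).mul ((hp j).comp continuous_snd))⟩
  have hneg : ContinuousNeg (baseCone F).pt := ⟨continuous_iInf_rng.mpr fun j ↦
    continuous_induced_rng.mpr (by
      rw [show (proj F j : _ → _) ∘ (fun p : (baseCone F).pt ↦ -p) = fun p ↦ -proj F j p from
        funext fun p ↦ map_neg _ _]
      exact (hp j).neg)⟩
  exact { toContinuousNeg := hneg, continuous_add := hadd.1, continuous_mul := hmul.1 }

/-- The cone in topological rings. -/
noncomputable def cone : Cone F where
  pt := @TopCommRingCat.of (baseCone F).pt _ (top F) (isTopRing F)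
  π :=
    { app j := ⟨proj F j, by
        letI := top F
        exact continuous_iInf_dom continuous_induced_dom⟩
      naturality j j' f := by
        apply Subtype.ext
        exact congrArg CommRingCat.Hom.hom ((baseCone F).π.naturality f) }

/-- The cone is a limit cone. -/
noncomputable def isLimitCone : IsLimit (cone F) where
  lift s := ⟨((limit.isLimit _).lift ((forget₂ TopCommRingCat.{u} CommRingCat.{u}).mapCone s)).hom,
    continuous_iInf_rng.mpr fun j ↦ continuous_induced_rng.mpr (by
      have h := congrArg CommRingCat.Hom.hom
        ((limit.isLimit _).fac ((forget₂ TopCommRingCat.{u} CommRingCat.{u}).mapCone s) j)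
      exact Eq.subst (motive := fun g : s.pt →+* (F.obj j) ↦ Continuous g) h.symm (s.π.app j).2)⟩
  fac s j := Subtype.ext (congrArg CommRingCat.Hom.hom
    ((limit.isLimit _).fac ((forget₂ TopCommRingCat.{u} CommRingCat.{u}).mapCone s) j))
  uniq s m hm := by
    apply Subtype.ext
    exact congrArg CommRingCat.Hom.hom ((limit.isLimit _).uniq
      ((forget₂ TopCommRingCat.{u} CommRingCat.{u}).mapCone s) (CommRingCat.ofHom m.1)
      (fun j ↦ CommRingCat.hom_ext (congrArg Subtype.val (hm j))))

theorem preservesTop : PreservesLimit F (forget₂ TopCommRingCat.{u} TopCat.{u}) :=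
  preservesLimit_of_preserves_limit_cone (isLimitCone F) ((TopCat.nonempty_isLimit_iff_eq_induced
    ((forget₂ TopCommRingCat.{u} TopCat.{u}).mapCone (cone F))
    (isLimitOfPreserves (forget CommRingCat.{u}) (limit.isLimit _))).mpr rfl).some

theorem preservesRing : PreservesLimit F (forget₂ TopCommRingCat.{u} CommRingCat.{u}) :=
  preservesLimit_of_preserves_limit_cone (isLimitCone F) (limit.isLimit _)

end


/-- The category of topological rings (commutative, with continuous ring homomorphisms) has limits, and
limits commute with the forgetful functors to topological spaces and to rings. -/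
theorem result :
    HasLimits TopCommRingCat.{u} ∧
    PreservesLimits (forget₂ TopCommRingCat.{u} TopCat.{u}) ∧
    PreservesLimits (forget₂ TopCommRingCat.{u} CommRingCat.{u}) := by
  refine ⟨⟨fun J _ ↦ ⟨fun F ↦ ⟨⟨cone F, isLimitCone F⟩⟩⟩⟩, ⟨fun {J} _ ↦ ⟨fun {F} ↦ preservesTop F⟩⟩,
    ⟨fun {J} _ ↦ ⟨fun {F} ↦ preservesRing F⟩⟩⟩

end Groth.Agent.S7557
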