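import Groth.Statements.S7558
import Mathlib.Topology.Category.TopCommRingCat
import Mathlib.Algebra.Category.Ring.Colimits

set_option autoImplicit false
universe u
open CategoryTheory CategoryTheory.Limits
open PtTop

namespace Groth.Agent.S7558
section

variable {J : Type u} [SmallCategory J] (F : J ⥤ TopCommRingCat.{u})

/-- The colimit of the underlying rings. -/
noncomputable abbrev baseCocone : Cocone (F ⋙ forget₂ TopCommRingCat.{u} CommRingCat.{u}) :=
  colimit.cocone _

/-- The map from the `j`-th ring. -/
noncomputable def incl (j : J) : (F.obj j) →+* (baseCocone F).pt := ((baseCocone F).ι.app j).hom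

/-- Ring topologies making all maps into the colimit continuous. -/
def admissible : Set (TopologicalSpace (baseCocone F).pt) :=
  {t | @IsTopologicalRing _ t _ ∧ ∀ j, @Continuous _ _ (F.obj j).isTopologicalSpace t (incl F j)}

/-- The finest such topology. -/
@[instance_reducible]
noncomputable def top : TopologicalSpace (baseCocone F).pt := sInf (admissible F)

theorem isTopRing : @IsTopologicalRing (baseCocone F).pt (top F) _ := by
  letI := top F
  have hadd : ContinuousAdd (baseCocone F).pt := continuousAdd_sInf fun t ht ↦
    @IsTopologicalSemiring.toContinuousAdd _ t _ (@IsTopologicalRing.toIsTopologicalSemiring _ t _ ht.1)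
  have hmul : ContinuousMul (baseCocone F).pt := continuousMul_sInf fun t ht ↦
    @IsTopologicalSemiring.toContinuousMul _ t _ (@IsTopologicalRing.toIsTopologicalSemiring _ t _ ht.1)
  have hneg : ContinuousNeg (baseCocone F).pt := ⟨continuous_sInf_rng.mpr fun t ht ↦
    continuous_sInf_dom ht (@ContinuousNeg.continuous_neg _ t _
      (@IsTopologicalRing.toContinuousNeg _ t _ ht.1))⟩
  exact { toContinuousNeg := hneg, continuous_add := hadd.1, continuous_mul := hmul.1 }

/-- The cocone in topological rings. -/
noncomputable def cocone : Cocone F where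
  pt := @TopCommRingCat.of (baseCocone F).pt _ (top F) (isTopRing F)
  ι :=
    { app j := ⟨incl F j, continuous_sInf_rng.mpr fun t ht ↦ ht.2 j⟩
      naturality j j' f := by
        apply Subtype.ext
        exact congrArg CommRingCat.Hom.hom ((baseCocone F).ι.naturality f) }

theorem induced_mem (S : Type u) [CommRing S] [TopologicalSpace S] [IsTopologicalRing S]
    (g : (baseCocone F).pt →+* S) (hg : ∀ j, Continuous (g.comp (incl F j))) :
    TopologicalSpace.induced g ‹TopologicalSpace S› ∈ admissible F := by
  letI t : TopologicalSpace (baseCocone F).pt := TopologicalSpace.induced g ‹_›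
  have hgc : Continuous g := continuous_induced_dom
  have hadd : ContinuousAdd (baseCocone F).pt := ⟨continuous_induced_rng.mpr (by
    rw [show (g : _ → S) ∘ (fun p : (baseCocone F).pt × (baseCocone F).pt ↦ p.1 + p.2) =
      fun p ↦ g p.1 + g p.2 from funext fun p ↦ map_add _ _ _]
    exact (hgc.comp continuous_fst).add (hgc.comp continuous_snd))⟩
  have hmul : ContinuousMul (baseCocone F).pt := ⟨continuous_induced_rng.mpr (by
    rw [show (g : _ → S) ∘ (fun p : (baseCocone F).pt × (baseCocone F).pt ↦ p.1 * p.2) =
      fun p ↦ g p.1 * g p.2 from funext fun p ↦ map_mul _ _ _]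
    exact (hgc.comp continuous_fst).mul (hgc.comp continuous_snd))⟩
  have hneg : ContinuousNeg (baseCocone F).pt := ⟨continuous_induced_rng.mpr (by
    rw [show (g : _ → S) ∘ (fun p : (baseCocone F).pt ↦ -p) = fun p ↦ -g p from
      funext fun p ↦ map_neg _ _]
    exact hgc.neg)⟩
  exact ⟨{ toContinuousNeg := hneg, continuous_add := hadd.1, continuous_mul := hmul.1 },
    fun j ↦ continuous_induced_rng.mpr (hg j)⟩

/-- The cocone is a colimit cocone. -/
noncomputable def isColimitCocone : IsColimit (cocone F) where
  desc s := ⟨((colimit.isColimit _).desc ((forget₂ TopCommRingCat.{u} CommRingCat.{u}).mapCocone s)).hom,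
    continuous_sInf_dom (induced_mem F s.pt _ fun j ↦ by
      have h := congrArg CommRingCat.Hom.hom
        ((colimit.isColimit _).fac ((forget₂ TopCommRingCat.{u} CommRingCat.{u}).mapCocone s) j)
      exact Eq.subst (motive := fun g : (F.obj j) →+* s.pt ↦ Continuous g) h.symm (s.ι.app j).2)
      continuous_induced_dom⟩
  fac s j := Subtype.ext (congrArg CommRingCat.Hom.hom
    ((colimit.isColimit _).fac ((forget₂ TopCommRingCat.{u} CommRingCat.{u}).mapCocone s) j))
  uniq s m hm := by
    apply Subtype.ext
    exact congrArg CommRingCat.Hom.hom ((colimit.isColimit _).uniq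
      ((forget₂ TopCommRingCat.{u} CommRingCat.{u}).mapCocone s) (CommRingCat.ofHom m.1)
      (fun j ↦ CommRingCat.hom_ext (congrArg Subtype.val (hm j))))

theorem preservesRing : PreservesColimit F (forget₂ TopCommRingCat.{u} CommRingCat.{u}) :=
  preservesColimit_of_preserves_colimit_cocone (isColimitCocone F) (colimit.isColimit _)

end


/-- The category of topological rings (commutative, with continuous ring homomorphisms) has colimits,
and colimits commute with the forgetful functor to rings. -/
theorem result :
    HasColimits TopCommRingCat.{u} ∧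
    PreservesColimits (forget₂ TopCommRingCat.{u} CommRingCat.{u}) := by
  exact ⟨⟨fun J _ ↦ ⟨fun F ↦ ⟨⟨cocone F, isColimitCocone F⟩⟩⟩⟩, ⟨fun {J} _ ↦ ⟨fun {F} ↦ preservesRing F⟩⟩⟩

end Groth.Agent.S7558
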