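import Groth.Statements.S7559
import Groth.Agent.Lib.Spectral.Constructible
import Mathlib.Data.Fintype.Sum
import Mathlib.Data.Fintype.Powerset
import Mathlib.Data.Finite.Sum

set_option autoImplicit false
universe u
open PtTop

namespace Groth.Agent.S7559

/-- Let X be a topological space and X = ∐ P_k a finite partition into locally closed parts. Then there
is a finite stratification of X refining it: a finite partially ordered index set I and pairwise
disjoint locally closed strata S_i covering X with closure(S_j) ⊆ ⋃_{i ≤ j} S_i, such that every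
part P_k is a union of strata. -/
theorem result {X : Type u} [TopologicalSpace X]
    {n : ℕ} (P : Fin n → Set X) (hP : ∀ k, IsLocallyClosed (P k)) (hcov : ⋃ k, P k = Set.univ)
    (hdisj : ∀ k k', k ≠ k' → Disjoint (P k) (P k')) :
    ∃ (I : Type) (_ : Fintype I) (_ : PartialOrder I) (S : I → Set X),
      (∀ i, IsLocallyClosed (S i)) ∧ (⋃ i, S i = Set.univ) ∧ (∀ i j, i ≠ j → Disjoint (S i) (S j)) ∧
      (∀ j, closure (S j) ⊆ ⋃ i ∈ Set.Iic j, S i) ∧
      (∀ i k, (S i ∩ P k).Nonempty → S i ⊆ P k) := by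
  open Groth.Agent.Lib.Spectral.Constructible Set in
  choose U Z hU hZ hPUZ using hP
  let O : Fin n ⊕ Fin n → Set X := Sum.elim U fun k ↦ (Z k)ᶜ
  have hO : ∀ o, IsOpen (O o) := by
    rintro (k | k)
    · exact hU k
    · exact (hZ k).isOpen_compl
  classical
  refine ⟨Set (Fin n ⊕ Fin n), Fintype.ofFinite _, inferInstance, atom O,
    isLocallyClosed_atom O hO, eq_univ_of_forall fun x ↦ mem_iUnion.mpr ⟨_, mem_atom O x⟩,
    fun s t hst ↦ disjoint_left.mpr fun x hs ht ↦ hst (Set.ext fun o ↦ (hs o).symm.trans (ht o)),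
    closure_atom_subset O hO, ?_⟩
  rintro s k ⟨x, hxs, hxk⟩ y hy
  rw [hPUZ k] at hxk ⊢
  exact ⟨(hy (.inl k)).mpr ((hxs (.inl k)).mp hxk.1), by_contra fun hn ↦
    (hxs (.inr k)).mpr ((hy (.inr k)).mp hn) hxk.2⟩

end Groth.Agent.S7559
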