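import Groth.Statements.S7560
import Groth.Agent.Lib.Spectral.Constructible

set_option autoImplicit false
universe u
open ConstrTop

namespace Groth.Agent.S7560

/-- Let X be a topological space written as a finite union X = T_1 ∪ … ∪ T_n of constructible subsets.
Then there is a finite stratification X = ∐ S_i (pairwise disjoint locally closed strata indexed by
a finite partially ordered set, with closure(S_j) ⊆ ⋃_{i ≤ j} S_i) whose strata are constructible
and such that every T_k is a union of strata. -/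
theorem result {X : Type u} [TopologicalSpace X]
    {n : ℕ} (T : Fin n → Set X) (hT : ∀ k, Topology.IsConstructible (T k)) (hcov : ⋃ k, T k = Set.univ) :
    ∃ (I : Type) (_ : Fintype I) (_ : PartialOrder I) (S : I → Set X),
      (∀ i, IsLocallyClosed (S i) ∧ Topology.IsConstructible (S i)) ∧ (⋃ i, S i = Set.univ) ∧
      (∀ i j, i ≠ j → Disjoint (S i) (S j)) ∧
      (∀ j, closure (S j) ⊆ ⋃ i ∈ Set.Iic j, S i) ∧
      (∀ i k, (S i ∩ T k).Nonempty → S i ⊆ T k) := by
  open Groth.Agent.Lib.Spectral.Constructible Set in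
  have hgen : ∀ s : Set X, Topology.IsConstructible s → ∃ 𝒰 : Set (Set X), 𝒰.Finite ∧
      (∀ U ∈ 𝒰, IsOpen U ∧ IsRetrocompact U) ∧
      ∀ x y, (∀ U ∈ 𝒰, x ∈ U ↔ y ∈ U) → (x ∈ s ↔ y ∈ s) := fun s hs ↦ by
    induction hs using Topology.IsConstructible.empty_union_induction with
    | open_retrocompact U h1 h2 =>
      exact ⟨{U}, finite_singleton _, fun V hV ↦ (mem_singleton_iff.mp hV) ▸ ⟨h1, h2⟩,
        fun x y h ↦ h U rfl⟩
    | union s _ t _ hs ht =>
      obtain ⟨A, hA1, hA2, hA3⟩ := hs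
      obtain ⟨B, hB1, hB2, hB3⟩ := ht
      exact ⟨A ∪ B, hA1.union hB1, fun U hU ↦ hU.elim (hA2 U) (hB2 U), fun x y h ↦
        or_congr (hA3 x y fun U hU ↦ h U (.inl hU)) (hB3 x y fun U hU ↦ h U (.inr hU))⟩
    | compl s _ hs =>
      obtain ⟨A, hA1, hA2, hA3⟩ := hs
      exact ⟨A, hA1, hA2, fun x y h ↦ not_congr (hA3 x y h)⟩
  choose 𝒰 hfin hopen hdet using fun k ↦ hgen (T k) (hT k)
  obtain ⟨m, O, hO⟩ := (finite_iUnion hfin).fin_embedding
  have hmem : ∀ i, IsOpen (O i) ∧ IsRetrocompact (O i) := fun i ↦ by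
    obtain ⟨k, hk⟩ := mem_iUnion.mp (hO ▸ mem_range_self i : O i ∈ ⋃ k, 𝒰 k)
    exact hopen k _ hk
  classical
  refine ⟨Set (Fin m), Fintype.ofFinite _, inferInstance, atom O, fun s ↦
    ⟨isLocallyClosed_atom O (fun i ↦ (hmem i).1) s, ?_⟩,
    eq_univ_of_forall fun x ↦ mem_iUnion.mpr ⟨_, mem_atom O x⟩,
    fun s t hst ↦ disjoint_left.mpr fun x hs ht ↦ hst (Set.ext fun o ↦ (hs o).symm.trans (ht o)),
    closure_atom_subset O (fun i ↦ (hmem i).1), ?_⟩
  · rw [atom_eq_inter]
    exact (Topology.IsConstructible.biInter s.toFinite fun i _ ↦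
      (hmem i).2.isConstructible (hmem i).1).inter (Topology.IsConstructible.biInter sᶜ.toFinite
        fun i _ ↦ ((hmem i).2.isConstructible (hmem i).1).compl)
  · rintro s k ⟨x, hxs, hxk⟩ y hy
    refine (hdet k x y fun U hU ↦ ?_).mp hxk
    obtain ⟨i, rfl⟩ : U ∈ range O := hO ▸ mem_iUnion.mpr ⟨k, hU⟩
    exact (hxs i).trans (hy i).symm

end Groth.Agent.S7560
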