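import Groth.Statements.S7561
import Groth.Agent.Lib.Spectral.Noetherian

set_option autoImplicit false
universe u
open PtTop

namespace Groth.Agent.S7561

/-- Let X be a Noetherian topological space and X = ∐ P_k a finite partition into locally closed parts.
Then it is refined by a finite good stratification: a finite partition X = ∐ S_i into locally closed
strata such that S_i ∩ closure(S_j) ≠ ∅ implies S_i ⊆ closure(S_j), with every P_k a union of
strata. -/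
theorem result {X : Type u} [TopologicalSpace X]
    [TopologicalSpace.NoetherianSpace X]
    {n : ℕ} (P : Fin n → Set X) (hP : ∀ k, IsLocallyClosed (P k)) (hcov : ⋃ k, P k = Set.univ)
    (hdisj : ∀ k k', k ≠ k' → Disjoint (P k) (P k')) :
    ∃ (m : ℕ) (S : Fin m → Set X),
      (∀ i, IsLocallyClosed (S i)) ∧ (⋃ i, S i = Set.univ) ∧ (∀ i j, i ≠ j → Disjoint (S i) (S j)) ∧
      (∀ i j, (S i ∩ closure (S j)).Nonempty → S i ⊆ closure (S j)) ∧
      (∀ i k, (S i ∩ P k).Nonempty → S i ⊆ P k) := by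
  open Groth.Agent.Lib.Spectral.Noetherian Set in
  choose U C hU hC hPUC using hP
  obtain ⟨𝒵, hg⟩ := exists_isGood (⊤ : TopologicalSpace.Closeds X)
    (range (fun k ↦ (U k)ᶜ) ∪ range C) ((finite_range _).union (finite_range _)) (by
      rintro A (⟨k, rfl⟩ | ⟨k, rfl⟩)
      · exact (hU k).isClosed_compl
      · exact hC k)
  obtain ⟨m, Z, hZ⟩ := hg.finite.fin_embedding
  have hmem : ∀ i, Z i ∈ 𝒵 := fun i ↦ hZ ▸ mem_range_self i
  have hidx : ∀ W ∈ 𝒵, ∃ i, Z i = W := fun W hW ↦ mem_range.mp (hZ ▸ hW)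
  let S : Fin m → Set X := fun i ↦ Z i \ ⋃ j ∈ {j | Z j ⊂ Z i}, Z j
  have hclosed : ∀ i, IsClosed (⋃ j ∈ {j | Z j ⊂ Z i}, Z j) := fun i ↦
    (toFinite _).isClosed_biUnion fun j _ ↦ (hg.irred _ (hmem j)).1
  have hsub : ∀ i j, (S i ∩ Z j).Nonempty → Z i ⊆ Z j := by
    rintro i j ⟨x, ⟨hxi, hxi'⟩, hxj⟩
    obtain ⟨W, hW, hxW, hWsub⟩ := hg.inter _ (hmem i) _ (hmem j) x ⟨hxi, hxj⟩
    obtain ⟨l, rfl⟩ := hidx W hW
    by_contra hne
    exact hxi' (mem_iUnion₂.mpr ⟨l, ⟨hWsub.trans inter_subset_left,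
      fun h ↦ hne ((h.trans hWsub).trans inter_subset_right)⟩, hxW⟩)
  have hclo : ∀ j, closure (S j) = Z j := fun j ↦ by
    refine subset_antisymm (closure_minimal sdiff_subset (hg.irred _ (hmem j)).1) ?_
    obtain ⟨x, hxS⟩ : ∃ x, x ∈ S j := by
      by_contra hemp
      classical
      obtain ⟨W, hW, hjW⟩ := isIrreducible_iff_sUnion_isClosed.mp (hg.irred _ (hmem j)).2.1
        ((toFinite {l | Z l ⊂ Z j}).toFinset.image Z) (by
          simp only [Finset.forall_mem_image]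
          exact fun l _ ↦ (hg.irred _ (hmem l)).1)
        (fun x hx ↦ by
          simp only [Finset.coe_image, Finite.coe_toFinset, sUnion_image]
          exact by_contra fun hn ↦ hemp ⟨x, hx, hn⟩)
      obtain ⟨l, hl, rfl⟩ := Finset.mem_image.mp hW
      exact ((toFinite _).mem_toFinset.mp hl).2 hjW
    have h := subset_closure_of_isOpen (hg.irred _ (hmem j)).2.1.2 (hclosed j).isOpen_compl
      ⟨x, hxS.2, hxS.1⟩
    exact h.trans (closure_mono fun y hy ↦ ⟨hy.2, hy.1⟩)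
  -- the strata as a finite family without repetition
  have hZinj : ∀ i j, (S i ∩ S j).Nonempty → Z i = Z j := fun i j ⟨x, hi, hj⟩ ↦
    subset_antisymm (hsub i j ⟨x, hi, hj.1⟩) (hsub j i ⟨x, hj, hi.1⟩)
  refine ⟨m, S, fun i ↦ ⟨_, _, (hclosed i).isOpen_compl, (hg.irred _ (hmem i)).1,
    sdiff_eq.trans (inter_comm _ _)⟩, eq_univ_of_forall fun x ↦ ?_, fun i j hij ↦ ?_,
    fun i j hne ↦ ?_, fun i k hne ↦ ?_⟩
  · obtain ⟨W, hW, hxW⟩ := hg.cover x trivial
    obtain ⟨i₀, rfl⟩ := hidx W hW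
    obtain ⟨i, hle, hmin⟩ := (toFinite {i | x ∈ Z i}).exists_minimalFor Z _ ⟨i₀, hxW⟩
    refine mem_iUnion.mpr ⟨i, hle, fun hx ↦ ?_⟩
    obtain ⟨l, hl, hxl⟩ := mem_iUnion₂.mp hx
    exact hl.2 (hmin hxl hl.1)
  · refine disjoint_iff_inter_eq_empty.mpr (not_nonempty_iff_eq_empty.mp fun h ↦ hij ?_)
    exact Z.injective (hZinj i j h)
  · rw [hclo j] at hne ⊢
    exact sdiff_subset.trans (hsub i j hne)
  · obtain ⟨x, hxS, hxP⟩ := hne
    rw [hPUC k] at hxP ⊢
    intro y hy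
    constructor
    · by_contra hyU
      obtain ⟨W, hW, hyW, hWU⟩ := hg.refines _ (.inl ⟨k, rfl⟩) y ⟨hyU, trivial⟩
      obtain ⟨l, rfl⟩ := hidx W hW
      exact hWU (hsub i l ⟨y, hy, hyW⟩ hxS.1) hxP.1
    · obtain ⟨W, hW, hxW, hWC⟩ := hg.refines _ (.inr ⟨k, rfl⟩) x ⟨hxP.2, trivial⟩
      obtain ⟨l, rfl⟩ := hidx W hW
      exact hWC (hsub i l ⟨x, hxS, hxW⟩ hy.1)

end Groth.Agent.S7561
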