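import Groth.Statements.S7562
import Mathlib.Topology.LocallyClosed

set_option autoImplicit false
universe u
open PtTop

namespace Groth.Agent.S7562

/-- Let f : X → Y be a surjective closed continuous map of topological spaces and T ⊆ Y. Then the
closure of T equals f applied to the closure of f⁻¹(T), and T is locally closed in Y if and only if
f⁻¹(T) is locally closed in X. The published statement also asserts that Y carries the quotient
topology of X; this row states the closure formula and the locally-closed equivalence only. -/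
theorem result {X Y : Type u} [TopologicalSpace X] [TopologicalSpace Y]
    (f : X → Y) (hf : Continuous f) (hc : IsClosedMap f) (hs : Function.Surjective f) (T : Set Y) :
    closure T = f '' closure (f ⁻¹' T) ∧ (IsLocallyClosed T ↔ IsLocallyClosed (f ⁻¹' T)) := by
  open Set in
  have hclo : closure T = f '' closure (f ⁻¹' T) := by
    refine subset_antisymm (closure_minimal ?_ (hc _ isClosed_closure)) ?_
    · intro y hy
      obtain ⟨x, rfl⟩ := hs y
      exact ⟨x, subset_closure hy, rfl⟩
    · exact (image_closure_subset_closure_image hf).trans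
        (closure_mono (image_preimage_subset f T))
  refine ⟨hclo, fun h ↦ h.preimage hf, fun h ↦ ?_⟩
  have hcl : IsClosed (closure (f ⁻¹' T) \ f ⁻¹' T) := by
    obtain ⟨O, C, hO, hC, heq⟩ := h
    have he : closure (f ⁻¹' T) \ f ⁻¹' T = closure (f ⁻¹' T) ∩ Oᶜ := by
      ext x
      refine ⟨fun ⟨h1, h2⟩ ↦ ⟨h1, fun hx ↦ h2 ?_⟩, fun ⟨h1, h2⟩ ↦ ⟨h1, fun hx ↦ h2 (heq ▸ hx).1⟩⟩
      rw [heq]
      exact ⟨hx, closure_minimal (heq ▸ inter_subset_right) hC h1⟩
    rw [he]
    exact isClosed_closure.inter hO.isClosed_compl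
  refine ⟨(f '' (closure (f ⁻¹' T) \ f ⁻¹' T))ᶜ, closure T, (hc _ hcl).isOpen_compl,
    isClosed_closure, ?_⟩
  ext y
  constructor
  · intro hy
    exact ⟨fun ⟨x, hx, hxy⟩ ↦ hx.2 (show f x ∈ T from hxy ▸ hy), subset_closure hy⟩
  · rintro ⟨h1, h2⟩
    obtain ⟨x, hx, rfl⟩ := hclo ▸ h2
    exact by_contra fun hT ↦ h1 ⟨x, ⟨hx, hT⟩, rfl⟩

end Groth.Agent.S7562
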