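import Groth.Statements.S7563
import Mathlib.Topology.Irreducible

set_option autoImplicit false
universe u
open PtTop

namespace Groth.Agent.S7563

/-- Let X be a topological space and X = X_1 ∪ … ∪ X_n with each X_i irreducible and closed and no X_i
contained in the union of the others. Then the irreducible components of X are precisely the sets
X_1, …, X_n. -/
theorem result {X : Type u} [TopologicalSpace X]
    {n : ℕ} (Z : Fin n → Set X) (hZ : ∀ i, IsIrreducible (Z i) ∧ IsClosed (Z i))
    (hcov : ⋃ i, Z i = Set.univ) (hirr : ∀ i, ¬ Z i ⊆ ⋃ j ∈ ({i}ᶜ : Set (Fin n)), Z j) :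
    irreducibleComponents X = Set.range Z := by
  open Set in
  classical
  have hfind : ∀ W : Set X, IsIrreducible W → ∃ i, W ⊆ Z i := fun W hW ↦ by
    obtain ⟨C, hC, hWC⟩ := isIrreducible_iff_sUnion_isClosed.mp hW (Finset.univ.image Z)
      (by simp only [Finset.forall_mem_image]; exact fun i _ ↦ (hZ i).2)
      (by simp [Set.sUnion_range, hcov])
    obtain ⟨i, -, rfl⟩ := Finset.mem_image.mp hC
    exact ⟨i, hWC⟩
  ext W
  constructor
  · intro hW
    obtain ⟨i, hi⟩ := hfind W hW.1
    exact ⟨i, subset_antisymm (hW.2 (hZ i).1 hi) hi⟩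
  · rintro ⟨i, rfl⟩
    refine ⟨(hZ i).1, fun W hW hiW ↦ ?_⟩
    obtain ⟨j, hj⟩ := hfind W hW
    rcases eq_or_ne j i with rfl | hne
    · exact hj
    · exact absurd ((hiW.trans hj).trans (subset_biUnion_of_mem (u := Z) hne)) (hirr i)

end Groth.Agent.S7563
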