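import Groth.Statements.S7564
import Mathlib.Topology.Irreducible
import Mathlib.Data.Set.Card

set_option autoImplicit false
universe u
open PtTop

namespace Groth.Agent.S7564

/-- For a continuous surjection f : X → Y, if X has finitely many irreducible components, say n of them,
then Y has at most n irreducible components. -/
theorem result {X Y : Type u} [TopologicalSpace X] [TopologicalSpace Y]
    (f : X → Y) (hf : Continuous f) (hs : Function.Surjective f) (hfin : (irreducibleComponents X).Finite) :
    (irreducibleComponents Y).Finite ∧ (irreducibleComponents Y).ncard ≤ (irreducibleComponents X).ncard := by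
  open Set in
  classical
  let g : Set X → Set Y := fun C ↦ closure (f '' C)
  have hsub : irreducibleComponents Y ⊆ g '' irreducibleComponents X := by
    intro W hW
    obtain ⟨D, hD, hWD⟩ := isIrreducible_iff_sUnion_isClosed.mp hW.1 (hfin.toFinset.image g)
      (by simp only [Finset.forall_mem_image]; exact fun C _ ↦ (isClosed_closure : IsClosed (closure (f '' C)))) (fun w _ ↦ by
        obtain ⟨x, rfl⟩ := hs w
        obtain ⟨C, hC, hxC⟩ : x ∈ ⋃₀ irreducibleComponents X :=
          (sUnion_irreducibleComponents (X := X)).symm ▸ mem_univ x
        exact mem_sUnion.mpr ⟨g C, Finset.mem_image.mpr ⟨C, hfin.mem_toFinset.mpr hC, rfl⟩,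
          subset_closure (mem_image_of_mem f hxC)⟩)
    obtain ⟨C, hC, rfl⟩ := Finset.mem_image.mp hD
    have hCc := hfin.mem_toFinset.mp hC
    exact ⟨C, hCc, subset_antisymm (hW.2 (hCc.1.image f hf.continuousOn).closure hWD) hWD⟩
  exact ⟨(hfin.image g).subset hsub,
    (ncard_le_ncard hsub (hfin.image g)).trans (ncard_image_le hfin)⟩

end Groth.Agent.S7564
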