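import Groth.Statements.S7565
import Mathlib.Topology.NoetherianSpace

set_option autoImplicit false
universe u
open PtTop

namespace Groth.Agent.S7565

/-- Let f : X → Y be a continuous open map of topological spaces and assume every point of X has a
Noetherian neighbourhood. Then every point of f(X) (with the induced topology) has a Noetherian
neighbourhood. The published statement also asserts that a continuous image of a Noetherian space is
Noetherian; this row states the part about open maps and locally Noetherian spaces. -/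
theorem result {X Y : Type u} [TopologicalSpace X] [TopologicalSpace Y]
    (f : X → Y) (hf : Continuous f) (hfo : IsOpenMap f)
    (hX : ∀ x : X, ∃ E ∈ nhds x, TopologicalSpace.NoetherianSpace E) :
    ∀ y : Set.range f, ∃ E : Set (Set.range f), E ∈ nhds y ∧ TopologicalSpace.NoetherianSpace E := by
  open Set in
  rintro ⟨_, x, rfl⟩
  obtain ⟨E, hE, hEn⟩ := hX x
  obtain ⟨O, hOE, hO, hxO⟩ := mem_nhds_iff.mp hE
  refine ⟨Subtype.val ⁻¹' (f '' O), ((hfo O hO).preimage continuous_subtype_val).mem_nhds
    ⟨x, hxO, rfl⟩, ?_⟩
  rw [TopologicalSpace.noetherianSpace_set_iff]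
  intro t ht
  rw [Topology.IsEmbedding.subtypeVal.isCompact_iff]
  have heq : Subtype.val '' t = f '' (E ∩ f ⁻¹' (Subtype.val '' t) ∩ O) := by
    refine subset_antisymm (fun y hy ↦ ?_) ?_
    · obtain ⟨z, hz, rfl⟩ := hy
      obtain ⟨p, hp, hpz⟩ := ht hz
      exact ⟨p, ⟨⟨hOE hp, z, hz, hpz.symm⟩, hp⟩, hpz⟩
    · rintro _ ⟨p, hp, rfl⟩
      exact hp.1.2
  rw [heq]
  exact ((TopologicalSpace.noetherianSpace_set_iff E).mp hEn _
    (inter_subset_left.trans inter_subset_left)).image hf

end Groth.Agent.S7565
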