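import Groth.Statements.S7567
import Groth.Agent.Lib.Spectral.Connected

set_option autoImplicit false
universe u
open PtTop

namespace Groth.Agent.S7567

/-- Let X be a quasi-compact topological space whose quasi-compact opens form a basis, any two of them
meeting in a quasi-compact set. For a subset T ⊆ X these two conditions are equivalent: (a) T can be
written as an intersection of clopen subsets of X; (b) T is closed and is a union of connected
components of X. -/
theorem result {X : Type u} [TopologicalSpace X]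
    [CompactSpace X] [PrespectralSpace X] [QuasiSeparatedSpace X] (T : Set X) :
    (∃ S : Set (Set X), (∀ Z ∈ S, IsClopen Z) ∧ T = ⋂₀ S) ↔
      (IsClosed T ∧ ∀ x ∈ T, connectedComponent x ⊆ T) := by
  open Set in
  constructor
  · rintro ⟨S, hS, rfl⟩
    exact ⟨isClosed_sInter fun Z hZ ↦ (hS Z hZ).1,
      fun x hx ↦ subset_sInter fun Z hZ ↦ (hS Z hZ).connectedComponent_subset (mem_sInter.mp hx Z hZ)⟩
  · rintro ⟨hT, hcomp⟩
    refine ⟨{Z | IsClopen Z ∧ T ⊆ Z}, fun Z hZ ↦ hZ.1, subset_antisymm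
      (subset_sInter fun Z hZ ↦ hZ.2) fun x hx ↦ by_contra fun hxT ↦ ?_⟩
    let ι := {Z : Set X // IsClopen Z ∧ x ∈ Z}
    have hne : Nonempty ι := ⟨⟨univ, isClopen_univ, mem_univ x⟩⟩
    obtain ⟨Z, hZ⟩ := hT.isCompact.elim_directed_family_closed (fun Z : ι ↦ Z.1)
      (fun Z ↦ Z.2.1.1) (by
        refine eq_empty_of_forall_notMem fun y hy ↦ ?_
        have hyx : y ∈ connectedComponent x := by
          rw [Groth.Agent.Lib.Spectral.Connected.connectedComponent_eq_sInter x]
          exact fun Z hZ ↦ mem_iInter.mp hy.2 ⟨Z, hZ⟩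
        exact hxT (hcomp y hy.1 (connectedComponent_eq hyx ▸ mem_connectedComponent)))
      (fun Z Z' ↦ ⟨⟨Z.1 ∩ Z'.1, Z.2.1.inter Z'.2.1, Z.2.2, Z'.2.2⟩, inter_subset_left,
        inter_subset_right⟩)
    exact mem_sInter.mp hx Z.1ᶜ ⟨Z.2.1.compl, fun y hy hyZ ↦ (Set.ext_iff.mp hZ y).mp ⟨hy, hyZ⟩⟩
      Z.2.2

end Groth.Agent.S7567
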