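import Groth.Statements.S7568
import Groth.Agent.Lib.TopDim.Shrink

set_option autoImplicit false
universe u
open PtTop

namespace Groth.Agent.S7568

/-- Let X be a Hausdorff quasi-compact space, X = ⋃ U_i an open covering, p ≥ 0 an integer, and for
every (p+1)-tuple (i_0, …, i_p) an open covering of U_{i_0} ∩ … ∩ U_{i_p} by opens W_{i_0…i_p,k}.
Then there are an open covering X = ⋃_{j ∈ J} V_j and a map α : J → I with closure(V_j) ⊆ U_{α(j)}
such that each V_{j_0} ∩ … ∩ V_{j_p} is contained in W_{α(j_0)…α(j_p),k} for some k. The published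
statement allows a covering of an empty intersection to have no members; this row requires every
covering W_{i_0…i_p} to have at least one member (possibly empty), without which the conclusion
fails. -/
theorem result {X : Type u} [TopologicalSpace X] [CompactSpace X] [T2Space X]
    {ι : Type u} (U : ι → Set X) (hU : ∀ i, IsOpen (U i)) (hcov : ⋃ i, U i = Set.univ) (p : ℕ)
    (W : (Fin (p + 1) → ι) → Set (Set X)) (hWo : ∀ t, ∀ w ∈ W t, IsOpen w)
    (hWc : ∀ t, ⋃₀ W t = ⋂ l, U (t l)) (hWne : ∀ t, (W t).Nonempty) :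
    ∃ (J : Type u) (V : J → Set X) (α : J → ι), (∀ j, IsOpen (V j)) ∧ (⋃ j, V j = Set.univ) ∧
      (∀ j, closure (V j) ⊆ U (α j)) ∧
      (∀ t : Fin (p + 1) → J, ∃ w ∈ W (α ∘ t), (⋂ l, V (t l)) ⊆ w) := by
  classical
  have hsep : Lib.TopDim.Shrink.SepIn (Set.univ : Set X) := fun z _ z' _ h ↦ t2_separation h
  obtain ⟨K, V, hKcp, hKU, hKc, hVo, hKV, hVU, hVcl, S, hS, -⟩ := Lib.TopDim.Shrink.exists_shrink
    isCompact_univ hsep U hU hcov.superset p (fun t ↦ ⋂ l, U (t l))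
    (fun t ↦ isOpen_iInter_of_finite fun l ↦ hU _) (fun t ↦ Set.inter_subset_left)
  have hclV : ∀ i, closure (V i) ⊆ U i := fun i x hx ↦ hVcl i ⟨hx, trivial⟩
  have hcov' : ∀ x, ∃ i ∈ S, x ∈ V i := fun x ↦ by
    obtain ⟨i, hi⟩ := Set.mem_iUnion.mp (hKc (Set.mem_univ x))
    refine ⟨i, ?_, hKV i hi⟩
    by_contra h
    rw [hS i h] at hi
    exact hi
  choose α hαS hα using hcov'
  have hw : ∀ (x : X) (t : Fin (p + 1) → S), ∃ O : Set X, IsOpen O ∧ x ∈ O ∧
      ((∀ l, x ∈ U (t l)) → ∃ w ∈ W (fun l ↦ t l), O ⊆ w) := by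
    intro x t
    by_cases h : ∀ l, x ∈ U (t l)
    · have hx : x ∈ ⋃₀ W (fun l ↦ (t l : ι)) := by
        rw [hWc]
        exact Set.mem_iInter.mpr h
      obtain ⟨w, hw, hxw⟩ := hx
      exact ⟨w, hWo _ w hw, hxw, fun _ ↦ ⟨w, hw, subset_rfl⟩⟩
    · exact ⟨Set.univ, isOpen_univ, trivial, fun h' ↦ absurd h' h⟩
  choose O hO hxO hOW using hw
  let P : X → ι → Set X := fun x i ↦ if x ∈ U i then Set.univ else (closure (V i))ᶜ
  have hP : ∀ x i, IsOpen (P x i) ∧ x ∈ P x i := fun x i ↦ by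
    dsimp only [P]
    split_ifs with h
    exacts [⟨isOpen_univ, trivial⟩, ⟨isClosed_closure.isOpen_compl, fun hx ↦ h (hclV i hx)⟩]
  refine ⟨X, fun x ↦ V (α x) ∩ (⋂ t, O x t) ∩ ⋂ i : S, P x i, α, fun x ↦ ?_, ?_, fun x ↦ ?_, fun t ↦ ?_⟩
  · exact ((hVo _).inter (isOpen_iInter_of_finite (hO x))).inter
      (isOpen_iInter_of_finite fun i ↦ (hP x i).1)
  · exact Set.eq_univ_of_forall fun x ↦ Set.mem_iUnion.mpr
      ⟨x, ⟨hα x, Set.mem_iInter.mpr (hxO x)⟩, Set.mem_iInter.mpr fun i ↦ (hP x i).2⟩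
  · exact (closure_mono (Set.inter_subset_left.trans Set.inter_subset_left)).trans (hclV _)
  · rcases Set.eq_empty_or_nonempty (⋂ l, V (α (t l)) ∩ (⋂ s, O (t l) s) ∩ ⋂ i : S, P (t l) i) with he | ⟨y, hy⟩
    · obtain ⟨w, hw⟩ := hWne (α ∘ t)
      exact ⟨w, hw, by rw [he]; exact Set.empty_subset _⟩
    · have h0 : ∀ l, t 0 ∈ U (α (t l)) := fun l ↦ by
        by_contra h
        have h1 := Set.mem_iInter.mp (Set.mem_iInter.mp hy 0).2 ⟨α (t l), hαS _⟩
        simp only [P, if_neg h] at h1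
        exact h1 (subset_closure (Set.mem_iInter.mp hy l).1.1)
      obtain ⟨w, hw, hsub⟩ := hOW (t 0) (fun l ↦ ⟨α (t l), hαS _⟩) h0
      exact ⟨w, hw, fun z hz ↦ hsub (Set.mem_iInter.mp (Set.mem_iInter.mp hz 0).1.2 _)⟩

end Groth.Agent.S7568
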