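import Groth.Statements.S7569
import Groth.Agent.Lib.TopDim.Shrink

set_option autoImplicit false
universe u
open PtTop

namespace Groth.Agent.S7569

/-- Let X be a Hausdorff, locally quasi-compact space and Z ⊆ X a quasi-compact subset. Let p ≥ 0, let
U_i ⊆ X be opens with Z ⊆ ⋃ U_i, and for every (p+1)-tuple (i_0, …, i_p) let W_{i_0…i_p} ⊆ U_{i_0} ∩
… ∩ U_{i_p} be an open with W_{i_0…i_p} ∩ Z = U_{i_0} ∩ … ∩ U_{i_p} ∩ Z. Then there are opens V_i ⊆
X with Z ⊆ ⋃ V_i, closure(V_i) ⊆ U_i for all i, and V_{i_0} ∩ … ∩ V_{i_p} ⊆ W_{i_0…i_p} for all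
(p+1)-tuples. -/
theorem result {X : Type u} [TopologicalSpace X]
    [T2Space X] [LocallyCompactSpace X] (Z : Set X) (hZ : IsCompact Z)
    {ι : Type u} (U : ι → Set X) (hU : ∀ i, IsOpen (U i)) (hcov : Z ⊆ ⋃ i, U i) (p : ℕ)
    (W : (Fin (p + 1) → ι) → Set X) (hWo : ∀ t, IsOpen (W t)) (hWU : ∀ t, W t ⊆ ⋂ l, U (t l))
    (hWZ : ∀ t, W t ∩ Z = (⋂ l, U (t l)) ∩ Z) :
    ∃ V : ι → Set X, (∀ i, IsOpen (V i)) ∧ (Z ⊆ ⋃ i, V i) ∧ (∀ i, closure (V i) ⊆ U i) ∧
      (∀ t : Fin (p + 1) → ι, (⋂ l, V (t l)) ⊆ W t) := by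
  classical
  have hsep : Lib.TopDim.Shrink.SepIn Z := fun z _ z' _ h ↦ t2_separation h
  obtain ⟨K, V, hKcp, hKU, hKc, hVo, hKV, -, -, S, hS, hVW⟩ := Lib.TopDim.Shrink.exists_shrink hZ hsep U hU hcov p W hWo
    (fun t x hx ↦ ((hWZ t).symm.subset hx).1)
  choose L hL hKL hLU using fun i ↦ exists_compact_between (hKcp i) (hU i) ((hKU i).trans Set.inter_subset_left)
  refine ⟨fun i ↦ if i ∈ S then V i ∩ interior (L i) else ∅, fun i ↦ ?_, fun x hx ↦ ?_, fun i ↦ ?_,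
    fun t x hx ↦ ?_⟩
  · dsimp only; split_ifs; exacts [(hVo i).inter isOpen_interior, isOpen_empty]
  · obtain ⟨i, hi⟩ := Set.mem_iUnion.mp (hKc hx)
    refine Set.mem_iUnion.mpr ⟨i, ?_⟩
    have : i ∈ S := by
      by_contra h
      rw [hS i h] at hi
      exact hi
    simp only [if_pos this]
    exact ⟨hKV i hi, hKL i hi⟩
  · dsimp only; split_ifs
    · exact (closure_minimal (Set.inter_subset_right.trans interior_subset) (hL i).isClosed).trans (hLU i)
    · rw [closure_empty]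
      exact Set.empty_subset _
  · have ht : ∀ l, t l ∈ S := fun l ↦ by
      by_contra h
      have := Set.mem_iInter.mp hx l
      simp only [if_neg h] at this
      exact this
    refine hVW t ht (Set.mem_iInter.mpr fun l ↦ ?_)
    have := Set.mem_iInter.mp hx l
    simp only [if_pos (ht l)] at this
    exact this.1

end Groth.Agent.S7569
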