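import Groth.Statements.S7570
import Groth.Agent.Lib.TopDim.Shrink

set_option autoImplicit false
universe u
open PtTop

namespace Groth.Agent.S7570

/-- Let X be a topological space and Z ⊆ X a quasi-compact subset such that any two distinct points of Z
have disjoint open neighbourhoods in X. Let p ≥ 0, let U_i ⊆ X be opens with Z ⊆ ⋃ U_i, and for
every (p+1)-tuple let W_{i_0…i_p} ⊆ U_{i_0} ∩ … ∩ U_{i_p} be an open with W_{i_0…i_p} ∩ Z = U_{i_0}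
∩ … ∩ U_{i_p} ∩ Z. Then there are opens V_i with (1) Z ⊆ ⋃ V_i, (2) V_i ⊆ U_i, (3) closure(V_i) ∩ Z
⊆ U_i, and (4) V_{i_0} ∩ … ∩ V_{i_p} ⊆ W_{i_0…i_p} for all (p+1)-tuples. -/
theorem result {X : Type u} [TopologicalSpace X]
    (Z : Set X) (hZ : IsCompact Z)
    (hZsep : ∀ z ∈ Z, ∀ z' ∈ Z, z ≠ z' → ∃ A B : Set X, IsOpen A ∧ IsOpen B ∧ z ∈ A ∧ z' ∈ B ∧ Disjoint A B)
    {ι : Type u} (U : ι → Set X) (hU : ∀ i, IsOpen (U i)) (hcov : Z ⊆ ⋃ i, U i) (p : ℕ)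
    (W : (Fin (p + 1) → ι) → Set X) (hWo : ∀ t, IsOpen (W t)) (hWU : ∀ t, W t ⊆ ⋂ l, U (t l))
    (hWZ : ∀ t, W t ∩ Z = (⋂ l, U (t l)) ∩ Z) :
    ∃ V : ι → Set X, (∀ i, IsOpen (V i)) ∧ (Z ⊆ ⋃ i, V i) ∧ (∀ i, V i ⊆ U i) ∧
      (∀ i, closure (V i) ∩ Z ⊆ U i) ∧ (∀ t : Fin (p + 1) → ι, (⋂ l, V (t l)) ⊆ W t) := by
  classical
  obtain ⟨K, V, -, -, hKc, hVo, hKV, hVU, hVcl, S, hS, hVW⟩ := Lib.TopDim.Shrink.exists_shrink hZ hZsep U hU hcov p W hWo
    (fun t x hx ↦ ((hWZ t).symm.subset hx).1)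
  refine ⟨fun i ↦ if i ∈ S then V i else ∅, fun i ↦ ?_, fun x hx ↦ ?_, fun i ↦ ?_, fun i ↦ ?_,
    fun t x hx ↦ ?_⟩
  · dsimp only; split_ifs; exacts [hVo i, isOpen_empty]
  · obtain ⟨i, hi⟩ := Set.mem_iUnion.mp (hKc hx)
    refine Set.mem_iUnion.mpr ⟨i, ?_⟩
    have : i ∈ S := by
      by_contra h
      rw [hS i h] at hi
      exact hi
    simp only [if_pos this]
    exact hKV i hi
  · dsimp only; split_ifs; exacts [hVU i, Set.empty_subset _]
  · dsimp only; split_ifs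
    · exact hVcl i
    · rw [closure_empty, Set.empty_inter]
      exact Set.empty_subset _
  · have ht : ∀ l, t l ∈ S := fun l ↦ by
      by_contra h
      have := Set.mem_iInter.mp hx l
      simp only [if_neg h] at this
      exact this
    refine hVW t ht (Set.mem_iInter.mpr fun l ↦ ?_)
    have := Set.mem_iInter.mp hx l
    simp only [if_pos (ht l)] at this
    exact this

end Groth.Agent.S7570
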