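import Groth.Statements.S7571
import Groth.Agent.Lib.Spectral.Limit

set_option autoImplicit false
universe u
open CategoryTheory CategoryTheory.Limits
open PtTop

namespace Groth.Agent.S7571

/-- Let j ↦ X_j be a diagram of topological spaces over a cofiltered category with limit X and
projections f_j. (1) Every open of X is a union of subsets of the form f_j⁻¹(U_j) with U_j ⊆ X_j
open. (2) Every quasi-compact open of X equals f_i⁻¹(U_i) for some i and some open U_i ⊆ X_i. -/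
theorem result {J : Type u} [SmallCategory J] [IsCofiltered J]
    (F : J ⥤ TopCat.{u}) (c : Cone F) (hc : IsLimit c) :
    (∀ W : Set c.pt, IsOpen W →
      ∃ S : Set (Σ j, Set (F.obj j)), (∀ s ∈ S, IsOpen s.2) ∧ W = ⋃ s ∈ S, c.π.app s.1 ⁻¹' s.2) ∧
    (∀ W : Set c.pt, IsOpen W → IsCompact W →
      ∃ (i : J) (Ui : Set (F.obj i)), IsOpen Ui ∧ W = c.π.app i ⁻¹' Ui) := by
  open Groth.Agent.Lib.Spectral.Limit Set in
  have hb := TopCat.isTopologicalBasis_cofiltered_limit.{u} F c hc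
    (fun j ↦ {V : Set (F.obj j) | IsOpen V}) (fun j ↦ TopologicalSpace.isTopologicalBasis_opens)
    (fun j ↦ isOpen_univ) (fun j _ _ h1 h2 ↦ IsOpen.inter h1 h2)
    (fun _ _ f _ hV ↦ IsOpen.preimage (F.map f).hom.continuous hV)
  constructor
  · intro W hW
    refine ⟨{s | IsOpen s.2 ∧ c.π.app s.1 ⁻¹' s.2 ⊆ W}, fun s hs ↦ hs.1,
      subset_antisymm (fun x hx ↦ ?_) (iUnion₂_subset fun s hs ↦ hs.2)⟩
    obtain ⟨B, ⟨j, V, hV, rfl⟩, hxB, hBW⟩ := hb.exists_subset_of_mem_open hx hW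
    exact mem_iUnion₂.mpr ⟨⟨j, V⟩, ⟨hV, hBW⟩, hxB⟩
  · intro W hWo hWc
    obtain ⟨i, V, hV, h1, h2⟩ := hWc.induction_on
      (p := fun s ↦ ∃ (i : J) (V : Set (F.obj i)), IsOpen V ∧
        s ⊆ c.π.app i ⁻¹' V ∧ c.π.app i ⁻¹' V ⊆ W)
      ⟨IsCofiltered.nonempty.some, ∅, by simp⟩
      (fun s t hst ⟨i, V, h1, h3, h4⟩ ↦ ⟨i, V, h1, hst.trans h3, h4⟩)
      (fun s t ⟨i, V, h1, h3, h4⟩ ⟨j, V', h1', h3', h4'⟩ ↦ by
        refine ⟨IsCofiltered.min i j,
          F.map (IsCofiltered.minToLeft i j) ⁻¹' V ∪ F.map (IsCofiltered.minToRight i j) ⁻¹' V',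
          (h1.preimage (F.map _).hom.continuous).union (h1'.preimage (F.map _).hom.continuous), ?_, ?_⟩
        · rw [preimage_union, preimage_map_preimage, preimage_map_preimage]
          exact union_subset_union h3 h3'
        · rw [preimage_union, preimage_map_preimage, preimage_map_preimage]
          exact union_subset h4 h4')
      (fun x hx ↦ by
        obtain ⟨B, ⟨i, V, hV, rfl⟩, hxB, hBW⟩ := hb.exists_subset_of_mem_open hx hWo
        exact ⟨c.π.app i ⁻¹' V, mem_nhdsWithin_of_mem_nhds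
          ((IsOpen.preimage (c.π.app i).hom.continuous hV).mem_nhds hxB), i, V, hV, subset_rfl,
          hBW⟩)
    exact ⟨i, V, hV, subset_antisymm h1 h2⟩

end Groth.Agent.S7571
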