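import Groth.Statements.S7578
import Groth.Agent.Lib.TopDim.DimFun
import Mathlib.Topology.NoetherianSpace
import Mathlib.Topology.LocallyConstant.Basic

set_option autoImplicit false
universe u
open PtTop

namespace Groth.Agent.S7578

/-- Let X be a topological space which is locally Noetherian (every point has a Noetherian
neighbourhood) and sober, and let δ, δ' be two dimension functions on X. Then δ − δ' is locally
constant. -/
theorem result {X : Type u} [TopologicalSpace X] [QuasiSober X] [T0Space X]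
    (hX : ∀ x : X, ∃ E ∈ nhds x, TopologicalSpace.NoetherianSpace E)
    (δ δ' : X → ℤ) (hδ : PtTop.IsDimensionFunction δ) (hδ' : PtTop.IsDimensionFunction δ') :
    IsLocallyConstant (fun x => δ x - δ' x) := by
  open Groth.Agent.Lib.TopDim.DimFun Groth.Agent.Lib.TopDim.Catenary Set in
  have hspec : ∀ a b : X, a ⤳ b → δ a - δ' a = δ b - δ' b := fun a b h ↦ by
    have h₁ := cd_pt hδ h
    have h₂ := cd_pt hδ' h
    rw [h₁, Nat.cast_inj] at h₂
    have e₁ : δ b ≤ δ a := by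
      rcases eq_or_ne a b with rfl | hne
      · rfl
      · exact (hδ.1 a b h hne).le
    have e₂ : δ' b ≤ δ' a := by
      rcases eq_or_ne a b with rfl | hne
      · rfl
      · exact (hδ'.1 a b h hne).le
    omega
  refine (IsLocallyConstant.iff_exists_open _).mpr fun x ↦ ?_
  obtain ⟨E, hE, hEn⟩ := hX x
  obtain ⟨O, hOE, hO, hxO⟩ := mem_nhds_iff.mp hE
  obtain ⟨S, hS, hSc, hSi, hcov⟩ :=
    TopologicalSpace.NoetherianSpace.exists_finite_set_isClosed_irreducible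
      (isClosed_univ (X := E))
  let bad : Set E := ⋃ Z ∈ {Z ∈ S | (⟨x, hOE hxO⟩ : E) ∉ Z}, Z
  have hbad : IsClosed bad :=
    Set.Finite.isClosed_biUnion (hS.subset fun Z hZ ↦ hZ.1) fun Z hZ ↦ hSc Z hZ.1
  obtain ⟨W, hW, hWeq⟩ := isOpen_induced_iff.mp hbad.isOpen_compl
  refine ⟨O ∩ W, hO.inter hW, ⟨hxO, ?_⟩, fun y hy ↦ ?_⟩
  · refine (Set.ext_iff.mp hWeq ⟨x, hOE hxO⟩).mpr fun hx ↦ ?_
    obtain ⟨Z, hZ, hxZ⟩ := mem_iUnion₂.mp hx
    exact hZ.2 hxZ
  · obtain ⟨Z, hZ, hyZ⟩ := (hcov ▸ mem_univ (⟨y, hOE hy.1⟩ : E) : (⟨y, hOE hy.1⟩ : E) ∈ ⋃₀ S)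
    have hxZ : (⟨x, hOE hxO⟩ : E) ∈ Z := by_contra fun h ↦
      (Set.ext_iff.mp hWeq ⟨y, hOE hy.1⟩).mp hy.2 (mem_iUnion₂.mpr ⟨Z, ⟨hZ, h⟩, hyZ⟩)
    obtain ⟨ξ, hξ⟩ := QuasiSober.sober
      ((hSi Z hZ).image _ continuous_subtype_val.continuousOn).closure isClosed_closure
    have h1 := hspec ξ y (hξ.specializes (subset_closure ⟨_, hyZ, rfl⟩))
    have h2 := hspec ξ x (hξ.specializes (subset_closure ⟨_, hxZ, rfl⟩))
    exact h1.symm.trans h2

end Groth.Agent.S7578
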