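import Groth.Statements.S7579
import Groth.Agent.Lib.Spectral.Basic

set_option autoImplicit false
universe u
open SpecSp

namespace Groth.Agent.S7579

/-- Let X be a spectral space. Then X with its constructible topology is Hausdorff and totally
disconnected. The published statement also asserts that the constructible topology is quasi-compact;
this row states the Hausdorff and totally disconnected parts. -/
theorem result (X : Type u) [TopologicalSpace X] [SpectralSpace X] :
    T2Space (WithConstructibleTopology X) ∧ TotallyDisconnectedSpace (WithConstructibleTopology X) := by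
  open Groth.Agent.Lib.Spectral.Basic in
  have h : TotallySeparatedSpace (WithConstructibleTopology X) := by
    refine totallySeparatedSpace_iff_exists_isClopen.mpr fun x y hxy ↦ ?_
    obtain ⟨C, hC, hx, hy⟩ := exists_isClopen_cons_separating
      (fun h ↦ hxy (WithTopology.ofTopology_injective _ h) : x.ofTopology ≠ y.ofTopology)
    exact ⟨WithTopology.ofTopology ⁻¹' C,
      @IsClopen.preimage _ _ _ (constructibleTopology X) _ hC _ (WithTopology.continuous_ofTopology _),
      hx, hy⟩
  refine ⟨⟨fun x y hxy ↦ ?_⟩, inferInstance⟩
  obtain ⟨C, hC, hx, hy⟩ := totallySeparatedSpace_iff_exists_isClopen.mp h hxy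
  exact ⟨C, Cᶜ, hC.2, hC.1.isOpen_compl, hx, hy, disjoint_compl_right⟩

end Groth.Agent.S7579
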