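import Groth.Statements.S7580
import Mathlib.SetTheory.Cardinal.Basic
import Mathlib.Topology.Separation.Hausdorff

set_option autoImplicit false
universe u
open PtTop

namespace Groth.Agent.S7580

/-- Let f : X → Y be a continuous map of topological spaces with f(X) dense in Y and Y Hausdorff. Then
the cardinality of Y is at most that of the double power set of X. -/
theorem result {X Y : Type u} [TopologicalSpace X] [TopologicalSpace Y] [T2Space Y]
    (f : X → Y) (hf : Continuous f) (hd : DenseRange f) :
    Cardinal.mk Y ≤ (2 : Cardinal.{u}) ^ ((2 : Cardinal.{u}) ^ Cardinal.mk X) := by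
  open Set in
  let g : Y → Set (Set X) := fun y ↦ {S | y ∈ closure (f '' S)}
  have hg : Function.Injective g := by
    intro y y' h
    by_contra hne
    obtain ⟨A, B, hA, hB, hy, hy', hAB⟩ := t2_separation hne
    have h1 : f ⁻¹' A ∈ g y := by
      show y ∈ closure (f '' (f ⁻¹' A))
      rw [image_preimage_eq_inter_range]
      exact hd.open_subset_closure_inter hA hy
    rw [h] at h1
    obtain ⟨_, hpB, p, hpA, rfl⟩ := mem_closure_iff.mp h1 B hB hy'
    exact disjoint_left.mp hAB hpA hpB
  calc Cardinal.mk Y ≤ Cardinal.mk (Set (Set X)) := Cardinal.mk_le_of_injective hg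
    _ = _ := by rw [Cardinal.mk_set, Cardinal.mk_set]

end Groth.Agent.S7580
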