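import Groth.Statements.S7582
import Groth.Agent.Lib.Spectral.Sober

set_option autoImplicit false
universe u
open PtTop

namespace Groth.Agent.S7582

/-- Let X be a topological space and c : X → X′ the canonical map to its soberification (X′ =
irreducible closed subsets of X, with opens the sets of those meeting a given open of X; c(x) =
closure of {x}). Then X′ is sober, c is continuous, the rule U′ ↦ c⁻¹(U′) is a bijection from the
open subsets of X′ onto the open subsets of X (it automatically respects finite intersections and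
arbitrary unions), and every continuous map from X to a sober space Y is of the form g ∘ c for a
continuous g : X′ → Y. The published statement also asserts that g is unique and that c(X) is a
Kolmogorov space universal for maps to Kolmogorov spaces; this row omits those clauses and lets Y
range over the universe of X. -/
theorem result (X : Type u) [TopologicalSpace X] :
    QuasiSober (PtTop.Sob X) ∧ T0Space (PtTop.Sob X) ∧ Continuous (PtTop.toSob X) ∧
    Set.BijOn (fun U' : Set (PtTop.Sob X) => PtTop.toSob X ⁻¹' U') {U' | IsOpen U'} {U : Set X | IsOpen U} ∧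
    ∀ (Y : Type u) [TopologicalSpace Y] [QuasiSober Y] [T0Space Y] (f : X → Y), Continuous f →
      ∃ g : PtTop.Sob X → Y, Continuous g ∧ g ∘ PtTop.toSob X = f := by
  refine ⟨Lib.Spectral.Sober.quasiSober, Lib.Spectral.Sober.t0Space, Lib.Spectral.Sober.continuous_toSob, ?_, ?_⟩
  · refine ⟨fun S hS ↦ hS.preimage Lib.Spectral.Sober.continuous_toSob, fun S hS T hT h ↦ ?_,
      fun U hU ↦ ⟨Lib.Spectral.Sober.op U, Lib.Spectral.Sober.isOpen_op hU, Lib.Spectral.Sober.preimage_op hU⟩⟩
    obtain ⟨U, hU, rfl⟩ := Lib.Spectral.Sober.exists_eq_op hS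
    obtain ⟨V, hV, rfl⟩ := Lib.Spectral.Sober.exists_eq_op hT
    simp only [Lib.Spectral.Sober.preimage_op hU, Lib.Spectral.Sober.preimage_op hV] at h
    rw [h]
  · intro Y _ _ _ f hf
    have hirr : ∀ Z : PtTop.Sob X, IsIrreducible (closure (f '' Lib.Spectral.Sober.carr Z)) := fun Z ↦
      ((TopologicalSpace.IrreducibleCloseds.isIrreducible Z).image f hf.continuousOn).closure
    let g : PtTop.Sob X → Y := fun Z ↦ (hirr Z).genericPoint
    have hg : ∀ Z V, IsOpen V → (g Z ∈ V ↔ Z ∈ Lib.Spectral.Sober.op (f ⁻¹' V)) := fun Z V hV ↦ by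
      have hgen := (hirr Z).isGenericPoint_genericPoint isClosed_closure
      constructor
      · intro hgV
        have hgc : g Z ∈ closure (f '' Lib.Spectral.Sober.carr Z) := hgen.mem
        obtain ⟨_, hyV, x, hx, rfl⟩ := mem_closure_iff.mp hgc V hV hgV
        exact ⟨x, hx, hyV⟩
      · rintro ⟨x, hx, hxV⟩
        exact (hgen.specializes (subset_closure ⟨x, hx, rfl⟩)).mem_open hV hxV
    refine ⟨g, ⟨fun V hV ↦ ?_⟩, funext fun x ↦ ?_⟩
    · rw [show g ⁻¹' V = Lib.Spectral.Sober.op (f ⁻¹' V) from Set.ext fun Z ↦ hg Z V hV]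
      exact Lib.Spectral.Sober.isOpen_op (hV.preimage hf)
    · refine (Specializes.antisymm ?_ ?_).eq
      · refine specializes_iff_forall_open.mpr fun V hV hfx ↦ ?_
        exact (hg _ V hV).mpr ⟨x, subset_closure rfl, hfx⟩
      · refine specializes_iff_forall_open.mpr fun V hV hgx ↦ ?_
        exact (Set.ext_iff.mp (Lib.Spectral.Sober.preimage_op (hV.preimage hf)) x).mp ((hg _ V hV).mp hgx)

end Groth.Agent.S7582
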