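import Groth.Statements.S7584
import Mathlib.Topology.Separation.Hausdorff

set_option autoImplicit false
universe u
open PtTop

namespace Groth.Agent.S7584

/-- Let X be a quasi-compact topological space in which each connected component equals the intersection
of all clopen sets that contain it. Then π₀(X), the set of connected components with the quotient
topology, is Hausdorff. The published statement concludes that π₀(X) is profinite; this row records
the Hausdorff property, quasi-compactness and total disconnectedness of the quotient being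
automatic. -/
theorem result (X : Type u) [TopologicalSpace X] [CompactSpace X]
    (h : ∀ x : X, connectedComponent x = ⋂₀ {Z : Set X | IsClopen Z ∧ x ∈ Z}) :
    T2Space (ConnectedComponents X) := by
  open Set in
  refine ⟨fun a b hab ↦ ?_⟩
  obtain ⟨x, rfl⟩ := ConnectedComponents.surjective_coe a
  obtain ⟨y, rfl⟩ := ConnectedComponents.surjective_coe b
  obtain ⟨Z, hZ, hxZ, hyZ⟩ : ∃ Z : Set X, IsClopen Z ∧ x ∈ Z ∧ y ∉ Z := by
    by_contra hne
    refine hab (ConnectedComponents.coe_eq_coe.mpr (connectedComponent_eq ?_))
    rw [h x]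
    exact fun Z hZ ↦ by_contra fun hy ↦ hne ⟨Z, hZ.1, hZ.2, hy⟩
  have hpre : ConnectedComponents.mk ⁻¹' (ConnectedComponents.mk '' Z) = Z :=
    (connectedComponents_preimage_image Z).trans hZ.biUnion_connectedComponent_eq
  refine ⟨ConnectedComponents.mk '' Z, (ConnectedComponents.mk '' Z)ᶜ, ?_, ?_,
    mem_image_of_mem _ hxZ, fun ⟨z, hz, hzy⟩ ↦ ?_, disjoint_compl_right⟩
  · rw [← ConnectedComponents.isQuotientMap_coe.isOpen_preimage, hpre]
    exact hZ.2
  · rw [← ConnectedComponents.isQuotientMap_coe.isOpen_preimage, preimage_compl, hpre]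
    exact hZ.1.isOpen_compl
  · exact hyZ (hpre ▸ (⟨z, hz, hzy⟩ : y ∈ ConnectedComponents.mk ⁻¹' (ConnectedComponents.mk '' Z)))

end Groth.Agent.S7584
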