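import Groth.Statements.S7585


set_option autoImplicit false
set_option backward.isDefEq.respectTransparency false
universe u
open ShSp

namespace Groth.Agent.S7585

/-- Let X be a topological space, ℬ a basis for its topology and F a presheaf of sets on ℬ. For each U ∈
ℬ let C(U) be a cofinal system of coverings of U by members of ℬ (every covering of U by members of
ℬ is refined by one in C(U)), each member of C(U) coming with chosen coverings of the pairwise
intersections U_i ∩ U_j by members of ℬ. Then F is a sheaf on ℬ if and only if the sheaf condition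
(**) holds for every U ∈ ℬ and every covering in C(U) with its chosen intersection coverings. -/
theorem result {X : Type u} [TopologicalSpace X] {B : Set (TopologicalSpace.Opens X)}
    (hB : TopologicalSpace.Opens.IsBasis B) (F : ShB.Pre B)
    (C : ∀ U : B, Set (ShB.Cover B)) (hCU : ∀ U, ∀ c ∈ C U, c.U = U)
    (hC : ∀ (U : B) (ι : Type u) (V : ι → B), (∀ i, (V i : TopologicalSpace.Opens X) ≤ (U : TopologicalSpace.Opens X)) →
      (U : TopologicalSpace.Opens X) ≤ ⨆ i, (V i : TopologicalSpace.Opens X) →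
      ∃ c ∈ C U, ∀ i' : c.ι, ∃ i, (c.V i' : TopologicalSpace.Opens X) ≤ (V i : TopologicalSpace.Opens X)) :
    ShB.IsSheaf F ↔ ∀ U, ∀ c ∈ C U, ShB.GluesUniquely F c := by
  refine ⟨fun h U c _ => h c, fun h => ?_⟩
  have hCU' := hCU
  -- separatedness
  have sep : ∀ (U : B) (ι : Type u) (V : ι → B)
      (hV : ∀ i, (V i : TopologicalSpace.Opens X) ≤ (U : TopologicalSpace.Opens X)),
      (U : TopologicalSpace.Opens X) ≤ ⨆ i, (V i : TopologicalSpace.Opens X) →
      ∀ t t' : F.obj U, (∀ i, F.res (hV i) t = F.res (hV i) t') → t = t' := by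
    intro U ι V hV hcov t t' ht
    obtain ⟨d, hd, hσ⟩ := hC U ι V hV hcov
    obtain rfl := hCU' U d hd
    choose σ hσ using hσ
    obtain ⟨r, -, hr⟩ := h _ d hd (fun i' => F.res (d.V_le i') t)
      (fun i j k => by rw [F.res_comp, F.res_comp])
    refine (hr t fun i => rfl).trans (hr t' fun i' => ?_).symm
    have := congrArg (F.res (hσ i')) (ht (σ i'))
    rw [F.res_comp, F.res_comp] at this
    exact this.symm
  have cover : ∀ (U : B) (P : B → Prop),
      (∀ x ∈ (U : TopologicalSpace.Opens X), ∃ W : B, x ∈ (W : TopologicalSpace.Opens X) ∧ P W) →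
      (U : TopologicalSpace.Opens X) ≤ ⨆ W : {W : B // P W}, (W.1 : TopologicalSpace.Opens X) := by
    intro U P hP x hx
    obtain ⟨W, hxW, hW⟩ := hP x hx
    exact TopologicalSpace.Opens.mem_iSup.mpr ⟨⟨W, hW⟩, hxW⟩
  intro c s hs
  have compat : ∀ (W : B) i j (hi : (W : TopologicalSpace.Opens X) ≤ (c.V i : TopologicalSpace.Opens X))
      (hj : (W : TopologicalSpace.Opens X) ≤ (c.V j : TopologicalSpace.Opens X)),
      F.res hi (s i) = F.res hj (s j) := by
    intro W i j hi hj
    let P : B → Prop := fun W' => (W' : TopologicalSpace.Opens X) ≤ (W : TopologicalSpace.Opens X) ∧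
      ∃ k, (W' : TopologicalSpace.Opens X) ≤ (c.W i j k : TopologicalSpace.Opens X)
    refine sep W {W' : B // P W'} (fun W' => W'.1) (fun W' => W'.2.1) (cover W P fun x hx => ?_) _ _
      fun W' => ?_
    · obtain ⟨k, hk⟩ := TopologicalSpace.Opens.mem_iSup.mp (c.W_cover i j ⟨hi hx, hj hx⟩)
      obtain ⟨O, hO, hxO, hle⟩ := TopologicalSpace.Opens.isBasis_iff_nbhd.mp hB
        (show x ∈ (W : TopologicalSpace.Opens X) ⊓ (c.W i j k : TopologicalSpace.Opens X) from ⟨hx, hk⟩)
      exact ⟨⟨O, hO⟩, hxO, hle.trans inf_le_left, k, hle.trans inf_le_right⟩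
    · obtain ⟨k, hk⟩ := W'.2.2
      have := congrArg (F.res hk) (hs i j k)
      rw [F.res_comp, F.res_comp] at this
      rw [F.res_comp, F.res_comp]
      exact this
  obtain ⟨d, hd, hσ⟩ := hC c.U c.ι c.V c.V_le c.V_cover
  choose σ hσ using hσ
  obtain ⟨U', rfl⟩ : ∃ U', U' = c.U := ⟨_, rfl⟩
  have e := hCU' c.U d hd
  have hdle : ∀ i', (d.V i' : TopologicalSpace.Opens X) ≤ (c.U : TopologicalSpace.Opens X) :=
    fun i' => (hσ i').trans (c.V_le _)
  obtain ⟨t, ht, htu⟩ := h c.U d hd (fun i' => F.res (hσ i') (s (σ i')))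
    (fun i j k => by rw [F.res_comp, F.res_comp]; exact compat _ _ _ _ _)
  let t₀ : F.obj c.U := F.res (le_of_eq (congrArg Subtype.val e).symm) t
  refine ⟨t₀, fun i => ?_, fun t' ht' => ?_⟩
  · let P : B → Prop := fun W' => (W' : TopologicalSpace.Opens X) ≤ (c.V i : TopologicalSpace.Opens X) ∧
      ∃ i', (W' : TopologicalSpace.Opens X) ≤ (d.V i' : TopologicalSpace.Opens X)
    refine sep (c.V i) {W' : B // P W'} (fun W' => W'.1) (fun W' => W'.2.1)
      (cover (c.V i) P fun x hx => ?_) _ _ fun W' => ?_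
    · obtain ⟨i', hi'⟩ := TopologicalSpace.Opens.mem_iSup.mp
        (d.V_cover ((congrArg Subtype.val e).symm ▸ c.V_le i hx))
      obtain ⟨O, hO, hxO, hle⟩ := TopologicalSpace.Opens.isBasis_iff_nbhd.mp hB
        (show x ∈ (c.V i : TopologicalSpace.Opens X) ⊓ (d.V i' : TopologicalSpace.Opens X) from ⟨hx, hi'⟩)
      exact ⟨⟨O, hO⟩, hxO, hle.trans inf_le_left, i', hle.trans inf_le_right⟩
    · obtain ⟨i', hi'⟩ := W'.2.2
      have := congrArg (F.res hi') (ht i')
      rw [F.res_comp, F.res_comp] at this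
      simp only [t₀, F.res_comp]
      exact this.trans (compat _ _ _ _ _)
  · refine sep c.U c.ι c.V c.V_le c.V_cover _ _ fun i => ?_
    rw [ht']
    let P : B → Prop := fun W' => (W' : TopologicalSpace.Opens X) ≤ (c.V i : TopologicalSpace.Opens X) ∧
      ∃ i', (W' : TopologicalSpace.Opens X) ≤ (d.V i' : TopologicalSpace.Opens X)
    refine sep (c.V i) {W' : B // P W'} (fun W' => W'.1) (fun W' => W'.2.1)
      (cover (c.V i) P fun x hx => ?_) _ _ fun W' => ?_
    · obtain ⟨i', hi'⟩ := TopologicalSpace.Opens.mem_iSup.mp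
        (d.V_cover ((congrArg Subtype.val e).symm ▸ c.V_le i hx))
      obtain ⟨O, hO, hxO, hle⟩ := TopologicalSpace.Opens.isBasis_iff_nbhd.mp hB
        (show x ∈ (c.V i : TopologicalSpace.Opens X) ⊓ (d.V i' : TopologicalSpace.Opens X) from ⟨hx, hi'⟩)
      exact ⟨⟨O, hO⟩, hxO, hle.trans inf_le_left, i', hle.trans inf_le_right⟩
    · obtain ⟨i', hi'⟩ := W'.2.2
      have := congrArg (F.res hi') (ht i')
      rw [F.res_comp, F.res_comp] at this
      simp only [t₀, F.res_comp]
      exact ((this.trans (compat _ _ _ _ _)).symm :)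

end Groth.Agent.S7585
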