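import Groth.Statements.S7588
import Groth.Agent.Lib.ShBasis.Basic

set_option autoImplicit false
universe u
open CategoryTheory
open ShSp

namespace Groth.Agent.S7588

/-- Let X be a topological space, ℬ a basis for its topology and F a sheaf of sets on ℬ. There is a
sheaf of sets F^ext on X together with an isomorphism of presheaves on ℬ between the restriction of
F^ext to ℬ and F; and it is unique: given two sheaves G, G′ on X with such isomorphisms e, e′, there
is a unique isomorphism G ≅ G′ whose restriction to the members of ℬ is compatible with e and e′. -/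
theorem result {X : Type u} [TopologicalSpace X] {B : Set (TopologicalSpace.Opens X)}
    (hB : TopologicalSpace.Opens.IsBasis B) (F : ShB.Pre B) (hF : ShB.IsSheaf F) :
    (∃ G : TopCat.Sheaf (Type u) (TopCat.of X), Nonempty (ShB.Iso (ShB.restrict B G.presheaf) F)) ∧
    ∀ (G G' : TopCat.Sheaf (Type u) (TopCat.of X)) (e : ShB.Iso (ShB.restrict B G.presheaf) F)
      (e' : ShB.Iso (ShB.restrict B G'.presheaf) F),
      ∃! φ : G ⟶ G', IsIso φ ∧ ∀ (U : B) (s : G.presheaf.obj (Opposite.op (U : TopologicalSpace.Opens X))),
        e'.hom.app U (φ.1.app (Opposite.op (U : TopologicalSpace.Opens X)) s) = e.hom.app U s := by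
  exact ⟨⟨Groth.ShBasis.ext F hB, ⟨Groth.ShBasis.extIso hB hF⟩⟩, fun G G' e e' => Groth.ShBasis.existsUnique_hom hB G G' e e'⟩

end Groth.Agent.S7588
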