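import Groth.Statements.S7589
import Groth.Agent.H2.Rigid.DimPoint
import Groth.Agent.Lib.Flat55.DimSums
import Groth.Agent.Lib.AnLoc.FlatAscent
import Groth.Agent.Lib.FibreDeg.Basic
-- import your own Groth.Agent.* helpers here

set_option autoImplicit false
universe u
open CategoryTheory CategoryTheory.Limits AlgebraicGeometry
attribute [local instance] Curv2.stalkAlgebra Curv2.resAlgebra
open Variety

namespace Groth.Agent.S7589

/-- Let X be locally of finite type over a field k, K an extension field of k, y a point of the base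
change X_K and x its image in X; write a = trdeg_k κ(x) and a' = trdeg_K κ(y). Then dim O_{X_K, y} +
a' = dim O_{X, x} + a, and the fibre ring O_{X_K, y} / m_x O_{X_K, y} has Krull dimension a - a' (in
particular a' ≤ a); dimensions in WithBot ℕ∞. -/
theorem result (k : Type u) [Field k] (X : Scheme.{u}) [X.Over (Spec (CommRingCat.of k))] [LocallyOfFiniteType (X ↘ (Spec (CommRingCat.of k)))]
    (K : Type u) [Field K] [Algebra k K] (y : ↥(Curv2.bc k X K)) (a a' : ℕ)
    (ha : Algebra.trdeg k (X.residueField (Curv2.bcFst k X K y)) = a)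
    (ha' : letI : (Curv2.bc k X K).Over (Spec (CommRingCat.of K)) := ⟨Curv2.bcSnd k X K⟩
      Algebra.trdeg K ((Curv2.bc k X K).residueField y) = a') :
    ringKrullDim ((Curv2.bc k X K).presheaf.stalk y) + (a' : WithBot ℕ∞) =
        ringKrullDim (X.presheaf.stalk (Curv2.bcFst k X K y)) + (a : WithBot ℕ∞) ∧
      ringKrullDim (↥((Curv2.bc k X K).presheaf.stalk y) ⧸ Ideal.map ((Curv2.bcFst k X K).stalkMap y).hom (IsLocalRing.maximalIdeal ↥(X.presheaf.stalk (Curv2.bcFst k X K y)))) + (a' : WithBot ℕ∞) =
        (a : WithBot ℕ∞) := by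
  let : (Curv2.bc k X K).Over (Spec (CommRingCat.of K)) := ⟨Curv2.bcSnd k X K⟩
  let f := X ↘ Spec (CommRingCat.of k)
  let g : Curv2.bc k X K ⟶ Spec (CommRingCat.of K) := Curv2.bc k X K ↘ Spec (CommRingCat.of K)
  let x := Curv2.bcFst k X K y
  have : LocallyOfFiniteType g := MorphismProperty.pullback_snd _ _ ‹_›
  have : IsLocallyNoetherian X := LocallyOfFiniteType.isLocallyNoetherian f
  have : IsLocallyNoetherian (Curv2.bc k X K) := LocallyOfFiniteType.isLocallyNoetherian g
  obtain ⟨b, hb⟩ := H2.Rigid.DimPoint.exists_dim_stalk x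
  obtain ⟨c, hc⟩ := H2.Rigid.DimPoint.exists_dim_stalk y
  have ea : (Lib.Cyc.FieldDim.fdelta f x).toNat = a := by
    exact_mod_cast (H2.Rigid.DimPoint.fdelta_eq_trdeg k X x).symm.trans ha
  have ea' : (Lib.Cyc.FieldDim.fdelta g y).toNat = a' := by
    exact_mod_cast (H2.Rigid.DimPoint.fdelta_eq_trdeg K (Curv2.bc k X K) y).symm.trans ha'
  have e1 := H2.Rigid.DimPoint.localDim_eq f x b hb
  have e2 := H2.Rigid.DimPoint.localDim_eq g y c hc
  have e3 : FlatMor.localDim (Curv2.bc k X K) y = FlatMor.localDim X x :=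
    (Lib.JacCrit.OverField.fibreDimAt_eq_localDim g y).symm.trans
      (Lib.Flat55.DimSums.fibreDimAt_snd f _ y)
  have key : a' + c = a + b := by
    rw [e1, e2, ea, ea'] at e3
    exact_mod_cast e3
  refine ⟨?_, ?_⟩
  · rw [hc, hb, ← Nat.cast_add, ← Nat.cast_add, add_comm c, key, add_comm b]
  · have : Flat (Curv2.bcFst k X K) :=
      MorphismProperty.pullback_fst _ _ (Lib.FibreDeg.Basic.flat_of_field _)
    let := ((Curv2.bcFst k X K).stalkMap y).hom.toAlgebra
    have : Module.Flat (X.presheaf.stalk x) ((Curv2.bc k X K).presheaf.stalk y) :=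
      Flat.stalkMap (Curv2.bcFst k X K) y
    have : IsLocalHom (algebraMap (X.presheaf.stalk x) ((Curv2.bc k X K).presheaf.stalk y)) :=
      inferInstanceAs (IsLocalHom ((Curv2.bcFst k X K).stalkMap y).hom)
    have hd := Lib.AnLoc.FlatAscent.ringKrullDim_eq (X.presheaf.stalk x)
      ((Curv2.bc k X K).presheaf.stalk y)
    rw [hb, hc] at hd
    change ringKrullDim (((Curv2.bc k X K).presheaf.stalk y) ⧸
      (IsLocalRing.maximalIdeal (X.presheaf.stalk x)).map
        (algebraMap (X.presheaf.stalk x) ((Curv2.bc k X K).presheaf.stalk y))) + _ = _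
    generalize ringKrullDim (((Curv2.bc k X K).presheaf.stalk y) ⧸
      (IsLocalRing.maximalIdeal (X.presheaf.stalk x)).map
        (algebraMap (X.presheaf.stalk x) ((Curv2.bc k X K).presheaf.stalk y))) = e at hd ⊢
    induction e using WithBot.recBotCoe with
    | bot => simp at hd
    | coe e =>
      induction e using ENat.recTopCoe with
      | top =>
        rw [← WithBot.coe_natCast, ← WithBot.coe_natCast, ← WithBot.coe_add, WithBot.coe_inj, add_top] at hd
        exact absurd hd (ENat.coe_ne_top c)
      | coe e =>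
        have : c = b + e := by exact_mod_cast hd
        have h : e + a' = a := by omega
        exact_mod_cast h

end Groth.Agent.S7589
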