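import Groth.Statements.S7592
import Groth.Agent.Lib.GeomConn.GaloisComponents

set_option autoImplicit false
universe u
open CategoryTheory CategoryTheory.Limits AlgebraicGeometry
open Variety

namespace Groth.Agent.S7592

/-- Let K be a (possibly infinite) Galois extension of a field k and f : T → X a morphism of schemes
over k. If the base change T_K is connected and X_K is not connected, then X is not connected. -/
theorem result (k : Type u) [Field k] (K : Type u) [Field K] [Algebra k K] [IsGalois k K]
    (T X : Scheme.{u}) [T.Over (Spec (CommRingCat.of k))] [X.Over (Spec (CommRingCat.of k))]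
    (f : T ⟶ X) [f.IsOver (Spec (CommRingCat.of k))]
    [ConnectedSpace ↥(Curv2.bc k T K)] (hX : ¬ ConnectedSpace ↥(Curv2.bc k X K)) :
    ¬ ConnectedSpace ↥X := by
  intro hXc
  let fK : Curv2.bc k T K ⟶ Curv2.bc k X K :=
    pullback.map _ _ _ _ f (𝟙 _) (𝟙 _) (by simp) (by simp)
  have hcomm : ∀ σ : K ≃ₐ[k] K,
      fK ≫ Curv2.galAct k X K σ = Curv2.galAct k T K σ ≫ fK := by
    intro σ
    refine pullback.hom_ext ?_ ?_
    · rw [Category.assoc, Category.assoc]
      erw [Groth.Agent.Lib.GeomConn.Galois.galAct_fst, pullback.lift_fst]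
      rw [← Category.assoc]
      erw [Groth.Agent.Lib.GeomConn.Galois.galAct_fst]
    · rw [Category.assoc, Category.assoc]
      erw [Groth.Agent.Lib.GeomConn.Galois.galAct_snd, pullback.lift_snd, pullback.lift_snd_assoc]
      simp
  obtain ⟨t⟩ : Nonempty (Curv2.bc k T K) := inferInstance
  have hsub : Set.range fK ⊆ connectedComponent (fK t) :=
    (isPreconnected_range fK.continuous).subset_connectedComponent ⟨t, rfl⟩
  have hinv : ∀ σ : K ≃ₐ[k] K, Curv2.galAct k X K σ '' connectedComponent (fK t) =
      connectedComponent (fK t) := by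
    intro σ
    rw [Groth.Agent.Lib.GeomConn.GaloisComponents.image_galAct_connectedComponent,
      connectedComponent_eq (hsub ⟨Curv2.galAct k T K σ t, rfl⟩), ← Scheme.Hom.comp_apply,
      ← Scheme.Hom.comp_apply, hcomm]
  have h2 := Groth.Agent.Lib.GeomConn.GaloisComponents.preimage_connectedComponent_of_invariant
    k X K (fK t) hinv
  rw [PreconnectedSpace.connectedComponent_eq_univ, Set.preimage_univ] at h2
  exact hX (connectedSpace_iff_univ.mpr (h2 ▸ isConnected_connectedComponent))

end Groth.Agent.S7592
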