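import Groth.Statements.S7593
import Groth.Agent.Lib.GeomConn.GaloisComponents

set_option autoImplicit false
universe u
open CategoryTheory CategoryTheory.Limits AlgebraicGeometry
open Variety

namespace Groth.Agent.S7593

/-- Let k̄ be a separable algebraic closure of a field k, X a scheme over k and t a point of X_{k̄} with
image x in X. The connected component of t is mapped onto itself by the action of every
k-automorphism of k̄ if and only if it equals the full inverse image of the connected component T of
x in X and T is geometrically connected over k (the inverse image of T in X_K is connected for every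
extension field K of k). -/
theorem result (k : Type u) [Field k] (X : Scheme.{u}) [X.Over (Spec (CommRingCat.of k))] (t : ↥(Curv2.bc k X (SeparableClosure k))) :
    (∀ σ : SeparableClosure k ≃ₐ[k] SeparableClosure k,
        (Curv2.galAct k X (SeparableClosure k) σ).base '' connectedComponent t = connectedComponent t) ↔
      ((Curv2.bcFst k X (SeparableClosure k)).base ⁻¹' connectedComponent (Curv2.bcFst k X (SeparableClosure k) t) = connectedComponent t ∧
        ∀ (K : Type u) [Field K] [Algebra k K],
          _root_.IsConnected ((Curv2.bcFst k X K).base ⁻¹' connectedComponent (Curv2.bcFst k X (SeparableClosure k) t))) := by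
  constructor
  · intro hinv
    have hpre := Groth.Agent.Lib.GeomConn.GaloisComponents.preimage_connectedComponent_of_invariant
      k X (SeparableClosure k) t hinv
    refine ⟨hpre, fun K _ _ => ?_⟩
    let Ω := AlgebraicClosure K
    letI := (Groth.Agent.Lib.GeomConn.Geometric.sepEmb k K).toRingHom.toAlgebra
    haveI : IsScalarTower k (SeparableClosure k) Ω :=
      .of_algebraMap_eq fun a => ((Groth.Agent.Lib.GeomConn.Geometric.sepEmb k K).commutes a).symm
    haveI := Groth.Agent.Lib.GeomConn.Components.bcMap_geometricallyConnected k X (SeparableClosure k) Ω
    have hc := ((Groth.Agent.Lib.GeomConn.Components.bcMap k X (SeparableClosure k) Ω).isConnected_preimage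
      (Groth.Agent.Lib.GeomConn.Components.bcMap_isOpenMap k X (SeparableClosure k) Ω)
      (isConnected_connectedComponent (x := t)) isClosed_connectedComponent).image _
      (Groth.Agent.Lib.GeomConn.Components.bcMap k X K Ω).continuous.continuousOn
    convert hc using 1
    rw [← hpre, ← Set.preimage_comp]
    ext y
    constructor
    · intro hy
      obtain ⟨w, rfl⟩ := Groth.Agent.Lib.GeomConn.Components.bcMap_surjective k X K Ω y
      refine ⟨w, ?_, rfl⟩
      simpa [Groth.Agent.Lib.GeomConn.Components.bcMap_fst_apply] using hy
    · rintro ⟨w, hw, rfl⟩
      simpa [Groth.Agent.Lib.GeomConn.Components.bcMap_fst_apply] using hw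
  · rintro ⟨hpre, -⟩ σ
    rw [Groth.Agent.Lib.GeomConn.GaloisComponents.image_galAct_connectedComponent]
    refine connectedComponent_eq ?_ |>.symm
    rw [← hpre]
    change Curv2.bcFst k X (SeparableClosure k) (Curv2.galAct k X (SeparableClosure k) σ t) ∈
      connectedComponent (Curv2.bcFst k X (SeparableClosure k) t)
    rw [Groth.Agent.Lib.GeomConn.Galois.bcFst_galAct_apply]
    exact mem_connectedComponent

end Groth.Agent.S7593
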