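import Groth.Statements.S7594
import Groth.Agent.Lib.GeomConn.SelfProduct
-- import your own Groth.Agent.* helpers here

set_option autoImplicit false
universe u
open CategoryTheory CategoryTheory.Limits AlgebraicGeometry
open Variety

namespace Groth.Agent.S7594

/-- A scheme X over a field k is geometrically irreducible over k precisely when the fibre product X ×_k
X of X with itself is an irreducible scheme. -/
theorem result (k : Type u) [Field k] (X : Scheme.{u}) [X.Over (Spec (CommRingCat.of k))] :
    GeometricallyIrreducible (X ↘ (Spec (CommRingCat.of k))) ↔ IrreducibleSpace ↥(pullback (X ↘ (Spec (CommRingCat.of k))) (X ↘ (Spec (CommRingCat.of k)))) := by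
  let f := X ↘ Spec (CommRingCat.of k)
  haveI hU : UniversallyOpen f := inferInstance
  constructor
  · intro h
    haveI := GeometricallyIrreducible.irreducibleSpace_of_subsingleton f
    infer_instance
  · intro h
    haveI : Surjective f := by
      obtain ⟨p⟩ := (h.toNonempty)
      exact ⟨fun z => ⟨pullback.fst f f p, @Subsingleton.elim (PrimeSpectrum k) _ _ _⟩⟩
    haveI : IrreducibleSpace X :=
      Groth.Agent.Lib.GeomConn.Geometric.irreducibleSpace_of_surjective (pullback.fst f f).continuous
        (pullback.fst f f).surjective
    rw [Groth.Agent.Lib.GeomConn.Geometric.geometricallyIrreducible_iff_forall]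
    intro K _ _
    letI := Curv2.resAlgebra k X (genericPoint X)
    refine Groth.Agent.Lib.GeomConn.GenericFibre.irreducibleSpace_bc_of_separableClosure_eq_bot
      k X K (eq_bot_iff.2 fun a ha => IntermediateField.mem_bot.2 ?_)
    haveI := Groth.Agent.Lib.GeomConn.SelfProduct.irreducibleSpace_tensor_of_self k X
    exact Groth.Agent.Lib.GeomConn.SelfProduct.mem_range_of_irreducibleSpace_tensor _ _ a
      (mem_separableClosure_iff.1 ha)

end Groth.Agent.S7594
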