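import Groth.Statements.S7596
import Groth.Agent.Lib.GeomConn.GenericFibre
-- import your own Groth.Agent.* helpers here

set_option autoImplicit false
universe u
open CategoryTheory CategoryTheory.Limits AlgebraicGeometry
open Variety

namespace Groth.Agent.S7596

/-- Let X be an irreducible scheme over a field k whose k-rational points (points x at which k → κ(x) is
onto) form a dense subset. Then X is geometrically irreducible over k. -/
theorem result (k : Type u) [Field k] (X : Scheme.{u}) [X.Over (Spec (CommRingCat.of k))] [IrreducibleSpace ↥X]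
    (hd : Dense {x : ↥X | Function.Surjective (Curv2.resMap k X x)}) :
    GeometricallyIrreducible (X ↘ (Spec (CommRingCat.of k))) := by
  rw [Groth.Agent.Lib.GeomConn.Geometric.geometricallyIrreducible_iff_sepClosure]
  let L := SeparableClosure k
  let π := Curv2.bcFst k X L
  let D : Set (Curv2.bc k X L) := π ⁻¹' {x : X | Function.Surjective (Curv2.resMap k X x)}
  have hD : Dense D := hd.preimage (Groth.Agent.Lib.GeomConn.Galois.isOpenMap_bcFst k X L)
  obtain ⟨Z, hZ, -⟩ : ∃ Z ∈ irreducibleComponents (Curv2.bc k X L), (∅ : Set _) ⊆ Z := by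
    obtain ⟨y, -⟩ := π.surjective (genericPoint X)
    exact ⟨_, irreducibleComponent_mem_irreducibleComponents y, Set.empty_subset _⟩
  have himg := Groth.Agent.Lib.GeomConn.Components.image_irreducibleComponent k X L Z hZ
  rw [irreducibleComponents_eq_singleton, Set.mem_singleton_iff] at himg
  have hsub : D ⊆ Z := by
    intro y (hy : Function.Surjective (Curv2.resMap k X (π y)))
    obtain ⟨z, hz, hzy⟩ : π y ∈ π '' Z := himg.ge trivial
    letI := Curv2.resAlgebra k X (π y)
    haveI : IsIso (CommRingCat.ofHom (algebraMap k (X.residueField (π y)))) :=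
      (ConcreteCategory.isIso_iff_bijective _).2 ⟨RingHom.injective _, hy⟩
    haveI : Subsingleton ↥(pullback (Spec.map (CommRingCat.ofHom (algebraMap k (X.residueField (π y)))))
        (Spec.map (CommRingCat.ofHom (algebraMap k L)))) :=
      (pullback.snd (Spec.map (CommRingCat.ofHom (algebraMap k (X.residueField (π y)))))
        (Spec.map (CommRingCat.ofHom (algebraMap k L)))).homeomorph.injective.subsingleton
    have hr := Groth.Agent.Lib.GeomConn.GenericFibre.range_fibreMap k X L (π y)
    obtain ⟨p, hp⟩ := hr.ge (rfl : π y = π y)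
    obtain ⟨q, hq⟩ := hr.ge (hzy : π z = π y)
    rw [← hp, Subsingleton.elim p q, hq]
    exact hz
  have hZu : Z = Set.univ := Set.eq_univ_of_univ_subset
    (hD.closure_eq ▸ (closure_minimal hsub (isClosed_of_mem_irreducibleComponents Z hZ)))
  exact irreducibleSpace_def _ |>.mpr (Set.top_eq_univ ▸ hZu ▸ hZ.1)

end Groth.Agent.S7596
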