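import Groth.Statements.S7597
import Groth.Agent.Lib.GeomConn.GaloisComponents

set_option autoImplicit false
universe u
open CategoryTheory CategoryTheory.Limits AlgebraicGeometry
open Variety

namespace Groth.Agent.S7597

/-- Let k̄ be a separable algebraic closure of a field k, X a scheme over k and Z an irreducible
component of X_{k̄}. Then Z is mapped onto itself by the action of every k-automorphism of k̄ if and
only if Z is the full inverse image of some irreducible component T of X which is geometrically
irreducible over k (the inverse image of T in X_K is irreducible for every extension field K of k). -/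
theorem result (k : Type u) [Field k] (X : Scheme.{u}) [X.Over (Spec (CommRingCat.of k))]
    (Z : Set ↥(Curv2.bc k X (SeparableClosure k))) (hZ : Z ∈ irreducibleComponents ↥(Curv2.bc k X (SeparableClosure k))) :
    (∀ σ : SeparableClosure k ≃ₐ[k] SeparableClosure k, (Curv2.galAct k X (SeparableClosure k) σ).base '' Z = Z) ↔
      ∃ T ∈ irreducibleComponents ↥X, (Curv2.bcFst k X (SeparableClosure k)).base ⁻¹' T = Z ∧
        ∀ (K : Type u) [Field K] [Algebra k K], IsIrreducible ((Curv2.bcFst k X K).base ⁻¹' T) := by
  have himg := Groth.Agent.Lib.GeomConn.Components.image_irreducibleComponent k X _ Z hZ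
  constructor
  · intro hinv
    have hpre := Groth.Agent.Lib.GeomConn.GaloisComponents.preimage_irreducibleComponent_of_invariant
      k X (SeparableClosure k) Z hinv
    refine ⟨_, himg, hpre, fun K _ _ => ?_⟩
    let Ω := AlgebraicClosure K
    letI := (Groth.Agent.Lib.GeomConn.Geometric.sepEmb k K).toRingHom.toAlgebra
    haveI : IsScalarTower k (SeparableClosure k) Ω :=
      .of_algebraMap_eq fun a => ((Groth.Agent.Lib.GeomConn.Geometric.sepEmb k K).commutes a).symm
    haveI := Groth.Agent.Lib.GeomConn.Components.bcMap_geometricallyIrreducible k X (SeparableClosure k) Ω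
    have hc := ((Groth.Agent.Lib.GeomConn.Components.bcMap k X (SeparableClosure k) Ω).isIrreducible_preimage
      (Groth.Agent.Lib.GeomConn.Components.bcMap_isOpenMap k X (SeparableClosure k) Ω) hZ.1).image _
      (Groth.Agent.Lib.GeomConn.Components.bcMap k X K Ω).continuous.continuousOn
    convert hc using 1
    conv_rhs => rw [← hpre, ← Set.preimage_comp]
    ext y
    constructor
    · intro hy
      obtain ⟨w, rfl⟩ := Groth.Agent.Lib.GeomConn.Components.bcMap_surjective k X K Ω y
      refine ⟨w, ?_, rfl⟩
      simpa [Groth.Agent.Lib.GeomConn.Components.bcMap_fst_apply] using hy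
    · rintro ⟨w, hw, rfl⟩
      simpa [Groth.Agent.Lib.GeomConn.Components.bcMap_fst_apply] using hw
  · rintro ⟨T, -, hpre, -⟩ σ
    subst hpre
    ext y
    constructor
    · rintro ⟨x, hx, rfl⟩
      simpa [Groth.Agent.Lib.GeomConn.Galois.bcFst_galAct_apply] using hx
    · intro hy
      refine ⟨Curv2.galAct k X _ σ⁻¹ y, ?_,
        Groth.Agent.Lib.GeomConn.GaloisComponents.galAct_apply_inv k X _ σ y⟩
      simpa [Groth.Agent.Lib.GeomConn.Galois.bcFst_galAct_apply] using hy

end Groth.Agent.S7597
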