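import Groth.Statements.S7601
import Groth.Agent.H2.Rigid.GeomNormal

set_option autoImplicit false
universe u
open CategoryTheory CategoryTheory.Limits AlgebraicGeometry
open Variety

namespace Groth.Agent.S7601

/-- Let X be a geometrically normal scheme over a field k (X_K is a normal scheme for every extension
field K of k) and Y a normal scheme over k. Then X ×_k Y is a normal scheme. -/
theorem result (k : Type u) [Field k] (X : Scheme.{u}) [X.Over (Spec (CommRingCat.of k))] (Y : Scheme.{u}) [Y.Over (Spec (CommRingCat.of k))]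
    (hX : ∀ (K : Type u) [Field K] [Algebra k K], Pi1.IsNormalScheme (Curv2.bc k X K)) (hY : Pi1.IsNormalScheme Y) :
    Pi1.IsNormalScheme (pullback (X ↘ (Spec (CommRingCat.of k))) (Y ↘ (Spec (CommRingCat.of k)))) := by
  intro z
  let f := X ↘ Spec (CommRingCat.of k)
  let g := Y ↘ Spec (CommRingCat.of k)
  let x := pullback.fst f g z
  let y := pullback.snd f g z
  let a := Groth.Agent.H52.FBase.StalkBC.fromOx f x
  let b := Groth.Agent.H52.FBase.StalkBC.fromOx g y
  let A := Groth.Agent.H52.FBase.StalkBC.Ox f x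
  let B := Groth.Agent.H52.FBase.StalkBC.Ox g y
  obtain ⟨w, -, hw⟩ := Scheme.Pullback.exists_preimage_pullback (IsLocalRing.closedPoint A) z
    (f := a) (g := pullback.fst f g) (Groth.Agent.H52.FBase.StalkBC.fromOx_closedPoint f x)
  let J : pullback a (pullback.fst f g) ⟶ pullback f g := pullback.snd _ _
  have : Flat J := inferInstanceAs (Flat (pullback.snd _ _))
  have : IsPreimmersion J := inferInstanceAs (IsPreimmersion (pullback.snd _ _))
  have hw' : J w = z := hw
  rw [← hw']
  refine Groth.Agent.H2.Rigid.GeomNormal.normalAt_map J w ?_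
  let E := pullbackRightPullbackFstIso f g a
  obtain ⟨w', rfl⟩ := E.inv.surjective w
  refine Groth.Agent.H2.Rigid.GeomNormal.normalAt_map E.inv w' ?_
  have hyw : b (IsLocalRing.closedPoint B) = pullback.snd (a ≫ f) g w' := by
    refine (Groth.Agent.H52.FBase.StalkBC.fromOx_closedPoint g y).trans ?_
    show pullback.snd f g z = _
    rw [← hw']
    simp only [← Scheme.Hom.comp_apply]
    exact congrArg (fun m : pullback (a ≫ f) g ⟶ Y => m w') (show E.inv ≫ J ≫ pullback.snd f g = _ from pullbackRightPullbackFstIso_inv_snd_snd _ _ _)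
  obtain ⟨v, hv, -⟩ := Scheme.Pullback.exists_preimage_pullback w' (IsLocalRing.closedPoint B)
    (f := pullback.snd (a ≫ f) g) (g := b) hyw.symm
  rw [← hv]
  refine Groth.Agent.H2.Rigid.GeomNormal.normalAt_map (pullback.fst (pullback.snd (a ≫ f) g) b) v ?_
  let E2 : pullback (pullback.snd (a ≫ f) g) b ≅ Spec (CommRingCat.of (TensorProduct k A B)) :=
    pullbackLeftPullbackSndIso (a ≫ f) g b ≪≫
    pullback.congrHom (Groth.Agent.H52.FBase.StalkBC.specMap_alg f x).symm
      (Groth.Agent.H52.FBase.StalkBC.specMap_alg g y).symm ≪≫ pullbackSpecIso k A B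
  obtain ⟨v', rfl⟩ := E2.inv.surjective v
  refine Groth.Agent.H2.Rigid.GeomNormal.normalAt_map E2.inv v'
    (Groth.Agent.H2.Rigid.GeomNormal.normalAt_spec ?_ v')
  obtain ⟨_, _⟩ := hY y
  have : IsDomain B := inferInstanceAs (IsDomain (Y.presheaf.stalk y))
  have : IsIntegrallyClosed B := inferInstanceAs (IsIntegrallyClosed (Y.presheaf.stalk y))
  exact Groth.Agent.Lib.NormalTensor.Main.isNormalRing_tensor k
    (fun k' _ _ hfin _ => Groth.Agent.H2.Rigid.GeomNormal.tensor_of_normalAt k X x k' fun w _ => hX k' w)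
    (Groth.Agent.Lib.NormalTensor.Main.isNormalRing_of_domain (B := B))

end Groth.Agent.S7601
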