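import Groth.Statements.S7602
import Groth.Agent.H2.Rigid.GeomNormal

set_option autoImplicit false
universe u
open CategoryTheory CategoryTheory.Limits AlgebraicGeometry
open Variety

namespace Groth.Agent.S7602

/-- Let X be a normal scheme over a field k and K an extension field of k which is separable over k in
the sense that Spec K → Spec k is geometrically reduced (K ⊗_k k' reduced for every field k' over
k). Then X_K is a normal scheme. -/
theorem result (k : Type u) [Field k] (X : Scheme.{u}) [X.Over (Spec (CommRingCat.of k))] (hX : Pi1.IsNormalScheme X)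
    (K : Type u) [Field K] [Algebra k K] [GeometricallyReduced (Spec.map (CommRingCat.ofHom (algebraMap k K)))] :
    Pi1.IsNormalScheme (Curv2.bc k X K) := by
  intro y
  refine Groth.Agent.H2.Rigid.GeomNormal.normalAt_of_tensor k X (Curv2.bcFst k X K y) K ?_ y specializes_rfl
  have : Algebra.IsGeometricallyReduced k K := by
    rw [Algebra.isGeometricallyReduced_field_iff]
    let L := AlgebraicClosure k
    have hP : IsReduced (pullback (Spec.map (CommRingCat.ofHom (algebraMap k K)))
        (Spec.map (CommRingCat.ofHom (algebraMap k L)))) :=
      GeometricallyReduced.geometrically_isReduced _ _ _ (IsPullback.of_hasPullback _ _)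
    have h1 : IsReduced (Spec (CommRingCat.of (TensorProduct k K L))) :=
      isReduced_of_isOpenImmersion (pullbackSpecIso k K L).inv
    have h2 : _root_.IsReduced (CommRingCat.of (TensorProduct k K L)) := affine_isReduced_iff _ |>.1 h1
    have h3 : _root_.IsReduced (TensorProduct k K L) := h2
    exact isReduced_of_injective (Algebra.TensorProduct.comm k L K) (AlgEquiv.injective _)
  obtain ⟨_, _⟩ := hX (Curv2.bcFst k X K y)
  have : IsDomain (Groth.Agent.H2.Rigid.GeomNormal.O k X (Curv2.bcFst k X K y)) := (hX (Curv2.bcFst k X K y)).1
  have : IsIntegrallyClosed (Groth.Agent.H2.Rigid.GeomNormal.O k X (Curv2.bcFst k X K y)) := (hX (Curv2.bcFst k X K y)).2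
  exact Groth.Agent.Lib.NormalTensor.Field.isNormalRing_tensor_of_geometricallyReduced k
    (Groth.Agent.Lib.NormalTensor.Main.isNormalRing_of_domain
      (B := Groth.Agent.H2.Rigid.GeomNormal.O k X (Curv2.bcFst k X K y)))

end Groth.Agent.S7602
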