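import Groth.Statements.S7605
-- import your own Groth.Agent.* helpers here

set_option autoImplicit false
universe u
open CategoryTheory CategoryTheory.Limits AlgebraicGeometry
open Variety

namespace Groth.Agent.S7605

/-- For a scheme X over a field k and a finitely generated field extension k' of k, local Noetherianity
of X is equivalent to local Noetherianity of its base change X_{k'}. -/
theorem result (k : Type u) [Field k] (X : Scheme.{u}) [X.Over (Spec (CommRingCat.of k))] (k' : Type u) [Field k'] [Algebra k k']
    (hfg : (⊤ : IntermediateField k k').FG) :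
    IsLocallyNoetherian X ↔ IsLocallyNoetherian (Curv2.bc k X k') := by
  have : Algebra.EssFiniteType k k' := IntermediateField.fg_top_iff.1 hfg
  let str := X ↘ Spec (CommRingCat.of k)
  let σ := Spec.map (CommRingCat.ofHom (algebraMap k k'))
  let 𝒰 := X.affineCover
  let π : Curv2.bc k X k' ⟶ X := Curv2.bcFst k X k'
  rw [isLocallyNoetherian_iff_openCover 𝒰, isLocallyNoetherian_iff_openCover (𝒰.pullback₁ π)]
  refine forall_congr' fun i => ?_
  let A := Γ(𝒰.X i, ⊤)
  have : IsAffine (𝒰.X i) := inferInstanceAs (IsAffine (Spec _))
  let j : Spec A ⟶ X := (𝒰.X i).isoSpec.inv ≫ 𝒰.f i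
  let φ := Spec.preimage (j ≫ str)
  let _ : Algebra k A := φ.hom.toAlgebra
  let E : (𝒰.pullback₁ π).X i ≅ Spec (CommRingCat.of (TensorProduct k A k')) :=
    pullbackSymmetry π (𝒰.f i) ≪≫
      (asIso (pullback.map j π (𝒰.f i) π (𝒰.X i).isoSpec.inv (𝟙 _) (𝟙 _)
        (by simp [j]) (by simp))).symm ≪≫
      pullbackRightPullbackFstIso str σ j ≪≫
      pullback.congrHom (Spec.map_preimage (j ≫ str)).symm rfl ≪≫ pullbackSpecIso k A k'
  constructor
  · intro h
    have : IsLocallyNoetherian (Spec A) := isLocallyNoetherian_of_isOpenImmersion (𝒰.X i).isoSpec.inv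
    have : IsNoetherianRing A := isLocallyNoetherian_Spec.1 this
    have : IsNoetherianRing (TensorProduct k A k') := Algebra.EssFiniteType.isNoetherianRing A _
    exact isLocallyNoetherian_of_isOpenImmersion E.hom
  · intro h
    have : IsLocallyNoetherian (Spec (CommRingCat.of (TensorProduct k A k'))) :=
      isLocallyNoetherian_of_isOpenImmersion E.inv
    have : IsNoetherianRing (TensorProduct k A k') := isLocallyNoetherian_Spec.1 this
    have h' : IsNoetherian (TensorProduct k A k') (TensorProduct A (TensorProduct k A k') A) :=
      isNoetherian_of_linearEquiv (TensorProduct.AlgebraTensorModule.rid A (TensorProduct k A k') (TensorProduct k A k')).symm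
    have : IsNoetherianRing A :=
      Submodule.IsNoetherian.of_isNoetherian_tensorProduct_of_faithfullyFlat (A := TensorProduct k A k') h'
    exact isLocallyNoetherian_of_isOpenImmersion (𝒰.X i).isoSpec.hom

end Groth.Agent.S7605
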