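import Groth.Statements.S7607
import Groth.Agent.H2.Rigid.GeomRegPt

set_option autoImplicit false
universe u
open CategoryTheory CategoryTheory.Limits AlgebraicGeometry
open Variety

namespace Groth.Agent.S7607

/-- (2) ⇒ (1): let X be a scheme over a field k, k' a finitely generated field extension of k and x' a
point of X_{k'} with image x in X. If X_{k'} is geometrically regular at x' over k', then X is
geometrically regular at x over k. (The published setting defines geometric regularity only for
locally Noetherian schemes; this row allows any scheme X over k.) -/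
theorem result (k : Type u) [Field k] (X : Scheme.{u}) [X.Over (Spec (CommRingCat.of k))] (k' : Type u) [Field k'] [Algebra k k'] (hfg : (⊤ : IntermediateField k k').FG)
    (x' : ↥(Curv2.bc k X k'))
    (h : @Curv2.IsGeomRegularAt k' _ (Curv2.bc k X k') ⟨Curv2.bcSnd k X k'⟩ x') :
    Curv2.IsGeomRegularAt k X (Curv2.bcFst k X k' x') := by
  intro K _ _ hK y hy
  have : Algebra.EssFiniteType k K := IntermediateField.fg_top_iff.1 hK
  have : Algebra.EssFiniteType k k' := IntermediateField.fg_top_iff.1 hfg
  let σ' := Spec.map (CommRingCat.ofHom (algebraMap k k'))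
  let σ₁ := Spec.map (CommRingCat.ofHom (algebraMap k K))
  let str := X ↘ Spec (CommRingCat.of k)
  let X' := Curv2.bc k X k'
  let π' : X' ⟶ X := Curv2.bcFst k X k'
  let snd' : X' ⟶ Spec (CommRingCat.of k') := Curv2.bcSnd k X k'
  let π₁ : Curv2.bc k X K ⟶ X := Curv2.bcFst k X K
  let snd₁ : Curv2.bc k X K ⟶ Spec (CommRingCat.of K) := Curv2.bcSnd k X K
  obtain ⟨w, hw₁, hw₂⟩ := Scheme.Pullback.exists_preimage_pullback x' y (f := π') (g := π₁) hy.symm
  let W := pullback π' π₁
  let M := W.residueField w
  let ρ : Spec (CommRingCat.of M) ⟶ W := W.fromSpecResidueField w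
  let a : Spec (CommRingCat.of M) ⟶ Spec (CommRingCat.of k') := ρ ≫ pullback.fst π' π₁ ≫ snd'
  let b : Spec (CommRingCat.of M) ⟶ Spec (CommRingCat.of K) := ρ ≫ pullback.snd π' π₁ ≫ snd₁
  have hab : a ≫ σ' = b ≫ σ₁ := by
    have e1 : π' ≫ str = snd' ≫ σ' := pullback.condition
    have e2 : π₁ ≫ str = snd₁ ≫ σ₁ := pullback.condition
    simp only [a, b, Category.assoc]
    rw [← e1, ← e2, ← Category.assoc (pullback.fst π' π₁), ← Category.assoc (pullback.snd π' π₁),
      pullback.condition]
  let α := (Spec.preimage a).hom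
  let β := (Spec.preimage b).hom
  have hαβ : α.comp (algebraMap k k') = β.comp (algebraMap k K) := by
    refine congrArg CommRingCat.Hom.hom (Spec.map_injective
      (a₁ := CommRingCat.ofHom (algebraMap k k') ≫ Spec.preimage a)
      (a₂ := CommRingCat.ofHom (algebraMap k K) ≫ Spec.preimage b) ?_)
    rw [Spec.map_comp, Spec.map_comp, Spec.map_preimage, Spec.map_preimage]
    exact hab
  let _ : Algebra k M := (α.comp (algebraMap k k')).toAlgebra
  let αk : k' →ₐ[k] M := { α with commutes' := fun _ => rfl }
  let βk : K →ₐ[k] M :=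
    { β with
      commutes' := fun c => (congr($(hαβ) c)).symm }
  let φ : TensorProduct k k' K →ₐ[k] M := Algebra.TensorProduct.lift αk βk fun _ _ => Commute.all _ _
  let P := RingHom.ker φ
  have : P.IsPrime := RingHom.ker_isPrime φ
  let L := P.ResidueField
  have : Algebra.EssFiniteType (TensorProduct k k' K) L := inferInstance
  have : Algebra.EssFiniteType k' L := Algebra.EssFiniteType.comp k' (TensorProduct k k' K) L
  let lamL : L →+* M := Ideal.ResidueField.lift P φ.toRingHom le_rfl (fun z hz => by
    exact isUnit_iff_ne_zero.2 fun h0 => hz h0)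
  have hlam : ∀ z, lamL (algebraMap (TensorProduct k k' K) L z) = φ z := fun z =>
    Ideal.ResidueField.lift_algebraMap _ _ _ _ z
  let iK : K →+* L := (algebraMap (TensorProduct k k' K) L).comp
    (Algebra.TensorProduct.includeRight (R := k) (A := k') (B := K)).toRingHom
  let a₀ : Spec (CommRingCat.of L) ⟶ Spec (CommRingCat.of k') := Spec.map (CommRingCat.ofHom (algebraMap k' L))
  let b₀ : Spec (CommRingCat.of L) ⟶ Spec (CommRingCat.of K) := Spec.map (CommRingCat.ofHom iK)
  let c₀ : Spec (CommRingCat.of M) ⟶ Spec (CommRingCat.of L) := Spec.map (CommRingCat.ofHom lamL)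
  have hca : c₀ ≫ a₀ = a := by
    rw [← Spec.map_preimage a, ← Spec.map_comp]
    congr 1
    ext t
    show lamL (algebraMap k' L t) = α t
    rw [IsScalarTower.algebraMap_apply k' (TensorProduct k k' K) L, hlam]
    simp [φ, αk, Algebra.TensorProduct.algebraMap_apply]
  have hcb : c₀ ≫ b₀ = b := by
    rw [← Spec.map_preimage b, ← Spec.map_comp]
    congr 1
    ext t
    show lamL (algebraMap (TensorProduct k k' K) L _) = β t
    rw [hlam]
    simp [φ, βk]
  have hab₀ : a₀ ≫ σ' = b₀ ≫ σ₁ := by
    rw [← Spec.map_comp, ← Spec.map_comp]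
    congr 1
    ext c
    show algebraMap k' L (algebraMap k k' c) = algebraMap (TensorProduct k k' K) L _
    rw [IsScalarTower.algebraMap_apply k' (TensorProduct k k' K) L]
    exact congrArg (algebraMap (TensorProduct k k' K) L)
      ((IsScalarTower.algebraMap_apply k k' (TensorProduct k k' K) c).symm.trans
        ((Algebra.TensorProduct.includeRight (R := k) (A := k') (B := K)).commutes c).symm)
  letI : X'.Over (Spec (CommRingCat.of k')) := ⟨snd'⟩
  let Z := pullback snd' a₀
  let zmap : Spec (CommRingCat.of M) ⟶ Z :=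
    pullback.lift (ρ ≫ pullback.fst π' π₁) c₀ (by rw [hca]; simp [a, Category.assoc])
  let p : Z ⟶ Curv2.bc k X K := pullback.lift (pullback.fst _ _ ≫ π') (pullback.snd _ _ ≫ b₀) (by
    have e1 : π' ≫ str = snd' ≫ σ' := pullback.condition
    rw [Category.assoc, Category.assoc, e1, ← hab₀, ← Category.assoc, pullback.condition,
      Category.assoc])
  have sq : IsPullback p (pullback.snd _ _) snd₁ b₀ := by
    refine IsPullback.of_right ?_ (pullback.lift_snd _ _ _) (IsPullback.of_hasPullback str σ₁)
    rw [pullback.lift_fst, ← hab₀]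
    exact (IsPullback.of_hasPullback snd' _).paste_horiz (IsPullback.of_hasPullback str σ')
  have : Flat b₀ := by
    let _ : Algebra K L := iK.toAlgebra
    exact (HasRingHomProperty.Spec_iff (P := @Flat)).2
      (RingHom.flat_algebraMap_iff.2 (inferInstance : Module.Flat K L))
  have : Flat p := MorphismProperty.of_isPullback sq.flip inferInstance
  let c := IsLocalRing.closedPoint M
  have hz : pullback.fst snd' a₀ (zmap c) = x' := by
    refine (congrArg (fun m : Spec (CommRingCat.of M) ⟶ X' => m c) (pullback.lift_fst _ _ _ :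
      zmap ≫ pullback.fst snd' a₀ = ρ ≫ pullback.fst π' π₁)).trans ?_
    exact (congrArg _ (W.fromSpecResidueField_apply w c)).trans hw₁
  have hp : p (zmap c) = y := by
    have e : zmap ≫ p = ρ ≫ pullback.snd π' π₁ := by
      have hp1 : p ≫ π₁ = pullback.fst _ _ ≫ π' := pullback.lift_fst _ _ _
      have hp2 : p ≫ snd₁ = pullback.snd _ _ ≫ b₀ := pullback.lift_snd _ _ _
      apply pullback.hom_ext
      · show (zmap ≫ p) ≫ π₁ = (ρ ≫ pullback.snd π' π₁) ≫ π₁
        rw [Category.assoc, hp1, Category.assoc, ← pullback.condition, ← Category.assoc,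
          pullback.lift_fst, Category.assoc]
      · show (zmap ≫ p) ≫ snd₁ = (ρ ≫ pullback.snd π' π₁) ≫ snd₁
        rw [Category.assoc, hp2, ← Category.assoc, pullback.lift_snd, hcb, Category.assoc]
    refine (congrArg (fun m : Spec (CommRingCat.of M) ⟶ Curv2.bc k X K => m c) e).trans ?_
    exact (congrArg _ (W.fromSpecResidueField_apply w c)).trans hw₂
  rw [← hp]
  exact Groth.Agent.H2.Rigid.GeomRegPt.regular_of_flat p (zmap c)
    (h L (IntermediateField.fg_top_iff.2 inferInstance) (zmap c) hz)

end Groth.Agent.S7607
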