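import Groth.Statements.S7610
import Groth.Agent.Lib.Flat55.DimSums

set_option autoImplicit false
universe u
open CategoryTheory CategoryTheory.Limits AlgebraicGeometry
open Variety

namespace Groth.Agent.S7610

/-- Let X and Y be schemes locally of finite type over a field k and z a point of X ×_k Y lying over x
in X and y in Y. Then dim_z(X ×_k Y) = dim_x X + dim_y Y (local dimensions of the underlying
topological spaces, in WithBot ℕ∞). -/
theorem result (k : Type u) [Field k] (X : Scheme.{u}) [X.Over (Spec (CommRingCat.of k))] [LocallyOfFiniteType (X ↘ (Spec (CommRingCat.of k)))]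
    (Y : Scheme.{u}) [Y.Over (Spec (CommRingCat.of k))] [LocallyOfFiniteType (Y ↘ (Spec (CommRingCat.of k)))]
    (z : ↥(pullback (X ↘ (Spec (CommRingCat.of k))) (Y ↘ (Spec (CommRingCat.of k))))) :
    FlatMor.localDim ↥(pullback (X ↘ (Spec (CommRingCat.of k))) (Y ↘ (Spec (CommRingCat.of k)))) z =
      FlatMor.localDim ↥X (pullback.fst (X ↘ (Spec (CommRingCat.of k))) (Y ↘ (Spec (CommRingCat.of k))) z) +
        FlatMor.localDim ↥Y (pullback.snd (X ↘ (Spec (CommRingCat.of k))) (Y ↘ (Spec (CommRingCat.of k))) z) := by
  exact Groth.Agent.Lib.Flat55.DimSums.localDim_pullback _ _ z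

end Groth.Agent.S7610
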