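import Groth.Statements.S7611
import Groth.Agent.Lib.GeomConn.Residue
import Mathlib.RingTheory.Algebraic.LinearIndependent


set_option autoImplicit false
universe u
open CategoryTheory CategoryTheory.Limits AlgebraicGeometry
attribute [local instance] Curv2.resAlgebra
open Variety

namespace Groth.Agent.S7611

open scoped TensorProduct

/-- If the dimension of a `K`-algebra `B` is small compared to the cardinality of `K`, then every field
which is a quotient of `B` is algebraic over `K`. -/
theorem isAlgebraic_of_surjective {K B L : Type u} [Field K] [CommRing B] [Algebra K B] [Field L]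
    [Algebra K L] (hB : Module.rank K B < Cardinal.mk K) (q : B →ₐ[K] L) (hq : Function.Surjective q) :
    Algebra.IsAlgebraic K L := by
  constructor
  intro x
  by_contra hx
  have h1 := (Transcendental.linearIndependent_sub_inv hx).cardinal_le_rank
  have h2 : Module.rank K L ≤ Module.rank K B := LinearMap.rank_le_of_surjective q.toLinearMap hq
  exact absurd hB (not_lt.2 (h1.trans h2))

theorem rank_polynomial_lt {K B : Type u} [Field K] [CommRing B] [Algebra K B]
    (hB : max (Module.rank K B) Cardinal.aleph0 < Cardinal.mk K) :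
    Module.rank K (Polynomial B) < Cardinal.mk K := by
  have e : Polynomial B ≃ₗ[K] AddMonoidAlgebra B ℕ :=
    ((Polynomial.toFinsuppIsoAlg B).restrictScalars K).toLinearEquiv
  have e2 : AddMonoidAlgebra B ℕ ≃ₗ[K] (ℕ →₀ B) := AddMonoidAlgebra.coeffLinearEquiv K
  rw [(e.trans e2).rank_eq, rank_finsupp, Cardinal.mk_nat, Cardinal.lift_aleph0, Cardinal.lift_uzero]
  refine lt_of_le_of_lt (Cardinal.mul_le_max _ _) ?_
  have hal : Cardinal.aleph0 < Cardinal.mk K := (le_max_right _ _).trans_lt hB
  exact max_lt (max_lt hal ((le_max_left _ _).trans_lt hB)) hal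

/-- A `K`-algebra of dimension small compared to the cardinality of `K` is a Jacobson ring. -/
theorem isJacobsonRing_of_rank_lt {K B : Type u} [Field K] [CommRing B] [Algebra K B]
    (hB : max (Module.rank K B) Cardinal.aleph0 < Cardinal.mk K) : IsJacobsonRing B := by
  rw [isJacobsonRing_iff_prime_eq]
  intro P hP
  refine le_antisymm (fun f hf => ?_) Ideal.le_jacobson
  by_contra hfP
  let I : Ideal (Polynomial B) :=
    P.map Polynomial.C ⊔ Ideal.span {Polynomial.C f * Polynomial.X - 1}
  let F := FractionRing (B ⧸ P)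
  let g : B →+* F := (algebraMap (B ⧸ P) F).comp (Ideal.Quotient.mk P)
  have hgf : g f ≠ 0 := by
    intro h
    apply hfP
    have := (IsFractionRing.injective (B ⧸ P) F) (h.trans (map_zero (algebraMap (B ⧸ P) F)).symm)
    exact Ideal.Quotient.eq_zero_iff_mem.1 this
  have hI : I ≠ ⊤ := by
    intro h
    have hker : I ≤ RingHom.ker (Polynomial.eval₂RingHom g (g f)⁻¹) := by
      refine sup_le ?_ ?_
      · rw [Ideal.map_le_iff_le_comap]
        intro b hb
        simp [g, Ideal.Quotient.eq_zero_iff_mem.2 hb]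
      · rw [Ideal.span_singleton_le_iff_mem, RingHom.mem_ker]
        simp [mul_inv_cancel₀ hgf]
    rw [h] at hker
    exact RingHom.ker_ne_top _ (top_le_iff.1 hker)
  obtain ⟨N, hN, hIN⟩ := Ideal.exists_le_maximal I hI
  let _ : Field (Polynomial B ⧸ N) := Ideal.Quotient.field N
  have hL : Algebra.IsAlgebraic K (Polynomial B ⧸ N) :=
    isAlgebraic_of_surjective (rank_polynomial_lt hB) (Ideal.Quotient.mkₐ K N)
      Ideal.Quotient.mk_surjective
  let q : B →ₐ[K] Polynomial B ⧸ N :=
    (Ideal.Quotient.mkₐ K N).comp (IsScalarTower.toAlgHom K B (Polynomial B))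
  have hq : ∀ b, q b = Ideal.Quotient.mk N (Polynomial.C b) := fun b => rfl
  have hfld : IsField q.range := Subalgebra.isField_of_algebraic q.range
  have hmax : (RingHom.ker q.rangeRestrict).IsMaximal := by
    let _ := hfld.toField
    exact RingHom.ker_isMaximal_of_surjective _ q.rangeRestrict_surjective
  have hmem : ∀ b : B, b ∈ RingHom.ker q.rangeRestrict ↔ Polynomial.C b ∈ N := by
    intro b
    rw [RingHom.mem_ker, ← Ideal.Quotient.eq_zero_iff_mem, ← hq]
    exact Subtype.ext_iff
  have hPle : P ≤ RingHom.ker q.rangeRestrict := fun b hb =>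
    (hmem b).2 (hIN (Ideal.mem_sup_left (Ideal.mem_map_of_mem _ hb)))
  have hfm : f ∈ RingHom.ker q.rangeRestrict := Ideal.mem_sInf.1 hf ⟨hPle, hmax⟩
  apply hN.ne_top
  rw [Ideal.eq_top_iff_one]
  have h1 : Polynomial.C f * Polynomial.X - 1 ∈ N :=
    hIN (Ideal.mem_sup_right (Ideal.mem_span_singleton_self _))
  have h2 : Polynomial.C f * Polynomial.X ∈ N := N.mul_mem_right _ ((hmem f).1 hfm)
  simpa using N.sub_mem h2 h1

/-- A scheme chart `Spec B ⟶ X_K` around each point, with `B` a `K`-algebra of dimension bounded by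
the cardinality of a ring of sections of `X`. -/
theorem exists_chart (k : Type u) [Field k] (X : Scheme.{u}) [X.Over (Spec (CommRingCat.of k))]
    (K : Type u) [Field K] [Algebra k K] (y : ↥(Curv2.bc k X K)) :
    ∃ (B : Type u) (_ : CommRing B) (_ : Algebra K B) (j : Spec (CommRingCat.of B) ⟶ Curv2.bc k X K),
      IsOpenImmersion j ∧ y ∈ Set.range j ∧
      j ≫ Curv2.bcSnd k X K = Spec.map (CommRingCat.ofHom (algebraMap K B)) ∧
      Module.rank K B ≤ Cardinal.mk (Σ U : X.Opens, Γ(X, U)) := by
  obtain ⟨_, ⟨U, hU, rfl⟩, hyU, -⟩ := X.isBasis_affineOpens.exists_subset_of_mem_open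
    (Set.mem_univ (Curv2.bcFst k X K y)) isOpen_univ
  let φ := Spec.preimage (hU.fromSpec ≫ X ↘ Spec (CommRingCat.of k))
  letI : Algebra k Γ(X, U) := φ.hom.toAlgebra
  have e₁ : Spec.map (CommRingCat.ofHom (algebraMap k Γ(X, U))) ≫ 𝟙 _ =
      hU.fromSpec ≫ X ↘ Spec (CommRingCat.of k) := by
    rw [Category.comp_id]; exact Spec.map_preimage _
  have e₂ : Spec.map (CommRingCat.ofHom (algebraMap k K)) ≫ 𝟙 _ =
      𝟙 _ ≫ Spec.map (CommRingCat.ofHom (algebraMap k K)) := by simp
  let m := pullback.map _ _ _ _ hU.fromSpec (𝟙 _) (𝟙 _) e₁ e₂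
  let i := pullbackSymmetry (Spec.map (CommRingCat.ofHom (algebraMap k K)))
    (Spec.map (CommRingCat.ofHom (algebraMap k Γ(X, U))))
  refine ⟨K ⊗[k] Γ(X, U), inferInstance, inferInstance,
    (pullbackSpecIso k K Γ(X, U)).inv ≫ i.hom ≫ m, inferInstance, ?_, ?_, ?_⟩
  · have hr : y ∈ Set.range m := by
      rw [Scheme.Pullback.range_map]
      exact ⟨by rw [hU.range_fromSpec]; exact hyU, ⟨_, rfl⟩⟩
    obtain ⟨z, hz⟩ := hr
    obtain ⟨w, hw⟩ := (((pullbackSpecIso k K Γ(X, U)).inv ≫ i.hom)).homeomorph.surjective z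
    refine ⟨w, ?_⟩
    rw [← Category.assoc, Scheme.Hom.comp_apply, ← hz]
    exact congrArg m hw
  · rw [Category.assoc, Category.assoc]
    dsimp only [m, i, Curv2.bcSnd, pullback.map]
    rw [pullback.lift_snd, Category.comp_id, pullbackSymmetry_hom_comp_snd]
    exact pullbackSpecIso_inv_fst' ..
  · refine (Module.rank_baseChange (R := K) (M' := Γ(X, U))).le.trans ?_
    rw [Cardinal.lift_id]
    refine (rank_le_card _ _).trans ?_
    exact Cardinal.mk_le_of_injective (f := fun a => (⟨U, a⟩ : Σ U : X.Opens, Γ(X, U)))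
      fun a b h => by simpa using h


/-- Let X be a scheme over a field k. There is a cardinal κ such that for every extension field K of k
of cardinality at least κ, the base change X_K is a Jacobson scheme and for every closed point x of
X_K the residue field κ(x) is algebraic over K. -/
theorem result (k : Type u) [Field k] (X : Scheme.{u}) [X.Over (Spec (CommRingCat.of k))] :
    ∃ κ : Cardinal.{u}, ∀ (K : Type u) [Field K] [Algebra k K], κ ≤ Cardinal.mk K →
      JacobsonSpace ↥(Curv2.bc k X K) ∧
        ∀ x : ↥(Curv2.bc k X K), IsClosed ({x} : Set ↥(Curv2.bc k X K)) →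
          letI : (Curv2.bc k X K).Over (Spec (CommRingCat.of K)) := ⟨Curv2.bcSnd k X K⟩
          Algebra.IsAlgebraic K ((Curv2.bc k X K).residueField x) := by
  let c := max (Cardinal.mk (Σ U : X.Opens, Γ(X, U))) Cardinal.aleph0
  refine ⟨Order.succ c, fun K _ _ hK => ?_⟩
  have hc : c < Cardinal.mk K := lt_of_lt_of_le (Order.lt_succ c) hK
  refine ⟨?_, fun x hx => ?_⟩
  · choose B i1 i2 j hj hy hsnd hrk using exists_chart k X K
    let V : ↥(Curv2.bc k X K) → TopologicalSpace.Opens ↥(Curv2.bc k X K) := fun y =>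
      have := hj y
      (j y).opensRange
    have hV : TopologicalSpace.IsOpenCover V := by
      rw [TopologicalSpace.IsOpenCover, eq_top_iff]
      intro y _
      exact TopologicalSpace.Opens.mem_iSup.2 ⟨y, hy y⟩
    rw [hV.jacobsonSpace_iff]
    intro y
    have := hj y
    have : IsJacobsonRing (B y) :=
      isJacobsonRing_of_rank_lt (K := K) ((max_le_max (hrk y) le_rfl).trans_lt hc)
    let e := (j y).isOpenEmbedding.isEmbedding.toHomeomorph
    exact .of_isClosedEmbedding e.symm.isClosedEmbedding
  · letI : (Curv2.bc k X K).Over (Spec (CommRingCat.of K)) := ⟨Curv2.bcSnd k X K⟩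
    obtain ⟨B, _, _, j, hj, hy, hsnd, hrk⟩ := exists_chart k X K x
    have hcl : IsClosedImmersion ((Curv2.bc k X K).fromSpecResidueField x) :=
      isClosed_singleton_iff_isClosedImmersion.1 hx
    let t := IsOpenImmersion.lift j ((Curv2.bc k X K).fromSpecResidueField x)
      (by rw [Scheme.range_fromSpecResidueField, Set.singleton_subset_iff]; exact hy)
    have htj : t ≫ j = (Curv2.bc k X K).fromSpecResidueField x := IsOpenImmersion.lift_fac _ _ _
    have : IsClosedImmersion (t ≫ j) := htj ▸ hcl
    have ht : IsClosedImmersion t := IsClosedImmersion.of_comp t j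
    let ψ := Spec.preimage t
    have hψ : Spec.map ψ = t := Spec.map_preimage t
    have hsurj : Function.Surjective ψ := by
      have : IsClosedImmersion (Spec.map ψ) := hψ ▸ ht
      have h2 := (IsClosedImmersion.isAffine_surjective_of_isAffine (Spec.map ψ)).2
      have heq : ψ = (Scheme.ΓSpecIso _).inv ≫ (Spec.map ψ).appTop ≫ (Scheme.ΓSpecIso _).hom := by
        simp
      rw [heq]
      exact ((Scheme.ΓSpecIso _).commRingCatIsoToRingEquiv.surjective.comp h2).comp
        (Scheme.ΓSpecIso _).symm.commRingCatIsoToRingEquiv.surjective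
    have hcomm : CommRingCat.ofHom (algebraMap K B) ≫ ψ =
        CommRingCat.ofHom (Curv2.resMap K (Curv2.bc k X K) x) := by
      apply Spec.map_injective
      rw [Spec.map_comp, hψ, Groth.Agent.Lib.GeomConn.Residue.specMap_resMap, ← hsnd,
        ← Category.assoc, htj]
      rfl
    exact isAlgebraic_of_surjective ((le_max_left _ _).trans_lt ((max_le_max hrk le_rfl).trans_lt hc))
      { ψ.hom with commutes' := fun r => congr($hcomm r) } hsurj

end Groth.Agent.S7611
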