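import Groth.Statements.S7612
import Groth.Agent.Lib.GeomConn.Galois
-- import your own Groth.Agent.* helpers here

set_option autoImplicit false
universe u
open CategoryTheory CategoryTheory.Limits AlgebraicGeometry
open Variety

namespace Groth.Agent.S7612

private theorem isOpen_snd_image_fibre (k : Type u) [Field k] {X Y : Scheme.{u}}
    (f : X ⟶ Spec (CommRingCat.of k)) (g : Y ⟶ Spec (CommRingCat.of k)) (a : X)
    {W : Set ↥(pullback f g)} (hW : IsOpen W) :
    IsOpen (pullback.snd f g '' (W ∩ pullback.fst f g ⁻¹' {a})) := by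
  let m : pullback (X.fromSpecResidueField a ≫ f) g ⟶ pullback f g :=
    pullback.map _ _ _ _ (X.fromSpecResidueField a) (𝟙 _) (𝟙 _) (by simp) (by simp)
  have hr : Set.range m = pullback.fst f g ⁻¹' {a} := by
    rw [Scheme.Pullback.range_map, Scheme.range_fromSpecResidueField]
    simp
  rw [← hr, ← Set.image_preimage_eq_inter_range, ← Set.image_comp]
  have hcomp : (fun x => pullback.snd f g x) ∘ (fun x => m x) =
      fun x => pullback.snd (X.fromSpecResidueField a ≫ f) g x := by
    funext x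
    simp only [Function.comp_apply]
    rw [← Scheme.Hom.comp_apply, pullback.lift_snd, Category.comp_id]
  haveI : UniversallyOpen (X.fromSpecResidueField a ≫ f) := inferInstance
  rw [hcomp]
  exact (pullback.snd (X.fromSpecResidueField a ≫ f) g).isOpenMap _ (hW.preimage m.continuous)

private theorem isOpen_fst_image_fibre (k : Type u) [Field k] {X Y : Scheme.{u}}
    (f : X ⟶ Spec (CommRingCat.of k)) (g : Y ⟶ Spec (CommRingCat.of k)) (b : Y)
    {W : Set ↥(pullback f g)} (hW : IsOpen W) :
    IsOpen (pullback.fst f g '' (W ∩ pullback.snd f g ⁻¹' {b})) := by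
  let m : pullback f (Y.fromSpecResidueField b ≫ g) ⟶ pullback f g :=
    pullback.map _ _ _ _ (𝟙 _) (Y.fromSpecResidueField b) (𝟙 _) (by simp) (by simp)
  have hr : Set.range m = pullback.snd f g ⁻¹' {b} := by
    rw [Scheme.Pullback.range_map, Scheme.range_fromSpecResidueField]
    simp
  rw [← hr, ← Set.image_preimage_eq_inter_range, ← Set.image_comp]
  have hcomp : (fun x => pullback.fst f g x) ∘ (fun x => m x) =
      fun x => pullback.fst f (Y.fromSpecResidueField b ≫ g) x := by
    funext x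
    simp only [Function.comp_apply]
    rw [← Scheme.Hom.comp_apply, pullback.lift_fst, Category.comp_id]
  haveI : UniversallyOpen (Y.fromSpecResidueField b ≫ g) := inferInstance
  rw [hcomp]
  exact (pullback.fst f (Y.fromSpecResidueField b ≫ g)).isOpenMap _ (hW.preimage m.continuous)

/-- Let X and Y be schemes over a field k and A ⊆ X, B ⊆ Y subsets. Inside X ×_k Y, the closure of the
set of points projecting into A and into B equals the set of points projecting into the closure of A
and into the closure of B. -/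
theorem result (k : Type u) [Field k] (X : Scheme.{u}) [X.Over (Spec (CommRingCat.of k))] (Y : Scheme.{u}) [Y.Over (Spec (CommRingCat.of k))] (A : Set ↥X) (B : Set ↥Y) :
    closure ((pullback.fst (X ↘ (Spec (CommRingCat.of k))) (Y ↘ (Spec (CommRingCat.of k)))).base ⁻¹' A ∩ (pullback.snd (X ↘ (Spec (CommRingCat.of k))) (Y ↘ (Spec (CommRingCat.of k)))).base ⁻¹' B) =
      (pullback.fst (X ↘ (Spec (CommRingCat.of k))) (Y ↘ (Spec (CommRingCat.of k)))).base ⁻¹' closure A ∩ (pullback.snd (X ↘ (Spec (CommRingCat.of k))) (Y ↘ (Spec (CommRingCat.of k)))).base ⁻¹' closure B := by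
  refine subset_antisymm (Set.subset_inter ?_ ?_) fun z hz => mem_closure_iff.2 fun W hW hzW => ?_
  · exact (closure_mono Set.inter_subset_left).trans
      ((pullback.fst (X ↘ _) (Y ↘ _)).continuous.closure_preimage_subset A)
  · exact (closure_mono Set.inter_subset_right).trans
      ((pullback.snd (X ↘ _) (Y ↘ _)).continuous.closure_preimage_subset B)
  obtain ⟨a, ⟨w, ⟨hwW, hwb⟩, rfl⟩, ha⟩ := mem_closure_iff.1 hz.1 _
    (isOpen_fst_image_fibre k (X ↘ _) (Y ↘ _) ((pullback.snd (X ↘ _) (Y ↘ _)) z) hW)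
    ⟨z, ⟨hzW, rfl⟩, rfl⟩
  obtain ⟨b, ⟨w', ⟨hw'W, hw'a⟩, rfl⟩, hb⟩ := mem_closure_iff.1 hz.2 _
    (isOpen_snd_image_fibre k (X ↘ _) (Y ↘ _) ((pullback.fst (X ↘ _) (Y ↘ _)) w) hW)
    ⟨w, ⟨hwW, rfl⟩, hwb⟩
  refine ⟨w', hw'W, ?_, hb⟩
  show (pullback.fst (X ↘ _) (Y ↘ _)) w' ∈ A
  rw [hw'a]
  exact ha

end Groth.Agent.S7612
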