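import Groth.Statements.S7613
import Groth.Agent.H2.Rigid.SchDom
import Groth.Agent.Lib.GrpSch.ConnFibre

set_option autoImplicit false
universe u
open CategoryTheory CategoryTheory.Limits AlgebraicGeometry
open Variety

namespace Groth.Agent.S7613

/-- Let X be a variety over a field k (integral, separated and of finite type over k) with a k-rational
point x (k → κ(x) onto) such that X → Spec k is smooth at x. Then every base change of X to an
extension field of k is an integral scheme (X is geometrically integral over k). -/
theorem result (k : Type u) [Field k] (X : Scheme.{u}) [X.Over (Spec (CommRingCat.of k))] [IsIntegral X] [IsSeparated (X ↘ (Spec (CommRingCat.of k)))]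
    [LocallyOfFiniteType (X ↘ (Spec (CommRingCat.of k)))] [QuasiCompact (X ↘ (Spec (CommRingCat.of k)))]
    (x : ↥X) (hx : Function.Surjective (Curv2.resMap k X x)) (hsm : x ∈ (X ↘ (Spec (CommRingCat.of k))).smoothLocus) :
    GeometricallyIntegral (X ↘ (Spec (CommRingCat.of k))) := by
  set f := X ↘ (Spec (CommRingCat.of k)) with hf
  let U := f.smoothLocus
  have : Smooth (U.ι ≫ f) := by
    rw [← Scheme.Hom.smoothLocus_eq_top_iff, ← Scheme.Hom.preimage_smoothLocus_eq]
    exact U.ι_preimage_self
  have : Nonempty U := ⟨⟨x, hsm⟩⟩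
  have : Nonempty U.toScheme := ⟨⟨x, hsm⟩⟩
  have : IsIntegral U.toScheme := isIntegral_of_isOpenImmersion U.ι
  let e := RingEquiv.ofBijective (Curv2.resMap k X x) ⟨RingHom.injective _, hx⟩
  let s : Spec (CommRingCat.of k) ⟶ X :=
    Spec.map (CommRingCat.ofHom e.symm.toRingHom) ≫ X.fromSpecResidueField x
  have hs : s ≫ f = 𝟙 _ := by
    rw [Category.assoc, hf, ← Groth.Agent.Lib.GeomConn.Residue.specMap_resMap k X x,
      ← Spec.map_comp]
    rw [← Spec.map_id]
    congr 1
    ext a
    exact e.symm_apply_apply a
  have hrange : Set.range s ⊆ Set.range U.ι := by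
    rintro _ ⟨z, rfl⟩
    rw [Scheme.Opens.range_ι]
    have : s z = x := by
      have h1 : s z ∈ Set.range (X.fromSpecResidueField x) :=
        ⟨_, (Scheme.Hom.comp_apply _ _ _).symm⟩
      rwa [Scheme.range_fromSpecResidueField, Set.mem_singleton_iff] at h1
    rw [this]
    exact hsm
  let s' := IsOpenImmersion.lift U.ι s hrange
  have : GeometricallyConnected (U.ι ≫ f) :=
    Groth.Agent.Lib.GrpSch.geometricallyConnected_of_rationalPoint _ s'
      (by rw [← Category.assoc, IsOpenImmersion.lift_fac, hs])
  have : GeometricallyIntegral (U.ι ≫ f) :=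
    Groth.Agent.H2.Rigid.GeomIrred.geometricallyIntegral_of_smooth _
  have : IsLocallyNoetherian X := LocallyOfFiniteType.isLocallyNoetherian f
  have : IsDominant U.ι := by
    rw [isDominant_iff, DenseRange, Scheme.Opens.range_ι]
    exact U.isOpen.dense ⟨x, hsm⟩
  have : IsSchemeTheoreticallyDominant U.ι := .of_isDominant _
  exact Groth.Agent.H2.Rigid.SchDom.geometricallyIntegral f U.ι


end Groth.Agent.S7613
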