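import Groth.Statements.S7614
import Groth.Agent.H73.Glue.Torsor

set_option autoImplicit false
set_option linter.style.haveILetI false
universe u
open CategoryTheory CategoryTheory.Limits AlgebraicGeometry
open Variety

namespace Groth.Agent.S7614

/-- Let X be a scheme over a field k and K an extension field of k. If X_K is quasi-affine, then X is
quasi-affine. -/
theorem result (k : Type u) [Field k] (X : Scheme.{u}) [X.Over (Spec (CommRingCat.of k))] (K : Type u) [Field K] [Algebra k K]
    [(Curv2.bc k X K).IsQuasiAffine] : X.IsQuasiAffine := by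
  haveI := Groth.Agent.S1127.result.{u}
  let sp := Spec.map (CommRingCat.ofHom (algebraMap k K))
  have hflat : Flat sp := by
    rw [HasRingHomProperty.Spec_iff (P := @Flat)]
    exact RingHom.flat_algebraMap_iff.2 inferInstance
  have hsurj : Surjective sp := by
    refine ⟨fun x => ?_⟩
    refine ⟨⟨⊥, Ideal.bot_prime⟩, ?_⟩
    exact Subsingleton.elim (α := PrimeSpectrum k) _ _
  have hQ : (@Surjective ⊓ @Flat ⊓ @QuasiCompact : MorphismProperty Scheme.{u}) sp :=
    ⟨⟨hsurj, hflat⟩, inferInstance⟩
  have h1 : Mor2.IsQuasiAffine (Curv2.bcSnd k X K) := H73.Glue.isQuasiAffine_hom _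
  have hq : Mor2.IsQuasiAffine (X ↘ Spec (CommRingCat.of k)) :=
    MorphismProperty.of_pullback_snd_of_descendsAlong (P := fun _ _ f => Mor2.IsQuasiAffine f)
      (Q := @Surjective ⊓ @Flat ⊓ @QuasiCompact) hQ h1
  haveI := hq.1
  haveI := hq.2 ⊤ (isAffineOpen_top _)
  haveI : CompactSpace ↥X := QuasiCompact.compactSpace_of_compactSpace (X ↘ Spec (CommRingCat.of k))
  exact Scheme.IsQuasiAffine.of_isImmersion
    (Y := (((X ↘ Spec (CommRingCat.of k)) ⁻¹ᵁ ⊤ : X.Opens) : Scheme.{u})) (Scheme.topIso X).inv

end Groth.Agent.S7614
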