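import Groth.Statements.S7615
import Groth.Agent.H2.Rigid.GeomConn0

set_option autoImplicit false
universe u
open CategoryTheory CategoryTheory.Limits AlgebraicGeometry
open Variety
open Groth.Agent.H2.Rigid

namespace Groth.Agent.S7615

/-- Let X be a proper variety over a field k (integral, separated, of finite type and proper over k) and
K = H^0(X, O_X), a k-algebra via the structure morphism. Then K is a field, finite over k; K/k is
separable when X is geometrically reduced over k, and purely inseparable when X is geometrically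
irreducible over k. -/
theorem result (k : Type u) [Field k] (X : Scheme.{u}) [X.Over (Spec (CommRingCat.of k))] [IsIntegral X] [IsProper (X ↘ (Spec (CommRingCat.of k)))] :
    letI := ((X ↘ (Spec (CommRingCat.of k))).appTop.hom.comp (Scheme.ΓSpecIso (CommRingCat.of k)).inv.hom : k →+* Γ(X, ⊤)).toAlgebra
    IsField ↑Γ(X, ⊤) ∧ Module.Finite k ↑Γ(X, ⊤) ∧
      (GeometricallyReduced (X ↘ (Spec (CommRingCat.of k))) → Algebra.IsSeparable k ↑Γ(X, ⊤)) ∧
      (GeometricallyIrreducible (X ↘ (Spec (CommRingCat.of k))) → IsPurelyInseparable k ↑Γ(X, ⊤)) := by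
  letI := ((X ↘ (Spec (CommRingCat.of k))).appTop.hom.comp (Scheme.ΓSpecIso (CommRingCat.of k)).inv.hom : k →+* Γ(X, ⊤)).toAlgebra
  set f := X ↘ (Spec (CommRingCat.of k))
  have halg : algebraMap k Γ(X, ⊤) = GeomConn0.str f := rfl
  have hfin : Module.Finite k Γ(X, ⊤) :=
    RingHom.finite_algebraMap.1 ((finite_appTop_of_universallyClosed k f).comp
      (RingHom.Finite.of_surjective _
        (Scheme.ΓSpecIso (CommRingCat.of k)).commRingCatIsoToRingEquiv.symm.surjective))
  have hint : Algebra.IsIntegral k Γ(X, ⊤) := Algebra.IsIntegral.of_finite k _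
  refine ⟨isField_of_isIntegral_of_isField' (Field.toIsField k), hfin, fun hgr => ?_, fun hgi => ?_⟩
  · have sq := IsPullback.of_hasPullback f
      (Spec.map (CommRingCat.ofHom (algebraMap k (AlgebraicClosure k))))
    have : IsReduced (pullback f (Spec.map (CommRingCat.ofHom (algebraMap k (AlgebraicClosure k))))) :=
      GeometricallyReduced.geometrically_isReduced _ _ _ sq
    obtain ⟨e⟩ := GeomConn0.exists_ringEquiv f halg sq
    have : _root_.IsReduced (TensorProduct k (AlgebraicClosure k) Γ(X, ⊤)) :=
      isReduced_of_injective e e.injective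
    exact ⟨GeomConn0.isSeparable⟩
  · have hc : GeometricallyConnected f := ⟨fun K _ y P p₁ p₂ h => by
      have : IrreducibleSpace P := GeometricallyIrreducible.geometrically_irreducibleSpace (f := f) y p₁ p₂ h
      infer_instance⟩
    obtain ⟨-, -, hR⟩ := (GeomConn0.geometricallyConnected_iff f halg (ringExpChar k)).1 hc
    refine (isPurelyInseparable_iff_pow_mem k (ringExpChar k)).2 fun a => ?_
    obtain ⟨n, c, hc⟩ := hR a
    exact ⟨n, c, (sub_eq_zero.1 hc.eq_zero).symm⟩


end Groth.Agent.S7615
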