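import Groth.Statements.S7618
import Groth.Agent.H90.ConnFun
import Mathlib.RingTheory.Artinian.Module
import Mathlib.RingTheory.Adjoin.FG

set_option autoImplicit false
universe u
open CategoryTheory CategoryTheory.Limits AlgebraicGeometry
open Variety

namespace Groth.Agent.S7618

/-- Let X be a connected reduced scheme over a field k. Then the global functions on X that are integral
over k form a field. -/
theorem result (k : Type u) [Field k] (X : Scheme.{u}) [X.Over (Spec (CommRingCat.of k))] [ConnectedSpace ↥X] [IsReduced X] :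
    letI := ((X ↘ (Spec (CommRingCat.of k))).appTop.hom.comp (Scheme.ΓSpecIso (CommRingCat.of k)).inv.hom : k →+* Γ(X, ⊤)).toAlgebra
    IsField ↥(integralClosure k ↑Γ(X, ⊤)) := by
  let := ((X ↘ (Spec (CommRingCat.of k))).appTop.hom.comp (Scheme.ΓSpecIso (CommRingCat.of k)).inv.hom : k →+* Γ(X, ⊤)).toAlgebra
  let R := Γ(X, ⊤)
  have : Nonempty (⊤ : X.Opens) := ⟨⟨Classical.arbitrary X, trivial⟩⟩
  have : Nontrivial R := Scheme.component_nontrivial X ⊤
  have : _root_.IsReduced R := IsReduced.component_reduced ⊤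
  refine ⟨⟨0, 1, zero_ne_one⟩, mul_comm, ?_⟩
  rintro ⟨s, hs⟩ hs0
  let A := Algebra.adjoin k ({s} : Set R)
  have : Module.Finite k A := Module.Finite.iff_fg.2 hs.fg_adjoin_singleton
  have : _root_.IsReduced A := isReduced_of_injective A.val Subtype.val_injective
  have : IsArtinianRing A := IsArtinianRing.of_finite k A
  let t : A := ⟨s, Algebra.self_mem_adjoin_singleton k s⟩
  obtain ⟨n, y, hy⟩ := IsArtinian.exists_pow_succ_smul_dvd t (1 : A)
  simp only [smul_eq_mul, mul_one] at hy
  have h0 : t * (1 - t * y) = 0 := _root_.IsReduced.eq_zero _ ⟨n + 1, by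
    rw [mul_pow, pow_succ t n, pow_succ (1 - t * y) n,
      show t ^ n * t * ((1 - t * y) ^ n * (1 - t * y)) =
        t * (1 - t * y) ^ n * (t ^ n - t ^ (n + 1) * y) by ring, hy, sub_self, mul_zero]⟩
  have hidem : IsIdempotentElem (s * (y : R)) := by
    have h1 : s * (1 - s * (y : R)) = 0 := congrArg Subtype.val h0
    show s * (y : R) * (s * (y : R)) = s * (y : R)
    linear_combination (-(y : R)) * h1
  rcases Groth.Agent.H90.ConnFun.idempotent_eq_zero_or_one _ hidem with h | h
  · exfalso
    apply hs0
    have h1 : s * (1 - s * (y : R)) = 0 := congrArg Subtype.val h0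
    rw [h, sub_zero, mul_one] at h1
    exact Subtype.ext h1
  · exact ⟨⟨(y : R), adjoin_le_integralClosure hs y.2⟩, Subtype.ext h⟩

end Groth.Agent.S7618
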