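import Groth.Statements.S7619
-- import your own Groth.Agent.* helpers here

set_option autoImplicit false
universe u
open CategoryTheory CategoryTheory.Limits AlgebraicGeometry
open scoped TensorProduct
open Variety

namespace Groth.Agent.S7619

/-- Let A → B be a finite type ring map (a finite type morphism of affine schemes), q a prime of B and r
= dim_{κ(q)} Ω_{B/A} ⊗_B κ(q). Then there is an A-algebra homomorphism A[x_1, …, x_r] → B for which
B is unramified over A[x_1, …, x_r] at q. -/
theorem result (A B : Type u) [CommRing A] [CommRing B] [Algebra A B] [Algebra.FiniteType A B]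
    (q : Ideal B) [q.IsPrime] (r : ℕ) (hr : Module.finrank q.ResidueField (q.ResidueField ⊗[B] Ω[B⁄A]) = r) :
    ∃ φ : MvPolynomial (Fin r) A →ₐ[A] B,
      letI := φ.toRingHom.toAlgebra
      Algebra.IsUnramifiedAt (MvPolynomial (Fin r) A) q := by
  classical
  let κ := q.ResidueField
  let g : B → κ ⊗[B] Ω[B⁄A] := fun b => (1 : κ) ⊗ₜ[B] KaehlerDifferential.D A B b
  have hspan : Submodule.span κ (Set.range g) = ⊤ := by
    refine Submodule.eq_top_iff'.2 fun x => ?_
    induction x using TensorProduct.induction_on with
    | zero => exact zero_mem _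
    | add x y hx hy => exact add_mem hx hy
    | tmul c m =>
      have hm : m ∈ Submodule.span B (Set.range (KaehlerDifferential.D A B)) := by
        rw [KaehlerDifferential.span_range_derivation]; trivial
      induction hm using Submodule.span_induction generalizing c with
      | mem m hm =>
        obtain ⟨b, rfl⟩ := hm
        have : c ⊗ₜ[B] KaehlerDifferential.D A B b = c • g b := by
          simp [g, TensorProduct.smul_tmul']
        rw [this]
        exact Submodule.smul_mem _ _ (Submodule.subset_span ⟨b, rfl⟩)
      | zero => rw [TensorProduct.tmul_zero]; exact zero_mem _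
      | add m n _ _ h1 h2 => rw [TensorProduct.tmul_add]; exact add_mem (h1 c) (h2 c)
      | smul a m _ h => rw [← TensorProduct.smul_tmul]; exact h (a • c)
  obtain ⟨s, hs, hss, hli⟩ := exists_linearIndependent κ (Set.range g)
  rw [hspan] at hss
  let bs : Module.Basis s κ (κ ⊗[B] Ω[B⁄A]) := Module.Basis.mk hli (by simp [hss])
  haveI : Finite s := Module.Finite.finite_basis bs
  let e : s ≃ Fin r := (Finite.equivFin s).trans (finCongr (by
    rw [← Module.finrank_eq_nat_card_basis bs]; exact hr))
  choose b hb using fun i : Fin r => hs (e.symm i).2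
  refine ⟨MvPolynomial.aeval b, ?_⟩
  letI := (MvPolynomial.aeval (R := A) b).toRingHom.toAlgebra
  haveI : IsScalarTower A (MvPolynomial (Fin r) A) B :=
    IsScalarTower.of_algebraMap_eq fun a => ((MvPolynomial.aeval (R := A) b).commutes a).symm
  haveI : Algebra.FiniteType (MvPolynomial (Fin r) A) B :=
    Algebra.FiniteType.of_restrictScalars_finiteType A _ _
  have hsub : Subsingleton (κ ⊗[B] Ω[B⁄MvPolynomial (Fin r) A]) := by
    let π := (KaehlerDifferential.map A (MvPolynomial (Fin r) A) B B).baseChange κ
    have hπ : Function.Surjective π :=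
      LinearMap.lTensor_surjective κ (KaehlerDifferential.map_surjective A _ B)
    have h0 : π = 0 := by
      apply bs.ext
      intro i
      have : (i : κ ⊗[B] Ω[B⁄A]) = g (b (e i)) := by rw [hb, e.symm_apply_apply]
      rw [Module.Basis.mk_apply, this, LinearMap.zero_apply]
      simp only [π, g, LinearMap.baseChange_tmul, KaehlerDifferential.map_D,
        Algebra.algebraMap_self, RingHom.id_apply]
      have hbX : b (e i) = algebraMap (MvPolynomial (Fin r) A) B (MvPolynomial.X (e i)) :=
        (MvPolynomial.aeval_X b (e i)).symm
      rw [hbX, Derivation.map_algebraMap, TensorProduct.tmul_zero]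
    refine subsingleton_of_forall_eq 0 fun y => ?_
    obtain ⟨x, rfl⟩ := hπ y
    rw [h0]; rfl
  show (⟨q, ‹_›⟩ : PrimeSpectrum B) ∈ Algebra.unramifiedLocus (MvPolynomial (Fin r) A) B
  rw [Algebra.unramifiedLocus_eq_compl_support, Set.mem_compl_iff,
    Module.mem_support_iff_nontrivial_residueField_tensorProduct, not_nontrivial_iff_subsingleton]
  exact hsub

end Groth.Agent.S7619
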