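import Groth.Statements.S7620
import Mathlib.RingTheory.NoetherNormalization
import Mathlib.RingTheory.LocalRing.ResidueField.Fiber
import Mathlib.RingTheory.KrullDimension.Polynomial
import Groth.Agent.Lib.Dim.Integral

set_option autoImplicit false
set_option backward.isDefEq.respectTransparency false
universe u
open CategoryTheory CategoryTheory.Limits AlgebraicGeometry
open scoped TensorProduct
open Variety

namespace Groth.Agent.S7620

open MvPolynomial


/-- Let A → B be a finite type ring map (a finite type morphism of affine schemes X → S), p a prime of A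
and suppose the fibre ring κ(p) ⊗_A B has Krull dimension d. Then there is an A-algebra homomorphism
π : A[t_1, …, t_d] → B such that the induced map of fibres κ(p) ⊗_A A[t_1, …, t_d] → κ(p) ⊗_A B is
finite. -/
theorem result (A B : Type u) [CommRing A] [CommRing B] [Algebra A B] [Algebra.FiniteType A B]
    (p : Ideal A) [p.IsPrime] (d : ℕ) (hd : ringKrullDim (p.ResidueField ⊗[A] B) = d) :
    ∃ π : MvPolynomial (Fin d) A →ₐ[A] B,
      (Algebra.TensorProduct.map (AlgHom.id p.ResidueField p.ResidueField) π).toRingHom.Finite := by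
  obtain ⟨s, g, hgi, hgf⟩ : ∃ s, ∃ g : MvPolynomial (Fin s) p.ResidueField →ₐ[p.ResidueField]
      (p.ResidueField ⊗[A] B), Function.Injective g ∧ g.Finite := by
    haveI : Nontrivial (p.ResidueField ⊗[A] B) := by
      by_contra h
      rw [not_nontrivial_iff_subsingleton] at h
      rw [ringKrullDim_eq_bot_of_subsingleton] at hd
      exact WithBot.natCast_ne_bot d hd.symm
    exact exists_finite_inj_algHom_of_fg p.ResidueField (p.ResidueField ⊗[A] B)
  obtain rfl : s = d := by
    letI := g.toRingHom.toAlgebra
    haveI : Module.Finite (MvPolynomial (Fin s) p.ResidueField) (p.ResidueField ⊗[A] B) := hgf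
    haveI : FaithfulSMul (MvPolynomial (Fin s) p.ResidueField) (p.ResidueField ⊗[A] B) :=
      (faithfulSMul_iff_algebraMap_injective _ _).mpr hgi
    haveI : Algebra.IsIntegral (MvPolynomial (Fin s) p.ResidueField) (p.ResidueField ⊗[A] B) :=
      Algebra.IsIntegral.of_finite _ _
    have h := Groth.Agent.Lib.Dim.Integral.ringKrullDim_eq_of_isIntegral
      (R := MvPolynomial (Fin s) p.ResidueField) (A := p.ResidueField ⊗[A] B)
    rw [hd, MvPolynomial.ringKrullDim_of_isNoetherianRing, ringKrullDim_eq_zero_of_field, zero_add,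
      Nat.card_eq_fintype_card, Fintype.card_fin] at h
    exact_mod_cast h.symm
  have hx : ∀ i, ∃ r ∉ p, ∃ b : B, r • g (X i) = 1 ⊗ₜ[A] b := fun i =>
    Ideal.Fiber.exists_smul_eq_one_tmul (p := p) (g (X i))
  choose r hr b hb using hx
  refine ⟨MvPolynomial.aeval b, ?_⟩
  set Φ := Algebra.TensorProduct.map (AlgHom.id p.ResidueField p.ResidueField) (MvPolynomial.aeval (R := A) b)
  let c : Fin s → p.ResidueField := fun i => algebraMap A p.ResidueField (r i)
  have hc : ∀ i, c i ≠ 0 := fun i h => hr i (Ideal.algebraMap_residueField_eq_zero.mp h)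
  let θ : MvPolynomial (Fin s) p.ResidueField →ₐ[p.ResidueField]
      p.ResidueField ⊗[A] MvPolynomial (Fin s) A :=
    MvPolynomial.aeval fun i => (c i)⁻¹ • ((1 : p.ResidueField) ⊗ₜ[A] (X i))
  have hθ : g = Φ.comp θ := MvPolynomial.algHom_ext fun i => by
    rw [AlgHom.comp_apply, MvPolynomial.aeval_X, map_smul, Algebra.TensorProduct.map_tmul, map_one,
      MvPolynomial.aeval_X, ← hb, ← algebraMap_smul p.ResidueField (r i) (g (X i)), smul_smul,
      inv_mul_cancel₀ (hc i), one_smul]
  rw [hθ] at hgf
  exact RingHom.Finite.of_comp_finite (f := θ.toRingHom) hgf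

end Groth.Agent.S7620
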