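import Groth.Statements.S7621
import Groth.Agent.Lib.GeomConn.GaloisComponents

set_option autoImplicit false
universe u
open CategoryTheory CategoryTheory.Limits AlgebraicGeometry
open Variety

namespace Groth.Agent.S7621

/-- Let K be a (possibly infinite) Galois extension of a field k, X a scheme over k and V a
quasi-compact open subset of X_K. Then there is a subextension k'/k of K, finite over k, such that
every k-automorphism of K fixing k' pointwise maps V onto itself under its action on X_K (an open
subgroup of the Galois group stabilises V). -/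
theorem result (k : Type u) [Field k] (K : Type u) [Field K] [Algebra k K] [IsGalois k K]
    (X : Scheme.{u}) [X.Over (Spec (CommRingCat.of k))] (V : Set ↥(Curv2.bc k X K)) (hV : IsOpen V) (hVc : IsCompact V) :
    ∃ E : IntermediateField k K, FiniteDimensional k ↥E ∧
      ∀ σ : K ≃ₐ[k] K, (∀ a : K, a ∈ E → σ a = a) → (Curv2.galAct k X K σ).base '' V = V := by
  have := fun v : V => Groth.Agent.Lib.GeomConn.Galois.exists_basic k X K v.1 V hV v.2
  choose W hWo hvW hWV N hN using this
  obtain ⟨s, hs⟩ := hVc.elim_finite_subcover W hWo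
    (fun v hv => Set.mem_iUnion.mpr ⟨⟨v, hv⟩, hvW ⟨v, hv⟩⟩)
  obtain ⟨E, hE, hEN⟩ := Groth.Agent.Lib.GeomConn.Geometric.exists_finiteDimensional_le k K (s.inf N)
  refine ⟨E, hE, fun σ hσ => ?_⟩
  have key : ∀ g ∈ s.inf N, ∀ x ∈ V, g • x ∈ V := by
    intro g hg x hx
    obtain ⟨i, hi, hxi⟩ := Set.mem_iUnion₂.mp (hs hx)
    exact hWV i (hN i g (Finset.inf_le (f := N) hi hg) x hxi)
  have hmem := hEN σ hσ
  ext y
  constructor
  · rintro ⟨x, hx, rfl⟩
    simpa [Groth.Agent.Lib.GeomConn.Galois.smul_def] using key σ⁻¹ (inv_mem hmem) x hx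
  · intro hy
    exact ⟨Curv2.galAct k X K σ⁻¹ y,
      by simpa [Groth.Agent.Lib.GeomConn.Galois.smul_def] using key σ hmem y hy,
      Groth.Agent.Lib.GeomConn.GaloisComponents.galAct_apply_inv k X K σ y⟩

end Groth.Agent.S7621
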