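import Groth.Statements.S7622
import Groth.Agent.Lib.SymGr.Regular
import Groth.Agent.S2451

set_option autoImplicit false
universe u
open CategoryTheory CategoryTheory.Limits AlgebraicGeometry
open Variety

namespace Groth.Agent.S7622

/-- Let A be a Noetherian local algebra over a field k (such as the local ring of a locally Noetherian
k-scheme at a point) whose residue field κ is a separable extension of k, meaning geometrically
reduced over k; κ need not be algebraic over k. Then there are n ≥ 0, an ideal I of κ[[x_1, …, x_n]]
and a k-algebra isomorphism e from κ[[x_1, …, x_n]]/I onto the completion A^∧ of A at its maximal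
ideal which induces the identity on residue fields: for every a in A, the value of e on the constant
power series whose value is the residue class of a is congruent to the image of a modulo the
extended maximal ideal of A^∧. -/
theorem result (k A : Type u) [Field k] [CommRing A] [Algebra k A]
    [IsNoetherianRing A] [IsLocalRing A] [Algebra.IsGeometricallyReduced k (IsLocalRing.ResidueField A)] :
    ∃ (n : ℕ) (I : Ideal (MvPowerSeries (Fin n) (IsLocalRing.ResidueField A)))
      (e : (MvPowerSeries (Fin n) (IsLocalRing.ResidueField A) ⧸ I) ≃ₐ[k]
        AdicCompletion (IsLocalRing.maximalIdeal A) A),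
      ∀ a : A, e (Ideal.Quotient.mk I (MvPowerSeries.C (IsLocalRing.residue A a))) -
          algebraMap A (AdicCompletion (IsLocalRing.maximalIdeal A) A) a ∈
        (IsLocalRing.maximalIdeal A).map (algebraMap A (AdicCompletion (IsLocalRing.maximalIdeal A) A)) := by
  haveI : Algebra.FormallySmooth k (IsLocalRing.ResidueField A) := Groth.Agent.S2451.result.2 inferInstance
  obtain ⟨σ, hσ⟩ := Lib.SymGr.Regular.exists_coeff (k := k) (A := A)
  obtain ⟨Φ, hΦc, hΦs, -⟩ := Lib.SymGr.Regular.exists_presentation σ hσ
  refine ⟨_, RingHom.ker Φ.toRingHom, Ideal.quotientKerAlgEquivOfSurjective hΦs, fun a => ?_⟩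
  have h1 : Φ (MvPowerSeries.C (IsLocalRing.residue A a)) = σ (IsLocalRing.residue A a) :=
    hΦc (IsLocalRing.residue A a)
  rw [← AdicCompletion.maximalIdeal_eq_map]
  show Φ (MvPowerSeries.C (IsLocalRing.residue A a)) - _ ∈ _
  rw [h1]
  exact hσ a

end Groth.Agent.S7622
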