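import Groth.Statements.S7623
import Mathlib
import Groth.Agent.Lib.JacCrit.ResidueDiff
import Groth.Agent.Lib.Regular45.Global

set_option autoImplicit false
universe u
open CategoryTheory CategoryTheory.Limits AlgebraicGeometry
open Variety

namespace Groth.Agent.S7623

section

open IsLocalRing TensorProduct

variable (k : Type u) [Field k] (R : Type u) [CommRing R] [Algebra k R] [IsLocalRing R]
  [Algebra.FormallySmooth k (ResidueField R)]

theorem mem_sq_of_tmul_D_eq_zero (z : R) (hz : z ∈ maximalIdeal R)
    (h : (1 : ResidueField R) ⊗ₜ[R] KaehlerDifferential.D k R z = 0) : z ∈ maximalIdeal R ^ 2 := by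
  let κ := ResidueField R
  let Q := R ⧸ maximalIdeal R ^ 2
  let g : Q →ₐ[R] κ := Ideal.Quotient.liftₐ (maximalIdeal R ^ 2) (Algebra.ofId R κ) fun a ha =>
    (residue_eq_zero_iff a).mpr (Ideal.pow_le_self two_ne_zero ha)
  letI : Algebra Q κ := g.toRingHom.toAlgebra
  haveI : IsScalarTower R Q κ := IsScalarTower.of_algebraMap_eq fun r => (g.commutes r).symm
  haveI : IsScalarTower k Q κ := IsScalarTower.of_algebraMap_eq fun r => by
    rw [IsScalarTower.algebraMap_apply k R Q, ← IsScalarTower.algebraMap_apply R Q κ,
      ← IsScalarTower.algebraMap_apply]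
  let gk : Q →ₐ[k] κ := IsScalarTower.toAlgHom k Q κ
  have hsurj : Function.Surjective gk := fun y => by
    obtain ⟨r, rfl⟩ := IsLocalRing.residue_surjective y
    exact ⟨Ideal.Quotient.mk _ r, g.commutes r⟩
  have hsq : RingHom.ker (gk : Q →+* κ) ^ 2 = ⊥ := by
    rw [eq_bot_iff, pow_two (RingHom.ker (gk : Q →+* κ)), Ideal.mul_le]
    intro a ha b hb
    obtain ⟨a, rfl⟩ := Ideal.Quotient.mk_surjective a
    obtain ⟨b, rfl⟩ := Ideal.Quotient.mk_surjective b
    rw [Ideal.mem_bot, ← map_mul, Ideal.Quotient.eq_zero_iff_mem, pow_two]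
    exact Ideal.mul_mem_mul ((residue_eq_zero_iff a).mp ((g.commutes a).symm.trans ha))
      ((residue_eq_zero_iff b).mp ((g.commutes b).symm.trans hb))
  let s : κ →ₐ[k] Q := Algebra.FormallySmooth.liftOfSurjective (AlgHom.id k κ) gk hsurj ⟨2, hsq⟩
  have hs : gk.comp s = AlgHom.id k κ := Algebra.FormallySmooth.comp_liftOfSurjective _ _ _ _
  have h' : (1 : κ) ⊗ₜ[Q] KaehlerDifferential.D k Q (algebraMap R Q z) = 0 := by
    let T : κ ⊗[R] Ω[R⁄k] →ₗ[R] κ ⊗[Q] Ω[Q⁄k] :=
      TensorProduct.lift ((LinearMap.mk₂ R (fun (c : κ) (w : Ω[R⁄k]) => c ⊗ₜ[Q] KaehlerDifferential.map k k R Q w)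
        (fun a b w => by rw [TensorProduct.add_tmul]) (fun r a w => by rw [TensorProduct.smul_tmul'])
        (fun a v w => by rw [map_add, TensorProduct.tmul_add]) (fun r a w => by rw [map_smul, TensorProduct.tmul_smul])))
    have := congrArg T h
    rw [map_zero] at this
    simpa [T, KaehlerDifferential.map_D] using this
  have hker : algebraMap R Q z ∈ RingHom.ker (algebraMap Q κ) := by
    show g (algebraMap R Q z) = 0
    rw [g.commutes]
    exact (residue_eq_zero_iff z).mpr hz
  have hid := congr($(retractionOfSectionOfKerSqZero_comp_kerToTensor (R := k) (P := Q) (S := κ) s hsq hs)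
    ⟨algebraMap R Q z, hker⟩)
  have h0 : KaehlerDifferential.kerToTensor k Q κ ⟨algebraMap R Q z, hker⟩ = 0 := by
    rw [KaehlerDifferential.kerToTensor_apply]
    exact h'
  rw [LinearMap.comp_apply, h0, map_zero, LinearMap.id_apply] at hid
  exact Ideal.Quotient.eq_zero_iff_mem.mp (congrArg Subtype.val hid.symm)

/-- Embedding dimension is bounded by the rank of the differentials. -/
theorem spanFinrank_le_finrank_kaehler [IsNoetherianRing R] [Module.Finite R Ω[R⁄k]] [Module.Free R Ω[R⁄k]] :
    (maximalIdeal R).spanFinrank ≤ Module.finrank R Ω[R⁄k] := by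
  let κ := ResidueField R
  let nu : maximalIdeal R →ₗ[R] κ ⊗[R] Ω[R⁄k] :=
    { toFun := fun x => (1 : κ) ⊗ₜ[R] KaehlerDifferential.D k R (x : R)
      map_add' := fun x y => by simp [TensorProduct.tmul_add]
      map_smul' := fun r x => by
        have hx : algebraMap R κ (x : R) = 0 := (residue_eq_zero_iff _).2 x.2
        simp only [SetLike.val_smul, smul_eq_mul, Derivation.leibniz, TensorProduct.tmul_add,
          RingHom.id_apply, TensorProduct.tmul_smul]
        rw [← algebraMap_smul κ (x : R) ((1 : κ) ⊗ₜ[R] KaehlerDifferential.D k R r), hx, zero_smul, add_zero] }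
  have hle : maximalIdeal R • (⊤ : Submodule R (maximalIdeal R)) ≤ LinearMap.ker nu := by
    refine Submodule.smul_le.2 fun a ha z _ => ?_
    rw [LinearMap.mem_ker, map_smul, ← algebraMap_smul κ a (nu z),
      show algebraMap R κ a = 0 from (residue_eq_zero_iff _).2 ha, zero_smul]
  let N : CotangentSpace R →ₗ[R] κ ⊗[R] Ω[R⁄k] := Submodule.liftQ _ nu hle
  have hN : Function.Injective N := by
    rw [injective_iff_map_eq_zero]
    intro z hz
    obtain ⟨x, rfl⟩ := Submodule.mkQ_surjective _ z
    exact (Ideal.toCotangent_eq_zero _ _).2 (mem_sq_of_tmul_D_eq_zero k R x x.2 hz)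
  let N' : CotangentSpace R →ₗ[κ] κ ⊗[R] Ω[R⁄k] := N.extendScalarsOfSurjective IsLocalRing.residue_surjective
  rw [IsLocalRing.spanFinrank_maximalIdeal_eq_finrank_cotangentSpace]
  exact (LinearMap.finrank_le_finrank_of_injective (f := N') hN).trans_eq Module.finrank_baseChange

end


/-- Let k be a perfect field and A a reduced finite type k-algebra such that Ω_{A/k} is a projective
A-module (locally free, as it is finitely presented). Then A is smooth over k. The scheme statement,
X reduced and locally of finite type over k with Ω_{X/k} locally free is smooth over k, is this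
assertion on affine opens. -/
theorem result (k A : Type u) [Field k] [PerfectField k] [CommRing A] [Algebra k A]
    [Algebra.FiniteType k A] [_root_.IsReduced A] [Module.Projective A Ω[A⁄k]] : Algebra.Smooth k A := by
  haveI : IsNoetherianRing A := Algebra.FiniteType.isNoetherianRing k A
  haveI : Algebra.FinitePresentation k A := Algebra.FinitePresentation.of_finiteType.mp inferInstance
  haveI : Module.FinitePresentation A Ω[A⁄k] := Module.finitePresentation_of_finite A _
  let e : ∀ (P : Ideal A) [P.IsPrime], LocalizedModule P.primeCompl Ω[A⁄k] ≃ₗ[Localization.AtPrime P]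
      Ω[Localization.AtPrime P⁄k] := fun P _ =>
    LinearEquiv.extendScalarsOfIsLocalization P.primeCompl (Localization.AtPrime P)
      (IsLocalizedModule.linearEquiv P.primeCompl (LocalizedModule.mkLinearMap P.primeCompl Ω[A⁄k])
        (KaehlerDifferential.map k k A (Localization.AtPrime P)))
  have hres : ∀ (P : Ideal A) [P.IsPrime], Algebra.FormallySmooth k P.ResidueField := fun P _ => by
    haveI := Groth.Agent.Lib.JacCrit.ResidueDiff.essFiniteType_residueField k P
    exact Algebra.FormallySmooth.of_perfectField
  have hregm : ∀ (m : Ideal A) [m.IsMaximal], IsRegularLocalRing (Localization.AtPrime m) := by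
    intro m _
    let R := Localization.AtPrime m
    haveI : IsNoetherianRing R := IsLocalization.isNoetherianRing m.primeCompl _ inferInstance
    haveI : Algebra.EssFiniteType A R := .of_isLocalization _ m.primeCompl
    haveI : Algebra.EssFiniteType k R := .comp k A _
    haveI : Algebra.FormallySmooth k (IsLocalRing.ResidueField R) := hres m
    haveI : Module.Projective R (LocalizedModule m.primeCompl Ω[A⁄k]) := inferInstance
    haveI : Module.Free R Ω[R⁄k] := by
      haveI : Module.Free R (LocalizedModule m.primeCompl Ω[A⁄k]) := Module.free_of_flat_of_isLocalRing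
      exact Module.Free.of_equiv (e m)
    -- the rank is the dimension of a component through `m`
    obtain ⟨q, hq, hqm⟩ := Ideal.exists_minimalPrimes_le (bot_le (a := m))
    haveI : q.IsPrime := hq.1.1
    haveI : Ring.KrullDimLE 0 (Localization.AtPrime q) := Ring.krullDimLE_iff.mpr (by
      rw [IsLocalization.AtPrime.ringKrullDim_eq_height q, Ideal.height_eq_zero_iff.mpr hq]; rfl)
    haveI : IsNoetherianRing (Localization.AtPrime q) := IsLocalization.isNoetherianRing q.primeCompl _ inferInstance
    have hfield : IsField (Localization.AtPrime q) :=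
      Ring.KrullDimLE.isField_of_isReduced
    haveI : IsDomain (Localization.AtPrime q) := hfield.isDomain
    haveI : IsPrincipalIdealRing (Localization.AtPrime q) := by
      letI := hfield.toField
      infer_instance
    haveI : IsRegularLocalRing (Localization.AtPrime q) := inferInstance
    haveI := hres q
    haveI : Algebra.IsSmoothAt k q := Groth.Agent.Lib.JacCrit.Regular.isSmoothAt k q
    obtain ⟨b⟩ := Groth.Agent.Lib.JacCrit.ResidueDiff.exists_basis k q
    have hbr : Module.finrank (Localization.AtPrime q) Ω[Localization.AtPrime q⁄k] =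
        Groth.Agent.Lib.Dim.Local.dimAt k q := by
      rw [Module.finrank_eq_card_basis b, Fintype.card_fin]
    have hrank : Module.finrank R Ω[R⁄k] = Groth.Agent.Lib.Dim.Local.dimAt k q := by
      rw [← hbr, ← (e m).finrank_eq, ← (e q).finrank_eq]
      have hop := (Module.isLocallyConstant_rankAtStalk (R := A) (M := Ω[A⁄k])).isOpen_fiber
        (Module.rankAtStalk Ω[A⁄k] ⟨m, inferInstance⟩)
      exact (((PrimeSpectrum.le_iff_specializes (⟨q, inferInstance⟩ : PrimeSpectrum A) ⟨m, inferInstance⟩).mp
        hqm).mem_open hop rfl).symm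
    refine IsRegularLocalRing.of_spanFinrank_maximalIdeal_le R ?_
    have h1 : (IsLocalRing.maximalIdeal R).spanFinrank ≤ Groth.Agent.Lib.Dim.Local.dimAt k q :=
      (spanFinrank_le_finrank_kaehler k R).trans_eq hrank
    have h2 : Groth.Agent.Lib.Dim.Local.dimAt k q ≤ Groth.Agent.Lib.Dim.Local.dimAt k m :=
      Groth.Agent.Lib.Dim.Local.dimAt_mono k hqm
    rw [IsLocalization.AtPrime.ringKrullDim_eq_height m, Groth.Agent.Lib.Dim.Local.height_maximal_eq_dimAt k m]
    exact_mod_cast h1.trans h2
  haveI : IsRegularRing A := Groth.Agent.Lib.Regular45.Global.of_forall_maximal hregm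
  haveI : Algebra.FormallySmooth k A := Algebra.smoothLocus_eq_univ_iff.mp (Set.eq_univ_of_forall fun P => by
    haveI := hres P.asIdeal
    haveI : IsRegularLocalRing (Localization.AtPrime P.asIdeal) :=
      (isRegularRing_iff (R := A)).mp inferInstance P.asIdeal
    exact Groth.Agent.Lib.JacCrit.Regular.isSmoothAt k P.asIdeal)
  exact ⟨inferInstance, inferInstance⟩

end Groth.Agent.S7623
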