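import Groth.Statements.S7625
import Groth.Agent.Lib.FibreDim.Semicont

set_option autoImplicit false
universe u
open CategoryTheory CategoryTheory.Limits AlgebraicGeometry
open Variety

namespace Groth.Agent.S7625

open CategoryTheory.Limits TopologicalSpace Topology

open Groth.Agent.Lib.FibreDim.Basic Groth.Agent.Lib.FibreDim.Chart Groth.Agent.Lib.FibreDim.Semicont

theorem specMap_algHom_comp {R A B C : Type u} [CommRing R] [CommRing A] [CommRing B] [CommRing C]
    [Algebra R A] [Algebra R B] [Algebra R C] (g : B →ₐ[R] C) (f : A →ₐ[R] B) :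
    Spec.map (CommRingCat.ofHom (g.comp f).toRingHom) =
      Spec.map (CommRingCat.ofHom g.toRingHom) ≫ Spec.map (CommRingCat.ofHom f.toRingHom) := by
  rw [← Spec.map_comp]; rfl

/-- A chart over a given affine open which is quasi-finite over affine space of the fibre dimension. -/
theorem exists_coords {X S : Scheme.{u}} (f : X ⟶ S) {R A : Type u} [CommRing R] [CommRing A] [Algebra R A]
    [Algebra.FiniteType R A] (v : Spec (CommRingCat.of R) ⟶ S) (w : Spec (CommRingCat.of A) ⟶ X)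
    [IsOpenImmersion v] [IsOpenImmersion w]
    (hw : Spec.map (CommRingCat.ofHom (algebraMap R A)) ≫ v = w ≫ f) (P : PrimeSpectrum A)
    (O : Set X) (hwO : Set.range w.base ⊆ O) (d : ℕ)
    (hd : topologicalKrullDim ↥(Subtype.val ⁻¹' O : Set ↥(f.base ⁻¹' {f.base (w.base P)})) ≤ (d : WithBot ℕ∞)) :
    ∃ (a : ULift.{u} (Fin d) → A) (h : A), h ∉ P.asIdeal ∧
      LocallyQuasiFinite (Spec.map (CommRingCat.ofHom (algebraMap A (Localization.Away h))) ≫
        Spec.map (CommRingCat.ofHom (MvPolynomial.aeval (R := R) a).toRingHom)) := by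
  let p := PrimeSpectrum.comap (algebraMap R A) P
  have hdimS : ringKrullDim (p.asIdeal.Fiber A) ≤ (d : WithBot ℕ∞) := by
    obtain ⟨e, he, hev⟩ := exists_isOpenEmbedding f v w hw p
    have hfp : v.base p = f.base (w.base P) := (apply_eq f v w hw P).symm
    refine le_trans ?_ hd
    rw [← PrimeSpectrum.topologicalKrullDim_eq_ringKrullDim]
    let i : PrimeSpectrum (p.asIdeal.Fiber A) →
        ↥(Subtype.val ⁻¹' O : Set ↥(f.base ⁻¹' {f.base (w.base P)})) := fun z =>
      ⟨⟨(e z).1, (e z).2.trans hfp⟩, by show (e z).1 ∈ O; rw [hev z]; exact hwO ⟨_, rfl⟩⟩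
    have hi : IsInducing i := by
      refine (IsInducing.subtypeVal.of_comp_iff).1 ((IsInducing.subtypeVal.of_comp_iff).1 ?_)
      have e1 := (IsInducing.subtypeVal (t := f.base ⁻¹' {v.base p})).comp he.isEmbedding.isInducing
      exact e1
    exact hi.topologicalKrullDim_le
  obtain ⟨s, a, hs, hqf⟩ := exists_quasiFiniteAt_aeval (R := R) P
  have hsd : s ≤ d := by
    have h1 : (s : WithBot ℕ∞) ≤ (d : WithBot ℕ∞) := hs.le.trans hdimS
    exact_mod_cast h1
  let G := Spec.map (CommRingCat.ofHom (MvPolynomial.aeval (R := R) a).toRingHom)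
  have : LocallyOfFiniteType G := locallyOfFiniteType_aeval a
  obtain ⟨_, ⟨h, rfl⟩, hPh, hh⟩ := PrimeSpectrum.isTopologicalBasis_basic_opens.exists_subset_of_mem_open
    (show P ∈ {Q | G.QuasiFiniteAt Q} from hqf) G.isOpen_quasiFiniteAt
  refine ⟨fun i => if hi : (i.down : ℕ) < s then a ⟨i.down, hi⟩ else 0, h, hPh, ?_⟩
  let π : MvPolynomial (ULift.{u} (Fin d)) R →ₐ[R] MvPolynomial (Fin s) R :=
    MvPolynomial.aeval fun i => if hi : (i.down : ℕ) < s then MvPolynomial.X ⟨i.down, hi⟩ else 0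
  have hfac : (MvPolynomial.aeval (R := R) fun i : ULift.{u} (Fin d) => if hi : (i.down : ℕ) < s then a ⟨i.down, hi⟩ else 0) =
      (MvPolynomial.aeval a).comp π := by
    refine MvPolynomial.algHom_ext fun i => ?_
    simp only [π, AlgHom.comp_apply, MvPolynomial.aeval_X]
    split_ifs with hi <;> simp
  have hπ : Function.Surjective π := by
    rw [← AlgHom.range_eq_top, eq_top_iff, ← MvPolynomial.adjoin_range_X, Algebra.adjoin_le_iff]
    rintro _ ⟨j, rfl⟩
    exact ⟨MvPolynomial.X ⟨Fin.castLE hsd j⟩, by simp [π]⟩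
  have : IsClosedImmersion (Spec.map (CommRingCat.ofHom π.toRingHom)) :=
    IsClosedImmersion.spec_of_surjective _ hπ
  have : IsOpenImmersion (Spec.map (CommRingCat.ofHom (algebraMap A (Localization.Away h)))) :=
    IsOpenImmersion.of_isLocalization h
  have : LocallyQuasiFinite (Spec.map (CommRingCat.ofHom (algebraMap A (Localization.Away h))) ≫ G) := by
    rw [← Scheme.Hom.quasiFiniteLocus_eq_top_iff]
    refine top_le_iff.1 fun o _ => ?_
    rw [Scheme.Hom.mem_quasiFiniteLocus, Scheme.Hom.quasiFiniteAt_comp_iff_of_isOpenImmersion]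
    exact hh ((PrimeSpectrum.localization_away_comap_range (Localization.Away h) h).le ⟨o, rfl⟩)
  rw [hfac, specMap_algHom_comp, ← Category.assoc]
  infer_instance

/-- Let f : X → S be locally of finite type, x a point of X with image s, V an affine open neighbourhood
of s in S, and suppose dim_x(X_s) = d. Then there is an affine open neighbourhood U of x with f(U) ⊆
V and a factorisation of f|_U as U → 𝔸^d_V → V with U → 𝔸^d_V locally quasi-finite and locally of
finite type (hence quasi-finite, U being affine). -/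
theorem result {X S : Scheme.{u}} (f : X ⟶ S) [LocallyOfFiniteType f] (x : ↥X)
    (V : S.Opens) (hV : IsAffineOpen V) (hxV : f x ∈ V) (d : ℕ) (hd : FlatMor.fibreDimAt f x = d) :
    ∃ (U : X.Opens), IsAffineOpen U ∧ x ∈ U ∧
      ∃ (g : (U : Scheme.{u}) ⟶ (V : Scheme.{u})) (π : (U : Scheme.{u}) ⟶ 𝔸(ULift.{u} (Fin d); (V : Scheme.{u}))),
        g ≫ V.ι = U.ι ≫ f ∧ π ≫ (𝔸(ULift.{u} (Fin d); (V : Scheme.{u})) ↘ (V : Scheme.{u})) = g ∧
          LocallyQuasiFinite π ∧ LocallyOfFiniteType π := by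
  obtain ⟨O₀, hxO₀, hO₀⟩ := exists_open_krullDim_eq (⟨x, rfl⟩ : ↥(f.base ⁻¹' {f.base x}))
  obtain ⟨O, hO, hOeq⟩ := isOpen_induced_iff.1 O₀.2
  have hxO : x ∈ O := by
    have : (⟨x, rfl⟩ : ↥(f.base ⁻¹' {f.base x})) ∈ Subtype.val ⁻¹' O := hOeq ▸ hxO₀
    exact this
  obtain ⟨_, ⟨U₀, hU₀, rfl⟩, hxU₀, hU₀O⟩ := X.isBasis_affineOpens.exists_subset_of_mem_open
    (show x ∈ O ∩ (f ⁻¹ᵁ V : Set X) from ⟨hxO, hxV⟩) (hO.inter (f ⁻¹ᵁ V).2)
  have hU₀ : IsAffineOpen U₀ := hU₀
  have hle : U₀ ≤ f ⁻¹ᵁ V := fun y hy => (hU₀O hy).2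
  let φ := f.appLE V U₀ hle
  have : φ.hom.FiniteType := f.finiteType_appLE hV hU₀ hle
  algebraize [φ.hom]
  let P : PrimeSpectrum Γ(X, U₀) := hU₀.primeIdealOf ⟨x, hxU₀⟩
  have hP : hU₀.fromSpec P = x := hU₀.fromSpec_primeIdealOf ⟨x, hxU₀⟩
  have hw : Spec.map (CommRingCat.ofHom (algebraMap Γ(S, V) Γ(X, U₀))) ≫ hV.fromSpec = hU₀.fromSpec ≫ f :=
    hV.SpecMap_appLE_fromSpec f hU₀ hle
  obtain ⟨a, h, hPh, hqf⟩ := exists_coords f (R := Γ(S, V)) (A := Γ(X, U₀)) hV.fromSpec hU₀.fromSpec hw P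
    O (by rw [hU₀.range_fromSpec]; exact fun y hy => (hU₀O hy).1) d (by
      rw [hP, hOeq]
      exact le_of_eq (hO₀.trans ((fibreDimAt_eq f x).symm.trans hd)))
  let n := ULift.{u} (Fin d)
  let L := Localization.Away h
  let ι₀ := Spec.map (CommRingCat.ofHom (algebraMap Γ(X, U₀) L))
  have : IsOpenImmersion ι₀ := IsOpenImmersion.of_isLocalization h
  let j : Spec (CommRingCat.of L) ⟶ X := ι₀ ≫ hU₀.fromSpec
  obtain ⟨q, hq⟩ := (PrimeSpectrum.localization_away_comap_range L h).ge (show P ∈ PrimeSpectrum.basicOpen h from hPh)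
  let qs : ↥(Spec (CommRingCat.of L)) := q
  have hjq : j qs = x := by
    rw [Scheme.Hom.comp_apply, show ι₀ qs = P from hq, hP]
  let G := ι₀ ≫ Spec.map (CommRingCat.ofHom (MvPolynomial.aeval (R := Γ(S, V)) a).toRingHom)
  have : IsIso (AffineSpace.map n hV.isoSpec.inv) := ⟨AffineSpace.map n hV.isoSpec.hom, by
    rw [← AffineSpace.map_comp, Iso.inv_hom_id, AffineSpace.map_id], by
    rw [← AffineSpace.map_comp, Iso.hom_inv_id, AffineSpace.map_id]⟩
  let π₀ : Spec (CommRingCat.of L) ⟶ 𝔸(n; (V : Scheme.{u})) :=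
    G ≫ (AffineSpace.SpecIso n Γ(S, V)).inv ≫ AffineSpace.map n hV.isoSpec.inv
  have : LocallyQuasiFinite G := hqf
  have : LocallyQuasiFinite π₀ := inferInstance
  have hπ₀ : π₀ ≫ (𝔸(n; (V : Scheme.{u})) ↘ (V : Scheme.{u})) ≫ V.ι = j ≫ f := by
    simp only [π₀, G, Category.assoc, AffineSpace.map_over_assoc, AffineSpace.SpecIso_inv_over_assoc]
    have hC : Spec.map (CommRingCat.ofHom (MvPolynomial.aeval (R := Γ(S, V)) a).toRingHom) ≫
        Spec.map (CommRingCat.ofHom MvPolynomial.C) = Spec.map (CommRingCat.ofHom (algebraMap Γ(S, V) Γ(X, U₀))) := by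
      rw [← Spec.map_comp, ← CommRingCat.ofHom_comp]
      congr 2
      exact (MvPolynomial.aeval a).comp_algebraMap
    rw [reassoc_of% hC]
    have e : hV.isoSpec.inv ≫ V.ι = hV.fromSpec := rfl
    rw [e]
    simp only [j, Category.assoc]
    rw [hw]
  refine ⟨j.opensRange, isAffineOpen_opensRange j, ⟨qs, hjq⟩,
    (j.isoOpensRange.inv ≫ π₀) ≫ (𝔸(n; (V : Scheme.{u})) ↘ (V : Scheme.{u})), j.isoOpensRange.inv ≫ π₀, ?_, rfl,
    inferInstance, ?_⟩
  · simp only [Category.assoc, hπ₀]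
    rw [← Category.assoc, Scheme.Hom.isoOpensRange_inv_comp]
  · have : LocallyOfFiniteType (π₀ ≫ (𝔸(n; (V : Scheme.{u})) ↘ (V : Scheme.{u})) ≫ V.ι) := by
      rw [hπ₀]; infer_instance
    have : LocallyOfFiniteType π₀ := locallyOfFiniteType_of_comp π₀ ((𝔸(n; (V : Scheme.{u})) ↘ (V : Scheme.{u})) ≫ V.ι)
    infer_instance

end Groth.Agent.S7625
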