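import Groth.Statements.S7626
import Groth.Agent.Lib.ZeroCyc99.Twist
import Groth.Agent.Lib.ProperFin.ProjFacts
import Groth.Agent.Lib.EssDimM0.LinePts
import Groth.Agent.Lib.Ample.GenLocus
import Groth.Agent.Lib.GeomConn.Residue
import Mathlib.Algebra.Module.Submodule.Union
-- import your own Groth.Agent.* helpers here

set_option autoImplicit false
universe u
open CategoryTheory CategoryTheory.Limits AlgebraicGeometry
open Variety

namespace Groth.Agent.S7626

open Groth.Agent.Lib Groth.Agent.Lib.ProjSpace.BaseChange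

section

variable {k : Type u} [Field k] {n : ℕ}

local notation "tw1" => Twist.twistProjSpace n k (1 : ℕ)

/-- The linear forms vanishing at a point. -/
noncomputable def kerLin (x : CohB1.ProjSpace n k) : Submodule k ((CohB1.polyGrading n k) 1) :=
  (x.asHomogeneousIdeal.toIdeal.restrictScalars k).comap ((CohB1.polyGrading n k) 1).subtype

/-- The section of `O(1)` given by a linear form. -/
noncomputable def secLin (f : (CohB1.polyGrading n k) 1) :
    Coh.structureModule (CohB1.ProjSpace n k) ⟶ Twist.twistProjSpace n k (1 : ℕ) :=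
  Modules.Free.unitHom (Twist.twistProjSpace n k (1 : ℕ)) (ZeroCyc99.Twist.gs (𝒜 := CohB1.polyGrading n k) f)

theorem covers_one' : ZeroCyc99.Twist.Covers (CohB1.polyGrading n k) 1 := fun x => by
  obtain ⟨f, hf, hx⟩ := ProperFin.ProjFacts.exists_degOne n k x
  exact ⟨⟨f, hf⟩, hx⟩

theorem mem_genLocus_secLin (f : (CohB1.polyGrading n k) 1) (x : CohB1.ProjSpace n k) :
    x ∈ CohB1.genLocus _ (secLin f) ↔
      (f : MvPolynomial (Fin (n + 1)) k) ∉ x.asHomogeneousIdeal := by
  have h : ProjMor.Sec.locus (ZeroCyc99.Twist.gs (𝒜 := CohB1.polyGrading n k) f) =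
      Proj.basicOpen (CohB1.polyGrading n k) f.1 :=
    ZeroCyc99.Twist.locus_globalOf covers_one' f
  exact Iff.trans (iff_of_eq (congrArg (x ∈ ·) h)) Iff.rfl

/-- A rational point is the only point where all the linear forms vanishing at it vanish. -/
theorem eq_of_ker_le {v : Fin (n + 1) → k} (hv : v ≠ 0) (y : CohB1.ProjSpace n k)
    (h : kerLin (EssDimM0.LinePts.ptOf k v hv default) ≤ kerLin y) :
    y = EssDimM0.LinePts.ptOf k v hv default := by
  classical
  set p := EssDimM0.LinePts.ptOf k v hv default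
  have hker : ∀ f : (CohB1.polyGrading n k) 1, f ∈ kerLin p ↔ MvPolynomial.eval v f.1 = 0 := fun f =>
    not_iff_not.1 (EssDimM0.LinePts.ptOf_mem_basicOpen_iff k v hv one_pos f.2 default)
  obtain ⟨i, hi⟩ : ∃ i, v i ≠ 0 := by
    by_contra! hc; exact hv (funext hc)
  let g : (CohB1.polyGrading n k) 1 :=
    (v i)⁻¹ • ⟨MvPolynomial.X i, MvPolynomial.isHomogeneous_X k i⟩
  have hgv : MvPolynomial.eval v g.1 = 1 := by
    simp [g, Submodule.coe_smul, MvPolynomial.smul_eval, hi]
  have hmem : ∀ j, (MvPolynomial.X j : MvPolynomial (Fin (n + 1)) k) - v j • g.1 ∈ y.asHomogeneousIdeal := fun j =>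
    h (x := ⟨MvPolynomial.X j, MvPolynomial.isHomogeneous_X k j⟩ - v j • g) ((hker _).2 (by
      simp [g, Submodule.coe_smul, MvPolynomial.smul_eval, hi]))
  have hg : g.1 ∉ y.asHomogeneousIdeal := fun hgy => by
    obtain ⟨c, hc⟩ := covers_one' (n := n) (k := k) y
    have hle : kerLin p ⊔ k ∙ g ≤ kerLin y :=
      sup_le h ((Submodule.span_singleton_le_iff_mem _ _).2 hgy)
    refine hc (hle (Submodule.mem_sup.2 ⟨c - MvPolynomial.eval v c.1 • g, (hker _).2 ?_,
      MvPolynomial.eval v c.1 • g, Submodule.mem_span_singleton.2 ⟨_, rfl⟩, sub_add_cancel _ _⟩))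
    simp [Submodule.coe_smul, MvPolynomial.smul_eval, hgv]
  refine EssDimM0.LinePts.point_ext k fun f d hd hf => ?_
  rw [EssDimM0.LinePts.ptOf_mem_basicOpen_iff k v hv hd hf]
  refine not_congr ?_
  let q := Ideal.Quotient.mkₐ k y.asHomogeneousIdeal.toIdeal
  have e : q f = MvPolynomial.eval v f • q g.1 ^ d := by
    have hX : ∀ j, q (MvPolynomial.X j) = v j • q g.1 := fun j => by
      rw [← map_smul]; exact Ideal.Quotient.eq.2 (hmem j)
    conv_lhs => rw [← MvPolynomial.aeval_X_left_apply f, ← AlgHom.comp_apply, MvPolynomial.comp_aeval]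
    simp only [hX, MvPolynomial.aeval_def, MvPolynomial.eval₂_eq, MvPolynomial.eval_eq, Finset.sum_smul]
    refine Finset.sum_congr rfl fun m hm => ?_
    have hdeg : ∑ i ∈ m.support, m i = d := by
      have := hf (MvPolynomial.mem_support_iff.1 hm)
      simpa [Finsupp.weight_apply, Finsupp.sum] using this
    rw [← Algebra.smul_def, mul_smul]
    simp_rw [smul_pow]
    rw [Finset.prod_smul, Finset.prod_pow_eq_pow_sum, hdeg]
  have hqg : q g.1 ≠ 0 := fun h0 => hg (Ideal.Quotient.eq_zero_iff_mem.1 h0)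
  change f ∈ y.asHomogeneousIdeal.toIdeal ↔ _
  rw [← Ideal.Quotient.eq_zero_iff_mem]
  change q f = 0 ↔ _
  rw [e]
  exact ⟨fun h0 => by
    by_contra hev
    have := congrArg ((MvPolynomial.eval v f)⁻¹ • ·) h0
    simp only [smul_zero, smul_smul, inv_mul_cancel₀ hev, one_smul] at this
    exact hqg (pow_eq_zero_iff (Nat.pos_iff_ne_zero.1 hd) |>.1 this), fun h0 => by rw [h0, zero_smul]⟩

end

/-- Let k be an infinite field, X a scheme of finite type over k, L a very ample invertible O_X-module
on X over k, n ≥ 0, x a k-rational point of X and x_1, …, x_n points of X with x_i ≠ x. Then there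
is a global section s of L which vanishes at x (x is not in the open where s generates L) but does
not vanish at any x_i. -/
theorem result (k : Type u) [Field k] (X : Scheme.{u}) [X.Over (Spec (CommRingCat.of k))] [Infinite k]
    [LocallyOfFiniteType (X ↘ (Spec (CommRingCat.of k)))] [QuasiCompact (X ↘ (Spec (CommRingCat.of k)))]
    (L : X.Modules) (hL : RelAmple.IsRelVeryAmplePn (X ↘ (Spec (CommRingCat.of k))) L)
    (x : ↥X) (hx : Function.Surjective (Curv2.resMap k X x)) (n : ℕ) (pts : Fin n → ↥X) (hne : ∀ i, pts i ≠ x) :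
    ∃ s : Coh.structureModule X ⟶ L, x ∉ CohB1.genLocus L s ∧ ∀ i, pts i ∈ CohB1.genLocus L s := by
  let fX := X ↘ Spec (CommRingCat.of k)
  obtain ⟨m, i, hi, hiS, ⟨eL⟩⟩ := hL
  let o := overSpecIso m k
  let φ : X ⟶ CohB1.ProjSpace m k := i ≫ o.hom
  have hφS : φ ≫ CohB1.ProjSpace.toSpec m k = fX := by
    rw [Category.assoc, overSpecIso_hom_toSpec]
    exact hiS
  obtain ⟨et⟩ := ProperFin.ProjFacts.nonempty_pullback_O m (ULift.{u} ℤ) k (ulz k) 1
  let eT : (Scheme.Modules.pullback φ).obj (Twist.twistProjSpace m k (1 : ℕ)) ≅ L :=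
    ((Scheme.Modules.pullbackComp i o.hom).app _).symm ≪≫
      (Scheme.Modules.pullback i).mapIso ((Scheme.Modules.pullback o.hom).mapIso et.symm ≪≫
        (Scheme.Modules.pullbackComp o.hom (projMap m (ulz k))).app _ ≪≫
        (Scheme.Modules.pullbackCongr (overSpecIso_hom_projMap m k)).app _) ≪≫ eL.symm
  let sX : (CohB1.polyGrading m k) 1 → (Coh.structureModule X ⟶ L) := fun f =>
    ((PicLoc.pullbackStructureIso φ).inv ≫ (Scheme.Modules.pullback φ).map (secLin f)) ≫ eT.hom
  have hgen : ∀ f z, z ∈ CohB1.genLocus L (sX f) ↔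
      (f : MvPolynomial (Fin (m + 1)) k) ∉ (φ z).asHomogeneousIdeal := fun f z => by
    rw [← mem_genLocus_secLin]
    exact iff_of_eq (congrArg (z ∈ ·) ((Ample.GenLocus.genLocus_comp_iso _ eT).trans
      (Ample.GenLocus.genLocus_pullback φ (ProperFin.ProjFacts.isInvertible_O m k 1) (secLin f)
        (PicLoc.pullbackStructureIso φ).symm)))
  let e := RingEquiv.ofBijective (Curv2.resMap k X x) ⟨RingHom.injective _, hx⟩
  let s : Spec (CommRingCat.of k) ⟶ X :=
    Spec.map (CommRingCat.ofHom (e.symm : X.residueField x →+* k)) ≫ X.fromSpecResidueField x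
  have hs : (s ≫ φ) ≫ CohB1.ProjSpace.toSpec m k = 𝟙 _ := by
    rw [Category.assoc, hφS, Category.assoc, ← GeomConn.Residue.specMap_resMap, ← Spec.map_comp,
      ← Spec.map_id]
    refine congrArg Spec.map ?_
    ext c
    exact e.symm_apply_apply c
  have hsx : s default = x := X.fromSpecResidueField_apply x _
  obtain ⟨v, hv, hv'⟩ := EssDimM0.LinePts.exists_eq_ptOf k (s ≫ φ) hs
  have hpx : EssDimM0.LinePts.ptOf k v hv default = φ x := by
    rw [← hv', Scheme.Hom.comp_apply, hsx]
  let K := kerLin (φ x)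
  let Kj : Fin n → Submodule k K := fun j => (kerLin (φ (pts j))).comap K.subtype
  obtain ⟨c, hc⟩ := Submodule.exists_forall_notMem_of_forall_ne_top (M := ↥K) Kj fun j htop => by
      refine hne j (φ.isEmbedding.injective ?_)
      have hle : kerLin (EssDimM0.LinePts.ptOf k v hv default) ≤ kerLin (φ (pts j)) := by
        rw [hpx]; exact Submodule.comap_subtype_eq_top.1 htop
      exact (eq_of_ker_le hv _ hle).trans hpx
  exact ⟨sX c.1, fun h => (hgen c.1 x).1 h c.2, fun j => (hgen c.1 (pts j)).2 (hc j)⟩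

end Groth.Agent.S7626
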