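import Groth.Statements.S7627
import Groth.Agent.H2.Rigid.GeomRegPt
import Groth.Agent.Lib.EGA75.DepthFlat

set_option autoImplicit false
universe u
open CategoryTheory CategoryTheory.Limits AlgebraicGeometry
attribute [local instance] Curv2.resAlgebra
open scoped TensorProduct
open Variety

namespace Groth.Agent.S7627

theorem compat {X Y : Scheme.{u}} (g : Y ⟶ X) (y : Y) (P : CommRingCat.{u}) (j : Spec P ⟶ Y)
    (α : X.presheaf.stalk (g y) ⟶ P) (q : Spec P) (hy : j q ⤳ y)
    (hj : j ≫ g = Spec.map α ≫ X.fromSpecStalk (g y)) :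
    g.stalkMap y ≫ Y.presheaf.stalkSpecializes hy ≫ j.stalkMap q ≫ (Spec.stalkIso P q).hom =
      α ≫ CommRingCat.ofHom (algebraMap P (Localization.AtPrime q.asIdeal)) := by
  apply Spec.map_injective
  rw [← cancel_mono (X.fromSpecStalk (g y))]
  simp only [Spec.map_comp, Category.assoc]
  rw [Scheme.SpecMap_stalkMap_fromSpecStalk, Scheme.SpecMap_stalkSpecializes_fromSpecStalk_assoc,
    Scheme.SpecMap_stalkMap_fromSpecStalk_assoc, hj, Spec.fromSpecStalk_eq]
  simp only [← Category.assoc, ← Spec.map_comp]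
  simp only [Category.assoc]
  erw [← Spec.algebraMap_stalkIso_inv_assoc, Iso.inv_hom_id, Category.comp_id]

theorem radical_map {P T B : Type u} [CommRing P] [CommRing T] [CommRing B] [Algebra P B]
    [_root_.IsReduced T] (π : P →+* T) (S : Submonoid P) [IsLocalization S B] :
    ((RingHom.ker π).map (algebraMap P B)).IsRadical := by
  rintro b ⟨n, hn⟩
  obtain ⟨a, s, rfl⟩ := IsLocalization.exists_mk'_eq S b
  rw [← IsLocalization.mk'_pow] at hn
  rw [IsLocalization.mk'_mem_map_algebraMap_iff S] at hn ⊢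
  obtain ⟨t, ht, hta⟩ := hn
  refine ⟨t, ht, ?_⟩
  rw [RingHom.mem_ker] at hta ⊢
  have : IsNilpotent (π (t * a)) := by
    refine ⟨n + 1, ?_⟩
    have he : (t * a) ^ (n + 1) = t ^ n * a * (t * a ^ n) := by ring
    rw [← map_pow, he, map_mul, hta, mul_zero]
  exact this.eq_zero

theorem ker_map {k A L K : Type u} [Field k] [CommRing A] [IsLocalRing A] [Field L] [CommRing K]
    [Algebra k A] [Algebra k L] [Algebra k K] (res : A →ₐ[k] L) (hres : Function.Surjective res) :
    RingHom.ker (Algebra.TensorProduct.map res (AlgHom.id k K)).toRingHom =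
      (IsLocalRing.maximalIdeal A).map (algebraMap A (A ⊗[k] K)) := by
  have h := Algebra.TensorProduct.rTensor_ker (R := k) (S := k) (C := K) res hres
  have hm : RingHom.ker res = IsLocalRing.maximalIdeal A :=
    IsLocalRing.eq_maximalIdeal (RingHom.ker_isMaximal_of_surjective res hres)
  rw [hm] at h
  exact h

open Groth.Agent.H52.FBase in
theorem key (k : Type u) [Field k] (X : Scheme.{u}) [X.Over (Spec (CommRingCat.of k))]
    (K : Type u) [Field K] [Algebra k K] (y : ↥(Curv2.bc k X K))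
    (hred : _root_.IsReduced (X.residueField (Curv2.bcFst k X K y) ⊗[k] K)) :
    (Ideal.map ((Curv2.bcFst k X K).stalkMap y).hom
      (IsLocalRing.maximalIdeal ↥(X.presheaf.stalk (Curv2.bcFst k X K y)))).IsRadical := by
  set x := Curv2.bcFst k X K y with hx
  set f := X ↘ Spec (CommRingCat.of k)
  obtain ⟨q, hq⟩ := StalkBC.exists_j_eq f x K y (specializes_refl x)
  let j : Spec (CommRingCat.of (StalkBC.Ox f x ⊗[k] K)) ⟶ Curv2.bc k X K := StalkBC.j f x K
  have hq' : j q ⤳ y := (Inseparable.of_eq hq).specializes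
  let α : X.presheaf.stalk x ⟶ CommRingCat.of (StalkBC.Ox f x ⊗[k] K) :=
    CommRingCat.ofHom (algebraMap (StalkBC.Ox f x) (StalkBC.Ox f x ⊗[k] K))
  have hj : j ≫ Curv2.bcFst k X K = Spec.map α ≫ X.fromSpecStalk x := StalkBC.j_π f x K
  have hcomp := compat (Curv2.bcFst k X K) y _ j α q hq' hj
  let res : StalkBC.Ox f x →ₐ[k] X.residueField x :=
    { toRingHom := (X.residue x).hom
      commutes' := fun c => congrArg (X.residue x).hom
        (congrFun (congrArg (fun a : Algebra k (StalkBC.Ox f x) => ⇑(a.algebraMap))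
          (Groth.Agent.H2.Rigid.GeomRegPt.algebra_eq k X x)) c) }
  have hrad := radical_map (B := Localization.AtPrime q.asIdeal)
    (Algebra.TensorProduct.map res (AlgHom.id k K)).toRingHom q.asIdeal.primeCompl
  rw [ker_map res (Scheme.residue_surjective _ x), Ideal.map_map] at hrad
  let e := (Curv2.bc k X K).presheaf.stalkSpecializes hq' ≫ j.stalkMap q ≫
    (Spec.stalkIso (CommRingCat.of (StalkBC.Ox f x ⊗[k] K)) q).hom
  haveI : IsIso (j.stalkMap q) :=
    (ConcreteCategory.isIso_iff_bijective _).2 (StalkBC.bijective_stalkMap (StalkBC.j f x K) q)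
  haveI : IsIso ((Curv2.bc k X K).presheaf.stalkSpecializes hq') :=
    ((Curv2.bc k X K).presheaf.stalkCongr (Inseparable.of_eq hq.symm)).isIso_hom
  haveI : IsIso e := inferInstance
  have heq : Ideal.map e.hom (Ideal.map ((Curv2.bcFst k X K).stalkMap y).hom
      (IsLocalRing.maximalIdeal ↥(X.presheaf.stalk x))) =
      (IsLocalRing.maximalIdeal (StalkBC.Ox f x)).map ((algebraMap _ (Localization.AtPrime q.asIdeal)).comp
        (algebraMap (StalkBC.Ox f x) (StalkBC.Ox f x ⊗[k] K))) := by
    rw [Ideal.map_map, ← CommRingCat.hom_comp, hcomp]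
    rfl
  intro s hs
  obtain ⟨n, hn⟩ := hs
  have hmem : e.hom s ∈ Ideal.map e.hom (Ideal.map ((Curv2.bcFst k X K).stalkMap y).hom
      (IsLocalRing.maximalIdeal ↥(X.presheaf.stalk x))) := by
    rw [heq]
    refine hrad ⟨n, ?_⟩
    rw [← heq, ← map_pow]
    exact Ideal.mem_map_of_mem _ hn
  rw [Ideal.mem_map_iff_of_surjective _ (ConcreteCategory.bijective_of_isIso e).2] at hmem
  obtain ⟨s', hs', h⟩ := hmem
  rwa [(ConcreteCategory.bijective_of_isIso e).1 h] at hs'

/-- Let X be locally of finite type over a field k, K an extension field of k, y a point of X_K with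
image x in X. Assume dim O_{X, x} = dim O_{X_K, y} and that κ(x) ⊗_k K is reduced (for instance
κ(x)/k separable or K/k separable). Then m_x O_{X_K, y} = m_y. -/
theorem result (k : Type u) [Field k] (X : Scheme.{u}) [X.Over (Spec (CommRingCat.of k))] [LocallyOfFiniteType (X ↘ (Spec (CommRingCat.of k)))]
    (K : Type u) [Field K] [Algebra k K] (y : ↥(Curv2.bc k X K))
    (hdim : ringKrullDim ↥(X.presheaf.stalk (Curv2.bcFst k X K y)) = ringKrullDim ↥((Curv2.bc k X K).presheaf.stalk y))
    (hred : _root_.IsReduced (X.residueField (Curv2.bcFst k X K y) ⊗[k] K)) :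
    Ideal.map ((Curv2.bcFst k X K).stalkMap y).hom (IsLocalRing.maximalIdeal ↥(X.presheaf.stalk (Curv2.bcFst k X K y))) =
      IsLocalRing.maximalIdeal ↥((Curv2.bc k X K).presheaf.stalk y) := by
  set x := Curv2.bcFst k X K y
  haveI : IsLocallyNoetherian X := LocallyOfFiniteType.isLocallyNoetherian (X ↘ Spec (CommRingCat.of k))
  haveI : LocallyOfFiniteType (Curv2.bcSnd k X K) := inferInstance
  haveI : IsLocallyNoetherian (Curv2.bc k X K) := LocallyOfFiniteType.isLocallyNoetherian (Curv2.bcSnd k X K)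
  haveI : Flat (Spec.map (CommRingCat.ofHom (algebraMap k K))) :=
    (HasRingHomProperty.Spec_iff (P := @Flat)).mpr (RingHom.flat_algebraMap_iff.2 inferInstance)
  haveI : Flat (Curv2.bcFst k X K) := inferInstance
  letI : Algebra ↥(X.presheaf.stalk x) ↥((Curv2.bc k X K).presheaf.stalk y) :=
    ((Curv2.bcFst k X K).stalkMap y).hom.toAlgebra
  haveI : Module.Flat ↥(X.presheaf.stalk x) ↥((Curv2.bc k X K).presheaf.stalk y) :=
    Flat.stalkMap (Curv2.bcFst k X K) y
  haveI : IsLocalHom (algebraMap ↥(X.presheaf.stalk x) ↥((Curv2.bc k X K).presheaf.stalk y)) :=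
    inferInstanceAs (IsLocalHom ((Curv2.bcFst k X K).stalkMap y).hom)
  set R := ↥(X.presheaf.stalk x)
  set S := ↥((Curv2.bc k X K).presheaf.stalk y)
  let M : Ideal S := (IsLocalRing.maximalIdeal R).map (algebraMap R S)
  have hM : M ≤ IsLocalRing.maximalIdeal S :=
    Ideal.map_le_iff_le_comap.2 (IsLocalRing.maximalIdeal_comap (algebraMap R S)).ge
  haveI : Nontrivial (S ⧸ M) := Ideal.Quotient.nontrivial_iff.2 fun h =>
    (IsLocalRing.maximalIdeal.isMaximal S).ne_top (top_le_iff.1 (h ▸ hM))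
  haveI : IsLocalRing (S ⧸ M) := IsLocalRing.of_surjective' (Ideal.Quotient.mk M) Ideal.Quotient.mk_surjective
  have hd := Groth.Agent.Lib.EGA75.DepthFlat.ringKrullDim_eq_add R S
  have h0 : ringKrullDim (S ⧸ M) = 0 := by
    rw [← hdim] at hd
    obtain ⟨c, hc⟩ := ENat.ne_top_iff_exists.1
      (Ideal.height_ne_top (IsLocalRing.maximalIdeal.isMaximal R).ne_top)
    obtain ⟨a, ha⟩ := ENat.ne_top_iff_exists.1
      (Ideal.height_ne_top (IsLocalRing.maximalIdeal.isMaximal (S ⧸ M)).ne_top)
    rw [← IsLocalRing.maximalIdeal_height_eq_ringKrullDim, ← IsLocalRing.maximalIdeal_height_eq_ringKrullDim,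
      ← hc, ← ha] at hd
    have : c = c + a := by exact_mod_cast hd
    rw [← IsLocalRing.maximalIdeal_height_eq_ringKrullDim, ← ha, show a = 0 by omega]
    rfl
  haveI : Ring.KrullDimLE 0 (S ⧸ M) := Ring.krullDimLE_iff.2 h0.le
  refine le_antisymm hM fun s hs => key k X K y hred ?_
  change s ∈ M.radical
  have hn : IsNilpotent (Ideal.Quotient.mk M s) := by
    rw [← mem_nilradical, Ring.KrullDimLE.nilradical_eq_maximalIdeal, IsLocalRing.mem_maximalIdeal]
    haveI : IsLocalHom (Ideal.Quotient.mk M) := .of_surjective _ Ideal.Quotient.mk_surjective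
    exact fun hu => (IsLocalRing.mem_maximalIdeal s).1 hs (isUnit_of_map_unit _ _ hu)
  obtain ⟨n, hn⟩ := hn
  exact ⟨n, Ideal.Quotient.eq_zero_iff_mem.1 (by rwa [map_pow])⟩

end Groth.Agent.S7627
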