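import Groth.Statements.S7628
import Groth.Agent.H69.FieldOpenStage

set_option autoImplicit false
universe u
open CategoryTheory CategoryTheory.Limits AlgebraicGeometry
open Variety

namespace Groth.Agent.S7628
set_option backward.isDefEq.respectTransparency false
open Groth.Agent.H69.FieldOpenStage CategoryTheory CategoryTheory.Limits AlgebraicGeometry TensorProduct

/-- Let X be a scheme over a field k, A a k-algebra and V ⊆ X_A = X ×_k Spec A a quasi-compact open
subset. Then there are a finitely generated k-subalgebra A' ⊆ A and a quasi-compact open subset V' ⊆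
X_{A'} such that V is the inverse image of V' under the transition morphism X_A → X_{A'} (any
morphism compatible with the projections to X and with Spec A → Spec A'; it is unique). -/
theorem result (k : Type u) [Field k] (X : Scheme.{u}) [X.Over (Spec (CommRingCat.of k))] (A : Type u) [CommRing A] [Algebra k A]
    (V : Set ↥(pullback (X ↘ (Spec (CommRingCat.of k))) (Spec.map (CommRingCat.ofHom (algebraMap k A))))) (hV : IsOpen V) (hVc : IsCompact V) :
    ∃ (A' : Subalgebra k A), A'.FG ∧
      ∃ (V' : Set ↥(pullback (X ↘ (Spec (CommRingCat.of k))) (Spec.map (CommRingCat.ofHom (algebraMap k ↥A'))))), IsOpen V' ∧ IsCompact V' ∧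
        ∀ π : pullback (X ↘ (Spec (CommRingCat.of k))) (Spec.map (CommRingCat.ofHom (algebraMap k A))) ⟶
            pullback (X ↘ (Spec (CommRingCat.of k))) (Spec.map (CommRingCat.ofHom (algebraMap k ↥A'))),
          π ≫ pullback.fst _ _ = pullback.fst _ _ →
          π ≫ pullback.snd _ _ = pullback.snd _ _ ≫ Spec.map (CommRingCat.ofHom A'.val.toRingHom) →
            π.base ⁻¹' V' = V := by
  classical
  let p := X ↘ Spec (CommRingCat.of k)
  have loc : ∀ v : V, ∃ (R : Type u) (_ : CommRing R) (_ : Algebra k R) (i : Spec (CommRingCat.of R) ⟶ X)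
      (_ : IsOpenImmersion i) (hi : i ≫ p = Spec.map (CommRingCat.ofHom (algebraMap k R))) (e : R ⊗[k] A),
      v.1 ∈ chart p R i hi A '' (PrimeSpectrum.basicOpen e : Set (PrimeSpectrum (R ⊗[k] A))) ∧
        chart p R i hi A '' (PrimeSpectrum.basicOpen e : Set (PrimeSpectrum (R ⊗[k] A))) ⊆ V := by
    intro v
    obtain ⟨W, hW, hvW, -⟩ := exists_isAffineOpen_mem_and_subset (X := X) (U := ⊤)
      (x := pullback.fst p (Spec.map (CommRingCat.ofHom (algebraMap k A))) v.1) trivial
    let R : Type u := Γ(X, W)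
    let φ : CommRingCat.of k ⟶ Γ(X, W) := Spec.preimage (hW.fromSpec ≫ p)
    letI : Algebra k R := φ.hom.toAlgebra
    have hi : hW.fromSpec ≫ p = Spec.map (CommRingCat.ofHom (algebraMap k R)) :=
      (Spec.map_preimage (hW.fromSpec ≫ p)).symm
    haveI : IsOpenImmersion hW.fromSpec := hW.isOpenImmersion_fromSpec
    obtain ⟨w, hw⟩ : v.1 ∈ Set.range (chart p R hW.fromSpec hi A) := by
      rw [range_chart]
      exact hW.range_fromSpec.ge hvW
    obtain ⟨_, ⟨e, rfl⟩, hwe, hesub⟩ := PrimeSpectrum.isTopologicalBasis_basic_opens.exists_subset_of_mem_open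
      (show w ∈ chart p R hW.fromSpec hi A ⁻¹' V from Set.mem_preimage.2 (by rw [hw]; exact v.2))
      (hV.preimage (chart p R hW.fromSpec hi A).continuous)
    exact ⟨R, inferInstance, inferInstance, hW.fromSpec, inferInstance, hi, e, ⟨w, hwe, hw⟩,
      Set.image_subset_iff.2 hesub⟩
  choose R hR hRk i hio hi e hve heV using loc
  obtain ⟨t, ht⟩ := hVc.elim_finite_subcover
    (fun v : V => chart p (R v) (i v) (hi v) A '' (PrimeSpectrum.basicOpen (e v) : Set (PrimeSpectrum (R v ⊗[k] A))))
    (fun v => (chart p (R v) (i v) (hi v) A).isOpenEmbedding.isOpenMap _ (PrimeSpectrum.basicOpen (e v)).2)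
    (fun x hx => Set.mem_iUnion.2 ⟨⟨x, hx⟩, hve ⟨x, hx⟩⟩)
  choose s hs using fun v => exists_lift (k := k) (R v) A (e v)
  let A' := Algebra.adjoin k (↑(t.biUnion s) : Set A)
  have hsub : ∀ v ∈ t, (↑(s v) : Set A) ⊆ A' := fun v hv a ha =>
    Algebra.subset_adjoin (Finset.mem_biUnion.2 ⟨v, hv, ha⟩)
  choose e' he' using fun v : t => hs v.1 A' (hsub v.1 v.2)
  refine ⟨A', ⟨_, rfl⟩,
    ⋃ v : t, chart p (R v.1) (i v.1) (hi v.1) A' '' (PrimeSpectrum.basicOpen (e' v) : Set (PrimeSpectrum (R v.1 ⊗[k] A'))),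
    isOpen_iUnion fun v => (chart p (R v.1) (i v.1) (hi v.1) A').isOpenEmbedding.isOpenMap _
      (PrimeSpectrum.basicOpen (e' v)).2,
    isCompact_iUnion fun v => (PrimeSpectrum.isCompact_basicOpen (e' v)).image
      (chart p (R v.1) (i v.1) (hi v.1) A').continuous, fun π h₁ h₂ => ?_⟩
  rw [Set.preimage_iUnion]
  have key := fun v : t => exists_stage p (R v.1) (i v.1) (hi v.1) A (e v.1) A' (e' v) (he' v) π h₁ h₂
  refine Set.Subset.antisymm (Set.iUnion_subset fun v => (key v).le.trans (heV v.1)) fun x hx => ?_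
  obtain ⟨v, hv, hxv⟩ := Set.mem_iUnion₂.1 (ht hx)
  exact Set.mem_iUnion.2 ⟨⟨v, hv⟩, (key ⟨v, hv⟩).ge hxv⟩

end Groth.Agent.S7628
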