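import Groth.Statements.S7631
import Groth.Agent.Lib.BirMap96.ImageProd
-- import your own Groth.Agent.* helpers here

set_option autoImplicit false
universe u
open CategoryTheory CategoryTheory.Limits AlgebraicGeometry
open Variety

namespace Groth.Agent.S7631

/-- Let f : A → X and g : B → Y be quasi-compact morphisms of schemes over a field k and F = f × g : A
×_k B → X ×_k Y. Then the scheme-theoretic image of F is Z ×_k Z', where Z ⊆ X and Z' ⊆ Y are the
scheme-theoretic images of f and g: in terms of kernel ideal sheaves, ker F is the sum of the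
pullback of ker f along the first projection and of ker g along the second. -/
theorem result (k : Type u) [Field k] (X : Scheme.{u}) [X.Over (Spec (CommRingCat.of k))] (Y : Scheme.{u}) [Y.Over (Spec (CommRingCat.of k))]
    (A B : Scheme.{u}) [A.Over (Spec (CommRingCat.of k))] [B.Over (Spec (CommRingCat.of k))]
    (f : A ⟶ X) [f.IsOver (Spec (CommRingCat.of k))] [QuasiCompact f] (g : B ⟶ Y) [g.IsOver (Spec (CommRingCat.of k))] [QuasiCompact g]
    (F : pullback (A ↘ (Spec (CommRingCat.of k))) (B ↘ (Spec (CommRingCat.of k))) ⟶ pullback (X ↘ (Spec (CommRingCat.of k))) (Y ↘ (Spec (CommRingCat.of k))))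
    (hF₁ : F ≫ pullback.fst (X ↘ (Spec (CommRingCat.of k))) (Y ↘ (Spec (CommRingCat.of k))) = pullback.fst (A ↘ (Spec (CommRingCat.of k))) (B ↘ (Spec (CommRingCat.of k))) ≫ f)
    (hF₂ : F ≫ pullback.snd (X ↘ (Spec (CommRingCat.of k))) (Y ↘ (Spec (CommRingCat.of k))) = pullback.snd (A ↘ (Spec (CommRingCat.of k))) (B ↘ (Spec (CommRingCat.of k))) ≫ g) :
    F.ker = f.ker.comap (pullback.fst (X ↘ (Spec (CommRingCat.of k))) (Y ↘ (Spec (CommRingCat.of k)))) ⊔ g.ker.comap (pullback.snd (X ↘ (Spec (CommRingCat.of k))) (Y ↘ (Spec (CommRingCat.of k)))) := by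
  exact Groth.Agent.Lib.BirMap96.ImageProd.ker_map_map _ _ _ _ f g (comp_over f _) (comp_over g _) F hF₁ hF₂

end Groth.Agent.S7631
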