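import Groth.Statements.S7639
import Groth.Agent.Lib.Curves.GlobalSections
import Groth.Agent.Lib.Exchange.Proper
import Groth.Agent.Lib.Snapper.Twist

set_option autoImplicit false
universe u
open CategoryTheory CategoryTheory.Limits AlgebraicGeometry
attribute [local instance] Curv2.resAlgebra
open Variety

namespace Groth.Agent.S7639

open Groth.Agent.Lib

/-- A connected reduced scheme has no idempotent functions but the trivial ones. -/
theorem eq_zero_or_eq_one_of_idem (X : Scheme.{u}) [IsReduced X] [ConnectedSpace X] (e : Γ(X, ⊤))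
    (he : e * e = e) : e = 0 ∨ e = 1 := by
  have hd : X.basicOpen e ⊓ X.basicOpen (1 - e) = ⊥ := by
    rw [← X.basicOpen_mul, show e * (1 - e) = 0 by rw [mul_sub, mul_one, he, sub_self]]
    exact Scheme.basicOpen_zero _ _
  have hu : ∀ x : X, x ∈ X.basicOpen e ∨ x ∈ X.basicOpen (1 - e) := fun x => by
    rw [X.mem_basicOpen_top e x, X.mem_basicOpen_top (1 - e) x, map_sub, map_one]
    exact IsLocalRing.isUnit_or_isUnit_of_add_one (add_sub_cancel _ _)
  have hc : (X.basicOpen e : Set X)ᶜ = (X.basicOpen (1 - e) : Set X) := by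
    ext x
    refine ⟨fun h => (hu x).resolve_left h, fun h1 h2 => ?_⟩
    have h3 : x ∈ X.basicOpen e ⊓ X.basicOpen (1 - e) := ⟨h2, h1⟩
    rw [hd] at h3
    exact h3
  have hclopen : IsClopen (X.basicOpen e : Set X) :=
    ⟨isOpen_compl_iff.1 (hc ▸ (X.basicOpen (1 - e)).isOpen), (X.basicOpen e).isOpen⟩
  rcases isClopen_iff.1 hclopen with h | h
  · exact Or.inl ((basicOpen_eq_bot_iff _).1 (SetLike.coe_injective h))
  · refine Or.inr (sub_eq_zero.1 ((basicOpen_eq_bot_iff _).1 (SetLike.coe_injective ?_))).symm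
    rw [← hc, h, Set.compl_univ]
    rfl

/-- Let X be a proper scheme over a field k which is reduced and connected, and let κ = Γ(X, O_X). Then
κ is a field, finite over k, and w = [κ : k] divides (1) the degree of every finite locally free
module of constant rank, (2) the degree [κ(x) : k] of every closed point x, and (3) the degree dim_k
H^0(X, O_D) of every closed subscheme D of dimension zero (or empty). (The published statement uses
the degree of E, which it defines only for X of dimension at most one; this row states (1) for the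
integer χ(E) − n·χ(O_X) with no bound on the dimension of X.) -/
theorem result (k : Type u) [Field k] (X : Scheme.{u}) [X.Over (Spec (CommRingCat.of k))] [IsProper (X ↘ (Spec (CommRingCat.of k)))] [IsReduced X] [ConnectedSpace X] :
    letI : Algebra k Γ(X, ⊤) := ((X ↘ (Spec (CommRingCat.of k))).appTop.hom.comp
      (Scheme.ΓSpecIso (CommRingCat.of k)).inv.hom).toAlgebra
    IsField Γ(X, ⊤) ∧ Module.Finite k Γ(X, ⊤) ∧
      (∀ (n : ℕ) (E : X.Modules), FlatMod.IsFinLocFreeOfRank n E →
        (Module.finrank k Γ(X, ⊤) : ℤ) ∣ Curv2.deg k X E n) ∧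
      (∀ x : X, IsClosed ({x} : Set X) →
        Module.finrank k Γ(X, ⊤) ∣ Module.finrank k (X.residueField x)) ∧
      (∀ D : X.IdealSheafData, topologicalKrullDim D.subscheme ≤ 0 →
        Module.finrank k Γ(X, ⊤) ∣ Module.finrank k (Coh.HH X (ClSub.quotMod D) 0)) := by
  letI : Algebra k Γ(X, ⊤) := ((X ↘ (Spec (CommRingCat.of k))).appTop.hom.comp
      (Scheme.ΓSpecIso (CommRingCat.of k)).inv.hom).toAlgebra
  have hfin : Module.Finite k Γ(X, ⊤) := by
    letI := Curves.GlobalSections.secModule k (Coh.structureModule X)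
    haveI := ZarCoh.Exchange.Proper.finite_HH k (Coh.structureModule X) (Snapper.Twist.isCoh_structureModule X) 0
    exact Module.Finite.equiv (Curves.GlobalSections.h0Linear k (Coh.structureModule X))
  haveI := hfin
  haveI : Nonempty (⊤ : X.Opens) := ⟨⟨Classical.arbitrary X, trivial⟩⟩
  haveI : Nontrivial Γ(X, ⊤) := Scheme.component_nontrivial X ⊤
  haveI : IsArtinianRing Γ(X, ⊤) := IsArtinianRing.of_finite k Γ(X, ⊤)
  have hF : IsField Γ(X, ⊤) := by
    refine ⟨⟨0, 1, zero_ne_one⟩, mul_comm, fun {a} ha => ?_⟩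
    obtain ⟨n, b, hb⟩ := IsArtinian.exists_pow_succ_smul_dvd a (1 : Γ(X, ⊤))
    have hb' : a ^ n = a ^ (n + 1) * b := by simpa [smul_eq_mul] using hb.symm
    have hpow : ∀ m, a ^ n = a ^ (n + m) * b ^ m := fun m => by
      induction m with
      | zero => simp
      | succ m ih => calc a ^ n = a ^ n * a ^ m * b ^ m := by rw [← pow_add]; exact ih
          _ = a ^ (n + 1) * b * a ^ m * b ^ m := by rw [← hb']
          _ = a ^ (n + (m + 1)) * b ^ (m + 1) := by ring
    rcases eq_zero_or_eq_one_of_idem X (a ^ n * b ^ n) (by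
      calc a ^ n * b ^ n * (a ^ n * b ^ n) = a ^ (n + n) * b ^ n * b ^ n := by ring
        _ = a ^ n * b ^ n := by rw [← hpow n]) with h | h
    · exact absurd (IsReduced.eq_zero a ⟨n, by
        rw [hpow n, pow_add, mul_assoc, h, mul_zero]⟩) ha
    · rcases n with _ | m
      · exact ⟨b, by simpa using hb'.symm⟩
      · exact ⟨a ^ m * b ^ (m + 1), by rw [← h]; ring⟩
  letI := hF.toField
  have key : ∀ (F : X.Modules) (i : ℕ),
      Module.finrank k Γ(X, ⊤) ∣ Module.finrank k (Coh.HH X F i) := fun F i => by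
    letI : Module Γ(X, ⊤) (Coh.HH X F i) := inferInstanceAs (Module (Coh.Γtop X) (Coh.HH X F i))
    haveI : IsScalarTower k Γ(X, ⊤) (Coh.HH X F i) :=
      ⟨fun a r z => (mul_smul (algebraMap k Γ(X, ⊤) a) r z :)⟩
    exact ⟨Module.finrank Γ(X, ⊤) (Coh.HH X F i), (Module.finrank_mul_finrank k Γ(X, ⊤) _).symm⟩
  have keyEuler : ∀ F : X.Modules, (Module.finrank k Γ(X, ⊤) : ℤ) ∣ Curv2.euler k X F := fun F =>
    finsum_induction (fun z : ℤ => (Module.finrank k Γ(X, ⊤) : ℤ) ∣ z) (dvd_zero _)
      (fun _ _ => dvd_add) fun i => dvd_mul_of_dvd_right (Int.natCast_dvd_natCast.2 (key F i)) _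
  refine ⟨hF, hfin, fun n E _ => dvd_sub (keyEuler _) (dvd_mul_of_dvd_right (keyEuler _) _),
    fun x _ => ?_, fun D _ => key _ 0⟩
  letI : Algebra Γ(X, ⊤) (X.residueField x) :=
    ((X.residue x).hom.comp (X.presheaf.germ ⊤ x trivial).hom).toAlgebra
  haveI : IsScalarTower k Γ(X, ⊤) (X.residueField x) := IsScalarTower.of_algebraMap_eq fun _ => rfl
  exact ⟨Module.finrank Γ(X, ⊤) (X.residueField x), (Module.finrank_mul_finrank k Γ(X, ⊤) _).symm⟩

end Groth.Agent.S7639
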