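import Groth.Statements.S7641
import Groth.Agent.S7642
import Groth.Agent.H97.CurveDicho
import Groth.Agent.H22.YBlow.Basic
import Groth.Agent.Lib.Ample.GenLocus

set_option autoImplicit false
universe u
open CategoryTheory CategoryTheory.Limits AlgebraicGeometry
open Variety
open TopologicalSpace Groth.Agent Groth.Agent.Lib.TensorMod Groth.Agent.Lib.TensorMod.Dual
open Groth.Agent.Lib.TensorMod.Gen Groth.Agent.Lib.Ample.GenLocus

namespace Groth.Agent.S7641

/-- Let X be proper over a field k, reduced and connected, with every irreducible component of dimension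
one, and let L be an invertible module whose restriction to each irreducible component C, with its
reduced induced structure, has degree at most zero. Then H^0(X, L) = 0 or L is isomorphic to O_X. -/
theorem result (k : Type u) [Field k] (X : Scheme.{u}) [X.Over (Spec (CommRingCat.of k))] [IsProper (X ↘ (Spec (CommRingCat.of k)))]
    [IsReduced X] [ConnectedSpace X] [IsNoetherian X]
    (hdim : ∀ (C : Set X), C ∈ irreducibleComponents (X : Type u) → topologicalKrullDim C = 1)
    (L : X.Modules) (hL : PicF.IsInvertible L)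
    (hdeg : ∀ (C : Set X) (hC : C ∈ irreducibleComponents (X : Type u)), @Curv2.deg k _ (X.irreducibleComponentIdeal C hC).radical.subscheme ⟨(X.irreducibleComponentIdeal C hC).radical.subschemeι ≫ (X ↘ (Spec (CommRingCat.of k)))⟩ ((Scheme.Modules.pullback (X.irreducibleComponentIdeal C hC).radical.subschemeι).obj L) 1 ≤ 0) :
    Subsingleton (Coh.HH X L 0) ∨ Nonempty (L ≅ Coh.structureModule X) := by
  classical
  haveI : Finite (irreducibleComponents (X : Type u)) :=
    NoetherianSpace.finite_irreducibleComponents.to_subtype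
  by_cases hsub : Subsingleton (Coh.HH X L 0)
  · exact Or.inl hsub
  right
  have hzero : ∀ (Y : Scheme.{u}) (M : Y.Modules) (y : Y),
      y ∉ CohB1.genLocus M (0 : Coh.structureModule Y ⟶ M) := fun Y M y hy => by
    obtain ⟨U, hyU, hU⟩ := (mem_genLocus_iff _).1 hy
    haveI : Nonempty U := ⟨⟨y, hyU⟩⟩
    exact zero_ne_one ((hU U le_rfl).1
      (show (0 : Γ(Y, U)) • rs M le_rfl (0 : Γ(M, U)) = (1 : Γ(Y, U)) • rs M le_rfl (0 : Γ(M, U)) by
        simp [rs_self]))
  obtain ⟨z, hz⟩ : ∃ z : Coh.HH X L 0, z ≠ 0 := by
    by_contra hc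
    push Not at hc
    exact hsub ⟨fun a b => (hc a).trans (hc b).symm⟩
  obtain ⟨s, hs⟩ := exists_hom_of_sec (L := L) (Lib.Curves.GlobalSections.h0Equiv L z)
  have hne : CohB1.genLocus L s ≠ ⊥ := fun hbot => hz ((Lib.Curves.GlobalSections.h0Equiv L).injective (by
    rw [map_zero, ← hs]
    choose V e hxV he using isInvertible_iff.1 hL
    refine HomGlue.sections_ext_cover V _ (V := ⊤) (fun x _ => Opens.mem_iSup.2 ⟨x, hxV x⟩) fun x => ?_
    obtain ⟨a, ha⟩ := exists_coord (he x) (sv s (V x))
    have h := genLocus_inf_eq (he x) s ha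
    rw [hbot, bot_inf_eq] at h
    have ha0 := (basicOpen_eq_bot_iff a).1 h.symm
    rw [rs_sv, ← rs_sv s (inf_le_right : ⊤ ⊓ V x ≤ V x), ha, ha0, zero_smul]
    exact (map_zero _).trans (map_zero _).symm))
  have hcomp : ∀ (C : Set X), C ∈ irreducibleComponents (X : Type u) →
      (C ∩ (CohB1.genLocus L s : Set X)).Nonempty → C ⊆ (CohB1.genLocus L s : Set X) := by
    intro C hC ⟨w, hwC, hw⟩
    have hd1 := hdeg C hC
    rw [show (X.irreducibleComponentIdeal C hC).radical =
        Scheme.IdealSheafData.vanishingIdeal ⟨C, isClosed_of_mem_irreducibleComponents C hC⟩ by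
      rw [← Scheme.IdealSheafData.vanishingIdeal_support]; rfl] at hd1
    let T : Closeds X := ⟨C, isClosed_of_mem_irreducibleComponents C hC⟩
    let J := Scheme.IdealSheafData.vanishingIdeal T
    letI : J.subscheme.Over (Spec (CommRingCat.of k)) := ⟨J.subschemeι ≫ (X ↘ Spec (CommRingCat.of k))⟩
    haveI : IsProper (J.subscheme ↘ Spec (CommRingCat.of k)) :=
      inferInstanceAs (IsProper (J.subschemeι ≫ (X ↘ Spec (CommRingCat.of k))))
    haveI : IsIntegral J.subscheme := S7642.isIntegral_red _ hC.1
    have hr : Set.range J.subschemeι = C := by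
      rw [Scheme.IdealSheafData.range_subschemeι]; exact rfl
    have hgl := genLocus_pullback J.subschemeι hL s (PicLoc.pullbackStructureIso J.subschemeι).symm
    intro c hc
    obtain ⟨c', rfl⟩ := hr.ge hc
    obtain ⟨w', rfl⟩ := hr.ge hwC
    by_contra hcn
    refine absurd hd1 (not_le.2 (H97.CurveDicho.deg_pos_of_section k ((S7642.dim_red T).trans (hdim C hC)).le
      (PicLoc.isInvertible_pullback _ hL)
      (s := (PicLoc.pullbackStructureIso J.subschemeι).symm.hom ≫ (Scheme.Modules.pullback J.subschemeι).map s)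
      (fun h0 => hzero _ _ w' (h0 ▸ (show w' ∈ CohB1.genLocus _ _ from hgl.ge hw)))
      (z := c') fun hc' => hcn (hgl.le hc')))
  have htop : CohB1.genLocus L s = ⊤ := by
    have hcl : IsClopen (CohB1.genLocus L s : Set X) := by
      refine ⟨?_, (CohB1.genLocus L s).isOpen⟩
      have : (CohB1.genLocus L s : Set X) =
          ⋃ C : {C : irreducibleComponents (X : Type u) // C.1 ⊆ (CohB1.genLocus L s : Set X)}, C.1.1 := by
        refine Set.Subset.antisymm (fun x hx => Set.mem_iUnion.2
          ⟨⟨⟨irreducibleComponent x, irreducibleComponent_mem_irreducibleComponents x⟩,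
            hcomp _ (irreducibleComponent_mem_irreducibleComponents x) ⟨x, mem_irreducibleComponent, hx⟩⟩,
            mem_irreducibleComponent⟩) (Set.iUnion_subset fun C => C.2)
      rw [this]
      exact isClosed_iUnion_of_finite fun C => isClosed_of_mem_irreducibleComponents C.1.1 C.1.2
    rcases isClopen_iff.1 hcl with h | h
    · exact absurd (SetLike.coe_injective (h.trans Opens.coe_bot.symm)) hne
    · exact SetLike.coe_injective (h.trans Opens.coe_top.symm)
  haveI := H22.YBlow.isIso_of_genLocus_eq_top s htop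
  exact ⟨(asIso s).symm⟩

end Groth.Agent.S7641
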