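import Groth.Statements.S7643
import Groth.Agent.H97.CurvePositivity
import Groth.Agent.Lib.CurveBundle.Rank
import Groth.Agent.Lib.CurveBundle.Coherent
-- import your own Groth.Agent.* helpers here

set_option autoImplicit false
universe u
open CategoryTheory CategoryTheory.Limits AlgebraicGeometry
open Variety

namespace Groth.Agent.S7643

open Groth.Agent.Lib

/-- Let X be proper of dimension at most one over a field k and let 0 → E₁ → E₂ → E₃ → 0 be a short
exact sequence of finite locally free modules of constant ranks n₁, n₂, n₃. Then deg(E₂) = deg(E₁) +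
deg(E₃). -/
theorem result (k : Type u) [Field k] (X : Scheme.{u}) [X.Over (Spec (CommRingCat.of k))] [IsProper (X ↘ (Spec (CommRingCat.of k)))]
    (hdim : topologicalKrullDim X ≤ 1) (S : ShortComplex X.Modules) (hS : S.ShortExact)
    (n₁ n₂ n₃ : ℕ) (h₁ : FlatMod.IsFinLocFreeOfRank n₁ S.X₁) (h₂ : FlatMod.IsFinLocFreeOfRank n₂ S.X₂)
    (h₃ : FlatMod.IsFinLocFreeOfRank n₃ S.X₃) :
    Curv2.deg k X S.X₂ n₂ = Curv2.deg k X S.X₁ n₁ + Curv2.deg k X S.X₃ n₃ := by
  haveI := Curves.GlobalSections.noetherianSpace_of_proper k X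
  have hgood : ∀ {n : ℕ} {M : X.Modules}, FlatMod.IsFinLocFreeOfRank n M → Curves.Euler.IsGood k X M := fun h =>
    Curves.Finiteness.isGood_of_isCoh hdim (CurveBundle.Coherent.isCoh (TensorMod.LocFree.of_rank h))
  have hadd := Curves.Euler.euler_add hS (hgood h₁) (hgood h₂) (hgood h₃)
  have hr : Nonempty X → n₂ = n₁ + n₃ := fun ⟨x⟩ => by
    obtain ⟨hf, hfg, hg⟩ := CurveBundle.Rank.stalk_exact hS x
    obtain ⟨b₁⟩ := CurveBundle.Coherent.exists_basis_stalk h₁ x
    obtain ⟨b₂⟩ := CurveBundle.Coherent.exists_basis_stalk h₂ x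
    obtain ⟨b₃⟩ := CurveBundle.Coherent.exists_basis_stalk h₃ x
    haveI := Module.Projective.of_basis b₃
    obtain ⟨l, hl⟩ := Module.projective_lifting_property _ LinearMap.id hg
    let e := (hfg.splitSurjectiveEquiv hf ⟨l, hl⟩).1
    have hc := ((b₁.prod b₃).map e.symm).indexEquiv b₂
    have := Fintype.card_congr hc
    simp only [Fintype.card_fin, Fintype.card_sum] at this
    omega
  unfold Curv2.deg
  by_cases hne : Nonempty X
  · rw [hr hne]; push_cast; linarith
  · rw [not_nonempty_iff] at hne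
    have hz : ∀ M : X.Modules, Limits.IsZero M := fun M =>
      Modules.Stalk.isZero_iff_stalk_subsingleton.2 fun x => (hne.false x).elim
    have e : ∀ M : X.Modules, Curv2.euler k X M = Curv2.euler k X (Coh.structureModule X) := fun M =>
      Curves.Euler.euler_eq_of_iso ((hz M).iso (hz _))
    rw [e S.X₂, e S.X₁, e S.X₃] at hadd
    rw [e S.X₂, e S.X₁, e S.X₃, show Curv2.euler k X (Coh.structureModule X) = 0 by linarith]
    simp

end Groth.Agent.S7643
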