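import Groth.Statements.S7646
import Groth.Agent.S7642
import Groth.Agent.S1529
import Groth.Agent.H97.CurveDicho
import Groth.Agent.H97.AffineMerge

set_option autoImplicit false
universe u
open CategoryTheory CategoryTheory.Limits AlgebraicGeometry
open Variety
open TopologicalSpace Groth.Agent

namespace Groth.Agent.S7646

/-- Let X be separated and of finite type over a field k with dim X ≤ 1, and assume that no irreducible
component of X of dimension one, given its reduced induced structure, is proper over k. Then X is
affine. -/
theorem result (k : Type u) [Field k] (X : Scheme.{u}) [X.Over (Spec (CommRingCat.of k))]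
    [IsSeparated (X ↘ (Spec (CommRingCat.of k)))] [LocallyOfFiniteType (X ↘ (Spec (CommRingCat.of k)))]
    [IsNoetherian X] (hdim : topologicalKrullDim X ≤ 1)
    (h : ∀ (C : Set X) (hC : C ∈ irreducibleComponents (X : Type u)), topologicalKrullDim C = 1 →
      ¬ IsProper ((X.irreducibleComponentIdeal C hC).radical.subschemeι ≫ (X ↘ (Spec (CommRingCat.of k))))) :
    IsAffine X := by
  haveI : Finite (irreducibleComponents (X : Type u)) :=
    NoetherianSpace.finite_irreducibleComponents.to_subtype
  let Cl : irreducibleComponents (X : Type u) → Closeds X := fun C =>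
    ⟨C.1, isClosed_of_mem_irreducibleComponents C.1 C.2⟩
  let J : irreducibleComponents (X : Type u) → X.IdealSheafData := fun C =>
    Scheme.IdealSheafData.vanishingIdeal (Cl C)
  have haff : ∀ C, IsAffine (J C).subscheme := by
    intro C
    letI : (J C).subscheme.Over (Spec (CommRingCat.of k)) :=
      ⟨(J C).subschemeι ≫ (X ↘ Spec (CommRingCat.of k))⟩
    haveI : IsSeparated ((J C).subscheme ↘ Spec (CommRingCat.of k)) :=
      inferInstanceAs (IsSeparated ((J C).subschemeι ≫ (X ↘ Spec (CommRingCat.of k))))
    haveI : LocallyOfFiniteType ((J C).subscheme ↘ Spec (CommRingCat.of k)) :=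
      inferInstanceAs (LocallyOfFiniteType ((J C).subschemeι ≫ (X ↘ Spec (CommRingCat.of k))))
    haveI : CompactSpace X := inferInstance
    haveI : QuasiCompact (X ↘ Spec (CommRingCat.of k)) :=
      (quasiCompact_iff_compactSpace _).2 inferInstance
    haveI : QuasiCompact ((J C).subscheme ↘ Spec (CommRingCat.of k)) :=
      inferInstanceAs (QuasiCompact ((J C).subschemeι ≫ (X ↘ Spec (CommRingCat.of k))))
    haveI : IsIntegral (J C).subscheme := S7642.isIntegral_red _ C.2.1
    have hd := S7642.dim_red (X := X) (Cl C)
    have hle : topologicalKrullDim (J C).subscheme ≤ 1 :=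
      (Topology.IsInducing.topologicalKrullDim_le (J C).subschemeι.isClosedEmbedding.isInducing).trans hdim
    rcases eq_or_lt_of_le hle with h1 | h1
    · refine (H97.CurveDicho.affine_or_projective k (J C).subscheme h1).resolve_right ?_
      rintro ⟨d, c, hc, hck⟩
      refine h C.1 C.2 (hd.symm.trans h1) ?_
      rw [show (X.irreducibleComponentIdeal C.1 C.2).radical = J C by
        rw [← Scheme.IdealSheafData.vanishingIdeal_support]; rfl]
      haveI := Lib.ProjSpace.Basic.isProper_toSpec d k
      show IsProper ((J C).subscheme ↘ Spec (CommRingCat.of k))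
      rw [← hck]
      infer_instance
    · exact (S1529.result k (J C).subscheme (Order.le_of_lt_succ h1)).1
  haveI : IsAffine ((⊤ : X.Opens) : Scheme.{u}) := H97.AffineMerge.isAffineOpen_of_cover
    (fun C => (J C).subscheme) (fun C => (J C).subschemeι) ⊤
    (fun C => haveI := haff C; isAffineOpen_top _) (fun w _ => by
      refine ⟨⟨irreducibleComponent w, irreducibleComponent_mem_irreducibleComponents w⟩, ?_⟩
      rw [Scheme.IdealSheafData.range_subschemeι, Scheme.IdealSheafData.coe_support_vanishingIdeal]
      exact mem_irreducibleComponent)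
  exact IsAffine.of_isIso X.topIso.inv

end Groth.Agent.S7646
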