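import Groth.Statements.S7647
import Groth.Statements.S7647
import Groth.Agent.H97.CurveEuler
import Groth.Agent.Lib.SurfInt.Surface
import Groth.Agent.Lib.Ample.Pow
import Groth.Agent.H97.MvCoeff

set_option autoImplicit false
universe u
open CategoryTheory CategoryTheory.Limits AlgebraicGeometry
open Variety

namespace Groth.Agent.S7647

open Groth.Agent

theorem deg_pow (k : Type u) [Field k] (Z : Scheme.{u}) [Z.Over (Spec (CommRingCat.of k))]
    [IsProper (Z ↘ (Spec (CommRingCat.of k)))] (hdim : topologicalKrullDim Z ≤ 1) (L : Z.Modules)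
    (hL : PicF.IsInvertible L) : ∀ n : ℕ, Curv2.deg k Z (CohB1.tensorPow L n) 1 = n * Curv2.deg k Z L 1
  | 0 => by rw [Nat.cast_zero, zero_mul]; unfold Curv2.deg; simp [CohB1.tensorPow]
  | n + 1 => by
    have h := H97.CurveEuler.deg_tensor (k := k) hdim
      (Lib.TensorMod.LocFree.of_isInvertible (Lib.TensorMod.Invertible.isInvertible_tensorPow hL n))
      (Lib.TensorMod.LocFree.of_isInvertible hL)
    rw [deg_pow k Z hdim L hL n] at h
    refine h.trans ?_
    push_cast
    ring

/-- Let X be proper over a field k, Z ⊆ X a closed subscheme of dimension ≤ 1 and L an invertible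
module. Then the intersection number (L · Z), i.e. the coefficient of n in the polynomial computing
χ(X, O_Z ⊗ L^{⊗n}), equals the degree of L|_Z on Z. -/
theorem result (k : Type u) [Field k] (X : Scheme.{u}) [X.Over (Spec (CommRingCat.of k))] [IsProper (X ↘ (Spec (CommRingCat.of k)))]
    (D : X.IdealSheafData) (hD : topologicalKrullDim (D.support : Set X) ≤ 1)
    (L : X.Modules) (hL : PicF.IsInvertible L) (P : MvPolynomial (Fin 1) ℚ)
    (hP : ∀ n : Fin 1 → ℕ, (Curv2.euler k X (Curv2.tensorPows (ClSub.quotMod D) 1 (fun _ => L) n) : ℚ) = MvPolynomial.eval (fun i => (n i : ℚ)) P) :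
    MvPolynomial.coeff (Finsupp.equivFunOnFinite.symm fun _ : Fin 1 => 1) P =
      (@Curv2.deg k _ D.subscheme ⟨D.subschemeι ≫ (X ↘ (Spec (CommRingCat.of k)))⟩
        ((Scheme.Modules.pullback D.subschemeι).obj L) 1 : ℚ) := by
  letI := Lib.SurfInt.Surface.overSub (k := k) D
  haveI : IsProper (D.subscheme ↘ Spec (CommRingCat.of k)) :=
    inferInstanceAs (IsProper (D.subschemeι ≫ (X ↘ Spec (CommRingCat.of k))))
  have hZ : topologicalKrullDim D.subscheme ≤ 1 := (Lib.SurfInt.Surface.dim_subscheme D).le.trans hD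
  set δ := Curv2.deg k D.subscheme ((Scheme.Modules.pullback D.subschemeι).obj L) 1
  have hP' : ∀ n : Fin 1 → ℕ, (Curv2.euler k X (Curv2.tensorPows (ClSub.quotMod D) 1 (fun _ => L) n)) =
      Curv2.euler k D.subscheme (Coh.structureModule D.subscheme) + (n 0 : ℤ) * δ := fun n => by
    have hLn := Lib.TensorMod.Invertible.isInvertible_tensorPow hL (n 0)
    have e : Curv2.euler k X (Curv2.tensorPows (ClSub.quotMod D) 1 (fun _ => L) n) =
        Curv2.euler k X (CohB1.tensorMod (CohB1.tensorPow L (n 0)) (ClSub.quotMod D)) :=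
      Lib.Curves.Euler.euler_eq_of_iso (Lib.TensorMod.Basic.comm _ _)
    rw [e, Lib.SurfInt.Surface.euler_twist_quot D hLn,
      Lib.Curves.Euler.euler_eq_of_iso (Lib.Ample.Pow.pullbackPow D.subschemeι L (n 0))]
    have h := deg_pow k D.subscheme hZ _ (PicLoc.isInvertible_pullback D.subschemeι hL) (n 0)
    unfold Curv2.deg at h
    unfold δ Curv2.deg
    push_cast at h ⊢
    linarith
  have hPe : P = MvPolynomial.C (Curv2.euler k D.subscheme (Coh.structureModule D.subscheme) : ℚ) +
      MvPolynomial.C (δ : ℚ) * MvPolynomial.X 0 := H97.MvCoeff.eq_of_eval_nat fun m => by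
    rw [← hP m, hP' m]
    simp [mul_comm]
  have he : (Finsupp.equivFunOnFinite.symm fun _ : Fin 1 => 1) = Finsupp.single (0 : Fin 1) 1 := by
    refine Finsupp.ext fun a => ?_
    rw [Subsingleton.elim a 0]
    simp
  rw [hPe, he]
  classical
  rw [MvPolynomial.coeff_add, MvPolynomial.coeff_C_mul, MvPolynomial.coeff_C, MvPolynomial.coeff_X',
    if_pos rfl, mul_one, if_neg (fun h => by simpa using congrArg (fun f => f (0 : Fin 1)) h.symm), zero_add]

end Groth.Agent.S7647
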