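import Groth.Statements.S7648
import Groth.Agent.H97.IntMult
import Groth.Agent.H97.DivDim
import Groth.Agent.Lib.IntTheory.Restrict
import Groth.Agent.Lib.ClSub.Cartier

set_option autoImplicit false
universe u
open CategoryTheory CategoryTheory.Limits AlgebraicGeometry
open Variety

namespace Groth.Agent.S7648

/-- Let X be proper over a field k of dimension e + 1, let D ⊆ X be an effective Cartier divisor and let
L_0, L_1, …, L_e be invertible modules with L_0 ≅ O_X(D), i.e. L_0 ⊗ I_D ≅ O_X. Then (L_0 ⋯ L_e · X)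
= (L_1 ⋯ L_e · D): the coefficient of n_0⋯n_e in the polynomial computing χ(X, ⊗_j L_j^{⊗n_j})
equals the coefficient of n_1⋯n_e in the polynomial computing χ(X, O_D ⊗ L_1^{⊗n_1} ⊗ ⋯ ⊗
L_e^{⊗n_e}). (The published statement has a closed subscheme Z ⊆ X of dimension d with D ⊆ Z and
L_1|_Z ≅ O_Z(D); this row is its case Z = X.) -/
theorem result (k : Type u) [Field k] (X : Scheme.{u}) [X.Over (Spec (CommRingCat.of k))] [IsProper (X ↘ (Spec (CommRingCat.of k)))]
    (e : ℕ) (hX : topologicalKrullDim X = e + 1) (D : X.IdealSheafData) (hD : FGA.IsEffCartier D)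
    (L : Fin (e + 1) → X.Modules) (hL : ∀ j, PicF.IsInvertible (L j))
    (hLD : ClSub.IsInverseOf (L 0) (ClSub.idealMod D))
    (P : MvPolynomial (Fin (e + 1)) ℚ) (Q : MvPolynomial (Fin e) ℚ)
    (hP : ∀ n : Fin (e + 1) → ℕ, (Curv2.euler k X (Curv2.tensorPows (Coh.structureModule X) (e + 1) L n) : ℚ) = MvPolynomial.eval (fun i => (n i : ℚ)) P)
    (hQ : ∀ n : Fin e → ℕ, (Curv2.euler k X (Curv2.tensorPows (ClSub.quotMod D) e (fun j => L j.succ) n) : ℚ) = MvPolynomial.eval (fun i => (n i : ℚ)) Q) :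
    MvPolynomial.coeff (Finsupp.equivFunOnFinite.symm fun _ : Fin (e + 1) => 1) P = MvPolynomial.coeff (Finsupp.equivFunOnFinite.symm fun _ : Fin e => 1) Q := by
  open Groth.Agent.Lib Groth.Agent.Lib.Snapper Groth.Agent.Lib.TensorMod.Basic in
  have := Curves.GlobalSections.isNoetherian_of_proper k X
  have hfin := Finite.cohFinite k X
  have hN : topologicalKrullDim X ≤ (e + 1 : ℕ) := hX.le.trans (by simp)
  have hO := Twist.isCoh_structureModule X
  have hI := ClSub.Cartier.isInvertible_idealMod hD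
  have hIc := Ample.GG.isCoh_of_isInvertible hI
  have hQc := SurfInt.Effective.isCoh_quotMod D
  have hsO : topologicalKrullDim (CohB1.support (Coh.structureModule X)) ≤ (e + 1 : ℕ) :=
    (Topology.IsInducing.subtypeVal.topologicalKrullDim_le).trans hN
  have hsD : topologicalKrullDim (CohB1.support (ClSub.quotMod D)) ≤ e := by
    rw [ClSub.Quot.support_quotMod]
    exact H97.DivDim.dim_le (X ↘ Spec (CommRingCat.of k)) hN hD
  rw [H97.IntMult.coeff_eq_sym hN hO hsO hL hP, H97.IntMult.coeff_eq_sym hN hQc hsD (fun j => hL j.succ) hQ,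
    List.ofFn_succ, Int.cast_inj]
  let l := List.ofFn fun j : Fin e => L j.succ
  have hl : ∀ M ∈ l, PicF.IsInvertible M := fun M hM => by
    obtain ⟨j, rfl⟩ := List.mem_ofFn.1 hM
    exact hL _
  have e2 := (IntTheory.Additive.isAdd_sym hfin hN hl).add (ClSub.Quot.idealSeq_shortExact D) hIc hO hQc
  change Vanish.sym k X (e + 1) l (Coh.structureModule X) =
    Vanish.sym k X (e + 1) l (ClSub.idealMod D) + Vanish.sym k X (e + 1) l (ClSub.quotMod D) at e2
  obtain ⟨i⟩ := hLD
  have e1 : Vanish.sym k X (e + 1) (ClSub.idealMod D :: l) (Coh.structureModule X) =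
      - Vanish.sym k X (e + 1) (L 0 :: l) (Coh.structureModule X) :=
    IntNum.sym_inverse hfin hN (hL 0) hI i l hl hO (lt_of_le_of_lt hsO (by simp only [l, List.length_ofFn]; exact_mod_cast Nat.lt_succ_self (e + 1)))
  rw [Vanish.sym_cons, Vanish.sym_of_iso l (rightUnit (ClSub.idealMod D)), e2] at e1
  have e3 : Vanish.sym k X (e + 1) (L 0 :: l) (Coh.structureModule X) =
      - Vanish.sym k X (e + 1) l (ClSub.quotMod D) := by linarith
  rw [show Vanish.sym k X (e + 1) (L 0 :: List.ofFn fun i : Fin e => L i.succ) (Coh.structureModule X) = _ from e3,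
    pow_succ]
  ring

end Groth.Agent.S7648
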