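import Groth.Statements.S7650
import Groth.Agent.Lib.EulerLead96.Basic
-- import your own Groth.Agent.* helpers here

set_option autoImplicit false
set_option linter.style.haveILetI false
universe u
open CategoryTheory CategoryTheory.Limits AlgebraicGeometry
open Variety

namespace Groth.Agent.S7650

/-- Let X be proper over a field k, F a coherent module with dim Supp(F) = d and L_1, …, L_r invertible
modules. The Euler characteristic of F twisted by L_1^{⊗n_1} ⊗ ⋯ ⊗ L_r^{⊗n_r}, minus the sum over
the d-dimensional irreducible components Z of Supp(F) of the length of F at the generic point of Z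
times the Euler characteristic on Z of the restricted twist, agrees with a rational polynomial in
the exponents each of whose monomials has total degree less than d. Here the sum is written over all
points ξ of X whose closure has dimension d (the term vanishes unless ξ is the generic point of a
d-dimensional component of Supp(F)), and Z_ξ carries its reduced induced structure. (The published
statement lets the exponents range over all integers; this row takes them in ℕ.) -/
theorem result (k : Type u) [Field k] (X : Scheme.{u}) [X.Over (Spec (CommRingCat.of k))] [IsProper (X ↘ (Spec (CommRingCat.of k)))]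
    (F : X.Modules) (hF : Coh.IsCoh F) (d : ℕ) (hd : topologicalKrullDim (CohB1.support F) = d)
    (r : ℕ) (L : Fin r → X.Modules) (hL : ∀ i, PicF.IsInvertible (L i)) :
    ∃ P : MvPolynomial (Fin r) ℚ, (∀ m ∈ P.support, (m.sum fun _ e => e) < d) ∧
      ∀ n : Fin r → ℕ,
        (Curv2.euler k X (Curv2.tensorPows F r L n) : ℚ) -
          ∑ᶠ ξ : X, (if topologicalKrullDim (closure ({ξ} : Set X)) = (d : WithBot ℕ∞) then
            ((Module.length (X.presheaf.stalk ξ) (F.presheaf.stalk ξ)).toNat : ℚ) *
              (@Curv2.euler k _
                (Scheme.IdealSheafData.vanishingIdeal (⟨closure ({ξ} : Set X), isClosed_closure⟩ : TopologicalSpace.Closeds X)).subscheme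
                ⟨(Scheme.IdealSheafData.vanishingIdeal (⟨closure ({ξ} : Set X), isClosed_closure⟩ : TopologicalSpace.Closeds X)).subschemeι ≫ (X ↘ (Spec (CommRingCat.of k)))⟩
                (Curv2.tensorPows
                  (Coh.structureModule (Scheme.IdealSheafData.vanishingIdeal (⟨closure ({ξ} : Set X), isClosed_closure⟩ : TopologicalSpace.Closeds X)).subscheme)
                  r (fun i => (Scheme.Modules.pullback
                    (Scheme.IdealSheafData.vanishingIdeal (⟨closure ({ξ} : Set X), isClosed_closure⟩ : TopologicalSpace.Closeds X)).subschemeι).obj (L i)) n) : ℚ)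
            else 0)
          = MvPolynomial.eval (fun i => (n i : ℚ)) P := by
  classical
  haveI := Lib.Curves.GlobalSections.isNoetherian_of_proper k X
  have hFq := hF.2
  let T : TopologicalSpace.Closeds X := ⟨_, Lib.Modules.Support.isClosed_support F⟩
  obtain ⟨P, hP, hPe⟩ := Lib.EulerLead96.exists_lower k L hL d T hd.le F ⟨hF, subset_rfl⟩
  refine ⟨P, hP, fun n => ?_⟩
  rw [← hPe n]
  congr 1
  have hS : ∀ y : X, y ∈ (Lib.IntTheory.Additive.finite_topPts T.isClosed hd.le).toFinset ↔
      y ∈ CohB1.support F ∧ topologicalKrullDim (closure {y} : Set X) = d := fun y => Set.Finite.mem_toFinset _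
  rw [finsum_eq_sum_of_support_subset _ (s := (Lib.IntTheory.Additive.finite_topPts T.isClosed hd.le).toFinset)]
  · refine Finset.sum_congr rfl fun y hy => ?_
    rw [if_pos ((hS y).1 hy).2]
    congr 2
    letI : (IntMult.ptIdeal y).subscheme.Over (Spec (CommRingCat.of k)) :=
      ⟨(IntMult.ptIdeal y).subschemeι ≫ (X ↘ (Spec (CommRingCat.of k)))⟩
    haveI : IsProper ((IntMult.ptIdeal y).subscheme ↘ (Spec (CommRingCat.of k))) :=
      inferInstanceAs (IsProper ((IntMult.ptIdeal y).subschemeι ≫ (X ↘ (Spec (CommRingCat.of k)))))
    haveI := Lib.Curves.GlobalSections.isNoetherian_of_proper k (IntMult.ptIdeal y).subscheme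
    obtain ⟨e⟩ := Lib.EulerLead96.exists_tensorPows_push (IntMult.ptIdeal y).subschemeι
      (Coh.structureModule _) r L hL n
    haveI := (Lib.EulerLead96.isCoh_tensorPows (Lib.Snapper.Twist.isCoh_structureModule (IntMult.ptIdeal y).subscheme) r
      (fun j => (Scheme.Modules.pullback (IntMult.ptIdeal y).subschemeι).obj (L j))
      (fun j => Lib.TensorMod.LocFree.isInvertible_of_rank_one (Lib.TensorMod.LocFree.rank_pullback _ (Lib.TensorMod.LocFree.of_isInvertible (hL j)))) n).1
    exact ((Lib.Curves.Euler.euler_eq_of_iso e).trans
      (Lib.SurfInt.Push.euler_push (k := k) (IntMult.ptIdeal y).subschemeι rfl _)).symm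
  · intro y hy
    rw [Function.mem_support] at hy
    split_ifs at hy with h
    · refine (hS y).2 ⟨?_, h⟩
      by_contra hns
      have : Subsingleton (F.presheaf.stalk y) := Lib.Modules.Support.not_mem_support_iff.mp hns
      simp [Module.length_eq_zero] at hy
    · exact absurd rfl hy


end Groth.Agent.S7650
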