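import Groth.Statements.S7651
import Mathlib

set_option autoImplicit false
universe u
open CategoryTheory CategoryTheory.Limits AlgebraicGeometry
open Variety

namespace Groth.Agent.S7651

open IsLocalRing

variable {A : Type u} [CommRing A] [IsLocalRing A] [IsNoetherianRing A]

/-- In a one-dimensional local ring a prime is minimal or maximal, and not both. -/
lemma prime_dichotomy (hdim : ringKrullDim A = 1) (p : Ideal A) [p.IsPrime] :
    (p ∈ minimalPrimes A ∨ p = maximalIdeal A) ∧ maximalIdeal A ∉ minimalPrimes A := by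
  haveI : Ring.KrullDimLE 1 A := by
    rw [Ring.krullDimLE_iff, hdim]; exact le_of_eq (by norm_num)
  refine ⟨?_, fun h => ?_⟩
  · rcases Ring.krullDimLE_one_iff.1 ‹_› p ‹_› with hp | hp
    · exact Or.inl hp
    · exact Or.inr (IsLocalRing.eq_maximalIdeal hp)
  · have : Ring.KrullDimLE 0 A := Ring.krullDimLE_zero_iff.2 fun q hq => by
      have hqm : maximalIdeal A = q :=
        le_antisymm (h.2 ⟨hq, bot_le⟩ (IsLocalRing.le_maximalIdeal hq.ne_top))
          (IsLocalRing.le_maximalIdeal hq.ne_top)
      rw [← hqm]; infer_instance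
    have h0 := (Ring.krullDimLE_iff (R := A) (n := 0)).1 this
    rw [hdim] at h0
    norm_num at h0

lemma radical_iff (hdim : ringKrullDim A = 1) {f : A} (hf : f ∈ maximalIdeal A) :
    maximalIdeal A = (Ideal.span {f}).radical ↔ ∀ p ∈ minimalPrimes A, f ∉ p := by
  constructor
  · intro h p hp hfp
    haveI := hp.1.1
    have hle : maximalIdeal A ≤ p := h ▸ (hp.1.1.radical_le_iff.2
      ((Ideal.span_singleton_le_iff_mem p).2 hfp))
    exact (prime_dichotomy hdim p).2
      (le_antisymm (IsLocalRing.le_maximalIdeal hp.1.1.ne_top) hle ▸ hp)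
  · intro h
    rw [Ideal.radical_eq_sInf]
    refine le_antisymm (le_sInf fun J hJ => ?_) (sInf_le ⟨(Ideal.span_singleton_le_iff_mem _).2 hf,
      (IsLocalRing.maximalIdeal.isMaximal A).isPrime⟩)
    haveI := hJ.2
    rcases (prime_dichotomy hdim J).1 with hp | hp
    · exact absurd ((Ideal.span_singleton_le_iff_mem J).1 hJ.1) (h J hp)
    · exact hp.ge

lemma isUnit_away (hdim : ringKrullDim A = 1) {f : A} (hf : f ∈ maximalIdeal A) {t : A}
    (ht : ∀ p ∈ minimalPrimes A, t ∉ p) : IsUnit (algebraMap A (Localization.Away f) t) := by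
  have hft : f ∈ (Ideal.span {t}).radical := by
    by_cases htu : IsUnit t
    · rw [Ideal.span_singleton_eq_top.2 htu, Ideal.radical_top]; trivial
    · exact (radical_iff hdim ((IsLocalRing.mem_maximalIdeal t).2 htu)).2 ht ▸ hf
  obtain ⟨N, hN⟩ := hft
  obtain ⟨r, hr⟩ := Ideal.mem_span_singleton.1 hN
  have hu : IsUnit (algebraMap A (Localization.Away f) (f ^ N)) :=
    IsLocalization.map_units _ (⟨f ^ N, N, rfl⟩ : Submonoid.powers f)
  rw [hr, map_mul] at hu
  exact isUnit_of_mul_isUnit_left hu

lemma isNilpotent_atPrime (p : Ideal A) [p.IsPrime] (hp : p ∈ minimalPrimes A)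
    {x : Localization.AtPrime p} (hx : x ∈ maximalIdeal (Localization.AtPrime p)) : IsNilpotent x := by
  rw [← mem_nilradical, nilradical, Ideal.radical_eq_sInf, Submodule.mem_sInf]
  rintro J ⟨-, hJ⟩
  obtain ⟨hl, hr⟩ := ((IsLocalization.AtPrime.orderIsoOfPrime (Localization.AtPrime p) p) ⟨J, hJ⟩).2
  have heq : Ideal.comap (algebraMap A (Localization.AtPrime p)) J = p :=
    le_antisymm hr (hp.2 ⟨hl, bot_le⟩ hr)
  have : J = maximalIdeal (Localization.AtPrime p) := by
    rw [← IsLocalization.map_comap p.primeCompl _ J]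
    change Ideal.map _ (Ideal.comap (algebraMap A (Localization.AtPrime p)) J) = _
    rw [heq, Localization.AtPrime.map_eq_maximalIdeal]
  exact this ▸ hx

/-- Minimal primes as points of the spectrum. -/
abbrev MinPt (A : Type u) [CommRing A] := {p : PrimeSpectrum A // p.asIdeal ∈ minimalPrimes A}

lemma exists_algEquiv (hdim : ringKrullDim A = 1) {f : A} (hf : f ∈ maximalIdeal A)
    (h : ∀ p ∈ minimalPrimes A, f ∉ p) :
    Nonempty (Localization.Away f ≃ₐ[A] (∀ p : MinPt A, Localization.AtPrime p.1.asIdeal)) := by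
  classical
  haveI : Fintype (MinPt A) := by
    haveI := (minimalPrimes.finite_of_isNoetherianRing A).to_subtype
    refine @Fintype.ofFinite _ (Finite.of_injective (fun p : MinPt A => (⟨p.1.asIdeal, p.2⟩ : minimalPrimes A)) ?_)
    exact
      fun p q hpq => Subtype.ext (PrimeSpectrum.ext (by simpa using hpq))
  have hu : ∀ y : Submonoid.powers f, IsUnit (algebraMap A (∀ p : MinPt A, Localization.AtPrime p.1.asIdeal) y.1) := by
    rintro ⟨_, n, rfl⟩
    rw [Pi.isUnit_iff]
    intro p
    exact IsLocalization.map_units (Localization.AtPrime p.1.asIdeal)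
      (⟨f ^ n, fun hc => h _ p.2 (p.1.2.mem_of_pow_mem n hc)⟩ : p.1.asIdeal.primeCompl)
  let φ : Localization.Away f →ₐ[A] ∀ p : MinPt A, Localization.AtPrime p.1.asIdeal :=
    IsLocalization.liftAlgHom (M := Submonoid.powers f) (f := Algebra.ofId A _) hu
  refine ⟨AlgEquiv.ofBijective φ ⟨?_, ?_⟩⟩
  · rw [injective_iff_map_eq_zero]
    intro x hx
    obtain ⟨⟨a, s⟩, hs⟩ := IsLocalization.surj (Submonoid.powers f) x
    have ha : φ (algebraMap A _ a) = 0 := by rw [← hs, map_mul, hx, zero_mul]
    rw [AlgHom.commutes] at ha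
    have : IsUnit (algebraMap A (Localization.Away f) s.1) := IsLocalization.map_units _ s
    suffices algebraMap A (Localization.Away f) a = 0 by
      rw [this] at hs; exact (IsUnit.mul_left_eq_zero (IsLocalization.map_units _ s)).1 hs
    let Ann : Ideal A := Submodule.annihilator (Ideal.span {a})
    have hAnn : ∀ J : Ideal A, J.IsPrime → Ann ≤ J → J = maximalIdeal A := by
      intro J hJ hle
      refine (prime_dichotomy hdim J).1.resolve_left fun hmin => ?_
      obtain ⟨⟨c, hc⟩, hca⟩ := (IsLocalization.map_eq_zero_iff J.primeCompl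
        (Localization.AtPrime J) a).1 (congrFun ha ⟨⟨J, hJ⟩, hmin⟩)
      exact hc (hle ((Submodule.mem_annihilator_span_singleton a c).2 hca))
    obtain ⟨N, hN⟩ : f ∈ Ann.radical := by
      rw [Ideal.radical_eq_sInf, Submodule.mem_sInf]
      exact fun J hJ => (hAnn J hJ.2 hJ.1) ▸ hf
    exact (IsLocalization.map_eq_zero_iff (Submonoid.powers f) _ a).2
      ⟨⟨f ^ N, N, rfl⟩, (Submodule.mem_annihilator_span_singleton a _).1 hN⟩
  · intro y
    have hsep : ∀ p : MinPt A, ∃ e : A, e ∉ p.1.asIdeal ∧
        ∀ q : MinPt A, q ≠ p → algebraMap A (Localization.AtPrime q.1.asIdeal) e = 0 := by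
      intro p
      have hne : ¬ (Finset.univ.erase p).inf (fun q : MinPt A => q.1.asIdeal) ≤ p.1.asIdeal := fun hle => by
        obtain ⟨q, hq, hqp⟩ := (Ideal.IsPrime.inf_le' p.1.2).1 hle
        exact (Finset.ne_of_mem_erase hq) (Subtype.ext (PrimeSpectrum.ext
          (le_antisymm hqp (p.2.2 ⟨q.1.2, bot_le⟩ hqp))))
      obtain ⟨e, he, hep⟩ := SetLike.not_le_iff_exists.1 hne
      rw [Submodule.mem_finsetInf] at he
      have hnil : ∀ q : MinPt A, q ≠ p → IsNilpotent (algebraMap A (Localization.AtPrime q.1.asIdeal) e) := by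
        intro q hq
        exact isNilpotent_atPrime _ q.2 ((IsLocalization.AtPrime.to_map_mem_maximal_iff _ q.1.asIdeal e).2
          (he q (Finset.mem_erase.2 ⟨hq, Finset.mem_univ _⟩)))
      choose N hN using hnil
      let M := Finset.univ.sup fun q : MinPt A => if hq : q = p then 0 else N q hq
      refine ⟨e ^ (M + 1), fun hc => hep (p.1.2.mem_of_pow_mem _ hc), fun q hq => ?_⟩
      rw [map_pow]
      refine pow_eq_zero_of_le ?_ (hN q hq)
      have := Finset.le_sup (f := fun q : MinPt A => if hq : q = p then 0 else N q hq) (Finset.mem_univ q)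
      simp only [dif_neg hq] at this
      exact Nat.le_succ_of_le this
    choose e he he0 using hsep
    have hex : ∀ p : MinPt A, ∃ a s : A, s ∉ p.1.asIdeal ∧
        y p * algebraMap A _ s = algebraMap A _ a := fun p => by
      obtain ⟨⟨a, s⟩, hs⟩ := IsLocalization.surj p.1.asIdeal.primeCompl (y p)
      exact ⟨a, s.1, s.2, hs⟩
    choose a s hs hy using hex
    let S := ∑ p, e p * s p
    have hev : ∀ (g : MinPt A → A) (q : MinPt A), algebraMap A (Localization.AtPrime q.1.asIdeal) (∑ p, e p * g p) =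
        algebraMap A _ (e q * g q) := fun g q => by
      rw [map_sum]
      exact Finset.sum_eq_single q (fun p _ hp => by rw [map_mul, he0 p q (Ne.symm hp), zero_mul])
        (by simp)
    have hqu : ∀ q : MinPt A, IsUnit (algebraMap A (Localization.AtPrime q.1.asIdeal) (e q * s q)) := fun q =>
      IsLocalization.map_units _ (⟨e q * s q, fun hc => (q.1.2.mem_or_mem hc).elim (he q) (hs q)⟩ : q.1.asIdeal.primeCompl)
    have hS : ∀ p ∈ minimalPrimes A, S ∉ p := fun p hp hc => by
      haveI := hp.1.1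
      have := hqu ⟨⟨p, hp.1.1⟩, hp⟩
      rw [← hev s ⟨⟨p, hp.1.1⟩, hp⟩] at this
      exact (IsLocalization.AtPrime.isUnit_to_map_iff _ p S).1 this hc
    obtain ⟨u, hu'⟩ := isUnit_away hdim hf hS
    refine ⟨algebraMap A _ (∑ p, e p * a p) * ↑u⁻¹, ?_⟩
    have hmul : φ (algebraMap A _ (∑ p, e p * a p) * ↑u⁻¹) * φ (algebraMap A _ S) =
        φ (algebraMap A _ (∑ p, e p * a p)) := by
      rw [← map_mul, ← hu', mul_assoc, Units.inv_mul, mul_one]
    funext q
    have := congrFun hmul q
    rw [Pi.mul_apply, AlgHom.commutes, AlgHom.commutes, Pi.algebraMap_apply, Pi.algebraMap_apply,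
      hev, hev] at this
    refine (hqu q).mul_left_injective ?_
    simp only [map_mul] at this ⊢
    linear_combination this - (algebraMap A (Localization.AtPrime q.1.asIdeal) (e q)) * hy q

lemma not_mem_of_unit (p : Ideal A) [p.IsPrime] {f : A} (B : Type u) [CommRing B] [Algebra A B] [Nontrivial B]
    (hp : f ∈ p → IsNilpotent (algebraMap A B f))
    (g : Localization.Away f →ₐ[A] B) : f ∉ p := fun hfp => by
  have h1 := (IsLocalization.map_units (Localization.Away f) (⟨f, 1, pow_one f⟩ : Submonoid.powers f)).map g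
  rw [AlgHom.commutes] at h1
  obtain ⟨n, hn⟩ := hp hfp
  exact not_isUnit_zero (hn ▸ h1.pow n)

lemma nzd_iff (hdim : ringKrullDim A = 1) (h : LocCoh.depth A A = 1 ∨ IsReduced A)
    (f : A) : (∀ p ∈ minimalPrimes A, f ∉ p) ↔ f ∈ nonZeroDivisors A := by
  classical
  constructor
  · intro hf
    rw [mem_nonZeroDivisors_iff_right]
    intro x hx
    by_contra hx0
    obtain ⟨P, hP, hxP⟩ := Set.mem_iUnion₂.1 ((biUnion_associatedPrimes_eq_zero_divisors A A).symm.subset
      ⟨x, hx0, by rwa [smul_eq_mul, mul_comm]⟩)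
    haveI := hP.isPrime
    rcases (prime_dichotomy hdim P).1 with hmin | hmax
    · exact hf P hmin hxP
    rcases h with hd | hr
    · obtain ⟨r, hrm, hr⟩ : ∃ r ∈ maximalIdeal A, IsSMulRegular A r := by
        rw [LocCoh.depth, LocCoh.idealDepth] at hd
        split_ifs at hd with htop
        · exact absurd hd (by simp)
        by_contra! hc
        have : (⨆ (rs : List A) (_ : RingTheory.Sequence.IsWeaklyRegular A rs ∧ ∀ r ∈ rs, r ∈ maximalIdeal A),
            (rs.length : ℕ∞)) ≤ 0 := by
          refine iSup₂_le ?_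
          intro rs hrs
          cases rs with
          | nil => simp
          | cons r rs =>
            exact absurd ((RingTheory.Sequence.isWeaklyRegular_cons_iff A r rs).1 hrs.1).1
              (hc r (hrs.2 r (List.mem_cons_self ..)))
        rw [hd] at this
        exact absurd this (by simp)
      obtain ⟨z, hz0, hz⟩ := (biUnion_associatedPrimes_eq_zero_divisors A A).subset
        (Set.mem_iUnion₂.2 ⟨P, hP, hmax ▸ hrm⟩)
      exact hz0 (hr (by simpa using hz))
    · refine hx0 ((hr.eq_zero x) ?_)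
      rw [← mem_nilradical, nilradical, ← Ideal.sInf_minimalPrimes, Submodule.mem_sInf]
      intro q hq
      exact (hq.1.1.mem_or_mem (show x * f ∈ q by rw [hx]; exact zero_mem _)).resolve_right (hf q hq)
  · intro hf p hp hfp
    exact Ideal.disjoint_nonZeroDivisors_of_mem_minimalPrimes hp |>.ne_of_mem hfp hf rfl


/-- Let (A, m) be a Noetherian local ring of dimension one and f ∈ m. Then (1) m = √(f), (2) f lies in
no minimal prime of A, and (3) A_f ≅ ∏_{p minimal} A_p as A-algebras, are equivalent; such an f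
exists; if A has depth one, for instance if A is reduced, they are also equivalent to (4) f is a
nonzerodivisor and to (5) A → A_f is the localization of A at all its nonzerodivisors; and if A is
reduced they are also equivalent to (6) A_f ≅ ∏_{p minimal} κ(p) as A-algebras. -/
theorem result (A : Type u) [CommRing A] [IsLocalRing A]
    [IsNoetherianRing A] (hdim : ringKrullDim A = 1) :
    (∃ f ∈ IsLocalRing.maximalIdeal A, ∀ p ∈ minimalPrimes A, f ∉ p) ∧
    ∀ f ∈ IsLocalRing.maximalIdeal A,
      ((IsLocalRing.maximalIdeal A = (Ideal.span {f}).radical) ↔ (∀ p ∈ minimalPrimes A, f ∉ p)) ∧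
      ((∀ p ∈ minimalPrimes A, f ∉ p) ↔
        Nonempty (Localization.Away f ≃ₐ[A] (∀ p : {p : PrimeSpectrum A // p.asIdeal ∈ minimalPrimes A}, Localization.AtPrime p.1.asIdeal))) ∧
      ((LocCoh.depth A A = 1 ∨ IsReduced A) →
        ((∀ p ∈ minimalPrimes A, f ∉ p) ↔ f ∈ nonZeroDivisors A) ∧
        ((∀ p ∈ minimalPrimes A, f ∉ p) ↔ IsLocalization (nonZeroDivisors A) (Localization.Away f))) ∧
      (IsReduced A →
        ((∀ p ∈ minimalPrimes A, f ∉ p) ↔
          Nonempty (Localization.Away f ≃ₐ[A] (∀ p : {p : PrimeSpectrum A // p.asIdeal ∈ minimalPrimes A}, p.1.asIdeal.ResidueField)))) := by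
  classical
  refine ⟨?_, fun f hf => ⟨radical_iff hdim hf, ?_, fun h => ⟨nzd_iff hdim h f, ?_⟩, fun hr => ?_⟩⟩
  · by_contra! hc
    obtain ⟨p, hp, hle⟩ := (Ideal.subset_union_prime_finite (minimalPrimes.finite_of_isNoetherianRing A)
      ⊥ ⊥ (fun p hp _ _ => hp.1.1) (I := maximalIdeal A)).1 (fun x hx => by
        obtain ⟨p, hp, hxp⟩ := hc x hx
        exact Set.mem_iUnion₂.2 ⟨p, hp, hxp⟩)
    haveI := hp.1.1
    exact (prime_dichotomy hdim p).2 (le_antisymm (IsLocalRing.le_maximalIdeal hp.1.1.ne_top) hle ▸ hp)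
  · refine ⟨exists_algEquiv hdim hf, fun ⟨e⟩ p hp => ?_⟩
    haveI := hp.1.1
    let q : MinPt A := ⟨⟨p, hp.1.1⟩, hp⟩
    refine not_mem_of_unit p (Localization.AtPrime q.1.asIdeal) (fun hfp => ?_)
      ((Pi.evalAlgHom A _ q).comp e.toAlgHom)
    exact isNilpotent_atPrime _ hp ((IsLocalization.AtPrime.to_map_mem_maximal_iff _ p f).2 hfp)
  · constructor
    · intro hmin
      have hle : Submonoid.powers f ≤ nonZeroDivisors A :=
        Submonoid.powers_le.2 ((nzd_iff hdim h f).1 hmin)
      exact IsLocalization.of_le (Submonoid.powers f) _ hle fun r hr =>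
        isUnit_away hdim hf ((nzd_iff hdim h r).2 hr)
    · intro hloc
      refine (nzd_iff hdim h f).2 (mem_nonZeroDivisors_iff_right.2 fun x hx => ?_)
      refine IsLocalization.injective (Localization.Away f) (M := nonZeroDivisors A) le_rfl ?_
      rw [map_zero]
      exact (IsLocalization.map_eq_zero_iff (Submonoid.powers f) _ x).2 ⟨⟨f, 1, pow_one f⟩, by rwa [mul_comm]⟩
  · constructor
    · intro hmin
      obtain ⟨e⟩ := exists_algEquiv hdim hf hmin
      refine ⟨e.trans (AlgEquiv.piCongrRight fun q => AlgEquiv.ofBijective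
        (IsScalarTower.toAlgHom A (Localization.AtPrime q.1.asIdeal) q.1.asIdeal.ResidueField) ⟨?_, ?_⟩)⟩
      · haveI : IsReduced (Localization.AtPrime q.1.asIdeal) := inferInstance
        refine (injective_iff_map_eq_zero _).2 fun x hx => ?_
        have hxm : x ∈ maximalIdeal (Localization.AtPrime q.1.asIdeal) := Ideal.Quotient.eq_zero_iff_mem.1 hx
        exact IsReduced.eq_zero x (isNilpotent_atPrime _ q.2 hxm)
      · exact Ideal.Quotient.mk_surjective
    · rintro ⟨e⟩ p hp
      haveI := hp.1.1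
      let q : MinPt A := ⟨⟨p, hp.1.1⟩, hp⟩
      exact not_mem_of_unit p q.1.asIdeal.ResidueField
        (fun hfp => ⟨1, by rw [pow_one]; exact Ideal.algebraMap_residueField_eq_zero.2 hfp⟩)
        ((Pi.evalAlgHom A _ q).comp e.toAlgHom)

end Groth.Agent.S7651
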