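import Groth.Statements.S7653
import Groth.Agent.H97.TotalNorm
import Mathlib.RingTheory.DiscreteValuationRing.TFAE
-- import your own Groth.Agent.* helpers here

set_option autoImplicit false
universe u
open CategoryTheory CategoryTheory.Limits AlgebraicGeometry
open Variety

namespace Groth.Agent.S7653

/-- For a reduced local Nagata ring A of Krull dimension one, the δ-invariant of A is zero exactly when
A is a DVR (in particular a domain). -/
theorem result (A : Type u) [CommRing A] [IsLocalRing A]
    [IsReduced A] (hN : CAlg.IsNagata A) (hdim : ringKrullDim A = 1) :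
    Curv2.deltaInv A = 0 ↔ ∃ _ : IsDomain A, IsDiscreteValuationRing A := by
  haveI := hN.1
  constructor
  · intro h
    have hs : Function.Surjective (algebraMap A (integralClosure A (FractionRing A))) := by
      rw [Curv2.deltaInv, Module.length_eq_zero_iff] at h
      intro x
      exact LinearMap.mem_range.1 ((Submodule.Quotient.mk_eq_zero
        (LinearMap.range (Algebra.linearMap A (integralClosure A (FractionRing A))))).1
        (Subsingleton.elim (Submodule.Quotient.mk x) 0))
    let e : A ≃+* integralClosure A (FractionRing A) := RingEquiv.ofBijective _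
      ⟨fun a b hab => IsFractionRing.injective A (FractionRing A) (congrArg Subtype.val hab), hs⟩
    haveI : IsLocalRing (integralClosure A (FractionRing A)) := e.isLocalRing
    let P := IsLocalRing.maximalIdeal (integralClosure A (FractionRing A))
    have hP := Groth.Agent.H97.TotalNorm.isDomain_intClosed_atPrime P
    let e' : integralClosure A (FractionRing A) ≃+* Localization.AtPrime P :=
      (IsLocalization.atUnits _ P.primeCompl (S := Localization.AtPrime P) fun x hx =>
        IsLocalRing.notMem_maximalIdeal.1 hx).toRingEquiv
    let e'' : Localization.AtPrime P ≃+* A := (e.trans e').symm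
    obtain ⟨h1, h2⟩ := Groth.Agent.Lib.Excellent.Transport.isDomain_intClosed_of_ringEquiv
      (R := Localization.AtPrime P) (S := A) (by exact e'') hP
    refine ⟨h1, ?_⟩
    haveI := h1
    haveI := h2
    have hnf : ¬ IsField A := fun hf => by
      rw [ringKrullDim_eq_zero_of_isField hf] at hdim
      exact zero_ne_one hdim
    haveI : Ring.KrullDimLE 1 A := Ring.krullDimLE_iff.2 hdim.le
    haveI : Ring.DimensionLEOne A :=
      ⟨fun {P} hP0 hPp => Ring.krullDimLE_one_iff_of_noZeroDivisors.1 ‹_› P hP0 hPp⟩
    haveI : IsDedekindDomain A := { }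
    exact ((IsDiscreteValuationRing.TFAE A hnf).out 2 0).1 ‹IsDedekindDomain A›
  · rintro ⟨h1, h2⟩
    rw [Curv2.deltaInv, Module.length_eq_zero_iff]
    refine ⟨fun x y => ?_⟩
    obtain ⟨x, rfl⟩ := Submodule.Quotient.mk_surjective _ x
    obtain ⟨y, rfl⟩ := Submodule.Quotient.mk_surjective _ y
    obtain ⟨a, ha⟩ := IsIntegrallyClosed.isIntegral_iff.1 (show IsIntegral A (x : FractionRing A) from x.2)
    obtain ⟨b, hb⟩ := IsIntegrallyClosed.isIntegral_iff.1 (show IsIntegral A (y : FractionRing A) from y.2)
    rw [Submodule.Quotient.eq]
    exact ⟨a - b, Subtype.ext (by simp [ha, hb])⟩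

end Groth.Agent.S7653
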