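import Groth.Statements.S7654
import Groth.Agent.H25.DeltaFlat
import Groth.Agent.Lib.Henselian.Permanence
import Groth.Agent.Lib.Excellent.CompletionNoetherian

set_option autoImplicit false
set_option linter.style.haveILetI false
universe u
open CategoryTheory CategoryTheory.Limits AlgebraicGeometry
open Variety

namespace Groth.Agent.S7654

open IsLocalRing

theorem isSeparable_of_surjective {K L : Type u} [Field K] [Field L] [Algebra K L]
    (h : Function.Surjective (algebraMap K L)) : Algebra.IsSeparable K L :=
  ⟨fun x => by obtain ⟨a, rfl⟩ := h x; exact isSeparable_algebraMap a⟩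

theorem residue_surjective_cpl (A : Type u) [CommRing A] [IsLocalRing A] [IsNoetherianRing A]
    [IsLocalHom (algebraMap A (Curv2.cpl A))] :
    Function.Surjective (ResidueField.map (algebraMap A (Curv2.cpl A))) := by
  intro x
  obtain ⟨x, rfl⟩ := residue_surjective x
  let ev := (AdicCompletion.evalOneₐ (maximalIdeal A)).toRingHom
  have hev : Function.Surjective ev := AdicCompletion.evalOneₐ_surjective _
  obtain ⟨a, ha⟩ := Ideal.Quotient.mk_surjective (ev x)
  have hker : RingHom.ker ev = maximalIdeal (Curv2.cpl A) := by
    have : (RingHom.ker ev).IsMaximal := by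
      letI := Ideal.Quotient.field (maximalIdeal A)
      exact RingHom.ker_isMaximal_of_surjective _ hev
    exact eq_maximalIdeal this
  refine ⟨residue A a, ?_⟩
  rw [ResidueField.map_residue]
  refine Ideal.Quotient.eq.2 ?_
  rw [← hker, RingHom.mem_ker, map_sub, sub_eq_zero]
  exact ((AdicCompletion.evalOneₐ (maximalIdeal A)).commutes a).trans ha

/-- For a reduced local Nagata ring A of Krull dimension one, the δ-invariant does not change on passing
to a henselization of A, to a strict henselization of A, or to the completion of A. -/
theorem result (A : Type u) [CommRing A] [IsLocalRing A]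
    [IsReduced A] (hN : CAlg.IsNagata A) (hdim : ringKrullDim A = 1) :
    (∀ (B : Type u) [CommRing B] [IsLocalRing B] [Algebra A B] [IsLocalHom (algebraMap A B)],
        Hensel.IsHenselization A B → Curv2.deltaInv B = Curv2.deltaInv A) ∧
      (∀ (B : Type u) [CommRing B] [IsLocalRing B] [Algebra A B] [IsLocalHom (algebraMap A B)],
        Hensel.IsStrictHenselization A B → Curv2.deltaInv B = Curv2.deltaInv A) ∧
      Curv2.deltaInv (Curv2.cpl A) = Curv2.deltaInv A := by
  haveI := hN.1
  haveI := H97.TotalNorm.finite_integralClosure hN
  haveI : Ring.KrullDimLE 1 A := (Ring.krullDimLE_iff).2 hdim.le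
  refine ⟨fun B _ _ _ _ hB => ?_, fun B _ _ _ _ hB => ?_, ?_⟩
  · haveI := hB
    haveI := Lib.Henselian.Permanence.isNoetherianRing A B
    haveI := Lib.Henselian.Henselization.flat A B
    haveI : Algebra.IsSeparable (ResidueField A) (ResidueField B) :=
      isSeparable_of_surjective (Lib.Henselian.Henselization.residue_bijective A B).2
    exact H25.DeltaFlat.deltaInv_eq A B (Lib.Henselian.Henselization.map_maximalIdeal A B)
  · haveI := hB
    haveI := Lib.Henselian.Permanence.strict_isNoetherianRing A B
    haveI := Lib.Henselian.StrictHenselization.flat A B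
    haveI : Algebra.IsSeparable (ResidueField A) (ResidueField B) :=
      hB.isSepClosure.separable
    exact H25.DeltaFlat.deltaInv_eq A B (Lib.Henselian.StrictHenselization.map_maximalIdeal A B)
  · haveI : IsLocalHom (algebraMap A (Curv2.cpl A)) :=
      ((IsLocalRing.local_hom_TFAE _).out 0 2 rfl rfl).2 (AdicCompletion.maximalIdeal_eq_map).ge
    haveI : Algebra.IsSeparable (ResidueField A) (ResidueField (Curv2.cpl A)) :=
      isSeparable_of_surjective (residue_surjective_cpl A)
    exact H25.DeltaFlat.deltaInv_eq A (Curv2.cpl A) AdicCompletion.maximalIdeal_eq_map.symm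

end Groth.Agent.S7654
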