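import Groth.Statements.S7655
import Groth.Agent.H97.Branches
-- import your own Groth.Agent.* helpers here

set_option autoImplicit false
universe u
open CategoryTheory CategoryTheory.Limits AlgebraicGeometry
open Variety

namespace Groth.Agent.S7655

/-- Let (A, m) be a reduced Nagata local ring of dimension one. Then the δ-invariant of A is at least
the number of geometric branches of A minus one. -/
theorem result (A : Type u) [CommRing A] [IsLocalRing A]
    [IsReduced A] (hN : CAlg.IsNagata A) (hdim : ringKrullDim A = 1) :
    Brnch.numGeomBranches A ≤ Curv2.deltaInv A + 1 := by
  exact Groth.Agent.H97.Branches.numGeomBranches_le A hN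

end Groth.Agent.S7655
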