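import Groth.Statements.S7656
import Groth.Agent.H25.Branch.Main
import Groth.Agent.H25.Branch.Congr
import Groth.Agent.H52.FBase.StalkBC
import Mathlib.AlgebraicGeometry.Noetherian

set_option linter.style.haveILetI false
-- import your own Groth.Agent.* helpers here

set_option autoImplicit false
universe u
open CategoryTheory CategoryTheory.Limits AlgebraicGeometry
open Variety

namespace Groth.Agent.S7656

/-- The identity, from the stalk to its algebra copy. -/
noncomputable def stalkId {k : Type u} [Field k] {X : Scheme.{u}}
    (f : X ⟶ Spec (CommRingCat.of k)) (x : X) : H52.FBase.StalkBC.Ox f x ≃+* X.presheaf.stalk x where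
  toFun := id
  invFun := id
  left_inv _ := rfl
  right_inv _ := rfl
  map_mul' _ _ := rfl
  map_add' _ _ := rfl

/-- For X locally of finite type over a field k, a field extension K/k and a point y of X_K over x ∈ X,
the local rings of X at x and of X_K at y have the same number of geometric branches. -/
theorem result (k : Type u) [Field k] (X : Scheme.{u}) [X.Over (Spec (CommRingCat.of k))]
    [LocallyOfFiniteType (X ↘ (Spec (CommRingCat.of k)))] (K : Type u) [Field K] [Algebra k K]
    (y : ↥(Curv2.bc k X K)) :
    Brnch.numGeomBranchesAt X ((Curv2.bcFst k X K).base y) =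
      Brnch.numGeomBranchesAt (Curv2.bc k X K) y := by
  set f := X ↘ Spec (CommRingCat.of k) with hf
  set x := (Curv2.bcFst k X K).base y with hxdef
  haveI : IsLocallyNoetherian X := LocallyOfFiniteType.isLocallyNoetherian f
  haveI : IsLocallyNoetherian (Curv2.bc k X K) :=
    LocallyOfFiniteType.isLocallyNoetherian (Curv2.bcSnd k X K)
  obtain ⟨q, hq⟩ := H52.FBase.StalkBC.exists_j_eq f x K y (specializes_refl _)
  let e : (Curv2.bc k X K).presheaf.stalk y ≃+*
      Localization.AtPrime (PrimeSpectrum.asIdeal (R := TensorProduct k (H52.FBase.StalkBC.Ox f x) K) q) :=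
    ((Curv2.bc k X K).presheaf.stalkCongr (.of_eq hq.symm)).commRingCatIsoToRingEquiv.trans
      (H52.FBase.StalkBC.stalkEquiv f x K q)
  haveI : IsNoetherianRing
      (Localization.AtPrime (PrimeSpectrum.asIdeal (R := TensorProduct k (H52.FBase.StalkBC.Ox f x) K) q)) :=
    isNoetherianRing_of_ringEquiv _ e
  refine Eq.trans ?_ (H25.Branch.Congr.numGeomBranches_congr e).symm
  refine Eq.trans ?_ (H25.Branch.Main.numGeomBranches_eq k K (H52.FBase.StalkBC.Ox f x) _
    ((H52.FBase.StalkBC.j_π_eq_iff f x K q).1 (hq.symm ▸ rfl))
    (minimalPrimes.finite_of_isNoetherianRing _)).symm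
  exact H25.Branch.Congr.numGeomBranches_congr (stalkId f x).symm


end Groth.Agent.S7656
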