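import Groth.Statements.S7658
import Mathlib.AlgebraicGeometry.Morphisms.Separated
import Mathlib.Topology.Sober
-- import your own Groth.Agent.* helpers here

set_option autoImplicit false
universe u
open CategoryTheory CategoryTheory.Limits AlgebraicGeometry
open Variety

namespace Groth.Agent.S7658

private theorem eq_of_specializes_genericPoint {α : Type u} [TopologicalSpace α] [T0Space α]
    {η z : α} (hη : η ∈ genericPoints α) (h : z ⤳ η) : z = η := by
  have h1 : closure ({η} : Set α) ⊆ closure {z} :=
    closure_minimal (Set.singleton_subset_iff.2 h.mem_closure) isClosed_closure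
  have h2 := hη.2 isIrreducible_singleton.closure h1
  exact ((specializes_iff_mem_closure.2 (h2 (subset_closure rfl))).antisymm h).eq.symm ▸ rfl

private theorem map_genericPoints {α β : Type u} [TopologicalSpace α] [TopologicalSpace β]
    [T0Space α] [T0Space β] [QuasiSober β] {g : α → β} (hg : Topology.IsOpenEmbedding g)
    {η : α} (hη : η ∈ genericPoints α) : g η ∈ genericPoints β := by
  obtain ⟨Z, hZ, hsub⟩ := exists_mem_irreducibleComponents_subset_of_isIrreducible
    (closure {g η}) isIrreducible_singleton.closure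
  let z := genericPoints.ofComponent ⟨Z, hZ⟩
  have hz : z.1 ⤳ g η :=
    (genericPoints.isGenericPoint_ofComponent ⟨Z, hZ⟩).specializes (hsub (subset_closure rfl))
  obtain ⟨z', hz'⟩ := hz.mem_open hg.isOpen_range ⟨η, rfl⟩
  have := eq_of_specializes_genericPoint hη (hg.isInducing.specializes_iff.1 (hz'.symm ▸ hz))
  rw [← this, hz']
  exact z.2

private theorem dense_of_genericPoints_subset {α : Type u} [TopologicalSpace α] [QuasiSober α]
    {s : Set α} (h : genericPoints α ⊆ s) : Dense s := by
  intro v
  obtain ⟨Z, hZ, hsub⟩ := exists_mem_irreducibleComponents_subset_of_isIrreducible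
    (closure {v}) isIrreducible_singleton.closure
  let z := genericPoints.ofComponent ⟨Z, hZ⟩
  have hz : z.1 ⤳ v :=
    (genericPoints.isGenericPoint_ofComponent ⟨Z, hZ⟩).specializes (hsub (subset_closure rfl))
  exact closure_mono (Set.singleton_subset_iff.2 (h z.2)) hz.mem_closure


/-- A separated morphism of schemes f : X → Y such that X has an open covering on whose members f
restricts to open immersions, and such that no two distinct generic points of irreducible components
of X have the same image under f, is an open immersion. -/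
theorem result {X Y : Scheme.{u}}
    (f : X ⟶ Y) [IsSeparated f]
    (hloc : ∀ x : X, ∃ U : X.Opens, x ∈ U ∧ IsOpenImmersion (U.ι ≫ f))
    (hinj : ∀ ξ ξ' : X, closure ({ξ} : Set X) ∈ irreducibleComponents (X : Type u) → closure ({ξ'} : Set X) ∈ irreducibleComponents (X : Type u) →
      f.base ξ = f.base ξ' → ξ = ξ') :
    IsOpenImmersion f := by
  have hinjf : Function.Injective f := by
    intro x x' hxx'
    obtain ⟨U, hxU, hU⟩ := hloc x
    obtain ⟨U', hxU', hU'⟩ := hloc x'
    haveI := hU
    haveI := hU'
    let s : pullback (U.ι ≫ f) (U'.ι ≫ f) ⟶ X := pullback.fst _ _ ≫ U.ι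
    let s' : pullback (U.ι ≫ f) (U'.ι ≫ f) ⟶ X := pullback.snd _ _ ≫ U'.ι
    have hss' : s ≫ f = s' ≫ f := by simp [s, s', pullback.condition]
    obtain ⟨p, hp1, hp2⟩ := Scheme.Pullback.exists_preimage_pullback (f := U.ι ≫ f)
      (g := U'.ι ≫ f) ⟨x, hxU⟩ ⟨x', hxU'⟩ (by simpa using hxx')
    have key : Set.range (pullback.diagonal f) ⊇ Set.range (pullback.lift s s' hss') := by
      have hd : Dense (s ⁻¹' (U' : Set X)) := by
        refine dense_of_genericPoints_subset fun η hη => ?_
        have h1 := map_genericPoints (Scheme.Hom.isOpenEmbedding s) hη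
        have h2 := map_genericPoints (Scheme.Hom.isOpenEmbedding s') hη
        have := hinj _ _ h1 h2 (by rw [← Scheme.Hom.comp_apply, hss', Scheme.Hom.comp_apply])
        show s η ∈ (U' : Set X)
        rw [this]
        simp [s']
      rw [← Set.image_univ (f := pullback.lift s s' hss'), ← hd.closure_eq]
      refine (image_closure_subset_closure_image (pullback.lift s s' hss').continuous).trans
        (closure_minimal ?_ (pullback.diagonal f).isClosedEmbedding.isClosed_range)
      rintro _ ⟨v, hv, rfl⟩
      let W : (pullback (U.ι ≫ f) (U'.ι ≫ f)).Opens := s ⁻¹ᵁ U'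
      have hr : Set.range (W.ι ≫ s) ⊆ Set.range U'.ι := by
        rintro _ ⟨w, rfl⟩
        exact ⟨⟨s w.1, w.2⟩, rfl⟩
      have he : W.ι ≫ s = W.ι ≫ s' := by
        have := IsOpenImmersion.lift_fac U'.ι (W.ι ≫ s) hr
        rw [← this, show W.ι ≫ s' = (W.ι ≫ pullback.snd _ _) ≫ U'.ι by simp [s']]
        congr 1
        rw [← cancel_mono (U'.ι ≫ f), ← Category.assoc, this]
        simp [s, pullback.condition]
      refine ⟨s v, ?_⟩
      have hh : (W.ι ≫ s) ≫ pullback.diagonal f = W.ι ≫ pullback.lift s s' hss' := by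
        apply pullback.hom_ext
        · erw [Category.assoc, Category.assoc, pullback.diagonal_fst, Category.comp_id]
          erw [Category.assoc, pullback.lift_fst]
        · erw [Category.assoc, Category.assoc, pullback.diagonal_snd, Category.comp_id]
          erw [Category.assoc, pullback.lift_snd]
          exact he
      have := congrArg (fun m => m ⟨v, hv⟩) (congrArg (fun m : (W : Scheme) ⟶ _ => (m : _ → _)) hh)
      simpa using this
    obtain ⟨w, hw⟩ := key ⟨p, rfl⟩
    have e1 := congrArg (pullback.fst f f) hw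
    have e2 := congrArg (pullback.snd f f) hw
    simp only [← Scheme.Hom.comp_apply, pullback.lift_fst, pullback.lift_snd] at e1 e2
    simp only [s, s', Scheme.Hom.comp_apply, hp1, hp2, pullback.diagonal_fst, pullback.diagonal_snd,
      Scheme.Hom.id_base] at e1 e2
    simpa using e1.symm.trans e2
  have hopen : IsOpenMap f := by
    intro V hV
    refine isOpen_iff_forall_mem_open.2 ?_
    rintro _ ⟨x, hx, rfl⟩
    obtain ⟨U, hxU, hU⟩ := hloc x
    refine ⟨(U.ι ≫ f) '' (U.ι ⁻¹' V), ?_, (Scheme.Hom.isOpenEmbedding (U.ι ≫ f)).isOpenMap _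
      (hV.preimage U.ι.continuous), ⟨⟨x, hxU⟩, hx, by simp⟩⟩
    rintro _ ⟨u, hu, rfl⟩
    exact ⟨U.ι u, hu, by simp⟩
  haveI : ∀ x, IsIso (f.stalkMap x) := fun x => by
    obtain ⟨U, hxU, hU⟩ := hloc x
    have := Scheme.Hom.stalkMap_comp U.ι f ⟨x, hxU⟩
    haveI : IsIso (f.stalkMap (U.ι ⟨x, hxU⟩) ≫ U.ι.stalkMap ⟨x, hxU⟩) := this ▸ (IsOpenImmersion.iff_isIso_stalkMap.1 hU).2 ⟨x, hxU⟩
    exact IsIso.of_isIso_comp_right (f.stalkMap (U.ι ⟨x, hxU⟩)) (U.ι.stalkMap ⟨x, hxU⟩)
  exact IsOpenImmersion.of_isIso_stalkMap f
    (.of_continuous_injective_isOpenMap f.continuous hinjf hopen)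

end Groth.Agent.S7658
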