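import Groth.Statements.S7660
import Groth.Agent.H97.AffineImages
import Groth.Agent.H75.RedKer
import Groth.Agent.Lib.Lim.Thickening
-- import your own Groth.Agent.* helpers here

set_option autoImplicit false
universe u
open CategoryTheory CategoryTheory.Limits AlgebraicGeometry
open Variety

namespace Groth.Agent.S7660

open Groth.Agent.H97.AffineImages

theorem isGen_iff {X : Scheme.{u}} (x : X) : IsGen x ↔ ∀ y : X, y ⤳ x → y = x :=
  ⟨fun h _ hy => h.eq_of_specializes hy, fun h =>
    let ⟨ξ, hξ, hξx⟩ := exists_gen_specializes x; h ξ hξx ▸ hξ⟩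

theorem isGen_iff_of_homeo {X Y : Scheme.{u}} (i : X ⟶ Y) (hi : Topology.IsEmbedding i)
    (hs : Function.Surjective i) (x : X) : IsGen x ↔ IsGen (i x) := by
  rw [isGen_iff, isGen_iff]
  refine ⟨fun h y hy => ?_, fun h y hy => hi.injective (h _ (hy.map i.continuous))⟩
  obtain ⟨y, rfl⟩ := hs y
  rw [h y (hi.isInducing.specializes_iff.1 hy)]

theorem finite_components {X Y : Scheme.{u}} (i : X ⟶ Y) (hi : Topology.IsEmbedding i)
    (hs : Function.Surjective i) (hY : (irreducibleComponents (Y : Type u)).Finite) :
    (irreducibleComponents (X : Type u)).Finite := by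
  have h1 : {y : Y | IsGen y}.Finite := Set.Finite.of_finite_image
    (hY.subset (Set.image_subset_iff.2 fun y hy => hy) : ((fun y => closure {y}) '' {y : Y | IsGen y}).Finite)
    (fun a _ b _ h => ((specializes_iff_closure_subset.2 h.ge).antisymm
      (specializes_iff_closure_subset.2 h.le)).eq)
  refine ((h1.preimage hi.injective.injOn).image fun x => closure {x}).subset fun C hC => ?_
  have hg := genericPoints.isGenericPoint_ofComponent ⟨C, hC⟩
  refine ⟨_, (isGen_iff_of_homeo i hi hs _).1 ?_, hg.def⟩
  show closure _ ∈ _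
  rw [hg.def]; exact hC

theorem isNilpotent_of_stalkMap_eq_zero {X Y : Scheme.{u}} (i : X ⟶ Y) (hi : Topology.IsEmbedding i)
    (hs : Function.Surjective i) (x : X) (z : Y.presheaf.stalk (i x)) (hz : i.stalkMap x z = 0) :
    IsNilpotent z := by
  rw [nilpotent_iff_mem_prime]
  intro P hP
  let P' : Spec (Y.presheaf.stalk (i x)) := ⟨P, hP⟩
  obtain ⟨s', hs'⟩ := hs (Y.fromSpecStalk (i x) P')
  have h1 : i s' ⤳ i x := by
    have h : Y.fromSpecStalk (i x) P' ∈ Set.range (Y.fromSpecStalk (i x)) := ⟨P', rfl⟩
    rw [Scheme.range_fromSpecStalk] at h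
    rw [hs']
    exact h
  obtain ⟨Q, hQ⟩ : s' ∈ Set.range (X.fromSpecStalk x) := by
    rw [Scheme.range_fromSpecStalk]; exact hi.isInducing.specializes_iff.1 h1
  have h2 : Y.fromSpecStalk (i x) (Spec.map (i.stalkMap x) Q) = Y.fromSpecStalk (i x) P' := by
    rw [← hs', ← hQ, ← Scheme.Hom.comp_apply, ← Scheme.Hom.comp_apply,
      Scheme.SpecMap_stalkMap_fromSpecStalk]
  have h3 : Spec.map (i.stalkMap x) Q = P' := (Y.fromSpecStalk (i x)).isEmbedding.injective h2
  show z ∈ P'.asIdeal
  rw [← h3]
  show i.stalkMap x z ∈ Q.asIdeal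
  rw [hz]
  exact Q.asIdeal.zero_mem

theorem isReduced_red (X : Scheme.{u}) : IsReduced X.nilradical.subscheme := by
  have : ∀ z : X.nilradical.subscheme,
      _root_.IsReduced (X.nilradical.subscheme.presheaf.stalk z) := by
    intro z
    obtain ⟨i, y, rfl⟩ := X.nilradical.subschemeCover.openCover.exists_eq z
    have : _root_.IsReduced (Γ(X, (i : X.affineOpens).1) ⧸ X.nilradical.ideal i) :=
      (Ideal.isRadical_iff_quotient_reduced _).mp
        (show (X.nilradical.ideal i).IsRadical from
          by simpa [Scheme.nilradical] using Ideal.radical_isRadical _)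
    have : IsReduced (X.nilradical.subschemeCover.openCover.X i) :=
      inferInstanceAs (IsReduced (Spec (.of (Γ(X, (i : X.affineOpens).1) ⧸ X.nilradical.ideal i))))
    exact isReduced_of_injective _ (asIso ((X.nilradical.subschemeCover.openCover.f i).stalkMap y)
      ).commRingCatIsoToRingEquiv.injective
  exact isReduced_of_isReduced_stalk _

theorem surjective_red (X : Scheme.{u}) : Function.Surjective X.nilradical.subschemeι := by
  rw [← Set.range_eq_univ, Scheme.IdealSheafData.range_subschemeι, Scheme.support_nilradical]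
  rfl

/-- For a morphism of schemes f : T → X with T affine and X quasi-separated with finitely many
irreducible components, assume f sends the generic point of each irreducible component of T to the
generic point of an irreducible component of X, and distinct such points to distinct points, and let
t_1, …, t_m ∈ T be points at which O_{X, f(t_j)} → O_{T, t_j} is an isomorphism. Then there is an
affine open of X containing f(t_1), …, f(t_m). -/
theorem result {T X : Scheme.{u}} (f : T ⟶ X)
    [IsAffine T] [QuasiSeparatedSpace X] (hX : (irreducibleComponents (X : Type u)).Finite)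
    (hgen : ∀ η : T, closure ({η} : Set T) ∈ irreducibleComponents (T : Type u) → closure ({(f.base η)} : Set X) ∈ irreducibleComponents (X : Type u))
    (hinj : ∀ η η' : T, closure ({η} : Set T) ∈ irreducibleComponents (T : Type u) → closure ({η'} : Set T) ∈ irreducibleComponents (T : Type u) → f.base η = f.base η' → η = η')
    (s : Finset T) (hs : ∀ t ∈ s, IsIso (f.stalkMap t)) :
    ∃ U : X.Opens, IsAffineOpen U ∧ ∀ t ∈ s, f.base t ∈ U := by
  classical
  have := isReduced_red T
  have := isReduced_red X
  let iT := T.nilradical.subschemeι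
  let iX := X.nilradical.subschemeι
  have sT : Function.Surjective iT := surjective_red T
  have sX : Function.Surjective iX := surjective_red X
  obtain ⟨g, hg⟩ := Groth.Agent.H75.RedKer.exists_lift (iT ≫ f) iX
    (fun y _ => sX y)
  have eT : Topology.IsEmbedding iT := iT.isClosedEmbedding.isEmbedding
  have eX : Topology.IsEmbedding iX := iX.isClosedEmbedding.isEmbedding
  have hcomm : ∀ x, iX (g x) = f (iT x) := fun x => by
    rw [← Scheme.Hom.comp_apply, hg, Scheme.Hom.comp_apply]
  have : IsAffine T.nilradical.subscheme := isAffine_of_isAffineHom iT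
  have : QuasiSeparatedSpace X.nilradical.subscheme := quasiSeparatedSpace_of_quasiSeparated iX
  have hiso : ∀ x, iT x ∈ s → IsIso (g.stalkMap x) := by
    intro x hx
    have := hs _ hx
    have hfac : ∀ y, (g ≫ iX).stalkMap x y = g.stalkMap x (iX.stalkMap (g x) y) := fun y => by
      rw [Scheme.Hom.stalkMap_comp]; rfl
    have hfac' : ∀ y, (iT ≫ f).stalkMap x y = iT.stalkMap x (f.stalkMap (iT x) y) := fun y => by
      rw [Scheme.Hom.stalkMap_comp]; rfl
    have hbij : Function.Bijective (f.stalkMap (iT x)) := ConcreteCategory.bijective_of_isIso _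
    have hsurj : Function.Surjective ((g ≫ iX).stalkMap x) ∧
        ∀ y, (g ≫ iX).stalkMap x y = 0 → IsNilpotent y := by
      rw [hg]
      refine ⟨fun z => ?_, fun y hy => ?_⟩
      · obtain ⟨w, rfl⟩ := iT.stalkMap_surjective x z
        obtain ⟨y, rfl⟩ := hbij.2 w
        exact ⟨y, hfac' y⟩
      · rw [hfac'] at hy
        obtain ⟨n, hn⟩ := isNilpotent_of_stalkMap_eq_zero iT eT sT x _ hy
        exact ⟨n, hbij.1 ((map_pow _ y n).trans (hn.trans (map_zero _).symm))⟩
    refine (ConcreteCategory.isIso_iff_bijective _).2 ⟨?_, fun z => ?_⟩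
    · rw [injective_iff_map_eq_zero]
      intro z hz
      obtain ⟨y, rfl⟩ := iX.stalkMap_surjective (g x) z
      exact ((hsurj.2 y (by rw [hfac, hz])).map (iX.stalkMap (g x)).hom).eq_zero
    · obtain ⟨y, hy⟩ := hsurj.1 z
      exact ⟨_, (hfac y).symm.trans hy⟩
  choose pre hpre using sT
  obtain ⟨U, hU, hmem⟩ := exists_affineOpen g
    (fun η hη => (isGen_iff_of_homeo iX eX sX _).2 (by
      rw [hcomm]
      exact hgen _ ((isGen_iff_of_homeo iT eT (surjective_red T) _).1 hη)))
    (fun η η' hη hη' he => eT.injective (hinj _ _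
      ((isGen_iff_of_homeo iT eT (surjective_red T) _).1 hη)
      ((isGen_iff_of_homeo iT eT (surjective_red T) _).1 hη')
      (by show f (iT η) = f (iT η'); rw [← hcomm, ← hcomm, he])))
    (finite_components iX eX sX hX)
    (s.image fun t => g (pre t)) (fun x hx => by
      obtain ⟨t, ht, rfl⟩ := Finset.mem_image.1 hx
      exact ⟨pre t, rfl, hiso _ (by rw [hpre]; exact ht)⟩)
  obtain ⟨V, hV, hVU⟩ := eX.isInducing.isOpen_iff.1 U.2
  let U' : X.Opens := ⟨V, hV⟩
  have hpreU : iX ⁻¹ᵁ U' = U := TopologicalSpace.Opens.ext hVU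
  refine ⟨U', ?_, fun t ht => ?_⟩
  · have : IsAffine (iX ⁻¹ᵁ U').toScheme := hpreU ▸ hU
    have : Surjective iX := ⟨sX⟩
    have : IsClosedImmersion (iX ∣_ U') := IsZariskiLocalAtTarget.restrict (P := @IsClosedImmersion) inferInstance U'
    have : Surjective (iX ∣_ U') := IsZariskiLocalAtTarget.restrict (P := @Surjective) inferInstance U'
    exact Groth.Agent.Lib.Lim.Thickening.isAffine_of_surjective (iX ∣_ U')
  · have h := hmem _ (Finset.mem_image.2 ⟨t, ht, rfl⟩)
    rw [← hpreU] at h
    have h' : iX (g (pre t)) ∈ U' := h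
    rwa [hcomm, hpre] at h'

end Groth.Agent.S7660
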