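import Groth.Statements.S7661
import Mathlib.RingTheory.Ideal.Operations
-- import your own Groth.Agent.* helpers here

set_option autoImplicit false
universe u
open CategoryTheory CategoryTheory.Limits AlgebraicGeometry
open Variety

namespace Groth.Agent.S7661

/-- Let A be a ring, I an ideal, p_1, …, p_r prime ideals with I ⊄ p_i for all i, and let f̄ ∈ A/I. Then
f̄ lifts to an element f ∈ A with f ∉ p_i for all i. -/
theorem result (A : Type u) [CommRing A] (I : Ideal A)
    (s : Finset (Ideal A)) (hs : ∀ p ∈ s, p.IsPrime) (hI : ∀ p ∈ s, ¬ I ≤ p) (fbar : A ⧸ I) :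
    ∃ f : A, Ideal.Quotient.mk I f = fbar ∧ ∀ p ∈ s, f ∉ p := by
  classical
  obtain ⟨f₀, rfl⟩ := Ideal.Quotient.mk_surjective fbar
  suffices key : ∀ (n : ℕ) (s : Finset (Ideal A)), s.card = n → (∀ p ∈ s, p.IsPrime) →
      (∀ p ∈ s, ¬ I ≤ p) → ∃ g ∈ I, ∀ p ∈ s, f₀ + g ∉ p by
    obtain ⟨g, hg, hgs⟩ := key _ s rfl hs hI
    exact ⟨f₀ + g, by rw [map_add, Ideal.Quotient.eq_zero_iff_mem.2 hg, add_zero], hgs⟩
  intro n
  induction n with
  | zero =>
    intro s hs0 _ _
    exact ⟨0, I.zero_mem, by simp [Finset.card_eq_zero.1 hs0]⟩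
  | succ n ih =>
    intro s hcard hs hI
    obtain ⟨p, hp⟩ := s.exists_minimal (Finset.card_pos.1 (by omega))
    obtain ⟨g, hgI, hg⟩ := ih (s.erase p) (by rw [Finset.card_erase_of_mem hp.1, hcard]; rfl)
      (fun q hq => hs q (Finset.mem_of_mem_erase hq)) (fun q hq => hI q (Finset.mem_of_mem_erase hq))
    by_cases hfp : f₀ + g ∈ p
    · haveI := hs p hp.1
      have hne : ¬ I * ∏ q ∈ s.erase p, q ≤ p := by
        intro h
        rcases (Ideal.IsPrime.mul_le ‹_›).1 h with h | h
        · exact hI p hp.1 h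
        · obtain ⟨q, hq, hqp⟩ := (Ideal.IsPrime.prod_le ‹_›).1 h
          exact Finset.ne_of_mem_erase hq
            (le_antisymm hqp (hp.2 (Finset.mem_of_mem_erase hq) hqp))
      obtain ⟨h, hh, hhp⟩ := SetLike.not_le_iff_exists.1 hne
      refine ⟨g + h, I.add_mem hgI (Ideal.mul_le_left hh), fun q hq hmem => ?_⟩
      by_cases hqp : q = p
      · subst hqp
        exact hhp (by simpa [← add_assoc] using q.sub_mem hmem hfp)
      · have hq' := Finset.mem_erase.2 ⟨hqp, hq⟩
        have : h ∈ q := Ideal.prod_le_inf.trans (Finset.inf_le hq') (Ideal.mul_le_right hh)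
        exact hg q hq' (by simpa [← add_assoc] using q.sub_mem hmem this)
    · refine ⟨g, hgI, fun q hq => ?_⟩
      by_cases hqp : q = p
      · exact hqp ▸ hfp
      · exact hg q (Finset.mem_erase.2 ⟨hqp, hq⟩)

end Groth.Agent.S7661
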