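import Groth.Statements.S7662
import Groth.Agent.H97.AffineMerge
-- import your own Groth.Agent.* helpers here

set_option autoImplicit false
universe u
open CategoryTheory CategoryTheory.Limits AlgebraicGeometry
open Variety

namespace Groth.Agent.S7662

/-- Let X be a scheme with finitely many irreducible components Z_1, …, Z_t and T ⊆ X a finite set of
points such that, for each i, some affine open of Z_i with its reduced closed subscheme structure
contains the points of T on Z_i. Then some affine open of X contains every point of T. -/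
theorem result (X : Scheme.{u})
    (hX : (irreducibleComponents (X : Type u)).Finite) (T : Finset X)
    (h : ∀ (Z : Set X) (hZ : Z ∈ irreducibleComponents (X : Type u)),
      ∃ V : (Scheme.IdealSheafData.vanishingIdeal
          (⟨Z, isClosed_of_mem_irreducibleComponents Z hZ⟩ : TopologicalSpace.Closeds X)).subscheme.Opens,
        IsAffineOpen V ∧ ∀ t ∈ T, t ∈ Z → t ∈ (Scheme.IdealSheafData.vanishingIdeal
          (⟨Z, isClosed_of_mem_irreducibleComponents Z hZ⟩ : TopologicalSpace.Closeds X)).subschemeι.base '' (V : Set _)) :
    ∃ U : X.Opens, IsAffineOpen U ∧ ∀ t ∈ T, t ∈ U := by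
  classical
  have := hX.to_subtype
  refine Groth.Agent.H97.AffineMerge.exists_affine
    (fun Z : irreducibleComponents (X : Type u) =>
      (⟨Z.1, isClosed_of_mem_irreducibleComponents Z.1 Z.2⟩ : TopologicalSpace.Closeds X))
    (fun x => ?_) T fun Z => ?_
  · obtain ⟨C, hC, hsub⟩ := exists_mem_irreducibleComponents_subset_of_isIrreducible
      (closure {x}) isIrreducible_singleton.closure
    exact ⟨⟨C, hC⟩, hsub (subset_closure rfl)⟩
  · obtain ⟨V, hV, hTV⟩ := h Z.1 Z.2
    obtain ⟨U, hU⟩ := Groth.Agent.H97.AffineMerge.exists_open_preimage _ V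
    refine ⟨U, hU.symm ▸ hV, fun t ht htZ => ?_⟩
    obtain ⟨y, hy, rfl⟩ := hTV t ht htZ
    exact (Groth.Agent.H97.AffineMerge.mem_preimage_iff _ U y).1 (hU.symm ▸ hy)

end Groth.Agent.S7662
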