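import Groth.Statements.S7663
import Groth.Agent.Lib.SemiLocalDimOne.KrullAkizuki
import Mathlib.RingTheory.Valuation.LocalSubring
-- import your own Groth.Agent.* helpers here

set_option autoImplicit false
universe u
open CategoryTheory CategoryTheory.Limits AlgebraicGeometry
open Variety

namespace Groth.Agent.S7663

/-- Let K be a field and A, B ⊆ K subrings with fraction field K, with A Noetherian of dimension one.
Then A ⊗ B → K is not surjective (equivalently, the subring generated by A and B is not K) if and
only if some discrete valuation ring O ⊆ K with fraction field K contains both A and B. -/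
theorem result (K : Type u) [Field K]
    (A : Subring K) [IsFractionRing A K] (B : Subring K) [IsFractionRing B K] [IsNoetherianRing A] (hdim : ringKrullDim A = 1) :
    A ⊔ B ≠ ⊤ ↔ ∃ O : ValuationSubring K, IsDiscreteValuationRing O ∧ A ≤ O.toSubring ∧ B ≤ O.toSubring := by
  constructor
  · intro h
    haveI : Ring.KrullDimLE 1 A := Ring.krullDimLE_iff.2 hdim.le
    let C : Subalgebra A K :=
      { (A ⊔ B) with algebraMap_mem' := fun a => (le_sup_left : A ≤ A ⊔ B) a.2 }
    haveI : IsFractionRing C K := IsFractionRing.of_field C K fun z => by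
      obtain ⟨a, b, hb, rfl⟩ := IsFractionRing.div_surjective A z
      exact ⟨⟨a, C.algebraMap_mem a⟩, ⟨b, C.algebraMap_mem b⟩, rfl⟩
    have hC : ¬ IsField C := fun hf => h <| by
      refine eq_top_iff.2 fun z _ => ?_
      obtain ⟨a, b, hb, rfl⟩ := IsFractionRing.div_surjective C z
      obtain ⟨c, hc⟩ := hf.mul_inv_cancel (nonZeroDivisors.ne_zero hb)
      have : (a : K) / (b : K) = ((a * c : C) : K) := by
        have hb' : (b : K) * c = 1 := congrArg Subtype.val hc
        rw [div_eq_iff (left_ne_zero_of_mul_eq_one hb'), MulMemClass.coe_mul, mul_assoc,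
          mul_comm (c : K), hb', mul_one]
      exact this ▸ (a * c : C).2
    obtain ⟨c, hc0, hcu⟩ := Ring.not_isField_iff_exists_ideal_bot_lt_and_lt_top.1 hC
    obtain ⟨x, hx, hx0⟩ := (Submodule.ne_bot_iff _).1 hc0.ne'
    obtain ⟨O, hO, hOn⟩ := Ideal.image_subset_nonunits_valuationSubring (A := A ⊔ B) c hcu.ne
    have hAO : A ≤ O.toSubring := le_sup_left.trans hO
    let O' : Subalgebra A K :=
      { O.toSubring with algebraMap_mem' := fun a => hAO a.2 }
    haveI hON : IsNoetherianRing O :=
      Groth.Agent.Lib.SemiLocalDimOne.KrullAkizuki.isNoetherianRing_subalgebra O'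
    refine ⟨O, ?_, hAO, le_sup_right.trans hO⟩
    haveI : IsPrincipalIdealRing O := IsBezout.TFAE.out 0 1 |>.1 hON
    exact
      { not_a_field' := fun hbot => hx0 <| by
          have hxn := hOn (Set.mem_image_of_mem _ hx)
          rw [← ValuationSubring.image_maximalIdeal] at hxn
          obtain ⟨y, hy, hyx⟩ := hxn
          rw [SetLike.mem_coe, hbot] at hy
          rw [(Submodule.mem_bot O).1 hy] at hyx
          exact Subtype.ext hyx.symm }
  · rintro ⟨O, hO, hA, hB⟩ h
    have htop : O.toSubring = ⊤ := top_le_iff.1 (h ▸ sup_le hA hB)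
    apply hO.not_a_field
    rw [← IsLocalRing.isField_iff_maximalIdeal_eq]
    refine ⟨⟨0, 1, zero_ne_one⟩, mul_comm, fun {a} ha => ?_⟩
    exact ⟨⟨(a : K)⁻¹, htop.ge trivial⟩, Subtype.ext (mul_inv_cancel₀ fun e => ha (Subtype.ext e))⟩

end Groth.Agent.S7663
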