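import Groth.Statements.S7687
import Groth.Agent.Lib.SemiLocalDimOne.GlueMain
-- import your own Groth.Agent.* helpers here

set_option autoImplicit false
universe u
open CategoryTheory CategoryTheory.Limits AlgebraicGeometry
open Variety

namespace Groth.Agent.S7687

/-- Let K be a field and A, B ⊆ K Noetherian semi-local domains of dimension one with fraction field K
such that A ⊗ B → K is surjective, and R = A ∩ B. Then Spec A and Spec B each map to Spec R by an
open immersion, Spec R is the union of the two images, and the natural map A ⊗_R B → K is an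
isomorphism. -/
theorem result (K : Type u) [Field K]
    (A : Subring K) [IsFractionRing A K] (B : Subring K) [IsFractionRing B K] [IsNoetherianRing A] [IsNoetherianRing B]
    (hdimA : ringKrullDim A = 1) (hdimB : ringKrullDim B = 1)
    (hslA : Finite (MaximalSpectrum A)) (hslB : Finite (MaximalSpectrum B)) (hgen : A ⊔ B = ⊤) :
    IsOpenImmersion (Spec.map (CommRingCat.ofHom (Subring.inclusion (inf_le_left : A ⊓ B ≤ A)))) ∧
      IsOpenImmersion (Spec.map (CommRingCat.ofHom (Subring.inclusion (inf_le_right : A ⊓ B ≤ B)))) ∧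
      Set.range (Spec.map (CommRingCat.ofHom (Subring.inclusion (inf_le_left : A ⊓ B ≤ A)))).base ∪
        Set.range (Spec.map (CommRingCat.ofHom (Subring.inclusion (inf_le_right : A ⊓ B ≤ B)))).base = Set.univ ∧
      IsPushout (CommRingCat.ofHom (Subring.inclusion (inf_le_left : A ⊓ B ≤ A)))
        (CommRingCat.ofHom (Subring.inclusion (inf_le_right : A ⊓ B ≤ B)))
        (CommRingCat.ofHom A.subtype) (CommRingCat.ofHom B.subtype) := by
  obtain ⟨D⟩ := Groth.Agent.Lib.SemiLocalDimOne.GlueMain.exists_data
    (fun b : Bool => cond b A B) (A ⊓ B)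
    (Bool.forall_bool.2 ⟨⟨‹IsNoetherianRing B›, ‹IsFractionRing B K›, hdimB, hslB⟩,
      ⟨‹IsNoetherianRing A›, ‹IsFractionRing A K›, hdimA, hslA⟩⟩)
    (fun x => by simp [Bool.forall_bool, Subring.mem_inf, and_comm])
    (fun i j hij => by cases i <;> cases j <;> simp_all [sup_comm])
  refine ⟨D.isOpenImmersion true, D.isOpenImmersion false, ?_,
    D.isPushout (i := true) (j := false) (by decide)⟩
  refine Set.eq_univ_of_forall fun p => ?_
  have := Set.eq_univ_iff_forall.1 (D.iUnion_range (h := D.le)) p
  obtain ⟨i, hi⟩ := Set.mem_iUnion.1 this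
  cases i
  · exact Or.inr hi
  · exact Or.inl hi

end Groth.Agent.S7687
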