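import Groth.Statements.S7664
import Groth.Agent.Lib.SemiLocalDimOne.GlueMain
import Groth.Agent.S7687
-- import your own Groth.Agent.* helpers here

set_option autoImplicit false
universe u
open CategoryTheory CategoryTheory.Limits AlgebraicGeometry
open Variety

namespace Groth.Agent.S7664

/-- Let K be a field, A ⊆ K a Noetherian semi-local domain of dimension one and B ⊆ K a discrete
valuation ring, both with fraction field K, and R = A ∩ B. (a) If some unit of A does not lie in R,
then Spec A and Spec B each map to Spec R by an open immersion, Spec R is the union of the two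
images, and the natural map A ⊗_R B → K is an isomorphism. (b) If every unit of A lies in R, then B
dominates the local ring of A at one of its maximal ideals (A ⊆ B and the maximal ideal of B
contracts to a maximal ideal of A) and A ⊗ B → K is not surjective. -/
theorem result (K : Type u) [Field K]
    (A : Subring K) [IsFractionRing A K] [IsNoetherianRing A] (hdim : ringKrullDim A = 1) (hsl : Finite (MaximalSpectrum A))
    (B : ValuationSubring K) [IsDiscreteValuationRing B] :
    ((∃ u : A, IsUnit u ∧ (u : K) ∉ B) →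
      IsOpenImmersion (Spec.map (CommRingCat.ofHom (Subring.inclusion (inf_le_left : A ⊓ B.toSubring ≤ A)))) ∧
      IsOpenImmersion (Spec.map (CommRingCat.ofHom (Subring.inclusion (inf_le_right : A ⊓ B.toSubring ≤ B.toSubring)))) ∧
      Set.range (Spec.map (CommRingCat.ofHom (Subring.inclusion (inf_le_left : A ⊓ B.toSubring ≤ A)))).base ∪
        Set.range (Spec.map (CommRingCat.ofHom (Subring.inclusion (inf_le_right : A ⊓ B.toSubring ≤ B.toSubring)))).base = Set.univ ∧
      IsPushout (CommRingCat.ofHom (Subring.inclusion (inf_le_left : A ⊓ B.toSubring ≤ A)))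
        (CommRingCat.ofHom (Subring.inclusion (inf_le_right : A ⊓ B.toSubring ≤ B.toSubring)))
        (CommRingCat.ofHom A.subtype) (CommRingCat.ofHom B.toSubring.subtype)) ∧
    ((∀ u : A, IsUnit u → (u : K) ∈ B) →
      (∃ h : A ≤ B.toSubring,
        (Ideal.comap (Subring.inclusion h) (IsLocalRing.maximalIdeal B)).IsMaximal) ∧ A ⊔ B.toSubring ≠ ⊤) := by
  haveI hB : IsFractionRing B.toSubring K := inferInstanceAs (IsFractionRing B K)
  haveI : IsNoetherianRing B.toSubring := inferInstanceAs (IsNoetherianRing B)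
  have hdimB : ringKrullDim B.toSubring = 1 :=
    IsPrincipalIdealRing.ringKrullDim_eq_one B (IsDiscreteValuationRing.not_isField B)
  haveI : Subsingleton (MaximalSpectrum B) := ⟨fun m m' => MaximalSpectrum.ext
    ((IsLocalRing.eq_maximalIdeal m.isMaximal).trans
      (IsLocalRing.eq_maximalIdeal m'.isMaximal).symm)⟩
  have hslB : Finite (MaximalSpectrum B.toSubring) :=
    inferInstanceAs (Finite (MaximalSpectrum B))
  refine ⟨?_, ?_⟩
  · rintro ⟨u, -, hu⟩
    refine Groth.Agent.S7687.result K A B.toSubring hdim hdimB hsl hslB ?_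
    refine top_le_iff.1 fun a _ => ?_
    obtain ⟨ϖ, hϖ⟩ := IsDiscreteValuationRing.exists_irreducible B
    have hu' : ((u : K))⁻¹ ∈ B := (B.mem_or_inv_mem _).resolve_left hu
    have hu0 : (u : K) ≠ 0 := fun h => hu (h ▸ B.zero_mem)
    have hmax : (⟨_, hu'⟩ : B) ∈ IsLocalRing.maximalIdeal B := by
      rw [IsLocalRing.mem_maximalIdeal]
      rintro h
      obtain ⟨w, hw⟩ := isUnit_iff_exists_inv.1 h
      have := congrArg Subtype.val hw
      simp only [MulMemClass.coe_mul, OneMemClass.coe_one] at this
      refine hu ?_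
      rw [show (u : K) = w by rw [← mul_one (u : K), ← this, mul_inv_cancel_left₀ hu0]]
      exact w.2
    haveI : Ring.KrullDimLE 1 B := Ring.krullDimLE_iff.2 hdimB.le
    obtain ⟨n, hn⟩ := Groth.Agent.Lib.SemiLocalDimOne.Glue.exists_pow_mul_eq (R := B) (K := K)
      (x := (⟨_, hu'⟩ : B)) (fun P hP hP0 => by
        rwa [IsLocalRing.eq_maximalIdeal
          (Ring.krullDimLE_one_iff_of_noZeroDivisors.1 ‹_› P hP0 hP)]) a
    obtain ⟨b, hb⟩ := hn n le_rfl
    have : a = (u : K) ^ n * b := by
      rw [show ((b : K)) = algebraMap B K b from rfl, ← hb]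
      show a = (u : K) ^ n * ((u : K)⁻¹ ^ n * a)
      rw [inv_pow, mul_inv_cancel_left₀ (pow_ne_zero _ hu0)]
    rw [this]
    exact mul_mem (pow_mem ((le_sup_left : A ≤ A ⊔ B.toSubring) u.2) n)
      ((le_sup_right : B.toSubring ≤ A ⊔ B.toSubring) b.2)
  · intro hunit
    have hnice : Groth.Agent.Lib.SemiLocalDimOne.Glue.Nice A :=
      ⟨inferInstance, inferInstance, hdim, hsl⟩
    obtain ⟨y, hy0, hy⟩ := hnice.exists_jac
    have hyb : ∀ b ∈ A, y * b ∈ B := by
      intro b hb
      obtain ⟨hne, hinv⟩ := hy.inv_mem hb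
      have h1 : (⟨_, add_mem (one_mem A) (mul_mem hy.1 hb)⟩ : A).1 ∈ B :=
        hunit _ (IsUnit.of_mul_eq_one (⟨_, hinv⟩ : A) (Subtype.ext (mul_inv_cancel₀ hne)))
      simpa using B.toSubring.sub_mem h1 B.one_mem
    have h : A ≤ B.toSubring := by
      intro a ha
      by_contra hna
      have ha' : a⁻¹ ∈ B := (B.mem_or_inv_mem a).resolve_left hna
      have ha0 : a ≠ 0 := fun h => hna (h ▸ B.zero_mem)
      have hyB : y ∈ B := by simpa using hyb 1 (one_mem A)
      have hpow : ∀ n : ℕ, (⟨y, hyB⟩ : B) ∈ (IsLocalRing.maximalIdeal B) ^ n := by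
        intro n
        have hm : (⟨a⁻¹, ha'⟩ : B) ∈ IsLocalRing.maximalIdeal B := by
          rw [IsLocalRing.mem_maximalIdeal]
          intro hu
          obtain ⟨w, hw⟩ := isUnit_iff_exists_inv.1 hu
          have := congrArg Subtype.val hw
          simp only [MulMemClass.coe_mul, OneMemClass.coe_one] at this
          refine hna ?_
          rw [show a = w by rw [← mul_one a, ← this, mul_inv_cancel_left₀ ha0]]
          exact w.2
        have : (⟨y, hyB⟩ : B) = ⟨_, hyb _ (pow_mem ha n)⟩ * ⟨a⁻¹, ha'⟩ ^ n :=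
          Subtype.ext (by simp [inv_pow, mul_inv_cancel_right₀ (pow_ne_zero n ha0)])
        rw [this]
        exact Ideal.mul_mem_left _ _ (Ideal.pow_mem_pow hm n)
      have := (Ideal.iInf_pow_eq_bot_of_isLocalRing (IsLocalRing.maximalIdeal B)
        (IsLocalRing.maximalIdeal.isMaximal B).ne_top).le (Submodule.mem_iInf _ |>.2 hpow)
      exact hy0 (congrArg Subtype.val this)
    refine ⟨⟨h, ?_⟩, fun htop => ?_⟩
    · haveI := hnice.krullDimLE
      refine Ring.krullDimLE_one_iff_of_noZeroDivisors.1 ‹_› _ (fun hbot => ?_) inferInstance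
      refine IsDiscreteValuationRing.not_isField B ⟨exists_pair_ne B, mul_comm, fun {b} hb => ?_⟩
      obtain ⟨p, q, hq, e⟩ := IsFractionRing.div_surjective (A := A) ((b : K))⁻¹
      have hq0 : q ≠ 0 := nonZeroDivisors.ne_zero hq
      have hqu : IsUnit (Subring.inclusion h q) := by
        by_contra hnu
        exact hq0 ((Submodule.mem_bot A).1
          (hbot.le (Ideal.mem_comap.2 ((IsLocalRing.mem_maximalIdeal _).2 hnu))))
      obtain ⟨w, hw⟩ := isUnit_iff_exists_inv.1 hqu
      refine ⟨Subring.inclusion h p * w, Subtype.ext ?_⟩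
      have hb' : (b : K) ≠ 0 := fun e => hb (Subtype.ext e)
      have hw' : (q : K) * w = 1 := congrArg Subtype.val hw
      show (b : K) * ((p : K) * w) = 1
      rw [eq_inv_of_mul_eq_one_right hw']
      rw [show (p : K) * (q : K)⁻¹ = ((b : K))⁻¹ from (div_eq_mul_inv _ _).symm.trans e,
        mul_inv_cancel₀ hb']
    · rw [sup_eq_right.2 h] at htop
      refine IsDiscreteValuationRing.not_isField B ⟨exists_pair_ne B, mul_comm, fun {b} hb => ?_⟩
      have hb' : (b : K) ≠ 0 := fun e => hb (Subtype.ext e)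
      exact ⟨⟨(b : K)⁻¹, (SetLike.ext_iff.1 htop _).2 (Subring.mem_top _)⟩,
        Subtype.ext (mul_inv_cancel₀ hb')⟩

end Groth.Agent.S7664
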