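import Groth.Statements.S7666
import Groth.Agent.H97.DimOneLocal
import Mathlib.Algebra.Ring.GeomSum
-- import your own Groth.Agent.* helpers here

set_option autoImplicit false
universe u
open CategoryTheory CategoryTheory.Limits AlgebraicGeometry
open Variety

namespace Groth.Agent.S7666

/-- Let A be a one-dimensional Noetherian local ring and L = ∏ A_p, the product over the minimal primes
of A. If a_1, a_2 ∈ m_A have the same image in L, then a_1 and a_2 have equal n-th powers for some
positive integer n. -/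
theorem result (A : Type u) [CommRing A]
    [IsLocalRing A] [IsNoetherianRing A] (hdim : ringKrullDim A = 1)
    (a₁ a₂ : A) (h₁ : a₁ ∈ IsLocalRing.maximalIdeal A) (h₂ : a₂ ∈ IsLocalRing.maximalIdeal A)
    (heq : ∀ p : {p : PrimeSpectrum A // p.asIdeal ∈ minimalPrimes A},
      algebraMap A (Localization.AtPrime p.1.asIdeal) a₁ = algebraMap A (Localization.AtPrime p.1.asIdeal) a₂) :
    ∃ n : ℕ, 0 < n ∧ a₁ ^ n = a₂ ^ n := by
  haveI : Ring.KrullDimLE 1 A := Ring.krullDimLE_iff.2 hdim.le
  obtain ⟨N, hN⟩ := Groth.Agent.H97.DimOneLocal.exists_pow_maximalIdeal_le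
    (I := LinearMap.ker (LinearMap.mulRight A (a₁ - a₂))) fun p hle => by
      have := heq p
      rw [← sub_eq_zero, ← map_sub,
        IsLocalization.map_eq_zero_iff p.1.asIdeal.primeCompl] at this
      obtain ⟨s, hs⟩ := this
      exact s.2 (hle hs)
  refine ⟨N + 1, N.succ_pos, ?_⟩
  rw [← sub_eq_zero, ← geom_sum₂_mul]
  refine hN (sum_mem fun i hi => ?_)
  have hi' : i ≤ N := Nat.lt_succ_iff.1 (Finset.mem_range.1 hi)
  rw [← Nat.add_sub_cancel' hi', pow_add, show i + (N - i) + 1 - 1 - i = N - i by omega]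
  exact Ideal.mul_mem_mul (Ideal.pow_mem_pow h₁ i) (Ideal.pow_mem_pow h₂ (N - i))

end Groth.Agent.S7666
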