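import Groth.Statements.S7667
import Groth.Agent.H97.DimOneLocal
import Mathlib.Data.Nat.Choose.Sum
-- import your own Groth.Agent.* helpers here

set_option autoImplicit false
universe u
open CategoryTheory CategoryTheory.Limits AlgebraicGeometry
open Variety

namespace Groth.Agent.S7667

/-- Let A be a one-dimensional Noetherian local ring, L the product of the localizations A_p over its
minimal primes p, and I the intersection of those primes (the nilradical of A). If f ∈ L equals i +
a with a in the maximal ideal of A and i ∈ I·L, then for some positive integer n, f^n belongs to the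
subring of L obtained as the image of the structure map from A. -/
theorem result (A : Type u) [CommRing A]
    [IsLocalRing A] [IsNoetherianRing A] (hdim : ringKrullDim A = 1)
    (a : A) (ha : a ∈ IsLocalRing.maximalIdeal A)
    (i : ∀ p : {p : PrimeSpectrum A // p.asIdeal ∈ minimalPrimes A}, Localization.AtPrime p.1.asIdeal)
    (hi : i ∈ (nilradical A).map (algebraMap A (∀ p : {p : PrimeSpectrum A // p.asIdeal ∈ minimalPrimes A}, Localization.AtPrime p.1.asIdeal))) :
    ∃ n : ℕ, 0 < n ∧ (i + algebraMap A (∀ p : {p : PrimeSpectrum A // p.asIdeal ∈ minimalPrimes A}, Localization.AtPrime p.1.asIdeal) a) ^ n ∈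
      (algebraMap A (∀ p : {p : PrimeSpectrum A // p.asIdeal ∈ minimalPrimes A}, Localization.AtPrime p.1.asIdeal)).range := by
  haveI : Ring.KrullDimLE 1 A := Ring.krullDimLE_iff.2 hdim.le
  obtain ⟨e, he⟩ : IsNilpotent i := by
    refine (Ideal.map_le_iff_le_comap.2 ?_ : _ ≤ nilradical _) hi
    exact fun y hy => IsNilpotent.map hy _
  choose N hN using fun j : ℕ => Groth.Agent.H97.DimOneLocal.exists_pow_smul_mem_range (i ^ j)
  refine ⟨e + (Finset.range e).sup N + 1, Nat.succ_pos _, ?_⟩
  rw [add_pow]
  refine sum_mem fun j _ => mul_mem ?_ (natCast_mem _ _)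
  rcases lt_or_ge j e with hj | hj
  · have hjN : N j ≤ e + (Finset.range e).sup N + 1 - j := by
      have := Finset.le_sup (f := N) (Finset.mem_range.2 hj)
      omega
    rw [← map_pow, mul_comm]
    exact hN j _ (Ideal.pow_le_pow_right hjN (Ideal.pow_mem_pow ha _))
  · simp [pow_eq_zero_of_le hj he]

end Groth.Agent.S7667
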