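import Groth.Statements.S7668
import Mathlib.RingTheory.Ideal.Operations
import Mathlib.RingTheory.Localization.Ideal
-- import your own Groth.Agent.* helpers here

set_option autoImplicit false
universe u
open CategoryTheory CategoryTheory.Limits AlgebraicGeometry
open Variety

namespace Groth.Agent.S7668

/-- Let A be a ring, p_1, …, p_r primes of A and S = A ∖ ⋃ p_i. Then S is a multiplicative subset, S⁻¹A
is semi-local, and contraction to A is a bijection from the maximal ideals of S⁻¹A onto the maximal
elements of {p_1, …, p_r}. -/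
theorem result (A : Type u) [CommRing A]
    (r : ℕ) (p : Fin r → PrimeSpectrum A) :
    Finite (MaximalSpectrum (Localization (⨅ i, (p i).asIdeal.primeCompl))) ∧
      Set.BijOn (fun m : Ideal (Localization (⨅ i, (p i).asIdeal.primeCompl)) =>
          m.comap (algebraMap A (Localization (⨅ i, (p i).asIdeal.primeCompl))))
        {m | m.IsMaximal}
        {q | q ∈ Set.range (fun i => (p i).asIdeal) ∧
          ∀ j, q ≤ (p j).asIdeal → q = (p j).asIdeal} := by
  classical
  set S : Submonoid A := ⨅ i, (p i).asIdeal.primeCompl with hS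
  have hmemS : ∀ a, a ∈ S ↔ ∀ i, a ∉ (p i).asIdeal := fun a => by
    simp [hS, Submonoid.mem_iInf]
  set L := Localization S
  have hdisj : ∀ q : Ideal A, (∃ i, q ≤ (p i).asIdeal) → Disjoint (S : Set A) q := fun q ⟨i, hi⟩ =>
    Set.disjoint_left.2 fun a ha haq => (hmemS a).1 ha i (hi haq)
  have hsub : ∀ m : Ideal L, m ≠ ⊤ → ∃ i, m.comap (algebraMap A L) ≤ (p i).asIdeal := by
    intro m hm
    have : ((m.comap (algebraMap A L) : Ideal A) : Set A) ⊆
        ⋃ i ∈ (↑(Finset.univ : Finset (Fin r)) : Set (Fin r)), ((p i).asIdeal : Set A) := by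
      intro a ha
      by_contra h
      refine hm (Ideal.eq_top_of_isUnit_mem _ ha
        (IsLocalization.map_units L (⟨a, (hmemS a).2 fun i hi => ?_⟩ : S)))
      exact h (Set.mem_biUnion (Finset.mem_coe.2 (Finset.mem_univ i)) hi)
    rcases isEmpty_or_nonempty (Fin r) with hr | ⟨⟨i₀⟩⟩
    · have := this (Ideal.zero_mem _)
      simp at this
    · obtain ⟨i, -, hi⟩ := (Ideal.subset_union_prime i₀ i₀
        fun i _ _ _ => (p i).2).1 this
      exact ⟨i, hi⟩
  have hbij : Set.BijOn (fun m : Ideal L => m.comap (algebraMap A L)) {m | m.IsMaximal}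
      {q | q ∈ Set.range (fun i => (p i).asIdeal) ∧
        ∀ j, q ≤ (p j).asIdeal → q = (p j).asIdeal} := by
    refine ⟨fun m hm => ?_, fun m hm m' hm' h => ?_, fun q hq => ?_⟩
    · have key : ∀ j, m.comap (algebraMap A L) ≤ (p j).asIdeal →
          m.comap (algebraMap A L) = (p j).asIdeal := by
        intro j hj
        have hd := hdisj _ ⟨j, le_rfl⟩
        have hne : (p j).asIdeal.map (algebraMap A L) ≠ ⊤ :=
          (IsLocalization.map_algebraMap_ne_top_iff_disjoint S L _).2 hd
        have := (hm : m.IsMaximal).eq_of_le hne (by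
          conv_lhs => rw [← IsLocalization.map_under S L m]
          exact Ideal.map_mono hj)
        rw [this]
        exact IsLocalization.under_map_of_isPrime_disjoint S L (p j).2 hd
      obtain ⟨i, hi⟩ := hsub m (hm : m.IsMaximal).ne_top
      exact ⟨⟨i, (key i hi).symm⟩, key⟩
    · have h' := congrArg (Ideal.map (algebraMap A L)) h
      exact ((IsLocalization.map_under S L m).symm.trans h').trans (IsLocalization.map_under S L m')
    · obtain ⟨⟨i, rfl⟩, hmax⟩ := hq
      have hd := hdisj _ ⟨i, le_rfl⟩
      have hc : ((p i).asIdeal.map (algebraMap A L)).comap (algebraMap A L) = (p i).asIdeal :=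
        IsLocalization.under_map_of_isPrime_disjoint S L (p i).2 hd
      refine ⟨(p i).asIdeal.map (algebraMap A L),
        ⟨⟨(IsLocalization.map_algebraMap_ne_top_iff_disjoint S L _).2 hd, fun J hJ => ?_⟩⟩, hc⟩
      by_contra hJt
      obtain ⟨j, hj⟩ := hsub J hJt
      have h1 : (p i).asIdeal ≤ J.comap (algebraMap A L) := hc ▸ Ideal.comap_mono hJ.le
      have h2 : J.comap (algebraMap A L) = (p i).asIdeal :=
        le_antisymm (hj.trans_eq (hmax j (h1.trans hj)).symm) h1
      exact hJ.ne ((congrArg (Ideal.map (algebraMap A L)) h2).symm.trans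
        (IsLocalization.map_under S L J))
  refine ⟨?_, hbij⟩
  have hfin : {m : Ideal L | m.IsMaximal}.Finite :=
    Set.Finite.of_finite_image (((Set.finite_range fun i => (p i).asIdeal).subset
      fun q hq => hq.1).subset hbij.mapsTo.image_subset) hbij.injOn
  haveI := hfin.to_subtype
  exact Finite.of_injective (fun m : MaximalSpectrum L => (⟨m.asIdeal, m.isMaximal⟩ :
    {m : Ideal L | m.IsMaximal})) fun m m' h => MaximalSpectrum.ext (congrArg Subtype.val h)

end Groth.Agent.S7668
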