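import Groth.Statements.S7670
import Groth.Agent.H97.PullbackLine
-- import your own Groth.Agent.* helpers here

set_option autoImplicit false
universe u
open CategoryTheory CategoryTheory.Limits AlgebraicGeometry
open Variety

namespace Groth.Agent.S7670

open Groth.Agent.Lib.TensorMod Groth.Agent.Lib.TensorMod.Dual Groth.Agent.Lib.TensorMod.Gen
open Groth.Agent.H97.GlueLine Groth.Agent.H97.PullbackLine
open TopologicalSpace

/-- Over an open inside a closed subscheme, functions of a reduced scheme agree with those of the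
subscheme. -/
theorem bijective_app_subscheme {X : Scheme.{u}} [IsReduced X] (I : X.IdealSheafData) (V : X.Opens)
    (hV : (V : Set X) ⊆ (I.support : Set X)) : Function.Bijective (I.subschemeι.app V) := by
  have hc : IsClosedImmersion (I.subschemeι ∣_ V) :=
    IsZariskiLocalAtTarget.restrict (P := @IsClosedImmersion) inferInstance V
  have hsurj : Function.Surjective (I.subschemeι ∣_ V) := by
    intro v
    obtain ⟨z, hz⟩ : V.ι v ∈ Set.range I.subschemeι := by
      rw [Scheme.IdealSheafData.range_subschemeι]; exact hV v.2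
    refine ⟨⟨z, show I.subschemeι z ∈ V from hz.symm ▸ v.2⟩, Subtype.ext ?_⟩
    rw [morphismRestrict_base]
    exact hz
  have : IsIso (I.subschemeι ∣_ V) := by
    rw [IsClosedImmersion.isIso_iff_ker_eq_bot]
    refine Scheme.IdealSheafData.support_eq_top_iff.1 (TopologicalSpace.Closeds.ext ?_)
    refine Set.eq_univ_of_forall fun v => ?_
    obtain ⟨z, rfl⟩ := hsurj v
    exact (I.subschemeι ∣_ V).range_subset_ker_support ⟨z, rfl⟩
  have h := ConcreteCategory.bijective_of_isIso ((I.subschemeι ∣_ V).app ⊤)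
  have hfun : ⇑((I.subschemeι ∣_ V).app ⊤) =
      (⇑(I.subscheme.presheaf.map (eqToHom (image_morphismRestrict_preimage I.subschemeι V ⊤)).op)) ∘
        ⇑(I.subschemeι.app (V.ι ''ᵁ ⊤)) := by
    rw [morphismRestrict_app]; rfl
  rw [hfun] at h
  have h2 := (Function.Bijective.of_comp_iff'
    (ConcreteCategory.bijective_of_isIso
      (I.subscheme.presheaf.map (eqToHom (image_morphismRestrict_preimage I.subschemeι V ⊤)).op)) _).1 h
  have hV' : V.ι ''ᵁ ⊤ = V := by simp
  have key : ∀ V' : X.Opens, V' = V → Function.Bijective (I.subschemeι.app V') →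
      Function.Bijective (I.subschemeι.app V) := fun _ h => h ▸ id
  exact key _ hV' h2

theorem isClosed_subset_of_discrete {Y : Type*} [TopologicalSpace Y] {D : Set Y} (hD : IsClosed D)
    (hd : DiscreteTopology D) {S : Set Y} (hS : S ⊆ D) : IsClosed S := by
  have : IsClosed (Subtype.val ⁻¹' S : Set D) := isClosed_discrete _
  have h := hD.isClosedEmbedding_subtypeVal.isClosedMap _ this
  rwa [Subtype.image_preimage_coe, Set.inter_eq_right.2 hS] at h

/-- Let X be a reduced scheme and Z_1, …, Z_n ⊆ X closed subschemes with X = ⋃ Z_i set-theoretically and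
Z_i ∩ Z_j discrete for i ≠ j, and let L_i be an invertible module on Z_i. Then there is an
invertible module L on X whose restriction to each Z_i is isomorphic to L_i. (The published
statement also gives, for sections s_i of L_i that do not vanish at the points of Z_i ∩ Z_j, a
choice of L with a global section restricting to each s_i; this row states only the existence of L.) -/
theorem result (X : Scheme.{u}) [IsReduced X]
    (n : ℕ) (Z : Fin n → X.IdealSheafData)
    (hcov : ⋃ i, ((Z i).support : Set X) = Set.univ)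
    (hdisc : ∀ i j, i ≠ j → DiscreteTopology ↥(((Z i).support : Set X) ∩ ((Z j).support : Set X)))
    (L : ∀ i, (Z i).subscheme.Modules) (hL : ∀ i, PicF.IsInvertible (L i)) :
    ∃ M : X.Modules, PicF.IsInvertible M ∧
      ∀ i, Nonempty ((Scheme.Modules.pullback (Z i).subschemeι).obj M ≅ L i) := by
  classical
  let S : Fin n → Set X := fun k => (Z k).support
  -- the open where only the component `k` passes
  let U : Fin n → X.Opens := fun k =>
    ⟨(⋃ j ∈ ({j | j ≠ k} : Set (Fin n)), S j)ᶜ,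
      ((Set.toFinite _).isClosed_biUnion fun j _ => (Z j).support.2).isOpen_compl⟩
  have hUnot : ∀ k j, j ≠ k → ∀ y ∈ U k, y ∉ S j := fun k j hjk y hy hj =>
    hy (Set.mem_biUnion hjk hj)
  have hUS : ∀ k, (U k : Set X) ⊆ S k := fun k y hy => by
    obtain ⟨j, hj⟩ := Set.mem_iUnion.1 (hcov.symm ▸ Set.mem_univ y : y ∈ ⋃ i, ((Z i).support : Set X))
    by_cases h : j = k
    · exact h ▸ hj
    · exact absurd hj (hUnot k j h y hy)
  -- points on two components
  let D : X → Set X := fun x =>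
    ⋃ p ∈ ({p | p.1 ≠ p.2} : Set (Fin n × Fin n)), (S p.1 ∩ S p.2) \ {x}
  have hDcl : ∀ x, IsClosed (D x) := fun x => (Set.toFinite _).isClosed_biUnion fun p hp =>
    isClosed_subset_of_discrete ((Z p.1).support.2.inter (Z p.2).support.2) (hdisc p.1 p.2 hp)
      Set.sdiff_subset
  have hchart : ∀ x : X, ∀ k, ∃ (N : X.Opens) (e : Γ(L k, (Z k).subschemeι ⁻¹ᵁ N)), x ∈ N ∧
      IsGen (L k) ((Z k).subschemeι ⁻¹ᵁ N) e := by
    intro x k
    by_cases hx : x ∈ S k
    · obtain ⟨z, rfl⟩ : x ∈ Set.range (Z k).subschemeι := by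
        rw [Scheme.IdealSheafData.range_subschemeι]; exact hx
      obtain ⟨V, e, hzV, he⟩ := Gen.isInvertible_iff.1 (hL k) z
      obtain ⟨N, hN, hNV⟩ := (Z k).subschemeι.isClosedEmbedding.isInducing.isOpen_iff.1 V.2
      have hle : (Z k).subschemeι ⁻¹ᵁ ⟨N, hN⟩ ≤ V := hNV.le
      exact ⟨⟨N, hN⟩, rs (L k) hle e, hNV.ge hzV, he.res hle⟩
    · refine ⟨⟨(S k)ᶜ, (Z k).support.2.isOpen_compl⟩, 0, hx, fun V hV => ?_⟩
      have hbot : V = ⊥ := eq_bot_iff.2 fun z hz =>
        (show (Z k).subschemeι z ∈ (S k)ᶜ from hV hz)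
        (by have : (Z k).subschemeι z ∈ Set.range (Z k).subschemeι := ⟨z, rfl⟩
            rwa [Scheme.IdealSheafData.range_subschemeι] at this)
      subst hbot
      have : Subsingleton Γ(L k, (⊥ : (Z k).subscheme.Opens)) :=
        ⟨fun a b => HomGlue.sections_ext_cover (fun e : PEmpty.{u + 1} => e.elim) (L k)
          (fun z (hz : z ∈ (⊥ : (Z k).subscheme.Opens)) => hz.elim) fun e => e.elim⟩
      exact ⟨fun a b _ => Subsingleton.elim _ _, fun y => ⟨0, Subsingleton.elim _ _⟩⟩
  choose N e hxN he using hchart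
  let V : X → X.Opens := fun x => (Finset.univ.inf (N x)) ⊓ ⟨(D x)ᶜ, (hDcl x).isOpen_compl⟩
  have hVN : ∀ x k, V x ≤ N x k := fun x k => inf_le_left.trans (Finset.inf_le (Finset.mem_univ k))
  have hxV : ∀ x, x ∈ V x := fun x => ⟨by
    show x ∈ ((Finset.univ.inf (N x) : X.Opens) : Set X)
    simp only [TopologicalSpace.Opens.coe_finset_inf, Finset.inf_set_eq_iInter, Set.mem_iInter]
    exact fun k _ => hxN x k, by
      show x ∉ D x
      simp only [D, Set.mem_iUnion, not_exists]
      exact fun p _ h => h.2 rfl⟩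
  have hdisj : ∀ x y, x ≠ y → V x ⊓ V y ≤ iSup U := fun x y hne w hw => by
    obtain ⟨k, hk⟩ := Set.mem_iUnion.1 (hcov.symm ▸ Set.mem_univ w : w ∈ ⋃ i, ((Z i).support : Set X))
    refine Opens.mem_iSup.2 ⟨k, fun hm => ?_⟩
    obtain ⟨j, hj, hwj⟩ := Set.mem_iUnion₂.1 hm
    by_cases h : w = x
    · exact hw.2.2 (Set.mem_biUnion (x := (j, k)) hj ⟨⟨hwj, hk⟩, fun h' => hne (h.symm.trans h')⟩)
    · exact hw.1.2 (Set.mem_biUnion (x := (j, k)) hj ⟨⟨hwj, hk⟩, h⟩)
  obtain ⟨ell, hell⟩ : ∃ ell : ∀ x k, Γ(L k, (Z k).subschemeι ⁻¹ᵁ V x),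
      ∀ x k, IsGen (L k) ((Z k).subschemeι ⁻¹ᵁ V x) (ell x k) :=
    ⟨fun x k => rs (L k) (fun z hz => hVN x k hz) (e x k), fun x k => (he x k).res _⟩
  -- the relation defining the transition functions
  let R : ∀ (x y : X) (W : X.Opens), W ≤ V x → W ≤ V y → Γ(X, W) → Prop := fun x y W hx hy a =>
    ∀ k, rs (L k) (fun z hz => hy hz : (Z k).subschemeι ⁻¹ᵁ W ≤ (Z k).subschemeι ⁻¹ᵁ V y) (ell y k) =
      (Z k).subschemeι.app W a •
        rs (L k) (fun z hz => hx hz : (Z k).subschemeι ⁻¹ᵁ W ≤ (Z k).subschemeι ⁻¹ᵁ V x) (ell x k)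
  have Rres : ∀ x y (W W' : X.Opens) (hx : W ≤ V x) (hy : W ≤ V y) (h : W' ≤ W) a,
      R x y W hx hy a → R x y W' (h.trans hx) (h.trans hy) (rf h a) := fun x y W W' hx hy h a ha k => by
    have := congrArg (rs (L k) (fun z hz => h hz : (Z k).subschemeι ⁻¹ᵁ W' ≤ (Z k).subschemeι ⁻¹ᵁ W)) (ha k)
    rw [rs_rs, rs_smul, rs_rs] at this
    refine this.trans ?_
    congr 1
    exact (congr($((Z k).subschemeι.naturality (homOfLE h).op) a)).symm
  have Runiq : ∀ x y (W : X.Opens) (hx : W ≤ V x) (hy : W ≤ V y), W ≤ iSup U → ∀ a b,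
      R x y W hx hy a → R x y W hx hy b → a = b := fun x y W hx hy hW a b ha hb => by
    refine TopCat.Sheaf.eq_of_locally_eq' X.sheaf (fun k => W ⊓ U k) W (fun k => homOfLE inf_le_left)
      (by rw [← inf_iSup_eq]; exact le_inf le_rfl hW) a b fun k => ?_
    have hle : (W ⊓ U k : X.Opens) ≤ W := inf_le_left
    refine (bijective_app_subscheme (Z k) _ fun z (hz : z ∈ W ⊓ U k) => hUS k hz.2).1 ?_
    exact (hell x k _ (fun z hz => hx (hle hz))).1
      ((Rres x y W _ hx hy hle a ha k).symm.trans (Rres x y W _ hx hy hle b hb k))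
  have Rex : ∀ x y, x ≠ y → ∃ a, R x y (V x ⊓ V y) inf_le_left inf_le_right a := by
    intro x y hne
    have h1 : ∀ k, ∃ a : Γ(X, (V x ⊓ V y) ⊓ U k), R x y ((V x ⊓ V y) ⊓ U k)
        (inf_le_left.trans inf_le_left) (inf_le_left.trans inf_le_right) a := fun k => by
      obtain ⟨b, hb⟩ := (hell x k ((Z k).subschemeι ⁻¹ᵁ ((V x ⊓ V y) ⊓ U k)) fun z (hz : (Z k).subschemeι z ∈ (V x ⊓ V y) ⊓ U k) => hz.1.1).2
        (rs (L k) (fun z (hz : (Z k).subschemeι z ∈ (V x ⊓ V y) ⊓ U k) => hz.1.2) (ell y k))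
      obtain ⟨a, rfl⟩ := (bijective_app_subscheme (Z k) _ fun z hz => hUS k (show z ∈ (V x ⊓ V y) ⊓ U k from hz).2).2 b
      refine ⟨a, fun j => ?_⟩
      by_cases hjk : j = k
      · subst hjk; exact hb.symm
      · refine HomGlue.sections_ext_cover (fun e : PEmpty.{u + 1} => e.elim) (L j) ?_ fun e => e.elim
        intro z hz
        exfalso
        refine hUnot k j hjk _ hz.2 ?_
        have : (Z j).subschemeι z ∈ Set.range (Z j).subschemeι := ⟨z, rfl⟩
        rwa [Scheme.IdealSheafData.range_subschemeι] at this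
    choose a ha using h1
    obtain ⟨g, hg, -⟩ := X.sheaf.existsUnique_gluing' (fun k => (V x ⊓ V y) ⊓ U k) (V x ⊓ V y)
      (fun k => homOfLE inf_le_left) (by rw [← inf_iSup_eq]; exact le_inf le_rfl (hdisj x y hne)) a
      fun i j => Runiq x y _ _ _ ((inf_le_left.trans inf_le_right).trans (le_iSup U i)) _ _
        (Rres x y _ _ _ _ inf_le_left _ (ha i)) (Rres x y _ _ _ _ inf_le_right _ (ha j))
    refine ⟨g, fun k => ?_⟩
    refine HomGlue.sections_ext_cover (fun i => (Z k).subschemeι ⁻¹ᵁ U i) (L k) ?_ fun i => ?_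
    · intro z hz
      obtain ⟨i, hi⟩ := Opens.mem_iSup.1 (hdisj x y hne hz)
      exact Opens.mem_iSup.2 ⟨i, hi⟩
    · have h2 := ha i k
      rw [← hg i] at h2
      rw [rs_rs, rs_smul, rs_rs]
      refine h2.trans ?_
      congr 1
      exact congr($((Z k).subschemeι.naturality
        (homOfLE (inf_le_left : (V x ⊓ V y) ⊓ U i ≤ V x ⊓ V y)).op) g)
  choose a ha using Rex
  let u : ∀ x y, Γ(X, V x ⊓ V y) := fun x y => if h : x = y then 1 else a x y h
  have hRu : ∀ x y, R x y (V x ⊓ V y) inf_le_left inf_le_right (u x y) := fun x y => by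
    by_cases h : x = y
    · subst h
      intro k
      rw [show u x x = 1 from dif_pos rfl, map_one, one_smul]
    · rw [show u x y = a x y h from dif_neg h]
      exact ha x y h
  have hself : ∀ (x : X) (W : X.Opens) (h : W ≤ V x ⊓ V x), rf h (u x x) = 1 := fun x W h => by
    rw [show u x x = 1 from dif_pos rfl, rf, map_one]
  let c : Cocycle V := ⟨u, hself, fun i j l W hi hj hl => by
    by_cases hW : W ≤ iSup U
    · refine Runiq i l W hi hl hW _ _ (fun k => ?_) (Rres i l _ W _ _ (le_inf hi hl) _ (hRu i l))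
      have h1 := Rres i j _ W _ _ (le_inf hi hj) _ (hRu i j) k
      have h2 := Rres j l _ W _ _ (le_inf hj hl) _ (hRu j l) k
      rw [h2, h1, map_mul, ← mul_smul, mul_comm]
    · have e1 : i = j := by_contra fun h => hW ((le_inf hi hj).trans (hdisj i j h))
      have e2 : j = l := by_contra fun h => hW ((le_inf hj hl).trans (hdisj j l h))
      subst e1 e2
      rw [hself, one_mul]⟩
  have hsup : iSup V = ⊤ := top_unique fun x _ => Opens.mem_iSup.2 ⟨x, hxV x⟩
  exact ⟨glue c, isInvertible_glue c hsup, fun k =>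
    nonempty_pullback_glue_iso (Z k).subschemeι hsup c (L k) (fun x => ell x k) (fun x => hell x k)
      fun i j => hRu i j k⟩

end Groth.Agent.S7670
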