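import Groth.Statements.S7671
import Groth.Agent.H52.PushInv
import Groth.Agent.Lib.ProjMor.InvTilde
import Groth.Agent.Lib.QCoh.Tilde
import Mathlib.RingTheory.LocalRing.Module
import Mathlib.RingTheory.Spectrum.Prime.FreeLocus
import Mathlib.AlgebraicGeometry.Morphisms.QuasiSeparated

set_option autoImplicit false
universe u
open Groth.Agent.Lib Groth.Agent.Lib.TensorMod Groth.Agent.H52
open scoped TensorProduct
open CategoryTheory CategoryTheory.Limits AlgebraicGeometry
open Variety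

namespace Groth.Agent.S7671

theorem trivial_of_semilocal {R : CommRingCat.{u}} [Finite (MaximalSpectrum R)] (N : (Spec R).Modules)
    (hN : PicF.IsInvertible N) : Nonempty (N ≅ Coh.structureModule (Spec R)) := by
  haveI : N.IsQuasicoherent := QCohInv.isQCoh_of_isInvertible hN
  let M := (QCoh.Tilde.specΓ R).obj N
  let i : tilde M ≅ N := QCoh.Tilde.isoTildeSections N
  obtain ⟨_, _, hr⟩ := ProjMor.InvTilde.rank_one_of_isInvertible M (Invertible.isInvertible_of_iso i.symm hN)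
  have hrk : ∀ P : MaximalSpectrum R, Module.finrank (R ⧸ P.1) ((R ⧸ P.1) ⊗[R] M) = 1 := fun P => by
    letI := Ideal.Quotient.field P.1
    let q : PrimeSpectrum (R ⧸ P.1) := ⟨⊥, Ideal.isPrime_bot⟩
    have h1 := Module.rankAtStalk_isBaseChange (TensorProduct.isBaseChange R M (R ⧸ P.1)) q
    rw [Module.rankAtStalk_eq_finrank_of_free, hr] at h1
    simpa using h1
  obtain ⟨b⟩ := Module.nonempty_basis_of_flat_of_finrank_eq R M 1 hrk
  exact ⟨i.symm ≪≫ Kaehler.LocFree.tildeFreeIso b ≪≫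
    coproductUniqueIso fun _ : Fin 1 => Coh.structureModule _⟩

theorem bijective_toSpecΓ (X : Scheme.{u}) [CompactSpace X] [QuasiSeparatedSpace X]
    (W : (Spec Γ(X, ⊤)).Opens) : Function.Bijective (X.toSpecΓ.app W) := by
  refine PushInv.bijective_app_of_affine X.toSpecΓ (fun y O hy => ?_) W
  obtain ⟨_, ⟨_, ⟨r, rfl⟩, rfl⟩, hyr, hrO⟩ :=
    PrimeSpectrum.isBasis_basic_opens.exists_subset_of_mem_open hy O.2
  let D : (Spec Γ(X, ⊤)).Opens := PrimeSpectrum.basicOpen r
  refine ⟨D, hyr, hrO, ?_⟩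
  letI : Algebra Γ(X, ⊤) Γ(X, X.toSpecΓ ⁻¹ᵁ D) :=
    (X.presheaf.map (homOfLE (le_top : X.toSpecΓ ⁻¹ᵁ D ≤ ⊤)).op).hom.toAlgebra
  have key : ∀ O : X.Opens, O = X.basicOpen r → letI : Algebra Γ(X, ⊤) Γ(X, O) :=
      (X.presheaf.map (homOfLE (le_top : O ≤ ⊤)).op).hom.toAlgebra
      IsLocalization.Away r Γ(X, O) := by
    rintro O rfl
    exact isLocalization_basicOpen_of_qcqs isCompact_univ (isQuasiSeparated_univ) r
  have h1 : IsLocalization.Away r Γ(X, X.toSpecΓ ⁻¹ᵁ D) := key _ (Scheme.toSpecΓ_preimage_basicOpen _ _)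
  have hcomm : ((X.toSpecΓ.app D).hom).comp (algebraMap Γ(X, ⊤) Γ(Spec Γ(X, ⊤), D)) =
      algebraMap Γ(X, ⊤) Γ(X, X.toSpecΓ ⁻¹ᵁ D) := by
    rw [RingHom.algebraMap_toAlgebra]
    have h2 := X.toSpecΓ.naturality (homOfLE (le_top : D ≤ ⊤)).op
    rw [show X.toSpecΓ.app ⊤ = (Scheme.ΓSpecIso Γ(X, ⊤)).hom from Scheme.toSpecΓ_appTop X] at h2
    have h3 := congrArg (fun m => ((Scheme.ΓSpecIso Γ(X, ⊤)).inv ≫ m).hom) h2
    exact h3.trans (congrArg CommRingCat.Hom.hom ((Scheme.ΓSpecIso Γ(X, ⊤)).inv_hom_id_assoc _))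
  let e := IsLocalization.algEquiv (Submonoid.powers r) Γ(Spec Γ(X, ⊤), D) Γ(X, X.toSpecΓ ⁻¹ᵁ D)
  have : (X.toSpecΓ.app D).hom = (e : Γ(Spec Γ(X, ⊤), D) →+* Γ(X, X.toSpecΓ ⁻¹ᵁ D)) :=
    IsLocalization.ringHom_ext (Submonoid.powers r) (hcomm.trans (RingHom.ext fun a => (e.commutes a).symm))
  show Function.Bijective (X.toSpecΓ.app D).hom
  rw [this]
  exact e.bijective


/-- Let A → B be faithfully flat and X a quasi-compact and quasi-separated scheme over A such that
H^0(X, O_X) is a semi-local ring. Then Pic(X) → Pic(X_B) is injective: an invertible module on X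
which becomes trivial on X_B is trivial. -/
theorem result (A B : Type u) [CommRing A]
    [CommRing B] [Algebra A B] [Module.FaithfullyFlat A B]
    (X : Scheme.{u}) (f : X ⟶ Spec (CommRingCat.of A)) [CompactSpace X] [QuasiSeparatedSpace X]
    (hsl : Finite (MaximalSpectrum Γ(X, ⊤))) (L : X.Modules) (hL : PicF.IsInvertible L)
    (htriv : Nonempty ((Scheme.Modules.pullback
        (pullback.fst f (Spec.map (CommRingCat.ofHom (algebraMap A B))))).obj L ≅
      Coh.structureModule (pullback f (Spec.map (CommRingCat.ofHom (algebraMap A B)))))) :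
    Nonempty (L ≅ Coh.structureModule X) := by
  let σ : Spec Γ(X, ⊤) ⟶ Spec (CommRingCat.of A) := Spec.map ((Scheme.ΓSpecIso _).inv ≫ f.appTop)
  have hσ : X.toSpecΓ ≫ σ = f := by
    simp only [σ, Spec.map_comp]
    rw [← Scheme.toSpecΓ_naturality_assoc, ← SpecMap_ΓSpecIso_hom, ← Spec.map_comp, Iso.inv_hom_id,
      Spec.map_id]
    exact Category.comp_id f
  let b := Spec.map (CommRingCat.ofHom (algebraMap A B))
  have : Flat b := HasRingHomProperty.Spec_iff.mpr (RingHom.flat_algebraMap_iff.mpr inferInstance)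
  have : Surjective b := ⟨PrimeSpectrum.comap_surjective_of_faithfullyFlat⟩
  have : Surjective (pullback.fst σ b) := MorphismProperty.pullback_fst _ _ ‹_›
  have : Flat (pullback.fst σ b) := MorphismProperty.pullback_fst _ _ ‹_›
  obtain ⟨φ⟩ := htriv
  let e : pullback X.toSpecΓ (pullback.fst σ b) ≅ pullback f b :=
    pullbackRightPullbackFstIso σ b X.toSpecΓ ≪≫ pullback.congrHom hσ rfl
  have he : e.hom ≫ pullback.fst f b = pullback.fst X.toSpecΓ (pullback.fst σ b) := by
    simp only [e, Iso.trans_hom, pullback.congrHom_hom, Category.assoc, pullback.map, pullback.lift_fst, Category.comp_id]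
    exact pullbackRightPullbackFstIso_hom_fst _ _ _
  obtain ⟨e₀, he₀⟩ := PushInv.exists_gen_of_iso_unit
    (((Scheme.Modules.pullbackCongr he).app L).symm ≪≫ ((Scheme.Modules.pullbackComp e.hom _).app L).symm ≪≫
      (Scheme.Modules.pullback e.hom).mapIso φ ≪≫ PicLoc.pullbackStructureIso e.hom)
  have : QuasiCompact X.toSpecΓ := inferInstance
  have hb := bijective_toSpecΓ X
  have hg := PushInv.exists_gens (IsPullback.of_hasPullback X.toSpecΓ (pullback.fst σ b)) hL
    (fun W _ => hb W) fun y' => ⟨⊤, e₀, trivial, he₀⟩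
  have := PushInv.isIso_counit X.toSpecΓ hb hg
  obtain ⟨τ⟩ := trivial_of_semilocal _ (PushInv.isInvertible_push X.toSpecΓ hb hg)
  exact ⟨(asIso ((Scheme.Modules.pullbackPushforwardAdjunction X.toSpecΓ).counit.app L)).symm ≪≫
    (Scheme.Modules.pullback _).mapIso τ ≪≫ PicLoc.pullbackStructureIso _⟩

end Groth.Agent.S7671
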