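import Groth.Statements.S7674
import Groth.Agent.Lib.ProjDim.Tensor
import Mathlib.RingTheory.Spectrum.Prime.Topology
import Mathlib.AlgebraicGeometry.AffineSpace
-- import your own Groth.Agent.* helpers here

set_option autoImplicit false
universe u
open CategoryTheory CategoryTheory.Limits AlgebraicGeometry
open Variety

namespace Groth.Agent.S7674

/-- Let k be a field, n ≥ 0, and X, Y ⊆ A^n_k closed subsets which are equidimensional of dimensions r
and s. Then each irreducible component Z of the intersection X ∩ Y satisfies dim Z ≥ r + s − n. -/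
theorem result (k : Type u) [Field k] (n r s : ℕ)
    (X Y : Set ↥(𝔸(ULift.{u} (Fin n); Spec (CommRingCat.of k)))) (hX : IsClosed X) (hY : IsClosed Y)
    (hXr : ∀ Z ∈ irreducibleComponents X, topologicalKrullDim Z = r)
    (hYs : ∀ Z ∈ irreducibleComponents Y, topologicalKrullDim Z = s)
    (Z : Set ↥(X ∩ Y)) (hZ : Z ∈ irreducibleComponents ↥(X ∩ Y)) :
    ((r + s : ℕ) : WithBot ℕ∞) ≤ topologicalKrullDim Z + (n : WithBot ℕ∞) := by
  let A := MvPolynomial (Fin n) k
  let e : CommRingCat.of (MvPolynomial (ULift.{u} (Fin n)) k) ≅ CommRingCat.of A :=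
    (MvPolynomial.renameEquiv k Equiv.ulift).toRingEquiv.toCommRingCatIso
  let h : ↥(𝔸(ULift.{u} (Fin n); Spec (CommRingCat.of k))) ≃ₜ PrimeSpectrum A :=
    (AffineSpace.SpecIso (ULift.{u} (Fin n)) (CommRingCat.of k) ≪≫ (Scheme.Spec.mapIso e.symm.op)).schemeIsoToHomeo
  have hdim : ∀ z, topologicalKrullDim ↥(closure ({z} : Set ↥(𝔸(ULift.{u} (Fin n); Spec (CommRingCat.of k))))) =
      (Groth.Agent.Lib.Dim.Basic.dimQ k (h z).asIdeal : WithBot ℕ∞) := by
    intro z
    rw [← Groth.Agent.Lib.Dim.Basic.ringKrullDim_quotient_prime k (h z).asIdeal,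
      ← PrimeSpectrum.topologicalKrullDim_eq_ringKrullDim]
    have he := PrimeSpectrum.isClosedEmbedding_comap_of_surjective _
      (Ideal.Quotient.mk (h z).asIdeal) Ideal.Quotient.mk_surjective
    have hr : Set.range (PrimeSpectrum.comap (Ideal.Quotient.mk (h z).asIdeal)) = h '' closure {z} := by
      rw [range_comap_of_surjective _ _ Ideal.Quotient.mk_surjective, Ideal.mk_ker,
        h.image_closure, Set.image_singleton, PrimeSpectrum.closure_singleton]
    rw [IsHomeomorph.topologicalKrullDim_eq _ (h.image (closure {z})).isHomeomorph,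
      IsHomeomorph.topologicalKrullDim_eq _ he.isEmbedding.toHomeomorph.isHomeomorph,
      IsHomeomorph.topologicalKrullDim_eq _ (Homeomorph.setCongr hr).isHomeomorph]
  have hcomp : ∀ W : Set ↥(𝔸(ULift.{u} (Fin n); Spec (CommRingCat.of k))), IsClosed W →
      ∀ C : Set W, C ∈ irreducibleComponents W →
      ∃ c ∈ W, closure {c} = Subtype.val '' C ∧ topologicalKrullDim ↥C = topologicalKrullDim ↥(closure {c}) := by
    intro W hW C hC
    have hCi : IsIrreducible (Subtype.val '' C) := hC.1.image _ continuous_subtype_val.continuousOn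
    have hCc : IsClosed (Subtype.val '' C) :=
      hW.isClosedEmbedding_subtypeVal.isClosedMap _ (isClosed_of_mem_irreducibleComponents C hC)
    obtain ⟨c, hc⟩ := QuasiSober.sober hCi hCc
    obtain ⟨c', -, hc'⟩ := hc.mem
    refine ⟨c, hc' ▸ c'.2, hc, ?_⟩
    rw [IsHomeomorph.topologicalKrullDim_eq _ (Topology.IsEmbedding.subtypeVal.homeomorphImage C).isHomeomorph,
      IsHomeomorph.topologicalKrullDim_eq _ (Homeomorph.setCongr hc.symm).isHomeomorph]
  have hW : IsClosed (X ∩ Y) := hX.inter hY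
  obtain ⟨z, hzXY, hz, hzdim⟩ := hcomp _ hW Z hZ
  have hcmp : ∀ (W : Set ↥(𝔸(ULift.{u} (Fin n); Spec (CommRingCat.of k)))) (m : ℕ), IsClosed W →
      (∀ C ∈ irreducibleComponents W, topologicalKrullDim C = m) → z ∈ W →
      ∃ c ∈ W, c ⤳ z ∧ Groth.Agent.Lib.Dim.Basic.dimQ k (h c).asIdeal = m := by
    intro W m hWc hm hzW
    have hC := irreducibleComponent_mem_irreducibleComponents (⟨z, hzW⟩ : W)
    obtain ⟨c, hcW, hc, hcd⟩ := hcomp W hWc _ hC
    refine ⟨c, hcW, specializes_iff_mem_closure.2 (hc ▸ ⟨_, mem_irreducibleComponent, rfl⟩), ?_⟩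
    have h1 := hm _ hC
    rw [hcd, hdim] at h1
    exact_mod_cast h1
  obtain ⟨x, hxX, hxz, hxr⟩ := hcmp X r hX hXr hzXY.1
  obtain ⟨y, hyY, hyz, hys⟩ := hcmp Y s hY hYs hzXY.2
  have hle : ∀ {a b}, a ⤳ b → (h a).asIdeal ≤ (h b).asIdeal := fun {a b} hab =>
    (PrimeSpectrum.le_iff_specializes _ _).2 (hab.map h.continuous)
  have hmin : (h z).asIdeal ∈ ((h x).asIdeal ⊔ (h y).asIdeal).minimalPrimes := by
    refine ⟨⟨(h z).isPrime, sup_le (hle hxz) (hle hyz)⟩, fun Q hQ hQP => ?_⟩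
    obtain ⟨w, hw⟩ := h.surjective ⟨Q, hQ.1⟩
    have hsp : ∀ {a b}, (h a).asIdeal ≤ (h b).asIdeal → a ⤳ b := fun {a b} hab =>
      h.isEmbedding.isInducing.specializes_iff.1 ((PrimeSpectrum.le_iff_specializes (h a) (h b)).1 hab)
    have hQ' : (h w).asIdeal = Q := congrArg PrimeSpectrum.asIdeal hw
    have hwX : w ∈ X := (hsp (hQ'.symm ▸ le_sup_left.trans hQ.2)).mem_closed hX hxX
    have hwY : w ∈ Y := (hsp (hQ'.symm ▸ le_sup_right.trans hQ.2)).mem_closed hY hyY
    have hwz : w ⤳ z := hsp (hQ'.symm ▸ hQP)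
    have h1 : Subtype.val '' Z ⊆ closure {w} := by
      rw [← hz]
      exact closure_minimal (Set.singleton_subset_iff.2 (specializes_iff_mem_closure.1 hwz)) isClosed_closure
    have hsub : Z ⊆ closure {(⟨w, hwX, hwY⟩ : ↥(X ∩ Y))} := fun t ht => by
      rw [closure_subtype, Set.image_singleton]
      exact h1 ⟨t, ht, rfl⟩
    have h3 : (⟨w, hwX, hwY⟩ : ↥(X ∩ Y)) ∈ Z :=
      hZ.2 isIrreducible_singleton.closure hsub (subset_closure rfl)
    have hzw : z ⤳ w := specializes_iff_mem_closure.2 (hz ▸ ⟨_, h3, rfl⟩)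
    exact (hle hzw).trans hQ'.le
  have key := Groth.Agent.Lib.ProjDim.Tensor.dimQ_add_le_of_minimalPrimes_sup _ _ _ hmin
  rw [hzdim, hdim]
  rw [hxr, hys] at key
  exact_mod_cast key

end Groth.Agent.S7674
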