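import Groth.Statements.S7675
import Groth.Agent.Lib.ProjDim.Cut

set_option autoImplicit false
universe u
open CategoryTheory CategoryTheory.Limits AlgebraicGeometry
open Variety

namespace Groth.Agent.S7675

open Groth.Agent.Lib.ProjDim.Graded Groth.Agent.Lib.ProjDim.Topology Groth.Agent.Lib.ProjDim.Cut

/-- Let k be a field, n ≥ 0 and X, Y ⊆ P^n_k nonempty closed subsets of dimensions r and s with r + s ≥
n. Then X ∩ Y is nonempty and dim(X ∩ Y) ≥ r + s − n. -/
theorem result (k : Type u) [Field k] (n r s : ℕ)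
    (X Y : Set ↥(CohB1.ProjSpace n k)) (hX : IsClosed X) (hY : IsClosed Y)
    (hXne : X.Nonempty) (hYne : Y.Nonempty)
    (hXr : topologicalKrullDim X = r) (hYs : topologicalKrullDim Y = s) (hrs : n ≤ r + s) :
    (X ∩ Y).Nonempty ∧ ((r + s : ℕ) : WithBot ℕ∞) ≤ topologicalKrullDim ↥(X ∩ Y) + (n : WithBot ℕ∞) := by
  let X' : Set (ProjectiveSpectrum (CohB1.polyGrading n k)) := X
  let Y' : Set (ProjectiveSpectrum (CohB1.polyGrading n k)) := Y
  have hX' : IsClosed X' := hX
  have hY' : IsClosed Y' := hY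
  obtain ⟨x, hx, hxd⟩ := exists_dim_eq hX' hXne
  obtain ⟨y, hy, hyd⟩ := exists_dim_eq hY' hYne
  have hr : r = dp x := by
    have h : topologicalKrullDim ↥X' = r := hXr
    rw [hxd] at h
    exact_mod_cast h.symm
  have hs : s = dp y := by
    have h : topologicalKrullDim ↥Y' = s := hYs
    rw [hyd] at h
    exact_mod_cast h.symm
  obtain ⟨z, hxz, hyz, hz⟩ := exists_mem_inter (x := x) (y := y) (by omega)
  have hzm : z ∈ X' ∩ Y' := ⟨hxz.mem_closed hX' hx, hyz.mem_closed hY' hy⟩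
  refine ⟨⟨z, hzm⟩, ?_⟩
  refine le_trans ?_ (add_le_add (le_dim (hX'.inter hY') hzm) le_rfl)
  rw [← Nat.cast_add]
  exact_mod_cast (by omega : r + s ≤ dp z + n)

end Groth.Agent.S7675
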