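import Groth.Statements.S7680
import Groth.Agent.Lib.DepthTwist.Basic

set_option autoImplicit false
universe u
open CategoryTheory CategoryTheory.Limits AlgebraicGeometry
open Variety

namespace Groth.Agent.S7680

/-- Let X be proper over a field k, L an ample invertible module and F a coherent module with depth(F_x)
≥ 2 for every closed point x. Then H^1(X, F ⊗ L^{⊗m}) = 0 for m ≪ 0; negative powers of L are
written as powers of an inverse M of L. -/
theorem result (k : Type u) [Field k] (X : Scheme.{u}) [X.Over (Spec (CommRingCat.of k))] [IsProper (X ↘ (Spec (CommRingCat.of k)))]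
    (L : X.Modules) (hL : CohB1.IsAmple L) (M : X.Modules) (hM : ClSub.IsInverseOf L M)
    (F : X.Modules) (hF : Coh.IsCoh F)
    (hdepth : ∀ x : X, IsClosed ({x} : Set X) → 2 ≤ LocCoh.depth (X.presheaf.stalk x) (F.presheaf.stalk x)) :
    ∃ m₀ : ℕ, ∀ m : ℕ, m₀ ≤ m →
      Subsingleton (Coh.HH X (CohB1.tensorMod F (CohB1.tensorPow M m)) 1) := by
  obtain ⟨m₀, h⟩ := Groth.Agent.Lib.DepthTwist.Basic.exists_vanish k hL hM hF 1 fun x hx =>
    lt_of_lt_of_le (by norm_num) (hdepth x hx)
  exact ⟨m₀, fun m hm => h m hm 1 le_rfl⟩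

end Groth.Agent.S7680
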