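import Groth.Statements.S7682
import Groth.Agent.H97.PushInt

set_option autoImplicit false
universe u
open CategoryTheory CategoryTheory.Limits AlgebraicGeometry
open Variety

namespace Groth.Agent.S7682

/-- Let f : Y → X be a morphism of proper schemes over a field k, Z ⊆ Y an integral closed subscheme of
dimension d and L_1, …, L_d invertible modules on X. Then (f^*L_1 ⋯ f^*L_d · Z) = deg(Z → f(Z)) ·
(L_1 ⋯ L_d · f(Z)), f(Z) being the scheme-theoretic image and deg the degree of the function field
extension, read as 0 when dim f(Z) < d (equivalently when that extension is infinite). Both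
intersection numbers are the n_1⋯n_d-coefficients of the polynomials computing the corresponding
Euler characteristics. -/
theorem result (k : Type u) [Field k] (X Y : Scheme.{u})
    [X.Over (Spec (CommRingCat.of k))] [Y.Over (Spec (CommRingCat.of k))]
    [IsProper (X ↘ (Spec (CommRingCat.of k)))] [IsProper (Y ↘ (Spec (CommRingCat.of k)))]
    (f : Y ⟶ X) (hf : f ≫ (X ↘ (Spec (CommRingCat.of k))) = Y ↘ (Spec (CommRingCat.of k)))
    (Z : Y.IdealSheafData) [IsIntegral Z.subscheme] (d : ℕ)
    (hZ : topologicalKrullDim (Z.support : Set Y) = d)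
    (L : Fin d → X.Modules) (hL : ∀ i, PicF.IsInvertible (L i))
    (PY PX : MvPolynomial (Fin d) ℚ)
    (hPY : ∀ n : Fin d → ℕ, (Curv2.euler k Y (Curv2.tensorPows (ClSub.quotMod Z) d (fun i => (Scheme.Modules.pullback f).obj (L i)) n) : ℚ) = MvPolynomial.eval (fun i => (n i : ℚ)) PY)
    (hPX : ∀ n : Fin d → ℕ, (Curv2.euler k X (Curv2.tensorPows (ClSub.quotMod (Z.subschemeι ≫ f).ker) d L n) : ℚ) = MvPolynomial.eval (fun i => (n i : ℚ)) PX) :
    MvPolynomial.coeff (Finsupp.equivFunOnFinite.symm fun _ : Fin d => 1) PY =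
      ((Z.subschemeι ≫ f).residueDegree (genericPoint Z.subscheme) : ℚ) *
        MvPolynomial.coeff (Finsupp.equivFunOnFinite.symm fun _ : Fin d => 1) PX := by
  open Groth.Agent.Lib Groth.Agent.Lib.Snapper in
  have := Curves.GlobalSections.isNoetherian_of_proper k X
  have := Curves.GlobalSections.isNoetherian_of_proper k Y
  obtain ⟨N, hN⟩ := DimBound.exists_dim_bound k X
  obtain ⟨N', hN'⟩ := DimBound.exists_dim_bound k Y
  let η := genericPoint Z.subscheme
  let y := Z.subschemeι η
  have hpd : VarDim.Basic.pdim (Y ↘ Spec (CommRingCat.of k)) y = d := by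
    have hg := (genericPoint_spec Z.subscheme).image Z.subschemeι.continuous
    rw [Set.image_univ, Z.range_subschemeι, Z.support.isClosed.closure_eq] at hg
    have h := VarDim.Basic.topologicalKrullDim_isGenericPoint (Y ↘ Spec (CommRingCat.of k)) hg
    rw [hZ] at h
    exact_mod_cast h.symm
  have hY : ClSub.quotMod Z = _root_.Cyc.closureStructureSheaf y := by
    conv_lhs => rw [H97.PushInt.eq_ptIdeal Z]
    rfl
  have hX : ClSub.quotMod (Z.subschemeι ≫ f).ker = _root_.Cyc.closureStructureSheaf (f y) := by
    rw [H97.PushInt.ker_eq_ptIdeal]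
    rfl
  have hFY := Devissage.Closure.isCoh_closureStructureSheaf y
  have hFX := Devissage.Closure.isCoh_closureStructureSheaf (f y)
  have hsY : topologicalKrullDim (CohB1.support (_root_.Cyc.closureStructureSheaf y)) ≤ d := by
    rw [← hY, ClSub.Quot.support_quotMod, hZ]
  have hsX : topologicalKrullDim (CohB1.support (_root_.Cyc.closureStructureSheaf (f y))) ≤ d :=
    (Devissage.Dim.dim_mono (Devissage.Closure.support_closureStructureSheaf (f y))).trans (by
      rw [VarDim.Basic.topologicalKrullDim_isGenericPoint (X ↘ Spec (CommRingCat.of k)) (isGenericPoint_closure (x := f y))]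
      exact_mod_cast hpd ▸ VarDim.Fibre.pdim_apply_le _ _ f hf y)
  rw [hY] at hPY
  rw [hX] at hPX
  have hl : ∀ M ∈ List.ofFn L, PicF.IsInvertible M := fun M hM => by
    obtain ⟨i, rfl⟩ := List.mem_ofFn.1 hM
    exact hL i
  rw [H97.IntMult.coeff_eq_sym hN' hFY hsY (fun i => PicLoc.isInvertible_pullback f (hL i)) hPY,
    H97.IntMult.coeff_eq_sym hN hFX hsX hL hPX,
    show List.ofFn (fun i => (Scheme.Modules.pullback f).obj (L i)) = (List.ofFn L).map (Scheme.Modules.pullback f).obj by
      rw [List.map_ofFn]; rfl,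
    IntTheory.Push.sym_push f hf hN hN' (List.ofFn L) hl _ hFY (by simpa using hsY),
    H97.PushInt.sym_push_closure f hf hN hl (by simpa using hpd),
    H97.PushInt.residueDegree_subschemeι_comp]
  push_cast
  ring

end Groth.Agent.S7682
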