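import Groth.Statements.S7683
import Groth.Agent.S7657
import Groth.Agent.H25.DeltaBaseChange
import Groth.Agent.H52.FBase.StalkBC
import Groth.Agent.Lib.GrpQ.Points
import Groth.Agent.Lib.GeomConn.Residue
import Groth.Agent.H25.NagataStalk
import Groth.Agent.H25.NormRed
import Mathlib.AlgebraicGeometry.Noetherian


set_option autoImplicit false
set_option linter.style.haveILetI false
universe u
open CategoryTheory CategoryTheory.Limits AlgebraicGeometry
open Variety

namespace Groth.Agent.S7683

open scoped TensorProduct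
open IsLocalRing Groth.Agent.H52.FBase

/-- The identity, from the algebra copy of a stalk to the stalk. -/
noncomputable def stalkId {k : Type u} [Field k] {X : Scheme.{u}}
    (f : X ⟶ Spec (CommRingCat.of k)) (x : X) : StalkBC.Ox f x ≃+* X.presheaf.stalk x where
  toFun := id
  invFun := id
  left_inv _ := rfl
  right_inv _ := rfl
  map_mul' _ _ := rfl
  map_add' _ _ := rfl

/-- Compatibility of the maps from the base field to the residue fields. -/
theorem resMap_comp (k : Type u) [Field k] {X N : Scheme.{u}} [X.Over (Spec (CommRingCat.of k))]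
    (ν : N ⟶ X) (x' : N) {x : X} (h : ν.base x' = x) (c : k) :
    letI : N.Over (Spec (CommRingCat.of k)) := ⟨ν ≫ (X ↘ Spec (CommRingCat.of k))⟩
    ν.residueFieldMap x' ((X.residueFieldCongr h).inv (X.residue x (Curv2.stalkMap k X x c))) =
      Curv2.resMap k N x' c := by
  letI : N.Over (Spec (CommRingCat.of k)) := ⟨ν ≫ (X ↘ Spec (CommRingCat.of k))⟩
  subst h
  have hs : CommRingCat.ofHom (Curv2.stalkMap k N x') =
      CommRingCat.ofHom (Curv2.stalkMap k X (ν x')) ≫ ν.stalkMap x' := Spec.map_injective (by
    rw [Spec.map_comp]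
    erw [Lib.GeomConn.Residue.specMap_stalkMap k N x', Lib.GeomConn.Residue.specMap_stalkMap k X (ν x'),
      Scheme.SpecMap_stalkMap_fromSpecStalk_assoc]
    rfl)
  have h1 := congr($(Scheme.residue_residueFieldMap ν x') (Curv2.stalkMap k X (ν x') c))
  have h2 := congr($(hs).hom c)
  simp only [CommRingCat.comp_apply] at h1
  refine Eq.trans ?_ (h1.trans (congrArg (N.residue x') h2.symm))
  simp


/-- Geometric reducedness of the closed points of the normalisation, transferred from the points. -/
theorem isGeometricallyReduced_quot (k A A₀ : Type u) [Field k] [CommRing A] [Algebra k A]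
    [CommRing A₀] [_root_.IsReduced A₀] (e : A ≃+* A₀) (P : Ideal (integralClosure A (FractionRing A))) [P.IsMaximal]
    (H : ∀ m : MaximalSpectrum (CAlg2.normRed A₀), ∃ (F : Type u) (_ : Field F) (_ : Algebra k F),
      Algebra.IsGeometricallyReduced k F ∧ ∃ φ : (CAlg2.normRed A₀ ⧸ m.asIdeal) ≃+* F,
        ∀ c, φ (Brnch.toResidue A₀ m (e (algebraMap k A c))) = algebraMap k F c) :
    Algebra.IsGeometricallyReduced k (integralClosure A (FractionRing A) ⧸ P) := by
  obtain ⟨ε, hε⟩ := H25.NormRed.exists_normRed_equiv A A₀ e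
  let m : MaximalSpectrum (CAlg2.normRed A₀) :=
    ⟨P.map (ε : integralClosure A (FractionRing A) →+* CAlg2.normRed A₀),
      Ideal.IsMaximal.map_bijective _ ε.bijective ‹_›⟩
  obtain ⟨F, _, _, hF, φ, hφ⟩ := H m
  let g : (integralClosure A (FractionRing A) ⧸ P) ≃+* F :=
    (Ideal.quotientEquiv P m.asIdeal ε rfl).trans φ
  let g' : (integralClosure A (FractionRing A) ⧸ P) →ₐ[k] F :=
    { g.toRingHom with
      commutes' := fun c => by
        show φ (Ideal.Quotient.mk m.asIdeal (ε (algebraMap A _ (algebraMap k A c)))) = _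
        rw [hε]
        exact hφ c }
  exact Algebra.IsGeometricallyReduced.of_injective g' g.injective

/-- The residue fields of the points of the normalisation, as quotients of the normalised stalk. -/
theorem normalization_fibre (k : Type u) [Field k] (X : Scheme.{u}) [X.Over (Spec (CommRingCat.of k))]
    [IsIntegral X] [QuasiCompact (X.fromSpecStalk (genericPoint X))]
    [QuasiSeparated (X.fromSpecStalk (genericPoint X))] (x : X)
    (hsep : letI : (Curv2.normalization X).Over (Spec (CommRingCat.of k)) :=
        ⟨Curv2.normalizationι X ≫ (X ↘ (Spec (CommRingCat.of k)))⟩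
      ∀ x' : ↥(Curv2.normalization X), (Curv2.normalizationι X).base x' = x →
        GeometricallyReduced (Spec.map (CommRingCat.ofHom (Curv2.resMap k (Curv2.normalization X) x'))))
    (m : MaximalSpectrum (CAlg2.normRed (X.presheaf.stalk x))) :
    ∃ (F : Type u) (_ : Field F) (_ : Algebra k F),
      Algebra.IsGeometricallyReduced k F ∧
        ∃ φ : (CAlg2.normRed (X.presheaf.stalk x) ⧸ m.asIdeal) ≃+* F,
          ∀ c, φ (Brnch.toResidue _ m (StalkBC.φ (X ↘ Spec (CommRingCat.of k)) x c)) =
            algebraMap k F c := by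
  obtain ⟨_, ⟨U, hU, rfl⟩, hxU, -⟩ :=
    X.isBasis_affineOpens.exists_subset_of_mem_open (Set.mem_univ x) isOpen_univ
  haveI : Nonempty U := ⟨⟨x, hxU⟩⟩
  obtain ⟨Φ, hΦ⟩ := S7657.main X x (hU : IsAffineOpen U) hxU
  obtain ⟨φ, hφ⟩ := hΦ m
  letI : (Curv2.normalization X).Over (Spec (CommRingCat.of k)) :=
    ⟨Curv2.normalizationι X ≫ (X ↘ (Spec (CommRingCat.of k)))⟩
  letI := Curv2.resAlgebra k (Curv2.normalization X) (Φ m).1
  haveI : GeometricallyReduced (Spec.map (CommRingCat.ofHom
      (algebraMap k ((Curv2.normalization X).residueField (Φ m).1)))) := hsep _ (Φ m).2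
  refine ⟨(Curv2.normalization X).residueField (Φ m).1, inferInstance,
    Curv2.resAlgebra k (Curv2.normalization X) (Φ m).1, Lib.GrpQ.isGeometricallyReduced_of_spec,
    φ, fun c => ?_⟩
  have h3 : CommRingCat.ofHom (StalkBC.φ (X ↘ Spec (CommRingCat.of k)) x) =
      CommRingCat.ofHom (Curv2.stalkMap k X x) :=
    Spec.map_injective ((StalkBC.specMap_φ _ x).trans
      (Lib.GeomConn.Residue.specMap_stalkMap k X x).symm)
  rw [show StalkBC.φ (X ↘ Spec (CommRingCat.of k)) x c = Curv2.stalkMap k X x c from
    congr($(h3).hom c), hφ]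
  exact resMap_comp k (Curv2.normalizationι X) (Φ m).1 (Φ m).2 c

/-- Let X be locally of finite type over a field k with normalization ν : X^ν → X, K/k a field
extension, y ∈ X_K a point with image x ∈ X. Assume O_{X,x} is reduced of dimension one, κ(x')/k is
separable for every x' ∈ X^ν over x, and dim O_{X_K,y} = 1. Then the δ-invariant of X at x equals
the δ-invariant of X_K at y. (The published statement needs only O_{X,x} reduced; this row takes X
integral so that X^ν is the normalization of an integral scheme.) -/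
theorem result (k : Type u) [Field k] (X : Scheme.{u}) [X.Over (Spec (CommRingCat.of k))]
    [IsIntegral X] [LocallyOfFiniteType (X ↘ (Spec (CommRingCat.of k)))]
    [QuasiCompact (X.fromSpecStalk (genericPoint X))] [QuasiSeparated (X.fromSpecStalk (genericPoint X))]
    (K : Type u) [Field K] [Algebra k K] (y : ↥(Curv2.bc k X K))
    (hdx : ringKrullDim (X.presheaf.stalk ((Curv2.bcFst k X K).base y)) = 1)
    (hsep : letI : (Curv2.normalization X).Over (Spec (CommRingCat.of k)) :=
        ⟨Curv2.normalizationι X ≫ (X ↘ (Spec (CommRingCat.of k)))⟩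
      ∀ x' : ↥(Curv2.normalization X), (Curv2.normalizationι X).base x' = (Curv2.bcFst k X K).base y →
        GeometricallyReduced (Spec.map (CommRingCat.ofHom (Curv2.resMap k (Curv2.normalization X) x'))))
    (hdy : ringKrullDim ((Curv2.bc k X K).presheaf.stalk y) = 1) :
    Curv2.deltaInv (X.presheaf.stalk ((Curv2.bcFst k X K).base y)) =
      Curv2.deltaInv ((Curv2.bc k X K).presheaf.stalk y) := by
  set f := X ↘ Spec (CommRingCat.of k) with hf
  set x := (Curv2.bcFst k X K).base y with hxdef
  haveI : IsLocallyNoetherian X := LocallyOfFiniteType.isLocallyNoetherian f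
  haveI : IsLocallyNoetherian (Curv2.bc k X K) :=
    LocallyOfFiniteType.isLocallyNoetherian (Curv2.bcSnd k X K)
  let A := StalkBC.Ox f x
  haveI : IsDomain A := inferInstanceAs (IsDomain (X.presheaf.stalk x))
  haveI : IsNoetherianRing A := inferInstanceAs (IsNoetherianRing (X.presheaf.stalk x))
  have hN : CAlg.IsNagata A := H25.NagataStalk.isNagata_stalk f x
  haveI := H97.TotalNorm.finite_integralClosure hN
  haveI : Ring.KrullDimLE 1 A := (Ring.krullDimLE_iff).2 hdx.le
  obtain ⟨q, hq⟩ := StalkBC.exists_j_eq f x K y (specializes_refl _)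
  have hqmax : q.asIdeal.comap (algebraMap A (A ⊗[k] K)) = maximalIdeal A :=
    (StalkBC.j_π_eq_iff f x K q).1 (hq.symm ▸ rfl)
  let e : (Curv2.bc k X K).presheaf.stalk y ≃+*
      Localization.AtPrime (PrimeSpectrum.asIdeal (R := A ⊗[k] K) q) :=
    ((Curv2.bc k X K).presheaf.stalkCongr (.of_eq hq.symm)).commRingCatIsoToRingEquiv.trans
      (StalkBC.stalkEquiv f x K q)
  haveI : IsNoetherianRing (Localization.AtPrime (PrimeSpectrum.asIdeal (R := A ⊗[k] K) q)) :=
    isNoetherianRing_of_ringEquiv _ e
  have hdim : ringKrullDim (Localization.AtPrime (PrimeSpectrum.asIdeal (R := A ⊗[k] K) q)) =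
      ringKrullDim A := by
    rw [← ringKrullDim_eq_of_ringEquiv e, hdy]
    exact hdx.symm
  refine Eq.trans (Eq.symm ?_) (H25.DeltaBaseChange.deltaInv_of_ringEquiv e.symm)
  refine H25.DeltaBaseChange.deltaInv_localization_tensor k A K _ hqmax hdim fun P hP => ?_
  haveI : P.IsMaximal := hP
  exact isGeometricallyReduced_quot k (StalkBC.Ox f x) (X.presheaf.stalk x) (stalkId f x) P
    (normalization_fibre k X x hsep)

end Groth.Agent.S7683
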