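import Groth.Statements.S7686
import Groth.Statements.S7686
import Groth.Agent.H97.IntMult
import Groth.Agent.Lib.SurfInt.Effective
import Groth.Agent.Lib.Devissage.Closure

set_option autoImplicit false
universe u
open CategoryTheory CategoryTheory.Limits AlgebraicGeometry
open Variety

namespace Groth.Agent.S7686

/-- Let X be proper over a field k, Z ⊆ X a closed subscheme of dimension d with irreducible components
Z_i of dimension d (reduced induced structure, generic points ξ_i, multiplicities m_i = length of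
O_{Z,ξ_i} over O_{X,ξ_i}) and L_1, …, L_d invertible modules. Then (L_1 ⋯ L_d · Z) = Σ m_i (L_1 ⋯
L_d · Z_i). Intersection numbers are the n_1⋯n_d-coefficients of the polynomials computing the Euler
characteristics; the sum is written over all points ξ whose closure has dimension d (other terms
vanish). -/
theorem result (k : Type u) [Field k] (X : Scheme.{u}) [X.Over (Spec (CommRingCat.of k))] [IsProper (X ↘ (Spec (CommRingCat.of k)))]
    (D : X.IdealSheafData) (d : ℕ) (hD : topologicalKrullDim (D.support : Set X) = d)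
    (L : Fin d → X.Modules) (hL : ∀ i, PicF.IsInvertible (L i)) (P : MvPolynomial (Fin d) ℚ)
    (hP : ∀ n : Fin d → ℕ, (Curv2.euler k X (Curv2.tensorPows (ClSub.quotMod D) d L n) : ℚ) = MvPolynomial.eval (fun i => (n i : ℚ)) P)
    (Q : X → MvPolynomial (Fin d) ℚ)
    (hQ : ∀ ξ : X, topologicalKrullDim (closure ({ξ} : Set X)) = (d : WithBot ℕ∞) →
      ∀ n : Fin d → ℕ, (Curv2.euler k X (Curv2.tensorPows (ClSub.quotMod (Scheme.IdealSheafData.vanishingIdeal (⟨closure ({ξ} : Set X), isClosed_closure⟩ : TopologicalSpace.Closeds X))) d L n) : ℚ) = MvPolynomial.eval (fun i => (n i : ℚ)) (Q ξ)) :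
    MvPolynomial.coeff (Finsupp.equivFunOnFinite.symm fun _ : Fin d => 1) P =
      ∑ᶠ ξ : X, (if topologicalKrullDim (closure ({ξ} : Set X)) = (d : WithBot ℕ∞) then
        ((Module.length (X.presheaf.stalk ξ) ((ClSub.quotMod D).presheaf.stalk ξ)).toNat : ℚ) *
          MvPolynomial.coeff (Finsupp.equivFunOnFinite.symm fun _ : Fin d => 1) (Q ξ) else 0) := by
  classical
  haveI := Groth.Agent.Lib.Curves.GlobalSections.isNoetherian_of_proper k X
  obtain ⟨N, hN⟩ := Groth.Agent.Lib.Snapper.DimBound.exists_dim_bound k X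
  have hF := Groth.Agent.Lib.SurfInt.Effective.isCoh_quotMod D
  have hsupp : CohB1.support (ClSub.quotMod D) = (D.support : Set X) := Groth.Agent.Lib.ClSub.Quot.support_quotMod D
  have hfinS := Groth.Agent.H97.IntMult.finite_topPts D.support.isClosed hD.le
  have hS : ∀ ξ, ξ ∈ hfinS.toFinset ↔ ξ ∈ Groth.Agent.H97.IntMult.topPts (D.support : Set X) (List.ofFn L).length := by
    intro ξ; rw [Set.Finite.mem_toFinset, List.length_ofFn]
  rw [Groth.Agent.H97.IntMult.coeff_eq_sym hN hF (by rw [hsupp]; exact hD.le) hL hP,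
    Groth.Agent.H97.IntMult.sym_eq_sum hN (fun M hM => by
      obtain ⟨i, rfl⟩ := List.mem_ofFn.1 hM; exact hL i) (T := D.support)
      (by rw [List.length_ofFn]; exact hD.le) hfinS.toFinset hS _ ⟨hF, hsupp.le⟩,
    finsum_eq_sum_of_support_subset _ (s := hfinS.toFinset) ?_]
  · push_cast [Finset.mul_sum]
    refine Finset.sum_congr rfl fun ξ hξ => ?_
    have hξ' := (hfinS.mem_toFinset.1 hξ).2
    rw [if_pos hξ']
    have h := Groth.Agent.H97.IntMult.coeff_eq_sym hN (Groth.Agent.Lib.Devissage.Closure.isCoh_closureStructureSheaf ξ)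
      ((Groth.Agent.Lib.Devissage.Dim.dim_mono (Groth.Agent.Lib.Devissage.Closure.support_closureStructureSheaf ξ)).trans hξ'.le)
      hL (hQ ξ hξ')
    rw [h]
    push_cast
    ring
  · intro ξ hξ
    rw [Function.mem_support] at hξ
    split_ifs at hξ with h
    · rw [Finset.mem_coe, Set.Finite.mem_toFinset]
      refine ⟨?_, h⟩
      by_contra hn
      haveI := Groth.Agent.Lib.Modules.Support.not_mem_support_iff.mp (show ξ ∉ CohB1.support (ClSub.quotMod D) by rw [hsupp]; exact hn)
      exact hξ (by simp [Module.length_eq_zero])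
    · exact absurd rfl hξ

end Groth.Agent.S7686
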