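import Groth.Statements.S7689
import Groth.Agent.Lib.Normalization.CokerStalk
import Groth.Agent.Lib.Excellent.Nagata
import Groth.Agent.Lib.SchTopo.Basic
import Mathlib.AlgebraicGeometry.Morphisms.Finite
import Mathlib.AlgebraicGeometry.Morphisms.Affine

set_option autoImplicit false
universe u
open CategoryTheory CategoryTheory.Limits AlgebraicGeometry
open Variety

namespace Groth.Agent.S7689

open Groth.Agent.Lib.Normalization.Basic Groth.Agent.Lib.Normalization.CokerStalk

/-- Finiteness of the normalization of a Nagata scheme on an affine open. -/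
theorem finite_app (X : Scheme.{u}) [IsIntegral X]
    [QuasiCompact (X.fromSpecStalk (genericPoint X))] [QuasiSeparated (X.fromSpecStalk (genericPoint X))]
    {U : X.Opens} (hU : IsAffineOpen U) [Nonempty U] (hN : CAlg.IsNagata Γ(X, U)) :
    Module.Finite Γ(X, U) (integralClosure Γ(X, U) X.functionField) := by
  have := functionField_isFractionRing_of_isAffineOpen X U hU
  exact Groth.Agent.Lib.Excellent.Nagata.finite_integralClosure_of_isN2
    (Groth.Agent.Lib.Excellent.Nagata.isN2_of_ringEquiv (RingEquiv.quotientBot Γ(X, U)) (hN.2 ⊥))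
    X.functionField X.functionField

/-- A finite birational extension is trivial away from one element. -/
theorem exists_conductor {A K : Type u} [CommRing A] [IsDomain A] [Field K] [Algebra A K]
    [IsFractionRing A K] (h : Module.Finite A (integralClosure A K)) :
    ∃ s : A, s ≠ 0 ∧ ∀ z : integralClosure A K, ∃ a : A,
      algebraMap A (integralClosure A K) s * z = algebraMap A (integralClosure A K) a := by
  classical
  obtain ⟨T, hT⟩ := h.fg_top
  obtain ⟨s, hs⟩ := IsLocalization.exist_integer_multiples_of_finset (nonZeroDivisors A)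
    (T.image Subtype.val)
  refine ⟨s.1, nonZeroDivisors.ne_zero s.2, fun z => ?_⟩
  have hz : z ∈ Submodule.span A (T : Set (integralClosure A K)) := hT ▸ Submodule.mem_top
  induction hz using Submodule.span_induction with
  | mem w hw =>
    obtain ⟨a, ha⟩ := hs (w : K) (Finset.mem_image.2 ⟨w, hw, rfl⟩)
    refine ⟨a, Subtype.ext ?_⟩
    show algebraMap A K s * (w : K) = algebraMap A K a
    rw [ha, Algebra.smul_def]
  | zero => exact ⟨0, by simp⟩
  | add u v _ _ hu hv =>
    obtain ⟨a, ha⟩ := hu
    obtain ⟨b, hb⟩ := hv
    exact ⟨a + b, by rw [mul_add, ha, hb, map_add]⟩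
  | smul c u _ hu =>
    obtain ⟨a, ha⟩ := hu
    exact ⟨c * a, by rw [Algebra.smul_def, mul_left_comm, ha, map_mul]⟩

/-- Away maps of a birational extension killed by one element are bijective. -/
theorem away_map_bijective {A B A' B' : Type u} [CommRing A] [CommRing B] [CommRing A'] [CommRing B']
    [Algebra A A'] [Algebra B B'] (φ : A →+* B) (hφ : Function.Injective φ) (s : A)
    [IsLocalization.Away s A'] [IsLocalization.Away (φ s) B'] (h : ∀ b : B, ∃ a, φ s * b = φ a)
    (ψ : A' →+* B') (hψ : ∀ a, ψ (algebraMap A A' a) = algebraMap B B' (φ a)) :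
    Function.Bijective ψ := by
  refine ⟨(injective_iff_map_eq_zero _).2 fun c hc => ?_, fun c => ?_⟩
  · obtain ⟨⟨a, ⟨_, n, rfl⟩⟩, hac⟩ := IsLocalization.surj (Submonoid.powers s) c
    have h0 : algebraMap B B' (φ a) = 0 := by rw [← hψ, ← hac, map_mul, hc, zero_mul]
    obtain ⟨⟨_, m, rfl⟩, hm⟩ := (IsLocalization.map_eq_zero_iff (Submonoid.powers (φ s)) B' _).1 h0
    have h1 : algebraMap A A' a = 0 := (IsLocalization.map_eq_zero_iff (Submonoid.powers s) A' _).2
      ⟨⟨_, m, rfl⟩, hφ (by simpa using hm)⟩
    rw [h1] at hac
    exact (IsLocalization.map_units A' (⟨_, n, rfl⟩ : Submonoid.powers s)).mul_left_eq_zero.1 hac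
  · obtain ⟨⟨b, ⟨_, n, rfl⟩⟩, hbc⟩ := IsLocalization.surj (Submonoid.powers (φ s)) c
    obtain ⟨a, ha⟩ := h b
    refine ⟨IsLocalization.mk' A' a (⟨s ^ (n + 1), n + 1, rfl⟩ : Submonoid.powers s), ?_⟩
    refine ((IsLocalization.map_units B' (⟨(φ s) ^ (n + 1), n + 1, rfl⟩ :
      Submonoid.powers (φ s))).mul_left_inj).1 ?_
    have e1 : algebraMap B B' ((φ s) ^ (n + 1)) = ψ (algebraMap A A' (s ^ (n + 1))) := by
      rw [hψ, map_pow φ]
    show ψ _ * algebraMap B B' ((φ s) ^ (n + 1)) = c * algebraMap B B' ((φ s) ^ (n + 1))
    rw [show c * algebraMap B B' ((φ s) ^ (n + 1)) = algebraMap B B' (φ s * b) by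
      rw [pow_succ, map_mul, ← mul_assoc, show c * algebraMap B B' (φ s ^ n) = _ from hbc,
        ← map_mul, mul_comm b]]
    rw [ha, e1, ← map_mul, IsLocalization.mk'_spec _ a
      (⟨s ^ (n + 1), n + 1, rfl⟩ : Submonoid.powers s), hψ]

/-- The normalization is an isomorphism over a nonempty open. -/
theorem exists_iso (X : Scheme.{u}) [IsIntegral X]
    [QuasiCompact (X.fromSpecStalk (genericPoint X))] [QuasiSeparated (X.fromSpecStalk (genericPoint X))]
    (hN : ∀ U : X.affineOpens, CAlg.IsNagata Γ(X, (U : X.Opens))) :
    ∃ U : X.Opens, Dense (U : Set X) ∧ IsIso (Curv2.normalizationι X ∣_ U) := by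
  obtain ⟨_, ⟨U, hU, rfl⟩, hxU, -⟩ :=
    X.isBasis_affineOpens.exists_subset_of_mem_open (Set.mem_univ (genericPoint X)) isOpen_univ
  replace hU : IsAffineOpen U := hU
  have : Nonempty U := ⟨⟨_, hxU⟩⟩
  have := functionField_isFractionRing_of_isAffineOpen X U hU
  obtain ⟨s, hs0, hs⟩ := exists_conductor (finite_app X hU (hN ⟨U, hU⟩))
  set ν := Curv2.normalizationι X
  have hV := isAffineOpen_preimage X hU
  refine ⟨X.basicOpen s, ?_, ?_⟩
  · refine (X.basicOpen s).2.dense ?_
    by_contra h
    rw [Set.not_nonempty_iff_eq_empty] at h
    exact hs0 ((AlgebraicGeometry.basicOpen_eq_bot_iff s).1 (TopologicalSpace.Opens.ext h))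
  · rw [isIso_morphismRestrict_iff_isIso_app _ (hU.basicOpen s), ConcreteCategory.isIso_iff_bijective]
    have := hU.isLocalization_basicOpen s
    have := hV.isLocalization_basicOpen (ν.app U s)
    let P := Curv2.normalization X
    let c := P.presheaf.map (eqToHom (Scheme.preimage_basicOpen ν s).symm).op
    have hc : Function.Bijective c := ConcreteCategory.bijective_of_isIso _
    have hkey : Function.Bijective (fun z => c (ν.app (X.basicOpen s) z)) := by
      refine away_map_bijective (ν.app U).hom (app_injective X U) s (fun b => ?_)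
        ((ν.app (X.basicOpen s)) ≫ c).hom fun a => ?_
      · obtain ⟨a, ha⟩ := hs (sectionsEquiv X hU b)
        refine ⟨a, (sectionsEquiv X hU).injective ?_⟩
        rw [map_mul]
        exact (congrArg (· * _) (sectionsEquiv_app X hU s)).trans
          (ha.trans (sectionsEquiv_app X hU a).symm)
      · have hn := congr($(Scheme.Hom.naturality ν (homOfLE (X.basicOpen_le s)).op) a)
        show c (ν.app (X.basicOpen s) (X.presheaf.map (homOfLE (X.basicOpen_le s)).op a)) = _
        simp only [CommRingCat.comp_apply] at hn
        rw [hn]
        exact (ConcreteCategory.congr_hom (P.presheaf.map_comp _ _) _).symm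
    exact (Function.Bijective.of_comp_iff' hc _).1 hkey

/-- For an integral X: let X be an integral Nagata scheme of dimension one (every affine open has a
Nagata coordinate ring) with normalization ν : X^ν → X. Then ν is finite and birational (an
isomorphism over a dense open), O_X ⊆ ν_*O_{X^ν}, and the quotient ν_*O_{X^ν}/O_X is supported at
closed points, its stalk at a closed point x having length equal to the δ-invariant of O_{X,x}. (The
published statement is for reduced Nagata schemes of dimension one; it also says that ν is
surjective and that the quotient is nonzero exactly at the singular points, and it describes the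
stalk A' of ν_*O_{X^ν} at x, namely the integral closure of O_{X,x} in its total fraction ring, a
semi-local ring that is a finite product of Dedekind domains, together with the completions of
O_{X,x} and A'. This row takes X integral, does not restate surjectivity, which holds for the
normalization of every integral scheme, and keeps the finiteness, birationality, injectivity and
length clauses.) -/
theorem result (X : Scheme.{u}) [IsIntegral X]
    [QuasiCompact (X.fromSpecStalk (genericPoint X))] [QuasiSeparated (X.fromSpecStalk (genericPoint X))]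
    (hN : ∀ U : X.affineOpens, CAlg.IsNagata Γ(X, (U : X.Opens))) (hdim : topologicalKrullDim X = 1) :
    IsFinite (Curv2.normalizationι X) ∧
      (∃ U : X.Opens, Dense ((U : Set X)) ∧ IsIso (Curv2.normalizationι X ∣_ U)) ∧
      Mono (ClSub.unitToPush (Curv2.normalizationι X)) ∧
      (∀ x : X, IsClosed ({x} : Set X) →
        Module.length (X.presheaf.stalk x) ((cokernel (ClSub.unitToPush (Curv2.normalizationι X))).presheaf.stalk x) =
          Curv2.deltaInv (X.presheaf.stalk x)) ∧
      (∀ x : X, ¬ IsClosed ({x} : Set X) →
        Subsingleton ((cokernel (ClSub.unitToPush (Curv2.normalizationι X))).presheaf.stalk x)) := by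
  refine ⟨⟨fun U hU => ?_⟩, exists_iso X hN, ?_, fun x hx => ?_, fun x hx => ?_⟩
  · rcases isEmpty_or_nonempty U with hE | hE
    · refine RingHom.Finite.of_surjective _ ?_
      have : U = ⊥ := by
        ext y
        exact ⟨fun hy => (hE.false ⟨y, hy⟩).elim, fun hy => hy.elim⟩
      subst this
      have : Subsingleton Γ(Curv2.normalization X, Curv2.normalizationι X ⁻¹ᵁ ⊥) :=
        inferInstanceAs (Subsingleton Γ(Curv2.normalization X, ⊥))
      exact Function.surjective_to_subsingleton _
    · have h := finite_app X hU (hN ⟨U, hU⟩)
      have e : ((Curv2.normalizationι X).app U).hom =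
          (sectionsEquiv X hU).symm.toRingHom.comp
            (algebraMap Γ(X, U) (integralClosure Γ(X, U) X.functionField)) := by
        ext a
        apply (sectionsEquiv X hU).injective
        show _ = sectionsEquiv X hU ((sectionsEquiv X hU).symm _)
        rw [RingEquiv.apply_symm_apply]
        exact sectionsEquiv_app X hU a
      rw [e]
      exact (RingHom.Finite.of_surjective _ (sectionsEquiv X hU).symm.surjective).comp
        (RingHom.finite_algebraMap.2 h)
  · exact Groth.Agent.Lib.Modules.StalkModule.mono_iff_stalkMapₗ_injective _ |>.2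
      fun x => stalkMap_injective X x
  · obtain ⟨e⟩ := exists_stalk_equiv X x
    exact e.length_eq
  · obtain ⟨e⟩ := exists_stalk_equiv X x
    have hgen : x = genericPoint X := by
      by_contra hne
      obtain ⟨y, hy, hyx⟩ : ∃ y, x ⤳ y ∧ y ≠ x := by
        by_contra hc
        simp only [not_exists, not_and, not_not] at hc
        refine hx (closure_eq_iff_isClosed.1 (Set.Subset.antisymm (fun y hy => ?_) subset_closure))
        exact hc y (specializes_iff_mem_closure.2 hy)
      have h1 : y < x := lt_of_le_not_ge hy fun h => hyx (Inseparable.eq (Specializes.antisymm h hy))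
      have h2 : x < genericPoint X := lt_of_le_not_ge (genericPoint_specializes x)
        fun h => hne (Inseparable.eq (Specializes.antisymm h (genericPoint_specializes x)))
      let l : LTSeries X :=
        { length := 2
          toFun := ![y, x, genericPoint X]
          step := fun i => by fin_cases i <;> assumption }
      have h3 := Order.LTSeries.length_le_krullDim l
      rw [← Groth.Agent.Lib.SchTopo.Basic.topologicalKrullDim_eq_krullDim_scheme, hdim] at h3
      have h4 : l.length = 2 := rfl
      rw [h4] at h3
      have h5 : (2 : ℕ) ≤ 1 := by exact_mod_cast h3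
      omega
    have hF : IsField (X.presheaf.stalk x) := by
      subst hgen
      exact Field.toIsField X.functionField
    have h0 : Curv2.deltaInv (X.presheaf.stalk x) = 0 :=
      Groth.Agent.Lib.Normalization.Delta.deltaInv_eq_zero_of_isField _ hF
    exact Module.length_eq_zero_iff.1 (e.length_eq.trans h0)

end Groth.Agent.S7689
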