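import Groth.Statements.S7690
import Groth.Agent.Lib.Curves.BaseChange
import Groth.Agent.Lib.UnifReg.Bound

set_option autoImplicit false
universe u
open CategoryTheory CategoryTheory.Limits AlgebraicGeometry
open Variety

namespace Groth.Agent.S7690

/-- Let k'/k be a field extension (k' in the universe of k), n ≥ 0, F a coherent module on P^n_k with
pullback F' to P^n_{k'}. For every integer m, F is m-regular exactly when F' is. Here P^n_{k'} is
taken as the base change P^n_k ×_k Spec k' and the m-regularity of F' is spelled out as the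
vanishing of H^i(P^n_{k'}, (F(m − i))') for 1 ≤ i ≤ n, (F(m − i))' being the pullback of F ⊗ O(m −
i). -/
theorem result (k : Type u) [Field k] (n : ℕ)
    (k' : Type u) [Field k'] [Algebra k k'] (F : (CohB1.ProjSpace n k).Modules) (hF : Coh.IsCoh F) (m : ℤ) :
    Curv2.IsMRegular k n F m ↔
      ∀ i : ℕ, 1 ≤ i → i ≤ n →
        Subsingleton (Coh.HH (Curv2.bc k (CohB1.ProjSpace n k) k')
          ((Scheme.Modules.pullback (Curv2.bcFst k (CohB1.ProjSpace n k) k')).obj
            (CohB1.tensorMod F (Twist.twistProjSpace n k (m - i)))) i) := by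
  open Groth.Agent.Lib in
  letI : (Curv2.bc k (CohB1.ProjSpace n k) k').Over (Spec (CommRingCat.of k')) :=
    ⟨Curv2.bcSnd k (CohB1.ProjSpace n k) k'⟩
  have h : IsPullback (Curv2.bcFst k (CohB1.ProjSpace n k) k')
      (Curv2.bc k (CohB1.ProjSpace n k) k' ↘ Spec (CommRingCat.of k'))
      (CohB1.ProjSpace n k ↘ Spec (CommRingCat.of k))
      (Spec.map (CommRingCat.ofHom (algebraMap k k'))) :=
    IsPullback.of_hasPullback _ _
  haveI := Groth.Agent.Lib.UnifReg.Step.isNoetherian_proj n k
  refine forall_congr' fun i => forall_congr' fun _ => forall_congr' fun _ => ?_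
  haveI : (CohB1.tensorMod F (Twist.twistProjSpace n k (m - i))).IsQuasicoherent :=
    (Groth.Agent.Lib.ProjCoh.Coherent.isCoh_tensorMod hF
      (Groth.Agent.Lib.ProjCoh.Coherent.isCoh_tw _)).1
  haveI : Module.Finite k (Coh.HH (CohB1.ProjSpace n k)
      (CohB1.tensorMod F (Twist.twistProjSpace n k (m - i))) i) :=
    Groth.Agent.Lib.UnifReg.Step.fin_tM hF (m - i) i
  obtain ⟨e⟩ := _root_.ZarCoh.FlatBC.Equiv.nonempty_linearEquiv h
    (CohB1.tensorMod F (Twist.twistProjSpace n k (m - i))) i
  constructor
  · intro hs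
    exact e.symm.toEquiv.subsingleton
  · intro hs
    haveI := e.toEquiv.subsingleton
    refine (Module.finrank_zero_iff (R := k)).1 ?_
    exact (Module.finrank_baseChange (R := k')).symm.trans Module.finrank_zero_of_subsingleton

end Groth.Agent.S7690
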