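import Groth.Statements.S8259
import Groth.Agent.Lib.RelProjBasics.Glue

set_option autoImplicit false
universe u
open CategoryTheory CategoryTheory.Limits AlgebraicGeometry Opposite TopologicalSpace
open scoped HomogeneousIdeal
open EGA2

namespace Groth.Agent.S8259

/-- The relative homogeneous spectrum Proj(𝒮) of a quasi-coherent positively graded O_Y-algebra 𝒮 is
separated over Y. -/
theorem result {Y P : Scheme.{u}} (𝒮 : RelProj.QCGrAlg Y) (p : P ⟶ Y)
    (chart : ∀ (U : Y.Opens) (hU : IsAffineOpen U), (((p ⁻¹ᵁ U : P.Opens) : Scheme.{u}) ≅ Proj (𝒮.deg U hU)))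
    (hP : RelProj.IsRelProj 𝒮 p chart) : IsSeparated p := by
  exact Lib.RelProjBasics.Basic.isSeparated hP

end Groth.Agent.S8259
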