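import Groth.Statements.S8260
import Groth.Agent.Lib.RelProjBasics.Glue

set_option autoImplicit false
universe u
open CategoryTheory CategoryTheory.Limits AlgebraicGeometry Opposite TopologicalSpace
open scoped HomogeneousIdeal
open EGA2

namespace Groth.Agent.S8260

/-- If the quasi-coherent positively graded O_Y-algebra 𝒮 is of finite type (over every affine open U of
Y the ring 𝒮(U) is a finitely generated O_Y(U)-algebra), then its relative homogeneous spectrum
Proj(𝒮) is of finite type over Y. -/
theorem result {Y P : Scheme.{u}} (𝒮 : RelProj.QCGrAlg Y)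
    (hft : ∀ (U : Y.Opens) (hU : IsAffineOpen U), (𝒮.str.app (op U)).hom.FiniteType)
    (p : P ⟶ Y)
    (chart : ∀ (U : Y.Opens) (hU : IsAffineOpen U), (((p ⁻¹ᵁ U : P.Opens) : Scheme.{u}) ≅ Proj (𝒮.deg U hU)))
    (hP : RelProj.IsRelProj 𝒮 p chart) : LocallyOfFiniteType p ∧ QuasiCompact p := by
  exact Lib.RelProjBasics.Basic.finiteType hP hft

end Groth.Agent.S8260
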