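import Groth.Statements.S8265
import Groth.Agent.H81.RelProj.Chart
import Groth.Agent.H81.RelProj.Dense
import Mathlib

set_option autoImplicit false
universe u
open CategoryTheory CategoryTheory.Limits AlgebraicGeometry Opposite TopologicalSpace
open scoped HomogeneousIdeal
open EGA2

namespace Groth.Agent.S8265
open Groth.Agent.Lib.RelProjBasics.Basic (chartStr)


/-- Let Y be an integral scheme and 𝒮 a quasi-coherent positively graded O_Y-algebra with 𝒮_0 = O_Y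
which is essentially reduced (affine-locally, every nilpotent element of the irrelevant ideal of
𝒮(U) vanishes). If Proj(𝒮) is integral and dominant over Y, then 𝒮 is integral: over every nonempty
affine open U, 𝒮(U) is an integral domain with nonzero irrelevant ideal (for Y integral, the
affine-local form of the stalkwise condition of the text). -/
theorem result {Y P : Scheme.{u}} [IsIntegral Y] (𝒮 : RelProj.QCGrAlg Y)
    (h0 : ∀ (U : Y.Opens) (hU : IsAffineOpen U), Function.Bijective (𝒮.strZero U hU).hom)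
    (hred : ∀ (U : Y.Opens) (hU : IsAffineOpen U) (x : 𝒮.presheaf.obj (op U)),
      x ∈ (𝒮.deg U hU)₊ → IsNilpotent x → x = 0)
    (p : P ⟶ Y)
    (chart : ∀ (U : Y.Opens) (hU : IsAffineOpen U), (((p ⁻¹ᵁ U : P.Opens) : Scheme.{u}) ≅ Proj (𝒮.deg U hU)))
    (hP : RelProj.IsRelProj 𝒮 p chart) [IsIntegral P] (hdom : DenseRange p.base)
    (U : Y.Opens) (hU : IsAffineOpen U) (hne : (U : Set Y).Nonempty) :
    IsDomain (𝒮.presheaf.obj (op U)) ∧ ((𝒮.deg U hU)₊).toIdeal ≠ ⊥ := by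
  classical
  haveI : Nonempty U := hne.to_subtype
  let A := 𝒮.presheaf.obj (op U)
  let 𝒜 := 𝒮.deg U hU
  let e : Proj 𝒜 ⟶ P := (chart U hU).inv ≫ (p ⁻¹ᵁ U).ι
  haveI : IsOpenImmersion e := inferInstanceAs (IsOpenImmersion ((chart U hU).inv ≫ (p ⁻¹ᵁ U).ι))
  have hep : e ≫ p = chartStr 𝒮 U hU ≫ hU.fromSpec := by
    simp only [e, chartStr, Category.assoc]
    rw [← hP.chart_over U hU, Iso.inv_hom_id_assoc]
  -- two basic opens cannot be disjoint
  have meet : ∀ (a : A) (O : P.Opens), (∃ x : Proj 𝒜, x ∈ Proj.basicOpen 𝒜 a) → (O : Set P).Nonempty →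
      ∃ x : Proj 𝒜, x ∈ Proj.basicOpen 𝒜 a ∧ e x ∈ O := by
    rintro a O ⟨x, hx⟩ hO
    obtain ⟨_, ⟨z, hz, rfl⟩, hzO⟩ := nonempty_preirreducible_inter
      (e.isOpenEmbedding.isOpenMap _ (Proj.basicOpen 𝒜 a).2) O.2 ⟨_, x, hx, rfl⟩ hO
    exact ⟨z, hz, hzO⟩
  have npos : ∀ {i : ℕ} (a : A), 0 < i → a ∈ 𝒜 i → a ≠ 0 → ∃ x : Proj 𝒜, x ∈ Proj.basicOpen 𝒜 a := by
    intro i a hi ha hne0
    refine H81.RelProj.Dense.nonempty_basicOpen hi ha fun hn => hne0 (hred U hU a ?_ hn)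
    exact HomogeneousIdeal.mem_irrelevant_of_mem _ hi ha
  have pospos : ∀ {i j : ℕ} (a b : A), 0 < i → 0 < j → a ∈ 𝒜 i → b ∈ 𝒜 j → a * b = 0 → a = 0 ∨ b = 0 := by
    intro i j a b hi hj ha hb hab
    by_contra! h
    obtain ⟨y, hy⟩ := npos b hj hb h.2
    obtain ⟨x, hxa, hxO⟩ := meet a (e ''ᵁ Proj.basicOpen 𝒜 b) (npos a hi ha h.1) ⟨_, y, hy, rfl⟩
    obtain ⟨x', hx', hxx⟩ := hxO
    obtain rfl := e.isOpenEmbedding.injective hxx
    have : x' ∈ Proj.basicOpen 𝒜 (a * b) := by rw [Proj.basicOpen_mul]; exact ⟨hxa, hx'⟩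
    rw [hab, Proj.basicOpen_zero] at this
    exact this
  have zeropos : ∀ {j : ℕ} (a b : A), 0 < j → a ∈ 𝒜 0 → b ∈ 𝒜 j → a * b = 0 → a = 0 ∨ b = 0 := by
    intro j a b hj ha hb hab
    by_contra! h
    obtain ⟨r, hr⟩ := (h0 U hU).2 ⟨a, ha⟩
    have hra : ((𝒮.strZero U hU).hom r : A) = a := congrArg Subtype.val hr
    have hr0 : r ≠ 0 := by
      rintro rfl
      rw [map_zero] at hra
      exact h.1 hra.symm
    have hbo : ((Y.basicOpen r : Y.Opens) : Set Y).Nonempty := by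
      refine Set.nonempty_iff_ne_empty.mpr fun hem => hr0 ?_
      exact (AlgebraicGeometry.basicOpen_eq_bot_iff r).mp (Opens.ext hem)
    obtain ⟨z, hz⟩ := hdom.exists_mem_open (Y.basicOpen r).2 hbo
    obtain ⟨x, hxb, hxO⟩ := meet b (p ⁻¹ᵁ Y.basicOpen r) (npos b hj hb h.2) ⟨z, hz⟩
    have hx2 : x ∈ chartStr 𝒮 U hU ⁻¹ᵁ PrimeSpectrum.basicOpen r := by
      rw [← hU.fromSpec_preimage_basicOpen r, ← Scheme.Hom.comp_preimage, ← hep, Scheme.Hom.comp_preimage]
      exact hxO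
    rw [H81.RelProj.Chart.preimage_eq_opensRange 𝒮 hU r] at hx2
    obtain ⟨w, hw⟩ := hx2
    have hunit : IsUnit (𝒮.res hU (hU.basicOpen r) (Y.basicOpen_le r) a) := by
      rw [← hra]
      letI := (𝒮.presheaf.map (homOfLE (Y.basicOpen_le r)).op).hom.toAlgebra
      haveI : IsLocalization.Away ((𝒮.str.app (op U)).hom r) (𝒮.presheaf.obj (op (Y.basicOpen r))) := 𝒮.isQC U hU r
      exact IsLocalization.Away.algebraMap_isUnit ((𝒮.str.app (op U)).hom r)
    have hxa : x ∈ Proj.basicOpen 𝒜 a := by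
      rw [← hw]
      show w ∈ H81.RelProj.Chart.ρ 𝒮 hU r ⁻¹ᵁ Proj.basicOpen 𝒜 a
      erw [Proj.map_preimage_basicOpen]
      refine Proj.basicOpen_mono _ _ _ (isUnit_iff_dvd_one.mp hunit) ?_
      rw [Proj.basicOpen_one]
      trivial
    have : x ∈ Proj.basicOpen 𝒜 (a * b) := by rw [Proj.basicOpen_mul]; exact ⟨hxa, hxb⟩
    rw [hab, Proj.basicOpen_zero] at this
    exact this
  haveI : Nontrivial (𝒜 0) := (h0 U hU).1.nontrivial
  haveI : Nontrivial A := Subtype.val_injective.nontrivial (α := 𝒜 0)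
  haveI : NoZeroDivisors (𝒜 0) := by
    refine ⟨fun {a b} hab => ?_⟩
    obtain ⟨r, rfl⟩ := (h0 U hU).2 a
    obtain ⟨s, rfl⟩ := (h0 U hU).2 b
    rw [← map_mul] at hab
    rcases mul_eq_zero.mp ((map_eq_zero_iff _ (h0 U hU).1).mp hab) with h | h <;> simp [h]
  refine ⟨?_, ?_⟩
  · haveI : (⊥ : Ideal A).IsPrime := by
      refine (Ideal.IsHomogeneous.bot 𝒜).isPrime_of_homogeneous_mem_or_mem bot_ne_top ?_
      rintro a b ⟨i, ha⟩ ⟨j, hb⟩ hab
      simp only [Ideal.mem_bot] at hab ⊢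
      rcases Nat.eq_zero_or_pos i with rfl | hi <;> rcases Nat.eq_zero_or_pos j with rfl | hj
      · have := mul_eq_zero.mp (show (⟨a, ha⟩ : 𝒜 0) * ⟨b, hb⟩ = 0 from Subtype.ext hab)
        exact this.imp (congrArg Subtype.val) (congrArg Subtype.val)
      · exact zeropos a b hj ha hb hab
      · exact (zeropos b a hi hb ha (by rw [mul_comm]; exact hab)).symm
      · exact pospos a b hi hj ha hb hab
    exact IsDomain.of_bot_isPrime A
  · intro hbot
    obtain ⟨z, hz⟩ := hdom.exists_mem_open U.2 hne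
    exact ((chart U hU).hom ⟨z, hz⟩).not_irrelevant_le fun a ha => by
      have : a ∈ (⊥ : Ideal A) := hbot ▸ ha
      rw [Ideal.mem_bot.mp this]
      exact zero_mem _

end Groth.Agent.S8265
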