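import Groth.Statements.S8267
import Groth.Agent.Lib.SymAlg.Affine
import Groth.Agent.Lib.CohBasics.Affine

set_option autoImplicit false
universe u
open CategoryTheory CategoryTheory.Limits AlgebraicGeometry Opposite TopologicalSpace
open EGA2

namespace Groth.Agent.S8267

/-- Let E be a quasi-coherent O_S-module of finite type and A (through j : E → A) its symmetric algebra.
Then the vector bundle V(E) = Spec(A) is of finite type over S, i.e. its (affine) structure morphism
is locally of finite type. -/
theorem result {S : Scheme.{u}} (E : S.Modules) (hE : Coh.IsCoh E)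
    (A : RelSpec.QCAlg S) (j : E ⟶ A.toModule) (hA : RelSpec.IsSymAlg E A j) :
    LocallyOfFiniteType A.π := by
  obtain ⟨hq, hft⟩ := hE
  haveI := hq
  haveI := hft
  refine Groth.Agent.Lib.SymAlg.Affine.of_str (P := @LocallyOfFiniteType) A fun U hU => ?_
  letI := Groth.Agent.Lib.SymAlg.Unique.algInst A U
  have hs := Groth.Agent.Lib.SymAlg.Unique.isSymmetricAlgebra hA hU
  obtain ⟨T, hT⟩ := (Groth.Agent.Lib.CohBasics.Affine.finite_sections (M := E) hU).fg_top
  classical
  refine RingHom.finiteType_algebraMap.2 (⟨⟨T.image (Groth.Agent.Lib.SymAlg.Unique.jLin A j U), eq_top_iff.2 fun a ha => ?_⟩⟩ : Algebra.FiniteType _ _)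
  clear ha
  induction a using hs.induction with
  | algebraMap r => exact Subalgebra.algebraMap_mem _ r
  | ι e =>
    have he : e ∈ Submodule.span Γ(S, U) (T : Set Γ(E, U)) := hT ▸ Submodule.mem_top
    induction he using Submodule.span_induction with
    | mem e he => exact Algebra.subset_adjoin (Finset.mem_image_of_mem _ he)
    | zero => rw [map_zero]; exact Subalgebra.zero_mem _
    | add e e' _ _ h h' => rw [map_add]; exact Subalgebra.add_mem _ h h'
    | smul r e _ h => rw [LinearMap.map_smul]; exact Subalgebra.smul_mem _ h r
  | mul x y hx hy => exact Subalgebra.mul_mem _ hx hy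
  | add x y hx hy => exact Subalgebra.add_mem _ hx hy

end Groth.Agent.S8267
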