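import Groth.Statements.S8268
import Groth.Agent.Lib.SymAlg.Sections
import Groth.Agent.Lib.QCoh.Closure

set_option autoImplicit false
universe u
open CategoryTheory CategoryTheory.Limits AlgebraicGeometry Opposite TopologicalSpace
open EGA2

namespace Groth.Agent.S8268

/-- A surjective homomorphism E → F of quasi-coherent O_S-modules induces a closed immersion V(F) → V(E)
of the associated vector bundles (relative spectra of the symmetric algebras; the algebra map A → B
is the one extending E → F). -/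
theorem result {S : Scheme.{u}} (E F : S.Modules) (hE : Coh.IsQCoh E)
    (hF : Coh.IsQCoh F) (u : E ⟶ F) [Epi u]
    (A B : RelSpec.QCAlg S) (j : E ⟶ A.toModule) (k : F ⟶ B.toModule)
    (hA : RelSpec.IsSymAlg E A j) (hB : RelSpec.IsSymAlg F B k)
    (ψ : A ⟶ B) (hψ : j ≫ RelSpec.QCAlg.Hom.toModuleMap ψ = u ≫ k) :
    IsClosedImmersion (RelSpec.QCAlg.specMap ψ) := by
  open Groth.Agent.Lib Groth.Agent.Lib.SymAlg in
  haveI : E.IsQuasicoherent := hE
  haveI : F.IsQuasicoherent := hF
  refine IsZariskiLocalAtTarget.of_openCover (P := @IsClosedImmersion)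
    (Groth.Agent.Lib.SymAlg.Sections.chartCover A (fun U : S.affineOpens => U.1) (fun U => U.2)
      (iSup_affineOpens_eq_top S)) fun U => ?_
  have hsurj : Function.Surjective (ψ.hom.app (Opposite.op U.1)) := fun b => by
    obtain ⟨b', rfl⟩ := (Groth.Agent.Lib.SymAlg.Sections.cmp_bijective hB U.2).2 b
    induction b' using SymmetricAlgebra.induction with
    | algebraMap r =>
      refine ⟨A.str.app (Opposite.op U.1) r, ?_⟩
      rw [Groth.Agent.Lib.SymAlg.Sections.cmp_algebraMap]
      exact congr($(NatTrans.congr_app ψ.comm (Opposite.op U.1)) r)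
    | ι m =>
      obtain ⟨x, rfl⟩ := Groth.Agent.Lib.QCoh.Closure.sections_surjective_of_epi u U.2 m
      refine ⟨j.app U.1 x, ?_⟩
      rw [Groth.Agent.Lib.SymAlg.Sections.cmp_ι]
      exact congrArg (fun φ => φ.app U.1 x) hψ
    | mul a b ha hb =>
      obtain ⟨a', ha⟩ := ha
      obtain ⟨b', hb⟩ := hb
      exact ⟨a' * b', by rw [map_mul, map_mul, ha, hb]⟩
    | add a b ha hb =>
      obtain ⟨a', ha⟩ := ha
      obtain ⟨b', hb⟩ := hb
      exact ⟨a' + b', by rw [map_add, map_add, ha, hb]⟩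
  haveI hci : IsClosedImmersion (Spec.map (ψ.hom.app (Opposite.op U.1))) := IsClosedImmersion.spec_of_surjective _ hsurj
  have hp := Groth.Agent.Lib.SymAlg.Sections.isPullback_chart ψ U.1 U.2
  have hfac : (A.ι U.1 U.2).opensRange.ι = (A.ι U.1 U.2).isoOpensRange.inv ≫ A.ι U.1 U.2 := by simp
  have hp2 : IsPullback (B.ι U.1 U.2) (Spec.map (ψ.hom.app (Opposite.op U.1)) ≫ (A.ι U.1 U.2).isoOpensRange.hom)
      (RelSpec.QCAlg.specMap ψ) (A.ι U.1 U.2).opensRange.ι := by
    refine hp.of_iso (Iso.refl _) (Iso.refl _) (A.ι U.1 U.2).isoOpensRange (Iso.refl _) ?_ ?_ ?_ ?_ <;> simp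
  show IsClosedImmersion (pullback.snd (RelSpec.QCAlg.specMap ψ) (A.ι U.1 U.2).opensRange.ι)
  rw [← hp2.isoPullback_inv_snd]
  infer_instance

end Groth.Agent.S8268
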