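import Groth.Statements.S8269
import Groth.Agent.Lib.SymAlg.Sections
import Groth.Agent.Lib.AffAlgBij.Basic
import Groth.Agent.Lib.RelSpecBasics.Gamma
import Groth.Agent.S4353
import Groth.Agent.S4354

set_option autoImplicit false
universe u
open CategoryTheory CategoryTheory.Limits AlgebraicGeometry Opposite TopologicalSpace
open EGA2

namespace Groth.Agent.S8269

/-- Let Y be either a quasi-compact separated scheme or a scheme with Noetherian underlying space, and X
affine and of finite type over Y. Then X is Y-isomorphic to a closed subscheme of a vector bundle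
V(E) with E a quasi-coherent O_Y-module of finite type: there are such an E, its symmetric algebra
A, and a closed immersion X → Spec(A) over Y. -/
theorem result {X Y : Scheme.{u}}
    (hY : (CompactSpace Y ∧ Y.IsSeparated) ∨ NoetherianSpace Y) (f : X ⟶ Y) [IsAffineHom f]
    [LocallyOfFiniteType f] :
    ∃ (E : Y.Modules) (_ : Coh.IsCoh E) (A : RelSpec.QCAlg Y) (j : E ⟶ A.toModule)
      (_ : RelSpec.IsSymAlg E A j) (i : X ⟶ A.spec), IsClosedImmersion i ∧ i ≫ A.π = f := by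
  open Groth.Agent.Lib Opposite in
  let B := RelSpec.QCAlg.directImage f
  have hB : ∀ U : Y.affineOpens, (B.str.app (Opposite.op (U : Y.Opens))).hom.FiniteType := fun U => by
    have h1 := LocallyOfFiniteType.finiteType_appLE f U.2 (U.2.preimage f) le_rfl
    rwa [Scheme.Hom.appLE_eq_app] at h1
  obtain ⟨E, jE, -, hEq, hEft, hgen⟩ : ∃ (E : Y.Modules) (j : E ⟶ B.toModule), Mono j ∧ Coh.IsQCoh E ∧ CohB1.IsFT E ∧
      ∀ U : Y.affineOpens,
        Subring.closure (Set.range (B.str.app (Opposite.op (U : Y.Opens))).hom ∪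
          Set.range (fun e : E.val.obj (Opposite.op (U : Y.Opens)) ↦
            (show B.presheaf.obj (Opposite.op (U : Y.Opens)) from (j.val.app (Opposite.op (U : Y.Opens))).hom e))) = ⊤ := by
    rcases hY with ⟨hc, hs⟩ | hn
    · haveI := hc; haveI := hs
      exact Groth.Agent.S4354.result B hB
    · haveI := hn
      exact Groth.Agent.S4353.result B hB
  haveI : E.IsQuasicoherent := hEq
  obtain ⟨A, j, hA⟩ := Groth.Agent.Lib.SymAlg.Main.exists_isSymAlg E
  obtain ⟨ψ, hψ, -⟩ := hA B jE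
  have hsurj : ∀ U : Y.affineOpens, Function.Surjective (ψ.hom.app (Opposite.op (U : Y.Opens))) := fun U => by
    intro y
    have hy : y ∈ Subring.closure (Set.range (B.str.app (Opposite.op (U : Y.Opens))).hom ∪
        Set.range (fun e : E.val.obj (Opposite.op (U : Y.Opens)) ↦
          (show B.presheaf.obj (Opposite.op (U : Y.Opens)) from (jE.val.app (Opposite.op (U : Y.Opens))).hom e))) := by
      rw [hgen U]; trivial
    refine (Subring.closure_le (t := (ψ.hom.app (Opposite.op (U : Y.Opens))).hom.range)).2 ?_ hy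
    rintro _ (⟨r, rfl⟩ | ⟨e, rfl⟩)
    · exact ⟨A.str.app (Opposite.op (U : Y.Opens)) r, congr($(NatTrans.congr_app ψ.comm (Opposite.op (U : Y.Opens))) r)⟩
    · exact ⟨j.app U.1 e, congrArg (fun φ => φ.app U.1 e) hψ⟩
  obtain ⟨⟨i, hi⟩, hω⟩ := Groth.Agent.Lib.AffAlgBij.surjective (f := A.π) (g := f)
    ⟨A.gammaMap ≫ ψ.hom, by rw [← Category.assoc, A.π_c_gammaMap]; exact ψ.comm⟩
  have hω' : AffAlg.algHom A.π f i hi = A.gammaMap ≫ ψ.hom := congrArg Subtype.val hω
  refine ⟨E, ⟨hEq, hEft⟩, A, j, hA, i, ?_, hi⟩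
  refine (HasAffineProperty.iff_of_iSup_eq_top (P := @IsClosedImmersion)
    (fun U : Y.affineOpens => ⟨A.π ⁻¹ᵁ U.1, U.2.preimage A.π⟩) (top_le_iff.1 fun x _ => ?_)).2 fun U => ⟨?_, ?_⟩
  · obtain ⟨U, hU⟩ := TopologicalSpace.Opens.mem_iSup.1 ((iSup_affineOpens_eq_top Y).ge
      (show A.π x ∈ (⊤ : Y.Opens) from trivial))
    exact TopologicalSpace.Opens.mem_iSup.2 ⟨U, hU⟩
  · show IsAffineOpen (i ⁻¹ᵁ (A.π ⁻¹ᵁ U.1))
    rw [← Scheme.Hom.comp_preimage, hi]
    exact U.2.preimage f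
  · have h1 := Groth.Agent.Lib.AffAlgBij.algHom_app i hi U.1
    rw [hω'] at h1
    haveI : IsIso (A.gammaMap.app (Opposite.op U.1)) := by
      rw [A.gammaMap_app U.1 U.2]
      exact Groth.Agent.Lib.RelSpecBasics.Gamma.isIso_gammaAff A U.1 U.2
    have h2 : Function.Surjective (i.appLE (A.π ⁻¹ᵁ U.1) (f ⁻¹ᵁ U.1)
        (Groth.Agent.Lib.AffAlgBij.le_preimage i hi U.1)) := by
      rw [← h1]
      exact (hsurj U).comp (ConcreteCategory.bijective_of_isIso (A.gammaMap.app (Opposite.op U.1))).2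
    have h3 : Function.Surjective ((i.resLE (A.π ⁻¹ᵁ U.1) (f ⁻¹ᵁ U.1)
        (Groth.Agent.Lib.AffAlgBij.le_preimage i hi U.1)).appTop) := by
      rw [show (i.resLE _ _ (Groth.Agent.Lib.AffAlgBij.le_preimage i hi U.1)).appTop =
          (A.π ⁻¹ᵁ U.1).topIso.hom ≫ i.appLE (A.π ⁻¹ᵁ U.1) (f ⁻¹ᵁ U.1)
            (Groth.Agent.Lib.AffAlgBij.le_preimage i hi U.1) ≫ (f ⁻¹ᵁ U.1).topIso.inv from Scheme.Hom.resLE_app_top _ _]
      exact ((ConcreteCategory.bijective_of_isIso (f ⁻¹ᵁ U.1).topIso.inv).2.comp h2).comp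
        (ConcreteCategory.bijective_of_isIso (A.π ⁻¹ᵁ U.1).topIso.hom).2
    have he : f ⁻¹ᵁ U.1 = i ⁻¹ᵁ (A.π ⁻¹ᵁ U.1) := by rw [← Scheme.Hom.comp_preimage, hi]
    revert h3
    generalize Groth.Agent.Lib.AffAlgBij.le_preimage i hi U.1 = e
    revert e
    rw [he]
    intro e h3
    rwa [Scheme.Hom.resLE_eq_morphismRestrict] at h3

end Groth.Agent.S8269
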