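import Groth.Statements.S8271
import Groth.Agent.Lib.SymAlg.Sections
import Groth.Agent.Lib.QCoh.Closure

set_option autoImplicit false
universe u
open CategoryTheory CategoryTheory.Limits AlgebraicGeometry Opposite TopologicalSpace
open EGA2

namespace Groth.Agent.S8271

open Groth.Agent.Lib.SymAlg Opposite in
/-- Over an affine open the symmetric algebra of a sum is a pushout. -/
theorem isPushout {S : Scheme.{u}} {E F : S.Modules} [E.IsQuasicoherent] [F.IsQuasicoherent] [(E ⊞ F).IsQuasicoherent]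
    {AE AF A : RelSpec.QCAlg S} {jE : E ⟶ AE.toModule} {jF : F ⟶ AF.toModule} {j : E ⊞ F ⟶ A.toModule}
    (hAE : RelSpec.IsSymAlg E AE jE) (hAF : RelSpec.IsSymAlg F AF jF) (hA : RelSpec.IsSymAlg (E ⊞ F) A j)
    {ψE : AE ⟶ A} {ψF : AF ⟶ A}
    (hψE : jE ≫ RelSpec.QCAlg.Hom.toModuleMap ψE = biprod.inl ≫ j)
    (hψF : jF ≫ RelSpec.QCAlg.Hom.toModuleMap ψF = biprod.inr ≫ j) {U : S.Opens} (hU : IsAffineOpen U) :
    IsPushout (AE.str.app (op U)) (AF.str.app (op U)) (ψE.hom.app (op U)) (ψF.hom.app (op U)) := by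
  have w : AE.str.app (op U) ≫ ψE.hom.app (op U) = AF.str.app (op U) ≫ ψF.hom.app (op U) := by
    rw [← NatTrans.comp_app, ← NatTrans.comp_app, ψE.comm, ψF.comm]
  let e := RingEquiv.ofBijective (Sections.cmp A j U) (Sections.cmp_bijective hA hU)
  have htot : ∀ m : Γ(E ⊞ F, U), m = (biprod.inl : E ⟶ E ⊞ F).app U ((biprod.fst : E ⊞ F ⟶ E).app U m) +
      (biprod.inr : F ⟶ E ⊞ F).app U ((biprod.snd : E ⊞ F ⟶ F).app U m) := fun m =>
    (congrArg (fun φ => φ.app U m) (biprod.total (X := E) (Y := F))).symm.trans rfl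
  have hdesc : ∀ s : PushoutCocone (AE.str.app (op U)) (AF.str.app (op U)),
      ∃ D : SymmetricAlgebra Γ(S, U) Γ(E ⊞ F, U) →+* s.pt,
        (∀ r, D (algebraMap Γ(S, U) _ r) = s.inl (AE.str.app (op U) r)) ∧
        ∀ m, D (SymmetricAlgebra.ι Γ(S, U) Γ(E ⊞ F, U) m) =
          s.inl (jE.app U ((biprod.fst : E ⊞ F ⟶ E).app U m)) + s.inr (jF.app U ((biprod.snd : E ⊞ F ⟶ F).app U m)) := by
    intro s
    letI : Algebra Γ(S, U) s.pt := (AE.str.app (op U) ≫ s.inl).hom.toAlgebra
    refine ⟨(SymmetricAlgebra.lift ({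
        toFun := fun m =>
          s.inl (jE.app U ((biprod.fst : E ⊞ F ⟶ E).app U m)) + s.inr (jF.app U ((biprod.snd : E ⊞ F ⟶ F).app U m))
        map_add' := fun a b => by
          rw [map_add, map_add, map_add, map_add]
          exact (congrArg₂ (· + ·) (map_add s.inl.hom _ _) (map_add s.inr.hom _ _)).trans (add_add_add_comm _ _ _ _)
        map_smul' := fun r m => by
          rw [Scheme.Modules.Hom.app_smul, Scheme.Modules.Hom.app_smul, Scheme.Modules.Hom.app_smul,
            Scheme.Modules.Hom.app_smul, RingHom.id_apply, Algebra.smul_def, mul_add]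
          refine congrArg₂ (· + ·) ((map_mul s.inl.hom _ _).trans rfl) ((map_mul s.inr.hom _ _).trans ?_)
          exact congrArg (· * _) (congr($(s.condition) r)).symm } :
          Γ(E ⊞ F, U) →ₗ[Γ(S, U)] s.pt)).toRingHom, fun r => AlgHom.commutes _ r, fun m => SymmetricAlgebra.lift_ι_apply _ m⟩
  choose D hD₁ hD₂ using hdesc
  refine ⟨⟨w⟩, ⟨PushoutCocone.IsColimit.mk w (fun s => CommRingCat.ofHom ((D s).comp e.symm.toRingHom))
    (fun s => ?_) (fun s => ?_) (fun s g hg₁ hg₂ => ?_)⟩⟩
  · refine CommRingCat.hom_ext (RingHom.ext fun y => ?_)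
    obtain ⟨y, rfl⟩ := (Sections.cmp_bijective hAE hU).2 y
    show D s (e.symm (ψE.hom.app (op U) (Sections.cmp AE jE U y))) = s.inl (Sections.cmp AE jE U y)
    have key : ((D s).comp (e.symm.toRingHom.comp ((ψE.hom.app (op U)).hom.comp (Sections.cmp AE jE U)))) =
        s.inl.hom.comp (Sections.cmp AE jE U) := by
      refine Loc.ringHom_ext (fun r => ?_) fun m => ?_
      · show D s (e.symm (ψE.hom.app (op U) (Sections.cmp AE jE U _))) = s.inl (Sections.cmp AE jE U _)
        rw [Sections.cmp_algebraMap]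
        erw [congr($(NatTrans.congr_app ψE.comm (op U)) r)]
        rw [show A.str.app (op U) r = e (algebraMap _ _ r) from (Sections.cmp_algebraMap A j U r).symm,
          RingEquiv.symm_apply_apply, hD₁]
      · show D s (e.symm (ψE.hom.app (op U) (Sections.cmp AE jE U _))) = s.inl (Sections.cmp AE jE U _)
        rw [Sections.cmp_ι]
        erw [congrArg (fun φ => φ.app U m) hψE]
        rw [show (biprod.inl ≫ j).app U m = e (SymmetricAlgebra.ι _ _ ((biprod.inl : E ⟶ E ⊞ F).app U m)) from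
          (Sections.cmp_ι A j U _).symm, RingEquiv.symm_apply_apply, hD₂]
        have h1 := congrArg (fun φ => φ.app U m) (biprod.inl_fst (X := E) (Y := F))
        have h2 := congrArg (fun φ => φ.app U m) (biprod.inl_snd (X := E) (Y := F))
        change (biprod.fst : E ⊞ F ⟶ E).app U ((biprod.inl : E ⟶ E ⊞ F).app U m) = m at h1
        change (biprod.snd : E ⊞ F ⟶ F).app U ((biprod.inl : E ⟶ E ⊞ F).app U m) = 0 at h2
        rw [h1, h2, map_zero]
        exact (congrArg (_ + ·) (map_zero s.inr.hom)).trans (add_zero _)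
    exact RingHom.congr_fun key y
  · refine CommRingCat.hom_ext (RingHom.ext fun y => ?_)
    obtain ⟨y, rfl⟩ := (Sections.cmp_bijective hAF hU).2 y
    show D s (e.symm (ψF.hom.app (op U) (Sections.cmp AF jF U y))) = s.inr (Sections.cmp AF jF U y)
    have key : ((D s).comp (e.symm.toRingHom.comp ((ψF.hom.app (op U)).hom.comp (Sections.cmp AF jF U)))) =
        s.inr.hom.comp (Sections.cmp AF jF U) := by
      refine Loc.ringHom_ext (fun r => ?_) fun m => ?_
      · show D s (e.symm (ψF.hom.app (op U) (Sections.cmp AF jF U _))) = s.inr (Sections.cmp AF jF U _)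
        rw [Sections.cmp_algebraMap]
        erw [congr($(NatTrans.congr_app ψF.comm (op U)) r)]
        rw [show A.str.app (op U) r = e (algebraMap _ _ r) from (Sections.cmp_algebraMap A j U r).symm,
          RingEquiv.symm_apply_apply, hD₁]
        exact congr($(s.condition) r)
      · show D s (e.symm (ψF.hom.app (op U) (Sections.cmp AF jF U _))) = s.inr (Sections.cmp AF jF U _)
        rw [Sections.cmp_ι]
        erw [congrArg (fun φ => φ.app U m) hψF]
        rw [show (biprod.inr ≫ j).app U m = e (SymmetricAlgebra.ι _ _ ((biprod.inr : F ⟶ E ⊞ F).app U m)) from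
          (Sections.cmp_ι A j U _).symm, RingEquiv.symm_apply_apply, hD₂]
        have h1 := congrArg (fun φ => φ.app U m) (biprod.inr_fst (X := E) (Y := F))
        have h2 := congrArg (fun φ => φ.app U m) (biprod.inr_snd (X := E) (Y := F))
        change (biprod.fst : E ⊞ F ⟶ E).app U ((biprod.inr : F ⟶ E ⊞ F).app U m) = 0 at h1
        change (biprod.snd : E ⊞ F ⟶ F).app U ((biprod.inr : F ⟶ E ⊞ F).app U m) = m at h2
        rw [h1, h2, map_zero]
        exact (congrArg (· + _) (map_zero s.inl.hom)).trans (zero_add _)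
    exact RingHom.congr_fun key y
  · refine CommRingCat.hom_ext (RingHom.ext fun y => ?_)
    obtain ⟨y, rfl⟩ := e.surjective y
    show g (e y) = D s (e.symm (e y))
    rw [RingEquiv.symm_apply_apply]
    refine RingHom.congr_fun (Loc.ringHom_ext (g := g.hom.comp e.toRingHom) (h := D s)
      (fun r => ?_) fun m => ?_) y
    · show g (e _) = _
      rw [hD₁, ← hg₁, show e (algebraMap _ _ r) = A.str.app (op U) r from Sections.cmp_algebraMap A j U r,
        ← congr($(NatTrans.congr_app ψE.comm (op U)) r)]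
      rfl
    · show g (e _) = _
      rw [hD₂, ← hg₁, ← hg₂, show e (SymmetricAlgebra.ι _ _ m) = j.app U m from Sections.cmp_ι A j U m]
      conv_lhs => rw [htot m, map_add]
      refine (map_add g.hom _ _).trans (congrArg₂ (· + ·) ?_ ?_)
      · exact congrArg g (congrArg (fun φ => φ.app U ((biprod.fst : E ⊞ F ⟶ E).app U m)) hψE).symm
      · exact congrArg g (congrArg (fun φ => φ.app U ((biprod.snd : E ⊞ F ⟶ F).app U m)) hψF).symm

/-- For quasi-coherent O_S-modules E and F, the vector bundle V(E ⊕ F) is identified with V(E) ×_S V(F):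
with A_E, A_F, A the symmetric algebras of E, F, E ⊕ F and ψ_E : A_E → A, ψ_F : A_F → A the algebra
maps extending the inclusions of the two summands, the square formed by Spec(A) → Spec(A_E), Spec(A)
→ Spec(A_F) and the two structure morphisms to S is a pullback square. -/
theorem result {S : Scheme.{u}} (E F : S.Modules) (hE : Coh.IsQCoh E) (hF : Coh.IsQCoh F)
    (AE AF A : RelSpec.QCAlg S) (jE : E ⟶ AE.toModule) (jF : F ⟶ AF.toModule) (j : E ⊞ F ⟶ A.toModule)
    (hAE : RelSpec.IsSymAlg E AE jE) (hAF : RelSpec.IsSymAlg F AF jF) (hA : RelSpec.IsSymAlg (E ⊞ F) A j)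
    (ψE : AE ⟶ A) (ψF : AF ⟶ A)
    (hψE : jE ≫ RelSpec.QCAlg.Hom.toModuleMap ψE = biprod.inl ≫ j)
    (hψF : jF ≫ RelSpec.QCAlg.Hom.toModuleMap ψF = biprod.inr ≫ j) :
    IsPullback (RelSpec.QCAlg.specMap ψE) (RelSpec.QCAlg.specMap ψF) AE.π AF.π := by
  open Groth.Agent.Lib.SymAlg Opposite in
  haveI : E.IsQuasicoherent := hE
  haveI : F.IsQuasicoherent := hF
  haveI : (E ⊞ F).IsQuasicoherent :=
    Groth.Agent.Lib.QCoh.Closure.isQCoh_biprod
  have w : RelSpec.QCAlg.specMap ψE ≫ AE.π = RelSpec.QCAlg.specMap ψF ≫ AF.π := by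
    rw [RelSpec.QCAlg.specMap_π, RelSpec.QCAlg.specMap_π]
  suffices IsIso (pullback.lift _ _ w) from IsPullback.of_iso_pullback ⟨w⟩ (asIso (pullback.lift _ _ w))
    (pullback.lift_fst _ _ _) (pullback.lift_snd _ _ _)
  let q : ∀ U : S.affineOpens, pullback (Spec.map (AE.str.app (Opposite.op U.1))) (Spec.map (AF.str.app (Opposite.op U.1))) ⟶
      pullback AE.π AF.π := fun U =>
    pullback.map _ _ _ _ (AE.ι U.1 U.2) (AF.ι U.1 U.2) U.2.fromSpec (AE.ι_π U.1 U.2).symm (AF.ι_π U.1 U.2).symm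
  haveI : ∀ U, IsOpenImmersion (q U) := fun U => inferInstance
  have hr : ∀ U, Set.range (q U) = pullback.fst AE.π AF.π ⁻¹' (AE.π ⁻¹' U.1) ∩ pullback.snd AE.π AF.π ⁻¹' (AF.π ⁻¹' U.1) := fun U => by
    simp only [q]
    rw [Scheme.Pullback.range_map, ← Scheme.Hom.coe_opensRange, ← Scheme.Hom.coe_opensRange, ← AE.π_preimage U.1 U.2, ← AF.π_preimage U.1 U.2]
    rfl
  refine Groth.Agent.Lib.SymAlg.Sections.isIso_of_squares (pullback.lift _ _ w) q (fun z => ?_)
    (fun U : S.affineOpens => A.ι U.1 U.2)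
    (fun U => (isPullback_SpecMap_of_isPushout _ _ _ _ (isPushout hAE hAF hA hψE hψF U.2)).isoPullback.hom)
    (fun U => ?_)
  · obtain ⟨U, hU⟩ := TopologicalSpace.Opens.mem_iSup.1 ((iSup_affineOpens_eq_top S).ge
      (show AE.π (pullback.fst AE.π AF.π z) ∈ (⊤ : S.Opens) from trivial))
    refine ⟨U, ?_⟩
    rw [hr]
    refine ⟨hU, ?_⟩
    show AF.π (pullback.snd AE.π AF.π z) ∈ U.1
    rw [← Scheme.Hom.comp_apply, ← pullback.condition, Scheme.Hom.comp_apply]
    exact hU
  · refine (IsOpenImmersion.isPullback _ (A.ι U.1 U.2) (q U) _ ?_ ?_).flip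
    · refine pullback.hom_ext ?_ ?_
      · simp only [q, pullback.map, Category.assoc, pullback.lift_fst]
        rw [RelSpec.QCAlg.ι_specMap]
        exact ((IsPullback.isoPullback_hom_fst_assoc _ _).symm)
      · simp only [q, pullback.map, Category.assoc, pullback.lift_snd]
        rw [RelSpec.QCAlg.ι_specMap]
        exact ((IsPullback.isoPullback_hom_snd_assoc _ _).symm)
    · apply TopologicalSpace.Opens.ext
      show (pullback.lift _ _ w).base ⁻¹' (Set.range (q U)) = ((A.ι U.1 U.2).opensRange : Set A.spec)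
      rw [← A.π_preimage U.1 U.2]
      rw [hr, Set.preimage_inter]
      ext x
      have h1 : AE.π (pullback.fst AE.π AF.π (pullback.lift _ _ w x)) = A.π x := by
        rw [← Scheme.Hom.comp_apply, ← Scheme.Hom.comp_apply, pullback.lift_fst_assoc, RelSpec.QCAlg.specMap_π]
      have h2 : AF.π (pullback.snd AE.π AF.π (pullback.lift _ _ w x)) = A.π x := by
        rw [← Scheme.Hom.comp_apply, ← Scheme.Hom.comp_apply, pullback.lift_snd_assoc, RelSpec.QCAlg.specMap_π]
      show AE.π _ ∈ U.1 ∧ AF.π _ ∈ U.1 ↔ A.π x ∈ U.1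
      rw [h1, h2, and_self]

end Groth.Agent.S8271
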