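import Groth.Statements.S8272
import Mathlib.AlgebraicGeometry.ProjectiveSpectrum.Basic
import Mathlib.AlgebraicGeometry.IdealSheaf.Basic

set_option autoImplicit false
universe u
open CategoryTheory CategoryTheory.Limits AlgebraicGeometry Opposite TopologicalSpace
open EGA2

namespace Groth.Agent.S8272

/-- Let T be a positively graded ring, Z = Proj T and g ∈ T_d (d > 0) a homogeneous element that is not
a zero divisor in T. Then Z is the smallest closed subscheme of Z containing the open D_+(g);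
equivalently the kernel (ideal sheaf) of the open immersion D_+(g) → Z vanishes. -/
theorem result {R A : Type u} [CommRing R] [CommRing A] [Algebra R A]
    (𝒜 : ℕ → Submodule R A) [GradedAlgebra 𝒜] {d : ℕ} (hd : 0 < d) (g : A) (hg : g ∈ 𝒜 d)
    (hnz : g ∈ nonZeroDivisors A) :
    (Proj.basicOpen 𝒜 g).ι.ker = ⊥ := by
  let U : (Σ i : PNat, 𝒜 i) → (Proj 𝒜).affineOpens := fun p =>
    ⟨Proj.basicOpen 𝒜 (p.2 : A), Proj.isAffineOpen_basicOpen 𝒜 (p.2 : A) p.2.2 p.1.2⟩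
  have hU : ⨆ p, (U p).1 = ⊤ := by
    refine top_le_iff.1 fun x _ => ?_
    obtain ⟨y, hy⟩ := (Proj.affineOpenCover 𝒜).covers x
    refine TopologicalSpace.Opens.mem_iSup.2 ⟨(Proj.affineOpenCover 𝒜).idx x, ?_⟩
    show x ∈ Proj.basicOpen 𝒜 _
    rw [← Proj.opensRange_awayι 𝒜 _ ((Proj.affineOpenCover 𝒜).idx x).2.2 ((Proj.affineOpenCover 𝒜).idx x).1.2]
    exact ⟨y, hy⟩
  refine Scheme.IdealSheafData.ext_of_iSup_eq_top U hU fun p => ?_
  rw [Scheme.IdealSheafData.ideal_bot]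
  refine le_bot_iff.1 (((Proj.basicOpen 𝒜 g).ι.ideal_ker_le (U p)).trans ?_)
  intro t ht
  obtain ⟨⟨i, hi⟩, f, hf⟩ := p
  rw [RingHom.mem_ker, Scheme.Opens.ι_app] at ht
  -- restrict to `D₊(f g)`
  have hle : Proj.basicOpen 𝒜 (f * g) ≤ (Proj.basicOpen 𝒜 g).ι ''ᵁ (Proj.basicOpen 𝒜 g).ι ⁻¹ᵁ Proj.basicOpen 𝒜 f := by
    rw [Proj.basicOpen_mul]
    exact fun x hx => ⟨⟨x, hx.2⟩, hx.1, rfl⟩
  have h1 : (Proj 𝒜).presheaf.map (homOfLE (Proj.basicOpen_mono 𝒜 f (f * g) ⟨g, rfl⟩)).op t = 0 := by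
    rw [show (homOfLE (Proj.basicOpen_mono 𝒜 f (f * g) ⟨g, rfl⟩)).op =
      (homOfLE (x := (Proj.basicOpen 𝒜 g).ι ''ᵁ (Proj.basicOpen 𝒜 g).ι ⁻¹ᵁ Proj.basicOpen 𝒜 f)
        (y := Proj.basicOpen 𝒜 f) (fun x ⟨z, hz, e⟩ => e ▸ hz)).op ≫ (homOfLE hle).op from rfl,
      Functor.map_comp, ConcreteCategory.comp_apply]
    exact (congrArg _ ht).trans (map_zero _)
  obtain ⟨a, rfl⟩ : ∃ a, Proj.awayToSection 𝒜 f a = t := by
    refine ⟨(Proj.basicOpenIsoAway 𝒜 f hf hi).inv t, ?_⟩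
    exact ConcreteCategory.congr_hom (Proj.basicOpenIsoAway 𝒜 f hf hi).inv_hom_id t
  have h2 : Proj.awayToSection 𝒜 (f * g) (HomogeneousLocalization.awayMap 𝒜 hg rfl a) = 0 :=
    (ConcreteCategory.congr_hom (Proj.awayMap_awayToSection 𝒜 (f := f) hg rfl) a).trans h1
  have h3 : HomogeneousLocalization.awayMap 𝒜 hg rfl a = 0 := by
    have hinj := (ConcreteCategory.bijective_of_isIso
      (Proj.basicOpenIsoAway 𝒜 (f * g) (SetLike.mul_mem_graded hf hg) (Nat.lt_of_lt_of_le hi (Nat.le_add_right _ _))).hom).1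
    exact hinj (h2.trans (map_zero _).symm)
  suffices ha : a = 0 by rw [ha, map_zero]; exact zero_mem _
  obtain ⟨n, b, hb, rfl⟩ := HomogeneousLocalization.Away.mk_surjective 𝒜 hf a
  have h4 := congrArg HomogeneousLocalization.val h3
  rw [HomogeneousLocalization.Away.mk, HomogeneousLocalization.val_awayMap_mk, HomogeneousLocalization.val_zero,
    Localization.mk_eq_mk', IsLocalization.mk'_eq_zero_iff] at h4
  obtain ⟨⟨_, k, rfl⟩, hk⟩ := h4
  refine HomogeneousLocalization.val_injective _ ?_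
  rw [HomogeneousLocalization.Away.val_mk, HomogeneousLocalization.val_zero, Localization.mk_eq_mk',
    IsLocalization.mk'_eq_zero_iff]
  refine ⟨⟨f ^ k, k, rfl⟩, ?_⟩
  have hk' : f ^ k * b * g ^ (k + n) = 0 := by
    refine Eq.trans ?_ hk
    show _ = (f * g) ^ k * (b * g ^ n)
    rw [mul_pow, pow_add]; ring
  exact (mul_left_mem_nonZeroDivisorsLeft_eq_zero_iff ((nonZeroDivisors A).pow_mem hnz (k + n)).1).1 (by rwa [mul_comm] at hk')

end Groth.Agent.S8272
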