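import Groth.Statements.S8273
import Groth.Agent.Lib.RelProjBasics.Glue

set_option autoImplicit false
universe u
open CategoryTheory CategoryTheory.Limits AlgebraicGeometry Opposite TopologicalSpace
open scoped HomogeneousIdeal
open EGA2

namespace Groth.Agent.S8273

/-- Uniqueness of the relative homogeneous spectrum: two schemes over Y equipped with the chart data of
Proj(𝒮) are related by a unique morphism compatible with the charts (chartwise the identity of Proj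
𝒮(U)), and that morphism is a Y-isomorphism. -/
theorem result {Y P P' : Scheme.{u}} (𝒮 : RelProj.QCGrAlg Y) (p : P ⟶ Y)
    (chart : ∀ (U : Y.Opens) (hU : IsAffineOpen U), (((p ⁻¹ᵁ U : P.Opens) : Scheme.{u}) ≅ Proj (𝒮.deg U hU)))
    (hP : RelProj.IsRelProj 𝒮 p chart) (p' : P' ⟶ Y)
    (chart' : ∀ (U : Y.Opens) (hU : IsAffineOpen U), (((p' ⁻¹ᵁ U : P'.Opens) : Scheme.{u}) ≅ Proj (𝒮.deg U hU)))
    (hP' : RelProj.IsRelProj 𝒮 p' chart') :
    (∃! e : P ⟶ P', ∀ (U : Y.Opens) (hU : IsAffineOpen U),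
        (p ⁻¹ᵁ U).ι ≫ e = (chart U hU).hom ≫ (chart' U hU).inv ≫ (p' ⁻¹ᵁ U).ι) ∧
      ∀ e : P ⟶ P', (∀ (U : Y.Opens) (hU : IsAffineOpen U),
        (p ⁻¹ᵁ U).ι ≫ e = (chart U hU).hom ≫ (chart' U hU).inv ≫ (p' ⁻¹ᵁ U).ι) → IsIso e ∧ e ≫ p' = p := by
  have key : ∀ {Q Q' : Scheme.{u}} (q : Q ⟶ Y) (c : ∀ (U : Y.Opens) (hU : IsAffineOpen U),
      (((q ⁻¹ᵁ U : Q.Opens) : Scheme.{u}) ≅ Proj (𝒮.deg U hU))) (q' : Q' ⟶ Y)
      (c' : ∀ (U : Y.Opens) (hU : IsAffineOpen U), (((q' ⁻¹ᵁ U : Q'.Opens) : Scheme.{u}) ≅ Proj (𝒮.deg U hU))),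
      RelProj.IsRelProj 𝒮 q c → RelProj.IsRelProj 𝒮 q' c' →
      ∃! e : Q ⟶ Q', ∀ (U : Y.Opens) (hU : IsAffineOpen U),
        (q ⁻¹ᵁ U).ι ≫ e = (c U hU).hom ≫ (c' U hU).inv ≫ (q' ⁻¹ᵁ U).ι := by
    intro Q Q' q c q' c' hc hc'
    refine Lib.RelProjBasics.Glue.existsUnique_glue q _ fun U hU r => ?_
    rw [← Category.assoc, hc.chart_res U hU r, Category.assoc]
    congr 1
    rw [← (Iso.inv_comp_eq _).mpr (hc'.chart_res U hU r)]
    simp [Category.assoc]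
  refine ⟨key p chart p' chart' hP hP', fun e he => ?_⟩
  obtain ⟨e', he', -⟩ := key p' chart' p chart hP' hP
  refine ⟨⟨e', ?_, ?_⟩, Lib.RelProjBasics.Glue.hom_ext p fun U hU => ?_⟩
  · refine Lib.RelProjBasics.Glue.hom_ext p fun U hU => ?_
    rw [reassoc_of% (he U hU), he' U hU]
    simp
  · refine Lib.RelProjBasics.Glue.hom_ext p' fun U hU => ?_
    rw [reassoc_of% (he' U hU), he U hU]
    simp
  · rw [reassoc_of% (he U hU), ← hP'.chart_over U hU, ← hP.chart_over U hU]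
    simp

end Groth.Agent.S8273
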