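import Groth.Statements.S8274
import Groth.Agent.Lib.RelProjBasics.Glue

set_option autoImplicit false
universe u
open CategoryTheory CategoryTheory.Limits AlgebraicGeometry Opposite TopologicalSpace
open scoped HomogeneousIdeal
open EGA2

namespace Groth.Agent.S8274

/-- Let 𝒮 be a quasi-coherent positively graded O_Y-algebra, P = Proj(𝒮) with structure morphism p and
charts, and f a global section of 𝒮 homogeneous of degree d > 0. There is an open subset X_f of P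
such that for every affine open U of Y, X_f ∩ p⁻¹(U) is the open D_+(f|U) of Proj 𝒮(U) transported
by the chart; moreover X_f is affine over Y. (The identification of X_f with the spectrum of a
quotient of the d-th Veronese algebra is not stated here.) -/
theorem result {Y P : Scheme.{u}} (𝒮 : RelProj.QCGrAlg Y) (p : P ⟶ Y)
    (chart : ∀ (U : Y.Opens) (hU : IsAffineOpen U), (((p ⁻¹ᵁ U : P.Opens) : Scheme.{u}) ≅ Proj (𝒮.deg U hU)))
    (hP : RelProj.IsRelProj 𝒮 p chart) {d : ℕ} (hd : 0 < d) (f : 𝒮.presheaf.obj (op ⊤))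
    (hf : ∀ (U : Y.Opens) (hU : IsAffineOpen U), (𝒮.presheaf.map (homOfLE le_top).op).hom f ∈ 𝒮.deg U hU d) :
    ∃ Xf : P.Opens,
      (∀ (U : Y.Opens) (hU : IsAffineOpen U),
        Xf ⊓ p ⁻¹ᵁ U =
          (p ⁻¹ᵁ U).ι ''ᵁ ((chart U hU).hom ⁻¹ᵁ
            Proj.basicOpen (𝒮.deg U hU) ((𝒮.presheaf.map (homOfLE le_top).op).hom f))) ∧
      IsAffineHom (Xf.ι ≫ p) := by
  classical
  let D : ∀ (U : Y.Opens), IsAffineOpen U → P.Opens := fun U hU =>
    (p ⁻¹ᵁ U).ι ''ᵁ ((chart U hU).hom ⁻¹ᵁ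
      Proj.basicOpen (𝒮.deg U hU) ((𝒮.presheaf.map (homOfLE le_top).op).hom f))
  have hmem : ∀ (U : Y.Opens) (hU : IsAffineOpen U) (r : Γ(Y, U)) (x : P) (hx : p x ∈ Y.basicOpen r),
      x ∈ D U hU ↔ x ∈ D (Y.basicOpen r) (hU.basicOpen r) := by
    intro U hU r x hx
    have h := congr(($(hP.chart_res U hU r)) ⁻¹ᵁ
      Proj.basicOpen (𝒮.deg U hU) ((𝒮.presheaf.map (homOfLE le_top).op).hom f))
    simp only [Scheme.Hom.comp_preimage, Proj.map_preimage_basicOpen, RelProj.QCGrAlg.res_apply,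
      ← CommRingCat.comp_apply, ← Functor.map_comp, ← op_comp, homOfLE_comp] at h
    have h' := congr((⟨x, hx⟩ : ↥(p ⁻¹ᵁ Y.basicOpen r)) ∈ $h)
    have key : ∀ O : ((p ⁻¹ᵁ U : P.Opens) : Scheme.{u}).Opens,
        ((⟨x, hx⟩ : ↥(p ⁻¹ᵁ Y.basicOpen r)) ∈
            P.homOfLE (p.preimage_mono (Y.basicOpen_le r)) ⁻¹ᵁ O ↔
          (⟨x, Y.basicOpen_le r hx⟩ : ↥(p ⁻¹ᵁ U)) ∈ O) := by
      intro O
      show P.homOfLE (p.preimage_mono (Y.basicOpen_le r)) (⟨x, hx⟩ : ↥(p ⁻¹ᵁ Y.basicOpen r)) ∈ O ↔ _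
      rw [Scheme.homOfLE_apply']
      exact Iff.rfl
    constructor
    · rintro ⟨z, hz, hzx⟩
      obtain rfl : z = ⟨x, Y.basicOpen_le r hx⟩ := Subtype.ext hzx
      exact ⟨⟨x, hx⟩, h'.mp ((key _).mpr hz), rfl⟩
    · rintro ⟨z, hz, hzx⟩
      obtain rfl : z = ⟨x, hx⟩ := Subtype.ext hzx
      exact ⟨⟨x, Y.basicOpen_le r hx⟩, (key _).mp (h'.mpr hz), rfl⟩
  have hle : ∀ (U : Y.Opens) (hU : IsAffineOpen U), D U hU ≤ p ⁻¹ᵁ U := by
    rintro U hU x ⟨z, -, rfl⟩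
    exact z.2
  have hcong : ∀ (W W' : Y.Opens) (hW : IsAffineOpen W) (hW' : IsAffineOpen W'), W = W' →
      D W hW = D W' hW' := by
    rintro W W' hW hW' rfl
    rfl
  have hinf : ∀ (U : Y.Opens) (hU : IsAffineOpen U),
      (⨆ V : Y.affineOpens, D V.1 V.2) ⊓ p ⁻¹ᵁ U = D U hU := by
    intro U hU
    refine le_antisymm (fun x hx => ?_) (le_inf ?_ (hle U hU))
    · obtain ⟨V, hV⟩ := Opens.mem_iSup.mp hx.1
      obtain ⟨r, s, e, hr⟩ := exists_basicOpen_le_affine_inter V.2 hU (p x) ⟨hle _ _ hV, hx.2⟩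
      rw [hmem U hU s x (e ▸ hr), ← hcong _ _ (V.2.basicOpen r) (hU.basicOpen s) e,
        ← hmem V.1 V.2 r x hr]
      exact hV
    · exact le_iSup (fun V : Y.affineOpens => D V.1 V.2) ⟨U, hU⟩
  refine ⟨⨆ V : Y.affineOpens, D V.1 V.2, hinf, ⟨fun U hU => ?_⟩⟩
  have hD : IsAffineOpen (D U hU) :=
    ((Proj.isAffineOpen_basicOpen _ _ (hf U hU) hd).preimage_of_isIso _).image_of_isOpenImmersion _
  rw [← (⨆ V : Y.affineOpens, D V.1 V.2).ι.isAffineOpen_iff_of_isOpenImmersion,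
    Scheme.Hom.comp_preimage, Scheme.Hom.image_preimage_eq_opensRange_inf, Scheme.Opens.opensRange_ι,
    hinf U hU]
  exact hD

end Groth.Agent.S8274
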