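import Groth.Statements.S8277
import Mathlib
import Groth.Agent.H15.NatDeg

set_option autoImplicit false
universe u
open EGA2

namespace Groth.Agent.S8277

/-- For a positively graded ring S, the graded ring S♮ with S♮_n = S_{≥ n} = ⊕_{m ≥ n} S_m (presented
here as a graded ring S' with an injective algebra homomorphism φ : S' → S[X] carrying S'_n onto
S_{≥ n}·X^n for every n, so that S'_0 is identified with S), and n₀ ≥ 0: S♮_{n+1} = S♮_1 S♮_n for n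
≥ n₀ if and only if S_{n+1} = S_1 S_n for n ≥ n₀. -/
theorem result {R A B : Type u} [CommRing R] [CommRing A] [Algebra R A]
    (𝒜 : ℕ → Submodule R A) [GradedAlgebra 𝒜] [CommRing B] [Algebra R B] (ℬ : ℕ → Submodule R B) [GradedAlgebra ℬ]
    (φ : B →ₐ[R] Polynomial A) (hφ : Function.Injective φ)
    (hdeg : ∀ n : ℕ, Submodule.map φ.toLinearMap (ℬ n) =
      Submodule.map ((Polynomial.monomial n : A →ₗ[A] Polynomial A).restrictScalars R) (⨆ (m : ℕ) (_ : n ≤ m), 𝒜 m)) (n₀ : ℕ) :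
    (∀ n : ℕ, n₀ ≤ n → ℬ (n + 1) = ℬ 1 * ℬ n) ↔ (∀ n : ℕ, n₀ ≤ n → 𝒜 (n + 1) = 𝒜 1 * 𝒜 n) := by
  open Groth.Agent.H15.NatDeg in
  have key : ∀ n, ℬ (n + 1) = ℬ 1 * ℬ n ↔ ge 𝒜 (n + 1) = ge 𝒜 1 * ge 𝒜 n := by
    intro n
    rw [← (Submodule.map_injective_of_injective (f := φ.toLinearMap) hφ).eq_iff, Submodule.map_mul, hdeg, hdeg, hdeg,
      map_monomial_mul, add_comm 1 n]
    exact (map_monomial_inj (n + 1)).eq_iff
  open Groth.Agent.H15.NatDeg in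
  constructor
  · intro h n hn
    have h1 := (key n).1 (h n hn)
    refine eq_of_le_sup 𝒜 ((mul_mem 𝒜).trans (by rw [add_comm])) ?_
    calc 𝒜 (n + 1) ≤ ge 𝒜 (n + 1) := le_ge 𝒜 le_rfl
      _ = ge 𝒜 1 * ge 𝒜 n := h1
      _ ≤ 𝒜 1 * 𝒜 n ⊔ ge 𝒜 (n + 1 + 1) := by rw [add_comm n 1]; exact ge_mul_ge_le 𝒜 1 n
  · intro h n hn
    refine (key n).2 (le_antisymm ?_ ((ge_mul_ge 𝒜 1 n).trans (by rw [add_comm])))
    refine iSup₂_le fun m hm => ?_
    obtain ⟨l, rfl⟩ : ∃ l, m = l + 1 := ⟨m - 1, by omega⟩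
    rw [h l (by omega)]
    exact mul_le_mul' (le_ge 𝒜 le_rfl) (le_ge 𝒜 (by omega))

end Groth.Agent.S8277
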