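import Groth.Statements.S8278
import Mathlib
import Groth.Agent.H15.NatDeg

set_option autoImplicit false
universe u
open EGA2

namespace Groth.Agent.S8278

/-- For a positively graded ring S, the graded ring S♮ with S♮_n = S_{≥ n} = ⊕_{m ≥ n} S_m (presented
here as a graded ring S' with an injective algebra homomorphism φ : S' → S[X] carrying S'_n onto
S_{≥ n}·X^n for every n, so that S'_0 is identified with S), and n₀ ≥ 1: S♮_n = (S♮_1)^n for n ≥ n₀
if and only if S_n = (S_1)^n for n ≥ n₀. (n₀ ≥ 1 because the zeroth power of a submodule is the span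
of 1, not the degree-zero part.) -/
theorem result {R A B : Type u} [CommRing R] [CommRing A] [Algebra R A]
    (𝒜 : ℕ → Submodule R A) [GradedAlgebra 𝒜] [CommRing B] [Algebra R B] (ℬ : ℕ → Submodule R B) [GradedAlgebra ℬ]
    (φ : B →ₐ[R] Polynomial A) (hφ : Function.Injective φ)
    (hdeg : ∀ n : ℕ, Submodule.map φ.toLinearMap (ℬ n) =
      Submodule.map ((Polynomial.monomial n : A →ₗ[A] Polynomial A).restrictScalars R) (⨆ (m : ℕ) (_ : n ≤ m), 𝒜 m)) (n₀ : ℕ) (hn₀ : 1 ≤ n₀) :
    (∀ n : ℕ, n₀ ≤ n → ℬ n = ℬ 1 ^ n) ↔ (∀ n : ℕ, n₀ ≤ n → 𝒜 n = 𝒜 1 ^ n) := by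
  open Groth.Agent.H15.NatDeg in
  have hpow : ∀ n, 1 ≤ n → Submodule.map φ.toLinearMap (ℬ 1 ^ n) =
      Submodule.map ((Polynomial.monomial n : A →ₗ[A] Polynomial A).restrictScalars R) (ge 𝒜 1 ^ n) := by
    intro n hn
    induction n, hn using Nat.le_induction with
    | base => rw [pow_one, pow_one, hdeg]; rfl
    | succ n hn ih => rw [pow_succ, pow_succ, Submodule.map_mul, ih, hdeg]; exact map_monomial_mul n 1 _ _
  open Groth.Agent.H15.NatDeg in
  have key : ∀ n, 1 ≤ n → (ℬ n = ℬ 1 ^ n ↔ ge 𝒜 n = ge 𝒜 1 ^ n) := by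
    intro n hn
    rw [← (Submodule.map_injective_of_injective (f := φ.toLinearMap) hφ).eq_iff, hdeg, hpow n hn]
    exact (map_monomial_inj n).eq_iff
  open Groth.Agent.H15.NatDeg in
  constructor
  · intro h n hn
    refine eq_of_le_sup 𝒜 (pow_mem 𝒜 n) ?_
    refine ((le_ge 𝒜 le_rfl).trans ((key n (by omega)).1 (h n hn)).le).trans ?_
    have : ∀ m, 1 ≤ m → ge 𝒜 1 ^ m ≤ 𝒜 1 ^ m ⊔ ge 𝒜 (m + 1) := by
      intro m hm
      induction m, hm using Nat.le_induction with
      | base =>
        rw [pow_one, pow_one]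
        refine iSup₂_le fun j hj => ?_
        rcases Nat.lt_or_ge 1 j with h | h
        · exact (le_ge 𝒜 (show 1 + 1 ≤ j from h)).trans le_sup_right
        · obtain rfl : j = 1 := by omega
          exact le_sup_left
      | succ m hm ih =>
        rw [pow_succ, pow_succ]
        refine (mul_le_mul_left ih _).trans ?_
        rw [Submodule.sup_mul]
        refine sup_le ?_ ((ge_mul_ge 𝒜 _ _).trans le_sup_right)
        refine (mul_le_mul_right (?_ : ge 𝒜 1 ≤ 𝒜 1 ⊔ ge 𝒜 2) _).trans ?_
        · refine iSup₂_le fun j hj => ?_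
          rcases Nat.lt_or_ge 1 j with h | h
          · exact (le_ge 𝒜 (show 2 ≤ j from h)).trans le_sup_right
          · obtain rfl : j = 1 := by omega
            exact le_sup_left
        · rw [Submodule.mul_sup]
          refine sup_le le_sup_left ?_
          exact ((mul_le_mul_left ((pow_mem 𝒜 m).trans (le_ge 𝒜 le_rfl)) _).trans ((ge_mul_ge 𝒜 m 2).trans (ge_anti 𝒜 (by omega)))).trans le_sup_right
    exact this n (by omega)
  · intro h n hn
    refine (key n (by omega)).2 (le_antisymm ?_ ?_)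
    · refine iSup₂_le fun m hm => ?_
      rw [h m (by omega), show m = (m - n + 1) + (n - 1) by omega, pow_add]
      conv_rhs => rw [show n = 1 + (n - 1) by omega, pow_add, pow_one]
      exact mul_le_mul' ((pow_mem 𝒜 _).trans (le_ge 𝒜 (by omega))) (pow_le_pow_left' (le_ge 𝒜 le_rfl) _)
    · have : ∀ m, 1 ≤ m → ge 𝒜 1 ^ m ≤ ge 𝒜 m := by
        intro m hm
        induction m, hm using Nat.le_induction with
        | base => rw [pow_one]
        | succ m hm ih => rw [pow_succ]; exact (mul_le_mul_left ih _).trans (ge_mul_ge 𝒜 m 1)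
      exact this n (by omega)

end Groth.Agent.S8278
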