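import Groth.Statements.S8280
import Groth.Agent.Lib.RelProjBasics.Glue

set_option autoImplicit false
universe u
open CategoryTheory CategoryTheory.Limits AlgebraicGeometry Opposite TopologicalSpace
open scoped HomogeneousIdeal
open EGA2

namespace Groth.Agent.S8280

/-- Let (f_α) be global sections of the quasi-coherent positively graded O_Y-algebra 𝒮, homogeneous of
positive degrees, such that the ideal they generate contains all 𝒮_n from some degree on
(affine-locally). Then the opens X_{f_α} of Proj(𝒮) (characterised chartwise by the basic opens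
D_+(f_α|U)) cover Proj(𝒮). (The published hypothesis fixes one degree, valid over all of Y, from
which on the f_α generate; this row asks for such a degree over each affine open separately, which
is all the proof, carried out one affine open at a time, uses.) -/
theorem result {Y P : Scheme.{u}} (𝒮 : RelProj.QCGrAlg Y) (p : P ⟶ Y)
    (chart : ∀ (U : Y.Opens) (hU : IsAffineOpen U), (((p ⁻¹ᵁ U : P.Opens) : Scheme.{u}) ≅ Proj (𝒮.deg U hU)))
    (hP : RelProj.IsRelProj 𝒮 p chart) {ι : Type u} (d : ι → ℕ) (hd : ∀ a, 0 < d a)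
    (f : ι → 𝒮.presheaf.obj (op ⊤))
    (hf : ∀ (a : ι) (U : Y.Opens) (hU : IsAffineOpen U), (𝒮.presheaf.map (homOfLE le_top).op).hom (f a) ∈ 𝒮.deg U hU (d a))
    (hgen : ∀ (U : Y.Opens) (hU : IsAffineOpen U), ∃ n₀ : ℕ, ∀ n, n₀ ≤ n →
      (𝒮.deg U hU n : Set (𝒮.presheaf.obj (op U))) ⊆
        (Ideal.span (Set.range fun a => (𝒮.presheaf.map (homOfLE (le_top : U ≤ ⊤)).op).hom (f a)) :
          Set (𝒮.presheaf.obj (op U))))
    (X : ι → P.Opens)
    (hX : ∀ (a : ι) (U : Y.Opens) (hU : IsAffineOpen U),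
      X a ⊓ p ⁻¹ᵁ U =
        (p ⁻¹ᵁ U).ι ''ᵁ ((chart U hU).hom ⁻¹ᵁ
          Proj.basicOpen (𝒮.deg U hU) ((𝒮.presheaf.map (homOfLE le_top).op).hom (f a)))) :
    ⨆ a, X a = ⊤ := by
  refine top_le_iff.mp fun x _ => ?_
  obtain ⟨U, hU, hxU, -⟩ := exists_isAffineOpen_mem_and_subset (U := ⊤) (x := p x) trivial
  let y : Proj (𝒮.deg U hU) := (chart U hU).hom ⟨x, hxU⟩
  obtain ⟨a, ha⟩ : ∃ a, y ∈ Proj.basicOpen (𝒮.deg U hU)
      ((𝒮.presheaf.map (homOfLE le_top).op).hom (f a)) := by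
    by_contra hne
    simp only [not_exists, Proj.mem_basicOpen, not_not] at hne
    obtain ⟨n₀, hn₀⟩ := hgen U hU
    refine y.not_irrelevant_le ((HomogeneousIdeal.irrelevant_le _).mpr fun n hn b hb => ?_)
    have hbk : b ^ (n₀ + 1) ∈ Ideal.span (Set.range fun a =>
        (𝒮.presheaf.map (homOfLE (le_top : U ≤ ⊤)).op).hom (f a)) :=
      hn₀ ((n₀ + 1) • n) (by
        have : n₀ + 1 ≤ (n₀ + 1) * n := Nat.le_mul_of_pos_right _ hn
        rw [smul_eq_mul]; omega) (SetLike.pow_mem_graded (n₀ + 1) hb)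
    exact y.isPrime.mem_of_pow_mem (n₀ + 1)
      ((Ideal.span_le.mpr (Set.range_subset_iff.mpr hne)) hbk)
  refine Opens.mem_iSup.mpr ⟨a, ?_⟩
  have : x ∈ X a ⊓ p ⁻¹ᵁ U := by
    rw [hX a U hU]
    exact ⟨⟨x, hxU⟩, ha, rfl⟩
  exact this.1

end Groth.Agent.S8280
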