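import Groth.Statements.S8283
import Groth.Agent.H46.FiberStalk
import Groth.Agent.Lib.Ideal.EffCartier
import Groth.Agent.Lib.Cyc.Dev.Scheme
import Mathlib

set_option autoImplicit false
universe u
open CategoryTheory CategoryTheory.Limits AlgebraicGeometry Opposite TopologicalSpace
open EGA2

namespace Groth.Agent.S8283
theorem isDVR_of_generator {Q : Type*} [CommRing Q] [IsNoetherianRing Q] [IsLocalRing Q] (t : Q)
    (ht : ∀ a, t * a = 0 → a = 0) (hm : IsLocalRing.maximalIdeal Q = Ideal.span {t}) :
    ∃ _ : IsDomain Q, IsDiscreteValuationRing Q := by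
  have key : ∀ a : Q, a ≠ 0 → ∃ (n : ℕ) (v : Q), IsUnit v ∧ a = t ^ n * v := by
    intro a ha
    by_contra hno
    push Not at hno
    apply ha
    have hbot := Ideal.iInf_pow_eq_bot_of_isLocalRing (R := Q) (Ideal.span {t})
      (hm ▸ (IsLocalRing.maximalIdeal.isMaximal Q).ne_top)
    have : a ∈ ⨅ n : ℕ, Ideal.span {t} ^ n := by
      refine Ideal.mem_iInf.mpr fun n => ?_
      rw [Ideal.span_singleton_pow, Ideal.mem_span_singleton']
      induction n with
      | zero => exact ⟨a, by simp⟩
      | succ n ih =>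
        obtain ⟨v, hv⟩ := ih
        have hvm : v ∈ IsLocalRing.maximalIdeal Q := fun hu => hno n v hu (by rw [← hv, mul_comm])
        rw [hm, Ideal.mem_span_singleton'] at hvm
        obtain ⟨w, hw⟩ := hvm
        exact ⟨w, by rw [← hv, ← hw, pow_succ]; ring⟩
    rw [hbot] at this
    exact this
  have hp : ∀ (n : ℕ) (a : Q), t ^ n * a = 0 → a = 0 := fun n => by
    induction n with
    | zero => intro a h; simpa using h
    | succ n ih => exact fun a h => ih a (ht _ (by rw [← mul_assoc, ← pow_succ']; exact h))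
  haveI : NoZeroDivisors Q := ⟨fun {a b} hab => by
    by_contra hne
    push Not at hne
    obtain ⟨n, v, hv, rfl⟩ := key a hne.1
    exact hne.2 (hv.mul_right_eq_zero.mp (hp n _ (by rw [← mul_assoc]; exact hab)))⟩
  haveI : IsDomain Q := NoZeroDivisors.to_isDomain Q
  have hnf : ¬ IsField Q := fun hF => by
    have h := (IsLocalRing.isField_iff_maximalIdeal_eq.mp hF)
    rw [hm, Ideal.span_singleton_eq_bot] at h
    exact one_ne_zero (ht 1 (by rw [h, zero_mul]))
  have hpr : (IsLocalRing.maximalIdeal Q).IsPrincipal := hm ▸ ⟨⟨t, rfl⟩⟩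
  exact ⟨inferInstance, ((IsDiscreteValuationRing.TFAE Q hnf).out 4 0).mp hpr⟩

theorem mem_of_mul_mem {R A : Type*} [CommRing R] [CommRing A] (p : A →+* R) (ρ : R →+* R) (t a : R)
    (hρp : ∀ x, ρ (p x) = p x) (hρt : ρ t = 0) (hρ : ∀ b, b - ρ b ∈ Ideal.span {t})
    (m : Ideal A) (hta : t * a ∈ m.map p) (ht : ∀ c, t * c = 0 → c = 0) : a ∈ m.map p := by
  have key : ∀ y ∈ m.map p, y - ρ y ∈ Ideal.span {t} * m.map p := by
    intro y hy
    induction hy using Submodule.span_induction with
    | mem y hy =>
      obtain ⟨x, -, rfl⟩ := hy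
      rw [hρp, sub_self]
      exact zero_mem _
    | zero => simp
    | add x y _ _ hx hy =>
      rw [map_add, show x + y - (ρ x + ρ y) = (x - ρ x) + (y - ρ y) by ring]
      exact add_mem hx hy
    | smul r y hy' hy =>
      rw [smul_eq_mul, map_mul, show r * y - ρ r * ρ y = (r - ρ r) * y + ρ r * (y - ρ y) by ring]
      exact add_mem (Ideal.mul_mem_mul (hρ r) hy') (Ideal.mul_mem_left _ _ hy)
  have h := key _ hta
  rw [map_mul, hρt, zero_mul, sub_zero, Ideal.mem_span_singleton_mul] at h
  obtain ⟨z, hz, he⟩ := h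
  rwa [← sub_eq_zero.mp (ht (z - a) (by rw [mul_sub, he, sub_self]))]


/-- Let π : V → X be locally of finite type and j : X → V a section of π that is a closed immersion with
invertible ideal sheaf. Then for every x ∈ X the local ring at j(x) of the fibre π⁻¹(π(j(x))) =
π⁻¹(x) is a regular local ring of dimension one, i.e. a discrete valuation ring (so j(x) lies on a
single irreducible component of the fibre; the completion of that local ring is then a power-series
ring in one variable over the residue field of x). (The published statement assumes π of finite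
type; this row assumes only that π is locally of finite type, which is all the proof uses: it needs
no more than the Noetherian property of the local rings of the fibre.) -/
theorem result {X V : Scheme.{u}} (π : V ⟶ X) [LocallyOfFiniteType π]
    (j : X ⟶ V) [IsClosedImmersion j] (hj : j ≫ π = 𝟙 X) (hJ : BlowUp.IsEffCartierIdeal j.ker) (x : X) :
    ∃ _ : IsDomain ((π.fiber (π.base (j.base x))).presheaf.stalk (π.asFiber (j.base x))),
      IsDiscreteValuationRing ((π.fiber (π.base (j.base x))).presheaf.stalk (π.asFiber (j.base x))) := by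
  set v := j x with hvdef
  haveI : LocallyOfFiniteType (π.fiberToSpecResidueField (π v)) :=
    MorphismProperty.pullback_snd π _ inferInstance
  haveI : IsLocallyNoetherian (π.fiber (π v)) :=
    LocallyOfFiniteType.isLocallyNoetherian (π.fiberToSpecResidueField (π v))
  let e := H46.FiberStalk.quotientEquiv π v
  let A := X.presheaf.stalk (π v)
  let R := V.presheaf.stalk v
  let p : A →+* R := (π.stalkMap v).hom
  let q : R →+* X.presheaf.stalk x := (j.stalkMap x).hom
  have hbij : Function.Bijective (q.comp p) := by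
    haveI : IsIso (j ≫ π) := hj ▸ inferInstance
    have h : IsIso ((j ≫ π).stalkMap x) := inferInstance
    have := ConcreteCategory.bijective_of_isIso ((j ≫ π).stalkMap x)
    rw [Scheme.Hom.stalkMap_comp] at this
    exact this
  let s : X.presheaf.stalk x ≃+* A := (RingEquiv.ofBijective _ hbij).symm
  let ρ : R →+* R := p.comp (s.toRingHom.comp q)
  obtain ⟨U, hxU, f, hf, hfI⟩ := hJ v
  let t : R := V.presheaf.germ U.1 v hxU f
  have ht : ∀ c, t * c = 0 → c = 0 := fun c hc =>
    (mul_left_mem_nonZeroDivisors_eq_zero_iff (Lib.Ideal.EffCartier.germ_mem_nonZeroDivisors U.2 hf v hxU)).mp hc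
  have hqt : q t = 0 := by
    have hfk : f ∈ RingHom.ker (j.app U.1).hom :=
      j.ideal_ker_le U (hfI ▸ Ideal.mem_span_singleton_self f)
    show (V.presheaf.germ U.1 v hxU ≫ j.stalkMap x) f = 0
    rw [Scheme.Hom.germ_stalkMap, ConcreteCategory.comp_apply, RingHom.mem_ker.mp hfk, map_zero]
  have hker : RingHom.ker q ≤ Ideal.span {t} := by
    refine (Lib.Cyc.Dev.SchemeCase.ker_stalkMap_le j U x hxU).trans ?_
    rw [hfI, Ideal.map_span, Set.image_singleton]
  have hρp : ∀ a, ρ (p a) = p a := fun a => congrArg p ((RingEquiv.ofBijective _ hbij).symm_apply_apply a)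
  have hρ : ∀ b, b - ρ b ∈ Ideal.span {t} := fun b => hker <| by
    rw [RingHom.mem_ker, map_sub, sub_eq_zero]
    exact ((RingEquiv.ofBijective _ hbij).apply_symm_apply (q b)).symm
  have hρt : ρ t = 0 := by simp [ρ, hqt]
  set I : Ideal R := (IsLocalRing.maximalIdeal A).map p with hIdef
  haveI : IsLocalHom p := inferInstanceAs (IsLocalHom (π.stalkMap v).hom)
  haveI : IsLocalHom q := inferInstanceAs (IsLocalHom (j.stalkMap x).hom)
  have htm : t ∈ IsLocalRing.maximalIdeal R := fun hu => not_isUnit_zero (hqt ▸ hu.map q)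
  have hmI : IsLocalRing.maximalIdeal R ≤ Ideal.span {t} ⊔ I := by
    intro b hb
    have hsb : s (q b) ∈ IsLocalRing.maximalIdeal A := fun hu =>
      hb (isUnit_of_map_unit q b ((s.symm_apply_apply (q b)) ▸ hu.map s.symm))
    rw [← sub_add_cancel b (ρ b)]
    exact Submodule.add_mem_sup (hρ b) (Ideal.mem_map_of_mem p hsb)
  let E : R →+* (π.fiber (π v)).presheaf.stalk (π.asFiber v) :=
    (e : _ →+* _).comp (Ideal.Quotient.mk I)
  have hE : Function.Surjective E := e.surjective.comp Ideal.Quotient.mk_surjective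
  have hE0 : ∀ b, E b = 0 ↔ b ∈ I := fun b =>
    ⟨fun h => Ideal.Quotient.eq_zero_iff_mem.mp (e.injective (h.trans (map_zero e).symm)),
      fun h => (congrArg e (Ideal.Quotient.eq_zero_iff_mem.mpr h)).trans (map_zero e)⟩
  refine isDVR_of_generator (E t) (fun a ha => ?_) (le_antisymm (fun a ha => ?_) ?_)
  · obtain ⟨a, rfl⟩ := hE a
    rw [← map_mul, hE0] at ha
    rw [hE0]
    exact mem_of_mul_mem p ρ t a hρp hρt hρ _ ha ht
  · obtain ⟨a, rfl⟩ := hE a
    have ham : a ∈ IsLocalRing.maximalIdeal R := fun hu => ha (hu.map E)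
    obtain ⟨b, hb, c, hc, rfl⟩ := Submodule.mem_sup.mp (hmI ham)
    obtain ⟨w, rfl⟩ := Ideal.mem_span_singleton'.mp hb
    rw [map_add, (hE0 c).mpr hc, add_zero, map_mul]
    exact Ideal.mul_mem_left _ _ (Ideal.mem_span_singleton_self _)
  · rw [Ideal.span_singleton_le_iff_mem]
    haveI : IsLocalHom E := .of_surjective E hE
    exact fun hu => htm (isUnit_of_map_unit E t hu)

end Groth.Agent.S8283
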