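import Groth.Statements.S8295
import Groth.Agent.H81.Cone.Vertex

set_option autoImplicit false
universe u
open CategoryTheory CategoryTheory.Limits AlgebraicGeometry Opposite TopologicalSpace
open scoped HomogeneousIdeal
noncomputable section
open EGA2

namespace Groth.Agent.S8295

/-- The vertex section of the affine cone: let 𝒮 be a quasi-coherent positively graded O_Y-algebra with
𝒮_0 = O_Y, aug : 𝒮 → O_Y its augmentation (the algebra homomorphism over O_Y that vanishes on
sections of positive degree) and C = Spec(𝒮) the affine cone. There is exactly one morphism ε : Y →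
C which is a section of the structure morphism and which over every affine open U of Y is, on Spec
O_Y(U), the morphism Spec of aug(U) followed by the chart Spec 𝒮(U) → C; moreover every such ε is a
closed immersion. -/
theorem result {Y : Scheme.{u}} (𝒮 : RelProj.QCGrAlg Y)
    (h0 : RelCone.StrZeroBij 𝒮) (aug : 𝒮.toQCAlg ⟶ RelSpec.QCAlg.unit Y) (haug : RelCone.IsAugmentation 𝒮 aug) :
    (∃! ε : Y ⟶ 𝒮.toQCAlg.spec, RelCone.IsVertex 𝒮 aug ε) ∧
      ∀ ε : Y ⟶ 𝒮.toQCAlg.spec, RelCone.IsVertex 𝒮 aug ε → IsClosedImmersion ε := by
  exact Groth.Agent.H81.Cone.Vertex.exists_vertex 𝒮 aug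

end Groth.Agent.S8295
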