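import Groth.Statements.S8296
import Groth.Agent.H81.Cone.Vertex

set_option autoImplicit false
universe u
open CategoryTheory CategoryTheory.Limits AlgebraicGeometry Opposite TopologicalSpace
open scoped HomogeneousIdeal
noncomputable section
open EGA2

namespace Groth.Agent.S8296

/-- The pointed affine cone: let 𝒮 be a quasi-coherent positively graded O_Y-algebra with 𝒮_0 = O_Y, aug
its augmentation, C = Spec(𝒮) its affine cone and ε : Y → C the vertex section. Then the open subset
of C which is the union, over the affine opens U of Y, of the chart images of the complements of the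
closed sets V(𝒮(U)_+) in Spec 𝒮(U), is exactly the complement of ε(Y); in other words the pointed
affine cone E, defined chart by chart through the irrelevant ideals, is C − ε(Y). -/
theorem result {Y : Scheme.{u}} (𝒮 : RelProj.QCGrAlg Y)
    (h0 : RelCone.StrZeroBij 𝒮) (aug : 𝒮.toQCAlg ⟶ RelSpec.QCAlg.unit Y) (haug : RelCone.IsAugmentation 𝒮 aug)
    (ε : Y ⟶ 𝒮.toQCAlg.spec) (hε : RelCone.IsVertex 𝒮 aug ε) :
    ((RelCone.pointedCone 𝒮 : 𝒮.toQCAlg.spec.Opens) : Set 𝒮.toQCAlg.spec) = (Set.range ε.base)ᶜ := by
  exact Groth.Agent.H81.Cone.Vertex.pointedCone_eq 𝒮 h0 haug hε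

end Groth.Agent.S8296
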