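import Groth.Statements.S8304
import Groth.Agent.H81.Cone.SymBiprod
import Groth.Agent.Lib.TensorMod.QCohInv
import Groth.Agent.Lib.QCoh.Closure

set_option autoImplicit false
universe u
open CategoryTheory CategoryTheory.Limits AlgebraicGeometry Opposite TopologicalSpace
open scoped HomogeneousIdeal
noncomputable section
open EGA2

namespace Groth.Agent.S8304

/-- At the level of graded algebras: let E be a quasi-coherent O_Y-module and 𝒮 = Sym(E) its graded
symmetric algebra (j : E → 𝒮 landing in degree one), and let Ŝ = 𝒮[z] be given through a graded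
homomorphism ι : 𝒮 → Ŝ and a global section z of degree one with 𝒮(U)[X] → Ŝ(U), X ↦ z, bijective
over every affine open U. If k : O_Y → Ŝ is a module homomorphism sending the unit section to z over
every open, then Ŝ together with the map E ⊕ O_Y → Ŝ whose components are j followed by ι, and k, is
the graded symmetric algebra of E ⊕ O_Y. Consequently the projective cone of V(E) = Spec(Sym E),
which is Proj(Ŝ), is the projective bundle P(E ⊕ O_Y), and its locus at infinity Proj(𝒮) is P(E). -/
theorem result {Y : Scheme.{u}} (E : Y.Modules) (hE : Coh.IsQCoh E)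
    (𝒮 𝒮h : RelProj.QCGrAlg Y) (j : E ⟶ 𝒮.toModule) (hS : RelProj.IsGrSymAlg E 𝒮 j)
    (ι : 𝒮.toQCAlg ⟶ 𝒮h.toQCAlg) (z : 𝒮h.presheaf.obj (op ⊤)) (hz : RelCone.IsPolyOver 𝒮 𝒮h ι z)
    (k : Coh.structureModule Y ⟶ 𝒮h.toModule)
    (hk : ∀ U : Y.Opens, (k.app U) (1 : Γ(Y, U)) = RelCone.restrictTop 𝒮h z U) :
    RelProj.IsGrSymAlg (E ⊞ Coh.structureModule Y) 𝒮h
      (biprod.desc (j ≫ RelSpec.QCAlg.Hom.toModuleMap ι) k) := by
  haveI : E.IsQuasicoherent := hE
  haveI : (Coh.structureModule Y).IsQuasicoherent := Groth.Agent.Lib.TensorMod.QCohInv.isQCoh_structureModule Y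
  exact Groth.Agent.H81.Cone.SymBiprod.isGrSymAlg hS hk hz

end Groth.Agent.S8304
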