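import Groth.Statements.S8305
import Groth.Agent.Lib.AffAlgBij.Basic
import Groth.Agent.Lib.QCoh.Pushforward
import Groth.Agent.Lib.CohDelta.BC.Transpose
import Groth.Agent.Lib.QCoh.Localizing

set_option autoImplicit false
universe u
open CategoryTheory CategoryTheory.Limits AlgebraicGeometry Opposite TopologicalSpace
noncomputable section
open EGA2

namespace Groth.Agent.S8305

open Groth.Agent.Lib Groth.Agent.Lib.QCoh.Localizing TopologicalSpace in
/-- A map of quasi-coherent modules bijective over preimages of affines is an isomorphism. -/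
theorem isIso_of_preimages {X S : Scheme.{u}} (f : X ⟶ S) [IsAffineHom f] {F G : X.Modules}
    [F.IsQuasicoherent] [G.IsQuasicoherent] (φ : F ⟶ G)
    (h : ∀ U : S.Opens, IsAffineOpen U → Function.Bijective (φ.app (f ⁻¹ᵁ U))) : IsIso φ := by
  let B : Set X.Opens := {W | ∃ (U : S.Opens) (_ : IsAffineOpen U) (a : Γ(X, f ⁻¹ᵁ U)), W = X.basicOpen a}
  have hB : Opens.IsBasis B := Opens.isBasis_iff_nbhd.2 fun {W x} hx => by
    obtain ⟨U, hU, hxU, -⟩ := exists_isAffineOpen_mem_and_subset (X := S) (x := f x) (U := ⊤) (Opens.mem_top _)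
    obtain ⟨a, haW, hxa⟩ := (hU.preimage f).exists_basicOpen_le (V := W) ⟨x, hx⟩ hxU
    exact ⟨_, ⟨U, hU, a, rfl⟩, hxa, haW⟩
  refine CohDelta.BC.Transpose.isIso_of_bijective_basis φ hB ?_
  rintro _ ⟨U, hU, a, rfl⟩
  have hF := localizes_of_isAffineOpen F (hU.preimage f) a
  have hG := localizes_of_isAffineOpen G (hU.preimage f) a
  have hu : IsUnit (resR (X.basicOpen_le a) a) := X.toRingedSpace.isUnit_res_basicOpen a
  refine ⟨?_, fun s' => ?_⟩
  · rw [injective_iff_map_eq_zero]
    intro s hs
    obtain ⟨n, t, ht⟩ := hF.ext' s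
    obtain ⟨m, hm⟩ := hG.sep (φ.app _ t) (by rw [res_app, ht, φ.app_smul, hs, smul_zero])
    have h0 : a ^ m • t = 0 := (h U hU).1 (by rw [φ.app_smul, hm, map_zero])
    have h1 := congrArg (res F (X.basicOpen_le a)) h0
    rw [res_smul, ht, map_zero, map_pow, smul_smul] at h1
    exact (((hu.pow m).mul (hu.pow n)).smul_eq_zero).1 h1
  · obtain ⟨n, t, ht⟩ := hG.ext' s'
    obtain ⟨t', rfl⟩ := (h U hU).2 t
    refine ⟨((hu.pow n).unit⁻¹ : _ˣ).1 • res F (X.basicOpen_le a) t', ?_⟩
    rw [φ.app_smul, ← res_app, ht, smul_smul, IsUnit.val_inv_mul, one_smul]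

/-- Let X and Y be schemes affine over S with structure morphisms gX and gY, h : Y → X a morphism over
S, F a quasi-coherent O_X-module, G a quasi-coherent O_Y-module and v : F → h_*G a homomorphism of
O_X-modules, so that (h, v) is a morphism of pairs (Y, G) → (X, F). Then h and v are isomorphisms if
and only if the direct-image algebra homomorphism A(h) : gX_*O_X → gY_*O_Y and the direct image A(v)
= gX_*(v) : gX_*F → gX_*h_*G are isomorphisms (the pair (A(h), A(v)) is a di-isomorphism). -/
theorem result {X Y S : Scheme.{u}} (gX : X ⟶ S) [IsAffineHom gX]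
    (gY : Y ⟶ S) [IsAffineHom gY] (h : Y ⟶ X) (hh : h ≫ gX = gY)
    (F : X.Modules) (G : Y.Modules) (hF : Coh.IsQCoh F) (hG : Coh.IsQCoh G)
    (v : F ⟶ (Scheme.Modules.pushforward h).obj G) :
    (IsIso h ∧ IsIso v) ↔
      (IsIso (AffAlg.algHom gX gY h hh) ∧ IsIso ((Scheme.Modules.pushforward gX).map v)) := by
  open Groth.Agent.Lib in
  constructor
  · rintro ⟨hi, hv⟩
    haveI : IsIso h := hi
    haveI : IsIso v := hv
    refine ⟨?_, inferInstance⟩
    haveI : ∀ U, IsIso ((AffAlg.algHom gX gY h hh).app U) := fun U => by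
      subst hh
      simp only [AffAlg.algHom]
      rw [NatTrans.comp_app]
      haveI : IsIso h.c := inferInstance
      infer_instance
    exact NatIso.isIso_of_isIso_app _
  · rintro ⟨hω, hv⟩
    haveI : IsIso (AffAlg.algHom gX gY h hh) := hω
    have hIso : IsIso h := by
      obtain ⟨⟨k, hk⟩, hkω⟩ := AffAlgBij.surjective (f := gY) (g := gX)
        ⟨inv (AffAlg.algHom gX gY h hh), by rw [IsIso.comp_inv_eq]; exact (AffAlg.algHom_comm gX gY h hh).symm⟩
      have hkω' : AffAlg.algHom gY gX k hk = inv (AffAlg.algHom gX gY h hh) := congrArg Subtype.val hkω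
      refine ⟨k, ?_, ?_⟩
      · have := AffAlgBij.injective (f := gY) (g := gY) (a₁ := ⟨h ≫ k, by rw [Category.assoc, hk, hh]⟩) (a₂ := ⟨𝟙 Y, Category.id_comp _⟩) (Subtype.ext ?_)
        · exact congrArg Subtype.val this
        · show AffAlg.algHom gY gY (h ≫ k) (by rw [Category.assoc, hk, hh]) = AffAlg.algHom gY gY (𝟙 Y) (Category.id_comp _)
          have hc : AffAlg.algHom gY gY (h ≫ k) (by rw [Category.assoc, hk, hh]) =
              AffAlg.algHom gY gX k hk ≫ AffAlg.algHom gX gY h hh := by
            refine NatTrans.ext (funext fun ⟨U⟩ => ?_)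
            rw [NatTrans.comp_app, AffAlgBij.algHom_app, AffAlgBij.algHom_app, AffAlgBij.algHom_app,
              Scheme.Hom.appLE_comp_appLE]
          rw [hc, hkω', IsIso.inv_hom_id]
          refine NatTrans.ext (funext fun ⟨U⟩ => ?_)
          rw [AffAlgBij.algHom_app, NatTrans.id_app]
          simp [Scheme.Hom.appLE]
          exact ((Category.id_comp _).trans (Y.presheaf.map_id _)).symm
      · have := AffAlgBij.injective (f := gX) (g := gX) (a₁ := ⟨k ≫ h, by rw [Category.assoc, hh, hk]⟩) (a₂ := ⟨𝟙 X, Category.id_comp _⟩) (Subtype.ext ?_)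
        · exact congrArg Subtype.val this
        · show AffAlg.algHom gX gX (k ≫ h) (by rw [Category.assoc, hh, hk]) = AffAlg.algHom gX gX (𝟙 X) (Category.id_comp _)
          have hc : AffAlg.algHom gX gX (k ≫ h) (by rw [Category.assoc, hh, hk]) =
              AffAlg.algHom gX gY h hh ≫ AffAlg.algHom gY gX k hk := by
            refine NatTrans.ext (funext fun ⟨U⟩ => ?_)
            rw [NatTrans.comp_app, AffAlgBij.algHom_app, AffAlgBij.algHom_app, AffAlgBij.algHom_app,
              Scheme.Hom.appLE_comp_appLE]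
          rw [hc, hkω', IsIso.hom_inv_id]
          refine NatTrans.ext (funext fun ⟨U⟩ => ?_)
          rw [AffAlgBij.algHom_app, NatTrans.id_app]
          simp [Scheme.Hom.appLE]
          exact ((Category.id_comp _).trans (X.presheaf.map_id _)).symm
    haveI := hIso
    haveI : F.IsQuasicoherent := hF
    haveI : G.IsQuasicoherent := hG
    haveI : ((Scheme.Modules.pushforward h).obj G).IsQuasicoherent :=
      QCoh.Pushforward.isQCoh_pushforward h (M := G)
    haveI : IsIso ((Scheme.Modules.pushforward gX).map v) := hv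
    refine ⟨hIso, isIso_of_preimages gX v fun U _ => ?_⟩
    haveI : IsIso (((Scheme.Modules.pushforward gX).map v).app U) := inferInstance
    exact ConcreteCategory.bijective_of_isIso (((Scheme.Modules.pushforward gX).map v).app U)

end Groth.Agent.S8305
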