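import Groth.Statements.S8309
import Groth.Agent.H81.Cone.RetractCone

set_option autoImplicit false
universe u
open CategoryTheory CategoryTheory.Limits AlgebraicGeometry Opposite TopologicalSpace
open scoped HomogeneousIdeal
noncomputable section
open EGA2

namespace Groth.Agent.S8309

/-- The canonical retraction of the pointed affine cone: let 𝒮 be a quasi-coherent positively graded
O_Y-algebra with 𝒮_0 = O_Y, Ŝ = 𝒮[z] (graded homomorphism ι : 𝒮 → Ŝ and a degree-one global section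
z, polynomial over affine opens), C = Spec(𝒮), X = Proj(𝒮) and Ĉ = Proj(Ŝ) with their charts, E ⊆ C
and Ê ⊆ Ĉ the pointed cones, i : C → Ĉ the canonical open immersion and p : Ê → X the canonical
retraction (the morphism which on each affine piece Spec Ŝ(U)_(ι f), f ∈ 𝒮(U) homogeneous of
positive degree, is Spec of 𝒮(U)_(f) → Ŝ(U)_(ι f) followed by the chart of X). Then the image of E
under i lies in Ê, and for the induced morphism i' : E → Ê the composite π = i' ≫ p : E → X is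
affine and surjective. -/
theorem result {Y PC P : Scheme.{u}} (𝒮 𝒮h : RelProj.QCGrAlg Y) (h0 : RelCone.StrZeroBij 𝒮)
    (ι : 𝒮.toQCAlg ⟶ 𝒮h.toQCAlg) (z : 𝒮h.presheaf.obj (op ⊤)) (hz : RelCone.IsPolyOver 𝒮 𝒮h ι z)
    (pC : PC ⟶ Y)
    (chartC : ∀ (U : Y.Opens) (hU : IsAffineOpen U), (((pC ⁻¹ᵁ U : PC.Opens) : Scheme.{u}) ≅ Proj (𝒮h.deg U hU)))
    (hPC : RelProj.IsRelProj 𝒮h pC chartC)
    (p : P ⟶ Y)
    (chart : ∀ (U : Y.Opens) (hU : IsAffineOpen U), (((p ⁻¹ᵁ U : P.Opens) : Scheme.{u}) ≅ Proj (𝒮.deg U hU)))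
    (hP : RelProj.IsRelProj 𝒮 p chart)
    (i : 𝒮.toQCAlg.spec ⟶ PC) (hi : RelCone.IsConeImm 𝒮 hz pC chartC i)
    (r : ((RelCone.pointedProjCone 𝒮 hz pC chartC : PC.Opens) : Scheme.{u}) ⟶ P)
    (hr : (∀ (U : Y.Opens) (hU : IsAffineOpen U) (d : ℕ) (hd : 0 < d) (f : 𝒮.presheaf.obj (op U)) (hf : f ∈ 𝒮.deg U hU d)
        (g : Spec (CommRingCat.of (HomogeneousLocalization.Away (𝒮h.deg U hU) ((RelProj.gradedHomAt ι hz.graded U hU) f))) ⟶
          ((RelCone.pointedProjCone 𝒮 hz pC chartC : PC.Opens) : Scheme.{u})),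
        g ≫ (RelCone.pointedProjCone 𝒮 hz pC chartC).ι =
            Proj.awayι (𝒮h.deg U hU) ((RelProj.gradedHomAt ι hz.graded U hU) f) ((RelProj.gradedHomAt ι hz.graded U hU).2 hf) hd ≫
              RelProj.emb pC chartC U hU →
          g ≫ r =
            Spec.map (CommRingCat.ofHom (HomogeneousLocalization.Away.map (RelProj.gradedHomAt ι hz.graded U hU) f)) ≫
              Proj.awayι (𝒮.deg U hU) f hf hd ≫ RelProj.emb p chart U hU)) :
    (RelCone.pointedCone 𝒮 : 𝒮.toQCAlg.spec.Opens) ≤ i ⁻¹ᵁ (RelCone.pointedProjCone 𝒮 hz pC chartC) ∧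
      ∀ i' : ((RelCone.pointedCone 𝒮 : 𝒮.toQCAlg.spec.Opens) : Scheme.{u}) ⟶ ((RelCone.pointedProjCone 𝒮 hz pC chartC : PC.Opens) : Scheme.{u}),
        i' ≫ (RelCone.pointedProjCone 𝒮 hz pC chartC).ι = (RelCone.pointedCone 𝒮).ι ≫ i →
          IsAffineHom (i' ≫ r) ∧ Function.Surjective (i' ≫ r).base := by
  refine ⟨Groth.Agent.H81.Cone.RetractCone.pointed_le hi hPC, fun i' hi' => ⟨?_, ?_⟩⟩
  · exact Groth.Agent.H81.Cone.RetractCone.isAffineHom hi hPC hP hr hi'
  · exact Groth.Agent.H81.Cone.RetractCone.surjective hi hPC hP hr hi'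

end Groth.Agent.S8309
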