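import Groth.Statements.S8310
import Groth.Agent.H95.ProjNat.Basic

set_option autoImplicit false
universe u
open CategoryTheory AlgebraicGeometry
open scoped HomogeneousIdeal
open EGA2

namespace Groth.Agent.S8310

/-- Let S be a positively graded ring (an ℕ-graded R-algebra), S♮ the graded ring with S♮_n = S_[n] =
⊕_{m ≥ n} S_m (presented as a graded ring S' with an injective algebra homomorphism φ : S' → S[X]
carrying S'_n onto S_[n]·X^n), and T = S♮ ⊗_S S_0 = ⊕_n S_[n]/S_+S_[n] (presented as a graded ring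
with a surjective graded homomorphism π : S' → T whose kernel is the ideal generated by the elements
of S' corresponding to the constants in S_+); let ρ : T → S be the surjective graded homomorphism
sending the class of a ∈ S_[n] (in degree n) to the degree-n component of a, and Proj S → Proj T the
morphism it induces (a closed immersion, ρ being surjective). Then this morphism Proj S → Proj T is
bijective. -/
theorem result {R A B C : Type u} [CommRing R] [CommRing A] [Algebra R A]
    (𝒜 : ℕ → Submodule R A) [GradedAlgebra 𝒜] [CommRing B] [Algebra R B] (ℬ : ℕ → Submodule R B) [GradedAlgebra ℬ]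
    (φ : B →ₐ[R] Polynomial A) (hφ : Function.Injective φ)
    (hdeg : ∀ n : ℕ, Submodule.map φ.toLinearMap (ℬ n) =
      Submodule.map ((Polynomial.monomial n : A →ₗ[A] Polynomial A).restrictScalars R) (⨆ (m : ℕ) (_ : n ≤ m), 𝒜 m))
    [CommRing C] [Algebra R C] (𝒞 : ℕ → Submodule R C) [GradedAlgebra 𝒞]
    (π : ℬ →+*ᵍ 𝒞) (hπ : Function.Surjective π)
    (hker : RingHom.ker π.toRingHom =
      Ideal.span (⇑φ ⁻¹' (⇑(Polynomial.C : A →+* Polynomial A) '' ((HomogeneousIdeal.irrelevant 𝒜).toIdeal : Set A))))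
    (ρ : 𝒞 →+*ᵍ 𝒜) (hρ : ∀ (n : ℕ) (b : B), b ∈ ℬ n → ρ (π b) = GradedRing.proj 𝒜 n ((φ b).coeff n))
    (hirr : HomogeneousIdeal.irrelevant 𝒜 ≤ (HomogeneousIdeal.irrelevant 𝒞).map ρ) :
    Function.Bijective (Proj.map ρ hirr).base := by
  have hsurj : Function.Surjective ρ := H95.ProjNat.surjective φ hφ hdeg π hπ ρ hρ
  have hnil : ∀ c : C, ρ c = 0 → IsNilpotent c := fun c h =>
    H95.ProjNat.isNilpotent_of_map_eq_zero φ hφ hdeg π hπ hker ρ hρ h
  refine ⟨fun p q h => ?_, fun q => ?_⟩
  · have e : p.asHomogeneousIdeal.toIdeal.comap ρ.toRingHom = q.asHomogeneousIdeal.toIdeal.comap ρ.toRingHom :=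
      congrArg (fun x : ProjectiveSpectrum 𝒞 => x.asHomogeneousIdeal.toIdeal) h
    exact ProjectiveSpectrum.ext (HomogeneousIdeal.ext (Ideal.comap_injective_of_surjective ρ.toRingHom hsurj e))
  · classical
    let I : Ideal A := Ideal.map ρ.toRingHom q.asHomogeneousIdeal.toIdeal
    have hle : RingHom.ker ρ.toRingHom ≤ q.asHomogeneousIdeal.toIdeal := fun c hc =>
      nilradical_le_prime (J := q.asHomogeneousIdeal.toIdeal) (H := q.isPrime) (hnil c hc)
    have hcomap : Ideal.comap ρ.toRingHom I = q.asHomogeneousIdeal.toIdeal := by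
      rw [Ideal.comap_map_of_surjective ρ.toRingHom hsurj, sup_eq_left]
      exact hle
    haveI := q.isPrime
    have hprime : I.IsPrime := Ideal.map_isPrime_of_surjective hsurj hle
    have hhom : I.IsHomogeneous 𝒜 := (q.asHomogeneousIdeal.map ρ).is_homogeneous'
    refine ⟨⟨⟨I, hhom⟩, hprime, fun h => q.not_irrelevant_le ?_⟩,
      ProjectiveSpectrum.ext (HomogeneousIdeal.ext hcomap)⟩
    intro c hc
    have hc' : c ∈ (HomogeneousIdeal.irrelevant 𝒞).toIdeal := hc
    have : ρ c ∈ I := by
      apply h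
      replace hc' := (HomogeneousIdeal.mem_irrelevant_iff 𝒞 c).1 hc'
      refine (HomogeneousIdeal.mem_irrelevant_iff 𝒜 (ρ c)).2 ?_
      rw [GradedRing.proj_apply,
        ← GradedRingHom.map_directSumDecompose 𝒞 𝒜 ρ]
      rw [GradedRing.proj_apply] at hc'
      rw [hc', map_zero]
    show c ∈ q.asHomogeneousIdeal.toIdeal
    rw [← hcomap]
    exact this

end Groth.Agent.S8310
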