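import Groth.Statements.S8311
import Groth.Agent.H95.ProjNat.Basic

set_option autoImplicit false
universe u
open CategoryTheory AlgebraicGeometry
open scoped HomogeneousIdeal
open EGA2

namespace Groth.Agent.S8311

/-- Let S be a positively graded ring (an ℕ-graded R-algebra), S♮ the graded ring with S♮_n = S_[n] =
⊕_{m ≥ n} S_m (presented as a graded ring S' with an injective algebra homomorphism φ : S' → S[X]
carrying S'_n onto S_[n]·X^n), and T = S♮ ⊗_S S_0 = ⊕_n S_[n]/S_+S_[n] (presented as a graded ring
with a surjective graded homomorphism π : S' → T whose kernel is the ideal generated by the elements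
of S' corresponding to the constants in S_+); let ρ : T → S be the surjective graded homomorphism
sending the class of a ∈ S_[n] (in degree n) to the degree-n component of a, and Proj S → Proj T the
morphism it induces (a closed immersion, ρ being surjective). If there is n₀ such that S_{n+1} = S_1
S_n for every n ≥ n₀ (products of graded pieces as submodules), then the morphism Proj S → Proj T is
an isomorphism. (The published statement also asserts the converse when S is Noetherian; that
converse is not correct as published: for S = k[y] with y of degree 2 the morphism is an isomorphism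
of one-point schemes Spec k while S_{2m} ≠ S_1 S_{2m−1} = 0 for all m, so only the direct
implication is stated here.) -/
theorem result {R A B C : Type u} [CommRing R] [CommRing A] [Algebra R A]
    (𝒜 : ℕ → Submodule R A) [GradedAlgebra 𝒜] [CommRing B] [Algebra R B] (ℬ : ℕ → Submodule R B) [GradedAlgebra ℬ]
    (φ : B →ₐ[R] Polynomial A) (hφ : Function.Injective φ)
    (hdeg : ∀ n : ℕ, Submodule.map φ.toLinearMap (ℬ n) =
      Submodule.map ((Polynomial.monomial n : A →ₗ[A] Polynomial A).restrictScalars R) (⨆ (m : ℕ) (_ : n ≤ m), 𝒜 m))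
    [CommRing C] [Algebra R C] (𝒞 : ℕ → Submodule R C) [GradedAlgebra 𝒞]
    (π : ℬ →+*ᵍ 𝒞) (hπ : Function.Surjective π)
    (hker : RingHom.ker π.toRingHom =
      Ideal.span (⇑φ ⁻¹' (⇑(Polynomial.C : A →+* Polynomial A) '' ((HomogeneousIdeal.irrelevant 𝒜).toIdeal : Set A))))
    (ρ : 𝒞 →+*ᵍ 𝒜) (hρ : ∀ (n : ℕ) (b : B), b ∈ ℬ n → ρ (π b) = GradedRing.proj 𝒜 n ((φ b).coeff n))
    (hirr : HomogeneousIdeal.irrelevant 𝒜 ≤ (HomogeneousIdeal.irrelevant 𝒞).map ρ)
    (hgen : ∃ n₀ : ℕ, ∀ n : ℕ, n₀ ≤ n → 𝒜 (n + 1) = 𝒜 1 * 𝒜 n) :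
    IsIso (Proj.map ρ hirr) := by
  obtain ⟨n₀, hgen⟩ := hgen
  refine Lib.ProjGlue.MapLocal.of_charts ρ hirr (CategoryTheory.MorphismProperty.isomorphisms Scheme.{u})
    fun i b hi hb => ?_
  have hbij : Function.Bijective (HomogeneousLocalization.Away.map ρ b) := by
    refine ⟨(injective_iff_map_eq_zero _).2 fun z hz => ?_, fun z => ?_⟩
    · obtain ⟨n, x, hx, rfl⟩ := HomogeneousLocalization.Away.mk_surjective 𝒞 hb z
      rw [HomogeneousLocalization.Away.map_mk] at hz
      have hz' := congrArg HomogeneousLocalization.val hz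
      rw [HomogeneousLocalization.Away.val_mk, HomogeneousLocalization.val_zero, Localization.mk_eq_mk',
        IsLocalization.mk'_eq_zero_iff] at hz'
      obtain ⟨⟨_, k, rfl⟩, hk⟩ := hz'
      change ρ b ^ k * ρ x = 0 at hk
      refine HomogeneousLocalization.val_injective _ ?_
      rw [HomogeneousLocalization.Away.val_mk, HomogeneousLocalization.val_zero, Localization.mk_eq_mk',
        IsLocalization.mk'_eq_zero_iff]
      refine ⟨⟨b ^ (k + n₀), k + n₀, rfl⟩, ?_⟩
      refine H95.ProjNat.eq_zero_of_gen φ hφ hdeg π hπ hker ρ hρ hgen (n := (k + n₀) • i + n • i) ?_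
        (SetLike.mul_mem_graded (SetLike.pow_mem_graded _ hb) hx) ?_
      · simp only [smul_eq_mul]
        nlinarith
      · rw [map_mul, map_pow, pow_add, mul_right_comm, hk, zero_mul]
    · obtain ⟨n, a, ha, rfl⟩ := HomogeneousLocalization.Away.mk_surjective 𝒜 (ρ.map_mem hb) z
      obtain ⟨x, hx, hxa⟩ := H95.ProjNat.surjOn φ hφ hdeg π hπ ρ hρ ha
      refine ⟨HomogeneousLocalization.Away.mk 𝒞 hb n x hx, HomogeneousLocalization.val_injective _ ?_⟩
      rw [HomogeneousLocalization.Away.map_mk, HomogeneousLocalization.Away.val_mk,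
        HomogeneousLocalization.Away.val_mk]
      simp only [hxa]
      rfl
  haveI : IsIso (CommRingCat.ofHom (HomogeneousLocalization.Away.map ρ b)) :=
    (ConcreteCategory.isIso_iff_bijective _).2 hbij
  exact (inferInstance : IsIso (Spec.map (CommRingCat.ofHom (HomogeneousLocalization.Away.map ρ b))))

end Groth.Agent.S8311
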