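import Groth.Statements.S8312
import Mathlib

set_option autoImplicit false
universe u
open scoped HomogeneousIdeal
open EGA2

namespace Groth.Agent.S8312

/-- Let S be a positively graded ring (an ℕ-graded R-algebra) and S♮ the graded ring with S♮_n = S_[n] =
⊕_{m ≥ n} S_m, presented as a graded ring S' with an injective algebra homomorphism φ : S' → S[X]
carrying S'_n onto S_[n]·X^n; for a homogeneous f ∈ S_d write f♮ for the element of S' with φ(f♮) =
f·X^d (f placed in degree d of S♮). If (f_α) is a family of homogeneous elements of S of positive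
degrees such that every element of the irrelevant ideal S_+ has a positive power in the ideal
generated by the f_α (that is, S_+ is the radical in S_+ of that ideal), then every element of the
irrelevant ideal S'_+ has a positive power in the ideal of S' generated by the f_α♮. -/
theorem result {R A B : Type u} [CommRing R] [CommRing A] [Algebra R A]
    (𝒜 : ℕ → Submodule R A) [GradedAlgebra 𝒜] [CommRing B] [Algebra R B] (ℬ : ℕ → Submodule R B) [GradedAlgebra ℬ]
    (φ : B →ₐ[R] Polynomial A) (hφ : Function.Injective φ)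
    (hdeg : ∀ n : ℕ, Submodule.map φ.toLinearMap (ℬ n) =
      Submodule.map ((Polynomial.monomial n : A →ₗ[A] Polynomial A).restrictScalars R) (⨆ (m : ℕ) (_ : n ≤ m), 𝒜 m))
    {ι : Type u} (d : ι → ℕ) (hd : ∀ a, 0 < d a) (f : ι → A) (hf : ∀ a, f a ∈ 𝒜 (d a))
    (hrad : ∀ g ∈ (HomogeneousIdeal.irrelevant 𝒜).toIdeal, ∃ n : ℕ, 0 < n ∧ g ^ n ∈ Ideal.span (Set.range f))
    (fn : ι → B) (hfn : ∀ a, φ (fn a) = Polynomial.monomial (d a) (f a)) :
    ∀ g ∈ (HomogeneousIdeal.irrelevant ℬ).toIdeal, ∃ n : ℕ, 0 < n ∧ g ^ n ∈ Ideal.span (Set.range fn) := by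
  classical
  intro g hg
  suffices g ∈ (Ideal.span (Set.range fn)).radical by
    obtain ⟨n, hn⟩ := this
    exact ⟨n + 1, Nat.succ_pos n, by rw [pow_succ]; exact Ideal.mul_mem_right _ _ hn⟩
  set Rad := (Ideal.span (Set.range fn)).radical
  have mono : ∀ (n m : ℕ), 0 < n → n ≤ m → ∀ a ∈ 𝒜 m, ∀ b : B, φ b = Polynomial.monomial n a → b ∈ Rad := by
    intro n m hn hnm a ha b hb
    obtain ⟨N, hN0, hN⟩ := hrad a (HomogeneousIdeal.mem_irrelevant_of_mem 𝒜 (by omega) ha)
    obtain ⟨co, hco⟩ := Finsupp.mem_ideal_span_range_iff_exists_finsupp.1 hN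
    set dm := co.support.sup d
    refine ⟨N + dm, ?_⟩
    have hhom : a ^ N = ∑ x ∈ co.support, (DirectSum.decompose 𝒜 (co x * f x) (m * N) : A) := by
      have h1 : a ^ N ∈ 𝒜 (m * N) := by simpa [mul_comm] using SetLike.pow_mem_graded N ha
      conv_lhs => rw [← DirectSum.decompose_of_mem_same 𝒜 h1, ← hco, Finsupp.sum]
      rw [DirectSum.decompose_sum, DFinsupp.finset_sum_apply, AddSubmonoidClass.coe_finset_sum]
    have hterm : ∀ x ∈ co.support, ∃ w : B, φ (w * fn x) = Polynomial.monomial (n * (N + dm)) (a ^ dm * (DirectSum.decompose 𝒜 (co x * f x) (m * N) : A)) := by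
      intro x hx
      have hdx : d x ≤ dm := Finset.le_sup hx
      by_cases hle : d x ≤ m * N
      · rw [DirectSum.coe_decompose_mul_of_right_mem_of_le 𝒜 (hf x) hle]
        set r : A := (DirectSum.decompose 𝒜 (co x) (m * N - d x) : A)
        have hr : a ^ dm * r ∈ 𝒜 (dm * m + (m * N - d x)) :=
          SetLike.GradedMul.mul_mem (by simpa using SetLike.pow_mem_graded dm ha) (DirectSum.decompose 𝒜 (co x) _).2
        have hle1 : d x ≤ n * (N + dm) := by
          calc d x ≤ N + dm := by omega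
            _ ≤ n * (N + dm) := Nat.le_mul_of_pos_left _ hn
        have hmem : Polynomial.monomial (n * (N + dm) - d x) (a ^ dm * r) ∈ Submodule.map φ.toLinearMap (ℬ (n * (N + dm) - d x)) := by
          rw [hdeg]
          refine ⟨_, Submodule.mem_iSup_of_mem _ (Submodule.mem_iSup_of_mem ?_ hr), rfl⟩
          have : n * (N + dm) ≤ m * (N + dm) := Nat.mul_le_mul_right _ hnm
          rw [Nat.mul_add m, mul_comm m dm] at this
          omega
        obtain ⟨w, -, hw⟩ := hmem
        refine ⟨w, ?_⟩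
        rw [map_mul, hfn]
        change φ w = _ at hw
        rw [hw, Polynomial.monomial_mul_monomial, Nat.sub_add_cancel hle1]
        ring_nf
      · exact ⟨0, by rw [DirectSum.coe_decompose_mul_of_right_mem_of_not_le 𝒜 (hf x) hle]; simp⟩
    choose! w hw using hterm
    have : b ^ (N + dm) = ∑ x ∈ co.support, w x * fn x := by
      apply hφ
      rw [map_sum, Finset.sum_congr rfl hw, ← map_sum, ← Finset.mul_sum, ← hhom, map_pow, hb, Polynomial.monomial_pow, ← pow_add, add_comm dm N]
    rw [this]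
    exact Ideal.sum_mem _ fun x _ => Ideal.mul_mem_left _ _ (Ideal.subset_span ⟨x, rfl⟩)
  rw [← DirectSum.sum_support_decompose ℬ g]
  refine Ideal.sum_mem _ fun n _ => ?_
  rcases Nat.eq_zero_or_pos n with rfl | hn
  · have h0 : (DirectSum.decompose ℬ g 0 : B) = 0 := by
      have := (HomogeneousIdeal.mem_irrelevant_iff ℬ g).mp hg
      rwa [GradedRing.proj_apply] at this
    rw [h0]; exact zero_mem _
  have hb : φ (DirectSum.decompose ℬ g n : B) ∈ Submodule.map φ.toLinearMap (ℬ n) := ⟨_, (DirectSum.decompose ℬ g n).2, rfl⟩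
  rw [hdeg] at hb
  obtain ⟨a, ha, hae⟩ := hb
  have key : ∀ a ∈ (⨆ (m : ℕ) (_ : n ≤ m), 𝒜 m), ∃ b ∈ Rad, φ b = Polynomial.monomial n a := by
    intro a ha
    have hle : (⨆ (m : ℕ) (_ : n ≤ m), 𝒜 m) ≤ Submodule.comap ((Polynomial.monomial n : A →ₗ[A] Polynomial A).restrictScalars R) (Submodule.map φ.toLinearMap (Rad.restrictScalars R)) := by
      refine iSup₂_le fun m hm a ha => ?_
      have : Polynomial.monomial n a ∈ Submodule.map φ.toLinearMap (ℬ n) := by
        rw [hdeg]; exact ⟨a, Submodule.mem_iSup_of_mem m (Submodule.mem_iSup_of_mem hm ha), rfl⟩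
      obtain ⟨b, -, hb⟩ := this
      exact ⟨b, mono n m hn hm a ha b hb, hb⟩
    obtain ⟨b, hb, hbe⟩ := hle ha
    exact ⟨b, hb, hbe⟩
  obtain ⟨b, hb, hbe⟩ := key a ha
  rwa [← hφ (hbe.trans hae)]

end Groth.Agent.S8312
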