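import Groth.Statements.S8321
import Groth.Agent.H81.RelProj.RelTilde

set_option autoImplicit false
universe u
open CategoryTheory CategoryTheory.Limits AlgebraicGeometry Opposite TopologicalSpace
open scoped HomogeneousIdeal
noncomputable section
open EGA2

namespace Groth.Agent.S8321

/-- Existence: for a general quasi-coherent graded 𝒮-module ℳ and its shifts: on the relative
homogeneous spectrum P = Proj(𝒮) there is, for every integer n, an O_P-module glued from the modules
(ℳ(U)(n))~ on the Proj 𝒮(U), U affine open in Y — an O_P-module with chartwise identifications that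
are bijective on sections and compatible along restrictions to basic opens. (Quasi-coherence of ℳ is
needed: without it such a module need not exist.) -/
theorem result {Y P : Scheme.{u}} (𝒮 : RelProj.QCGrAlg Y) (p : P ⟶ Y)
    (chart : ∀ (U : Y.Opens) (hU : IsAffineOpen U), (((p ⁻¹ᵁ U : P.Opens) : Scheme.{u}) ≅ Proj (𝒮.deg U hU)))
    (hP : RelProj.IsRelProj 𝒮 p chart) (ℳ : RelProj.GrModule 𝒮)
    (hℳ : Coh.IsQCoh ((AMod.toOS 𝒮.toQCAlg).obj ℳ.mod)) (n : ℤ) :
    ∃ (F : P.Modules) (lam : ∀ (U : Y.Opens) (hU : IsAffineOpen U),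
      F ⟶ (Scheme.Modules.pushforward (RelProj.emb p chart U hU)).obj (GrMod.tilde (𝒮.deg U hU) (ℳ.deg U hU) n)),
      RelProj.IsRelTilde 𝒮 p chart ℳ n F lam := by
  exact Groth.Agent.H81.RelProj.RelTilde.exists_isRelTilde hP (Groth.Agent.H81.RelProj.RelTilde.loc_of_isQCoh ℳ hℳ)

end Groth.Agent.S8321
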