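import Groth.Statements.S8325
import Groth.Agent.H81.RelProj.RelTilde
import Groth.Agent.H81.RelProj.TwistInv
import Groth.Agent.Lib.CohBasics.Affine

set_option autoImplicit false
universe u
open CategoryTheory CategoryTheory.Limits AlgebraicGeometry Opposite TopologicalSpace
open scoped HomogeneousIdeal
noncomputable section
open EGA2

namespace Groth.Agent.S8325
open DirectSum Groth.Agent.H81.RelProj

section Graded

open GrTilde.Frac

variable {A σ : Type u} [CommRing A] [SetLike σ A] [AddSubgroupClass σ A] {𝒜 : ℕ → σ} [GradedRing 𝒜]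
  {M τ : Type u} [AddCommGroup M] [Module A M] [SetLike τ M] [AddSubgroupClass τ M] {𝓜 : ℕ → τ}
  [SetLike.GradedSMul 𝒜 𝓜] [DirectSum.Decomposition 𝓜]

include 𝒜 in
theorem decompose_smul_eq_zero {c : A} {i k : ℕ} {m : M} (hm : m ∈ 𝓜 i) (h : k < i) :
    (decompose 𝓜 (c • m) k : M) = 0 := by
  classical
  conv_lhs => rw [← sum_support_decompose 𝒜 c, Finset.sum_smul]
  rw [decompose_sum, DFinsupp.finsetSum_apply, AddSubmonoidClass.coe_finsetSum]
  exact Finset.sum_eq_zero fun j _ =>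
    decompose_of_mem_ne 𝓜 (smul_mem_of_mem (SetLike.coe_mem _) hm) (by omega)

/-- Sections of `M~` over `D₊(f)`, `f` of degree one, form a finite module if `M` is eventually
finitely generated. -/
theorem finite_sections {f : A} (hf : f ∈ 𝒜 1)
    (hTF : ∃ n : ℕ, (Submodule.span A (⋃ k ∈ Set.Ici n, (𝓜 k : Set M))).FG) :
    Module.Finite Γ(Proj 𝒜, Proj.basicOpen 𝒜 f) Γ(GrMod.tilde 𝒜 𝓜 0, Proj.basicOpen 𝒜 f) := by
  classical
  obtain ⟨n₀, hn₀⟩ := hTF
  obtain ⟨G, hG, hGspan⟩ := Submodule.fg_span_iff_fg_span_finset_subset _ |>.1 hn₀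
  have hdeg : ∀ g : G, ∃ j, (g : M) ∈ 𝓜 j := fun g => by
    obtain ⟨k, -, hk⟩ := Set.mem_iUnion₂.1 (hG g.2)
    exact ⟨k, hk⟩
  choose dg hdg using hdeg
  let U : Opens (ProjectiveSpectrum.top 𝒜) := ProjectiveSpectrum.basicOpen 𝒜 f
  have hU : ∀ k : ℕ, U ≤ ProjectiveSpectrum.basicOpen 𝒜 (f ^ k) := fun k y hy h =>
    hy (y.isPrime.mem_of_pow_mem k h)
  have hfk : ∀ k : ℕ, f ^ k ∈ 𝒜 k := fun k => by simpa using SetLike.pow_mem_graded k hf
  let g : G → Γ(GrMod.tilde 𝒜 𝓜 0, Proj.basicOpen 𝒜 f) := fun p =>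
    fracSec (n := 0) U (hfk (dg p)) (Deg.of_mem (hdg p) (Or.inl (by simp))) (hU _)
  let P : Submodule Γ(Proj 𝒜, Proj.basicOpen 𝒜 f) Γ(GrMod.tilde 𝒜 𝓜 0, Proj.basicOpen 𝒜 f) :=
    Submodule.span _ (Set.range g)
  refine ⟨⟨Finset.univ.image g, ?_⟩⟩
  rw [Finset.coe_image, Finset.coe_univ, Set.image_univ]
  change P = ⊤
  let T : ℕ → AddSubmonoid M := fun k =>
    { carrier := {v | ∃ h : Deg 𝓜 ((k : ℤ) + 0) v, fracSec (n := 0) U (hfk k) h (hU k) ∈ P}
      zero_mem' := ⟨Deg.zero _, by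
        have h0 : fracSec (ℳ := 𝓜) (n := 0) U (hfk k) (Deg.zero _) (hU k) = 0 :=
          sect_ext fun y => (val_fracSec (ℳ := 𝓜) U (hfk k) (Deg.zero _) (hU k) y).trans
            (LocalizedModule.zero_mk _)
        rw [h0]
        exact P.zero_mem⟩
      add_mem' := fun {a b} ⟨ha, ha'⟩ ⟨hb, hb'⟩ => ⟨ha.add hb, by
        have hadd : fracSec (n := 0) U (hfk k) (ha.add hb) (hU k) =
            fracSec (n := 0) U (hfk k) ha (hU k) + fracSec (n := 0) U (hfk k) hb (hU k) := by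
          refine sect_ext fun x => ?_
          rw [GrTilde.Basic.val_add, val_fracSec, val_fracSec, val_fracSec, LocalizedModule.mk_add_mk,
            LocalizedModule.mk_eq]
          exact ⟨1, by simp only [one_smul, Submonoid.smul_def, Submonoid.coe_mul, smul_add, mul_smul]⟩
        rw [hadd]
        exact P.add_mem ha' hb'⟩ }
  have key : ∀ x ∈ Submodule.span A (G : Set M), ∀ (c : A) (k : ℕ),
      (decompose 𝓜 (c • x) k : M) ∈ T k := by
    intro x hx
    induction hx using Submodule.span_induction with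
    | mem p hp =>
      intro c k
      let p' : G := ⟨p, hp⟩
      rcases Nat.lt_or_ge k (dg p') with hk | hk
      · rw [decompose_smul_eq_zero (𝒜 := 𝒜) (hdg p') hk]
        exact zero_mem _
      obtain ⟨i, rfl⟩ : ∃ i, k = i + dg p' := ⟨k - dg p', by omega⟩
      rw [decompose_smul_coe (𝒜 := 𝒜) c (hdg p') i]
      let a : A := decompose 𝒜 c i
      have ha : a ∈ 𝒜 (i • 1) := by
        rw [smul_eq_mul, mul_one]; exact SetLike.coe_mem _
      let F : Γ(Proj 𝒜, Proj.basicOpen 𝒜 f) :=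
        Proj.awayToSection 𝒜 f (HomogeneousLocalization.Away.mk 𝒜 hf i a ha)
      have hd : Deg 𝓜 (((i + dg p' : ℕ) : ℤ) + 0) (a • (p' : M)) :=
        Deg.of_mem (smul_mem_of_mem (SetLike.coe_mem (decompose 𝒜 c i)) (hdg p')) (Or.inl (by simp))
      refine ⟨hd, ?_⟩
      have hsec : fracSec (n := 0) U (hfk (i + dg p')) hd (hU _) = F • g p' := by
        refine sect_ext fun y => ?_
        refine Eq.trans ?_ (GrTilde.Basic.val_smul (U := U) F _ y).symm
        rw [val_fracSec, val_fracSec]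
        refine Eq.trans ?_
          (congrArg (· • _) (GrTilde.QCoh.val_awayToSection hf i a ha y (hU i y.2)).symm)
        rw [LocalizedModule.mk_smul_mk, LocalizedModule.mk_eq]
        refine ⟨1, ?_⟩
        simp only [one_smul, Submonoid.smul_def, Submonoid.coe_mul, smul_smul]
        congr 1
        rw [pow_add]
      rw [hsec]
      exact P.smul_mem F (Submodule.subset_span ⟨p', rfl⟩)
    | zero => intro c k; simp
    | add x y _ _ hx hy =>
      intro c k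
      rw [smul_add, decompose_add, DirectSum.add_apply, AddMemClass.coe_add]
      exact add_mem (hx c k) (hy c k)
    | smul d x _ hx =>
      intro c k
      rw [smul_smul]
      exact hx (c * d) k
  refine eq_top_iff.mpr fun s _ => ?_
  obtain ⟨k, i, v, hv, hi, hval⟩ := exists_frac_basicOpen (n := 0) Nat.one_pos hf s
  obtain rfl : i = k := by simpa using hi
  have hv' : f ^ n₀ • v ∈ 𝓜 (n₀ + i) := smul_mem_of_mem (hfk n₀) hv
  have hvG : f ^ n₀ • v ∈ Submodule.span A (G : Set M) := by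
    rw [← hGspan]
    exact Submodule.subset_span (Set.mem_iUnion₂.2 ⟨n₀ + i, Nat.le_add_right _ _, hv'⟩)
  have h := key _ hvG 1 (n₀ + i)
  rw [one_smul, decompose_of_mem_same 𝓜 hv'] at h
  obtain ⟨hd, hmem⟩ := h
  suffices h : s = fracSec (n := 0) U (hfk (n₀ + i)) hd (hU _) by rw [h]; exact hmem
  refine sect_ext fun y => ?_
  refine (hval y (hU i y.2)).trans ?_
  rw [val_fracSec, LocalizedModule.mk_eq]
  refine ⟨1, ?_⟩
  simp only [one_smul, Submonoid.smul_def, smul_smul]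
  congr 1
  rw [pow_add, mul_comm]

end Graded


/-- Let 𝒮 be a quasi-coherent positively graded O_Y-algebra generated by 𝒮_1, with 𝒮_1 of finite type,
and ℳ a quasi-coherent graded 𝒮-module satisfying (TF). Then the module ℳ~ on P = Proj(𝒮) (given
through its chartwise identifications) is of finite type. -/
theorem result {Y P : Scheme.{u}} (𝒮 : RelProj.QCGrAlg Y) (p : P ⟶ Y)
    (chart : ∀ (U : Y.Opens) (hU : IsAffineOpen U), (((p ⁻¹ᵁ U : P.Opens) : Scheme.{u}) ≅ Proj (𝒮.deg U hU)))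
    (hP : RelProj.IsRelProj 𝒮 p chart) (hgen : 𝒮.IsGenDegOne) (hft : 𝒮.IsFTDeg 1)
    (ℳ : RelProj.GrModule 𝒮) (hℳ : Coh.IsQCoh ((AMod.toOS 𝒮.toQCAlg).obj ℳ.mod)) (hTF : ℳ.IsTF) (F : P.Modules)
    (lam : ∀ (U : Y.Opens) (hU : IsAffineOpen U),
      F ⟶ (Scheme.Modules.pushforward (RelProj.emb p chart U hU)).obj (GrMod.tilde (𝒮.deg U hU) (ℳ.deg U hU) 0))
    (hF : RelProj.IsRelTilde 𝒮 p chart ℳ 0 F lam) : CohB1.IsFT F := by
  have hloc := RelTilde.loc_of_isQCoh ℳ hℳ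
  haveI : F.IsQuasicoherent := RelTilde.isQCoh hloc hF
  refine Lib.CohBasics.Affine.isFiniteType_of_finite_sections fun x => ?_
  obtain ⟨U, hU, hxU, -⟩ := exists_isAffineOpen_mem_and_subset (X := Y) (U := ⊤) (x := p x) trivial
  have hrange := RelTilde.opensRange_emb p chart U hU
  obtain ⟨y, hy⟩ : x ∈ (RelProj.emb p chart U hU).opensRange := by rw [hrange]; exact hxU
  obtain ⟨f, hf, hfy⟩ := TwistInv.irrelevant_le_span (𝒮.deg U hU) (hgen U hU) y
  have hfin := finite_sections (𝓜 := ℳ.deg U hU) hf (hTF.imp fun n hn => hn U hU)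
  let e := RelProj.emb p chart U hU
  haveI : IsOpenImmersion e := by
    change IsOpenImmersion ((chart U hU).inv ≫ (p ⁻¹ᵁ U).ι); infer_instance
  let V : (Proj (𝒮.deg U hU)).Opens := Proj.basicOpen (𝒮.deg U hU) f
  have hle : e ''ᵁ V ≤ e.opensRange := e.image_le_opensRange V
  have hV' : Module.Finite Γ(Proj (𝒮.deg U hU), e ⁻¹ᵁ (e ''ᵁ V))
      Γ(GrMod.tilde (𝒮.deg U hU) (ℳ.deg U hU) 0, e ⁻¹ᵁ (e ''ᵁ V)) := by
    have key : ∀ W, W = V → Module.Finite Γ(Proj (𝒮.deg U hU), W)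
        Γ(GrMod.tilde (𝒮.deg U hU) (ℳ.deg U hU) 0, W) := by
      rintro _ rfl
      exact hfin
    exact key _ (e.preimage_image_eq V)
  refine ⟨e ''ᵁ V, (Proj.isAffineOpen_basicOpen (𝒮.deg U hU) f hf Nat.one_pos).image_of_isOpenImmersion e,
    ⟨y, hfy, hy⟩, ?_⟩
  obtain ⟨S, hS⟩ := hV'.fg_top
  haveI : IsIso (e.app (e ''ᵁ V)) := e.isIso_app _ hle
  let φ := (lam U hU).app (e ''ᵁ V)
  have hφ : Function.Bijective φ := hF.bijective U hU _ (hrange ▸ hle)
  classical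
  choose pre hpre using fun t => hφ.2 t
  refine ⟨⟨S.image pre, eq_top_iff.2 fun s _ => ?_⟩⟩
  let Q := Submodule.span Γ(P, e ''ᵁ V) ((S.image pre : Finset _) : Set Γ(F, e ''ᵁ V))
  have hsmul : ∀ (r : Γ(P, e ''ᵁ V)) (q : Γ(F, e ''ᵁ V)), φ (r • q) =
      (e.app (e ''ᵁ V) r • (show Γ(GrMod.tilde (𝒮.deg U hU) (ℳ.deg U hU) 0, e ⁻¹ᵁ (e ''ᵁ V)) from φ q) :) :=
    fun r q => Scheme.Modules.Hom.app_smul (lam U hU) r q
  have key : ∀ t ∈ Submodule.span Γ(Proj (𝒮.deg U hU), e ⁻¹ᵁ (e ''ᵁ V))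
      (S : Set Γ(GrMod.tilde (𝒮.deg U hU) (ℳ.deg U hU) 0, e ⁻¹ᵁ (e ''ᵁ V))), ∃ q ∈ Q, φ q = t := by
    intro t ht
    induction ht using Submodule.span_induction with
    | mem t ht => exact ⟨pre t, Submodule.subset_span (Finset.mem_image_of_mem pre ht), hpre t⟩
    | zero => exact ⟨0, zero_mem _, map_zero _⟩
    | add a b _ _ ha hb =>
      obtain ⟨qa, hqa, rfl⟩ := ha
      obtain ⟨qb, hqb, rfl⟩ := hb
      exact ⟨qa + qb, add_mem hqa hqb, map_add _ _ _⟩
    | smul r a _ ha =>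
      obtain ⟨qa, hqa, rfl⟩ := ha
      obtain ⟨r', rfl⟩ := (ConcreteCategory.bijective_of_isIso (e.app (e ''ᵁ V))).2 r
      exact ⟨r' • qa, Q.smul_mem r' hqa, hsmul r' qa⟩
  obtain ⟨q, hq, hqs⟩ := key (φ s) (hS ▸ Submodule.mem_top)
  rw [← hφ.1 hqs]
  exact hq

end Groth.Agent.S8325
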