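import Groth.Statements.S8326
import Groth.Agent.H81.RelProj.RelFun

set_option autoImplicit false
universe u
open CategoryTheory CategoryTheory.Limits AlgebraicGeometry Opposite TopologicalSpace
open scoped HomogeneousIdeal
noncomputable section
open EGA2

namespace Groth.Agent.S8326
open DirectSum Groth.Agent.H81.RelProj

section Graded

variable {A σ : Type u} [CommRing A] [SetLike σ A] [AddSubgroupClass σ A] {𝒜 : ℕ → σ} [GradedRing 𝒜]
  {M τ : Type u} [AddCommGroup M] [Module A M] [SetLike τ M] [AddSubgroupClass τ M] {𝓜 : ℕ → τ}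
  [SetLike.GradedSMul 𝒜 𝓜] [DirectSum.Decomposition 𝓜]

theorem decompose_mem_pow (hgen : Subring.closure ((𝒜 0 : Set A) ∪ (𝒜 1 : Set A)) = ⊤)
    {I : Ideal A} (hI : ∀ x ∈ 𝒜 1, x ∈ I) (a : A) : ∀ i, (decompose 𝒜 a i : A) ∈ I ^ i := by
  classical
  have ha : a ∈ Subring.closure ((𝒜 0 : Set A) ∪ (𝒜 1 : Set A)) := by rw [hgen]; trivial
  induction ha using Subring.closure_induction with
  | mem z hz =>
    intro i
    rcases hz with hz | hz
    · rcases eq_or_ne i 0 with rfl | hi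
      · simp
      · rw [decompose_of_mem_ne 𝒜 hz hi.symm]; exact zero_mem _
    · rcases eq_or_ne i 1 with rfl | hi
      · rw [decompose_of_mem_same 𝒜 hz, pow_one]; exact hI z hz
      · rw [decompose_of_mem_ne 𝒜 hz hi.symm]; exact zero_mem _
  | zero => intro i; simp
  | one =>
    intro i
    rcases eq_or_ne i 0 with rfl | hi
    · simp
    · rw [decompose_of_mem_ne 𝒜 SetLike.GradedOne.one_mem hi.symm]; exact zero_mem _
  | add z w _ _ hz hw =>
    intro i
    simp only [decompose_add, DirectSum.add_apply, AddMemClass.coe_add]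
    exact add_mem (hz i) (hw i)
  | neg z _ hz =>
    intro i
    have : (decompose 𝒜 (-z) i : A) = -(decompose 𝒜 z i : A) := map_neg (GradedRing.proj 𝒜 i) z
    rw [this]
    exact neg_mem (hz i)
  | mul z w _ _ hz hw =>
    intro i
    rw [decompose_mul, DirectSum.coe_mul_apply]
    refine Ideal.sum_mem _ fun q hq => ?_
    have h := (Finset.mem_filter.1 hq).2
    rw [← h, pow_add]
    exact Ideal.mul_mem_mul (hz _) (hw _)

theorem exists_bound (hgen : Subring.closure ((𝒜 0 : Set A) ∪ (𝒜 1 : Set A)) = ⊤)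
    {T : Finset A} (hT : ↑T ⊆ (𝒜 1 : Set A)) (hT' : ∀ x ∈ 𝒜 1, x ∈ Ideal.span (T : Set A))
    (hz : ∀ (W : (Proj 𝒜).Opens) (σ' : GrMod.sect 𝒜 𝓜 0 (op W)), σ' = 0) {n₀ : ℕ}
    (hn₀ : (Submodule.span A (⋃ k ∈ Set.Ici n₀, (𝓜 k : Set M))).FG) :
    ∃ n, ∀ k, n ≤ k → ∀ m ∈ 𝓜 k, m = 0 := by
  classical
  obtain ⟨G, hG, hGspan⟩ := Submodule.fg_span_iff_fg_span_finset_subset _ |>.1 hn₀
  have hdeg : ∀ g ∈ G, ∃ j, g ∈ 𝓜 j := fun g hg => by
    obtain ⟨k, -, hk⟩ := Set.mem_iUnion₂.1 (hG hg)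
    exact ⟨k, hk⟩
  choose dg hdg using hdeg
  let J : Ideal A := ⨅ g : G, LinearMap.ker (LinearMap.toSpanSingleton A M g.1)
  have hle : Ideal.span (T : Set A) ≤ J.radical := by
    rw [Ideal.span_le]
    intro t ht
    have hkill : ∀ g : G, ∃ N : ℕ, t ^ N • (g : M) = 0 := fun g => by
      have hg := hdg g.1 g.2
      refine GrTilde.Frac.exists_pow_smul_eq_zero Nat.one_pos (hT ht) fun x => ?_
      let i := dg g.1 g.2
      have hti : t ^ i ∈ 𝒜 i := by simpa using SetLike.pow_mem_graded i (hT ht)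
      have hU : ProjectiveSpectrum.basicOpen 𝒜 t ≤ ProjectiveSpectrum.basicOpen 𝒜 (t ^ i) :=
        fun y hy h => hy (y.isPrime.mem_of_pow_mem i h)
      let s := GrTilde.Frac.fracSec (ℳ := 𝓜) (n := 0) (ProjectiveSpectrum.basicOpen 𝒜 t) hti
        (GrTilde.Frac.Deg.of_mem hg (Or.inl (by simp [i]))) hU
      have h0 := congrArg (fun σ' => GrTilde.Frac.val σ' x) (hz (ProjectiveSpectrum.basicOpen 𝒜 t) s)
      exact (GrTilde.Frac.mk_eq_zero_iff hg).1 h0
    choose N hN using hkill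
    refine ⟨Finset.univ.sup N, Submodule.mem_iInf _ |>.2 fun g => ?_⟩
    show t ^ Finset.univ.sup N • (g : M) = 0
    rw [← Nat.sub_add_cancel (Finset.le_sup (f := N) (Finset.mem_univ g)), pow_add, mul_smul, hN,
      smul_zero]
  obtain ⟨q, hq⟩ := Ideal.exists_pow_le_of_le_radical_of_fg hle ⟨T, rfl⟩
  refine ⟨max n₀ (q + G.attach.sup fun g => dg g.1 g.2), fun k hk m hm => ?_⟩
  have key : ∀ x ∈ Submodule.span A (G : Set M), ∀ c : A, (decompose 𝓜 (c • x) k : M) = 0 := by
    intro x hx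
    induction hx using Submodule.span_induction with
    | mem g hg =>
      intro c
      have hsup : dg g hg ≤ G.attach.sup fun g => dg g.1 g.2 :=
        Finset.le_sup (f := fun g : G => dg g.1 g.2) (Finset.mem_attach G ⟨g, hg⟩)
      obtain ⟨i, rfl⟩ : ∃ i, k = i + dg g hg := ⟨k - dg g hg, by omega⟩
      rw [GrTilde.Frac.decompose_smul_coe (𝒜 := 𝒜) c (hdg g hg) i]
      have hJ : (decompose 𝒜 c i : A) ∈ J :=
        hq (Ideal.pow_le_pow_right (by omega) (decompose_mem_pow hgen hT' c i))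
      exact Submodule.mem_iInf _ |>.1 hJ ⟨g, hg⟩
    | zero => intro c; simp
    | add x y _ _ hx hy =>
      intro c
      rw [smul_add, decompose_add, DirectSum.add_apply, AddMemClass.coe_add, hx c, hy c, add_zero]
    | smul d x _ hx =>
      intro c
      rw [smul_smul]
      exact hx (c * d)
  have hmG : m ∈ Submodule.span A (G : Set M) := by
    rw [← hGspan]
    exact Submodule.subset_span (Set.mem_iUnion₂.2 ⟨k, (le_max_left _ _).trans hk, hm⟩)
  simpa only [one_smul, decompose_of_mem_same 𝓜 hm] using key m hmG 1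

end Graded


/-- Let Y be a scheme with quasi-compact underlying space, 𝒮 a quasi-coherent positively graded
O_Y-algebra generated by 𝒮_1 with 𝒮_1 of finite type, and ℳ a quasi-coherent graded 𝒮-module
satisfying (TF). If ℳ~ = 0 on P = Proj(𝒮), then ℳ satisfies (TN). (With (TN) asking for one degree
bound over the whole base, the implication needs the base quasi-compact: over an infinite disjoint
union of points carrying the polynomial algebra in one variable, the module equal on the i-th point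
to the residue field placed in degree i and killed by the variable satisfies (TF), has zero attached
module, and fails (TN). The published statement has no quasi-compactness hypothesis; its proof gives
a bound on each affine open. The converse direction holds for any base and any graded module.) -/
theorem result {Y P : Scheme.{u}} (𝒮 : RelProj.QCGrAlg Y) (p : P ⟶ Y)
    (chart : ∀ (U : Y.Opens) (hU : IsAffineOpen U), (((p ⁻¹ᵁ U : P.Opens) : Scheme.{u}) ≅ Proj (𝒮.deg U hU)))
    (hP : RelProj.IsRelProj 𝒮 p chart) [CompactSpace Y] (hgen : 𝒮.IsGenDegOne)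
    (hft : 𝒮.IsFTDeg 1) (ℳ : RelProj.GrModule 𝒮) (hℳ : Coh.IsQCoh ((AMod.toOS 𝒮.toQCAlg).obj ℳ.mod)) (hTF : ℳ.IsTF)
    (F : P.Modules)
    (lam : ∀ (U : Y.Opens) (hU : IsAffineOpen U),
      F ⟶ (Scheme.Modules.pushforward (RelProj.emb p chart U hU)).obj (GrMod.tilde (𝒮.deg U hU) (ℳ.deg U hU) 0))
    (hF : RelProj.IsRelTilde 𝒮 p chart ℳ 0 F lam) (h0 : IsZero F) : ℳ.IsTN := by
  obtain ⟨n₀, hn₀⟩ := hTF
  have hbound : ∀ (U : Y.Opens) (hU : IsAffineOpen U),
      ∃ n, ∀ k, n ≤ k → ∀ m ∈ ℳ.deg U hU k, m = 0 := by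
    intro U hU
    obtain ⟨T, hT, hT'⟩ := hft U hU
    refine exists_bound (hgen U hU) hT (fun x hx => ?_) (fun W σ' => ?_) (hn₀ U hU)
    · obtain ⟨c, hc⟩ := hT' x hx
      rw [hc]
      exact Ideal.sum_mem _ fun t ht => Ideal.mul_mem_left _ _ (Ideal.subset_span ht)
    · let e := RelProj.emb p chart U hU
      haveI : IsOpenImmersion e := by
        change IsOpenImmersion ((chart U hU).inv ≫ (p ⁻¹ᵁ U).ι); infer_instance
      have hle : e ''ᵁ W ≤ p ⁻¹ᵁ U := by
        rw [← RelTilde.opensRange_emb p chart U hU]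
        rintro _ ⟨z, -, rfl⟩
        exact ⟨z, rfl⟩
      have hW : e ⁻¹ᵁ (e ''ᵁ W) = W := e.preimage_image_eq W
      have key : ∀ W' : (Proj (𝒮.deg U hU)).Opens, e ⁻¹ᵁ (e ''ᵁ W) = W' →
          ∀ s : Γ(GrMod.tilde (𝒮.deg U hU) (ℳ.deg U hU) 0, W'), s = 0 := by
        rintro _ rfl s
        obtain ⟨s', hs'⟩ := (hF.bijective U hU _ hle).2 s
        have h0' : s' = 0 := by
          have h := congrArg (fun φ => φ.app (e ''ᵁ W) s') ((IsZero.iff_id_eq_zero _).1 h0)
          exact h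
        rw [← hs', h0']
        exact map_zero _
      exact key W hW σ'
  choose N hN using hbound
  obtain ⟨t, ht⟩ := CompactSpace.isCompact_univ.elim_finite_subcover
    (fun V : Y.affineOpens => (V.1 : Set Y)) (fun V => V.1.2) (fun y _ => by
      obtain ⟨V, hV, hy, -⟩ := exists_isAffineOpen_mem_and_subset (X := Y) (U := ⊤) (x := y) trivial
      exact Set.mem_iUnion.2 ⟨⟨V, hV⟩, hy⟩)
  refine ⟨t.sup fun V => N V.1 V.2, fun U hU k hk m hm => ?_⟩
  have hloc := RelTilde.loc_of_isQCoh ℳ hℳ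
  let Mab : TopCat.Sheaf AddCommGrpCat.{u} Y := (SheafOfModules.toSheaf _).obj ℳ.mod
  refine TopCat.Presheaf.section_ext Mab U m 0 fun y hy => ?_
  obtain ⟨V, hVt, hyV⟩ := Set.mem_iUnion₂.1 (ht (Set.mem_univ y))
  obtain ⟨r, s, hrs, hyr⟩ := exists_basicOpen_le_affine_inter hU V.2 y ⟨hy, hyV⟩
  have hVzero : ∀ b ∈ ℳ.deg (Y.basicOpen s) (V.2.basicOpen s) k, b = 0 := by
    intro b hb
    obtain ⟨j, a, ha, hab⟩ := (hloc V.1 V.2 s).surj_homogeneous (fun i a ha => ℳ.res_mem _ _ _ i a ha) hb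
    rw [hN V.1 V.2 k ((Finset.le_sup (f := fun V : Y.affineOpens => N V.1 V.2) hVt).trans hk) a ha,
      map_zero] at hab
    exact ((TildeLocal.isUnit_c (Chart.isLocHom 𝒮 V.2 s)).pow j).smul_eq_zero.1 hab.symm
  have hW : ∀ (W : Y.Opens) (hW : IsAffineOpen W), Y.basicOpen s = W →
      ∀ b ∈ ℳ.deg W hW k, b = 0 := by
    rintro _ _ rfl
    exact hVzero
  have hres : (ℳ.mod.val.map (homOfLE (Y.basicOpen_le r)).op).hom m = 0 :=
    hW _ (hU.basicOpen r) hrs.symm _ (ℳ.map_mem hU (hU.basicOpen r) (Y.basicOpen_le r) hm)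
  rw [← TopCat.Presheaf.germ_res_apply Mab.obj (homOfLE (Y.basicOpen_le r)) y hyr m, map_zero]
  exact (congrArg (TopCat.Presheaf.germ Mab.obj (Y.basicOpen r) y hyr) hres).trans (map_zero _)

end Groth.Agent.S8326
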