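import Groth.Statements.S8329
import Groth.Agent.H81.RelProj.RelFun

set_option autoImplicit false
universe u
open CategoryTheory CategoryTheory.Limits AlgebraicGeometry Opposite TopologicalSpace
open scoped HomogeneousIdeal
noncomputable section
open EGA2

namespace Groth.Agent.S8329

/-- A degree-preserving homomorphism u : ℳ → 𝒩 of quasi-coherent graded 𝒮-modules induces exactly one
O_P-module map ũ : (ℳ(n))~ → (𝒩(n))~ on P = Proj(𝒮) that agrees, under the chartwise identifications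
over every affine open U of Y, with the morphism of modules on Proj 𝒮(U) induced by u(U). -/
theorem result {Y P : Scheme.{u}} (𝒮 : RelProj.QCGrAlg Y) (p : P ⟶ Y)
    (chart : ∀ (U : Y.Opens) (hU : IsAffineOpen U), (((p ⁻¹ᵁ U : P.Opens) : Scheme.{u}) ≅ Proj (𝒮.deg U hU)))
    (hP : RelProj.IsRelProj 𝒮 p chart) (ℳ 𝒩 : RelProj.GrModule 𝒮)
    (hℳ : Coh.IsQCoh ((AMod.toOS 𝒮.toQCAlg).obj ℳ.mod)) (h𝒩 : Coh.IsQCoh ((AMod.toOS 𝒮.toQCAlg).obj 𝒩.mod))
    (u : ℳ.mod ⟶ 𝒩.mod) (hu : RelProj.IsGrModHom u) (n : ℤ) (F : P.Modules)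
    (lam : ∀ (U : Y.Opens) (hU : IsAffineOpen U),
      F ⟶ (Scheme.Modules.pushforward (RelProj.emb p chart U hU)).obj (GrMod.tilde (𝒮.deg U hU) (ℳ.deg U hU) n))
    (hF : RelProj.IsRelTilde 𝒮 p chart ℳ n F lam) (G : P.Modules)
    (lam' : ∀ (U : Y.Opens) (hU : IsAffineOpen U),
      G ⟶ (Scheme.Modules.pushforward (RelProj.emb p chart U hU)).obj (GrMod.tilde (𝒮.deg U hU) (𝒩.deg U hU) n))
    (hG : RelProj.IsRelTilde 𝒮 p chart 𝒩 n G lam') :
    ∃! ut : F ⟶ G, ∀ (U : Y.Opens) (hU : IsAffineOpen U),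
      ut ≫ lam' U hU =
        lam U hU ≫ (Scheme.Modules.pushforward (RelProj.emb p chart U hU)).map
          (GrMod.map (𝒮.deg U hU)
            (show ℳ.mod.val.obj (op U) →ₗ[𝒮.presheaf.obj (op U)] 𝒩.mod.val.obj (op U) from (u.val.app (op U)).hom)
            (hu U hU) n) := by
  exact Groth.Agent.H81.RelProj.RelFun.existsUnique_map (u := u) (hu := hu) hP (Groth.Agent.H81.RelProj.RelTilde.loc_of_isQCoh 𝒩 h𝒩) hF hG

end Groth.Agent.S8329
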