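import Groth.Statements.S8334
import Groth.Agent.Lib.H70.TwistGG
import Groth.Agent.Lib.H70.FTQuot
import Groth.Agent.Lib.TensorMod.Colimit
import Groth.Agent.Lib.RelProjBasics.Basic

set_option autoImplicit false
universe u
open CategoryTheory CategoryTheory.Limits AlgebraicGeometry Opposite TopologicalSpace
open scoped HomogeneousIdeal
noncomputable section
open EGA2

namespace Groth.Agent.S8334

/-- Let Y be a quasi-compact separated scheme, or a scheme with Noetherian underlying space, 𝒮 a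
quasi-coherent positively graded O_Y-algebra generated by 𝒮_1 with 𝒮_1 of finite type, p : P =
Proj(𝒮) → Y, and F a quasi-coherent O_P-module of finite type. Then there is n₀ such that for every
n ≥ n₀, F is a quotient of (p^*G)(−n) = p^*(G) ⊗ O_P(−n) for some quasi-coherent O_Y-module G of
finite type (which may vary with n), O_P(−n) being given through its chartwise identifications. -/
theorem result {Y P : Scheme.{u}} (𝒮 : RelProj.QCGrAlg Y) (p : P ⟶ Y)
    (chart : ∀ (U : Y.Opens) (hU : IsAffineOpen U), (((p ⁻¹ᵁ U : P.Opens) : Scheme.{u}) ≅ Proj (𝒮.deg U hU)))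
    (hP : RelProj.IsRelProj 𝒮 p chart)
    (hY : (CompactSpace Y ∧ Y.IsSeparated) ∨ NoetherianSpace Y) (hgen : 𝒮.IsGenDegOne)
    (hft : 𝒮.IsFTDeg 1) (F : P.Modules) (hFq : Coh.IsQCoh F) (hFt : CohB1.IsFT F) :
    ∃ n₀ : ℤ, ∀ (n : ℤ), n₀ ≤ n → ∀ (L : P.Modules)
      (lam : ∀ (U : Y.Opens) (hU : IsAffineOpen U),
      L ⟶ (Scheme.Modules.pushforward (RelProj.emb p chart U hU)).obj (GrTwist.twist (𝒮.deg U hU) (-n))),
      RelProj.IsRelTwist 𝒮 p chart (-n) L lam →
        ∃ (G : Y.Modules) (π : CohB1.tensorMod ((Scheme.Modules.pullback p).obj G) L ⟶ F),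
          Coh.IsQCoh G ∧ CohB1.IsFT G ∧ Epi π := by
  open Groth.Agent.Lib Groth.Agent.H81.RelProj in
  have hYY : CompactSpace Y ∧ QuasiSeparatedSpace Y := by
    rcases hY with ⟨hc, hs⟩ | hn
    · haveI := hc; haveI := hs; exact ⟨inferInstance, inferInstance⟩
    · haveI := hn; exact ⟨inferInstance, inferInstance⟩
  haveI := hYY.1
  haveI := hYY.2
  haveI := (RelProjBasics.Basic.finiteType_of_isGenDegOne hP hgen hft).2
  haveI := RelProjBasics.Basic.isSeparated hP
  haveI : CompactSpace P := QuasiCompact.compactSpace_of_compactSpace p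
  haveI : F.IsQuasicoherent := hFq
  obtain ⟨n₀, hn₀⟩ := H70.TwistGG.eventually_span hP hgen hft F ⟨hFq, hFt⟩
  refine ⟨n₀, fun n hn L lam hL => ?_⟩
  obtain ⟨Ln, lamn, hLn⟩ := RelTwist.exists_isRelTwist hP n
  obtain ⟨L0, lam0, hL0⟩ := RelTwist.exists_isRelTwist hP (n + -n)
  haveI : Ln.IsQuasicoherent := RelTwist.isQCoh hLn
  haveI : (CohB1.tensorMod F Ln).IsQuasicoherent := TensorMod.TensorQCoh.isQCoh_tensorMod _ _
  have hFTn : CohB1.IsFT (CohB1.tensorMod F Ln) := by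
    haveI := hFt
    haveI := (Ample.GG.isCoh_of_isInvertible (TwistInv.isInvertible hgen hLn)).2
    exact TensorMod.TensorQCoh.isFiniteType_tensorMod F Ln
  obtain ⟨G, π, hG, hGft, hπ⟩ := H70.FTQuot.exists_epi p hFTn (hn₀ n hn Ln lamn hLn)
  obtain ⟨e⟩ := RelTensor.twist_tensor_twist hP hgen hLn hL hL0
  have hu : ∀ k : ℤ, k = 0 → ∀ (L0 : P.Modules) (lam0 : ∀ (U : Y.Opens) (hU : IsAffineOpen U),
      L0 ⟶ (Scheme.Modules.pushforward (RelProj.emb p chart U hU)).obj (GrTwist.twist (𝒮.deg U hU) k)),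
      RelProj.IsRelTwist 𝒮 p chart k L0 lam0 → Nonempty (L0 ≅ Coh.structureModule P) := by
    rintro _ rfl L0 lam0 hL0
    obtain ⟨⟨ψ, hψ, -⟩, hiso⟩ := RelTilde.existsUnique (ℳ := RelTilde.selfMod 𝒮) (n := (0 : ℤ)) hP
      RelTilde.loc_selfMod (TwistTilde.isRelTilde hL0) (RelTensor.isRelTilde_unit hP)
    haveI := hiso ψ hψ
    exact ⟨asIso ψ⟩
  obtain ⟨e0⟩ := hu _ (add_neg_cancel n) L0 lam0 hL0
  haveI := hπ
  haveI : Epi (TensorMod.Basic.tmap π (𝟙 L)) := inferInstanceAs (Epi ((TensorMod.Basic.tensorBy L).map π))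
  exact ⟨G, TensorMod.Basic.tmap π (𝟙 L) ≫ (TensorMod.Basic.assoc F Ln L ≪≫
    TensorMod.Basic.tensorIso (Iso.refl F) (e ≪≫ e0) ≪≫ TensorMod.Basic.rightUnit F).hom, hG, hGft, inferInstance⟩

end Groth.Agent.S8334
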