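import Groth.Statements.S8336
import Groth.Agent.H81.RelProj.RelTensor

set_option autoImplicit false
universe u
open CategoryTheory CategoryTheory.Limits AlgebraicGeometry Opposite TopologicalSpace
open scoped HomogeneousIdeal
noncomputable section
open EGA2

namespace Groth.Agent.S8336

/-- If the quasi-coherent positively graded O_Y-algebra 𝒮 is generated by 𝒮_1, then on P = Proj(𝒮) the
tensor product O_P(m) ⊗ O_P(n) is isomorphic to O_P(m + n) for all integers m, n, the twisting
sheaves being given through their chartwise identifications (existence of an isomorphism only; the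
published isomorphism is the canonical multiplication map). -/
theorem result {Y P : Scheme.{u}} (𝒮 : RelProj.QCGrAlg Y) (p : P ⟶ Y)
    (chart : ∀ (U : Y.Opens) (hU : IsAffineOpen U), (((p ⁻¹ᵁ U : P.Opens) : Scheme.{u}) ≅ Proj (𝒮.deg U hU)))
    (hP : RelProj.IsRelProj 𝒮 p chart) (hgen : 𝒮.IsGenDegOne) (m n : ℤ)
    (L : P.Modules)
    (lam : ∀ (U : Y.Opens) (hU : IsAffineOpen U),
      L ⟶ (Scheme.Modules.pushforward (RelProj.emb p chart U hU)).obj (GrTwist.twist (𝒮.deg U hU) m))
    (hL : RelProj.IsRelTwist 𝒮 p chart m L lam) (L' : P.Modules)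
    (lam' : ∀ (U : Y.Opens) (hU : IsAffineOpen U),
      L' ⟶ (Scheme.Modules.pushforward (RelProj.emb p chart U hU)).obj (GrTwist.twist (𝒮.deg U hU) n))
    (hL' : RelProj.IsRelTwist 𝒮 p chart n L' lam') (L'' : P.Modules)
    (lam'' : ∀ (U : Y.Opens) (hU : IsAffineOpen U),
      L'' ⟶ (Scheme.Modules.pushforward (RelProj.emb p chart U hU)).obj (GrTwist.twist (𝒮.deg U hU) (m + n)))
    (hL'' : RelProj.IsRelTwist 𝒮 p chart (m + n) L'' lam'') :
    Nonempty (CohB1.tensorMod L L' ≅ L'') := by
  exact Groth.Agent.H81.RelProj.RelTensor.twist_tensor_twist hP hgen hL hL' hL''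

end Groth.Agent.S8336
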