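import Groth.Statements.S8337
import Groth.Agent.H81.RelProj.RelTensor

set_option autoImplicit false
universe u
open CategoryTheory CategoryTheory.Limits AlgebraicGeometry Opposite TopologicalSpace
open scoped HomogeneousIdeal
noncomputable section
open EGA2

namespace Groth.Agent.S8337

/-- If the quasi-coherent positively graded O_Y-algebra 𝒮 is generated by 𝒮_1, then for every
quasi-coherent graded 𝒮-module ℳ and every integer n, the module (ℳ(n))~ on P = Proj(𝒮) is
isomorphic to ℳ~(n) = ℳ~ ⊗ O_P(n), all three modules being given through their chartwise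
identifications (existence of an isomorphism only; the published isomorphism is canonical). -/
theorem result {Y P : Scheme.{u}} (𝒮 : RelProj.QCGrAlg Y) (p : P ⟶ Y)
    (chart : ∀ (U : Y.Opens) (hU : IsAffineOpen U), (((p ⁻¹ᵁ U : P.Opens) : Scheme.{u}) ≅ Proj (𝒮.deg U hU)))
    (hP : RelProj.IsRelProj 𝒮 p chart) (hgen : 𝒮.IsGenDegOne)
    (ℳ : RelProj.GrModule 𝒮) (hℳ : Coh.IsQCoh ((AMod.toOS 𝒮.toQCAlg).obj ℳ.mod)) (n : ℤ) (F : P.Modules)
    (lam : ∀ (U : Y.Opens) (hU : IsAffineOpen U),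
      F ⟶ (Scheme.Modules.pushforward (RelProj.emb p chart U hU)).obj (GrMod.tilde (𝒮.deg U hU) (ℳ.deg U hU) 0))
    (hF : RelProj.IsRelTilde 𝒮 p chart ℳ 0 F lam) (F' : P.Modules)
    (lam' : ∀ (U : Y.Opens) (hU : IsAffineOpen U),
      F' ⟶ (Scheme.Modules.pushforward (RelProj.emb p chart U hU)).obj (GrMod.tilde (𝒮.deg U hU) (ℳ.deg U hU) n))
    (hF' : RelProj.IsRelTilde 𝒮 p chart ℳ n F' lam') (L : P.Modules)
    (lamL : ∀ (U : Y.Opens) (hU : IsAffineOpen U),
      L ⟶ (Scheme.Modules.pushforward (RelProj.emb p chart U hU)).obj (GrTwist.twist (𝒮.deg U hU) n))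
    (hL : RelProj.IsRelTwist 𝒮 p chart n L lamL) :
    Nonempty (F' ≅ CohB1.tensorMod F L) := by
  exact (Groth.Agent.H81.RelProj.RelTensor.tilde_tensor_twist hP hgen (Groth.Agent.H81.RelProj.RelTilde.loc_of_isQCoh ℳ hℳ) (zero_add n).symm hF hL hF').map fun i => i.symm

end Groth.Agent.S8337
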