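import Groth.Statements.S8338
import Groth.Agent.H81.RelProj.GrTilde.MapProps

set_option autoImplicit false
universe u
open CategoryTheory CategoryTheory.Limits AlgebraicGeometry Opposite TopologicalSpace
noncomputable section
open EGA2

namespace Groth.Agent.S8338
open Groth.Agent.H81.RelProj.GrTilde.Frac Groth.Agent.H81.RelProj.GrTilde.Basic DirectSum


/-- For an exact sequence M₁ → M₂ → M₃ of graded S-modules with degree-preserving maps u, v and every
integer n, the induced morphisms M₁(n)~ → M₂(n)~ → M₃(n)~ of modules on X = Proj S give an exact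
sequence of sections over every basic open D_+(f), f homogeneous of positive degree (these opens are
affine and cover X, so the sequence of modules is exact). Gradings by additive subgroups, modules
graded in non-negative degrees. -/
theorem result {A σ : Type u} [CommRing A] [SetLike σ A] [AddSubgroupClass σ A] (𝒜 : ℕ → σ)
    [GradedRing 𝒜] {M₁ τ₁ : Type u} [AddCommGroup M₁] [Module A M₁] [SetLike τ₁ M₁] [AddSubgroupClass τ₁ M₁]
    (ℳ₁ : ℕ → τ₁) [SetLike.GradedSMul 𝒜 ℳ₁] [DirectSum.Decomposition ℳ₁]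
    {M₂ τ₂ : Type u} [AddCommGroup M₂] [Module A M₂] [SetLike τ₂ M₂] [AddSubgroupClass τ₂ M₂]
    (ℳ₂ : ℕ → τ₂) [SetLike.GradedSMul 𝒜 ℳ₂] [DirectSum.Decomposition ℳ₂]
    {M₃ τ₃ : Type u} [AddCommGroup M₃] [Module A M₃] [SetLike τ₃ M₃] [AddSubgroupClass τ₃ M₃]
    (ℳ₃ : ℕ → τ₃) [SetLike.GradedSMul 𝒜 ℳ₃] [DirectSum.Decomposition ℳ₃]
    (u : M₁ →ₗ[A] M₂) (hu : ∀ (i : ℕ) (m : M₁), m ∈ ℳ₁ i → u m ∈ ℳ₂ i)
    (v : M₂ →ₗ[A] M₃) (hv : ∀ (i : ℕ) (m : M₂), m ∈ ℳ₂ i → v m ∈ ℳ₃ i)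
    (hex : Function.Exact u v) (n : ℤ) {d : ℕ} (hd : 0 < d) (f : A) (hf : f ∈ 𝒜 d) :
    Function.Exact ((GrMod.map 𝒜 u hu n).app (Proj.basicOpen 𝒜 f))
      ((GrMod.map 𝒜 v hv n).app (Proj.basicOpen 𝒜 f)) := by
  classical
  have hle : ∀ k : ℕ, ProjectiveSpectrum.basicOpen 𝒜 f ≤ ProjectiveSpectrum.basicOpen 𝒜 (f ^ k) :=
    fun k y hy h => hy (y.isPrime.mem_of_pow_mem k h)
  intro s
  refine ⟨fun hs => ?_, ?_⟩
  · let s' : GrMod.sect 𝒜 ℳ₂ n (op (ProjectiveSpectrum.basicOpen 𝒜 f)) := s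
    obtain ⟨k, i, m, hm, hi, hval⟩ := exists_frac_basicOpen hd hf s'
    have hfk : ∀ k : ℕ, f ^ k ∈ 𝒜 (k * d) := fun k => SetLike.pow_mem_graded k hf
    obtain ⟨N, hN⟩ := exists_pow_smul_eq_zero (𝒜 := 𝒜) (m := v m) hd hf fun x => by
      have h0 : GrMod.locMap v x.1 (val s' x) = 0 :=
        congrArg (fun τ : GrMod.sect 𝒜 ℳ₃ n (op (ProjectiveSpectrum.basicOpen 𝒜 f)) => val τ x) hs
      rw [hval x (hle k x.2), GrMod.locMap_mk] at h0
      exact (mk_eq_zero_iff (hv i m hm)).1 h0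
    rw [← map_smul] at hN
    obtain ⟨a, ha⟩ := (hex _).1 hN
    have hfm : f ^ N • m ∈ ℳ₂ (N * d + i) := smul_mem_of_mem (hfk N) hm
    let b : M₁ := decompose ℳ₁ a (N * d + i)
    have hb : u b = f ^ N • m := by
      have : ∀ a : M₁, u (decompose ℳ₁ a (N * d + i) : M₁) = (decompose ℳ₂ (u a) (N * d + i) : M₂) := by
        intro a
        induction a using DirectSum.Decomposition.inductionOn ℳ₁ with
        | zero => simp
        | @homogeneous j a =>
          rcases eq_or_ne j (N * d + i) with rfl | hj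
          · rw [decompose_of_mem_same ℳ₁ a.2, decompose_of_mem_same ℳ₂ (hu _ _ a.2)]
          · rw [decompose_of_mem_ne ℳ₁ a.2 hj, decompose_of_mem_ne ℳ₂ (hu _ _ a.2) hj, map_zero]
        | add a b ha hb => simp [decompose_add, map_add, ha, hb]
      rw [this, ha, decompose_of_mem_same ℳ₂ hfm]
    let t : GrMod.sect 𝒜 ℳ₁ n (op (ProjectiveSpectrum.basicOpen 𝒜 f)) :=
      fracSec _ (hfk (N + k)) (Deg.of_mem (k := ((N + k) * d : ℕ) + n)
        (SetLike.coe_mem (decompose ℳ₁ a (N * d + i))) (Or.inl (by push_cast; linarith))) (hle _)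
    refine ⟨t, ?_⟩
    show _ = s'
    refine sect_ext fun x => ?_
    change GrMod.locMap u x.1 (val t x) = _
    rw [val_fracSec, GrMod.locMap_mk, hval x (hle k x.2), hb, LocalizedModule.mk_eq]
    refine ⟨1, ?_⟩
    simp only [one_smul, Submonoid.smul_def, smul_smul]
    rw [pow_add, mul_comm (f ^ N)]
  · rintro ⟨t, rfl⟩
    let t' : GrMod.sect 𝒜 ℳ₁ n (op (ProjectiveSpectrum.basicOpen 𝒜 f)) := t
    change (_ : GrMod.sect 𝒜 ℳ₃ n (op (ProjectiveSpectrum.basicOpen 𝒜 f))) = 0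
    refine sect_ext fun x => ?_
    change GrMod.locMap v x.1 (GrMod.locMap u x.1 (val t' x)) = (0 : GrMod.LocMod 𝒜 (M := M₃) x.1)
    generalize val t' x = q
    induction q using LocalizedModule.induction_on with
    | h m r => rw [GrMod.locMap_mk, GrMod.locMap_mk, hex.apply_apply_eq_zero, LocalizedModule.zero_mk]

end Groth.Agent.S8338
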