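import Groth.Statements.S8339
import Groth.Agent.H81.RelProj.ComapIso

set_option autoImplicit false
universe u
open CategoryTheory CategoryTheory.Limits AlgebraicGeometry Opposite TopologicalSpace
open scoped HomogeneousIdeal
noncomputable section
open EGA2

namespace Groth.Agent.S8339

/-- Let ψ : S' → S be a homomorphism of graded rings with S_+ contained in the ideal generated by
ψ(S'_+), so that Φ : Proj S → Proj S' is everywhere defined, and let N be a graded S-module. If M is
the graded S'-module obtained from N by restriction of scalars along ψ — given here as any graded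
S'-module with a degree-preserving bijective ψ-semilinear map v : M → N — then the canonical
morphism M(n)~ → Φ_*(N(n)~), m/f ↦ v(m)/ψ(f), is an isomorphism for every integer n. (The published
statement is over the open G(ψ) where Φ is defined; the hypothesis on irrelevant ideals used here
forces G(ψ) = Proj S. For v not bijective this morphism is not an isomorphism in general. Gradings
by additive subgroups; modules graded in non-negative degrees.) -/
theorem result {A σ : Type u} [CommRing A] [SetLike σ A] [AddSubgroupClass σ A] {𝒜 : ℕ → σ}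
    [GradedRing 𝒜] {B σ' : Type u} [CommRing B] [SetLike σ' B] [AddSubgroupClass σ' B] {ℬ : ℕ → σ'} [GradedRing ℬ]
    (ψ : 𝒜 →+*ᵍ ℬ) (hψ : ℬ₊ ≤ (𝒜₊).map ψ)
    {M τ : Type u} [AddCommGroup M] [Module A M] [SetLike τ M] [AddSubgroupClass τ M] (ℳ : ℕ → τ)
    [SetLike.GradedSMul 𝒜 ℳ] [DirectSum.Decomposition ℳ]
    {N τ' : Type u} [AddCommGroup N] [Module B N] [SetLike τ' N] [AddSubgroupClass τ' N] (𝒩 : ℕ → τ')
    [SetLike.GradedSMul ℬ 𝒩] [DirectSum.Decomposition 𝒩]
    (v : M →ₛₗ[ψ.toRingHom] N) (hv : ∀ (i : ℕ) (m : M), m ∈ ℳ i → v m ∈ 𝒩 i) (hbij : Function.Bijective v)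
    (n : ℤ) : IsIso (GrMod.comap ψ hψ v hv n) := by
  exact Groth.Agent.H81.RelProj.ComapIso.isIso ψ hψ v hv n hbij

end Groth.Agent.S8339
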