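import Groth.Statements.S8341
import Groth.Agent.Lib.H70.GrDeh
import Groth.Agent.Lib.CohDelta.BC.Transpose
import Groth.Agent.H81.RelProj.ComapIso

set_option autoImplicit false
universe u
open CategoryTheory CategoryTheory.Limits AlgebraicGeometry Opposite TopologicalSpace
open scoped HomogeneousIdeal
noncomputable section
open EGA2

namespace Groth.Agent.S8341
open DirectSum TensorProduct Groth.Agent.Lib.H70.GrDeh Groth.Agent.H81.RelProj.GrTilde.Frac
open ZarCoh.FlatBC.PullbackSections Groth.Agent.Lib.CohDelta.BC.Transpose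

/-- A morphism of quasi-coherent modules bijective on an affine open is bijective on its basic opens. -/
theorem bijective_basicOpen {X : Scheme.{u}} {F G : X.Modules} [F.IsQuasicoherent] [G.IsQuasicoherent]
    (φ : F ⟶ G) {U : X.Opens} (hU : IsAffineOpen U) (h : Function.Bijective (φ.app U)) (r : Γ(X, U)) :
    Function.Bijective (φ.app (X.basicOpen r)) := by
  open Groth.Agent.Lib.QCoh.Localizing in
  have hF := localizes_of_isAffineOpen F hU r
  have hG := localizes_of_isAffineOpen G hU r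
  have hu : IsUnit (resR (X.basicOpen_le r) r) :=
    RingedSpace.isUnit_res_basicOpen X.toRingedSpace r
  constructor
  · rw [injective_iff_map_eq_zero]
    intro s hs
    obtain ⟨k, t, ht⟩ := hF.ext' s
    obtain ⟨l, hl⟩ := hG.sep (φ.app U t) (by
      rw [res_app, ht, Scheme.Modules.Hom.app_smul, hs, smul_zero])
    rw [← Scheme.Modules.Hom.app_smul] at hl
    have h0 := congrArg (res F (X.basicOpen_le r)) (h.1 (hl.trans (map_zero (φ.app U).hom).symm))
    rw [res_smul, ht, map_zero, map_pow, smul_smul, ← pow_add] at h0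
    exact (hu.pow _).smul_eq_zero.1 h0
  · intro s
    obtain ⟨k, t, ht⟩ := hG.ext' s
    obtain ⟨t', rfl⟩ := h.2 t
    refine ⟨((hu.pow k).unit⁻¹ : (Γ(X, X.basicOpen r))ˣ).1 • res F (X.basicOpen_le r) t', ?_⟩
    rw [Scheme.Modules.Hom.app_smul, ← res_app, ht, smul_smul, IsUnit.val_inv_mul, one_smul]


/-- Let ψ : S' → S be a homomorphism of graded rings with S_+ contained in the ideal generated by
ψ(S'_+), so that Φ : Proj S → Proj S' is everywhere defined, and with S'_+ generated by S'_1. For a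
graded S'-module M' let N = M' ⊗_{S'} S with its grading, presented as a graded S-module with a
degree-preserving ψ-semilinear map v : M' → N having the universal property of base change. Then the
canonical morphism ν : Φ^*(M'(n)~) → N(n)~ — the adjoint of the morphism M'(n)~ → Φ_*(N(n)~), m/f ↦
v(m)/ψ(f) — is an isomorphism for every integer n. (Without the degree-one generation hypothesis the
published statement only provides the morphism ν. Gradings by additive subgroups; modules graded in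
non-negative degrees.) -/
theorem result {A σ : Type u} [CommRing A] [SetLike σ A]
    [AddSubgroupClass σ A] {𝒜 : ℕ → σ} [GradedRing 𝒜] {B σ' : Type u} [CommRing B] [SetLike σ' B] [AddSubgroupClass σ' B]
    {ℬ : ℕ → σ'} [GradedRing ℬ] (ψ : 𝒜 →+*ᵍ ℬ) (hψ : ℬ₊ ≤ (𝒜₊).map ψ)
    (hgen : (𝒜₊).toIdeal = Ideal.span (𝒜 1 : Set A))
    {M τ : Type u} [AddCommGroup M] [Module A M] [SetLike τ M] [AddSubgroupClass τ M] (ℳ : ℕ → τ)
    [SetLike.GradedSMul 𝒜 ℳ] [DirectSum.Decomposition ℳ]
    {N τ' : Type u} [AddCommGroup N] [Module B N] [SetLike τ' N] [AddSubgroupClass τ' N] (𝒩 : ℕ → τ')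
    [SetLike.GradedSMul ℬ 𝒩] [DirectSum.Decomposition 𝒩]
    (v : M →ₛₗ[ψ.toRingHom] N) (hv : ∀ (i : ℕ) (m : M), m ∈ ℳ i → v m ∈ 𝒩 i)
    (hbc : ∀ (Q : Type u) [AddCommGroup Q] [Module B Q] (w : M →ₛₗ[ψ.toRingHom] Q),
      ∃! g : N →ₗ[B] Q, ∀ m : M, g (v m) = w m)
    (n : ℤ) :
    IsIso (((Scheme.Modules.pullbackPushforwardAdjunction (Proj.map ψ hψ)).homEquiv _ _).symm
      (GrMod.comap ψ hψ v hv n)) := by
  classical
  haveI : (GrMod.tilde 𝒜 ℳ n).IsQuasicoherent := Groth.Agent.H81.RelProj.GrTilde.QCoh.tilde_isQCoh n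
  haveI : (GrMod.tilde ℬ 𝒩 n).IsQuasicoherent := Groth.Agent.H81.RelProj.GrTilde.QCoh.tilde_isQCoh n
  let Φ := Proj.map ψ hψ
  let φ := GrMod.comap ψ hψ v hv n
  haveI := Groth.Agent.Lib.QCoh.Pullback.isQCoh_pullback Φ (GrMod.tilde 𝒜 ℳ n)
  let ν := ((Scheme.Modules.pullbackPushforwardAdjunction Φ).homEquiv _ _).symm φ
  have key : ∀ (f : A), f ∈ 𝒜 1 → Function.Bijective (ν.app (Proj.basicOpen ℬ (ψ f))) := by
    intro f hf
    have hf' : ψ f ∈ ℬ 1 := ψ.map_mem hf
    let V := Proj.basicOpen 𝒜 f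
    let W := Proj.basicOpen ℬ (ψ f)
    have e : W ≤ Φ ⁻¹ᵁ V := le_rfl
    letI : Algebra Γ(Proj 𝒜, V) Γ(Proj ℬ, W) := (Φ.appLE V W e).hom.toAlgebra
    let T := Γ(Proj ℬ, W) ⊗[Γ(Proj 𝒜, V)] Γ(GrMod.tilde 𝒜 ℳ n, V)
    let βA := dehO hf
    let βB := dehO hf'
    have hβ : ∀ a, Φ.appLE V W e (βA a) = βB (ψ a) := by
      intro a
      induction a using DirectSum.Decomposition.inductionOn 𝒜 with
      | zero => simp
      | @homogeneous i a =>
        rw [Scheme.Hom.appLE]
        refine Subtype.ext (funext fun y => HomogeneousLocalization.val_injective _ ?_)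
        have hy : ∀ k, ψ f ^ k ∉ y.1.asHomogeneousIdeal := fun k => basicOpen_le_pow k y.2
        let y' : ProjectiveSpectrum.basicOpen 𝒜 f := ⟨ProjectiveSpectrum.comap ψ hψ y.1, y.2⟩
        show HomogeneousLocalization.val (HomogeneousLocalization.localRingHom ψ _ _ rfl
          ((βA a : GrTwist.O (𝒜 := 𝒜) (op (ProjectiveSpectrum.basicOpen 𝒜 f))).1 y')) = _
        rw [HomogeneousLocalization.val_localRingHom]
        refine (congrArg _ (dehO_of_mem hf a.2 y' (basicOpen_le_pow i y'.2))).trans ?_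
        refine Eq.trans ?_ (dehO_of_mem hf' (ψ.map_mem a.2) y (hy i)).symm
        refine (Localization.localRingHom_mk _ _ _ _ _ _).trans ?_
        exact congrArg₂ Localization.mk rfl (Subtype.ext (map_pow ψ.toRingHom f i))
      | add a b ha hb => simp only [map_add, ha, hb]
    letI : Module B T := Module.compHom T βB
    have hsmulT : ∀ (b : B) (t : T), b • t = βB b • t := fun _ _ => rfl
    let w : M →ₛₗ[ψ.toRingHom] T :=
      { toFun := fun m => (1 : Γ(Proj ℬ, W)) ⊗ₜ[Γ(Proj 𝒜, V)] deh (ℳ := ℳ) hf n m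
        map_add' := fun a b => by rw [map_add, TensorProduct.tmul_add]
        map_smul' := fun a m => by
          rw [deh_smul, TensorProduct.tmul_smul, hsmulT]
          rw [show βB (ψ.toRingHom a) = algebraMap Γ(Proj 𝒜, V) Γ(Proj ℬ, W) (βA a) from (hβ a).symm,
            algebraMap_smul] }
    obtain ⟨g, hg, -⟩ := hbc T w
    -- surjectivity of `g`
    have hgsurj : Function.Surjective g := by
      intro t
      induction t using TensorProduct.induction_on with
      | zero => exact ⟨0, map_zero g⟩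
      | tmul s m =>
        obtain ⟨m, rfl⟩ := deh_surjective (ℳ := ℳ) hf n m
        obtain ⟨b, rfl⟩ := dehO_surjective hf' s
        refine ⟨b • v m, ?_⟩
        rw [map_smul, hg, hsmulT]
        show βB b • ((1 : Γ(Proj ℬ, W)) ⊗ₜ[Γ(Proj 𝒜, V)] _) = _
        rw [TensorProduct.smul_tmul', smul_eq_mul, mul_one]
      | add a b ha hb =>
        obtain ⟨a, rfl⟩ := ha; obtain ⟨b, rfl⟩ := hb
        exact ⟨a + b, map_add g a b⟩
    let Ψ : T → Γ(GrMod.tilde ℬ 𝒩 n, W) := fun z => ν.app W (pbTensor Φ (GrMod.tilde 𝒜 ℳ n) e z)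
    have hΨadd : ∀ a b, Ψ (a + b) = Ψ a + Ψ b := fun a b => by
      show ν.app W _ = _
      rw [map_add, map_add]
    have hΨsmul : ∀ (r : Γ(Proj ℬ, W)) z, Ψ (r • z) = r • Ψ z := fun r z => by
      show ν.app W _ = _
      rw [map_smul, Scheme.Modules.Hom.app_smul]
    have hΨw : ∀ m, Ψ (w m) = deh (ℳ := 𝒩) hf' n (v m) := by
      intro m
      induction m using DirectSum.Decomposition.inductionOn ℳ with
      | zero =>
        rw [map_zero, map_zero v, map_zero]
        show ν.app W _ = _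
        rw [map_zero, map_zero]
      | @homogeneous i m =>
        show ν.app W (pbTensor Φ (GrMod.tilde 𝒜 ℳ n) e
          ((1 : Γ(Proj ℬ, W)) ⊗ₜ[Γ(Proj 𝒜, V)] deh (ℳ := ℳ) hf n (m : M))) = _
        rw [pbTensor_tmul, one_smul]
        refine (transpose_pbRes Φ φ e _).trans ?_
        refine sect_ext (U := ProjectiveSpectrum.basicOpen ℬ (ψ f)) fun y => ?_
        refine Eq.trans ?_ (val_deh hf' n (hv i m m.2) y (basicOpen_le_pow _ y.2)).symm
        let y' : ProjectiveSpectrum.basicOpen 𝒜 f := ⟨ProjectiveSpectrum.comap ψ hψ y.1, y.2⟩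
        show GrMod.locModMap ψ hψ v y.1 (val (deh (ℳ := ℳ) hf n (m : M) :
          GrMod.sect 𝒜 ℳ n (op (ProjectiveSpectrum.basicOpen 𝒜 f))) y') = _
        rw [val_deh hf n m.2 y' (basicOpen_le_pow _ y'.2), GrMod.locModMap_mk, v.map_smulₛₗ, map_pow]
        exact congrArg (LocalizedModule.mk _) (Subtype.ext (map_pow ψ f _))
      | add a b ha hb => rw [map_add, hΨadd, ha, hb, map_add v, map_add]
    letI : Module B Γ(GrMod.tilde ℬ 𝒩 n, W) := Module.compHom _ βB
    let η : N →ₗ[B] Γ(GrMod.tilde ℬ 𝒩 n, W) :=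
      { toFun := deh (ℳ := 𝒩) hf' n
        map_add' := map_add _
        map_smul' := fun b m => deh_smul hf' n b m }
    have hη : ∀ x : N, Ψ (g x) = η x := by
      obtain ⟨g', -, hu⟩ := hbc Γ(GrMod.tilde ℬ 𝒩 n, W)
        (η.comp v)
      let g₁ : N →ₗ[B] Γ(GrMod.tilde ℬ 𝒩 n, W) :=
        { toFun := fun x => Ψ (g x)
          map_add' := fun a b => by rw [map_add, hΨadd]
          map_smul' := fun b x => by rw [map_smul, hsmulT, hΨsmul]; rfl }
      intro x
      exact congrArg (fun l : N →ₗ[B] Γ(GrMod.tilde ℬ 𝒩 n, W) => l x)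
        ((hu g₁ fun m => show Ψ (g (v m)) = _ by rw [hg]; exact hΨw m).trans
          (hu η fun _ => rfl).symm)
    have hgψ : ∀ (k : ℕ) (x : N), g (ψ f ^ k • x) = g x := fun k x => by
      rw [map_smul, hsmulT, map_pow, show βB (ψ f) = 1 from dehO_self hf', one_pow, one_smul]
    have hker : ∀ x : N, η x = 0 → g x = 0 := by
      intro x hx
      let s := (DirectSum.decompose 𝒩 x).support
      let L : ℕ := s.sup id + n.natAbs
      have hle : ∀ i ∈ s, i ≤ L := fun i hi => le_add_right (Finset.le_sup (f := id) hi)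
      let x' : N := ∑ i ∈ s, ψ f ^ (L - i) • (DirectSum.decompose 𝒩 x i : N)
      have hx' : x' ∈ 𝒩 L := sum_mem fun i hi => by
        have h := smul_mem_of_mem (Groth.Agent.Lib.H70.GrDeh.pow_mem hf' (L - i))
          (SetLike.coe_mem (DirectSum.decompose 𝒩 x i))
        rwa [Nat.sub_add_cancel (hle i hi)] at h
      have hgx : g x' = g x := by
        conv_rhs => rw [← DirectSum.sum_support_decompose 𝒩 x]
        rw [map_sum, map_sum]
        exact Finset.sum_congr rfl fun i _ => hgψ _ _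
      have h0 : η x' = 0 := by
        rw [← hη, hgx, hη, hx]
      obtain ⟨K, hK⟩ := exists_pow_smul_eq_zero (𝒜 := ℬ) (m := x') Nat.one_pos hf' fun y => by
        have h1 := congrArg (fun t : GrMod.sect ℬ 𝒩 n (op (ProjectiveSpectrum.basicOpen ℬ (ψ f))) =>
          val t y) h0
        have h2 : val (deh (ℳ := 𝒩) hf' n x' :
            GrMod.sect ℬ 𝒩 n (op (ProjectiveSpectrum.basicOpen ℬ (ψ f)))) y = 0 := h1
        rw [val_deh hf' n hx' y (basicOpen_le_pow _ y.2),
          show (n - (L : ℤ)).toNat = 0 by omega, pow_zero, one_smul] at h2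
        exact (mk_eq_zero_iff hx').1 h2
      rw [← hgx, ← hgψ K x', hK, map_zero]
    have hΨ : Function.Bijective Ψ := by
      refine ⟨fun a b hab => ?_, fun s => ?_⟩
      · obtain ⟨a, rfl⟩ := hgsurj a
        obtain ⟨b, rfl⟩ := hgsurj b
        rw [← sub_eq_zero, ← map_sub]
        refine hker _ ?_
        rw [map_sub, ← hη, ← hη, hab, sub_self]
      · obtain ⟨x, rfl⟩ := deh_surjective (ℳ := 𝒩) hf' n s
        exact ⟨g x, hη x⟩
    exact (Function.Bijective.of_comp_iff _ (bijective_pbTensor Φ (GrMod.tilde 𝒜 ℳ n)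
      (Proj.isAffineOpen_basicOpen 𝒜 f hf Nat.one_pos)
      (Proj.isAffineOpen_basicOpen ℬ (ψ f) hf' Nat.one_pos) e)).1 hΨ
  refine isIso_of_bijective_basis ν
    (B := {W | ∃ (f : A) (_ : f ∈ 𝒜 1) (r : Γ(Proj ℬ, Proj.basicOpen ℬ (ψ f))),
      W = (Proj ℬ).basicOpen r}) ?_ ?_
  · refine Opens.isBasis_iff_nbhd.2 fun {U y} hy => ?_
    obtain ⟨f, hf, hfy⟩ : ∃ f ∈ 𝒜 1, f ∉ (ProjectiveSpectrum.comap ψ hψ y).asHomogeneousIdeal := by
      by_contra h
      push Not at h
      refine (ProjectiveSpectrum.comap ψ hψ y).not_irrelevant_le ?_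
      change (𝒜₊).toIdeal ≤ (ProjectiveSpectrum.comap ψ hψ y).asHomogeneousIdeal.toIdeal
      rw [hgen, Ideal.span_le]
      exact h
    obtain ⟨r, hr, hyr⟩ := (Proj.isAffineOpen_basicOpen ℬ (ψ f) (ψ.map_mem hf) Nat.one_pos).exists_basicOpen_le
      (⟨y, hy⟩ : U) hfy
    exact ⟨_, ⟨f, hf, r, rfl⟩, hyr, hr⟩
  · rintro _ ⟨f, hf, r, rfl⟩
    exact bijective_basicOpen ν (Proj.isAffineOpen_basicOpen ℬ (ψ f) (ψ.map_mem hf) Nat.one_pos)
      (key f hf) r

end Groth.Agent.S8341
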