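import Groth.Statements.S8342
import Groth.Agent.H58VA.RelLocus
-- import your own Groth.Agent.* helpers here

set_option autoImplicit false
universe u
open CategoryTheory CategoryTheory.Limits AlgebraicGeometry Opposite TopologicalSpace
open scoped HomogeneousIdeal
noncomputable section
open EGA2

namespace Groth.Agent.S8342

/-- Let 𝒮 be a quasi-coherent positively graded O_Y-algebra generated by 𝒮_1, P = Proj(𝒮), and f a
global section of 𝒮 of degree d > 0. Then the open X_f (chartwise D_+(f|U)) is the set of points of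
P where the global section α_d(f) of the invertible module O_P(d) does not vanish — here: X_f equals
the largest open over which the module map O_P → O_P(d) defined by α_d(f) is an isomorphism; O_P(d)
is given through its chartwise identifications and α_d(f) is pinned as the section reading f|U / 1
on every chart. -/
theorem result {Y P : Scheme.{u}} (𝒮 : RelProj.QCGrAlg Y) (p : P ⟶ Y)
    (chart : ∀ (U : Y.Opens) (hU : IsAffineOpen U), (((p ⁻¹ᵁ U : P.Opens) : Scheme.{u}) ≅ Proj (𝒮.deg U hU)))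
    (hP : RelProj.IsRelProj 𝒮 p chart) (hgen : 𝒮.IsGenDegOne) {d : ℕ} (hd : 0 < d)
    (f : 𝒮.presheaf.obj (op ⊤))
    (hf : ∀ (U : Y.Opens) (hU : IsAffineOpen U), (𝒮.presheaf.map (homOfLE le_top).op).hom f ∈ 𝒮.deg U hU d)
    (Xf : P.Opens)
    (hXf : ∀ (U : Y.Opens) (hU : IsAffineOpen U),
      Xf ⊓ p ⁻¹ᵁ U =
        (p ⁻¹ᵁ U).ι ''ᵁ ((chart U hU).hom ⁻¹ᵁ
          Proj.basicOpen (𝒮.deg U hU) ((𝒮.presheaf.map (homOfLE le_top).op).hom f)))
    (L : P.Modules)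
    (lam : ∀ (U : Y.Opens) (hU : IsAffineOpen U),
      L ⟶ (Scheme.Modules.pushforward (RelProj.emb p chart U hU)).obj (GrTwist.twist (𝒮.deg U hU) (d : ℤ)))
    (hL : RelProj.IsRelTwist 𝒮 p chart (d : ℤ) L lam) (s : Coh.structureModule P ⟶ L)
    (hs : ∀ (U : Y.Opens) (hU : IsAffineOpen U) (y : Proj (𝒮.deg U hU)),
      GrTwist.val (V := RelProj.emb p chart U hU ⁻¹ᵁ ⊤)
        ((lam U hU).app ⊤ (s.app ⊤ (show Γ(Coh.structureModule P, ⊤) from (1 : Γ(P, ⊤))))) ⟨y, Set.mem_univ _⟩ =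
        Localization.mk ((𝒮.presheaf.map (homOfLE le_top).op).hom f) 1) :
    Xf = CohB1.genLocus L s := by
  ext x
  obtain ⟨U, hU, hxU, -⟩ := exists_isAffineOpen_mem_and_subset (U := ⊤) (x := p x) trivial
  have hxU' : x ∈ p ⁻¹ᵁ U := hxU
  have hxr : x ∈ (RelProj.emb p chart U hU).opensRange := by
    rw [H58VA.RelLocus.opensRange_emb]; exact hxU'
  obtain ⟨y, rfl⟩ := hxr
  let ε := RelProj.emb p chart U hU
  let fU := (𝒮.presheaf.map (homOfLE (le_top : U ≤ ⊤)).op).hom f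
  have hcov := fun z => H58VA.RelLocus.exists_notMem_of_isGenDegOne hgen hU d z
  obtain ⟨s', hs'⟩ := Lib.Ample.GenLocus.exists_hom_of_sec (H58VA.GrTwistOne.oneSec (hf U hU))
  have hloc := H58VA.GrTwistOne.genLocus_oneSec (hf U hU) s' hs' hcov
  have hsec : ∀ W : P.Opens,
      (show Γ(GrTwist.twist (𝒮.deg U hU) (d : ℤ), ε ⁻¹ᵁ W) from
        (lam U hU).app W (Lib.Ample.GenLocus.sv s W)) = Lib.Ample.GenLocus.sv s' (ε ⁻¹ᵁ W) := by
    intro W
    have htop : (show Γ(GrTwist.twist (𝒮.deg U hU) (d : ℤ), ε ⁻¹ᵁ ⊤) from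
        (lam U hU).app ⊤ (Lib.Ample.GenLocus.sv s ⊤)) = Lib.Ample.GenLocus.sv s' ⊤ := by
      rw [hs']
      refine Subtype.ext (funext fun z => Subtype.ext ?_)
      exact hs U hU z.1
    rw [← Lib.Ample.GenLocus.rs_sv s (le_top : W ≤ ⊤), ← Lib.TensorMod.HomGlue.rs_app,
      ← Lib.Ample.GenLocus.rs_sv s' (le_top : ε ⁻¹ᵁ W ≤ ⊤), ← htop]
    rfl
  have hemb : ε y = (p ⁻¹ᵁ U).ι ((chart U hU).inv y) := rfl
  have hyXf : ε y ∈ Xf ↔ y ∈ Proj.basicOpen (𝒮.deg U hU) fU := by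
    have h1 : ε y ∈ Xf ↔ ε y ∈ Xf ⊓ p ⁻¹ᵁ U := ⟨fun h => ⟨h, hxU'⟩, fun h => h.1⟩
    rw [h1, hXf U hU, hemb]
    have h2 : (chart U hU).hom ((chart U hU).inv y) = y := by
      rw [← Scheme.Hom.comp_apply, Iso.inv_hom_id]
      rfl
    constructor
    · rintro ⟨z, hz, e⟩
      have := (p ⁻¹ᵁ U).ι.isOpenEmbedding.injective e
      subst this
      have hz' : (chart U hU).hom ((chart U hU).inv y) ∈ Proj.basicOpen (𝒮.deg U hU) fU := hz
      rwa [h2] at hz'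
    · intro hy
      refine ⟨(chart U hU).inv y, ?_, rfl⟩
      show (chart U hU).hom ((chart U hU).inv y) ∈ Proj.basicOpen (𝒮.deg U hU) fU
      rwa [h2]
  have hmem : ε y ∈ CohB1.genLocus L s ↔ y ∈ CohB1.genLocus _ s' := by
    rw [Lib.Ample.GenLocus.mem_genLocus_iff, Lib.Ample.GenLocus.mem_genLocus_iff]
    constructor
    · rintro ⟨W, hyW, hW⟩
      have h := (H58VA.RelLocus.isGen_iff hL hU (inf_le_right : W ⊓ p ⁻¹ᵁ U ≤ p ⁻¹ᵁ U) _).1
        (hW.res (inf_le_left : W ⊓ p ⁻¹ᵁ U ≤ W))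
      rw [Lib.Ample.GenLocus.rs_sv] at h
      exact ⟨ε ⁻¹ᵁ (W ⊓ p ⁻¹ᵁ U), ⟨hyW, hxU'⟩, hsec _ ▸ h⟩
    · rintro ⟨W, hyW, hW⟩
      have hle : ε ''ᵁ W ≤ p ⁻¹ᵁ U := by
        rw [← H58VA.RelLocus.opensRange_emb (chart := chart) U hU]
        exact Set.image_subset_range _ _
      refine ⟨ε ''ᵁ W, ⟨y, hyW, rfl⟩, (H58VA.RelLocus.isGen_iff hL hU hle _).2 ?_⟩
      rw [hsec]
      have := hW.res (ε.preimage_image_eq W).le
      rwa [Lib.Ample.GenLocus.rs_sv] at this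
  show ε y ∈ Xf ↔ ε y ∈ CohB1.genLocus L s
  rw [hyXf, hmem, hloc]

end Groth.Agent.S8342
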