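import Groth.Statements.S8346
import Groth.Agent.Lib.Spectral.Constructible

set_option autoImplicit false
universe u
open ConstrTop

namespace Groth.Agent.S8346

open TopologicalSpace in
/-- Let X be a topological space admitting a basis of open subsets which are retrocompact in X. Then
every locally constructible subset T of X is retrocompact in X. -/
theorem result {X : Type u} [TopologicalSpace X]
    {B : Set (Set X)} (hB : IsTopologicalBasis B) (hBr : ∀ U ∈ B, IsRetrocompact U) {T : Set X}
    (hT : Topology.IsLocallyConstructible T) : IsRetrocompact T := by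
  open Set in
  intro W hWc hWo
  have h : ∀ x ∈ W, ∃ V : Set X, IsOpen V ∧ x ∈ V ∧ IsCompact (T ∩ (W ∩ V)) ∧ V ∈ B := by
    intro x hx
    obtain ⟨U, hxU, hU, hUT⟩ := hT x
    obtain ⟨b, hb, hxb, hbU⟩ := hB.exists_subset_of_mem_open (mem_of_mem_nhds hxU) hU
    refine ⟨b, hB.isOpen hb, hxb, ?_, hb⟩
    have hK : IsCompact (b ∩ W) := hBr b hb hWc hWo
    have h1 := (Groth.Agent.Lib.Spectral.Constructible.isRetrocompact hUT)
      (U := (Subtype.val : U → X) ⁻¹' (b ∩ W))
      (by rw [Topology.IsEmbedding.subtypeVal.isCompact_iff, Subtype.image_preimage_coe,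
            inter_eq_right.mpr (inter_subset_left.trans hbU)]
          exact hK)
      (((hB.isOpen hb).inter hWo).preimage continuous_subtype_val)
    have h2 := h1.image continuous_subtype_val
    rw [← preimage_inter, Subtype.image_preimage_coe,
      inter_eq_right.mpr (inter_subset_right.trans (inter_subset_left.trans hbU))] at h2
    rwa [inter_comm W b]
  choose! V hVo hxV hVc hVB using h
  obtain ⟨t, ht, htW⟩ := hWc.elim_nhds_subcover V fun x hx ↦ (hVo x hx).mem_nhds (hxV x hx)
  have heq : T ∩ W = ⋃ x ∈ t, T ∩ (W ∩ V x) := by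
    ext y
    simp only [mem_inter_iff, mem_iUnion, exists_prop]
    constructor
    · rintro ⟨h1, h2⟩
      obtain ⟨x, hx, hy⟩ := mem_iUnion₂.mp (htW h2)
      exact ⟨x, hx, h1, h2, hy⟩
    · rintro ⟨x, -, h1, h2, -⟩
      exact ⟨h1, h2⟩
  rw [heq]
  exact t.isCompact_biUnion fun x hx ↦ hVc x (ht x hx)

end Groth.Agent.S8346
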