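import Groth.Statements.S8347
import Groth.Agent.Lib.SSAbs.Basic


set_option autoImplicit false
universe v u
open CategoryTheory CategoryTheory.Limits
open SpSeq

namespace Groth.Agent.S8347

/-- Let E be a spectral sequence in an abelian category with abutment data (H^m), and suppose that for
some page r and every total degree m there is an integer q(m) such that E_r^{m-q,q} = 0 for every q
other than q(m). Let n be a total degree such that the filtration of H^n is discrete (some step is
zero) and exhaustive (H^n is the supremum of the steps), and such that the position (n - q(n), q(n))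
is stationary from page r on. Then H^n is isomorphic to E_r^{n-q(n), q(n)}. (The published statement
asserts this without any condition on the differentials at the surviving positions; that version
fails when a differential d_r links the surviving terms of two consecutive total degrees, for
instance a spectral sequence whose only nonzero page-2 terms are E_2^{0,1} and E_2^{2,0} with d_2 an
isomorphism between them and zero abutment. The stationarity assumed here is automatic when q(m)
does not depend on m and r ≥ 2.) -/
theorem result {C : Type u} [Category.{v} C] [Abelian C] {r₀ : ℤ}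
    (E : CohomologicalSpectralSequence C r₀) {H : ℤ → C} (a : SpSeq.Abutment E H)
    (r : ℤ) (hr : r₀ ≤ r) (q : ℤ → ℤ)
    (hdeg : ∀ m q' : ℤ, q' ≠ q m → IsZero ((E.page r hr).X (m - q', q')))
    (n : ℤ) (hdisc : (a.filObj n).IsDiscrete) (hexh : a.IsExhaustive n)
    (hst : SpSeq.StationaryAt E (n - q n, q n) r) :
    Nonempty (H n ≅ (E.page r hr).X (n - q n, q n)) := by
  have hz : ∀ p : ℤ, p ≠ n - q n → IsZero (SpSeq.grPiece (a.fil n) (a.anti n) p) := by
    intro p hp
    refine Groth.Agent.Lib.SSAbs.Basic.isZero_gr a (p, n - p) n (by simp) hr ?_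
    have := hdeg n (n - p) (by omega)
    rwa [sub_sub_cancel] at this
  obtain ⟨b, hb⟩ := hdisc
  have hbot : a.fil n (n - q n + 1) = ⊥ :=
    Groth.Agent.Lib.SSAbs.Basic.eq_bot_of_isZero (a.anti n) hb fun i hi => hz i (by omega)
  have htop : a.fil n (n - q n) = ⊤ := by
    refine top_le_iff.1 (hexh.2 ?_)
    rintro _ ⟨p, rfl⟩
    rcases le_total p (n - q n) with hp | hp
    · exact (Groth.Agent.Lib.SSAbs.Basic.eq_of_isZero (a.anti n) hp fun i _ hi => hz i (by omega)).le
    · exact a.anti n hp
  obtain ⟨e₁⟩ := Groth.Agent.Lib.SSAbs.Basic.nonempty_iso_grPiece (a.anti n) htop hbot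
  obtain ⟨e₂⟩ := Groth.Agent.Lib.SSAbs.Basic.nonempty_gr_of_le a (n - q n, q n) n (by simp)
    (max r (a.rk (n - q n, q n))) (le_max_right _ _)
  obtain ⟨e₃⟩ := Groth.Agent.Lib.SSAbs.Basic.nonempty_stat E hst (max r (a.rk (n - q n, q n))) (le_max_left _ _)
  exact ⟨e₁ ≪≫ e₂ ≪≫ e₃⟩

end Groth.Agent.S8347
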