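import Groth.Statements.S8348
import Mathlib.Algebra.Homology.HomologicalComplexAbelian
import Mathlib.CategoryTheory.Preadditive.Injective.Basic


set_option autoImplicit false
universe v u
open CategoryTheory CategoryTheory.Limits
open HomAlg3

namespace Groth.Agent.S8348

/-- Let C be an abelian category and Q a cochain complex of objects of C in degrees 0, 1, 2, ... such
that every Q^i is injective, every homology object H^i(Q) with i ≥ 1 is zero, and every inclusion of
the cycles Z^i(Q) into Q^i (i ≥ 0) is a split monomorphism. Then Q is an injective object of the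
category of cochain complexes of C indexed by the natural numbers. (The published statement is for
the narrower class of complexes with Z^i(Q) = B^i(Q) for every i ≥ 0, which in degree 0, where there
is no incoming differential, forces Z^0(Q) = 0; this row allows a nonzero Z^0(Q), so that it pairs
with the embedding of an arbitrary complex into such a Q. Such a Q is the direct sum of Z^0(Q)
placed in degree 0 and of the two-term complexes with Z^{i+1}(Q) in degrees i and i+1 and the
identity as differential, and the published argument carries over with Z^i(Q) in place of B^i(Q) as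
the first summand of Q^i.) -/
theorem result {C : Type u} [Category.{v} C] [Abelian C]
    (Q : CochainComplex C ℕ) (hinj : ∀ i : ℕ, Injective (Q.X i)) (hac : ∀ i : ℕ, IsZero (Q.homology (i + 1)))
    (hsplit : ∀ i : ℕ, IsSplitMono (Q.iCycles i)) : Injective Q := by
  have hepi : ∀ i, Epi (Q.toCycles i (i + 1)) := fun i => by
    have hex : (ShortComplex.mk (Q.toCycles i (i + 1)) (Q.homologyπ (i + 1)) (Q.toCycles_comp_homologyπ _ _)).Exact :=
      ShortComplex.exact_of_g_is_cokernel _ (Q.homologyIsCokernel i (i + 1) (by simp))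
    exact hex.epi_f ((hac i).eq_of_tgt _ _)
  let r : ∀ i, Q.X i ⟶ Q.cycles i := fun i => @retraction _ _ _ _ (Q.iCycles i) (hsplit i)
  have hr : ∀ i, Q.iCycles i ≫ r i = 𝟙 _ := fun i => @IsSplitMono.id _ _ _ _ (Q.iCycles i) (hsplit i)
  have hsec : ∀ i, ∃ s : Q.cycles (i + 1) ⟶ Q.X i, r i ≫ Q.iCycles i + Q.toCycles i (i + 1) ≫ s = 𝟙 _ := by
    intro i
    have w : Q.iCycles i ≫ Q.toCycles i (i + 1) = 0 := by
      rw [← cancel_mono (Q.iCycles (i + 1))]; simp
    have hk : (ShortComplex.mk (Q.iCycles i) (Q.toCycles i (i + 1)) w).Exact := by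
      let φ : ShortComplex.mk (Q.iCycles i) (Q.toCycles i (i + 1)) w ⟶
          ShortComplex.mk (Q.iCycles i) (Q.d i (i + 1)) (Q.iCycles_d _ _) :=
        { τ₁ := 𝟙 _, τ₂ := 𝟙 _, τ₃ := Q.iCycles (i + 1) }
      have : Epi φ.τ₁ := by dsimp [φ]; infer_instance
      have : IsIso φ.τ₂ := by dsimp [φ]; infer_instance
      have : Mono φ.τ₃ := by dsimp [φ]; infer_instance
      exact (ShortComplex.exact_iff_of_epi_of_isIso_of_mono φ).2
        (ShortComplex.exact_of_f_is_kernel _ (Q.cyclesIsKernel i (i + 1) (by simp)))
    have := hepi i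
    let sp := ShortComplex.Splitting.ofExactOfRetraction _ hk (r i) (hr i) this
    exact ⟨sp.s, sp.id⟩
  choose s hs using hsec
  have hZ : ∀ i, Injective (Q.cycles i) := fun i =>
    ⟨fun {X Y} a g hg => by
      have := hinj i
      exact ⟨Injective.factorThru (a ≫ Q.iCycles i) g ≫ r i, by
        rw [← Category.assoc, Injective.comp_factorThru, Category.assoc, hr, Category.comp_id]⟩⟩
  refine ⟨fun {X Y} f g hg => ?_⟩
  have hgi : ∀ i, Mono (g.f i) := fun i =>
    inferInstanceAs (Mono ((HomologicalComplex.eval C (ComplexShape.up ℕ) i).map g))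
  let a : ∀ i, Y.X i ⟶ Q.cycles i := fun i =>
    @Injective.factorThru _ _ _ _ _ (hZ i) (f.f i ≫ r i) (g.f i) (hgi i)
  have ha : ∀ i, g.f i ≫ a i = f.f i ≫ r i := fun i =>
    @Injective.comp_factorThru _ _ _ _ _ (hZ i) (f.f i ≫ r i) (g.f i) (hgi i)
  let h : ∀ i, Y.X i ⟶ Q.X i := fun i => a i ≫ Q.iCycles i + (Y.d i (i + 1) ≫ a (i + 1)) ≫ s i
  have hsd : ∀ i, (Y.d i (i + 1) ≫ a (i + 1)) ≫ s i ≫ Q.d i (i + 1) =
      Y.d i (i + 1) ≫ a (i + 1) ≫ Q.iCycles (i + 1) := fun i => by
    have h1 := (hs i) =≫ Q.d i (i + 1)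
    simp only [Preadditive.add_comp, Category.assoc, HomologicalComplex.iCycles_d, comp_zero, zero_add,
      Category.id_comp] at h1
    conv_rhs at h1 => rw [← Q.toCycles_i i (i + 1)]
    have := hepi i
    rw [(cancel_epi _).1 h1]
    simp
  refine ⟨{ f := h, comm' := ?_ }, ?_⟩
  · rintro i j rfl
    simp only [h, Preadditive.add_comp, Preadditive.comp_add, Category.assoc, HomologicalComplex.iCycles_d,
      comp_zero, zero_add, HomologicalComplex.d_comp_d_assoc, zero_comp, add_zero]
    simpa using hsd i
  · ext i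
    change g.f i ≫ h i = f.f i
    conv_rhs => rw [← Category.comp_id (f.f i), ← hs i]
    simp only [h, Preadditive.comp_add, ← Category.assoc, ha, g.comm]
    congr 2
    rw [Category.assoc, ha, ← Category.assoc, ← f.comm, Category.assoc,
      ← Q.toCycles_i i (i + 1), Category.assoc, hr, Category.comp_id]

end Groth.Agent.S8348
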