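import Groth.Statements.S8349
import Mathlib.Algebra.Homology.HomologicalComplexAbelian
import Mathlib.CategoryTheory.Abelian.Refinements
import Mathlib.CategoryTheory.Preadditive.Injective.Basic


set_option autoImplicit false
universe v u
open CategoryTheory CategoryTheory.Limits
open HomAlg3

namespace Groth.Agent.S8349

/-- Let C be an abelian category in which every object embeds in an injective object, and let A be a
cochain complex of objects of C in degrees 0, 1, 2, .... Then there are a cochain complex Q, with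
every Q^i injective, H^i(Q) = 0 for every i ≥ 1 and every cycle inclusion Z^i(Q) ⟶ Q^i (i ≥ 0) a
split monomorphism, and a monomorphism of complexes A ⟶ Q. (The published statement asks Z^i(Q) =
B^i(Q) for every i ≥ 0; in degree 0, where there is no incoming differential, this makes Z^0(Q) = 0,
and then no complex with nonzero degree-0 cycles, for instance a nonzero object placed in degree 0,
embeds in such a Q, because the degree-0 component of a chain map into Q factors through Z^0(Q).
This row asks vanishing homology in positive degrees only; the published construction, which embeds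
each A^i in an injective I^i and takes Q^i = I^i ⊕ I^{i+1}, proves that version once an injective
I^0 containing A^0 is used in degree 0 as well.) -/
theorem result {C : Type u} [Category.{v} C] [Abelian C]
    [EnoughInjectives C] (A : CochainComplex C ℕ) :
    ∃ (Q : CochainComplex C ℕ) (f : A ⟶ Q), Mono f ∧ (∀ i : ℕ, Injective (Q.X i)) ∧
      (∀ i : ℕ, IsZero (Q.homology (i + 1))) ∧ ∀ i : ℕ, IsSplitMono (Q.iCycles i) := by
  let I : ℕ → C := fun i => Injective.under (A.X i)
  let Q : CochainComplex C ℕ := CochainComplex.of (fun i => I i ⊞ I (i + 1))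
    (fun i => biprod.snd ≫ biprod.inl) (fun i => by simp)
  have hd : ∀ i, Q.d i (i + 1) = biprod.snd ≫ biprod.inl := fun i => CochainComplex.of_d (fun i => I i ⊞ I (i + 1)) (fun i => biprod.snd ≫ biprod.inl) i
  let fi : ∀ i, A.X i ⟶ Q.X i := fun i => biprod.lift (Injective.ι (A.X i)) (A.d i (i + 1) ≫ Injective.ι (A.X (i + 1)))
  refine ⟨Q, { f := fi, comm' := ?_ }, ?_, fun i => ?_, fun i => ?_, fun i => ?_⟩
  · rintro i j rfl
    rw [hd]
    dsimp [fi, Q]
    apply biprod.hom_ext <;> simp
  · have : ∀ i, Mono (fi i) := fun i => by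
      have : Mono (fi i ≫ (biprod.fst : I i ⊞ I (i + 1) ⟶ I i)) := by
        dsimp [fi, I, Q]; rw [biprod.lift_fst]; infer_instance
      exact mono_of_mono (fi i) (biprod.fst : I i ⊞ I (i + 1) ⟶ I i)
    exact HomologicalComplex.mono_of_mono_f _ this
  · change Injective (I i ⊞ I (i + 1))
    infer_instance
  · rw [← HomologicalComplex.exactAt_iff_isZero_homology,
      Q.exactAt_iff' i (i + 1) (i + 2) (by simp) (by simp), ShortComplex.exact_iff_exact_up_to_refinements]
    intro T x hx
    change T ⟶ Q.X (i + 1) at x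
    change x ≫ Q.d (i + 1) (i + 1 + 1) = 0 at hx
    rw [hd (i + 1)] at hx
    have h2 : x ≫ (biprod.snd : I (i + 1) ⊞ I (i + 1 + 1) ⟶ _) = 0 :=
      zero_of_comp_mono (biprod.inl : I (i + 1 + 1) ⟶ I (i + 1 + 1) ⊞ I (i + 1 + 1 + 1)) (by simpa [Q] using hx)
    refine ⟨T, 𝟙 T, inferInstance, (x ≫ (biprod.fst : I (i + 1) ⊞ I (i + 1 + 1) ⟶ _)) ≫ biprod.inr, ?_⟩
    change 𝟙 T ≫ x = ((x ≫ (biprod.fst : I (i + 1) ⊞ I (i + 1 + 1) ⟶ _)) ≫ (biprod.inr : I (i + 1) ⟶ I i ⊞ I (i + 1))) ≫ Q.d i (i + 1)
    rw [hd i]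
    change 𝟙 T ≫ (x : T ⟶ I (i + 1) ⊞ I (i + 1 + 1)) = ((x ≫ (biprod.fst : I (i + 1) ⊞ I (i + 1 + 1) ⟶ _)) ≫ (biprod.inr : I (i + 1) ⟶ I i ⊞ I (i + 1))) ≫ biprod.snd ≫ biprod.inl
    rw [Category.id_comp, Category.assoc, biprod.inr_snd_assoc]
    apply biprod.hom_ext
    · simp
    · simp [h2]
  · have hl : (biprod.inl : I i ⟶ I i ⊞ I (i + 1)) ≫ Q.d i (i + 1) = 0 := by
      rw [hd]; simp [Q]
    refine ⟨⟨⟨(biprod.fst : I i ⊞ I (i + 1) ⟶ _) ≫ Q.liftCycles biprod.inl (i + 1) (by simp) hl, ?_⟩⟩⟩
    have h0 := Q.iCycles_d i (i + 1)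
    rw [hd] at h0
    have h2 : Q.iCycles i ≫ (biprod.snd : I i ⊞ I (i + 1) ⟶ _) = 0 :=
      zero_of_comp_mono (biprod.inl : I (i + 1) ⟶ I (i + 1) ⊞ I (i + 1 + 1)) (by simpa [Q] using h0)
    rw [← cancel_mono (Q.iCycles i), Category.assoc, Category.assoc, HomologicalComplex.liftCycles_i, Category.id_comp]
    dsimp [Q] at h2 ⊢
    apply biprod.hom_ext
    · simp
    · simpa using h2.symm

end Groth.Agent.S8349
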