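import Groth.Statements.S8350
import Mathlib.CategoryTheory.Abelian.Injective.Resolution
import Mathlib.CategoryTheory.Subobject.Lattice
import Mathlib.CategoryTheory.Subobject.Limits
import Mathlib.Data.Int.Interval
import Mathlib.CategoryTheory.Abelian.Refinements
-- import your own Groth.Agent.* helpers here

set_option autoImplicit false
set_option linter.style.haveILetI false
universe v u
open CategoryTheory CategoryTheory.Limits
open HomAlg3

namespace Groth.Agent.S8350

noncomputable section

/-! ### Splicing short exact sequences -/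

section Splice

variable {C : Type u} [Category.{v} C] [Abelian C]

/-- Short exact sequences `K n → X n → K (n + 1)`. -/
structure Splice (C : Type u) [Category.{v} C] [Abelian C] where
  K : ℕ → C
  X : ℕ → C
  ι : ∀ n, K n ⟶ X n
  π : ∀ n, X n ⟶ K (n + 1)
  w : ∀ n, ι n ≫ π n = 0
  mono : ∀ n, Mono (ι n)
  epi : ∀ n, Epi (π n)
  exact : ∀ n, (ShortComplex.mk (ι n) (π n) (w n)).Exact

namespace Splice

variable (S : Splice C)

/-- The spliced complex. -/
def cx : CochainComplex C ℕ :=
  CochainComplex.of S.X (fun n => S.π n ≫ S.ι (n + 1)) fun n => by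
    rw [Category.assoc, ← Category.assoc (S.ι (n + 1)), S.w, zero_comp, comp_zero]

theorem cx_d (n : ℕ) : S.cx.d n (n + 1) = S.π n ≫ S.ι (n + 1) := by simp [cx]

/-- The augmentation. -/
def aug : (CochainComplex.single₀ C).obj (S.K 0) ⟶ S.cx :=
  (CochainComplex.fromSingle₀Equiv _ _).symm ⟨S.ι 0, by rw [cx_d]; exact (reassoc_of% S.w 0) _ |>.trans zero_comp⟩

theorem aug_f : S.aug.f 0 = S.ι 0 := CochainComplex.fromSingle₀Equiv_symm_apply_f_zero _ _

theorem exact_pair (n : ℕ) : (ShortComplex.mk (S.ι n) (S.π n ≫ S.ι (n + 1))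
    (by rw [← Category.assoc, S.w, zero_comp])).Exact := by
  haveI := S.mono (n + 1)
  let φ : ShortComplex.mk (S.ι n) (S.π n) (S.w n) ⟶ ShortComplex.mk (S.ι n) (S.π n ≫ S.ι (n + 1))
      (by rw [← Category.assoc, S.w, zero_comp]) :=
    { τ₁ := 𝟙 _, τ₂ := 𝟙 _, τ₃ := S.ι (n + 1) }
  haveI : Epi φ.τ₁ := inferInstanceAs (Epi (𝟙 _))
  haveI : IsIso φ.τ₂ := inferInstanceAs (IsIso (𝟙 _))
  haveI : Mono φ.τ₃ := S.mono (n + 1)
  exact (ShortComplex.exact_iff_of_epi_of_isIso_of_mono φ).1 (S.exact n)

theorem exactAt (n : ℕ) : S.cx.ExactAt (n + 1) := by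
  rw [HomologicalComplex.exactAt_iff' _ n (n + 1) (n + 1 + 1) (by simp) (by simp)]
  let T := ShortComplex.mk (S.π n ≫ S.ι (n + 1)) (S.π (n + 1) ≫ S.ι (n + 1 + 1))
    (by rw [Category.assoc, ← Category.assoc (S.ι (n + 1)), S.w, zero_comp, comp_zero])
  let φ : T ⟶ ShortComplex.mk (S.ι (n + 1)) (S.π (n + 1) ≫ S.ι (n + 1 + 1))
      (by rw [← Category.assoc, S.w, zero_comp]) :=
    { τ₁ := S.π n, τ₂ := 𝟙 _, τ₃ := 𝟙 _
      comm₁₂ := by simp [T], comm₂₃ := by simp [T] }
  haveI : Epi φ.τ₁ := S.epi n
  haveI : IsIso φ.τ₂ := inferInstanceAs (IsIso (𝟙 _))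
  haveI : Mono φ.τ₃ := inferInstanceAs (Mono (𝟙 _))
  refine ShortComplex.exact_of_iso ?_ ((ShortComplex.exact_iff_of_epi_of_isIso_of_mono φ).2 (S.exact_pair (n + 1)))
  refine ShortComplex.isoMk (Iso.refl _) (Iso.refl _) (Iso.refl _) ?_ ?_
  · refine (Category.id_comp _).trans ?_
    exact (S.cx_d n).trans (Category.comp_id _).symm
  · refine (Category.id_comp _).trans ?_
    exact (S.cx_d (n + 1)).trans (Category.comp_id _).symm

theorem quasiIso_aug : QuasiIso S.aug := ⟨fun n => by
  cases n
  · rw [CochainComplex.quasiIsoAt₀_iff, ShortComplex.quasiIso_iff_of_zeros]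
    · refine (ShortComplex.exact_and_mono_f_iff_of_iso ?_).2 ⟨S.exact_pair 0, S.mono 0⟩
      refine ShortComplex.isoMk (Iso.refl _) (Iso.refl _) (Iso.refl _) ?_ ?_
      · erw [Category.id_comp, Category.comp_id]; exact S.aug_f.symm
      · erw [Category.id_comp, Category.comp_id]; exact S.cx_d 0 |>.symm
    all_goals rfl
  · rw [quasiIsoAt_iff_exactAt]
    · apply S.exactAt
    · apply CochainComplex.exactAt_succ_single_obj⟩

end Splice

end Splice

/-! ### One step of the resolution -/

variable {C : Type u} [Category.{v} C] [Abelian C] [EnoughInjectives C]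

/-- An embedding into an injective with a compatible filtration. -/
structure Step (K : SpSeq.FilObj C) where
  X : C
  inj : Injective X
  ι : K.obj ⟶ X
  mono : Mono ι
  G : ℤ → Subobject X
  anti : Antitone G
  injG : ∀ i, Injective (G i : C)
  top : ∀ i, K.fil i = ⊤ → G i = ⊤
  bot : ∀ i, K.fil i = ⊥ → G i = ⊥
  factors : ∀ (i : ℤ) {Z : C} (x : Z ⟶ K.obj), (G i).Factors (x ≫ ι) ↔ (K.fil i).Factors x

theorem factors_iff_comp_cokernel {A Z : C} (S : Subobject A) (x : Z ⟶ A) :
    S.Factors x ↔ x ≫ cokernel.π S.arrow = 0 := by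
  constructor
  · intro h
    rw [← S.factorThru_arrow x h, Category.assoc, cokernel.condition, comp_zero]
  · intro h
    exact Abelian.monoLift_comp S.arrow x h ▸ Subobject.factors_comp_arrow _

theorem nonempty_step (K : SpSeq.FilObj C) (hK : K.IsFinite) : Nonempty (Step K) := by
  classical
  obtain ⟨⟨a, ha⟩, b, hb⟩ := hK
  let T : Finset (Subobject K.obj) := ((Finset.Icc a b).image K.fil).filter (fun S => S ≠ ⊤)
  have hT : ∀ i, K.fil i ≠ ⊤ → K.fil i ∈ T := fun i hi => by
    refine Finset.mem_filter.2 ⟨Finset.mem_image.2 ?_, hi⟩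
    have hai : a < i := not_le.1 fun h => hi (eq_top_iff.2 (ha ▸ K.anti h))
    by_cases hib : i ≤ b
    · exact ⟨i, Finset.mem_Icc.2 ⟨hai.le, hib⟩, rfl⟩
    · have hib' : K.fil i = ⊥ := eq_bot_iff.2 (hb ▸ K.anti (not_le.1 hib).le)
      refine ⟨b, Finset.mem_Icc.2 ⟨not_lt.1 fun h => hi ?_, le_rfl⟩, hb.trans hib'.symm⟩
      rw [hib', ← hb]
      exact eq_top_iff.2 (ha ▸ K.anti h.le)
  let I : T → C := fun S => Injective.under (cokernel S.1.arrow)
  let c : ∀ S : T, K.obj ⟶ I S := fun S => cokernel.π S.1.arrow ≫ Injective.ι _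
  let X := ∏ᶜ I
  let ι : K.obj ⟶ X := Pi.lift c
  have hι : ∀ S, ι ≫ Pi.π I S = c S := fun S => Pi.lift_π _ _
  let G : ℤ → Subobject X := fun i =>
    (Finset.univ.filter fun S : T => K.fil i ≤ S.1).inf fun S => kernelSubobject (Pi.π I S)
  have hG : ∀ (i : ℤ) {Z : C} (f : Z ⟶ X), (G i).Factors f ↔ ∀ S : T, K.fil i ≤ S.1 → f ≫ Pi.π I S = 0 := by
    intro i Z f
    simp only [G, Subobject.finset_inf_factors, kernelSubobject_factors_iff, Finset.mem_filter, Finset.mem_univ, true_and]
  have hfac : ∀ (i : ℤ) {Z : C} (x : Z ⟶ K.obj), (G i).Factors (x ≫ ι) ↔ (K.fil i).Factors x := by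
    intro i Z x
    rw [hG]
    constructor
    · intro h
      by_cases hi : K.fil i = ⊤
      · exact hi ▸ Subobject.top_factors x
      · have h1 := h ⟨K.fil i, hT i hi⟩ le_rfl
        rw [Category.assoc, hι, ← Category.assoc, ← zero_comp (f := Injective.ι _)] at h1
        exact (factors_iff_comp_cokernel _ _).2 ((cancel_mono (Injective.ι _)).1 h1)
    · intro h S hS
      rw [Category.assoc, hι, ← Category.assoc,
        (factors_iff_comp_cokernel _ _).1 (Subobject.factors_of_le x hS h), zero_comp]
  have hmono : Mono ι := by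
    refine Preadditive.mono_of_cancel_zero _ fun {P} g hg => ?_
    have h1 : (G b).Factors (g ≫ ι) := hg ▸ Subobject.factors_zero
    have h2 := (hfac b g).1 h1
    rw [hb] at h2
    exact (Subobject.bot_factors_iff_zero _).1 h2
  have hinjG : ∀ i, Injective (G i : C) := fun i => by
    let e : X ⟶ X := Limits.Pi.map fun (S : T) => if K.fil i ≤ S.1 then 0 else 𝟙 (I S)
    have he : (G i).Factors e := (hG i e).2 fun S hS => by simp [e, hS]
    haveI : IsSplitMono (G i).arrow := IsSplitMono.mk' ⟨(G i).factorThru e he, by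
      rw [← cancel_mono (G i).arrow, Category.assoc, Subobject.factorThru_arrow, Category.id_comp]
      refine Pi.hom_ext _ _ fun S => ?_
      by_cases hS : K.fil i ≤ S.1
      · have := (hG i (G i).arrow).1 (Subobject.factors_self _) S hS
        simp [e, hS, this]
      · simp [e, hS]⟩
    exact Retract.injective ⟨(G i).arrow, retraction (G i).arrow, IsSplitMono.id _⟩
  have hanti : Antitone G := fun i j hij => Finset.inf_mono fun S hS => by
    rw [Finset.mem_filter] at hS ⊢
    exact ⟨hS.1, (K.anti hij).trans hS.2⟩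
  refine ⟨⟨X, inferInstance, ι, hmono, G, hanti, hinjG, fun i hi => ?_, fun i hi => ?_, hfac⟩⟩
  · show Finset.inf _ _ = ⊤
    rw [Finset.filter_false_of_mem (fun (S : T) _ h => (Finset.mem_filter.1 S.2).2 (eq_top_iff.2 (hi ▸ h))), Finset.inf_empty]
  · refine eq_bot_iff.2 ?_
    have h0 : (G i).arrow = 0 := Pi.hom_ext _ _ fun S => by
      rw [zero_comp]
      exact (hG i _).1 (Subobject.factors_self _) S (hi ▸ bot_le)
    exact Subobject.le_of_comm 0 (by rw [zero_comp, h0])

/-- The chosen step. -/
def step (K : {K : SpSeq.FilObj C // K.IsFinite}) : Step K.1 := (nonempty_step K.1 K.2).some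

/-- The induced filtration of the cokernel. -/
def nextFil (K : {K : SpSeq.FilObj C // K.IsFinite}) : SpSeq.FilObj C where
  obj := cokernel (step K).ι
  fil i := imageSubobject (((step K).G i).arrow ≫ cokernel.π (step K).ι)
  anti i j hij := by
    show imageSubobject _ ≤ imageSubobject _
    rw [← Subobject.ofLE_arrow ((step K).anti hij), Category.assoc]
    exact imageSubobject_comp_le _ _

theorem next_top (K : {K : SpSeq.FilObj C // K.IsFinite}) (i : ℤ) (hi : K.1.fil i = ⊤) :
    (nextFil K).fil i = ⊤ := by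
  haveI : IsIso ((step K).G i).arrow := Subobject.isIso_arrow_iff_eq_top _ |>.2 ((step K).top i hi)
  show imageSubobject _ = ⊤
  rw [← Subobject.isIso_arrow_iff_eq_top]
  haveI : Epi (imageSubobject (((step K).G i).arrow ≫ cokernel.π (step K).ι)).arrow :=
    epi_of_epi_fac (imageSubobject_arrow_comp _)
  exact isIso_of_mono_of_epi _

theorem next_bot (K : {K : SpSeq.FilObj C // K.IsFinite}) (i : ℤ) (hi : K.1.fil i = ⊥) :
    (nextFil K).fil i = ⊥ := by
  show imageSubobject _ = ⊥
  have h0 : ((step K).G i).arrow = 0 := by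
    rw [(step K).bot i hi, Subobject.bot_arrow]
  have h1 : ((step K).G i).arrow ≫ cokernel.π (step K).ι = 0 := by rw [h0, zero_comp]
  simp only [h1]
  exact imageSubobject_zero

/-- The successive cokernels. -/
def seq (K : {K : SpSeq.FilObj C // K.IsFinite}) : ℕ → {K : SpSeq.FilObj C // K.IsFinite}
  | 0 => K
  | n + 1 => ⟨nextFil (seq K n), by
      obtain ⟨⟨a, ha⟩, b, hb⟩ := (seq K n).2
      exact ⟨⟨a, next_top _ a ha⟩, b, next_bot _ b hb⟩⟩

variable (K : {K : SpSeq.FilObj C // K.IsFinite})

/-- The resolution as spliced sequences. -/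
def total : Splice C where
  K n := (seq K n).1.obj
  X n := (step (seq K n)).X
  ι n := (step (seq K n)).ι
  π n := cokernel.π (step (seq K n)).ι
  w n := cokernel.condition _
  mono n := (step (seq K n)).mono
  epi n := show Epi (cokernel.π (step (seq K n)).ι) from coequalizer.π_epi
  exact n := ShortComplex.exact_cokernel _

/-- The filtration steps as spliced sequences. -/
def part (i : ℤ) : Splice C where
  K n := ((seq K n).1.fil i : C)
  X n := ((step (seq K n)).G i : C)
  ι n := ((step (seq K n)).G i).factorThru (((seq K n).1.fil i).arrow ≫ (step (seq K n)).ι)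
    (((step (seq K n)).factors i _).2 (Subobject.factors_self _))
  π n := factorThruImageSubobject (((step (seq K n)).G i).arrow ≫ cokernel.π (step (seq K n)).ι)
  w n := by
    refine (cancel_mono (imageSubobject (((step (seq K n)).G i).arrow ≫ cokernel.π (step (seq K n)).ι)).arrow).1 ?_
    refine (Category.assoc _ _ _).trans (Eq.trans ?_ zero_comp.symm)
    erw [imageSubobject_arrow_comp]
    rw [← Category.assoc, Subobject.factorThru_arrow, Category.assoc, cokernel.condition, comp_zero]
  mono n := by
    haveI := (step (seq K n)).mono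
    exact mono_of_mono_fac (Subobject.factorThru_arrow _ _ _)
  epi n := inferInstanceAs (Epi (factorThruImageSubobject _))
  exact n := by
    rw [ShortComplex.exact_iff_exact_up_to_refinements]
    intro Z x hx
    haveI := (step (seq K n)).mono
    have e := imageSubobject_arrow_comp (((step (seq K n)).G i).arrow ≫ cokernel.π (step (seq K n)).ι)
    have h0 : (x ≫ ((step (seq K n)).G i).arrow) ≫ cokernel.π (step (seq K n)).ι = 0 := by
      rw [Category.assoc]
      exact (congrArg (x ≫ ·) e.symm).trans ((Category.assoc _ _ _).symm.trans ((congrArg (· ≫ _) hx).trans zero_comp))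
    let y := Abelian.monoLift (step (seq K n)).ι (x ≫ ((step (seq K n)).G i).arrow) h0
    have hy : y ≫ (step (seq K n)).ι = x ≫ ((step (seq K n)).G i).arrow := Abelian.monoLift_comp _ _ _
    have hfy : ((seq K n).1.fil i).Factors y :=
      ((step (seq K n)).factors i y).1 (hy ▸ Subobject.factors_comp_arrow x)
    refine ⟨Z, 𝟙 Z, inferInstance, ((seq K n).1.fil i).factorThru y hfy, ?_⟩
    refine (Category.id_comp _).trans ((cancel_mono ((step (seq K n)).G i).arrow).1 ?_)
    show x ≫ ((step (seq K n)).G i).arrow = (((seq K n).1.fil i).factorThru y hfy ≫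
      ((step (seq K n)).G i).factorThru (((seq K n).1.fil i).arrow ≫ (step (seq K n)).ι)
        (((step (seq K n)).factors i _).2 (Subobject.factors_self _))) ≫ ((step (seq K n)).G i).arrow
    exact ((Category.assoc _ _ _).trans ((congrArg (_ ≫ ·) (Subobject.factorThru_arrow _ _ _)).trans
      ((Category.assoc _ _ _).symm.trans ((congrArg (· ≫ _) (Subobject.factorThru_arrow _ _ _)).trans hy)))).symm

/-- The inclusion of a filtration step. -/
def incl (i : ℤ) : (part K i).cx ⟶ (total K).cx where
  f n := ((step (seq K n)).G i).arrow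
  comm' n m h := by
    obtain rfl : n + 1 = m := h
    rw [Splice.cx_d, Splice.cx_d]
    refine Eq.symm ((Category.assoc _ _ _).trans ((congrArg (_ ≫ ·) (Subobject.factorThru_arrow _ _
      (((step (seq K (n + 1))).factors i _).2 (Subobject.factors_self _)))).trans ((Category.assoc _ _ _).symm.trans
      ((congrArg (· ≫ _) (imageSubobject_arrow_comp (((step (seq K n)).G i).arrow ≫ cokernel.π (step (seq K n)).ι))).trans (Category.assoc _ _ _)))))

instance mono_incl (i : ℤ) : Mono (incl K i) := by
  haveI : ∀ n, Mono ((incl K i).f n) := fun n => inferInstanceAs (Mono ((step (seq K n)).G i).arrow)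
  exact HomologicalComplex.mono_of_mono_f (incl K i) inferInstance

/-- Let C be an abelian category in which every object embeds in an injective object, and let A be an
object of C with a finite decreasing filtration (F^i A). Then there are an injective resolution X of
A and a decreasing filtration of X by subcomplexes F^i X such that F^i X = X when F^i A = A, F^i X =
0 when F^i A = 0, and, for every i, F^i X is a complex of injective objects into which F^i A (placed
in degree 0) maps, compatibly with the augmentation A ⟶ X, by a quasi-isomorphism; thus F^i X is an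
injective resolution of F^i A. -/
theorem result {C : Type u} [Category.{v} C] [Abelian C] [EnoughInjectives C]
    (K : SpSeq.FilObj C) (hK : K.IsFinite) :
    ∃ (X : InjectiveResolution K.obj) (G : ℤ → Subobject X.cocomplex), Antitone G ∧
      (∀ i : ℤ, K.fil i = ⊤ → G i = ⊤) ∧ (∀ i : ℤ, K.fil i = ⊥ → G i = ⊥) ∧
      ∀ i : ℤ, (∀ j : ℕ, Injective ((G i : CochainComplex C ℕ).X j)) ∧
        ∃ ι : (CochainComplex.single₀ C).obj (K.step i) ⟶ (G i : CochainComplex C ℕ),
          ι ≫ (G i).arrow = (CochainComplex.single₀ C).map (K.fil i).arrow ≫ X.ι ∧ QuasiIso ι := by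
  let K' : {K : SpSeq.FilObj C // K.IsFinite} := ⟨K, hK⟩
  have hinj : ∀ n, Injective ((total K').cx.X n) := fun n => (step (seq K' n)).inj
  have htop : ∀ i n, K.fil i = ⊤ → (seq K' n).1.fil i = ⊤ := fun i n hi => by
    induction n with
    | zero => exact hi
    | succ n ih => exact next_top _ i ih
  have hbot : ∀ i n, K.fil i = ⊥ → (seq K' n).1.fil i = ⊥ := fun i n hi => by
    induction n with
    | zero => exact hi
    | succ n ih => exact next_bot _ i ih
  haveI := (total K').quasiIso_aug
  refine ⟨{ cocomplex := (total K').cx, injective := hinj, ι := (total K').aug, quasiIso := (total K').quasiIso_aug }, fun i => Subobject.mk (incl K' i),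
    fun i j hij => ?_, fun i hi => ?_, fun i hi => ?_, fun i => ⟨fun n => ?_, ?_⟩⟩
  · refine Subobject.mk_le_mk_of_comm
      { f := fun n => Subobject.ofLE _ _ ((step (seq K' n)).anti hij)
        comm' := fun n m h => ?_ } ?_
    · haveI : Mono ((incl K' i).f m) := inferInstanceAs (Mono ((step (seq K' m)).G i).arrow)
      have e : ∀ n, Subobject.ofLE _ _ ((step (seq K' n)).anti hij) ≫ (incl K' i).f n = (incl K' j).f n :=
        fun n => Subobject.ofLE_arrow _
      refine (cancel_mono ((incl K' i).f m)).1 ?_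
      exact (Category.assoc _ _ _).trans ((congrArg (_ ≫ ·) ((incl K' i).comm n m).symm).trans
        ((Category.assoc _ _ _).symm.trans ((congrArg (· ≫ _) (e n)).trans (((incl K' j).comm n m).trans
        ((congrArg (_ ≫ ·) (e m).symm).trans (Category.assoc _ _ _).symm)))))
    · exact HomologicalComplex.hom_ext _ _ fun n => Subobject.ofLE_arrow _
  · haveI : ∀ n, IsIso ((incl K' i).f n) := fun n =>
      (Subobject.isIso_arrow_iff_eq_top _).2 ((step (seq K' n)).top i (htop i n hi))
    haveI : IsIso (incl K' i) := HomologicalComplex.Hom.isIso_of_components _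
    exact (Subobject.isIso_iff_mk_eq_top _).1 inferInstance
  · refine Subobject.mk_eq_bot_iff_zero.2 (HomologicalComplex.hom_ext _ _ fun n => ?_)
    show ((step (seq K' n)).G i).arrow = 0
    have e : ∀ P : Subobject (step (seq K' n)).X, P = ⊥ → P.arrow = 0 := by rintro _ rfl; exact Subobject.bot_arrow
    exact e _ ((step (seq K' n)).bot i (hbot i n hi))
  · exact Injective.of_iso ((HomologicalComplex.eval C _ n).mapIso (Subobject.underlyingIso (incl K' i)).symm)
      ((step (seq K' n)).injG i)
  · haveI := (part K' i).quasiIso_aug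
    haveI : IsIso (Subobject.underlyingIso (incl K' i)).inv := inferInstance
    refine ⟨(part K' i).aug ≫ (Subobject.underlyingIso (incl K' i)).inv, ?_,
      (quasiIso_iff_comp_right (part K' i).aug (Subobject.underlyingIso (incl K' i)).inv).2 inferInstance⟩
    refine (Category.assoc _ _ _).trans ((congrArg (_ ≫ ·) (Subobject.underlyingIso_arrow _)).trans ?_)
    apply HomologicalComplex.from_single_hom_ext
    show (part K' i).aug.f 0 ≫ (incl K' i).f 0 = ((CochainComplex.single₀ C).map (K.fil i).arrow).f 0 ≫ (total K').aug.f 0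
    refine (congrArg (· ≫ _) (part K' i).aug_f).trans ?_
    refine Eq.trans ?_ (congrArg (_ ≫ ·) (total K').aug_f).symm
    refine (Subobject.factorThru_arrow _ _ (((step (seq K' 0)).factors i _).2 (Subobject.factors_self _))).trans ?_
    show (K.fil i).arrow ≫ (step K').ι = ((CochainComplex.single₀ C).map (K.fil i).arrow).f 0 ≫ (step K').ι
    rw [CochainComplex.single₀_map_f_zero]
    rfl

end

end Groth.Agent.S8350
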