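import Groth.Agent.H30.DHom.Retract
import Groth.Agent.Lib.DerCat.RFObj
import Groth.Statements.S8351
-- import your own Groth.Agent.* helpers here

set_option autoImplicit false
universe u
open CategoryTheory CategoryTheory.Limits TopologicalSpace
open CohCx

namespace Groth.Agent.S8351

/-- For abelian sheaves on topological spaces and a complex bounded below. Let f : X ⟶ Y be a continuous
map and K a bounded below complex of abelian sheaves on X. For every p, the p-th cohomology sheaf of
the derived direct image R f_*(K) (bounded below right derived functor of f_*, computed with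
injective resolutions) is isomorphic to the sheaf associated with the presheaf U ↦ H^p(f⁻¹(U), K) on
Y, where H^p(V, K) denotes hypercohomology (morphisms from the free abelian sheaf on V to K[p] in
the derived category). (The published statement is for modules over arbitrary ringed spaces,
complexes unbounded via Cartan-Eilenberg resolutions, and a canonical isomorphism; here only the
existence of an isomorphism is asserted, and the derived categories are assumed to exist with
morphism types in the universe of X and Y.) -/
theorem result {X Y : TopCat.{u}} (f : X ⟶ Y)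
    [HasDerivedCategory.{u} (CohTop.Ab X)] [HasDerivedCategory.{u} (CohTop.Ab Y)]
    (K : CochainComplex.Plus (CohTop.Ab X)) (p : ℤ) :
    Nonempty ((DerivedCategory.Plus.homologyFunctor (CohTop.Ab Y) p).obj
        ((CohTop.push f).rightDerivedFunctorPlus.obj
          (DerivedCategory.Plus.Qh.obj ((HomotopyCategory.Plus.quotient (CohTop.Ab X)).obj K))) ≅
      (presheafToSheaf (Opens.grothendieckTopology Y) AddCommGrpCat.{u}).obj
        ((Opens.map f).op ⋙ CohCx.HDUPresheaf (DerivedCategory.Q.obj K.obj) p)) := by
  obtain ⟨M, ⟨i⟩⟩ := (inferInstance : ((InjectiveObject.ι (CohTop.Ab X)).mapHomotopyCategoryPlus ⋙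
    DerivedCategory.Plus.Qh).EssSurj).mem_essImage
      (DerivedCategory.Plus.Qh.obj ((HomotopyCategory.Plus.quotient (CohTop.Ab X)).obj K))
  obtain ⟨L, rfl⟩ := HomotopyCategory.Plus.quotient_obj_surjective M
  let I : CochainComplex (CohTop.Ab X) ℤ :=
    ((InjectiveObject.ι (CohTop.Ab X)).mapHomologicalComplex (.up ℤ)).obj L.obj
  haveI hI : I.IsKInjective :=
    inferInstanceAs (CochainComplex.IsKInjective
      (((InjectiveObject.ι (CohTop.Ab X)).mapHomologicalComplex (.up ℤ)).obj L.obj))
  let eQ : DerivedCategory.Q.obj I ≅ DerivedCategory.Q.obj K.obj :=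
    ((DerivedCategory.quotientCompQhIso _).app I).symm ≪≫ DerivedCategory.Plus.ι.mapIso i ≪≫
      (DerivedCategory.quotientCompQhIso _).app K.obj
  let J (n : ℤ) := ((CohTop.push f).mapHomologicalComplex (ComplexShape.up ℤ)).obj (I⟦n⟧)
  let J0 := ((CohTop.push f).mapHomologicalComplex (ComplexShape.up ℤ)).obj I
  have h₁ : IsIso ((CohTop.push f).rightDerivedFunctorPlusUnit.app
      ((InjectiveObject.ι (CohTop.Ab X)).mapHomotopyCategoryPlus.obj
        ((HomotopyCategory.Plus.quotient _).obj L))) := inferInstance
  let e₁ : (DerivedCategory.Plus.homologyFunctor (CohTop.Ab Y) p).obj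
        ((CohTop.push f).rightDerivedFunctorPlus.obj
          (DerivedCategory.Plus.Qh.obj ((HomotopyCategory.Plus.quotient (CohTop.Ab X)).obj K))) ≅
      J0.homology p :=
    (DerivedCategory.Plus.homologyFunctor (CohTop.Ab Y) p).mapIso
        ((CohTop.push f).rightDerivedFunctorPlus.mapIso i.symm ≪≫ (@asIso _ _ _ _ _ h₁).symm) ≪≫
      ((DerivedCategory.homologyFunctor _ p).mapIso
          ((DerivedCategory.quotientCompQhIso _).app J0) ≪≫
        (DerivedCategory.homologyFunctorFactors _ p).app J0 : _)
  let eH : (J p).homology 0 ≅ J0.homology p :=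
    (HomologicalComplex.homologyFunctor _ _ 0).mapIso
        ((((CohTop.push f).mapHomologicalComplex (ComplexShape.up ℤ)).commShiftIso p).app I) ≪≫
      (CochainComplex.ShiftSequence.shiftIso _ p 0 p (add_zero p)).app J0
  let eP : (H30.DHom.secCx (J p)).homology 0 ≅
      (Opens.map f).op ⋙ CohCx.HDUPresheaf (DerivedCategory.Q.obj K.obj) p :=
    H30.DHom.pushHomologyIso f (I⟦p⟧) 0 ≪≫ Functor.isoWhiskerLeft _
      (H30.DHom.iso (I⟦p⟧) ≪≫ Functor.isoWhiskerLeft _ (preadditiveYoneda.mapIso
        ((DerivedCategory.Q.commShiftIso p).app I ≪≫ (shiftFunctor _ p).mapIso eQ)))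
  let S := sheafificationAdjunction (Opens.grothendieckTopology Y) AddCommGrpCat.{u}
  let eI : ((presheafToSheaf (Opens.grothendieckTopology Y) AddCommGrpCat.{u}).mapHomologicalComplex
      (.up ℤ)).obj (H30.DHom.secCx (J p)) ≅ J p :=
    HomologicalComplex.Hom.isoOfComponents (fun n => (asIso S.counit).app ((J p).X n))
      (fun i j _ => (S.counit.naturality ((J p).d i j)).symm)
  exact ⟨e₁ ≪≫ eH.symm ≪≫ ((HomologicalComplex.homologyFunctor _ _ 0).mapIso eI).symm ≪≫
    ((H30.DHom.secCx (J p)).sc 0).mapHomologyIso (presheafToSheaf _ AddCommGrpCat.{u}) ≪≫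
    (presheafToSheaf _ AddCommGrpCat.{u}).mapIso eP⟩

end Groth.Agent.S8351
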