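import Groth.Statements.S8353
import Groth.Agent.Lib.FiltMod.Complete


set_option autoImplicit false
universe u
open HomAlg3

namespace Groth.Agent.S8353

/-- Let S be a Noetherian ring which is separated and complete for the adic topology of an ideal J, and
let M be an S-module with a decreasing filtration (F^p M)_{p ∈ ℤ} by submodules such that F^p M = M
for some p, J·F^p M ⊆ F^{p+1} M for all p, and ⋂_p F^p M = 0. Then the following are equivalent: (a)
M is a finitely generated S-module and J·F^p M = F^{p+1} M for all large p; (c) every F^p M /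
F^{p+1} M is a finitely generated S-module and, for all large p, the map J ⊗ (F^p M/F^{p+1} M) ⟶
F^{p+1} M/F^{p+2} M is surjective, that is F^{p+1} M = J·F^p M + F^{p+2} M. (The published statement
also lists a third equivalent condition, finite generation of the associated graded module over the
associated graded ring; this row states the equivalence of the other two.) -/
theorem result {S : Type u} [CommRing S] [IsNoetherianRing S]
    (J : Ideal S) [IsAdicComplete J S] {M : Type u} [AddCommGroup M] [Module S M]
    (F : ℤ → Submodule S M) (hF : Antitone F) (hcod : ∃ p₀ : ℤ, F p₀ = ⊤)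
    (hJ : ∀ p : ℤ, J • F p ≤ F (p + 1)) (hsep : ⨅ p : ℤ, F p = ⊥) :
    (Module.Finite S M ∧ ∃ p₁ : ℤ, ∀ p : ℤ, p₁ ≤ p → J • F p = F (p + 1)) ↔
      ((∀ p : ℤ, (Submodule.map (F (p + 1)).mkQ (F p)).FG) ∧
        ∃ p₁ : ℤ, ∀ p : ℤ, p₁ ≤ p → F (p + 1) = J • F p ⊔ F (p + 2)) := by
  exact Groth.Agent.Lib.FiltMod.Complete.main F hF hcod hJ hsep

end Groth.Agent.S8353
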