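import Groth.Statements.S8356
import Groth.Agent.Lib.LieS.Bracket
-- import your own Groth.Agent.* helpers here

set_option autoImplicit false
universe u
open CategoryTheory MonObj AlgebraicGeometry
open LieS

namespace Groth.Agent.S8356

/-- For a group scheme G over a scheme S and an affine S-scheme T = Spec B, the group Lie(G/S)(T) of
points of G with values in the dual numbers over T that restrict to the unit along the zero section,
with the group law of G and the rescaling action of B, is the additive group of a Lie algebra over
B: there are a Lie algebra L over B and a multiplicative isomorphism from L onto Lie(G/S)(T)
carrying the scalar multiplication of L to the rescaling action and the bracket of L to the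
infinitesimal commutator on the iterated dual numbers. In particular the group law of Lie(G/S)(T) is
commutative, the rescaling action makes it a B-module, and the bracket so defined is B-bilinear,
alternating and satisfies the Jacobi identity. -/
theorem result (S : Scheme.{u}) (G : Over S) [GrpObj G] (B : Type u) [CommRing B]
    (f : Spec (CommRingCat.of B) ⟶ S) :
    ∃ (L : Type u) (_ : LieRing L) (_ : LieAlgebra B L), Nonempty (LieS.Model G B f L) := by
  exact Groth.Agent.Lib.LieS.Bracket.exists_model

end Groth.Agent.S8356
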