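import Groth.Statements.S8357
import Groth.Agent.Lib.LieS.Bracket
-- import your own Groth.Agent.* helpers here

set_option autoImplicit false
universe u
open CategoryTheory MonObj AlgebraicGeometry
open LieS

namespace Groth.Agent.S8357

open Groth.Agent.Lib.LieS.Bracket

/-- For a group scheme G over a scheme S and an affine S-scheme T = Spec B, the map induced on
Lie(G/S)(T) by the n-th power map of G is multiplication by n; that is, for v in Lie(G/S)(T) and an
integer n, the n-th power of v in the group law inherited from G is the rescaling of v by the image
of n in B. -/
theorem result (S : Scheme.{u}) (G : Over S) [GrpObj G] (B : Type u) [CommRing B]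
    (f : Spec (CommRingCat.of B) ⟶ S) (v : LieS.Lie G B f) (n : ℤ) :
    v ^ n = ((n : B) • v : LieS.Lie G B f) := by
  let φ : Multiplicative B →* LieS.Lie G B f :=
    { toFun := fun b => Multiplicative.toAdd b • v
      map_one' := zero_smul' v
      map_mul' := fun b b' => add_smul' (Multiplicative.toAdd b) (Multiplicative.toAdd b') v }
  have h1 : φ (Multiplicative.ofAdd 1) = v := one_smul' v
  have h := map_zpow φ (Multiplicative.ofAdd (1 : B)) n
  rw [h1, ← ofAdd_zsmul, zsmul_one] at h
  exact h.symm

end Groth.Agent.S8357
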