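import Groth.Statements.S8358
import Groth.Prelude.Def_LieS
import Groth.Prelude.Def_Red
import Mathlib.RingTheory.HopfAlgebra.Convolution
-- import your own Groth.Agent.* helpers here

set_option autoImplicit false
universe u
open CategoryTheory MonObj AlgebraicGeometry
open LieS

namespace Groth.Agent.S8358

open MonoidalCategory CartesianMonoidalCategory GrpObj WithConv

variable (R : Type u) [CommRing R] (M : Type) [AddCommGroup M] (B : Type u) [CommRing B]
  [Algebra R B]

/-- Dual-number points of `D(M)` as algebra homomorphisms. -/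
noncomputable def ptsEquiv :
    (LieS.dpt B (Spec.map (CommRingCat.ofHom (algebraMap R B))) ⟶ Red.diag R M) ≃*
      WithConv (MonoidAlgebra R (Multiplicative M) →ₐ[R] DualNumber B) :=
  MulEquiv.trans
    { toFun := fun v => (LieS.dptIso B).inv ≫ v
      invFun := fun v => (LieS.dptIso B).hom ≫ v
      left_inv := fun v => by simp
      right_inv := fun v => by simp
      map_mul' := fun v w => MonObj.comp_mul _ _ _ }
    Spec.mapMulEquiv.symm

theorem ptsEquiv_left (φ : WithConv (MonoidAlgebra R (Multiplicative M) →ₐ[R] DualNumber B)) :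
    ((ptsEquiv R M B).symm φ).left = Spec.map (CommRingCat.ofHom φ.ofConv.toRingHom) := by
  change (LieS.dptIso (R := R) B).hom.left ≫ _ = _
  exact Category.id_comp _

/-- The group of `M`-indexed units congruent to one. -/
theorem mem_iff (v : LieS.dpt B (Spec.map (CommRingCat.ofHom (algebraMap R B))) ⟶ Red.diag R M) :
    v ∈ LieS.Lie (Red.diag R M) B (Spec.map (CommRingCat.ofHom (algebraMap R B))) ↔
      ∀ m : M, ((ptsEquiv R M B v).ofConv
        (MonoidAlgebra.single (Multiplicative.ofAdd m) 1)).fst = 1 := by
  obtain ⟨φ, rfl⟩ := (ptsEquiv R M B).symm.surjective v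
  rw [MulEquiv.apply_symm_apply, LieS.mem_Lie_iff]
  constructor
  · intro h m
    have h1 := congrArg Over.Hom.left h
    change Spec.map _ ≫ ((ptsEquiv R M B).symm φ).left =
      Spec.map _ ≫ η[Red.diag R M].left at h1
    rw [ptsEquiv_left, one_spec_asOver_spec_left] at h1
    have h1' := (LieS.specMap_comp _ _).symm.trans (h1.trans (LieS.specMap_comp _ _))
    have h2 := congrArg (fun g : CommRingCat.of (MonoidAlgebra R (Multiplicative M)) ⟶
      CommRingCat.of B => g.hom (MonoidAlgebra.single (Multiplicative.ofAdd m) 1))
      (Spec.map_injective h1')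
    simpa using h2
  · intro h
    apply Over.OverMorphism.ext
    change Spec.map _ ≫ ((ptsEquiv R M B).symm φ).left = Spec.map _ ≫ η[Red.diag R M].left
    rw [ptsEquiv_left, one_spec_asOver_spec_left]
    have e : ((TrivSqZeroExt.fstHom R B B).comp φ.ofConv) =
        (Algebra.ofId R B).comp (Bialgebra.counitAlgHom R _) := by
      apply MonoidAlgebra.algHom_ext
      · intro m
        simpa using h (Multiplicative.toAdd m)
      · ext
    exact (LieS.specMap_comp _ _).trans
      ((congrArg (fun g => Spec.map (CommRingCat.ofHom (AlgHom.toRingHom g))) e).trans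
        (LieS.specMap_comp _ _).symm)

theorem apply_mul (φ ψ : WithConv (MonoidAlgebra R (Multiplicative M) →ₐ[R] DualNumber B)) (m : M) :
    (φ * ψ).ofConv (MonoidAlgebra.single (Multiplicative.ofAdd m) 1) =
      φ.ofConv (MonoidAlgebra.single (Multiplicative.ofAdd m) 1) *
        ψ.ofConv (MonoidAlgebra.single (Multiplicative.ofAdd m) 1) := by
  simp [AlgHom.convMul_def]

theorem ptsEquiv_scale (b : B)
    (v : LieS.dpt B (Spec.map (CommRingCat.ofHom (algebraMap R B))) ⟶ Red.diag R M)
    (a : MonoidAlgebra R (Multiplicative M)) :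
    (ptsEquiv R M B (LieS.scale B _ b ≫ v)).ofConv a =
      LieS.scaleHom b ((ptsEquiv R M B v).ofConv a) := by
  obtain ⟨φ, rfl⟩ := (ptsEquiv R M B).symm.surjective v
  obtain ⟨ψ, hψ⟩ := (ptsEquiv R M B).symm.surjective (LieS.scale B _ b ≫ (ptsEquiv R M B).symm φ)
  rw [← hψ, MulEquiv.apply_symm_apply, MulEquiv.apply_symm_apply]
  have h1 := congrArg Over.Hom.left hψ
  rw [Over.comp_left, ptsEquiv_left, ptsEquiv_left] at h1
  change _ = Spec.map _ ≫ Spec.map _ at h1
  rw [LieS.specMap_comp] at h1
  exact RingHom.congr_fun (congrArg CommRingCat.Hom.hom (Spec.map_injective h1)) a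

/-- `m ↦ 1 + a(m) ε`. -/
def unitHom (a : M →+ B) : Multiplicative M →* DualNumber B where
  toFun m := TrivSqZeroExt.inl 1 + TrivSqZeroExt.inr (a (Multiplicative.toAdd m))
  map_one' := by ext <;> simp
  map_mul' m n := by ext <;> simp [add_comm]

/-- First isomorphism: over an affine base: for a commutative ring R, a commutative group M, the
diagonalisable group D(M) = Spec R[M] over Spec R and a commutative R-algebra B, the group
Lie(D(M))(Spec B) is identified with the additive group Hom(M, B) of group homomorphisms: there is a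
multiplicative isomorphism which sends a point v of D(M) with values in B[ε], read as an R-algebra
homomorphism from R[M] to B[ε], to the homomorphism m ↦ (ε-coefficient of the image of m), and which
carries the rescaling action of b in B to multiplication of homomorphisms by b. -/
theorem result (R : Type u) [CommRing R] (M : Type) [AddCommGroup M]
    (B : Type u) [CommRing B] [Algebra R B] :
    ∃ e : LieS.LieR (Red.diag R M) B ≃* Multiplicative (M →+ B),
      (∀ (v : LieS.LieR (Red.diag R M) B) (m : M),
        Multiplicative.toAdd (e v) m =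
          TrivSqZeroExt.snd (((Spec.mapMulEquiv.symm ((LieS.dptIso B).inv ≫ v.1)).ofConv :
            MonoidAlgebra R (Multiplicative M) →ₐ[R] DualNumber B)
            (MonoidAlgebra.single (Multiplicative.ofAdd m) 1))) ∧
      ∀ (b : B) (v : LieS.LieR (Red.diag R M) B),
        e (b • v) = Multiplicative.ofAdd (b • Multiplicative.toAdd (e v)) := by
  let Φ := ptsEquiv R M B
  let s : M → MonoidAlgebra R (Multiplicative M) :=
    fun m => MonoidAlgebra.single (Multiplicative.ofAdd m) 1
  have hadd : ∀ (φ : WithConv (MonoidAlgebra R (Multiplicative M) →ₐ[R] DualNumber B)) (m n : M),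
      φ.ofConv (s (m + n)) = φ.ofConv (s m) * φ.ofConv (s n) := fun φ m n => by
    rw [← map_mul, MonoidAlgebra.single_mul_single, _root_.one_mul]; rfl
  have h0 : ∀ φ : WithConv (MonoidAlgebra R (Multiplicative M) →ₐ[R] DualNumber B),
      φ.ofConv (s 0) = 1 := fun φ => by
    show φ.ofConv (MonoidAlgebra.single 1 1) = 1
    rw [← MonoidAlgebra.one_def, map_one]
  let fwd (v : LieS.LieR (Red.diag R M) B) : M →+ B :=
    { toFun := fun m => ((Φ v.1).ofConv (s m)).snd
      map_zero' := by rw [h0]; rfl
      map_add' := fun m n => by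
        rw [hadd, DualNumber.snd_mul, (mem_iff R M B v.1).1 v.2 m, (mem_iff R M B v.1).1 v.2 n]
        ring }
  let bwd (a : M →+ B) : LieS.LieR (Red.diag R M) B :=
    ⟨Φ.symm (toConv (MonoidAlgebra.lift R (DualNumber B) (Multiplicative M) (unitHom M B a))),
      (mem_iff R M B _).2 fun m => by simp [Φ, unitHom]⟩
  let e : LieS.LieR (Red.diag R M) B ≃* Multiplicative (M →+ B) :=
    { toFun := fun v => Multiplicative.ofAdd (fwd v)
      invFun := fun a => bwd (Multiplicative.toAdd a)
      left_inv := fun v => by
        apply Subtype.ext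
        apply Φ.injective
        rw [MulEquiv.apply_symm_apply]
        apply WithConv.ofConv_injective
        apply MonoidAlgebra.algHom_ext
        · intro m
          ext
          · simpa [unitHom] using ((mem_iff R M B v.1).1 v.2 (Multiplicative.toAdd m)).symm
          · simp [unitHom, fwd, s]
        · ext
      right_inv := fun a => by
        refine congrArg Multiplicative.ofAdd (AddMonoidHom.ext fun m => ?_)
        simp [fwd, bwd, s, Φ, unitHom]
        rfl
      map_mul' := fun v w => by
        refine congrArg Multiplicative.ofAdd (AddMonoidHom.ext fun m => ?_)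
        show ((Φ (v.1 * w.1)).ofConv (s m)).snd = fwd v m + fwd w m
        rw [map_mul, apply_mul, DualNumber.snd_mul, (mem_iff R M B v.1).1 v.2 m,
          (mem_iff R M B w.1).1 w.2 m]
        simp only [_root_.one_mul, _root_.mul_one, fwd, s, AddMonoidHom.coe_mk, ZeroHom.coe_mk]
        ring }
  refine ⟨e, fun v m => rfl, fun b v => ?_⟩
  refine congrArg Multiplicative.ofAdd (AddMonoidHom.ext fun m => ?_)
  show ((Φ (LieS.scale B _ b ≫ v.1)).ofConv (s m)).snd = b * ((Φ v.1).ofConv (s m)).snd
  rw [ptsEquiv_scale]
  simp [LieS.scaleHom, TrivSqZeroExt.algebraMap_eq_inl']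
  ring

end Groth.Agent.S8358
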