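import Groth.Statements.S8359
import Groth.Agent.H23.DiagRigid

set_option autoImplicit false
universe u
open CategoryTheory MonObj AlgebraicGeometry
open Red

namespace Groth.Agent.S8359

open Groth.Agent.H23.DiagRigid



/-- Over an affine base S = Spec R with S₀ = Spec (R/I) for a nilpotent ideal I: for a commutative group
M, the diagonalisable group D(M) = Spec R[M] over S, a group scheme X locally of finite presentation
over S and a homomorphism f from D(M) to X, if the base change of f to S₀ is the unit homomorphism
then f is the unit homomorphism. (The published statement is over an arbitrary base scheme with S₀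
defined by a nilpotent quasi-coherent ideal; this row is its case of an affine base.) -/
theorem result (R : Type u) [CommRing R] (I : Ideal R) (hI : IsNilpotent I)
    (M : Type) [AddCommGroup M] (X : Over (Spec (CommRingCat.of R))) [GrpObj X]
    [LocallyOfFinitePresentation X.hom] (f : Red.diag R M ⟶ X) [IsMonHom f]
    (h : (Over.pullback (Spec.map (CommRingCat.ofHom (Ideal.Quotient.mk I)))).map f = 1) :
    f = 1 := by
  -- triviality over R / I
  have h0 : Triv (R ⧸ I) f := by
    let qI := Spec.map (CommRingCat.ofHom (Ideal.Quotient.mk I))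
    let π := pt R M (chiR R M (R ⧸ I))
    let P := MonoidAlgebra (R ⧸ I) (Multiplicative M)
    let wst : (sp R P).left ⟶ Spec (CommRingCat.of (R ⧸ I)) :=
      Spec.map (CommRingCat.ofHom (algebraMap (R ⧸ I) P))
    have hw : wst ≫ qI = (sp R P).hom := by
      change Spec.map _ ≫ Spec.map _ = Spec.map _
      rw [← Spec.map_comp, ← CommRingCat.ofHom_comp]
    let W : Over (Spec (CommRingCat.of (R ⧸ I))) := Over.mk wst
    let lift : W ⟶ (Over.pullback qI).obj (Red.diag R M) :=
      Over.homMk (Limits.pullback.lift π.left wst (by rw [hw]; exact Over.w π))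
        (Limits.pullback.lift_snd _ _ _)
    have h' := congrArg (fun z => lift ≫ z) h
    simp only [MonObj.comp_one] at h'
    have h'' := congrArg (fun z : W ⟶ (Over.pullback qI).obj X =>
      z.left ≫ Limits.pullback.fst X.hom qI) h'
    have lhs : (lift ≫ (Over.pullback qI).map f).left ≫ Limits.pullback.fst X.hom qI =
        (π ≫ f).left := by
      simp [lift]
      erw [Limits.pullback.lift_fst, Limits.pullback.lift_fst_assoc]
    have rhs : (1 : W ⟶ (Over.pullback qI).obj X).left ≫ Limits.pullback.fst X.hom qI =
        (1 : sp R P ⟶ X).left := by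
      rw [one_left, one_left]
      simp [W]
      have e : inv (Limits.pullback.snd (𝟙 (Spec (CommRingCat.of R))) qI) ≫
          Limits.pullback.fst (𝟙 (Spec (CommRingCat.of R))) qI = qI := by
        rw [IsIso.inv_comp_eq, ← Limits.pullback.condition, Category.comp_id]
      erw [Limits.pullback.lift_fst, reassoc_of% e, ← Category.assoc, hw]
      rfl
    exact Over.OverMorphism.ext (lhs.symm.trans (h''.trans rhs))
  -- induction on nilpotency
  obtain ⟨N, hN⟩ := hI
  have hstep : ∀ k : ℕ, Triv (R ⧸ I ^ (2 ^ k)) f := by
    intro k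
    induction k with
    | zero =>
      exact h0.map _ f (Ideal.Quotient.factorₐ R (by simp))
    | succ k ih =>
      have hle : I ^ (2 ^ (k + 1)) ≤ I ^ (2 ^ k) :=
        Ideal.pow_le_pow_right (Nat.pow_le_pow_right (by norm_num) k.le_succ)
      refine triv_of_sq (R ⧸ I ^ (2 ^ (k + 1))) f (Ideal.Quotient.factorₐ R hle)
        (Ideal.Quotient.factor_surjective hle) (fun x y hx hy => ?_) ih
      obtain ⟨x, rfl⟩ := Ideal.Quotient.mk_surjective x
      obtain ⟨y, rfl⟩ := Ideal.Quotient.mk_surjective y
      have hx' : x ∈ I ^ (2 ^ k) := Ideal.Quotient.eq_zero_iff_mem.1 hx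
      have hy' : y ∈ I ^ (2 ^ k) := Ideal.Quotient.eq_zero_iff_mem.1 hy
      rw [← map_mul, Ideal.Quotient.eq_zero_iff_mem, pow_succ 2 k, mul_two, pow_add]
      exact Ideal.mul_mem_mul hx' hy'
  have hbot : I ^ (2 ^ N) = ⊥ := by
    rw [eq_bot_iff]
    calc I ^ (2 ^ N) ≤ I ^ N := Ideal.pow_le_pow_right (Nat.lt_two_pow_self).le
      _ = ⊥ := hN
  have hR : Triv R f := (hstep N).map _ f
    (((Ideal.quotientEquivAlgOfEq R hbot).trans (AlgEquiv.quotientBot R R)).toAlgHom)
  have hid : pt R M (chiR R M R) = 𝟙 (Red.diag R M) := by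
    have : chiR R M R = AlgHom.id R _ := MonoidAlgebra.algHom_ext (fun m => by simp [chiR]) (by ext)
    apply Over.OverMorphism.ext
    rw [pt_left, this]
    exact Spec.map_id _
  rw [Triv, hid, Category.id_comp] at hR
  exact hR

end Groth.Agent.S8359
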