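import Groth.Statements.S8360
import Groth.Agent.H87.MultLift

set_option autoImplicit false
universe u
open CategoryTheory MonObj AlgebraicGeometry
open Red

namespace Groth.Agent.S8360

/-- Over the affine base S = Spec R with S₀ = Spec (R/I) for a nilpotent ideal I, for a commutative
group M, the diagonalisable group D(M) = Spec R[M] over S and a group scheme X smooth over S, every
homomorphism of S₀-group schemes from D(M) ×_S S₀ to X ×_S S₀ is the base change of a homomorphism
of S-group schemes from D(M) to X. -/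
theorem result (R : Type u) [CommRing R] (I : Ideal R)
    (hI : IsNilpotent I) (M : Type) [AddCommGroup M] (X : Over (Spec (CommRingCat.of R))) [GrpObj X]
    [Smooth X.hom]
    (f₀ : Red.bc (Spec.map (CommRingCat.ofHom (Ideal.Quotient.mk I))) (Red.diag R M) ⟶ Red.bc (Spec.map (CommRingCat.ofHom (Ideal.Quotient.mk I))) X) [IsMonHom f₀] :
    ∃ f : Red.diag R M ⟶ X, IsMonHom f ∧ (Over.pullback (Spec.map (CommRingCat.ofHom (Ideal.Quotient.mk I)))).map f = f₀ := by
  refine Groth.Agent.H87.Bridge.exists_hom_lift hI ⟨Spec (CommRingCat.of R), 𝟙 _, inferInstance, inferInstance,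
    fun V hV => ⟨V, hV.isCompact, Set.image_id _⟩, fun s => ⟨⊤, trivial, M, inferInstance, ?_⟩⟩ f₀
  haveI : IsMonHom (Iso.refl (Red.diag R M)).hom := inferInstanceAs (IsMonHom (𝟙 (Red.diag R M)))
  obtain ⟨ε⟩ := Groth.Agent.H87.Bridge.exists_schemeIso (L := R) (A := MonoidAlgebra R (Multiplicative M))
    (T := Red.diag R M) (Iso.refl (Red.diag R M)) (M := M)
    ((Bialgebra.TensorProduct.lid R _).trans (MonoidAlgebra.domCongrBialgEquiv _ _ MulEquiv.ulift.symm))
  have e0 : (⊤ : (Spec (CommRingCat.of R)).Opens).ι ≫ 𝟙 (Spec (CommRingCat.of R)) =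
      (Spec (CommRingCat.of R)).topIso.hom ≫ Groth.Agent.H87.Bridge.sp R R := by
    rw [show Groth.Agent.H87.Bridge.sp R R = 𝟙 _ from Spec.map_id _]
    rfl
  exact ⟨Groth.Agent.Lib.Tori.BaseChange.bcCongr e0 _ ≪≫ Groth.Agent.H87.Charts.resChart ε _⟩

end Groth.Agent.S8360
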