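import Groth.Statements.S8362
import Mathlib.AlgebraicGeometry.Morphisms.UnderlyingMap
import Mathlib.AlgebraicGeometry.Morphisms.IsIso
import Mathlib.AlgebraicGeometry.PullbackCarrier

set_option autoImplicit false
universe u
open CategoryTheory AlgebraicGeometry
open SGA3

namespace Groth.Agent.S8362

open CategoryTheory.Limits

/-- An endomorphism of a ring `A` fixing the image of `J`, inducing the identity modulo `JA`, with
`J² = 0`, is bijective. -/
theorem bijective_of_mk {R : Type u} [CommRing R] (J : Ideal R) (hJ : J * J = ⊥) {A : Type u}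
    [CommRing A] (ρ : R →+* A) (φ : A →+* A) (hφ : ∀ r, φ (ρ r) = ρ r)
    (h : ∀ a, φ a - a ∈ J.map ρ) : Function.Bijective φ := by
  have hsq : ∀ a ∈ J.map ρ, ∀ b ∈ J.map ρ, a * b = 0 := fun a ha b hb => by
    have := Ideal.mul_mem_mul ha hb
    rw [← Ideal.map_mul, hJ, Ideal.map_bot] at this
    exact this
  have hfix : ∀ b ∈ J.map ρ, φ b = b := by
    intro b hb
    induction hb using Submodule.span_induction with
    | mem y hy =>
      obtain ⟨r, -, rfl⟩ := hy
      exact hφ r
    | zero => exact map_zero φ
    | add a b _ _ ha hb => rw [map_add, ha, hb]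
    | smul c a ha' ha =>
      rw [smul_eq_mul, map_mul, ha, ← sub_eq_zero, ← sub_mul]
      exact hsq _ (h c) _ ha'
  refine ⟨(injective_iff_map_eq_zero φ).2 fun a ha => ?_, fun a => ⟨a - (φ a - a), ?_⟩⟩
  · have := h a
    rw [ha, zero_sub, neg_mem_iff] at this
    rw [← hfix a this, ha]
  · rw [map_sub, hfix _ (h a)]
    ring

/-- The affine case. -/
theorem isIso_affine {R : Type u} [CommRing R] (J : Ideal R) (hJ : J * J = ⊥) (A : CommRingCat.{u})
    (s : Spec A ⟶ Spec (CommRingCat.of R)) (v : Spec A ⟶ Spec A) (hv : v ≫ s = s)
    (h : Spec.map (CommRingCat.ofHom (Ideal.Quotient.mk (J.map (Spec.preimage s).hom))) ≫ v =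
      Spec.map (CommRingCat.ofHom (Ideal.Quotient.mk (J.map (Spec.preimage s).hom)))) :
    IsIso v := by
  set ρ := Spec.preimage s with hρ
  obtain ⟨φ, rfl⟩ : ∃ φ, v = Spec.map φ := ⟨Spec.preimage v, (Spec.map_preimage v).symm⟩
  have h1 : ρ ≫ φ = ρ := by
    apply Spec.map_injective
    rw [Spec.map_comp, hρ, Spec.map_preimage, hv]
  rw [← Spec.map_comp] at h
  have h2 := Spec.map_injective h
  have : IsIso φ := by
    rw [ConcreteCategory.isIso_iff_bijective]
    refine bijective_of_mk J hJ ρ.hom φ.hom (fun r => ConcreteCategory.congr_hom h1 r) fun a => ?_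
    exact Ideal.Quotient.eq.1 (ConcreteCategory.congr_hom h2 a)
  infer_instance

/-- Over an affine base S = Spec R with S₀ = Spec (R/J) for an ideal J of square zero: for an arbitrary
S-scheme X, every S-endomorphism of X inducing the identity on X ×_S S₀ is an automorphism. (The
published statement is over an arbitrary base scheme with a quasi-coherent ideal of square zero;
this row is its case of an affine base, to which it reduces since being an isomorphism is local on
the base.) -/
theorem result (R : Type u) [CommRing R] (J : Ideal R) (hJ : J * J = ⊥)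
    (X : Over (Spec (CommRingCat.of R))) (u : X ⟶ X)
    (h : (Over.pullback (Spec.map (CommRingCat.ofHom (Ideal.Quotient.mk J)))).map u = 𝟙 _) :
    IsIso u := by
  let i := Spec.map (CommRingCat.ofHom (Ideal.Quotient.mk J))
  let p : pullback X.hom i ⟶ X.left := pullback.fst X.hom i
  have hp : p ≫ u.left = p := by
    have h' := congrArg CommaMorphism.left h
    have := congrArg (· ≫ p) h'
    simp [p, i] at this
    erw [pullback.lift_fst] at this
    simpa [p, i] using this
  have : Surjective i := ⟨fun q => by
    have hq : J ≤ q.asIdeal := fun x hx => q.isPrime.mem_of_pow_mem 2 (by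
      rw [sq]
      have := Ideal.mul_mem_mul hx hx
      rw [hJ] at this
      rw [(Ideal.mem_bot.1 this)]
      exact zero_mem _)
    have : q ∈ Set.range (PrimeSpectrum.comap (Ideal.Quotient.mk J)) := by
      rw [range_comap_of_surjective _ _ Ideal.Quotient.mk_surjective, Ideal.mk_ker]
      exact hq
    exact this⟩
  have : Surjective p := inferInstanceAs (Surjective (pullback.fst X.hom i))
  have hu : ∀ x : X.left, u.left x = x := fun x => by
    obtain ⟨y, rfl⟩ := p.surjective x
    rw [← Scheme.Hom.comp_apply, hp]
  have key : MorphismProperty.isomorphisms Scheme u.left := by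
    refine IsZariskiLocalAtTarget.of_openCover X.left.affineCover fun k => ?_
    let g := X.left.affineCover.f k
    have hrange : Set.range (g ≫ u.left) ⊆ Set.range g := by
      rintro _ ⟨z, rfl⟩
      exact ⟨z, by rw [Scheme.Hom.comp_apply, hu]⟩
    let v := IsOpenImmersion.lift g (g ≫ u.left) hrange
    have hvg : v ≫ g = g ≫ u.left := IsOpenImmersion.lift_fac _ _ _
    have hpb : IsPullback v g g u.left := IsOpenImmersion.isPullback v g g u.left hvg.symm (by
      ext x
      simp [hu])
    suffices IsIso v by
      change IsIso (Scheme.Cover.pullbackHom X.left.affineCover u.left k)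
      change IsIso (pullback.snd u.left g)
      have e : pullback.snd u.left g = hpb.flip.isoPullback.inv ≫ v := by simp
      rw [e]
      infer_instance
    let s := g ≫ X.hom
    refine isIso_affine J hJ _ s v ?_ ?_
    · show v ≫ g ≫ X.hom = g ≫ X.hom
      rw [← Category.assoc, hvg, Category.assoc, Over.w u]
    · set q := Spec.map (CommRingCat.ofHom (Ideal.Quotient.mk (J.map (Spec.preimage s).hom))) with hq
      have hcomm : (q ≫ g) ≫ X.hom = Spec.map (CommRingCat.ofHom
          (Ideal.quotientMap (J.map (Spec.preimage s).hom) (Spec.preimage s).hom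
            Ideal.le_comap_map)) ≫ i := by
        refine (Category.assoc _ _ _).trans ?_
        show q ≫ s = _
        refine (congrArg (q ≫ ·) (Spec.map_preimage s).symm).trans ?_
        simp only [hq]
        refine (Spec.map_comp _ _).symm.trans (Eq.trans ?_ (Spec.map_comp _ _))
        congr 1
      have hl := pullback.lift_fst (q ≫ g) _ hcomm
      apply (cancel_mono g).1
      calc (q ≫ v) ≫ g = q ≫ v ≫ g := Category.assoc _ _ _
        _ = q ≫ g ≫ u.left := congrArg (q ≫ ·) hvg
        _ = (q ≫ g) ≫ u.left := (Category.assoc _ _ _).symm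
        _ = q ≫ g := by rw [← hl, Category.assoc, hp]
  have : IsIso ((Over.forget _).map u) := key
  exact isIso_of_reflects_iso u (Over.forget _)

end Groth.Agent.S8362
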