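import Groth.Statements.S8363
import Groth.Agent.Lib.GrpSch.BaseChange

set_option autoImplicit false
universe u
open CategoryTheory MonoidalCategory CartesianMonoidalCategory MonObj GrpObj AlgebraicGeometry TensorProduct
open SGA3

namespace Groth.Agent.S8363

section Ring

variable {B : Type u} [CommRing B] (I : Ideal B)

/-- Triples congruent modulo `I`. -/
def triples : Subring (B × B × B) where
  carrier := {x | x.1 - x.2.2 ∈ I ∧ x.2.1 - x.2.2 ∈ I}
  mul_mem' {a b} ha hb := by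
    refine ⟨?_, ?_⟩
    · have h := add_mem (I.mul_mem_right b.1 ha.1) (I.mul_mem_left a.2.2 hb.1)
      show a.1 * b.1 - a.2.2 * b.2.2 ∈ I
      convert h using 1; ring
    · have h := add_mem (I.mul_mem_right b.2.1 ha.2) (I.mul_mem_left a.2.2 hb.2)
      show a.2.1 * b.2.1 - a.2.2 * b.2.2 ∈ I
      convert h using 1; ring
  one_mem' := ⟨by simp, by simp⟩
  add_mem' {a b} ha hb := by
    refine ⟨?_, ?_⟩
    · show a.1 + b.1 - (a.2.2 + b.2.2) ∈ I
      rw [add_sub_add_comm]; exact add_mem ha.1 hb.1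
    · show a.2.1 + b.2.1 - (a.2.2 + b.2.2) ∈ I
      rw [add_sub_add_comm]; exact add_mem ha.2 hb.2
  zero_mem' := ⟨by simp, by simp⟩
  neg_mem' {a} ha := by
    refine ⟨?_, ?_⟩
    · show -a.1 - -a.2.2 ∈ I
      rw [show -a.1 - -a.2.2 = -(a.1 - a.2.2) by ring]; exact neg_mem ha.1
    · show -a.2.1 - -a.2.2 ∈ I
      rw [show -a.2.1 - -a.2.2 = -(a.2.1 - a.2.2) by ring]; exact neg_mem ha.2

/-- `(b₁, b₂, b₀) ↦ b₁ + b₂ - b₀`. -/
def sumHom (hI : ∀ x ∈ I, ∀ y ∈ I, x * y = 0) : triples I →+* B where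
  toFun x := x.1.1 + x.1.2.1 - x.1.2.2
  map_one' := by show (1 : B) + 1 - 1 = 1; ring
  map_mul' x y := by
    show x.1.1 * y.1.1 + x.1.2.1 * y.1.2.1 - x.1.2.2 * y.1.2.2 =
      (x.1.1 + x.1.2.1 - x.1.2.2) * (y.1.1 + y.1.2.1 - y.1.2.2)
    have h1 := hI _ x.2.1 _ y.2.2
    have h2 := hI _ x.2.2 _ y.2.1
    linear_combination -h1 - h2
  map_zero' := by show (0 : B) + 0 - 0 = 0; ring
  map_add' x y := by
    show x.1.1 + y.1.1 + (x.1.2.1 + y.1.2.1) - (x.1.2.2 + y.1.2.2) =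
      x.1.1 + x.1.2.1 - x.1.2.2 + (y.1.1 + y.1.2.1 - y.1.2.2)
    ring

end Ring

theorem mul_comm_affine {R B : Type u} [CommRing R] [CommRing B] (ρ : R →+* B) (J : Ideal R) (hJ : J * J = ⊥)
    (X : Over (Spec (CommRingCat.of R))) [GrpObj X] {U : X.left.Opens} (hU : IsAffineOpen U)
    (g g' : Over.mk (Spec.map (CommRingCat.ofHom ρ)) ⟶ X)
    (hr : Set.range (1 : Over.mk (Spec.map (CommRingCat.ofHom ρ)) ⟶ X).left ⊆ (U : Set X.left))
    (hg : Spec.map (CommRingCat.ofHom (Ideal.Quotient.mk (J.map ρ))) ≫ g.left =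
      Spec.map (CommRingCat.ofHom (Ideal.Quotient.mk (J.map ρ))) ≫ (1 : Over.mk (Spec.map (CommRingCat.ofHom ρ)) ⟶ X).left)
    (hg' : Spec.map (CommRingCat.ofHom (Ideal.Quotient.mk (J.map ρ))) ≫ g'.left =
      Spec.map (CommRingCat.ofHom (Ideal.Quotient.mk (J.map ρ))) ≫ (1 : Over.mk (Spec.map (CommRingCat.ofHom ρ)) ⟶ X).left) :
    g * g' = g' * g := by
  let Y : Over (Spec (CommRingCat.of R)) := Over.mk (Spec.map (CommRingCat.ofHom ρ))
  let q := Spec.map (CommRingCat.ofHom (Ideal.Quotient.mk (J.map ρ)))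
  let I := J.map ρ
  have hI : ∀ x ∈ I, ∀ y ∈ I, x * y = 0 := fun x hx y hy => by
    have := Ideal.mul_mem_mul hx hy
    rw [← Ideal.map_mul, hJ, Ideal.map_bot] at this
    exact this
  -- maps congruent to the unit land in `U`
  have hq : Function.Surjective q := fun p => by
    have : p ∈ Set.range (PrimeSpectrum.comap (Ideal.Quotient.mk I)) := by
      rw [range_comap_of_surjective _ _ Ideal.Quotient.mk_surjective, Ideal.mk_ker]
      exact fun x hx => p.isPrime.mem_of_pow_mem 2 (by rw [sq, hI x hx x hx]; exact zero_mem _)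
    exact this
  have hland : ∀ a : Y ⟶ X, q ≫ a.left = q ≫ (1 : Y ⟶ X).left → Set.range a.left ⊆ (U : Set X.left) := by
    rintro a ha _ ⟨y, rfl⟩
    obtain ⟨z, rfl⟩ := hq y
    rw [← Scheme.Hom.comp_apply, ha, Scheme.Hom.comp_apply]
    exact hr ⟨_, rfl⟩
  have hfac : ∀ a : Y ⟶ X, Set.range a.left ⊆ (U : Set X.left) →
      ∃ φ : Γ(X.left, U) ⟶ CommRingCat.of B, Spec.map φ ≫ hU.fromSpec = a.left := fun a ha => by
    refine ⟨Spec.preimage (IsOpenImmersion.lift hU.fromSpec a.left (by rw [hU.range_fromSpec]; exact ha)), ?_⟩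
    rw [Spec.map_preimage, IsOpenImmersion.lift_fac]
  obtain ⟨φ₀, hφ₀⟩ := hfac 1 hr
  obtain ⟨φ, hφ⟩ := hfac g (hland g hg)
  obtain ⟨φ', hφ'⟩ := hfac g' (hland g' hg')
  have hcong : ∀ ψ : Γ(X.left, U) ⟶ CommRingCat.of B, q ≫ Spec.map ψ ≫ hU.fromSpec = q ≫ Spec.map φ₀ ≫ hU.fromSpec →
      ∀ x, ψ.hom x - φ₀.hom x ∈ I := fun ψ h x => by
    rw [← Category.assoc, ← Category.assoc, cancel_mono, ← Spec.map_comp, ← Spec.map_comp] at h
    exact Ideal.Quotient.eq.1 (ConcreteCategory.congr_hom (Spec.map_injective h) x)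
  have hc : ∀ x, φ.hom x - φ₀.hom x ∈ I := hcong φ (by rw [hφ, hφ₀]; exact hg)
  have hc' : ∀ x, φ'.hom x - φ₀.hom x ∈ I := hcong φ' (by rw [hφ', hφ₀]; exact hg')
  -- the triples
  let ρC : R →+* triples I := (ρ.prod (ρ.prod ρ)).codRestrict _ fun r =>
    ⟨by simp, by simp⟩
  let π₁ : triples I →+* B := (RingHom.fst B (B × B)).comp (triples I).subtype
  let π₂ : triples I →+* B := ((RingHom.fst B B).comp (RingHom.snd B (B × B))).comp (triples I).subtype
  let π₀ : triples I →+* B := ((RingHom.snd B B).comp (RingHom.snd B (B × B))).comp (triples I).subtype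
  let T : Over (Spec (CommRingCat.of R)) := Over.mk (Spec.map (CommRingCat.ofHom ρC))
  have hmk : ∀ (π : triples I →+* B), π.comp ρC = ρ →
      Spec.map (CommRingCat.ofHom π) ≫ T.hom = Y.hom := fun π hπ => by
    show Spec.map _ ≫ Spec.map _ = Spec.map _
    rw [← Spec.map_comp, ← CommRingCat.ofHom_comp, hπ]
  let j₁ : Y ⟶ T := Over.homMk (Spec.map (CommRingCat.ofHom π₁)) (hmk π₁ rfl)
  let j₂ : Y ⟶ T := Over.homMk (Spec.map (CommRingCat.ofHom π₂)) (hmk π₂ rfl)
  let j₀ : Y ⟶ T := Over.homMk (Spec.map (CommRingCat.ofHom π₀)) (hmk π₀ rfl)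
  let js : Y ⟶ T := Over.homMk (Spec.map (CommRingCat.ofHom (sumHom I hI)))
    (hmk (sumHom I hI) (RingHom.ext fun r => show ρ r + ρ r - ρ r = ρ r by ring))
  have hj₀ : Function.Surjective j₀.left := fun p => by
    have : p ∈ Set.range (PrimeSpectrum.comap π₀) := by
      rw [range_comap_of_surjective _ _ (fun b => ⟨⟨(b, b, b), by simp, by simp⟩, rfl⟩)]
      intro x hx
      refine p.isPrime.mem_of_pow_mem 2 ?_
      have hx0 : x.1.2.2 = 0 := hx
      have hx1 := x.2.1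
      have hx2 := x.2.2
      rw [hx0, sub_zero] at hx1 hx2
      have : x ^ 2 = 0 := Subtype.ext (Prod.ext (by simp [sq, hI _ hx1 _ hx1]) (Prod.ext (by simp [sq, hI _ hx2 _ hx2]) (by simp [sq, hx0])))
      rw [this]; exact zero_mem _
    exact this
  -- morphisms out of `T`
  have hbuild : ∀ (a b : Γ(X.left, U) ⟶ CommRingCat.of B), (∀ x, a.hom x - φ₀.hom x ∈ I) → (∀ x, b.hom x - φ₀.hom x ∈ I) →
      ∀ (u v : Y ⟶ X), Spec.map a ≫ hU.fromSpec = u.left → Spec.map b ≫ hU.fromSpec = v.left →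
      ∃ F : T ⟶ X, j₁ ≫ F = u ∧ j₂ ≫ F = v ∧ j₀ ≫ F = 1 ∧
        ∀ (w : Γ(X.left, U) ⟶ CommRingCat.of B), (∀ x, w.hom x = a.hom x + b.hom x - φ₀.hom x) →
          ∀ z : Y ⟶ X, Spec.map w ≫ hU.fromSpec = z.left → js ≫ F = z := by
    intro a b ha hb u v hu hv
    let θ : Γ(X.left, U) ⟶ CommRingCat.of (triples I) :=
      CommRingCat.ofHom ((a.hom.prod (b.hom.prod φ₀.hom)).codRestrict _ fun x => ⟨ha x, hb x⟩)
    obtain ⟨τ, hτ⟩ := Spec.map_surjective (hU.fromSpec ≫ X.hom)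
    have hbase : ∀ (c : Γ(X.left, U) ⟶ CommRingCat.of B) (z : Y ⟶ X), Spec.map c ≫ hU.fromSpec = z.left →
        τ ≫ c = CommRingCat.ofHom ρ := fun c z hz => by
      apply Spec.map_injective
      rw [Spec.map_comp, hτ, ← Category.assoc, hz, Over.w z]
      rfl
    have hw : τ ≫ θ = CommRingCat.ofHom ρC := by
      ext r
      · exact ConcreteCategory.congr_hom (hbase a u hu) r
      · exact ConcreteCategory.congr_hom (hbase b v hv) r
      · exact ConcreteCategory.congr_hom (hbase φ₀ 1 hφ₀) r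
    refine ⟨Over.homMk (Spec.map θ ≫ hU.fromSpec) ?_, ?_, ?_, ?_, fun w hw' z hz => ?_⟩
    · show (Spec.map θ ≫ hU.fromSpec) ≫ X.hom = Spec.map (CommRingCat.ofHom ρC)
      rw [Category.assoc, ← hτ, ← Spec.map_comp, hw]
    all_goals apply Over.OverMorphism.ext
    · show Spec.map (CommRingCat.ofHom π₁) ≫ Spec.map θ ≫ hU.fromSpec = u.left
      rw [← Category.assoc, ← Spec.map_comp, show θ ≫ CommRingCat.ofHom π₁ = a from rfl, hu]
    · show Spec.map (CommRingCat.ofHom π₂) ≫ Spec.map θ ≫ hU.fromSpec = v.left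
      rw [← Category.assoc, ← Spec.map_comp, show θ ≫ CommRingCat.ofHom π₂ = b from rfl, hv]
    · show Spec.map (CommRingCat.ofHom π₀) ≫ Spec.map θ ≫ hU.fromSpec = (1 : Y ⟶ X).left
      rw [← Category.assoc, ← Spec.map_comp, show θ ≫ CommRingCat.ofHom π₀ = φ₀ from rfl, hφ₀]
    · show Spec.map (CommRingCat.ofHom (sumHom I hI)) ≫ Spec.map θ ≫ hU.fromSpec = z.left
      rw [← Category.assoc, ← Spec.map_comp,
        show θ ≫ CommRingCat.ofHom (sumHom I hI) = w from CommRingCat.hom_ext (RingHom.ext fun x => (hw' x).symm), hz]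
  have hzero : ∀ x, φ₀.hom x - φ₀.hom x ∈ I := fun x => by simp
  obtain ⟨F, hF₁, hF₂, hF₀, hFs⟩ := hbuild φ φ₀ hc hzero g 1 hφ hφ₀
  obtain ⟨F', hF'₁, hF'₂, hF'₀, hF's⟩ := hbuild φ₀ φ' hzero hc' 1 g' hφ₀ hφ'
  have hs₁ := hFs φ (fun x => by ring) g hφ
  have hs₂ := hF's φ' (fun x => by ring) g' hφ'
  have heq : F * F' = F' * F := by
    have e₁ : j₁ ≫ (F * F') = j₁ ≫ (F' * F) := by
      simp only [MonObj.comp_mul, hF₁, hF'₁, _root_.mul_one, _root_.one_mul]
    have e₂ : j₂ ≫ (F * F') = j₂ ≫ (F' * F) := by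
      simp only [MonObj.comp_mul, hF₂, hF'₂, _root_.mul_one, _root_.one_mul]
    have e₀ : j₀ ≫ (F * F') = j₀ ≫ (F' * F) := by
      simp only [MonObj.comp_mul, hF₀, hF'₀]
    have hl : ∀ P : T ⟶ X, j₀ ≫ P = 1 →
        ∃ ψ : Γ(X.left, U) ⟶ CommRingCat.of (triples I), Spec.map ψ ≫ hU.fromSpec = P.left := by
      intro P hP
      have : Set.range P.left ⊆ (U : Set X.left) := by
        rintro _ ⟨y, rfl⟩
        obtain ⟨z, rfl⟩ := hj₀ y
        rw [← Scheme.Hom.comp_apply, ← Over.comp_left, hP]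
        exact hr ⟨z, rfl⟩
      refine ⟨Spec.preimage (IsOpenImmersion.lift hU.fromSpec P.left (by rw [hU.range_fromSpec]; exact this)), ?_⟩
      rw [Spec.map_preimage, IsOpenImmersion.lift_fac]
    obtain ⟨ψ, hψ⟩ := hl (F * F') (by rw [MonObj.comp_mul, hF₀, hF'₀, _root_.mul_one])
    obtain ⟨ψ', hψ'⟩ := hl (F' * F) (by rw [MonObj.comp_mul, hF₀, hF'₀, _root_.mul_one])
    have hπ : ∀ π : triples I →+* B, ∀ j : Y ⟶ T, j.left = Spec.map (CommRingCat.ofHom π) →
        j ≫ (F * F') = j ≫ (F' * F) → ∀ x, π (ψ.hom x) = π (ψ'.hom x) := fun π j hj h x => by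
      have h' : (j ≫ (F * F')).left = (j ≫ (F' * F)).left := by rw [h]
      rw [Over.comp_left, Over.comp_left, hj, ← hψ, ← hψ', ← Category.assoc, ← Category.assoc, cancel_mono,
        ← Spec.map_comp, ← Spec.map_comp] at h'
      exact ConcreteCategory.congr_hom (Spec.map_injective h') x
    have : ψ = ψ' := CommRingCat.hom_ext (RingHom.ext fun x => Subtype.ext
      (Prod.ext (hπ π₁ j₁ rfl e₁ x) (Prod.ext (hπ π₂ j₂ rfl e₂ x) (hπ π₀ j₀ rfl e₀ x))))
    exact Over.OverMorphism.ext (by rw [← hψ, ← hψ', this])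
  have := congrArg (js ≫ ·) heq
  simpa only [MonObj.comp_mul, hs₁, hs₂] using this

/-- The kernel of the reduction map is commutative: over an affine base S = Spec R with S₀ = Spec (R/J)
for an ideal J of square zero: for a group scheme X over S and an arbitrary S-scheme Y, the kernel
of the reduction map from X(Y) to X(Y ×_S S₀) = X₀(Y₀) is a commutative group: two Y-valued points
of X whose base changes to S₀ are the unit commute. (The published statement identifies this kernel,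
as a group functor, with the commutative functor of homomorphisms from the pulled-back invariant
differentials of X₀ to J·O_Y, over an arbitrary base with a quasi-coherent ideal of square zero;
this row states only the resulting commutativity, over an affine base.) -/
theorem result (R : Type u) [CommRing R] (J : Ideal R) (hJ : J * J = ⊥)
    (X : Over (Spec (CommRingCat.of R))) [GrpObj X] (Y : Over (Spec (CommRingCat.of R))) (g g' : Y ⟶ X)
    (hg : (Over.pullback (Spec.map (CommRingCat.ofHom (Ideal.Quotient.mk J)))).map g = 1)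
    (hg' : (Over.pullback (Spec.map (CommRingCat.ofHom (Ideal.Quotient.mk J)))).map g' = 1) :
    g * g' = g' * g := by
  let i := Spec.map (CommRingCat.ofHom (Ideal.Quotient.mk J))
  let p := Lib.GrpSch.bcProj i Y
  have hone : (Over.pullback i).map (1 : Y ⟶ X) = 1 := Functor.map_one _
  have hp : ∀ h : Y ⟶ X, (Over.pullback i).map h = 1 → p ≫ h.left = p ≫ (1 : Y ⟶ X).left := fun h hh => by
    show Lib.GrpSch.bcProj i Y ≫ h.left = Lib.GrpSch.bcProj i Y ≫ _
    rw [← Lib.GrpSch.bc_map_proj i h, ← Lib.GrpSch.bc_map_proj i (1 : Y ⟶ X), hh, hone]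
  have key : ∀ y : Y.left, ∃ V : Y.left.Opens, y ∈ V ∧ V.ι ≫ (g * g').left = V.ι ≫ (g' * g).left := by
    intro y
    obtain ⟨U, hU, hyU, -⟩ := exists_isAffineOpen_mem_and_subset (X := X.left) (x := (1 : Y ⟶ X).left y) (U := ⊤) trivial
    obtain ⟨V, hV, hyV, hVU⟩ := exists_isAffineOpen_mem_and_subset (X := Y.left) (x := y)
      (U := (1 : Y ⟶ X).left ⁻¹ᵁ U) hyU
    refine ⟨V, hyV, ?_⟩
    obtain ⟨ρ, hρ⟩ := Spec.map_surjective (hV.fromSpec ≫ Y.hom)
    let Y' : Over (Spec (CommRingCat.of R)) := Over.mk (Spec.map (CommRingCat.ofHom ρ.hom))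
    let c : Y' ⟶ Y := Over.homMk hV.fromSpec (by
      show hV.fromSpec ≫ Y.hom = Spec.map ρ
      exact hρ.symm)
    have hr : Set.range (1 : Y' ⟶ X).left ⊆ (U : Set X.left) := by
      rw [← MonObj.comp_one c, Over.comp_left]
      rintro _ ⟨z, rfl⟩
      exact hVU (hV.range_fromSpec.le ⟨z, rfl⟩)
    let q := Spec.map (CommRingCat.ofHom (Ideal.Quotient.mk (J.map ρ.hom)))
    have hcomm : (q ≫ hV.fromSpec) ≫ Y.hom = Spec.map (CommRingCat.ofHom
        (Ideal.quotientMap (J.map ρ.hom) ρ.hom Ideal.le_comap_map)) ≫ i := by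
      rw [Category.assoc, ← hρ, ← Spec.map_comp, ← Spec.map_comp]
      congr 1
    have hq : ∀ h : Y ⟶ X, p ≫ h.left = p ≫ (1 : Y ⟶ X).left → q ≫ (c ≫ h).left = q ≫ (1 : Y' ⟶ X).left := by
      intro h hh
      rw [← MonObj.comp_one c, Over.comp_left, Over.comp_left, ← Category.assoc, ← Category.assoc,
        show q ≫ c.left = Limits.pullback.lift (q ≫ hV.fromSpec) _ hcomm ≫ p from (Limits.pullback.lift_fst _ _ _).symm,
        Category.assoc, Category.assoc, hh]
    have h := mul_comm_affine ρ.hom J hJ X hU (c ≫ g) (c ≫ g') hr (hq g (hp g hg)) (hq g' (hp g' hg'))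
    rw [← MonObj.comp_mul, ← MonObj.comp_mul] at h
    have h' : (c ≫ (g * g')).left = (c ≫ (g' * g)).left := by rw [h]
    change hV.fromSpec ≫ (g * g').left = hV.fromSpec ≫ (g' * g).left at h'
    rw [← hV.isoSpec_inv_ι, Category.assoc, Category.assoc, cancel_epi] at h'
    exact h'
  choose V hyV hV using key
  refine Over.OverMorphism.ext ((Y.left.openCoverOfIsOpenCover V (top_unique fun y _ =>
    TopologicalSpace.Opens.mem_iSup.2 ⟨y, hyV y⟩)).hom_ext _ _ fun (y : Y.left) => hV y)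

end Groth.Agent.S8363
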