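import Groth.Statements.S8364
import Mathlib.RingTheory.Smooth.Basic

set_option autoImplicit false
universe u
open SGA3

namespace Groth.Agent.S8364

/-- For a commutative ring R, an ideal J of R of square zero, a smooth R-algebra A and the extended
ideal I = J·A, every R-algebra automorphism of A/I lifts to an R-algebra automorphism of A. (The
published statement concerns the automorphism functor of a smooth affine S-scheme E and affine test
schemes Y; this row is the case Y = S = Spec R, E = Spec A, which gives the general one after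
replacing R by the ring of Y.) -/
theorem result (R A : Type u) [CommRing R] [CommRing A] [Algebra R A]
    [Algebra.Smooth R A] (J : Ideal R) (hJ : J * J = ⊥)
    (φ₀ : (A ⧸ Ideal.map (algebraMap R A) J) ≃ₐ[R] (A ⧸ Ideal.map (algebraMap R A) J)) :
    ∃ φ : A ≃ₐ[R] A,
      (Ideal.Quotient.mkₐ R (Ideal.map (algebraMap R A) J)).comp φ.toAlgHom =
        φ₀.toAlgHom.comp (Ideal.Quotient.mkₐ R (Ideal.map (algebraMap R A) J)) := by
  let I := J.map (algebraMap R A)
  have hI : I * I = ⊥ := by rw [← Ideal.map_mul, hJ, Ideal.map_bot]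
  have hI2 : IsNilpotent I := ⟨2, by rw [pow_two, hI]; rfl⟩
  have hlift : ∀ ψ₀ : (A ⧸ I) →ₐ[R] (A ⧸ I), ∃ ψ : A →ₐ[R] A,
      ∀ a, Ideal.Quotient.mkₐ R I (ψ a) = ψ₀ (Ideal.Quotient.mkₐ R I a) := by
    intro ψ₀
    exact ⟨Algebra.FormallySmooth.lift I hI2 (ψ₀.comp (Ideal.Quotient.mkₐ R I)),
      fun a => Algebra.FormallySmooth.mk_lift I hI2 _ a⟩
  obtain ⟨φ, hφ⟩ := hlift φ₀.toAlgHom
  obtain ⟨ψ, hψ⟩ := hlift φ₀.symm.toAlgHom
  have hbij : ∀ θ : A →ₐ[R] A, (∀ a, θ a - a ∈ I) → Function.Bijective θ := by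
    intro θ hθ
    have hfix : ∀ x ∈ I, θ x = x := by
      intro x hx
      rw [← Submodule.restrictScalars_mem R, ← Ideal.smul_top_eq_map] at hx
      refine Submodule.smul_induction_on hx (fun r hr z _ => ?_) (fun _ _ h h' => by rw [map_add, h, h'])
      rw [map_smul, ← sub_eq_zero, ← smul_sub, Algebra.smul_def, ← Ideal.mem_bot, ← hI]
      exact Ideal.mul_mem_mul (Ideal.mem_map_of_mem _ hr) (hθ z)
    refine Function.bijective_iff_has_inverse.2 ⟨fun a => a - (θ a - a), fun a => ?_, fun a => ?_⟩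
    · have := hfix _ (hθ a)
      rw [map_sub] at this
      simp only
      linear_combination -this
    · rw [map_sub, hfix _ (hθ a)]; ring
  have e1 : ∀ a, ψ.comp φ a - a ∈ I := fun a => by
    rw [← Ideal.Quotient.eq]
    show Ideal.Quotient.mkₐ R I (ψ (φ a)) = Ideal.Quotient.mkₐ R I a
    rw [hψ, hφ]; exact φ₀.symm_apply_apply _
  have e2 : ∀ a, φ.comp ψ a - a ∈ I := fun a => by
    rw [← Ideal.Quotient.eq]
    show Ideal.Quotient.mkₐ R I (φ (ψ a)) = Ideal.Quotient.mkₐ R I a
    rw [hφ, hψ]; exact φ₀.apply_symm_apply _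
  exact ⟨AlgEquiv.ofBijective φ ⟨Function.Injective.of_comp (f := ψ) (hbij _ e1).1,
    Function.Surjective.of_comp (g := ψ) (hbij _ e2).2⟩, AlgHom.ext hφ⟩

end Groth.Agent.S8364
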