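import Groth.Statements.S8365
import Groth.Agent.Lib.LieS.Points
-- import your own Groth.Agent.* helpers here

set_option autoImplicit false
universe u
open CategoryTheory MonObj AlgebraicGeometry
open LieS

namespace Groth.Agent.S8365

open Groth.Agent.Lib.LieS.Points

theorem isUnit_of_zeroSec_eq_one {S : Scheme.{u}} {X : Over S} [MonObj X] {B : Type u} [CommRing B]
    {f : Spec (CommRingCat.of B) ⟶ S} {v : LieS.dpt B f ⟶ X} (hv : LieS.zeroSec B f ≫ v = 1) :
    IsUnit v := by
  have he := LieS.eps_sq B
  have hn : (-DualNumber.eps : DualNumber B) * -DualNumber.eps = 0 := by rw [neg_mul_neg, he]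
  let w : LieS.dpt B f ⟶ X := evMap f (algebraMap B (DualNumber B)) (-DualNumber.eps) hn ≫ v
  have e : evMap f (algebraMap B (DualNumber B)) DualNumber.eps he ≫ v = v := by
    rw [evMap_eps]; exact Category.id_comp v
  have h1 : v * w = 1 :=
    (congrArg (fun a : LieS.dpt B f ⟶ X => a * w) e.symm).trans
      ((ev_add hv _ _ _ he hn (by rw [mul_neg, he, neg_zero]) (by rw [add_neg_cancel, mul_zero])).symm.trans
        (ev_zero hv _ _ _ (add_neg_cancel _)))
  have h2 : w * v = 1 :=
    (congrArg (fun a : LieS.dpt B f ⟶ X => w * a) e.symm).trans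
      ((ev_add hv _ _ _ hn he (by rw [neg_mul, he, neg_zero]) (by rw [neg_add_cancel, mul_zero])).symm.trans
        (ev_zero hv _ _ _ (neg_add_cancel _)))
  exact ⟨⟨v, w, h1, h2⟩, rfl⟩


/-- For a monoid scheme X over a scheme S (an associative unital monoid object in S-schemes) and an
affine S-scheme T = Spec B, a point of X with values in the dual numbers over T is invertible if and
only if its restriction along the zero section ε = 0 is invertible in X(T); in particular every such
point restricting to the unit section is invertible. (The published statement is for monoid-valued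
functors satisfying a tangent-space exactness condition, which every representable functor
satisfies, and its special case where the restriction is the unit section allows unital composition
laws that need not be associative; this row treats monoid schemes only.) -/
theorem result (S : Scheme.{u}) (X : Over S) [MonObj X] (B : Type u) [CommRing B]
    (f : Spec (CommRingCat.of B) ⟶ S) (v : LieS.dpt B f ⟶ X) :
    IsUnit v ↔ IsUnit (LieS.zeroSec B f ≫ v) := by
  constructor
  · rintro ⟨⟨a, b, hab, hba⟩, rfl⟩
    exact ⟨⟨_, LieS.zeroSec B f ≫ b, by rw [← MonObj.comp_mul, hab, MonObj.comp_one],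
      by rw [← MonObj.comp_mul, hba, MonObj.comp_one]⟩, rfl⟩
  · rintro ⟨⟨a, b, hab, hba⟩, hw : a = _⟩
    let p := LieS.proj B f ≫ b
    have hp : (LieS.proj B f ≫ a) * p = 1 := by
      rw [← MonObj.comp_mul, hab, MonObj.comp_one]
    have hp' : p * (LieS.proj B f ≫ a) = 1 := by
      rw [← MonObj.comp_mul, hba, MonObj.comp_one]
    have hz : LieS.zeroSec B f ≫ (v * p) = 1 := by
      rw [MonObj.comp_mul, ← Category.assoc _ (LieS.proj B f), LieS.zeroSec_proj, Category.id_comp,
        ← hw, hab]
    have h := isUnit_of_zeroSec_eq_one hz
    have hu : IsUnit (LieS.proj B f ≫ a) := ⟨⟨_, p, hp, hp'⟩, rfl⟩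
    have := h.mul hu
    rwa [_root_.mul_assoc, hp', _root_.mul_one] at this

end Groth.Agent.S8365
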