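import Groth.Statements.S8366
import Groth.Agent.Lib.NilGrp.IsoMod
import Groth.Agent.Lib.GrpQ.QCC

set_option autoImplicit false
set_option backward.isDefEq.respectTransparency false
set_option backward.isDefEq.respectTransparency.types false
universe u
open CategoryTheory MonoidalCategory MonObj AlgebraicGeometry
open SGA3

namespace Groth.Agent.S8366

open Limits CartesianMonoidalCategory GrpObj

/-- A flat surjective quasi-compact or finitely presented morphism covers for the fpqc topology. -/
theorem isQcc_of_surjective {A B : Scheme.{u}} (q : A ⟶ B) [Flat q] [Surjective q]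
    (h : QuasiCompact q ∨ LocallyOfFinitePresentation q) : Lib.GrpQ.IsQcc q := by
  refine ⟨inferInstance, inferInstance, Lib.ActSep.quasiCompactCover_singleton q fun V hV => ?_⟩
  rcases h with h | h
  · exact ⟨q ⁻¹ᵁ V, q.isCompact_preimage hV.isCompact, Set.image_preimage_eq _ q.surjective⟩
  · have : UniversallyOpen q := UniversallyOpen.of_flat q
    obtain ⟨W, hW, hWV⟩ := q.isOpenMap.exists_opens_image_eq_of_prespectralSpace q.continuous (U := V)
      (by rw [q.surjective.range_eq]; exact Set.subset_univ _) V.2 hV.isCompact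
    exact ⟨W, hW, hWV⟩


/-- Over an affine base S = Spec R with S₀ = Spec (R/I) for a nilpotent ideal I: let X be an S-scheme
which is flat and either quasi-compact or locally of finite presentation over S, and P : X ×_S X → X
a composition law. If P is associative and its base change to S₀ is the multiplication of some
group-scheme structure on X ×_S S₀, then P is the multiplication of a group-scheme structure on X.
(The published statement is over an arbitrary base scheme with S₀ defined by a nilpotent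
quasi-coherent ideal; this row is its case of an affine base.) -/
theorem result (R : Type u) [CommRing R] (I : Ideal R)
    (hI : IsNilpotent I) (X : Over (Spec (CommRingCat.of R))) [Flat X.hom]
    (hX : QuasiCompact X.hom ∨ LocallyOfFinitePresentation X.hom) (P : X ⊗ X ⟶ X)
    (hassoc : (P ▷ X) ≫ P = (α_ X X X).hom ≫ (X ◁ P) ≫ P)
    (h0 : ∃ _ : GrpObj ((Over.pullback (Spec.map (CommRingCat.ofHom (Ideal.Quotient.mk I)))).obj X),
      μ[(Over.pullback (Spec.map (CommRingCat.ofHom (Ideal.Quotient.mk I)))).obj X] =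
        Functor.LaxMonoidal.μ (Over.pullback (Spec.map (CommRingCat.ofHom (Ideal.Quotient.mk I)))) X X ≫ (Over.pullback (Spec.map (CommRingCat.ofHom (Ideal.Quotient.mk I)))).map P) :
    ∃ _ : GrpObj X, μ[X] = P := by
  obtain ⟨inst, hμ⟩ := h0
  let F := Over.pullback (Spec.map (CommRingCat.ofHom (Ideal.Quotient.mk I)))
  let r : X ⊗ X ⟶ X ⊗ X := lift (fst X X) P
  let l : X ⊗ X ⟶ X ⊗ X := lift P (snd X X)
  let r₀ : F.obj X ⊗ F.obj X ⟶ F.obj X ⊗ F.obj X := lift (fst _ _) μ[F.obj X]
  let l₀ : F.obj X ⊗ F.obj X ⟶ F.obj X ⊗ F.obj X := lift μ[F.obj X] (snd _ _)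
  have hμ₀ : μ[F.obj X] = fst _ _ * snd _ _ := by simp [Hom.mul_def]
  have : IsIso r₀ := by
    refine ⟨⟨lift (fst _ _) ((fst _ _)⁻¹ * snd _ _), ?_, ?_⟩⟩ <;>
      (refine CartesianMonoidalCategory.hom_ext _ _ ?_ ?_ <;>
        simp [r₀, hμ₀, MonObj.comp_mul, GrpObj.comp_inv])
  have : IsIso l₀ := by
    refine ⟨⟨lift (fst _ _ * (snd _ _)⁻¹) (snd _ _), ?_, ?_⟩⟩ <;>
      (refine CartesianMonoidalCategory.hom_ext _ _ ?_ ?_ <;>
        simp [l₀, hμ₀, MonObj.comp_mul, GrpObj.comp_inv, _root_.mul_assoc])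
  have : Flat (X ⊗ X).hom := inferInstanceAs (Flat (pullback.fst X.hom X.hom ≫ X.hom))
  have : IsIso r := by
    refine Lib.NilGrp.isIso_of_pullback I hI r ?_
    have e : Functor.LaxMonoidal.μ F X X ≫ F.map r = r₀ ≫ Functor.LaxMonoidal.μ F X X := by
      rw [← cancel_mono (Functor.OplaxMonoidal.δ F X X)]
      refine CartesianMonoidalCategory.hom_ext _ _ ?_ ?_
      · simp [r, r₀, ← F.map_comp]
      · simp [r, r₀, ← F.map_comp, hμ, F]
    have : IsIso (Functor.LaxMonoidal.μ F X X ≫ F.map r) := by rw [e]; infer_instance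
    exact IsIso.of_isIso_comp_left (Functor.LaxMonoidal.μ F X X) (F.map r)
  have : IsIso l := by
    refine Lib.NilGrp.isIso_of_pullback I hI l ?_
    have e : Functor.LaxMonoidal.μ F X X ≫ F.map l = l₀ ≫ Functor.LaxMonoidal.μ F X X := by
      rw [← cancel_mono (Functor.OplaxMonoidal.δ F X X)]
      refine CartesianMonoidalCategory.hom_ext _ _ ?_ ?_
      · simp [l, l₀, ← F.map_comp, hμ, F]
      · simp [l, l₀, ← F.map_comp]
    have : IsIso (Functor.LaxMonoidal.μ F X X ≫ F.map l) := by rw [e]; infer_instance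
    exact IsIso.of_isIso_comp_left (Functor.LaxMonoidal.μ F X X) (F.map l)
  -- the law on points
  let op : ∀ {T : Over (Spec (CommRingCat.of R))}, (T ⟶ X) → (T ⟶ X) → (T ⟶ X) := fun a b => lift a b ≫ P
  have assoc' : ∀ {T : Over (Spec (CommRingCat.of R))} (a b c : T ⟶ X), op (op a b) c = op a (op b c) := by
    intro T a b c
    have h := congrArg (fun φ => lift (lift a b) c ≫ φ) hassoc
    simpa [op, lift_whiskerRight_assoc, lift_lift_associator_hom_assoc, lift_whiskerLeft_assoc] using h
  have cancelR : ∀ {T : Over (Spec (CommRingCat.of R))} (a b c : T ⟶ X), op a b = op a c → b = c := by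
    intro T a b c h
    have h2 : lift a b ≫ r = lift a c ≫ r := by
      refine CartesianMonoidalCategory.hom_ext _ _ ?_ ?_
      · simp [r]
      · simpa [r, op] using h
    simpa using congrArg (· ≫ snd X X) ((cancel_mono r).1 h2)
  have cancelL : ∀ {T : Over (Spec (CommRingCat.of R))} (a b c : T ⟶ X), op a c = op b c → a = b := by
    intro T a b c h
    have h2 : lift a c ≫ l = lift b c ≫ l := by
      refine CartesianMonoidalCategory.hom_ext _ _ ?_ ?_
      · simpa [l, op] using h
      · simp [l]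
    simpa using congrArg (· ≫ fst X X) ((cancel_mono l).1 h2)
  have natop : ∀ {T T' : Over (Spec (CommRingCat.of R))} (s : T' ⟶ T) (a b : T ⟶ X),
      s ≫ op a b = op (s ≫ a) (s ≫ b) := fun s a b => by simp [op, comp_lift_assoc]
  have hdiv : ∀ {T : Over (Spec (CommRingCat.of R))} (a b : T ⟶ X), op a (lift a b ≫ inv r ≫ snd X X) = b := by
    intro T a b
    have h1 : inv r ≫ fst X X = fst X X := by rw [IsIso.inv_comp_eq]; simp [r]
    have h2 : inv r ≫ P = snd X X := by rw [IsIso.inv_comp_eq]; simp [r]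
    have h3 : lift a (lift a b ≫ inv r ≫ snd X X) = lift a b ≫ inv r := by
      refine CartesianMonoidalCategory.hom_ext _ _ ?_ ?_ <;> simp [h1]
    show lift a (lift a b ≫ inv r ≫ snd X X) ≫ P = b
    rw [h3, Category.assoc, h2, lift_snd]
  let u : X ⟶ X := lift (𝟙 X) (𝟙 X) ≫ inv r ≫ snd X X
  have hu : ∀ {T : Over (Spec (CommRingCat.of R))} (y : T ⟶ X), op y (y ≫ u) = y := fun y => by
    have := hdiv y y
    simpa [u, comp_lift_assoc] using this
  have hul : ∀ {T : Over (Spec (CommRingCat.of R))} (x y : T ⟶ X), op (x ≫ u) y = y := fun x y =>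
    cancelR x _ _ (by rw [← assoc', hu])
  have hur : ∀ {T : Over (Spec (CommRingCat.of R))} (x y : T ⟶ X), op y (x ≫ u) = y := fun x y =>
    cancelL _ _ y (by rw [assoc', hul])
  have hinvar : ∀ (T : Over (Spec (CommRingCat.of R))) (x y : T ⟶ X), x ≫ u = y ≫ u := fun T x y =>
    cancelR x _ _ ((hur x x).trans (hur y x).symm)
  -- descend the unit
  have : Surjective X.hom := ⟨fun s => by
    have : Surjective (Spec.map (CommRingCat.ofHom (Ideal.Quotient.mk I))) := ⟨fun p => by
      have h : p ∈ Set.range (PrimeSpectrum.comap (Ideal.Quotient.mk I)) := by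
        rw [range_comap_of_surjective _ _ Ideal.Quotient.mk_surjective, PrimeSpectrum.mem_zeroLocus, Ideal.mk_ker]
        intro x hx
        obtain ⟨n, hn⟩ := hI
        exact p.isPrime.mem_of_pow_mem n (by
          have := Ideal.pow_mem_pow hx n; rw [hn] at this; rw [(Submodule.mem_bot R).1 this]; exact zero_mem _)
      exact h⟩
    obtain ⟨s₀, hs₀⟩ := (Spec.map (CommRingCat.ofHom (Ideal.Quotient.mk I))).surjective s
    have hw : η[F.obj X].left ≫ pullback.snd X.hom _ = 𝟙 _ := Over.w η[F.obj X]
    refine ⟨(η[F.obj X].left ≫ pullback.fst X.hom _) s₀, ?_⟩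
    rw [← Scheme.Hom.comp_apply, Category.assoc, pullback.condition, ← Category.assoc, hw, Category.id_comp]
    exact hs₀⟩
  have hX' : (toUnit X).left = X.hom := by simp
  have hcov : Lib.GrpQ.IsCovering (toUnit X) := ⟨X.left, X.hom, 𝟙 _, by rw [Category.id_comp, hX'],
    isQcc_of_surjective X.hom hX⟩
  obtain ⟨e, he⟩ := hcov.exists_desc u fun T x y _ => hinvar T x y
  have hey : ∀ {T : Over (Spec (CommRingCat.of R))} (y : T ⟶ X), toUnit T ≫ e = y ≫ u := fun y => by
    rw [← he, ← Category.assoc, toUnit_unique (y ≫ toUnit X) (toUnit _)]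
  let invX : X ⟶ X := lift (𝟙 X) u ≫ inv r ≫ snd X X
  have hri : op (𝟙 X) invX = toUnit X ≫ e := by rw [hdiv, hey (𝟙 X), Category.id_comp]
  have hli : op invX (𝟙 X) = toUnit X ≫ e := by
    refine cancelR (𝟙 X) _ _ ?_
    rw [← assoc', hri, hey (𝟙 X), hul, hur]
  let M : MonObj X :=
    { one := e
      mul := P
      one_mul := by
        have e1 : (e ▷ X) ≫ P = op (toUnit (𝟙_ _ ⊗ X) ≫ e) (snd (𝟙_ _) X) := by
          show _ = lift _ _ ≫ P
          congr 1
          all_goals (refine CartesianMonoidalCategory.hom_ext _ _ ?_ ?_ <;> simp [toUnit_unique (fst (𝟙_ _) X) (toUnit _)])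
        rw [e1, hey (snd _ _), hul, leftUnitor_hom]
      mul_one := by
        have e1 : (X ◁ e) ≫ P = op (fst X (𝟙_ _)) (toUnit (X ⊗ 𝟙_ _) ≫ e) := by
          show _ = lift _ _ ≫ P
          congr 1
          refine CartesianMonoidalCategory.hom_ext _ _ ?_ ?_ <;> simp [toUnit_unique (snd X (𝟙_ _)) (toUnit _)]
        rw [e1, hey (fst _ _), hur, rightUnitor_hom]
      mul_assoc := hassoc }
  exact ⟨{ toMonObj := M, inv := invX, left_inv := hli, right_inv := hri }, rfl⟩

end Groth.Agent.S8366
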