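import Groth.Statements.S8367
import Groth.Agent.Lib.Synt92.SmoothAmbient
import Groth.Agent.Lib.Synt92.KRImm
import Groth.Agent.H63.Homog.Syntomic

set_option backward.isDefEq.respectTransparency false
set_option backward.isDefEq.respectTransparency.types false

set_option autoImplicit false
universe u
open CategoryTheory MonObj AlgebraicGeometry
open SGA3 Groth.Agent.Lib.Synt92.KRImm

namespace Groth.Agent.S8367

/-- For a scheme S, a group scheme X smooth over S and a sub-group-scheme Y of X (a homomorphism of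
S-group schemes from Y to X which is an immersion) with Y flat and locally of finite presentation
over S, the immersion of Y in X is regular: each point of Y has an affine open neighbourhood in X
over which the immersion is closed and cut out by a regular sequence. (The published statement
concludes that Y is a local complete intersection in X, in the Koszul sense; this row states the
stronger conclusion that the immersion is regular, which is what the printed proof establishes.) -/
theorem result (S : Scheme.{u}) (X Y : Over S) [GrpObj X] [GrpObj Y]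
    [Smooth X.hom] [Flat Y.hom] [LocallyOfFinitePresentation Y.hom] (i : Y ⟶ X) [IsMonHom i]
    [IsImmersion i.left] :
    RegImm.IsRegularImmersion .regular i.left := by
  refine ⟨inferInstance, fun z => ?_⟩
  obtain ⟨_, ⟨U, hU, rfl⟩, hzU, -⟩ :=
    S.isBasis_affineOpens.exists_subset_of_mem_open (Set.mem_univ (X.hom (i.left z))) isOpen_univ
  obtain ⟨⟨V, hV⟩, hzV, hVU, hcl⟩ :=
    Groth.Agent.Lib.Synt92.KRImm.exists_closed_chart i.left z (O := X.hom ⁻¹ᵁ U) hzU
  obtain ⟨hW, hsurj⟩ := Groth.Agent.Lib.Synt92.KRImm.isAffine_preimage i.left hV hcl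
  set W := i.left ⁻¹ᵁ V with hWdef
  have hWU : W ≤ Y.hom ⁻¹ᵁ U := by
    rw [← Over.w i, Scheme.Hom.comp_preimage]
    exact i.left.preimage_mono hVU
  letI : Algebra Γ(S, U) Γ(X.left, V) := (X.hom.appLE U V hVU).hom.toAlgebra
  haveI : Algebra.Smooth Γ(S, U) Γ(X.left, V) := RingHom.smooth_algebraMap.1 (X.hom.smooth_appLE hU hV hVU)
  letI : Algebra Γ(S, U) Γ(Y.left, W) := (Y.hom.appLE U W hWU).hom.toAlgebra
  have hfl : (Y.hom.appLE U W hWU).hom.Flat :=
    HasRingHomProperty.appLE @Flat Y.hom inferInstance ⟨U, hU⟩ ⟨W, hW⟩ hWU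
  have hfp : (Y.hom.appLE U W hWU).hom.FinitePresentation :=
    HasRingHomProperty.appLE @LocallyOfFinitePresentation Y.hom inferInstance ⟨U, hU⟩ ⟨W, hW⟩ hWU
  haveI : Algebra.FinitePresentation Γ(S, U) Γ(Y.left, W) := hfp
  have hsyn : Synt.IsSyntomic Γ(S, U) Γ(Y.left, W) := ⟨hfl, hfp, fun p =>
    Groth.Agent.H63.Homog.Syntomic.isLCIOver_fibre Y hW.fromSpec hU.fromSpec
      (hU.SpecMap_appLE_fromSpec Y.hom hW hWU).symm p⟩
  let I := RingHom.ker (i.left.app V).hom
  have hI : Synt.IsSyntomic Γ(S, U) (Γ(X.left, V) ⧸ I) := by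
    refine Groth.Agent.Lib.Synt92.MorStd.isSyntomic_of_arrow (RingEquiv.refl _)
      (RingHom.quotientKerEquivOfSurjective hsurj) (fun a => ?_) hsyn
    show (i.left.app V).hom ((X.hom.appLE U V hVU).hom a) = (Y.hom.appLE U W hWU).hom a
    rw [Scheme.Hom.app_eq_appLE, ← RingHom.comp_apply, ← CommRingCat.hom_comp, Scheme.Hom.appLE_comp_appLE]
    simp only [Over.w i]
    rfl
  let P := (hV.primeIdealOf ⟨i.left z, hzV⟩).asIdeal
  haveI : P.IsPrime := (hV.primeIdealOf ⟨i.left z, hzV⟩).isPrime
  have hIP : I ≤ P := fun f hf => by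
    by_contra h
    have h1 : z ∈ i.left ⁻¹ᵁ X.left.basicOpen f := (mem_basicOpen_iff hV f ⟨i.left z, hzV⟩).2 h
    rw [Scheme.preimage_basicOpen] at h1
    erw [RingHom.mem_ker.1 hf, Scheme.basicOpen_zero] at h1
    exact h1
  obtain ⟨g, hg, l, hlI, hreg, hgl⟩ := Groth.Agent.Lib.Synt92.SmoothAmbient.exists_chart I hI P hIP
  haveI := hV.isLocalization_basicOpen g
  let r := algebraMap Γ(X.left, V) Γ(X.left, X.left.basicOpen g)
  have hker : RingHom.ker (i.left.app (X.left.basicOpen g)).hom = Ideal.ofList (l.map r) := by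
    rw [Groth.Agent.Lib.Synt92.KRImm.ker_app_basicOpen _ hV hcl g, ← Ideal.map_ofList]
    refine le_antisymm (Ideal.map_le_iff_le_comap.2 fun y hy => ?_) (Ideal.map_mono (Ideal.span_le.2 hlI))
    rw [Ideal.mem_comap]
    have h := Ideal.mem_map_of_mem r (hgl y hy)
    rw [map_mul] at h
    exact (Ideal.unit_mul_mem_iff_mem _ (IsLocalization.Away.algebraMap_isUnit g)).1 h
  refine ⟨⟨X.left.basicOpen g, hV.basicOpen g⟩, (mem_basicOpen_iff hV g ⟨i.left z, hzV⟩).2 hg,
    Groth.Agent.Lib.Synt92.KRImm.closed_of_le _ (X.left.basicOpen_le g) hcl, l.map r, ⟨?_, ?_⟩, hker⟩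
  · let e := IsLocalization.algEquiv (Submonoid.powers g) (Localization.Away g) Γ(X.left, X.left.basicOpen g)
    refine (e.toRingEquiv.toAddEquiv.isWeaklyRegular_congr ?_).1 hreg
    rw [List.forall₂_map_left_iff, List.forall₂_map_right_iff, List.forall₂_same]
    intro a _ x
    change e (algebraMap _ _ a * x) = r a * e x
    rw [map_mul, e.commutes]
  · rw [smul_eq_mul, Ideal.mul_top, ← hker]
    intro h
    have h1 : (1 : Γ(X.left, X.left.basicOpen g)) ∈ RingHom.ker (i.left.app (X.left.basicOpen g)).hom :=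
      h ▸ Submodule.mem_top
    rw [RingHom.mem_ker, map_one] at h1
    have h3 : z ∈ i.left ⁻¹ᵁ X.left.basicOpen g := (mem_basicOpen_iff hV g ⟨i.left z, hzV⟩).2 hg
    have h2 : z ∈ Y.left.basicOpen (1 : Γ(Y.left, i.left ⁻¹ᵁ X.left.basicOpen g)) := by
      rw [Y.left.basicOpen_of_isUnit isUnit_one]; exact h3
    rw [h1, Scheme.basicOpen_zero] at h2
    exact h2

end Groth.Agent.S8367
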