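import Groth.Statements.S8370
import Groth.Agent.Lib.LieS.Points
-- import your own Groth.Agent.* helpers here

set_option autoImplicit false
universe u
open CategoryTheory MonObj AlgebraicGeometry
open LieS

namespace Groth.Agent.S8370

open MonoidalCategory CartesianMonoidalCategory GrpObj
open Groth.Agent.Lib.LieS.Points

theorem comp_affine {S : Scheme.{u}} {G K : Over S} [GrpObj G] [GrpObj K] (i : K ⟶ G)
    {B : Type u} [CommRing B] {f : Spec (CommRingCat.of B) ⟶ S} (x : LieS.Lie G B f)
    (H : ∀ (B' : Type u) [CommRing B'] (h : B →+* B')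
      (k : LieS.pt B' (Spec.map (CommRingCat.ofHom h) ≫ f) ⟶ K),
      LieS.Ad G B' (Spec.map (CommRingCat.ofHom h) ≫ f) (k ≫ i) (LieS.pull G f h x) =
        LieS.pull G f h x)
    (C : Type u) [CommRing C] (h : B →+* C) (c : C) (hc : c * c = 0) (k : P f h ⟶ K) :
    (evMap f h c hc ≫ x.1) * (k ≫ i) = (k ≫ i) * (evMap f h c hc ≫ x.1) := by
  let σ := Spec.map (CommRingCat.ofHom h) ≫ f
  let s : P f h ⟶ LieS.dpt C σ :=
    Over.homMk (Spec.map (CommRingCat.ofHom (LieS.dualHom (RingHom.id C) c hc))) (by
      change Spec.map _ ≫ Spec.map _ ≫ σ = σ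
      rw [← Category.assoc, LieS.specMap_comp, LieS.dualHom_comp_algebraMap, CommRingCat.ofHom_id]
      erw [Spec.map_id]
      exact Category.id_comp _)
  have hsp : s ≫ LieS.proj C σ = 𝟙 _ := by
    ext
    change Spec.map _ ≫ Spec.map _ = 𝟙 _
    rw [LieS.specMap_comp, LieS.dualHom_comp_algebraMap, CommRingCat.ofHom_id]
    exact Spec.map_id _
  have hsx : s ≫ LieS.dptMap f h = evMap f h c hc := by
    ext
    change Spec.map _ ≫ Spec.map _ = Spec.map _
    rw [LieS.specMap_comp]
    congr 2
    exact RingHom.ext fun a => by simp [LieS.bcHom, TrivSqZeroExt.algebraMap_eq_inl']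
  have e : (LieS.proj C σ ≫ k ≫ i) * (LieS.dptMap f h ≫ x.1) * (LieS.proj C σ ≫ k ≫ i)⁻¹ =
      LieS.dptMap f h ≫ x.1 := congrArg Subtype.val (H C h k)
  have e2 := congrArg (s ≫ ·) e
  simp only [MonObj.comp_mul, GrpObj.comp_inv, ← Category.assoc, hsp, hsx, Category.id_comp] at e2
  exact (mul_inv_eq_iff_eq_mul.mp e2).symm

/-- For a group scheme G over a scheme S (the group law of the Lie algebra functor of a group scheme is
commutative, which the published statement assumes), a sub-group-scheme K of G given by a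
monomorphic homomorphism i, and an affine S-scheme T = Spec B: an element x of Lie(G/S)(T) belongs
to the Lie algebra of the centraliser of K, i.e. the point x of G with values in the dual numbers
I_T commutes with every point of K with values in any scheme over I_T, if and only if x is fixed by
the adjoint action of every point of K with values in an affine scheme T' = Spec B' over T (acting
on the restriction of x to T'). -/
theorem result (S : Scheme.{u}) (G K : Over S) [GrpObj G] [GrpObj K] (i : K ⟶ G)
    [IsMonHom i] [Mono i] (B : Type u) [CommRing B] (f : Spec (CommRingCat.of B) ⟶ S) (x : LieS.Lie G B f) :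
    (∀ (X' : Over S) (y : X' ⟶ LieS.dpt B f) (h : X' ⟶ K), (y ≫ x.1) * (h ≫ i) = (h ≫ i) * (y ≫ x.1)) ↔
    (∀ (B' : Type u) [CommRing B'] (h : B →+* B')
      (k : LieS.pt B' (Spec.map (CommRingCat.ofHom h) ≫ f) ⟶ K),
      LieS.Ad G B' (Spec.map (CommRingCat.ofHom h) ≫ f) (k ≫ i) (LieS.pull G f h x) = LieS.pull G f h x) := by
  constructor
  · intro H B' _ h k
    apply Subtype.ext
    have e := H _ (LieS.dptMap f h) (LieS.proj B' _ ≫ k)
    rw [Category.assoc] at e
    show (LieS.proj B' _ ≫ k ≫ i) * (LieS.dptMap f h ≫ x.1) * (LieS.proj B' _ ≫ k ≫ i)⁻¹ =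
      LieS.dptMap f h ≫ x.1
    rw [← e, _root_.mul_inv_cancel_right]
  · intro H X' y hh
    apply Over.OverMorphism.ext
    refine Scheme.Cover.hom_ext X'.left.affineCover _ _ fun jj => ?_
    obtain ⟨ψ, hψ⟩ := Spec.map_surjective (X'.left.affineCover.f jj ≫ y.left)
    let c := ψ.hom DualNumber.eps
    let h : B →+* _ := ψ.hom.comp (algebraMap B (DualNumber B))
    have hc : c * c = 0 := by rw [← map_mul, LieS.eps_sq, map_zero]
    have hd : CommRingCat.ofHom (LieS.dualHom h c hc) = ψ := by
      ext : 1
      exact (eq_dualHom ψ.hom).symm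
    have hle : X'.left.affineCover.f jj ≫ y.left =
        Spec.map (CommRingCat.ofHom (LieS.dualHom h c hc)) :=
      hψ.symm.trans (congrArg Spec.map hd.symm)
    let jm : P f h ⟶ X' := Over.homMk (X'.left.affineCover.f jj)
      ((congrArg (X'.left.affineCover.f jj ≫ ·) (Over.w y)).symm.trans
        ((Category.assoc _ _ _).symm.trans
          ((congrArg (· ≫ (LieS.dpt B f).hom) hle).trans (Over.w (evMap f h c hc)))))
    have hy : jm ≫ y = evMap f h c hc := Over.OverMorphism.ext hle
    have e := comp_affine i x H _ h c hc (jm ≫ hh)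
    rw [← hy, Category.assoc, Category.assoc, ← MonObj.comp_mul, ← MonObj.comp_mul] at e
    exact congrArg Over.Hom.left e

end Groth.Agent.S8370
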