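import Groth.Statements.S8372
import Groth.Agent.H66.Cartan.Main
-- import your own Groth.Agent.* helpers here

set_option autoImplicit false
universe u
open scoped TensorProduct
open SGA3t2b

namespace Groth.Agent.S8372

/-- Over an affine base Spec A: let L be a Lie algebra over the commutative ring A which is a finitely
generated projective A-module, and a an element of L which is quasi-regular (its image in every
fibre κ(p) ⊗ L is a regular element). Then every Cartan subalgebra of L relative to A (locally a
direct summand, with nilpotent self-normalizing fibres) which contains a is the Engel subalgebra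
Nil(a, L) of elements killed by a power of ad(a); and a lies in some relative Cartan subalgebra (a
is regular) if and only if the quotient module of L by Nil(a, L) is projective and ad(a) induces a
bijection of that quotient (injective and surjective modulo Nil(a, L)). -/
theorem result {A : Type u} [CommRing A] {L : Type u} [LieRing L]
    [LieAlgebra A L] [Module.Finite A L] [Module.Projective A L] (a : L) (ha : SGA3t2b.IsQuasiRegular A L a) :
    (∀ H : LieSubalgebra A L, SGA3t2b.IsCartanRel H → a ∈ H → H = LieSubalgebra.engel A a) ∧
    ((∃ H : LieSubalgebra A L, SGA3t2b.IsCartanRel H ∧ a ∈ H) ↔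
      (Module.Projective A (L ⧸ (LieSubalgebra.engel A a).toSubmodule) ∧
        (∀ z : L, ⁅a, z⁆ ∈ LieSubalgebra.engel A a → z ∈ LieSubalgebra.engel A a) ∧
        (∀ y : L, ∃ z : L, ⁅a, z⁆ - y ∈ LieSubalgebra.engel A a))) := by
  exact ⟨fun H hH haH => Groth.Agent.H66.Cartan.eq_engel hH haH ha, Groth.Agent.H66.Cartan.exists_cartanRel_iff ha⟩

end Groth.Agent.S8372
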