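import Groth.Statements.S8373
import Groth.Agent.H66.Cartan.Main
-- import your own Groth.Agent.* helpers here

set_option autoImplicit false
universe u
open scoped TensorProduct
open SGA3t2b

namespace Groth.Agent.S8373

/-- Over an affine base Spec A: let L be a Lie algebra over A which is a finitely generated projective
A-module, H a Cartan subalgebra of L relative to A, a an element of H which is quasi-regular in L,
and u an automorphism of the Lie algebra L over A. Then u(H) = H if and only if u(a) ∈ H. -/
theorem result {A : Type u} [CommRing A] {L : Type u} [LieRing L]
    [LieAlgebra A L] [Module.Finite A L] [Module.Projective A L]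
    (H : LieSubalgebra A L) (hH : SGA3t2b.IsCartanRel H) (a : L) (haH : a ∈ H)
    (ha : SGA3t2b.IsQuasiRegular A L a) (u : L ≃ₗ⁅A⁆ L) :
    H.map u.toLieHom = H ↔ u a ∈ H := by
  exact Groth.Agent.H66.Cartan.map_eq_iff H hH a haH ha u

end Groth.Agent.S8373
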