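import Groth.Statements.S8374
import Groth.Agent.H66.Cartan.Main
-- import your own Groth.Agent.* helpers here

set_option autoImplicit false
universe u
open scoped TensorProduct
open SGA3t2b

namespace Groth.Agent.S8374

/-- Over an affine base Spec A: let L be a Lie algebra over A which is a finitely generated projective
A-module, H a Cartan subalgebra of L relative to A, and p a prime of A whose residue field is
infinite. Then there are f ∈ A with f ∉ p and an element a ∈ H such that a is a regular element of
every fibre κ(q) ⊗ L with f ∉ q, H is contained in the Engel subalgebra Nil(a, L), and every element
of Nil(a, L) is carried into H by some power of f; that is, over the basic open set D(f) the section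
a is regular and H coincides with Nil(a, L). (The published statement gives a regular section of H
over some open neighbourhood of p; this row takes a global element of H and a basic open
neighbourhood D(f), which is equivalent over an affine base because multiplying by a function
invertible on D(f) does not change regularity.) -/
theorem result {A : Type u} [CommRing A] {L : Type u} [LieRing L]
    [LieAlgebra A L] [Module.Finite A L] [Module.Projective A L]
    (H : LieSubalgebra A L) (hH : SGA3t2b.IsCartanRel H) (p : PrimeSpectrum A)
    (hp : Infinite p.asIdeal.ResidueField) :
    ∃ f : A, f ∉ p.asIdeal ∧ ∃ a : L, a ∈ H ∧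
      (∀ q : PrimeSpectrum A, f ∉ q.asIdeal →
        LieAlgebra.IsRegular q.asIdeal.ResidueField ((1 : q.asIdeal.ResidueField) ⊗ₜ[A] a)) ∧
      H ≤ LieSubalgebra.engel A a ∧
      ∀ y : L, y ∈ LieSubalgebra.engel A a → ∃ n : ℕ, f ^ n • y ∈ H := by
  exact Groth.Agent.H66.Cartan.near_point H hH p hp

end Groth.Agent.S8374
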