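import Groth.Statements.S8375
import Groth.Agent.H66.Cartan.Main
-- import your own Groth.Agent.* helpers here

set_option autoImplicit false
universe u
open scoped TensorProduct
open SGA3t2b

namespace Groth.Agent.S8375

/-- Over an affine base Spec A: let L be a Lie algebra over A which is a finitely generated projective
A-module, such that the nilpotent rank of the fibre Lie algebras κ(p) ⊗ L is a locally constant
function of p ∈ Spec A. Then for every a ∈ L the set of primes p at which 1 ⊗ a is a regular element
of κ(p) ⊗ L is open in Spec A. (The published statement is over an arbitrary base and first asserts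
that the locus of regular elements in the vector bundle of L is open; this row states its
consequence for a given section a, over an affine base.) -/
theorem result {A : Type u} [CommRing A] {L : Type u} [LieRing L]
    [LieAlgebra A L] [Module.Finite A L] [Module.Projective A L]
    (hC0 : ∀ p : PrimeSpectrum A, ∃ f : A, f ∉ p.asIdeal ∧ ∀ q : PrimeSpectrum A, f ∉ q.asIdeal →
        LieAlgebra.rank q.asIdeal.ResidueField (q.asIdeal.ResidueField ⊗[A] L) =
          LieAlgebra.rank p.asIdeal.ResidueField (p.asIdeal.ResidueField ⊗[A] L)) (a : L) :
    IsOpen {p : PrimeSpectrum A |
      LieAlgebra.IsRegular p.asIdeal.ResidueField ((1 : p.asIdeal.ResidueField) ⊗ₜ[A] a)} := by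
  exact Groth.Agent.H66.Cartan.isOpen_regular (Groth.Agent.H66.Cartan.isLocallyConstant_of_C0 hC0) a

end Groth.Agent.S8375
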