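import Groth.Statements.S8377
import Groth.Agent.H66.Cartan.Main
-- import your own Groth.Agent.* helpers here

set_option autoImplicit false
universe u
open scoped TensorProduct
open SGA3t2b

namespace Groth.Agent.S8377

/-- Let L be a Lie algebra over the commutative ring A which is a finitely generated projective
A-module. Suppose that the nilpotent rank of the fibres κ(p) ⊗ L is locally constant on Spec A, that
for every A-algebra A' every quasi-regular element of A' ⊗ L is regular (condition (C₂)), and that
every fibre κ(p) ⊗ L has a regular element (automatic when every residue field of A is infinite).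
Then L acquires a relative Cartan subalgebra after a faithfully flat etale base change A → A'
(condition (C′₁)). (The published implication (C₂) ⇒ (C′₁) is over an arbitrary base and has no
hypothesis on regular elements of the fibres; this row is over an affine base and assumes every
fibre has a regular element, the case in which the published argument, through the existence of a
Cartan subalgebra Zariski-locally near each such point, is complete.) -/
theorem result {A : Type u} [CommRing A] {L : Type u} [LieRing L]
    [LieAlgebra A L] [Module.Finite A L] [Module.Projective A L]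
    (hC2 : ((∀ p : PrimeSpectrum A, ∃ f : A, f ∉ p.asIdeal ∧ ∀ q : PrimeSpectrum A, f ∉ q.asIdeal →
        LieAlgebra.rank q.asIdeal.ResidueField (q.asIdeal.ResidueField ⊗[A] L) =
          LieAlgebra.rank p.asIdeal.ResidueField (p.asIdeal.ResidueField ⊗[A] L)) ∧
      ∀ (A' : Type u) [CommRing A'] [Algebra A A'] (a' : A' ⊗[A] L),
        SGA3t2b.IsQuasiRegular A' (A' ⊗[A] L) a' → SGA3t2b.IsRegularRel A' (A' ⊗[A] L) a'))
    (hreg : ∀ p : PrimeSpectrum A, ∃ x : p.asIdeal.ResidueField ⊗[A] L, LieAlgebra.IsRegular p.asIdeal.ResidueField x) :
    ∃ (A' : Type u) (_ : CommRing A') (_ : Algebra A A'), Algebra.Etale A A' ∧ Module.FaithfullyFlat A A' ∧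
        ∃ H : LieSubalgebra A' (A' ⊗[A] L), SGA3t2b.IsCartanRel H := by
  obtain ⟨A', _, _, het, hff, a', ha'⟩ :=
    Groth.Agent.H66.Cartan.exists_etale_quasiRegular (Groth.Agent.H66.Cartan.isLocallyConstant_of_C0 hC2.1) hreg
  obtain ⟨-, H, hH, -⟩ := hC2.2 A' a' ha'
  exact ⟨A', inferInstance, inferInstance, het, hff, H, hH⟩

end Groth.Agent.S8377
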