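import Groth.Statements.S8383
import Mathlib.RingTheory.MvPolynomial.Homogeneous
import Mathlib.RingTheory.MvPolynomial.Ideal
import Mathlib.RingTheory.MvPolynomial.Basic
import Mathlib.Combinatorics.Nullstellensatz
-- import your own Groth.Agent.* helpers here

set_option autoImplicit false
universe u
open scoped TensorProduct
open SGA3t2b

namespace Groth.Agent.S8383

/-- Let k be a finite field with algebraic closure K, V a finite-dimensional vector space over k, and
θ₁, …, θₙ a basis of the dual of the K-vector space K ⊗ V. Then there is x ∈ V with θᵢ(1 ⊗ x) ≠ 0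
for every i. -/
theorem result (k : Type u) [Field k] [Finite k]
    (V : Type u) [AddCommGroup V] [Module k V] [Module.Finite k V] {ι : Type} [Fintype ι]
    (θ : Module.Basis ι (AlgebraicClosure k) (Module.Dual (AlgebraicClosure k) (AlgebraicClosure k ⊗[k] V))) :
    ∃ x : V, ∀ i : ι, θ i ((1 : AlgebraicClosure k) ⊗ₜ[k] x) ≠ 0 := by
  classical
  let K := AlgebraicClosure k
  let bV := Module.Free.chooseBasis k V
  let J := Module.Free.ChooseBasisIndex k V
  let bK := bV.baseChange K
  haveI : Fintype k := Fintype.ofFinite k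
  obtain ⟨p, hchar⟩ := CharP.exists k
  haveI := hchar
  have hp : p.Prime := (CharP.char_is_prime k p)
  haveI : Fact p.Prime := ⟨hp⟩
  haveI : CharP K p := charP_of_injective_algebraMap (algebraMap k K).injective p
  let L : ι → MvPolynomial J K := fun i => ∑ j, θ i (bK j) • MvPolynomial.X j
  let f : MvPolynomial J K := ∏ i, L i
  have hdeg : ∀ i, (L i).IsHomogeneous 1 := fun i =>
    MvPolynomial.IsHomogeneous.sum _ _ _ fun j _ => by
      rw [MvPolynomial.smul_eq_C_mul]
      exact (MvPolynomial.isHomogeneous_C J _).mul (MvPolynomial.isHomogeneous_X K j)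
  have hfdeg : f.IsHomogeneous (Fintype.card ι) := by
    have := MvPolynomial.IsHomogeneous.prod (Finset.univ : Finset ι) L (fun _ => 1) (fun i _ => hdeg i)
    simpa [f] using this
  have hex : ∃ t : J →₀ ℕ, f.coeff t ≠ 0 ∧ ∀ j, t j < p := by
    by_contra hne
    push Not at hne
    let I : Ideal (MvPolynomial J K) := Ideal.span (Set.range fun j => (MvPolynomial.X j : MvPolynomial J K) ^ p)
    have hfI : f ∈ I := by
      rw [f.as_sum]
      refine Ideal.sum_mem _ fun t ht => ?_
      obtain ⟨j, hj⟩ := hne t (MvPolynomial.mem_support_iff.1 ht)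
      rw [MvPolynomial.monomial_eq]
      refine Ideal.mul_mem_left _ _ ?_
      rw [Finsupp.prod, ← Finset.mul_prod_erase _ _ (Finsupp.mem_support_iff.2 (by have := hp.pos; omega) : j ∈ t.support),
        ← Nat.sub_add_cancel hj, pow_add, mul_assoc, mul_comm ((MvPolynomial.X j : MvPolynomial J K) ^ p), ← mul_assoc]
      exact Ideal.mul_mem_left _ _ (Ideal.subset_span ⟨j, rfl⟩)
    let M : J → (MvPolynomial ι K) := fun j => ∑ i, θ.repr (bK.coord j) i • MvPolynomial.X i
    let σ : MvPolynomial J K →ₐ[K] MvPolynomial ι K := MvPolynomial.aeval M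
    have hσL : ∀ i, σ (L i) = MvPolynomial.X i := by
      intro i
      have hrow : ∀ i', ∑ j, θ i (bK j) * θ.repr (bK.coord j) i' = if i = i' then 1 else 0 := by
        intro i'
        have : θ i = ∑ j, θ i (bK j) • bK.coord j := bK.ext fun j' => by
          simp [LinearMap.sum_apply, Finsupp.single_apply]
        have h2 := congrArg (fun z => θ.repr z i') this
        simp only [map_sum, map_smul, θ.repr_self, Finsupp.single_apply, Finsupp.coe_finset_sum,
          Finset.sum_apply, Finsupp.coe_smul, Pi.smul_apply, smul_eq_mul] at h2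
        exact h2.symm
      simp only [σ, L, M, map_sum, map_smul, MvPolynomial.aeval_X, Finset.smul_sum, smul_smul]
      rw [Finset.sum_comm]
      simp only [← Finset.sum_smul, hrow, ite_smul, one_smul, zero_smul, Finset.sum_ite_eq, Finset.mem_univ, if_true]
    have h1 : σ f ∈ I.map σ.toRingHom := Ideal.mem_map_of_mem _ hfI
    rw [map_prod] at h1
    simp only [hσL] at h1
    have h2 : I.map σ.toRingHom ≤ Ideal.span (Set.range fun i => (MvPolynomial.X i : MvPolynomial ι K) ^ p) := by
      rw [Ideal.map_span, Ideal.span_le]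
      rintro _ ⟨_, ⟨j, rfl⟩, rfl⟩
      haveI : ExpChar (MvPolynomial ι K) p := ExpChar.prime hp
      simp only [AlgHom.toRingHom_eq_coe, RingHom.coe_coe, map_pow, σ, MvPolynomial.aeval_X, M, sum_pow_char,
        smul_pow]
      exact Ideal.sum_mem _ fun i _ => Submodule.smul_of_tower_mem _ _ (Ideal.subset_span ⟨i, rfl⟩)
    have h3 := h2 h1
    have h4 : (∏ i, (MvPolynomial.X i : MvPolynomial ι K)) = MvPolynomial.monomial (∑ i, Finsupp.single i 1) 1 := by
      rw [MvPolynomial.monomial_sum_one]; rfl
    rw [h4, show (Set.range fun i => (MvPolynomial.X i : MvPolynomial ι K) ^ p) =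
        (fun s => MvPolynomial.monomial s (1 : K)) '' Set.range (fun i : ι => Finsupp.single i p) by
      rw [← Set.range_comp]; simp only [Function.comp_def, MvPolynomial.X_pow_eq_monomial],
      MvPolynomial.mem_ideal_span_monomial_image] at h3
    obtain ⟨s, ⟨i, rfl⟩, hsi⟩ := h3 (∑ i : ι, Finsupp.single i 1) (MvPolynomial.mem_support_iff.2 (by rw [MvPolynomial.coeff_monomial, if_pos rfl]; exact one_ne_zero))
    have := hsi i
    simp [Finsupp.finset_sum_apply, Finsupp.single_apply] at this
    exact absurd hp.two_le (by omega)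
  obtain ⟨t, ht, htp⟩ := hex
  have hf0 : f ≠ 0 := fun h => ht (by rw [h, MvPolynomial.coeff_zero])
  have hdegt : f.totalDegree = t.degree := by
    rw [hfdeg.totalDegree hf0]
    by_contra h
    exact ht (hfdeg.coeff_eq_zero (Ne.symm h))
  have hcard : p ≤ (Finset.univ.image (algebraMap k K)).card := by
    rw [Finset.card_image_of_injective _ (algebraMap k K).injective, Finset.card_univ]
    obtain ⟨m, -, hm⟩ := FiniteField.card k p
    rw [hm]
    exact Nat.le_self_pow m.pos.ne' p
  obtain ⟨s, hs, hev⟩ := MvPolynomial.combinatorial_nullstellensatz_exists_eval_nonzero f t ht hdegt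
    (fun _ => Finset.univ.image (algebraMap k K)) (fun j => lt_of_lt_of_le (htp j) hcard)
  have hs' : ∀ j, ∃ c : k, algebraMap k K c = s j := fun j => by simpa using hs j
  choose c hc using hs'
  refine ⟨∑ j, c j • bV j, fun i hi => hev ?_⟩
  rw [map_prod]
  refine Finset.prod_eq_zero (Finset.mem_univ i) ?_
  rw [← hi, TensorProduct.tmul_sum, map_sum]
  simp only [L, map_sum, MvPolynomial.smul_eq_C_mul, map_mul, MvPolynomial.eval_C, MvPolynomial.eval_X]
  refine Finset.sum_congr rfl fun j _ => ?_
  rw [← hc j, TensorProduct.tmul_smul, ← algebraMap_smul K (c j), map_smul, smul_eq_mul,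
    Module.Basis.baseChange_apply, mul_comm]

end Groth.Agent.S8383
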