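import Groth.Statements.S8384
import Mathlib.RingTheory.AdicCompletion.RingHom
import Mathlib.AlgebraicGeometry.AffineScheme

set_option autoImplicit false
universe u
open CategoryTheory MonoidalCategory CartesianMonoidalCategory MonObj GrpObj AlgebraicGeometry
open SGA3x

namespace Groth.Agent.S8384


variable {A : Type u} [CommRing A] [IsLocalRing A]


theorem range_subset_of_closedPoint {X : Scheme.{u}} (f : Spec (CommRingCat.of A) ⟶ X) (V : X.Opens)
    (h : f.base (IsLocalRing.closedPoint A) ∈ V) : Set.range f.base ⊆ (V : Set X) := by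
  rintro _ ⟨p, rfl⟩
  exact (f ⁻¹ᵁ V).2.stableUnderGeneralization
    ((PrimeSpectrum.le_iff_specializes p (IsLocalRing.closedPoint A)).mp
      (IsLocalRing.le_maximalIdeal p.2.ne_top)) h

theorem specQuot_base (n : ℕ) (p : ↥(Spec (CommRingCat.of (A ⧸ (IsLocalRing.maximalIdeal A) ^ n)))) :
    (Spec.map (CommRingCat.ofHom (Ideal.Quotient.mk ((IsLocalRing.maximalIdeal A) ^ n)))).base p = IsLocalRing.closedPoint A := by
  apply PrimeSpectrum.ext
  change Ideal.comap (Ideal.Quotient.mk ((IsLocalRing.maximalIdeal A) ^ n)) p.asIdeal = (IsLocalRing.maximalIdeal A)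
  have hp : (Ideal.comap (Ideal.Quotient.mk ((IsLocalRing.maximalIdeal A) ^ n)) p.asIdeal).IsPrime := p.2.comap _
  refine le_antisymm (IsLocalRing.le_maximalIdeal hp.ne_top) (hp.le_of_pow_le (n := n) ?_)
  intro a ha
  simp [Ideal.Quotient.eq_zero_iff_mem.mpr ha]


/-- Let A be a local ring, separated and complete for the topology defined by its maximal ideal m, S =
Spec A and Sₙ = Spec(A/mⁿ). Then for every scheme X the canonical map Hom(S, X) → lim Hom(Sₙ, X) is
bijective: two morphisms S → X that agree on every Sₙ are equal, and every family of morphisms Sₙ →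
X compatible with the closed immersions Sₙ → Sₙ₊₁ is induced by a morphism S → X. -/
theorem result (A : Type u) [CommRing A] [IsLocalRing A]
    [IsAdicComplete (IsLocalRing.maximalIdeal A) A] (X : Scheme.{u}) :
    (∀ f g : (Spec (CommRingCat.of A)) ⟶ X,
      (∀ n : ℕ, (Spec.map (CommRingCat.ofHom (Ideal.Quotient.mk ((IsLocalRing.maximalIdeal A) ^ n)))) ≫ f = (Spec.map (CommRingCat.ofHom (Ideal.Quotient.mk ((IsLocalRing.maximalIdeal A) ^ n)))) ≫ g) → f = g) ∧
    (∀ u : (n : ℕ) → (Spec (CommRingCat.of (A ⧸ (IsLocalRing.maximalIdeal A) ^ n)) ⟶ X),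
      (∀ n : ℕ, (Spec.map (CommRingCat.ofHom (Ideal.Quotient.factor
          (Ideal.pow_le_pow_right (I := (IsLocalRing.maximalIdeal A)) (Nat.le_succ n))))) ≫ u (n + 1) = u n) →
      ∃ f : (Spec (CommRingCat.of A)) ⟶ X, ∀ n : ℕ, (Spec.map (CommRingCat.ofHom (Ideal.Quotient.mk ((IsLocalRing.maximalIdeal A) ^ n)))) ≫ f = u n) := by
  refine ⟨fun f g h => ?_, fun u hu => ?_⟩
  · skip
    obtain ⟨V, hV, hxV, -⟩ := exists_isAffineOpen_mem_and_subset
      (X := X) (x := f.base (IsLocalRing.closedPoint A)) (U := ⊤) trivial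
    have : Nontrivial (A ⧸ (IsLocalRing.maximalIdeal A) ^ 1) := by
      rw [pow_one]; exact Ideal.Quotient.nontrivial_iff.mpr (IsLocalRing.maximalIdeal.isMaximal A).ne_top
    obtain ⟨p⟩ : Nonempty ↥(Spec (CommRingCat.of (A ⧸ (IsLocalRing.maximalIdeal A) ^ 1))) :=
      inferInstanceAs (Nonempty (PrimeSpectrum (A ⧸ (IsLocalRing.maximalIdeal A) ^ 1)))
    have hfg : f.base (IsLocalRing.closedPoint A) = g.base (IsLocalRing.closedPoint A) := by
      rw [← specQuot_base 1 p]
      exact congr(($(h 1)).base p)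
    have hf : Set.range f.base ⊆ Set.range hV.fromSpec.base := by
      rw [hV.range_fromSpec]; exact range_subset_of_closedPoint f V hxV
    have hg : Set.range g.base ⊆ Set.range hV.fromSpec.base := by
      rw [hV.range_fromSpec]; exact range_subset_of_closedPoint g V (hfg ▸ hxV)
    obtain ⟨φ, hφ⟩ := Spec.map_surjective (IsOpenImmersion.lift hV.fromSpec f hf)
    obtain ⟨ψ, hψ⟩ := Spec.map_surjective (IsOpenImmersion.lift hV.fromSpec g hg)
    suffices φ = ψ by
      rw [← IsOpenImmersion.lift_fac hV.fromSpec f hf, ← IsOpenImmersion.lift_fac hV.fromSpec g hg,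
        ← hφ, ← hψ, this]
    ext a
    refine (IsHausdorff.eq_iff_smodEq (I := (IsLocalRing.maximalIdeal A))).mpr fun n => ?_
    have e : φ ≫ CommRingCat.ofHom (Ideal.Quotient.mk ((IsLocalRing.maximalIdeal A) ^ n)) = ψ ≫ CommRingCat.ofHom (Ideal.Quotient.mk ((IsLocalRing.maximalIdeal A) ^ n)) := by
      apply Spec.map_injective
      rw [Spec.map_comp, Spec.map_comp, hφ, hψ, ← cancel_mono hV.fromSpec]
      simp only [Category.assoc, IsOpenImmersion.lift_fac]
      exact h n
    rw [SModEq.sub_mem, smul_eq_mul, Ideal.mul_top]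
    exact (Ideal.Quotient.mk_eq_mk_iff_sub_mem _ _).mp congr(CommRingCat.Hom.hom $e a)
  · skip
    have : Nontrivial (A ⧸ (IsLocalRing.maximalIdeal A) ^ 1) := by
      rw [pow_one]; exact Ideal.Quotient.nontrivial_iff.mpr (IsLocalRing.maximalIdeal.isMaximal A).ne_top
    obtain ⟨p₁⟩ : Nonempty ↥(Spec (CommRingCat.of (A ⧸ (IsLocalRing.maximalIdeal A) ^ 1))) :=
      inferInstanceAs (Nonempty (PrimeSpectrum (A ⧸ (IsLocalRing.maximalIdeal A) ^ 1)))
    set x := (u 1).base p₁ with hx
    obtain ⟨V, hV, hxV, -⟩ := exists_isAffineOpen_mem_and_subset (X := X) (x := x) (U := ⊤) trivial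
    have inj : ∀ (n : ℕ) (p q : ↥(Spec (CommRingCat.of (A ⧸ (IsLocalRing.maximalIdeal A) ^ n)))), p = q := fun n p q =>
      PrimeSpectrum.comap_injective_of_surjective (Ideal.Quotient.mk ((IsLocalRing.maximalIdeal A) ^ n)) Ideal.Quotient.mk_surjective
        ((specQuot_base n p).trans (specQuot_base n q).symm)
    have hr : ∀ (n : ℕ) (p : ↥(Spec (CommRingCat.of (A ⧸ (IsLocalRing.maximalIdeal A) ^ n)))), (u n).base p = x := by
      intro n
      induction n with
      | zero =>
        intro p
        have : Subsingleton (A ⧸ (IsLocalRing.maximalIdeal A) ^ 0) :=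
          Ideal.Quotient.subsingleton_iff.mpr (by rw [pow_zero, Ideal.one_eq_top])
        exact absurd (Subsingleton.elim (1 : A ⧸ (IsLocalRing.maximalIdeal A) ^ 0) 0)
          (fun h => p.2.ne_top ((Ideal.eq_top_iff_one _).mpr (h ▸ p.asIdeal.zero_mem)))
      | succ n ih =>
        intro p
        rcases Nat.eq_zero_or_pos n with rfl | hn
        · rw [inj _ p p₁]
        · have : Nontrivial (A ⧸ (IsLocalRing.maximalIdeal A) ^ n) := Ideal.Quotient.nontrivial_iff.mpr fun h =>
            (IsLocalRing.maximalIdeal.isMaximal A).ne_top (top_le_iff.mp (h ▸ Ideal.pow_le_self hn.ne'))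
          obtain ⟨q⟩ : Nonempty ↥(Spec (CommRingCat.of (A ⧸ (IsLocalRing.maximalIdeal A) ^ n))) :=
            inferInstanceAs (Nonempty (PrimeSpectrum (A ⧸ (IsLocalRing.maximalIdeal A) ^ n)))
          have h' := congr(($(hu n)).base q)
          rw [← ih q, ← h']
          exact congrArg _ (inj _ p _)
    have hsub : ∀ n, Set.range (u n).base ⊆ Set.range hV.fromSpec.base := by
      intro n; rw [hV.range_fromSpec]; rintro _ ⟨p, rfl⟩; rw [hr n p]; exact hxV
    choose φ hφ using fun n => Spec.map_surjective (IsOpenImmersion.lift hV.fromSpec (u n) (hsub n))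
    have hstep : ∀ n, (Ideal.Quotient.factorPow (IsLocalRing.maximalIdeal A) (Nat.le_succ n)).comp (φ (n + 1)).hom = (φ n).hom := by
      intro n
      have : φ (n + 1) ≫ CommRingCat.ofHom (Ideal.Quotient.factorPow (IsLocalRing.maximalIdeal A) (Nat.le_succ n)) = φ n := by
        apply Spec.map_injective
        rw [Spec.map_comp, hφ, hφ, ← cancel_mono hV.fromSpec, Category.assoc, IsOpenImmersion.lift_fac,
          IsOpenImmersion.lift_fac]
        exact hu n
      exact congr(CommRingCat.Hom.hom $this)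
    have hcomp : ∀ {m n : ℕ} (hle : m ≤ n), (Ideal.Quotient.factorPow (IsLocalRing.maximalIdeal A) hle).comp (φ n).hom = (φ m).hom := by
      intro m n hle
      induction n, hle using Nat.le_induction with
      | base => ext a; simp
      | succ n hle ih => rw [← ih, ← hstep n, ← RingHom.comp_assoc]; congr 1; ext a; simp
    refine ⟨Spec.map (CommRingCat.ofHom (IsAdicComplete.liftRingHom (IsLocalRing.maximalIdeal A) (fun n => (φ n).hom) hcomp)) ≫ hV.fromSpec,
      fun n => ?_⟩
    rw [← Category.assoc, ← Spec.map_comp, ← CommRingCat.ofHom_comp]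
    erw [IsAdicComplete.mk_comp_liftRingHom]
    rw [CommRingCat.ofHom_hom, hφ n, IsOpenImmersion.lift_fac]

end Groth.Agent.S8384
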