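import Groth.Statements.S8386
import Groth.Agent.H87.FinEtaleData
import Groth.Agent.H87.NilSurj
import Groth.Agent.H87.MultLiftNil
-- import your own Groth.Agent.* helpers here

set_option autoImplicit false
set_option linter.style.haveILetI false
universe u
open CategoryTheory MonoidalCategory CartesianMonoidalCategory MonObj GrpObj AlgebraicGeometry
open SGA3x

namespace Groth.Agent.S8386

open Groth.Agent Groth.Agent.Lib.Tori

/-- Over an affine base: let A be a ring, J an ideal of A all of whose elements are nilpotent, S = Spec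
A, S₀ = Spec(A/J), G an S-group scheme flat and of finite presentation over S, and H₀ a subgroup
scheme of G₀ = G ×_S S₀ which is smooth and finite over S₀, of multiplicative type and central in
G₀. Then there is a subgroup scheme H of G of multiplicative type with H ×_S S₀ = H₀ as subgroups of
G₀; it is unique (any two such are isomorphic over G); and H is central in G. -/
theorem result (A : Type u) [CommRing A] (J : Ideal A)
    (hJ : ∀ x ∈ J, IsNilpotent x) (G : Over (Spec (CommRingCat.of A))) [GrpObj G] [Flat G.hom] [QuasiCompact G.hom]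
    [QuasiSeparated G.hom] [LocallyOfFinitePresentation G.hom]
    (H₀ : Over (Spec (CommRingCat.of (A ⧸ J)))) [GrpObj H₀] (j₀ : H₀ ⟶ Red.bc (Spec.map (CommRingCat.ofHom (Ideal.Quotient.mk J))) G) [IsMonHom j₀] [Mono j₀]
    [Smooth H₀.hom] [IsFinite H₀.hom] (hm₀ : SGA3x.IsMultTypeFT H₀)
    (hc₀ : (∀ (X : Over _) (x : X ⟶ _) (g : X ⟶ Red.bc (Spec.map (CommRingCat.ofHom (Ideal.Quotient.mk J))) G), (x ≫ j₀) * g = g * (x ≫ j₀))) :
    (∃ (H : Over (Spec (CommRingCat.of A))) (_ : GrpObj H) (j : H ⟶ G), IsMonHom j ∧ Mono j ∧ SGA3x.IsMultTypeFT H ∧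
      (∃ e : Red.bc (Spec.map (CommRingCat.ofHom (Ideal.Quotient.mk J))) H ≅ H₀, e.hom ≫ j₀ = (Over.pullback (Spec.map (CommRingCat.ofHom (Ideal.Quotient.mk J)))).map j) ∧
      (∀ (X : Over _) (x : X ⟶ _) (g : X ⟶ G), (x ≫ j) * g = g * (x ≫ j)) ∧
      ∀ (H' : Over (Spec (CommRingCat.of A))) [GrpObj H'] (j' : H' ⟶ G) [IsMonHom j'] [Mono j'], SGA3x.IsMultTypeFT H' →
        (∃ e' : Red.bc (Spec.map (CommRingCat.ofHom (Ideal.Quotient.mk J))) H' ≅ H₀, e'.hom ≫ j₀ = (Over.pullback (Spec.map (CommRingCat.ofHom (Ideal.Quotient.mk J)))).map j') →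
        ∃ φ : H' ≅ H, φ.hom ≫ j = j') := by
  let i := Spec.map (CommRingCat.ofHom (Ideal.Quotient.mk J))
  haveI : Surjective i := H87.NilSurj.surjective_mk J hJ
  haveI : IsClosedImmersion i := IsClosedImmersion.spec_of_surjective _ Ideal.Quotient.mk_surjective
  have hls : Lib.MultAvg.LocSplit H₀ := by
    obtain ⟨S', f, h1, h2, h3, h4⟩ := id hm₀
    exact ⟨S', f, h1, h2, h3, fun s' => by
      obtain ⟨U, hU, M, iM, -, he⟩ := h4 s'
      exact ⟨U, hU, M, iM, he⟩⟩
  obtain ⟨H, _, hH, ⟨c⟩⟩ := H87.Bridge.exists_lift_finite hJ H₀ hls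
  obtain ⟨e, he⟩ : ∃ e : Red.bc i H ≅ H₀, IsMonHom e.hom :=
    ⟨BaseChange.overIso c, BaseChange.isMonHom_overIso c⟩
  haveI := he
  have hdata : ∀ (P : Over (Spec (CommRingCat.of A))) [GrpObj P], SGA3x.IsMultTypeFT P →
      (Red.bc i P ≅ H₀) → H87.CentralFinEtale.KilledLocally P := by
    intro P _ hP ε
    haveI : IsIso ε.hom.left := inferInstanceAs (IsIso ((Over.forget _).map ε.hom))
    haveI : IsFinite (Red.bc i P).hom := by rw [← Over.w ε.hom]; infer_instance
    haveI : Smooth (Red.bc i P).hom := by rw [← Over.w ε.hom]; infer_instance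
    exact H87.FinEtaleData.killedLocally_of_mod i P hP
  have hHd := hdata H hH e
  have hc : ∀ (X : Over (Spec (CommRingCat.of (A ⧸ J)))) (x : X ⟶ Red.bc i H) (g : X ⟶ Red.bc i G),
      (x ≫ e.hom ≫ j₀) * g = g * (x ≫ e.hom ≫ j₀) := fun X x g => by
    simpa only [Category.assoc] using hc₀ X (x ≫ e.hom) g
  obtain ⟨j, hj, hjmod, hjc, hjuniq⟩ := H87.CentralFinEtale.exists_hom_lift i (e.hom ≫ j₀) hc hHd
  haveI := hj
  have hcomm : ∀ (P : Over (Spec (CommRingCat.of A))) [GrpObj P], SGA3x.IsMultTypeFT P →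
      ∀ (Y : Over (Spec (CommRingCat.of A))) (u : Red.bc i Y ⟶ Red.bc i P)
        (X : Over (Spec (CommRingCat.of (A ⧸ J)))) (x : X ⟶ Red.bc i Y) (g : X ⟶ Red.bc i P),
        (x ≫ u) * g = g * (x ≫ u) := fun P _ hP Y u X x g => H87.Normal.comm (H87.Normal.multTypeFT_bc hP i) _ _
  haveI : Flat H.hom := H87.MT.flat hH
  haveI : LocallyOfFinitePresentation H.hom := H87.MT.locallyOfFinitePresentation hH
  haveI : Mono j := ⟨fun {X} a b hab => by
    have hab' : (Over.pullback i).map a = (Over.pullback i).map b := by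
      rw [← cancel_mono (e.hom ≫ j₀), ← hjmod, ← Functor.map_comp, ← Functor.map_comp, hab]
    exact H87.CentralFinEtale.eq_of_data i (𝟙 _) (hcomm H hH H (𝟙 _)) hHd a b ((Over.pullback i).map a)
      (Category.comp_id _).symm (hab'.symm.trans (Category.comp_id _).symm)
      (fun D n hn Y k hY => (hn Y (k ≫ a) hY).trans (hn Y (k ≫ b) hY).symm)⟩
  refine ⟨H, inferInstance, j, hj, inferInstance, hH, ⟨e, hjmod.symm⟩, hjc, ?_⟩
  intro H' _ j' _ _ hH' ⟨e', he'⟩
  haveI : IsMonHom e'.hom := H87.HomDS.isMonHom_of_points _ fun X a b => by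
    rw [← cancel_mono j₀, MonObj.mul_comp _ _ j₀]
    simp only [Category.assoc, he', MonObj.mul_comp]
  haveI : Flat H'.hom := H87.MT.flat hH'
  haveI : LocallyOfFinitePresentation H'.hom := H87.MT.locallyOfFinitePresentation hH'
  haveI : IsAffineHom H'.hom := H87.MT.isAffineHom hH'
  haveI : IsAffineHom H.hom := H87.MT.isAffineHom hH
  have hHd' := hdata H' hH' e'
  obtain ⟨ψ, hψ, hψmod, -, -⟩ := H87.CentralFinEtale.exists_hom_lift i (e.hom ≫ e'.inv)
    (hcomm H' hH' H _) hHd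
  obtain ⟨w, hw, hwmod, -, -⟩ := H87.CentralFinEtale.exists_hom_lift i (e'.hom ≫ e.inv)
    (hcomm H hH H' _) hHd'
  haveI := hψ
  haveI := hw
  obtain ⟨_, _, _, -, huniqH⟩ := H87.CentralFinEtale.exists_hom_lift i (𝟙 (Red.bc i H)) (hcomm H hH H _) hHd
  obtain ⟨_, _, _, -, huniqH'⟩ := H87.CentralFinEtale.exists_hom_lift i (𝟙 (Red.bc i H')) (hcomm H' hH' H' _) hHd'
  have h1 : ψ ≫ w = 𝟙 H :=
    (huniqH (ψ ≫ w) inferInstance (by rw [Functor.map_comp, hψmod, hwmod]; simp)).trans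
      (huniqH (𝟙 H) inferInstance (CategoryTheory.Functor.map_id _ _)).symm
  have h2 : w ≫ ψ = 𝟙 H' :=
    (huniqH' (w ≫ ψ) inferInstance (by rw [Functor.map_comp, hψmod, hwmod]; simp)).trans
      (huniqH' (𝟙 H') inferInstance (CategoryTheory.Functor.map_id _ _)).symm
  have h3 : ψ ≫ j' = j := hjuniq _ inferInstance (by
    rw [Functor.map_comp, hψmod, ← he', Category.assoc, Iso.inv_hom_id_assoc])
  refine ⟨{ hom := w, inv := ψ, hom_inv_id := h2, inv_hom_id := h1 }, ?_⟩
  show w ≫ j = j'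
  rw [← h3, ← Category.assoc, h2, Category.id_comp]

end Groth.Agent.S8386
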