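import Groth.Statements.S8388
import Groth.Agent.H87.HomAdic
-- import your own Groth.Agent.* helpers here

set_option autoImplicit false
universe u
open CategoryTheory MonoidalCategory CartesianMonoidalCategory MonObj GrpObj AlgebraicGeometry
open SGA3x

namespace Groth.Agent.S8388

/-- Let A be a complete Noetherian local ring with residue field k, S = Spec A, S₀ = Spec k the closed
point, M an S-group scheme finite over S and of multiplicative type, and G an S-group scheme smooth
over S. Then every homomorphism of S₀-groups u₀ : M₀ → G₀ between the closed fibres is the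
restriction of a homomorphism of S-groups u : M → G; and if u, u′ : M → G are homomorphisms with the
same restriction to S₀, there is g ∈ G(S) restricting to the unit of G(S₀) with u′ = int(g) ∘ u. -/
theorem result (A : Type u) [CommRing A]
    [IsLocalRing A] [IsNoetherianRing A] [IsAdicComplete (IsLocalRing.maximalIdeal A) A]
    (M : Over (Spec (CommRingCat.of A))) [GrpObj M] [IsFinite M.hom] (hM : SGA3x.IsMultTypeFT M)
    (G : Over (Spec (CommRingCat.of A))) [GrpObj G] [Smooth G.hom] :
    (∀ (u₀ : Red.bc (Spec.map (CommRingCat.ofHom (Ideal.Quotient.mk (IsLocalRing.maximalIdeal A)))) M ⟶ Red.bc (Spec.map (CommRingCat.ofHom (Ideal.Quotient.mk (IsLocalRing.maximalIdeal A)))) G) [IsMonHom u₀],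
      ∃ u : M ⟶ G, IsMonHom u ∧ (Over.pullback (Spec.map (CommRingCat.ofHom (Ideal.Quotient.mk (IsLocalRing.maximalIdeal A))))).map u = u₀) ∧
    (∀ (u u' : M ⟶ G) [IsMonHom u] [IsMonHom u'],
      (Over.pullback (Spec.map (CommRingCat.ofHom (Ideal.Quotient.mk (IsLocalRing.maximalIdeal A))))).map u = (Over.pullback (Spec.map (CommRingCat.ofHom (Ideal.Quotient.mk (IsLocalRing.maximalIdeal A))))).map u' →
      ∃ g : 𝟙_ (Over (Spec (CommRingCat.of A))) ⟶ G,
        (Over.pullback (Spec.map (CommRingCat.ofHom (Ideal.Quotient.mk (IsLocalRing.maximalIdeal A))))).map g = toUnit _ ≫ η[Red.bc (Spec.map (CommRingCat.ofHom (Ideal.Quotient.mk (IsLocalRing.maximalIdeal A)))) G] ∧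
        ∀ (X : Over (Spec (CommRingCat.of A))) (x : X ⟶ M), x ≫ u' = (toUnit X ≫ g) * (x ≫ u) * (toUnit X ≫ g)⁻¹) := by
  have hls : Groth.Agent.Lib.MultAvg.LocSplit M := by
    obtain ⟨S', f, h1, h2, h3, h4⟩ := hM
    exact ⟨S', f, h1, h2, h3, fun s' => by
      obtain ⟨U, hU, N, iN, -, hiso⟩ := h4 s'
      exact ⟨U, hU, N, iN, hiso⟩⟩
  exact ⟨fun u₀ _ => Groth.Agent.H87.HomAdic.exists_lift hls u₀,
    fun u u' _ _ h => Groth.Agent.H87.HomAdic.exists_conj hls u u' h⟩

end Groth.Agent.S8388
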