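import Groth.Statements.S8389
import Groth.Agent.H87.EtaleAdic
import Groth.Agent.H87.FinEtaleData
import Groth.Agent.H34.EtaleAt
import Groth.Agent.S5295
import Mathlib.AlgebraicGeometry.Fiber
-- import your own Groth.Agent.* helpers here

set_option autoImplicit false
universe u
open CategoryTheory MonoidalCategory CartesianMonoidalCategory MonObj GrpObj AlgebraicGeometry
open SGA3x

namespace Groth.Agent.S8389

open CategoryTheory.Limits Groth.Agent.Lib.RedPts Groth.Agent.Lib.ActSep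
open Groth.Agent.H87
open Groth.Agent.H87.CentralFinEtale

section

variable {A : Type u} [CommRing A] [IsLocalRing A]
  {H G : Over (Spec (CommRingCat.of A))} [GrpObj H] [GrpObj G] [Flat G.hom] [LocallyOfFinitePresentation G.hom]
  (u₀ : Red.bc (EtaleAdic.closedPt A) H ⟶ Red.bc (EtaleAdic.closedPt A) G)
  (hc₀ : ∀ (X : Over _) (x : X ⟶ Red.bc (EtaleAdic.closedPt A) H) (g : X ⟶ Red.bc (EtaleAdic.closedPt A) G),
    (x ≫ u₀) * g = g * (x ≫ u₀))

instance : IsClosedImmersion (EtaleAdic.closedPt A) :=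
  IsClosedImmersion.spec_of_surjective _ Ideal.Quotient.mk_surjective

include hc₀ in
theorem eq_top {n : ℕ} {X : Over (Spec (CommRingCat.of A))} [IsFinite X.hom] (c : X ⟶ G)
    (x₀ : Red.bc (EtaleAdic.closedPt A) X ⟶ Red.bc (EtaleAdic.closedPt A) H)
    (hc : (Over.pullback (EtaleAdic.closedPt A)).map c = x₀ ≫ u₀)
    (hn : ∀ (K : Type u) [Field K], (Spec (CommRingCat.of K) ⟶ X.left) → (n : K) ≠ 0) :
    Set.range c.left ⊆ Set.range (powOpen G n).ι := by
  rw [Scheme.Opens.range_ι]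
  have := Groth.Agent.H87.EtaleAdic.eq_top_of_range_subset X (c.left ⁻¹ᵁ powOpen G n) (by
    rintro _ ⟨z, rfl⟩
    show c.left (pullback.fst X.hom (EtaleAdic.closedPt A) z) ∈ powLocus G n
    rw [← incl_left, ← Scheme.Hom.comp_apply, ← Over.comp_left, incl_comp, hc]
    exact mem_powLocus_of_reduction _ u₀ hc₀ X x₀ hn z)
  rintro _ ⟨x, rfl⟩
  exact (this.ge (Set.mem_univ x) : x ∈ c.left ⁻¹ᵁ powOpen G n)

include hc₀ in
theorem eq_of_pow {n : ℕ} {X : Over (Spec (CommRingCat.of A))} [IsFinite X.hom] (a b : X ⟶ G)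
    (x₀ : Red.bc (EtaleAdic.closedPt A) X ⟶ Red.bc (EtaleAdic.closedPt A) H)
    (ha : (Over.pullback (EtaleAdic.closedPt A)).map a = x₀ ≫ u₀)
    (hb : (Over.pullback (EtaleAdic.closedPt A)).map b = x₀ ≫ u₀)
    (hn : ∀ (K : Type u) [Field K], (Spec (CommRingCat.of K) ⟶ X.left) → (n : K) ≠ 0)
    (hab : a ^ n = b ^ n) : a = b := by
  let a' := IsOpenImmersion.lift _ a.left (eq_top u₀ hc₀ a x₀ ha hn)
  let b' := IsOpenImmersion.lift _ b.left (eq_top u₀ hc₀ b x₀ hb hn)
  haveI := etale_powOpen (G := G) n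
  have he : a' = b' := Groth.Agent.H87.EtaleAdic.eq_of_unramified' ((powOpen G n).ι ≫ ((𝟙 G : G ⟶ G) ^ n).left)
    (incl (EtaleAdic.closedPt A) X).left (fun U hU => Groth.Agent.H87.EtaleAdic.eq_top_of_range_subset X U
      (by rwa [incl_left] at hU)) a' b'
    (by
      rw [IsOpenImmersion.lift_fac_assoc, IsOpenImmersion.lift_fac_assoc, ← Over.comp_left, ← Over.comp_left,
        MonObj.comp_pow, MonObj.comp_pow, Category.comp_id, Category.comp_id, hab])
    (by rw [← cancel_mono (powOpen G n).ι, Category.assoc, Category.assoc, IsOpenImmersion.lift_fac,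
      IsOpenImmersion.lift_fac, ← Over.comp_left, ← Over.comp_left, incl_comp, incl_comp, ha, hb])
  apply Over.OverMorphism.ext
  rw [← IsOpenImmersion.lift_fac _ a.left (eq_top u₀ hc₀ a x₀ ha hn),
    ← IsOpenImmersion.lift_fac _ b.left (eq_top u₀ hc₀ b x₀ hb hn)]
  exact congrArg (· ≫ (powOpen G n).ι) he

include hc₀ in
theorem exists_point [IsNoetherianRing A] [IsAdicComplete (IsLocalRing.maximalIdeal A) A] {n : ℕ}
    (X : Over (Spec (CommRingCat.of A))) [IsFinite X.hom]
    (x₀ : Red.bc (EtaleAdic.closedPt A) X ⟶ Red.bc (EtaleAdic.closedPt A) H)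
    (hn : ∀ (K : Type u) [Field K], (Spec (CommRingCat.of K) ⟶ X.left) → (n : K) ≠ 0)
    (hpow : (x₀ ≫ u₀) ^ n = 1) :
    ∃ a : X ⟶ G, a ^ n = 1 ∧ (Over.pullback (EtaleAdic.closedPt A)).map a = x₀ ≫ u₀ := by
  let i := EtaleAdic.closedPt A
  let a₀ : (Over.map i).obj (Red.bc i X) ⟶ G := BC.down i (x₀ ≫ u₀)
  let pn := ((𝟙 G : G ⟶ G) ^ n)
  let U := powOpen G n
  haveI := etale_powOpen (G := G) n
  have hr : Set.range a₀.left ⊆ Set.range U.ι := by
    rintro _ ⟨p₀, rfl⟩
    rw [Scheme.Opens.range_ι]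
    exact mem_powLocus_of_reduction i u₀ hc₀ X x₀ hn p₀
  have h0 : a₀ ≫ pn = incl i X ≫ (1 : X ⟶ G) := by
    rw [MonObj.comp_pow, Category.comp_id, MonObj.comp_one]
    show BC.downMulEquiv i _ G (x₀ ≫ u₀) ^ n = 1
    rw [← _root_.map_pow, hpow, _root_.map_one]
  let σ₀ : pullback X.hom i ⟶ pullback (U.ι ≫ pn.left) (1 : X ⟶ G).left :=
    pullback.lift (IsOpenImmersion.lift U.ι a₀.left hr) (incl i X).left (by
      rw [IsOpenImmersion.lift_fac_assoc, ← Over.comp_left, ← Over.comp_left, h0])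
  obtain ⟨σ, hσ, hισ⟩ := Groth.Agent.H87.EtaleAdic.exists_section_fin X
    (pullback.snd (U.ι ≫ pn.left) (1 : X ⟶ G).left) σ₀ ((pullback.lift_snd _ _ _).trans (incl_left i X))
  let al : X.left ⟶ G.left := σ ≫ pullback.fst _ _ ≫ U.ι
  have hal : al ≫ pn.left = (1 : X ⟶ G).left := by
    rw [Category.assoc, Category.assoc, pullback.condition, ← Category.assoc, hσ, Category.id_comp]
  let a : X ⟶ G := Over.homMk al (by rw [← Over.w pn, ← Category.assoc, hal, Over.w])
  refine ⟨a, ?_, BC.down_injective ?_⟩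
  · rw [← Category.comp_id a, ← MonObj.comp_pow]
    exact Over.OverMorphism.ext hal
  · rw [← incl_comp]
    apply Over.OverMorphism.ext
    show (incl i X).left ≫ σ ≫ pullback.fst _ _ ≫ U.ι = a₀.left
    rw [incl_left]
    rw [reassoc_of% hισ, pullback.lift_fst_assoc, IsOpenImmersion.lift_fac]

end

/-- Let A be a complete Noetherian local ring with residue field k, S = Spec A, S₀ = Spec k the closed
point, M an S-group scheme of multiplicative type which is smooth and finite over S, G an S-group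
scheme flat and of finite type over S, and u₀ : M₀ → G₀ a central homomorphism between the closed
fibres. Then u₀ is the restriction of exactly one homomorphism u : M → G; and u is central when the
fibres of G are connected. -/
theorem result (A : Type u) [CommRing A]
    [IsLocalRing A] [IsNoetherianRing A] [IsAdicComplete (IsLocalRing.maximalIdeal A) A]
    (M : Over (Spec (CommRingCat.of A))) [GrpObj M] [IsFinite M.hom] [Smooth M.hom] (hM : SGA3x.IsMultTypeFT M)
    (G : Over (Spec (CommRingCat.of A))) [GrpObj G] [Flat G.hom] [QuasiCompact G.hom] [LocallyOfFiniteType G.hom]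
    (u₀ : Red.bc (Spec.map (CommRingCat.ofHom (Ideal.Quotient.mk (IsLocalRing.maximalIdeal A)))) M ⟶ Red.bc (Spec.map (CommRingCat.ofHom (Ideal.Quotient.mk (IsLocalRing.maximalIdeal A)))) G) [IsMonHom u₀]
    (hc₀ : ∀ (X : Over _) (x : X ⟶ Red.bc (Spec.map (CommRingCat.ofHom (Ideal.Quotient.mk (IsLocalRing.maximalIdeal A)))) M) (g : X ⟶ Red.bc (Spec.map (CommRingCat.ofHom (Ideal.Quotient.mk (IsLocalRing.maximalIdeal A)))) G), (x ≫ u₀) * g = g * (x ≫ u₀)) :
    (∃ u : M ⟶ G, IsMonHom u ∧ (Over.pullback (Spec.map (CommRingCat.ofHom (Ideal.Quotient.mk (IsLocalRing.maximalIdeal A))))).map u = u₀ ∧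
      ∀ u' : M ⟶ G, IsMonHom u' → (Over.pullback (Spec.map (CommRingCat.ofHom (Ideal.Quotient.mk (IsLocalRing.maximalIdeal A))))).map u' = u₀ → u' = u) ∧
    ((∀ s : (Spec (CommRingCat.of A)), _root_.IsConnected (G.hom.base ⁻¹' {s})) →
      ∀ u : M ⟶ G, IsMonHom u → (Over.pullback (Spec.map (CommRingCat.ofHom (Ideal.Quotient.mk (IsLocalRing.maximalIdeal A))))).map u = u₀ →
        ∀ (X : Over (Spec (CommRingCat.of A))) (x : X ⟶ M) (g : X ⟶ G), (x ≫ u) * g = g * (x ≫ u)) := by
  haveI : LocallyOfFinitePresentation G.hom := Groth.Agent.H34.EtaleAt.locallyOfFinitePresentation G.hom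
  haveI : IsLocallyNoetherian G.left := LocallyOfFiniteType.isLocallyNoetherian G.hom
  haveI : QuasiSeparated G.hom := inferInstance
  let i := EtaleAdic.closedPt A
  obtain ⟨D, n, hD, hinv, hkill⟩ := Groth.Agent.H87.FinEtaleData.killedLocally M hM (IsLocalRing.closedPoint A)
  have hDtop : ∀ z, z ∈ D := fun z => (IsLocalRing.specializes_closedPoint z).mem_open D.isOpen hD
  have hk : ∀ (Y : Over (Spec (CommRingCat.of A))) (y : Y ⟶ M), y ^ n = 1 := fun Y y =>
    hkill Y y fun z _ => hDtop z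
  have hn : ∀ (Y : Over (Spec (CommRingCat.of A))) (K : Type u) [Field K],
      (Spec (CommRingCat.of K) ⟶ Y.left) → (n : K) ≠ 0 := fun Y K _ t => hinv K (t ≫ Y.hom) fun z _ => hDtop z
  haveI : IsFinite (M ⊗ M).hom := inferInstanceAs (IsFinite (pullback.fst M.hom M.hom ≫ M.hom))
  obtain ⟨v, hvn, hvmod⟩ := exists_point (G := G) u₀ hc₀ M (𝟙 _) (hn M) (by
    rw [← MonObj.pow_comp _ _ u₀, ← CategoryTheory.Functor.map_id (Over.pullback i) M, ← map_pow, hk, map_one,
      MonObj.one_comp u₀])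
  rw [Category.id_comp] at hvmod
  have hvz : ∀ {Y : Over (Spec (CommRingCat.of A))} (z : Y ⟶ M), (z ≫ v) ^ n = 1 := fun z => by
    rw [← MonObj.comp_pow, hvn, MonObj.comp_one]
  have hcomm : ∀ {Y : Over (Spec (CommRingCat.of A))} (x y : Y ⟶ M), Commute (x ≫ v) (y ≫ v) := by
    intro Y x y
    have h : (snd M M ≫ v) * (fst M M ≫ v) * (snd M M ≫ v)⁻¹ = fst M M ≫ v :=
      eq_of_pow u₀ hc₀ _ _ ((Over.pullback i).map (fst M M))
        (by rw [map_mul, map_mul, map_inv, Functor.map_comp, Functor.map_comp, hvmod, ← hc₀, mul_inv_cancel_right])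
        (by rw [Functor.map_comp, hvmod]) (hn (M ⊗ M))
        (by rw [conj_pow, hvz, _root_.mul_one, mul_inv_cancel])
    have h' := congrArg (lift x y ≫ ·) h
    simp only [MonObj.comp_mul, GrpObj.comp_inv, lift_fst_assoc, lift_snd_assoc] at h'
    calc (x ≫ v) * (y ≫ v) = (y ≫ v) * (x ≫ v) * (y ≫ v)⁻¹ * (y ≫ v) := by rw [h']
      _ = (y ≫ v) * (x ≫ v) := inv_mul_cancel_right _ _
  haveI hv : IsMonHom v := Groth.Agent.H87.HomDS.isMonHom_of_points v fun X x y => by
    have h : (fst M M * snd M M) ≫ v = (fst M M ≫ v) * (snd M M ≫ v) :=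
      eq_of_pow u₀ hc₀ _ _ ((Over.pullback i).map (fst M M * snd M M))
        (by rw [Functor.map_comp, hvmod])
        (by rw [map_mul, map_mul, Functor.map_comp, Functor.map_comp, hvmod, MonObj.mul_comp _ _ u₀]) (hn (M ⊗ M))
        (by rw [hvz, (hcomm _ _).mul_pow, hvz, hvz, _root_.one_mul])
    have h' := congrArg (lift x y ≫ ·) h
    simp only [MonObj.comp_mul, lift_fst_assoc, lift_snd_assoc] at h'
    rw [← Category.assoc, MonObj.comp_mul, lift_fst, lift_snd] at h'
    exact h'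
  refine ⟨⟨v, hv, hvmod, fun u' hu' hu'mod => ?_⟩, fun hconn u hu humod X x g => ?_⟩
  · haveI := hu'
    exact eq_of_pow u₀ hc₀ u' v (𝟙 _) (by rw [hu'mod, Category.id_comp]) (by rw [hvmod, Category.id_comp]) (hn M)
      (by rw [hvn, ← Category.id_comp u', ← MonObj.pow_comp _ _ u', hk, MonObj.one_comp u'])
  haveI := hu
  have hconn' : ∀ s : Spec (CommRingCat.of A),
      ConnectedSpace ↥(pullback G.hom ((Spec (CommRingCat.of A)).fromSpecResidueField s)) := fun s => by
    haveI := isConnected_iff_connectedSpace.1 (hconn s)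
    exact (G.hom.fiberHomeo s).symm.surjective.connectedSpace (G.hom.fiberHomeo s).symm.continuous
  let s : Spec (CommRingCat.of A) := IsLocalRing.closedPoint A
  let t := (Spec (CommRingCat.of A)).fromSpecResidueField s
  haveI : Surjective (pullback.fst t i) := ⟨fun z => by
    obtain ⟨p, hp⟩ : t z ∈ Set.range i := by
      rw [Groth.Agent.H87.EtaleAdic.range_closedPt]
      exact Scheme.fromSpecResidueField_apply (X := Spec (CommRingCat.of A)) s z
    obtain ⟨q, hq, -⟩ := Scheme.Pullback.exists_preimage_pullback z p hp.symm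
    exact ⟨q, hq⟩⟩
  haveI : IsClosedImmersion (pullback.fst t i) :=
    MorphismProperty.pullback_fst (P := @IsClosedImmersion) _ _ inferInstance
  haveI : IsIso (pullback.fst t i) := isIso_of_isClosedImmersion_of_surjective _
  let w := inv (pullback.fst t i) ≫ pullback.snd t i
  have hw : w ≫ i = t := by rw [Category.assoc, ← pullback.condition, IsIso.inv_hom_id_assoc]
  obtain ⟨U, hU, hUc⟩ := Groth.Agent.S5295.result M G hM hconn' u s fun X g h => BC.down_injective (by
    let X' : Over _ := Over.mk (X.hom ≫ w)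
    let θ : (Over.map i).obj X' ≅ (Over.map t).obj X := Over.isoMk (Iso.refl _)
      (show 𝟙 _ ≫ X.hom ≫ t = (X.hom ≫ w) ≫ i by rw [Category.id_comp, Category.assoc, hw])
    have h1 := congrArg (BC.down i) (hc₀ X' (BC.up i (θ.hom ≫ BC.down t h)) (BC.up i (θ.hom ≫ BC.down t g)))
    rw [BC.down_mul, BC.down_mul, ← humod, BC.down_map, BC.down_up, BC.down_up, Category.assoc, ← MonObj.comp_mul,
      ← MonObj.comp_mul, cancel_epi] at h1
    rw [BC.down_mul, BC.down_mul, BC.down_map]
    exact h1.symm)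
  exact (hUc X (Over.homMk (IsOpenImmersion.lift U.ι X.hom (by
    rw [Scheme.Opens.range_ι]
    exact fun z _ => (IsLocalRing.specializes_closedPoint z).mem_open U.isOpen hU)) (IsOpenImmersion.lift_fac _ _ _)) g x).symm

end Groth.Agent.S8389
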