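import Groth.Statements.S8400
import Groth.Agent.H66.LieWt.Main

set_option autoImplicit false
universe u
open CategoryTheory MonoidalCategory CartesianMonoidalCategory MonObj GrpObj AlgebraicGeometry
open SGA3x

namespace Groth.Agent.S8400

/-- Let G be a smooth, connected, affine algebraic group over an algebraically closed field k whose
reductive centre is trivial (every central subgroup scheme of multiplicative type is trivial), and
suppose the Lie algebra of G is nilpotent. Then the maximal tori of G are trivial: G contains no
non-trivial subtorus. (The published statement concludes that G is unipotent, i.e. has a composition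
series with quotients isomorphic to 𝔾_a; this row concludes only that G contains no non-trivial
subtorus.) -/
theorem result (k : Type u) [Field k] [IsAlgClosed k]
    (G : Over (Spec (CommRingCat.of k))) [GrpObj G] [Smooth G.hom] [QuasiCompact G.hom] [IsAffine G.left] [ConnectedSpace ↥G.left]
    (hZ : ∀ (Z : Over (Spec (CommRingCat.of k))) [GrpObj Z] (z : Z ⟶ G) [IsMonHom z] [Mono z], SGA3x.IsMultTypeFT Z →
      (∀ (X : Over (Spec (CommRingCat.of k))) (x : X ⟶ Z) (g : X ⟶ G), (x ≫ z) * g = g * (x ≫ z)) → Red.IsTrivialGrp Z)
    (L : Type u) [LieRing L] [LieAlgebra k L] (m : LieS.Model G k (Spec.map (CommRingCat.ofHom (algebraMap k k))) L) (hL : LieRing.IsNilpotent L) :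
    Red.HasNoSubtorus k G := by
  exact Groth.Agent.H66.LieWt.hasNoSubtorus G hZ m hL

end Groth.Agent.S8400
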