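import Groth.Statements.S8401
import Groth.Agent.H87.CartanUnip
import Groth.Agent.Lib.SmWeil.FieldTori
import Groth.Agent.Lib.GrpQ.InfSub
import Groth.Agent.H34.EtaleAt
import Groth.Agent.H87.MT
import Groth.Agent.S19598
import Groth.Agent.S5255
import Groth.Agent.S5248
import Mathlib.AlgebraicGeometry.Fiber
-- import your own Groth.Agent.* helpers here

set_option autoImplicit false
universe u
open CategoryTheory MonoidalCategory CartesianMonoidalCategory MonObj GrpObj AlgebraicGeometry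
open SGA3x

namespace Groth.Agent.S8401

open CategoryTheory.Limits Groth.Agent.Lib.RedPts Groth.Agent.Lib.RedPts.Points
open Groth.Agent.H1.Classical Groth.Agent.H1.Classical.Scheme' MaxTorusScheme MaxTorusApply MaxTorusExists ConjIso

attribute [local instance] baseAlgebra

set_option linter.style.haveILetI false

variable {k : Type u} [Field k] [IsAlgClosed k]

/-- The points common to all maximal tori form a central subgroup of multiplicative type. -/
theorem exists_common (G : Over (Spec (CommRingCat.of k))) [GrpObj G] [Smooth G.hom] [IsAffine G.left]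
    [ConnectedSpace ↥G.left] :
    ∃ (D : Over (Spec (CommRingCat.of k))) (_ : GrpObj D) (d : D ⟶ G), IsMonHom d ∧ Mono d ∧ SGA3x.IsMultTypeFT D ∧
      (∀ (X : Over (Spec (CommRingCat.of k))) (x : X ⟶ D) (g : X ⟶ G), (x ≫ d) * g = g * (x ≫ d)) ∧
      ∀ (X : Over (Spec (CommRingCat.of k))) (g : X ⟶ G),
        (∀ (T : Over (Spec (CommRingCat.of k))) [GrpObj T] (i : T ⟶ G), Red.IsMaximalTorus i → ∃ t, t ≫ i = g) →
          ∃ x : X ⟶ D, x ≫ d = g := by
  obtain ⟨A, _, _, _, _, e, he⟩ := exists_GA G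
  haveI := he
  haveI : IsMonHom e.inv := inferInstance
  haveI : IsIso e.hom.left := ((Over.forget _).mapIso e).isIso_hom
  haveI : IsIso e.inv.left := ((Over.forget _).mapIso e).isIso_inv
  haveI : Smooth (GA k A).hom := by rw [← Over.w e.inv]; infer_instance
  let J : Ideal A := Ideal.span {a | ∃ (T : Over (Spec (CommRingCat.of k))) (_ : GrpObj T) (i : T ⟶ G)
    (_ : IsMonHom i), Red.IsMaximalTorus i ∧ a ∈ Scheme'.ideal (ptsOf (i ≫ e.hom) : Set (HopfPts.Pt k A))}
  let mk : CommRingCat.of A ⟶ CommRingCat.of (A ⧸ J) := CommRingCat.ofHom (Ideal.Quotient.mk J)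
  let D : Over (Spec (CommRingCat.of k)) := Over.mk (Spec.map (CommRingCat.ofHom (algebraMap k (A ⧸ J))))
  let d₀ : D ⟶ GA k A := Over.homMk (Spec.map mk) (by
    show Spec.map mk ≫ Spec.map (CommRingCat.ofHom (algebraMap k A)) = Spec.map _
    rw [← Spec.map_comp]
    rfl)
  haveI : IsClosedImmersion d₀.left := IsClosedImmersion.spec_of_surjective _ Ideal.Quotient.mk_surjective
  haveI : IsAffine D.left := inferInstanceAs (IsAffine (Spec (CommRingCat.of (A ⧸ J))))
  haveI : Mono d₀ := Over.mono_of_mono_left d₀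
  let d : D ⟶ G := d₀ ≫ e.inv
  haveI : Mono d := mono_comp _ _
  haveI : IsClosedImmersion d.left := by rw [Over.comp_left]; infer_instance
  have hd₀ : ∀ a ∈ J, algHomOf d₀ a = 0 := fun a ha => by
    show ((Scheme.ΓSpecIso (CommRingCat.of A)).inv ≫ (Spec.map mk).appTop).hom a = 0
    rw [← Scheme.ΓSpecIso_inv_naturality mk]
    show (Scheme.ΓSpecIso (CommRingCat.of (A ⧸ J))).inv (Ideal.Quotient.mk J a) = 0
    rw [Ideal.Quotient.eq_zero_iff_mem.2 ha]
    exact map_zero _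
  have hfac : ∀ (X : Over (Spec (CommRingCat.of k))) (g : X ⟶ G),
      (∀ (T : Over (Spec (CommRingCat.of k))) [GrpObj T] (i : T ⟶ G), Red.IsMaximalTorus i → ∃ t, t ≫ i = g) →
      ∃ x : X ⟶ D, x ≫ d = g := by
    intro X g hg
    have hk : ∀ a ∈ J, ringHomOf (g ≫ e.hom).left a = 0 := by
      suffices J ≤ RingHom.ker (algHomOf (g ≫ e.hom)).toRingHom from fun a ha => this ha
      refine Ideal.span_le.2 ?_
      rintro a ⟨T, iG, i, hi, hT, ha⟩
      obtain ⟨t, ht⟩ := hg T i hT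
      haveI := hT.2.1
      haveI : Mono (i ≫ e.hom) := mono_comp _ _
      obtain ⟨-, hs, -, hTa⟩ := TorusPts.torus_props (i ≫ e.hom) hT.2.2.1
      haveI := hs
      haveI := hTa
      show algHomOf (g ≫ e.hom) a = 0
      rw [← ht, Category.assoc, algHomOf_comp, algHomOf_eq_zero (T := (ptsOf (i ≫ e.hom) : Set (HopfPts.Pt k A))) _
        (fun x => by
          obtain ⟨χ, hχ⟩ := ptHom_surjective (x ≫ i ≫ e.hom)
          exact ⟨χ, ⟨x, hχ.symm⟩, hχ.symm⟩) a ha, map_zero]
    let φ : A ⧸ J →+* Γ(X.left, ⊤) := Ideal.Quotient.lift J (ringHomOf (g ≫ e.hom).left) hk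
    have hx : (X.left.toSpecΓ ≫ Spec.map (CommRingCat.ofHom φ)) ≫ Spec.map mk = (g ≫ e.hom).left := by
      rw [Category.assoc, ← Spec.map_comp]
      exact (eq_toSpecΓ (g ≫ e.hom).left).symm
    let x : X ⟶ D := Over.homMk (X.left.toSpecΓ ≫ Spec.map (CommRingCat.ofHom φ)) (by
      rw [← Over.w d₀, ← Category.assoc]
      exact (congrArg (· ≫ (GA k A).hom) hx).trans (Over.w _))
    have hx' : x ≫ d₀ = g ≫ e.hom := Over.OverMorphism.ext hx
    exact ⟨x, by rw [← Category.assoc, hx', Category.assoc, e.hom_inv_id, Category.comp_id]⟩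
  have htor : ∀ (T : Over (Spec (CommRingCat.of k))) [GrpObj T] (i : T ⟶ G), Red.IsMaximalTorus i →
      ∃ s : D ⟶ T, s ≫ i = d := by
    intro T _ i hT
    haveI := hT.1
    haveI := hT.2.1
    haveI : Mono (i ≫ e.hom) := mono_comp _ _
    obtain ⟨hci, hs, -, hTa⟩ := TorusPts.torus_props (i ≫ e.hom) hT.2.2.1
    haveI := hci
    obtain ⟨s, hs'⟩ := exists_factor_of_ideal (i ≫ e.hom) d₀ fun a ha =>
      hd₀ a (Ideal.subset_span ⟨T, inferInstance, i, hT.1, hT, ha⟩)
    exact ⟨s, by rw [← cancel_mono e.hom, Category.assoc, hs', Category.assoc, e.inv_hom_id, Category.comp_id]⟩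
  obtain ⟨_, hdm⟩ := Groth.Agent.Lib.GrpQ.InfSub.exists_grpObj_of_mono d
    (hfac _ _ fun T _ i hT => ⟨η[T], by haveI := hT.1; exact IsMonHom.one_hom i⟩)
    (hfac _ _ fun T _ i hT => by
      haveI := hT.1
      obtain ⟨s, hs⟩ := htor T i hT
      exact ⟨(fst D D ≫ s) * (snd D D ≫ s), by rw [MonObj.mul_comp _ _ i, Category.assoc, Category.assoc, hs]⟩)
    (hfac _ _ fun T _ i hT => by
      haveI := hT.1
      obtain ⟨s, hs⟩ := htor T i hT
      exact ⟨s⁻¹, by rw [GrpObj.inv_comp _ i, hs]⟩)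
  haveI := hdm
  obtain ⟨T₀, _, i₀, hT₀⟩ := exists_maxTorus G
  haveI := hT₀.1
  haveI := hT₀.2.1
  have hT₀' : Red.IsMaximalTorus i₀ :=
    Groth.Agent.Lib.SmWeil.isMaximalTorus_of_maximal i₀ hT₀.2.2.1 hT₀.2.2.2
  obtain ⟨s₀, hs₀⟩ := htor T₀ i₀ hT₀'
  haveI : IsMonHom s₀ := Groth.Agent.H87.HomDS.isMonHom_of_points _ fun X a b => by
    rw [← cancel_mono i₀, MonObj.mul_comp _ _ i₀, Category.assoc, Category.assoc, Category.assoc, hs₀,
      MonObj.mul_comp _ _ d]
  have hTM := Groth.Agent.H87.GmFibre.isMultTypeFT_of_isTorus hT₀.2.2.1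
  haveI := Groth.Agent.H87.MT.isAffineHom hTM
  haveI : IsSeparated i₀.left := by
    haveI : IsSeparated (i₀.left ≫ G.hom) := by rw [Over.w]; infer_instance
    exact IsSeparated.of_comp i₀.left G.hom
  haveI : IsClosedImmersion s₀.left := by
    haveI : IsClosedImmersion (s₀.left ≫ i₀.left) := by rw [← Over.comp_left, hs₀]; infer_instance
    exact IsClosedImmersion.of_comp s₀.left i₀.left
  haveI : LocallyOfFiniteType D.hom := by rw [← Over.w d]; infer_instance
  have hDM : SGA3x.IsMultTypeFT D := Groth.Agent.S19598.result D T₀ hTM s₀ inferInstance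
    (by
      show Flat (Spec.map (CommRingCat.ofHom (algebraMap k (A ⧸ J))))
      rw [HasRingHomProperty.Spec_iff (P := @Flat)]
      exact RingHom.flat_algebraMap_iff.mpr inferInstance)
    (Groth.Agent.H34.EtaleAt.locallyOfFinitePresentation D.hom)
  obtain ⟨N, _, n, hN, hnc, hns⟩ := Groth.Agent.S5248.result D G hDM inferInstance inferInstance d
  haveI := hnc
  haveI := hns
  haveI := hN.1
  haveI := hN.2.1
  -- conjugation by a rational point
  have hconj : ∀ (g₀ : 𝟙_ (Over (Spec (CommRingCat.of k))) ⟶ G) (X : Over (Spec (CommRingCat.of k))) (h : X ⟶ D),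
      ∃ h' : X ⟶ D, (toUnit X ≫ g₀) * (h ≫ d) * (toUnit X ≫ g₀)⁻¹ = h' ≫ d := by
    intro g₀ X h
    obtain ⟨h', hh'⟩ := hfac X ((toUnit X ≫ g₀) * (h ≫ d) * (toUnit X ≫ g₀)⁻¹) fun T _ i hT => by
      haveI := hT.1
      haveI := hT.2.1
      have hmax : AGF.IsMaxTorus i := ⟨hT.1, hT.2.1, hT.2.2.1, fun T' _ j _ _ f ht hf =>
        Groth.Agent.Lib.SmWeil.maximal_of_isMaximalTorus hT j f ht hf⟩
      have hmax' := isMaxTorus_comp (conjIso g₀⁻¹) hmax
      haveI := hmax'.1
      haveI := hmax'.2.1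
      obtain ⟨s, hs⟩ := htor T _ (Groth.Agent.Lib.SmWeil.isMaximalTorus_of_maximal _ hmax'.2.2.1 hmax'.2.2.2)
      refine ⟨h ≫ s, ?_⟩
      have e' : h ≫ d = (h ≫ s) ≫ AGF.conjBy g₀⁻¹ i := by rw [← hs, comp_conjIso, Category.assoc]
      rw [e', CentralizerScheme.comp_conjBy, GrpObj.comp_inv]
      group
    exact ⟨h', hh'.symm⟩
  have hall : ∀ g₀ : 𝟙_ (Over (Spec (CommRingCat.of k))) ⟶ G, ∃ z, z ≫ n = g₀ := fun g₀ =>
    (hN.2.2 _ g₀).2 fun X' x h => by
      rw [toUnit_unique x (toUnit X')]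
      refine ⟨hconj g₀ X' h, ?_⟩
      obtain ⟨h', hh'⟩ := hconj g₀⁻¹ X' h
      rw [GrpObj.comp_inv, _root_.inv_inv] at hh'
      exact ⟨h', hh'⟩
  haveI : IsClosedImmersion (n ≫ e.hom).left := by rw [Over.comp_left]; infer_instance
  haveI : LocallyOfFiniteType (GA k A).hom := inferInstance
  obtain ⟨f, hf⟩ := exists_factor (n ≫ e.hom) e.hom fun x => by
    obtain ⟨χ, hχ⟩ := ptHom_surjective (x ≫ e.hom)
    obtain ⟨z, hz⟩ := hall x
    exact ⟨χ, ⟨z, by show z ≫ n ≫ e.hom = _; rw [← Category.assoc, hz, hχ]⟩, hχ.symm⟩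
  have hfn : f ≫ n = 𝟙 G := by rw [← cancel_mono e.hom, Category.assoc, hf, Category.id_comp]
  have hnor : AlgGrp.IsNormalHom d := fun X g h => by
    obtain ⟨h', hh'⟩ := ((hN.2.2 X g).1 ⟨g ≫ f, by rw [Category.assoc, hfn, Category.comp_id]⟩ X (𝟙 X) h).1
    exact ⟨h', by rw [Category.id_comp] at hh'; exact hh'⟩
  have hconn : ∀ s : Spec (CommRingCat.of k),
      ConnectedSpace ↥(pullback G.hom ((Spec (CommRingCat.of k)).fromSpecResidueField s)) := fun s => by
    have hs : G.hom ⁻¹' {s} = Set.univ := Set.eq_univ_of_forall fun x => @Subsingleton.elim _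
      (inferInstanceAs (Subsingleton (PrimeSpectrum k))) _ _
    refine (G.hom.fiberHomeo s).connectedSpace_iff.mpr (isConnected_iff_connectedSpace.mp ?_)
    rw [hs]
    exact isConnected_univ
  exact ⟨D, inferInstance, d, hdm, inferInstance, hDM,
    fun X x g => (Groth.Agent.S5255.result G D hconn d hDM hnor X g x).symm, hfac⟩

/-- Let G be an affine, smooth, connected algebraic group over an algebraically closed field k, and Z
its reductive centre. Then Z is the scheme-theoretic intersection of the maximal tori of G: a point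
of G with values in a k-scheme X factors through Z if and only if it factors through every maximal
torus of G. -/
theorem result (k : Type u) [Field k] [IsAlgClosed k]
    (G : Over (Spec (CommRingCat.of k))) [GrpObj G] [Smooth G.hom] [QuasiCompact G.hom] [IsAffine G.left] [ConnectedSpace ↥G.left]
    (Z : Over (Spec (CommRingCat.of k))) [GrpObj Z] (z : Z ⟶ G)
    (hZ : (IsMonHom z ∧ Mono z ∧ SGA3x.IsMultTypeFT Z ∧
      (∀ (X : Over (Spec (CommRingCat.of k))) (x : X ⟶ Z) (g : X ⟶ G), (x ≫ z) * g = g * (x ≫ z)) ∧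
      ∀ (S' : Scheme.{u}) (f : S' ⟶ (Spec (CommRingCat.of k))) (H : Over S') [GrpObj H] (v : H ⟶ Red.bc f G) [IsMonHom v],
        SGA3x.IsMultTypeFT H →
        (∀ (X : Over S') (x : X ⟶ H) (g : X ⟶ Red.bc f G), (x ≫ v) * g = g * (x ≫ v)) →
        ∃ w : H ⟶ Red.bc f Z, w ≫ (Over.pullback f).map z = v)) (X : Over (Spec (CommRingCat.of k))) (g : X ⟶ G) :
    (∃ x : X ⟶ Z, x ≫ z = g) ↔
      ∀ (T : Over (Spec (CommRingCat.of k))) [GrpObj T] (i : T ⟶ G), Red.IsMaximalTorus i → ∃ t : X ⟶ T, t ≫ i = g := by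
  obtain ⟨hzh, hzm, hZm, hzc, huniv⟩ := hZ
  haveI := hzh
  haveI := hzm
  constructor
  · rintro ⟨x, rfl⟩ T _ i hT
    haveI := hT.1
    haveI := hT.2.1
    obtain ⟨w, hw⟩ := Groth.Agent.H87.CartanUnip.exists_fac_field (iT := i)
      ⟨hT.1, hT.2.1, hT.2.2.1, fun T' _ j _ _ f ht hf =>
        Groth.Agent.Lib.SmWeil.maximal_of_isMaximalTorus hT j f ht hf⟩ hZm z hzc
    exact ⟨x ≫ w, by rw [Category.assoc, hw]⟩
  intro hg
  obtain ⟨D, _, d, hd, hdm, hDM, hdc, hfac⟩ := exists_common G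
  haveI := hd
  obtain ⟨x, rfl⟩ := hfac X g hg
  let f : Spec (CommRingCat.of k) ⟶ Spec (CommRingCat.of k) := 𝟙 _
  let θ : ∀ X : Over (Spec (CommRingCat.of k)), (Over.map f).obj X ≅ X :=
    fun X => Over.isoMk (Iso.refl _) (by simp [f])
  obtain ⟨v, hv⟩ : ∃ v : D ⟶ Red.bc f G, BC.down f v = (θ D).hom ≫ d := ⟨BC.up f _, BC.down_up _⟩
  have hmap : ∀ (Y : Over (Spec (CommRingCat.of k))) (y : Y ⟶ D), BC.down f (y ≫ v) = (θ Y).hom ≫ y ≫ d := by
    intro Y y
    rw [BC.down_comp, hv, ← Category.assoc, ← Category.assoc]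
    refine congrArg (· ≫ d) (Over.OverMorphism.ext ?_)
    simp [θ]
  haveI : IsMonHom v := Groth.Agent.H87.HomDS.isMonHom_of_points _ fun Y a b => BC.down_injective (by
    rw [BC.down_mul, hmap, hmap, hmap, MonObj.mul_comp, MonObj.comp_mul])
  obtain ⟨w, hw⟩ := huniv _ f D v hDM fun Y y g => BC.down_injective (by
    rw [BC.down_mul, BC.down_mul, hmap, ← Category.assoc]
    exact hdc _ _ _)
  refine ⟨x ≫ (θ D).inv ≫ BC.down f w, ?_⟩
  rw [Category.assoc, Category.assoc, ← BC.down_map, hw, ← Category.id_comp v, hmap, Category.id_comp,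
    Iso.inv_hom_id_assoc]

end Groth.Agent.S8401
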