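import Groth.Statements.S8402
import Groth.Agent.Lib.CentW.Centre

set_option autoImplicit false
universe u
open CategoryTheory MonoidalCategory CartesianMonoidalCategory MonObj GrpObj AlgebraicGeometry
open SGA3x

namespace Groth.Agent.S8402

/-- Let G be an S-group scheme, smooth and affine over S with connected fibres, of unipotent rank zero
(in each geometric fibre the Cartan subgroups are the maximal tori). Then the centre of G coincides
with its reductive centre; in particular the centre of G is represented by a subgroup scheme of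
multiplicative type, which is a reductive centre of G. -/
theorem result (S : Scheme.{u}) (G : Over S) [GrpObj G]
    [Smooth G.hom] [IsAffineHom G.hom] (hconn : ∀ s : S, _root_.IsConnected (G.hom.base ⁻¹' {s})) (h0 : SGA3x.UnipotentRankZero G) :
    ∃ (Z : Over S) (_ : GrpObj Z) (z : Z ⟶ G), Red.IsCentre z ∧ (IsMonHom z ∧ Mono z ∧ SGA3x.IsMultTypeFT Z ∧
      (∀ (X : Over S) (x : X ⟶ Z) (g : X ⟶ G), (x ≫ z) * g = g * (x ≫ z)) ∧
      ∀ (S' : Scheme.{u}) (f : S' ⟶ S) (H : Over S') [GrpObj H] (v : H ⟶ Red.bc f G) [IsMonHom v],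
        SGA3x.IsMultTypeFT H →
        (∀ (X : Over S') (x : X ⟶ H) (g : X ⟶ Red.bc f G), (x ≫ v) * g = g * (x ≫ v)) →
        ∃ w : H ⟶ Red.bc f Z, w ≫ (Over.pullback f).map z = v) := by
  obtain ⟨Z, gZ, z, hZ, h1, h2, h3, h4, h5⟩ := Groth.Agent.Lib.CentW.exists_centre G hconn h0
  exact ⟨Z, gZ, z, hZ, h1, h2, h3, fun X x g => h4 X x g,
    fun S' f H _ v _ hH hv => h5 S' f H v hH fun X q g => hv X q g⟩

end Groth.Agent.S8402
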