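import Groth.Statements.S8403
import Groth.Agent.Lib.SmWeil.CartanDim

set_option autoImplicit false
universe u
open CategoryTheory MonoidalCategory CartesianMonoidalCategory MonObj GrpObj AlgebraicGeometry
open SGA3x

namespace Groth.Agent.S8403

/-- Let G be an affine smooth algebraic group over a field k, T a torus in G and C its centralizer. Then
the nilpotent rank of G (the dimension of the Cartan subgroups of G over an algebraic closure of k)
is at most dim C. -/
theorem result (k : Type u) [Field k]
    (G : Over (Spec (CommRingCat.of k))) [GrpObj G] [Smooth G.hom] [QuasiCompact G.hom] [IsAffine G.left]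
    (T : Over (Spec (CommRingCat.of k))) [GrpObj T] (j : T ⟶ G) [IsMonHom j] [Mono j] (hT : Red.IsTorus T)
    (C : Over (Spec (CommRingCat.of k))) [GrpObj C] (c : C ⟶ G) (hC : Red.IsCentralizerOf j c)
    (s : ↥(Spec (CommRingCat.of k))) (C' : Over (Spec (CommRingCat.of (AlgebraicClosure ((Spec (CommRingCat.of k)).residueField s))))) [GrpObj C']
    (c' : C' ⟶ Red.geomFibre s G) (hC' : SGA3x.IsCartanOver (AlgebraicClosure ((Spec (CommRingCat.of k)).residueField s)) c') :
    topologicalKrullDim ↥C'.left ≤ topologicalKrullDim ↥C.left := by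
  obtain ⟨C₁, _, c₁, hC₁, -, hC₁s⟩ := Groth.Agent.Lib.SmWeil.exists_centralizer_torus hT j
  obtain ⟨e, -⟩ := Groth.Agent.Lib.SmWeil.CartanDim.exists_iso hC hC₁
  haveI : LocallyOfFiniteType C.hom := by
    haveI : IsIso e.hom.left := ((Over.forget _).mapIso e).isIso_hom
    rw [← Over.w e.hom]
    infer_instance
  let σ := Red.geomPt s
  haveI : Smooth (Red.bc σ G).hom := MorphismProperty.pullback_snd (P := @Smooth) _ _ inferInstance
  haveI : QuasiCompact (Red.bc σ G).hom := MorphismProperty.pullback_snd (P := @QuasiCompact) _ _ inferInstance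
  haveI : IsAffineHom G.hom := inferInstance
  haveI : IsAffine (Red.bc σ G).left := by
    haveI : IsAffineHom (Red.bc σ G).hom := MorphismProperty.pullback_snd (P := @IsAffineHom) _ _ inferInstance
    exact isAffine_of_isAffineHom (Red.bc σ G).hom
  have h := Groth.Agent.Lib.SmWeil.CartanDim.dim_le ((Over.pullback σ).map j)
    (Groth.Agent.Lib.Tori.Basic.isTorus_bc hT σ) ((Over.pullback σ).map c)
    (Groth.Agent.H1.Classical.FieldDescent.isCentralizerOf_bc σ hC) c' hC'
  exact h.trans_eq (Groth.Agent.H56.DimBaseChange.topologicalKrullDim_baseChange σ C.hom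
    (Limits.pullback.snd C.hom σ) (Limits.pullback.fst C.hom σ) (IsPullback.of_hasPullback C.hom σ))

end Groth.Agent.S8403
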