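import Groth.Statements.S8404
import Groth.Agent.Lib.SmWeil.CartanDescent
import Groth.Agent.H1.Classical.NilpotentScheme
import Groth.Agent.S4115

set_option autoImplicit false
universe u
open CategoryTheory MonoidalCategory CartesianMonoidalCategory MonObj GrpObj AlgebraicGeometry
open SGA3x

namespace Groth.Agent.S8404

open Groth.Agent Groth.Agent.Lib
set_option linter.style.haveILetI false

/-- Let G be an S-group scheme, smooth and affine over S, such that every geometric fibre of G is
connected and nilpotent (its group of points over the algebraic closure is a nilpotent group), and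
such that the reductive rank of G is locally constant. Then G has a unique maximal torus T; T is
central and contains every subtorus of G. -/
theorem result (S : Scheme.{u}) (G : Over S) [GrpObj G]
    [Smooth G.hom] [IsAffineHom G.hom]
    (hconn : ∀ s : S, ConnectedSpace ↥(Red.geomFibre s G).left)
    (hnil : ∀ s : S, Group.IsNilpotent
      (𝟙_ (Over (Spec (CommRingCat.of (AlgebraicClosure (S.residueField s))))) ⟶ Red.geomFibre s G))
    (hr : SGA3x.RedRankLocallyConstant G) :
    ∃ (T : Over S) (_ : GrpObj T) (i : T ⟶ G), Red.IsMaximalTorus i ∧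
      (∀ (X : Over S) (t : X ⟶ T) (g : X ⟶ G), (t ≫ i) * g = g * (t ≫ i)) ∧
      ∀ (R : Over S) [GrpObj R] (j : R ⟶ G) [IsMonHom j] [Mono j], Red.IsTorus R → ∃ f : R ⟶ T, f ≫ i = j := by
  obtain ⟨S', f, hf, hfs, hT⟩ := (Groth.Agent.S4115.result S G).1 hr
  haveI := hf
  haveI := hfs
  have hG : SGA3x.HasMaxTorusFpqcLocally G :=
    ⟨S', f, inferInstance, inferInstance, SmWeil.CartanAux.isQCCover_of_isOpenMap f f.isOpenMap, hT⟩
  haveI : IsSeparated G.hom := inferInstance
  haveI : QuasiCompact G.hom := inferInstance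
  have hc : SGA3x.IsCartan (𝟙 G) := by
    refine ⟨inferInstance, inferInstance, ‹Smooth G.hom›, fun s => ?_⟩
    rw [CategoryTheory.Functor.map_id]
    let K := AlgebraicClosure (S.residueField s)
    let Gs := Red.bc (Red.geomPt s) G
    haveI : Smooth Gs.hom := MorphismProperty.pullback_snd (P := @Smooth) _ _ inferInstance
    haveI : IsAffineHom Gs.hom := MorphismProperty.pullback_snd (P := @IsAffineHom) _ _ inferInstance
    haveI : IsAffine Gs.left := isAffine_of_isAffineHom Gs.hom
    haveI : ConnectedSpace ↥Gs.left := hconn s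
    have hn : AGF.IsNilpotentGrp Gs := by
      obtain ⟨n, hn⟩ := (hnil s).nilpotent'
      exact H1.Classical.NilpotentScheme.isNilpotentGrp_of_points n
        (H1.Classical.Torus.NilpotentPts.eq_one_of_upper hn)
    obtain ⟨T, _, iT, hT⟩ := H1.Classical.MaxTorusExists.exists_maxTorus Gs
    haveI := hT.1
    haveI := hT.2.1
    exact ⟨inferInstanceAs (IsMonHom (𝟙 Gs)), inferInstanceAs (Mono (𝟙 Gs)), T, inferInstance, iT,
      SmWeil.isMaximalTorus_of_maximal iT hT.2.2.1 (fun T' _ j _ _ a h e => hT.2.2.2 T' j a h e),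
      inferInstanceAs (IsMonHom (𝟙 Gs)), inferInstanceAs (Mono (𝟙 Gs)),
      fun X g => ⟨fun _ X' x h => H1.Classical.NilpotentScheme.maxTorus_central hn hT (x ≫ g) h,
        fun _ => ⟨g, Category.comp_id g⟩⟩⟩
  obtain ⟨T, _, i, hTi, hcen⟩ := SmWeil.CartanDescent.exists_maximalTorus hG hc
  have hcentral : ∀ (X : Over S) (t : X ⟶ T) (g : X ⟶ G), (t ≫ i) * g = g * (t ≫ i) := fun X t g => by
    have := (hcen.2.2 X g).1 ⟨g, Category.comp_id g⟩ X (𝟙 X) t
    rw [Category.id_comp] at this
    exact this.symm
  refine ⟨T, inferInstance, i, hTi, hcentral, fun R _ j _ _ hR => ?_⟩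
  exact H87.TorusIn.exists_fac i hTi j hR fun X t r => hcentral X t (r ≫ j)

end Groth.Agent.S8404
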