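import Groth.Statements.S8405
import Groth.Agent.S14575
import Groth.Agent.S5369
import Groth.Agent.S5372
import Groth.Agent.Lib.SpHomog.Normal
import Groth.Agent.Lib.GrpQ.Transfer

set_option autoImplicit false
universe u
open CategoryTheory MonoidalCategory CartesianMonoidalCategory MonObj GrpObj AlgebraicGeometry
open SGA3x

namespace Groth.Agent.S8405

/-- Let G be a connected algebraic group (a group scheme of finite type) over a field k, z : Z → G the
centre of G and q : G → Q a morphism representing the fppf quotient G/Z. Then Q is an affine scheme.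
(The published statement allows any subgroup of finite index in the centre; this row takes Z to be
the centre itself.) -/
theorem result (k : Type u) [Field k]
    (G : Over (Spec (CommRingCat.of k))) [GrpObj G] [QuasiCompact G.hom] [LocallyOfFiniteType G.hom] [ConnectedSpace ↥G.left]
    (Z : Over (Spec (CommRingCat.of k))) [GrpObj Z] (z : Z ⟶ G) (hZ : Red.IsCentre z)
    (Q : Over (Spec (CommRingCat.of k))) (q : G ⟶ Q) (hq : RedSub.IsQuotient z q) : IsAffine Q.left := by
  obtain ⟨hm, hmono, hpts⟩ := hZ
  haveI := hm; haveI := hmono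
  obtain ⟨hs, hf, hl, hsq⟩ := hq
  haveI := hs; haveI := hf; haveI := hl
  have hN : AlgGrp.IsNormalHom z := fun T g n => by
    refine ⟨n, ?_⟩
    have h : (n ≫ z) * g = g * (n ≫ z) := by
      simpa using (hpts T (n ≫ z)).1 ⟨n, rfl⟩ T (𝟙 T) g
    rw [← h, mul_inv_cancel_right]
  have hcov : ∃ (W : Scheme.{u}) (c : W ⟶ Q.left) (r : W ⟶ G.left), r ≫ q.left = c ∧ Surjective c ∧ Flat c ∧
      ∀ V : Q.left.Opens, IsAffineOpen V → ∃ W' : W.Opens, IsCompact (W' : Set W) ∧ c.base '' (W' : Set W) = (V : Set Q.left) :=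
    ⟨G.left, q.left, 𝟙 _, Category.id_comp _, hs, hf, Groth.Agent.Lib.SpHomog.exists_isCompact_image_eq q.left⟩
  obtain ⟨gQ, hqm, -⟩ := Groth.Agent.S5372.result _ G Z Q z q hcov hsq.flip hN
  haveI := hqm
  have hker : AlgGrp.IsKernel z q := by
    have h := (Groth.Agent.S5369.result _ G Z Q z q hcov hsq.flip).1
    have h9 : η[G] ≫ q = η[Q] := IsMonHom.one_hom q
    show IsPullback z (toUnit Z) q η[Q]
    rw [← h9]
    exact h
  haveI : LocallyOfFiniteType Q.hom :=
    Groth.Agent.H14.FppfDesc.Scheme.locallyOfFiniteType_of_comp q.left Q.hom (by rw [Over.w]; infer_instance)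
  haveI : QuasiCompact Q.hom := by
    haveI : QuasiCompact (q.left ≫ Q.hom) := by rw [Over.w]; infer_instance
    exact Groth.Agent.Lib.GrpQ.Transfer.quasiCompact_of_comp_surjective q.left Q.hom
  exact Groth.Agent.S14575.result k G Z z ⟨hm, hmono, hpts⟩ Q q hker

end Groth.Agent.S8405
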