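import Groth.Statements.S8408
import Groth.Agent.H87.TorusIn
import Groth.Agent.H87.Normal
import Groth.Agent.H87.MT
import Groth.Agent.Lib.SmWeil.TorusCentralizer
import Groth.Agent.Lib.SmWeil.FieldTori
import Groth.Agent.H1.Classical.CartanOpen
import Groth.Agent.H1.Classical.CentralizerScheme
-- import your own Groth.Agent.* helpers here

set_option autoImplicit false
universe u
open CategoryTheory MonoidalCategory CartesianMonoidalCategory MonObj GrpObj AlgebraicGeometry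
open SGA3x

namespace Groth.Agent.S8408

open CategoryTheory.Limits Groth.Agent.Lib.RedPts
open Groth.Agent.H87.CentralEq (Fac)

set_option linter.style.haveILetI false

/-- A point normalizing the centralizer of a maximal torus normalizes the torus. -/
theorem normalizes_torus {k : Type u} [Field k] [IsAlgClosed k] {G : Over (Spec (CommRingCat.of k))} [GrpObj G]
    [Smooth G.hom] [QuasiCompact G.hom]
    {T : Over (Spec (CommRingCat.of k))} [GrpObj T] {i : T ⟶ G} (hT : Red.IsMaximalTorus i)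
    {C : Over (Spec (CommRingCat.of k))} [GrpObj C] {c : C ⟶ G} (hC : Red.IsCentralizerOf i c)
    {t' : T ⟶ C} (ht' : t' ≫ c = i)
    {X : Over (Spec (CommRingCat.of k))} (a : X ⟶ G)
    (ha : ∀ (Y : Over (Spec (CommRingCat.of k))) (y : Y ⟶ X) (h : Y ⟶ C),
      ∃ h' : Y ⟶ C, (y ≫ a) * (h ≫ c) * (y ≫ a)⁻¹ = h' ≫ c)
    (t : X ⟶ T) : ∃ b : X ⟶ T, a * (t ≫ i) * a⁻¹ = b ≫ i := by
  haveI := hC.1
  haveI := hC.2.1
  haveI := hT.1
  haveI := hT.2.1
  haveI := Groth.Agent.Lib.GrpSch.isSeparated_of_field G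
  have hTt := hT.2.2.1
  haveI := Groth.Agent.Lib.Tori.Basic.smooth_of_isTorus hTt
  haveI := Groth.Agent.Lib.Tori.Basic.isAffineHom_of_isTorus hTt
  haveI := Groth.Agent.Lib.SmWeil.geometricallyConnected_of_isTorus hTt
  obtain ⟨C₀, _, c₀, hC₀, -, hC₀s⟩ := Groth.Agent.Lib.SmWeil.exists_centralizer_torus hTt i
  obtain ⟨ee, hee⟩ := Groth.Agent.H1.Classical.CentralizerScheme.iso_of_isCentralizerOf hC₀ hC
  haveI := hC₀s
  haveI : IsIso ee.inv.left := inferInstanceAs (IsIso ((Over.forget _).map ee.inv))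
  haveI : Smooth C.hom := by rw [← Over.w ee.inv]; infer_instance
  haveI := Groth.Agent.Lib.SmWeil.lfp_left c
  obtain ⟨M, m, hm, hmfp, hM⟩ := Groth.Agent.Lib.SmWeil.exists_transporter_mono i c
  haveI := hm
  haveI : LocallyOfFiniteType M.hom := by rw [← Over.w m]; infer_instance
  -- conjugation by the universal point
  let S' := M.left
  let f : S' ⟶ Spec (CommRingCat.of k) := M.hom
  let q : ∀ Y : Over S', (Over.map f).obj Y ⟶ M := fun Y => Over.homMk Y.hom rfl
  let Φ : Red.bc f T ⟶ Red.bc f G := BC.up f ((q (Red.bc f T) ≫ m) * (BC.down f (𝟙 _) ≫ i) * (q (Red.bc f T) ≫ m)⁻¹)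
  have hΦ : ∀ {Y : Over S'} (y : Y ⟶ Red.bc f T),
      BC.down f (y ≫ Φ) = (q Y ≫ m) * (BC.down f y ≫ i) * (q Y ≫ m)⁻¹ := by
    intro Y y
    have hq : (Over.map f).map y ≫ q (Red.bc f T) = q Y := Over.OverMorphism.ext (Over.w y)
    rw [BC.down_comp, BC.down_up, MonObj.comp_mul, MonObj.comp_mul, GrpObj.comp_inv, ← Category.assoc _ _ m, hq,
      ← Category.assoc _ (BC.down f (𝟙 _)), ← BC.down_comp, Category.comp_id]
  haveI : IsMonHom Φ := Groth.Agent.H87.HomDS.isMonHom_of_points Φ fun Y x y => BC.down_injective (by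
    rw [hΦ, BC.down_mul, BC.down_mul, hΦ, hΦ, MonObj.mul_comp]
    group)
  haveI : IsSeparated (Red.bc f G).hom := inferInstanceAs (IsSeparated (pullback.snd G.hom f))
  haveI : LocallyOfFinitePresentation (Red.bc f G).hom :=
    inferInstanceAs (LocallyOfFinitePresentation (pullback.snd G.hom f))
  haveI : Mono ((Over.pullback f).map i) := inferInstance
  have hMTf := Groth.Agent.H87.Normal.multTypeFT_bc (Groth.Agent.H87.GmFibre.isMultTypeFT_of_isTorus hTt) f
  obtain ⟨U, hUc, hU, hUf⟩ := Groth.Agent.H87.EqLocus.exists_fac_locus Φ ((Over.pullback f).map i) hMTf hMTf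
    (Or.inr inferInstance) (fun Y h h' => BC.down_injective (by
      rw [BC.down_mul, BC.down_mul, hΦ, BC.down_map]
      obtain ⟨κ, hκ⟩ := (hM (q Y ≫ m)).1 ⟨q Y, rfl⟩ _ (𝟙 _) (BC.down f h)
      rw [Category.id_comp] at hκ
      rw [hκ]
      have := (hC.2.2 _ (κ ≫ c)).1 ⟨κ, rfl⟩ _ (𝟙 _) (BC.down f h')
      rwa [Category.id_comp] at this))
  have hclosed : closedPoints S' ⊆ (U : Set S') := by
    intro s hs
    obtain ⟨x, hx⟩ := Groth.Agent.H1.Classical.Scheme'.exists_point (Y := M) hs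
    let g := x ≫ m
    let o : 𝟙_ (Over (Spec (CommRingCat.of k))) ⟶ G := g
    let j : T ⟶ G := (toUnit T ≫ o) * i * (toUnit T ≫ o)⁻¹
    have hj : ∀ (Y : Over (Spec (CommRingCat.of k))) (y : Y ⟶ T),
        y ≫ j = (toUnit Y ≫ o) * (y ≫ i) * (toUnit Y ≫ o)⁻¹ := fun Y y => by
      simp only [j, MonObj.comp_mul, GrpObj.comp_inv, ← Category.assoc, toUnit_unique (y ≫ toUnit _) (toUnit Y)]
    haveI : IsMonHom j := Groth.Agent.H87.HomDS.isMonHom_of_points j fun Y a b => by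
      rw [hj, hj, hj, MonObj.mul_comp]
      group
    obtain ⟨w, hw⟩ := Groth.Agent.H87.TorusIn.exists_fac_field i j hTt hTt
      (fun T' _ j' _ _ f' h1 h2 => Groth.Agent.Lib.SmWeil.maximal_of_isMaximalTorus hT j' f' h1 h2)
      (fun Y a b => by
        rw [hj]
        obtain ⟨κ, hκ⟩ := (hM (x ≫ m)).1 ⟨x, rfl⟩ Y (toUnit Y) b
        rw [show (toUnit Y ≫ o) = toUnit Y ≫ x ≫ m from rfl, hκ]
        have := (hC.2.2 _ (κ ≫ c)).1 ⟨κ, rfl⟩ _ (𝟙 _) a
        rw [Category.id_comp] at this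
        exact this.symm)
    rw [SetLike.mem_coe, hU]
    let xs : Spec (CommRingCat.of k) ⟶ S' := x.left
    have hfac : Fac Φ ((Over.pullback f).map i) xs := by
      intro Y p y
      let ε : (Over.map f).obj Y ⟶ 𝟙_ (Over (Spec (CommRingCat.of k))) := toUnit _
      have hq : q Y = ε ≫ x := by
        have e1 : p.left ≫ xs = Y.hom := Over.w p
        have e2 : Y.hom ≫ f = p.left := by
          rw [← e1]
          exact (Category.assoc _ _ _).trans ((congrArg (p.left ≫ ·) (Over.w x)).trans (Category.comp_id _))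
        apply Over.OverMorphism.ext
        show Y.hom = (Y.hom ≫ f) ≫ x.left
        exact e1.symm.trans (congrArg (· ≫ xs) e2.symm)
      refine ⟨BC.up f (BC.down f y ≫ w), BC.down_injective ?_⟩
      rw [BC.down_map, BC.down_up, Category.assoc, hw, hΦ, hj, hq]
      simp only [ε, o, g, Category.assoc]
    have h1 := (Groth.Agent.H87.Charts.fib_point_iff (MorphismProperty.isomorphisms Scheme) xs
      (Groth.Agent.H87.CentralEq.proj Φ ((Over.pullback f).map i))).1
      ((Groth.Agent.H87.CentralEq.fib_iso_iff Φ ((Over.pullback f).map i) xs).2 hfac)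
    have hs' : xs (IsLocalRing.closedPoint k) = s := hx _
    rw [hs'] at h1
    exact (Groth.Agent.H87.CentralEq.fib_iso_iff Φ ((Over.pullback f).map i) _).1 h1
  have hall : ∀ s : S', s ∈ U := fun s => by
    haveI : JacobsonSpace S' := LocallyOfFiniteType.jacobsonSpace M.hom
    by_contra hs
    obtain ⟨z, hz, hzc⟩ := nonempty_inter_closedPoints (X := S') (Z := (U : Set S')ᶜ) ⟨s, hs⟩
      U.isOpen.isClosed_compl.isLocallyClosed
    exact hz (hclosed hzc)
  obtain ⟨z, hz⟩ := (hM a).2 fun Y y h => by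
    obtain ⟨h', hh'⟩ := ha Y y (h ≫ t')
    rw [Category.assoc, ht'] at hh'
    exact ⟨h', hh'⟩
  let Y : Over S' := Over.mk z.left
  let θ : (Over.map f).obj Y ≅ X := Over.isoMk (Iso.refl _) ((Category.id_comp _).trans (Over.w z).symm)
  have hr : Set.range Y.hom ⊆ Set.range U.ι := by
    rintro y -
    rw [Scheme.Opens.range_ι]
    exact hall y
  obtain ⟨b, hb⟩ := hUf Y (Over.homMk (IsOpenImmersion.lift U.ι Y.hom hr) (IsOpenImmersion.lift_fac _ _ _))
    (BC.up f (θ.hom ≫ t))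
  refine ⟨θ.inv ≫ BC.down f b, ?_⟩
  have hq : q Y = θ.hom ≫ z := Over.OverMorphism.ext (Category.id_comp _).symm
  have h2 := congrArg (BC.down f) hb
  rw [BC.down_map, hΦ, BC.down_up, hq, Category.assoc, Category.assoc, hz, ← GrpObj.comp_inv, ← MonObj.comp_mul,
    ← MonObj.comp_mul] at h2
  rw [Category.assoc, h2, Iso.inv_hom_id_assoc]

/-- Let G be a smooth connected algebraic group (not necessarily affine) over an algebraically closed
field k, T a maximal torus of G and C = Centr_G(T) the corresponding Cartan subgroup. Then Norm_G(C)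
= Norm_G(T): a subgroup scheme n : N → G represents the normalizer of C if and only if it represents
the normalizer of T. (The published item c) says more about the Cartan subgroup C; this row states
only its last assertion, the equality of the two normalizers.) -/
theorem result (k : Type u) [Field k] [IsAlgClosed k]
    (G : Over (Spec (CommRingCat.of k))) [GrpObj G] [Smooth G.hom] [QuasiCompact G.hom] [ConnectedSpace ↥G.left]
    (T : Over (Spec (CommRingCat.of k))) [GrpObj T] (i : T ⟶ G) (hT : Red.IsMaximalTorus i)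
    (C : Over (Spec (CommRingCat.of k))) [GrpObj C] (c : C ⟶ G) (hC : Red.IsCentralizerOf i c)
    (N : Over (Spec (CommRingCat.of k))) [GrpObj N] (n : N ⟶ G) :
    Red.IsNormalizerOf c n ↔ Red.IsNormalizerOf i n := by
  haveI := hC.1
  haveI := hC.2.1
  haveI := hT.1
  haveI := hT.2.1
  suffices key : ∀ (X : Over (Spec (CommRingCat.of k))) (g : X ⟶ G),
      (∀ (X' : Over (Spec (CommRingCat.of k))) (x : X' ⟶ X) (h : X' ⟶ C),
        (∃ h' : X' ⟶ C, (x ≫ g) * (h ≫ c) * (x ≫ g)⁻¹ = h' ≫ c) ∧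
        (∃ h' : X' ⟶ C, (x ≫ g)⁻¹ * (h ≫ c) * (x ≫ g) = h' ≫ c)) ↔
      (∀ (X' : Over (Spec (CommRingCat.of k))) (x : X' ⟶ X) (h : X' ⟶ T),
        (∃ h' : X' ⟶ T, (x ≫ g) * (h ≫ i) * (x ≫ g)⁻¹ = h' ≫ i) ∧
        (∃ h' : X' ⟶ T, (x ≫ g)⁻¹ * (h ≫ i) * (x ≫ g) = h' ≫ i)) by
    constructor
    · rintro ⟨h1, h2, h3⟩; exact ⟨h1, h2, fun X g => (h3 X g).trans (key X g)⟩
    · rintro ⟨h1, h2, h3⟩; exact ⟨h1, h2, fun X g => (h3 X g).trans (key X g).symm⟩
  intro X g
  constructor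
  · intro hg X' x t
    obtain ⟨t', ht'⟩ := (hC.2.2 T i).2 fun Y y h => by
      rw [← MonObj.mul_comp, ← MonObj.mul_comp, Groth.Agent.Lib.Tori.Comm.mul_comm_of_isTorus hT.2.2.1]
    refine ⟨normalizes_torus hT hC ht' (x ≫ g) (fun Y y a => ?_) t, ?_⟩
    · obtain ⟨a', ha'⟩ := (hg Y (y ≫ x) a).1
      rw [Category.assoc] at ha'
      exact ⟨a', ha'⟩
    · obtain ⟨b, hb⟩ := normalizes_torus hT hC ht' (x ≫ g)⁻¹ (fun Y y a => by
        obtain ⟨a', ha'⟩ := (hg Y (y ≫ x) a).2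
        rw [Category.assoc] at ha'
        exact ⟨a', by rw [GrpObj.comp_inv, _root_.inv_inv]; exact ha'⟩) t
      exact ⟨b, by rwa [_root_.inv_inv] at hb⟩
  · intro hg X' x h
    have aux : ∀ (a : X' ⟶ G), (∀ (Y : Over (Spec (CommRingCat.of k))) (y : Y ⟶ X') (t : Y ⟶ T),
        ∃ t' : Y ⟶ T, (y ≫ a)⁻¹ * (t ≫ i) * (y ≫ a) = t' ≫ i) →
        ∃ h' : X' ⟶ C, a * (h ≫ c) * a⁻¹ = h' ≫ c := by
      intro a ha
      obtain ⟨h', hh'⟩ := (hC.2.2 X' (a * (h ≫ c) * a⁻¹)).2 fun Y y t => by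
        obtain ⟨t', ht'⟩ := ha Y y t
        have h2 : (y ≫ h ≫ c) * (t' ≫ i) = (t' ≫ i) * (y ≫ h ≫ c) := (hC.2.2 X' (h ≫ c)).1 ⟨h, rfl⟩ Y y t'
        have h3 : t ≫ i = (y ≫ a) * (t' ≫ i) * (y ≫ a)⁻¹ := by rw [← ht']; group
        rw [MonObj.comp_mul, MonObj.comp_mul, GrpObj.comp_inv, h3]
        calc (y ≫ a) * (y ≫ h ≫ c) * (y ≫ a)⁻¹ * ((y ≫ a) * (t' ≫ i) * (y ≫ a)⁻¹)
            = (y ≫ a) * ((y ≫ h ≫ c) * (t' ≫ i)) * (y ≫ a)⁻¹ := by group
          _ = (y ≫ a) * ((t' ≫ i) * (y ≫ h ≫ c)) * (y ≫ a)⁻¹ := by rw [h2]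
          _ = _ := by group
      exact ⟨h', hh'.symm⟩
    constructor
    · refine aux (x ≫ g) fun Y y t => ?_
      obtain ⟨t', ht'⟩ := (hg Y (y ≫ x) t).2
      rw [Category.assoc] at ht'
      exact ⟨t', ht'⟩
    · obtain ⟨h', hh'⟩ := aux (x ≫ g)⁻¹ fun Y y t => by
        obtain ⟨t', ht'⟩ := (hg Y (y ≫ x) t).1
        rw [Category.assoc] at ht'
        exact ⟨t', by rw [GrpObj.comp_inv, _root_.inv_inv]; exact ht'⟩
      exact ⟨h', by rwa [_root_.inv_inv] at hh'⟩

end Groth.Agent.S8408
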