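import Groth.Statements.S8410
import Groth.Agent.H87.CentralExt
import Groth.Agent.H87.MT
import Groth.Agent.Lib.GrpQ.MonoClosed
-- import your own Groth.Agent.* helpers here

set_option autoImplicit false
set_option linter.style.haveILetI false
universe u
open CategoryTheory MonoidalCategory CartesianMonoidalCategory MonObj GrpObj AlgebraicGeometry
open SGA3x

namespace Groth.Agent.S8410

open Groth.Agent Groth.Agent.Lib.RedPts CategoryTheory.Limits

/-- Let G be an S-group scheme, smooth and affine over S with connected fibres, Z a reductive centre of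
G (central, of multiplicative type, and universal after every base change for central homomorphisms
from groups of multiplicative type and finite type), and q : G → G′ a homomorphism representing the
quotient G/Z. Then the unit subgroup is a reductive centre of G′: for every S′ → S, every central
homomorphism H → G′ ×_S S′ from an S′-group H of multiplicative type and of finite type is trivial.
(The published item b) first asserts that G/Z is representable; this row takes a representing
homomorphism q as given and states its second assertion.) -/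
theorem result (S : Scheme.{u}) (G : Over S) [GrpObj G]
    [Smooth G.hom] [IsAffineHom G.hom] (hconn : ∀ s : S, _root_.IsConnected (G.hom.base ⁻¹' {s}))
    (Z : Over S) [GrpObj Z] (z : Z ⟶ G) (hZ : (IsMonHom z ∧ Mono z ∧ SGA3x.IsMultTypeFT Z ∧
      (∀ (X : Over S) (x : X ⟶ Z) (g : X ⟶ G), (x ≫ z) * g = g * (x ≫ z)) ∧
      ∀ (S' : Scheme.{u}) (f : S' ⟶ S) (H : Over S') [GrpObj H] (v : H ⟶ Red.bc f G) [IsMonHom v],
        SGA3x.IsMultTypeFT H →
        (∀ (X : Over S') (x : X ⟶ H) (g : X ⟶ Red.bc f G), (x ≫ v) * g = g * (x ≫ v)) →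
        ∃ w : H ⟶ Red.bc f Z, w ≫ (Over.pullback f).map z = v))
    (G' : Over S) [GrpObj G'] (q : G ⟶ G') [IsMonHom q] (hq : RedSub.IsQuotient z q)
    (S' : Scheme.{u}) (f : S' ⟶ S) (H : Over S') [GrpObj H] (v : H ⟶ Red.bc f G') [IsMonHom v]
    (hH : SGA3x.IsMultTypeFT H)
    (hv : ∀ (X : Over S') (x : X ⟶ H) (g : X ⟶ Red.bc f G'), (x ≫ v) * g = g * (x ≫ v)) :
    v = 1 := by
  obtain ⟨hzh, hzm, hZm, hzc, huniv⟩ := hZ
  haveI := hzh
  haveI := hzm
  obtain ⟨hq1, hq2, hq3, hq4⟩ := id hq
  haveI := hq1
  haveI := hq2
  haveI := hq3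
  haveI : IsAffineHom Z.hom := H87.MT.isAffineHom hZm
  haveI : QuasiCompact ((Over.forget S).map (fst G Z)) := inferInstanceAs (QuasiCompact (Limits.pullback.fst G.hom Z.hom))
  haveI : QuasiCompact q.left := @H87.CentralExt.quasiCompact_of_kernelPair _ _ _ _ _ _ (hq4.map (Over.forget S))
    (inferInstanceAs (QuasiCompact (Limits.pullback.fst G.hom Z.hom))) hq2 hq3 hq1
  have hquot := H87.TorusQuot.quot_bc (H87.TorusQuot.quot_of_isQuotient z q hq) f
  haveI : QuasiCompact ((Over.pullback f).map q).left :=
    Lib.GrpSch.bc_map_left_of (P := @QuasiCompact) f q ‹_›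
  haveI : Mono ((Over.pullback f).map z) := inferInstance
  have hc' : ∀ (X : Over S') (x : X ⟶ Red.bc f Z) (g : X ⟶ Red.bc f G),
      (x ≫ (Over.pullback f).map z) * g = g * (x ≫ (Over.pullback f).map z) := fun X x g => BC.down_injective (by
    rw [BC.down_mul, BC.down_mul, BC.down_map]
    exact hzc _ _ _)
  have hconn' : ∀ s' : S', ConnectedSpace ↥(Limits.pullback (Red.bc f G).hom (S'.fromSpecResidueField s')) := by
    intro s'
    haveI : ConnectedSpace ↥(Limits.pullback G.hom (S.fromSpecResidueField (f s'))) :=
      (G.hom.fiberHomeo (f s')).connectedSpace_iff.mpr (isConnected_iff_connectedSpace.mp (hconn (f s')))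
    let e : Spec (S.residueField (f s')) ⟶ Limits.pullback G.hom (S.fromSpecResidueField (f s')) :=
      Limits.pullback.lift (S.fromSpecResidueField (f s') ≫ η[G].left) (𝟙 _) (by
        rw [Category.assoc, Category.id_comp]
        erw [Over.w η[G]]
        exact Category.comp_id _)
    haveI : ConnectedSpace ↥(Spec (S'.residueField s')) := inferInstanceAs (ConnectedSpace (PrimeSpectrum (S'.residueField s')))
    haveI := Groth.Agent.S5342.result (S.residueField (f s')) _ _
      (Limits.pullback.snd G.hom (S.fromSpecResidueField (f s'))) (Spec.map (f.residueFieldMap s')) e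
      (Limits.pullback.lift_snd _ _ _)
    have hcomp : S'.fromSpecResidueField s' ≫ f = Spec.map (f.residueFieldMap s') ≫ S.fromSpecResidueField (f s') := by
      simp
    let i1 := pullbackLeftPullbackSndIso G.hom (S.fromSpecResidueField (f s')) (Spec.map (f.residueFieldMap s'))
    let i2 := pullback.congrHom (f₁ := G.hom) rfl hcomp.symm
    let i3 := pullbackLeftPullbackSndIso G.hom f (S'.fromSpecResidueField s')
    exact (Scheme.homeoOfIso (i1 ≪≫ i2 ≪≫ i3.symm)).connectedSpace_iff.mp inferInstance
  obtain ⟨P, _, x, p, hx, hP, hcen, hp, hpx, -⟩ := H87.CentralExt.exists_central_preimage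
    ((Over.pullback f).map q) ((Over.pullback f).map z) v hquot hc' (H87.Normal.multTypeFT_bc hZm f) hH hv hconn'
  haveI := hx
  haveI := hp
  obtain ⟨w, hw⟩ := huniv S' f P x hP hcen
  rw [← cancel_epi p, ← hpx, ← hw, Category.assoc,
    (hquot.ker ((Over.pullback f).map z)).2 ⟨𝟙 _, Category.id_comp _⟩, MonObj.comp_one, MonObj.comp_one]

end Groth.Agent.S8410
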