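import Groth.Statements.S8411
import Groth.Agent.Lib.SmWeil.CartanOpen

set_option autoImplicit false
universe u
open CategoryTheory MonoidalCategory CartesianMonoidalCategory MonObj GrpObj AlgebraicGeometry
open SGA3x

namespace Groth.Agent.S8411

/-- Let G be an S-group scheme, smooth, separated and of finite type over S with connected fibres,
admitting a maximal torus locally for the fpqc topology; let C be a closed subgroup scheme of G,
smooth over S with connected fibres, and s ∈ S such that the geometric fibre C_s̄ is a Cartan
subgroup of G_s̄. Then C restricted to some open neighbourhood U of s is a Cartan subgroup of G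
restricted to U. (The published statement allows any closed smooth subgroup scheme C and concludes
for its neutral component C⁰; this row assumes that C has connected fibres, so that C⁰ = C.) -/
theorem result (S : Scheme.{u}) (G : Over S) [GrpObj G]
    [Smooth G.hom] [IsSeparated G.hom] [QuasiCompact G.hom] (hconn : ∀ s : S, _root_.IsConnected (G.hom.base ⁻¹' {s}))
    (hG : SGA3x.HasMaxTorusFpqcLocally G)
    (C : Over S) [GrpObj C] (c : C ⟶ G) [IsMonHom c] (hc : IsClosedImmersion c.left) [Smooth C.hom]
    (hCconn : ∀ s : S, _root_.IsConnected (C.hom.base ⁻¹' {s})) (s : S)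
    (hs : SGA3x.IsCartanOver (AlgebraicClosure (S.residueField s)) ((Over.pullback (Red.geomPt s)).map c)) :
    ∃ U : S.Opens, s ∈ U ∧ SGA3x.IsCartan ((Over.pullback U.ι).map c) := by
  haveI := hc
  haveI : Mono c := Lib.GrpQ.mono_of_left c
  haveI := Lib.SmWeil.CartanOpen.geometricallyConnected_of_fibres G hconn
  haveI := Lib.SmWeil.CartanOpen.geometricallyConnected_of_fibres C hCconn
  let U : S.Opens := ⟨_, Lib.SmWeil.CartanOpen.isOpen_cartan hG c⟩
  exact ⟨U, hs, inferInstance, inferInstance, MorphismProperty.pullback_snd (P := @Smooth) _ _ inferInstance,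
    fun t => (Lib.SmWeil.CartanOpen.isCartanOver_iff c U.ι t).2 t.2⟩

end Groth.Agent.S8411
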