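import Groth.Statements.S8416
import Groth.Agent.Lib.MultSmooth.FixFP

set_option autoImplicit false
universe u
open CategoryTheory MonoidalCategory CartesianMonoidalCategory MonObj GrpObj AlgebraicGeometry
open SGA3x

namespace Groth.Agent.S8416

/-- Let G be an S-group scheme of multiplicative type and of finite type acting on an S-scheme X which
is smooth, separated and of finite presentation over S, and suppose that the functor of fixed points
X^G (T-points x of X with g · x_{T′} = x_{T′} for every T′ → T and every T′-point g of G) is
represented by a closed subscheme F of X. Then F is smooth over S. (The published statement, for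
groups admitting a composition series of which groups of multiplicative type are one case, also
asserts that X^G is represented by a closed subscheme of X of finite presentation over S; this row
takes the representing closed subscheme as given and states its smoothness.) -/
theorem result (S : Scheme.{u}) (G : Over S) [GrpObj G]
    (hG : SGA3x.IsMultTypeFT G) (X : Over S) [Smooth X.hom] [QuasiCompact X.hom] [IsSeparated X.hom]
    (a : AlgGrp.Action G X) (F : Scheme.{u}) (f : F ⟶ X.left) (hf : IsClosedImmersion f)
    (hF : ∀ (T : Over S) (x : T ⟶ X), (∃ y : T.left ⟶ F, y ≫ f = x.left) ↔
        ∀ (T' : Over S) (t : T' ⟶ T) (g : T' ⟶ G), lift g (t ≫ x) ≫ a.act = t ≫ x) :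
    Smooth (f ≫ X.hom) := by
  exact Groth.Agent.Lib.MultSmooth.smooth_fixedPoints' hG a f hF

end Groth.Agent.S8416
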