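import Groth.Statements.S8419
import Groth.Agent.H87.QuotAffine
-- import your own Groth.Agent.* helpers here

set_option autoImplicit false
universe u
open CategoryTheory MonoidalCategory CartesianMonoidalCategory MonObj GrpObj AlgebraicGeometry
open SGA3x

namespace Groth.Agent.S8419

set_option maxHeartbeats 800000 in
/-- Let G be a smooth affine algebraic group over a field k and H a subgroup of G of multiplicative type
(and of finite type), with centralizer C and normalizer N. Then the quotients G/C and G/N are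
affine: any k-scheme representing the fppf quotient of G by C (resp. by N) is affine. -/
theorem result (k : Type u) [Field k]
    (G : Over (Spec (CommRingCat.of k))) [GrpObj G] [Smooth G.hom] [QuasiCompact G.hom] [IsAffine G.left]
    (H : Over (Spec (CommRingCat.of k))) [GrpObj H] (h : H ⟶ G) [IsMonHom h] [Mono h] (hH : SGA3x.IsMultTypeFT H)
    (C N : Over (Spec (CommRingCat.of k))) [GrpObj C] [GrpObj N] (c : C ⟶ G) (n : N ⟶ G)
    (hC : Red.IsCentralizerOf h c) (hN : Red.IsNormalizerOf h n) :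
    (∀ (Q : Over (Spec (CommRingCat.of k))) (q : G ⟶ Q), RedSub.IsQuotient c q → IsAffine Q.left) ∧
    (∀ (Q : Over (Spec (CommRingCat.of k))) (q : G ⟶ Q), RedSub.IsQuotient n q → IsAffine Q.left) := by
  obtain ⟨S', f, -, hs, -, hloc⟩ := id hH
  obtain ⟨s', -⟩ := hs.surj (⟨⊥, Ideal.isPrime_bot⟩ : PrimeSpectrum k)
  obtain ⟨U, hU, M, iM, -, ⟨e⟩⟩ := hloc s'
  let L := (U : Scheme.{u}).residueField ⟨s', hU⟩
  let K : Type u := AlgebraicClosure L
  let v : Spec (CommRingCat.of K) ⟶ (U : Scheme.{u}) :=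
    Spec.map (CommRingCat.ofHom (algebraMap L K)) ≫ (U : Scheme.{u}).fromSpecResidueField ⟨s', hU⟩
  obtain ⟨φ, hφ⟩ : ∃ φ, Spec.map φ = v ≫ U.ι ≫ f := ⟨_, Spec.map_preimage _⟩
  letI : Algebra k K := φ.hom.toAlgebra
  let r : Spec (CommRingCat.of K) ⟶ Spec (CommRingCat.of k) := Spec.map (CommRingCat.ofHom (algebraMap k K))
  have hr : v ≫ U.ι ≫ f = r := hφ.symm
  let eH : Grp.mk (Red.bc r H) ≅ Grp.mk (Red.DS (Spec (CommRingCat.of K)) M) :=
    Lib.Tori.BaseChange.bcCongr hr.symm H ≪≫ H87.Charts.resChart e v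
  haveI : Smooth (Red.bc r G).hom := MorphismProperty.pullback_snd (P := @Smooth) _ _ inferInstance
  haveI : IsAffineHom G.hom := isAffineHom_of_isAffine G.hom
  haveI : IsAffineHom (Red.bc r G).hom := MorphismProperty.pullback_snd (P := @IsAffineHom) _ _ inferInstance
  haveI : IsAffine (Red.bc r G).left := isAffine_of_isAffineHom (Red.bc r G).hom
  haveI := hC.1
  haveI := hC.2.1
  haveI := hN.1
  haveI := hN.2.1
  haveI := H87.QuotAffine.mono_bc r h
  have hC' := H1.Classical.FieldDescent.isCentralizerOf_bc r hC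
  have hN' := H87.QuotAffine.isNormalizerOf_bc r hN
  have key := fun (Q : Over (Spec (CommRingCat.of k))) => H87.QuotAffine.isAffine_split (Q := Red.bc r Q)
    (H87.Normal.multTypeFT_bc hH r) eH ((Over.pullback r).map h) ((Over.pullback r).map c) ((Over.pullback r).map n)
    hC' hN'
  exact ⟨fun Q q hq => Lib.WeilRep.QuotBC.isAffine_of_bc Q ((key Q).1 _ (H87.QuotAffine.isQuotient_bc r hq)),
    fun Q q hq => Lib.WeilRep.QuotBC.isAffine_of_bc Q ((key Q).2 _ (H87.QuotAffine.isQuotient_bc r hq))⟩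

end Groth.Agent.S8419
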