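import Groth.Statements.S8424
import Groth.Agent.Lib.SmWeil.SolvableNorm
import Groth.Agent.S8408

set_option autoImplicit false
set_option linter.style.haveILetI false
universe u
open CategoryTheory MonoidalCategory CartesianMonoidalCategory MonObj GrpObj AlgebraicGeometry
open SGA3x

namespace Groth.Agent.S8424

/-- Let G be a smooth algebraic group (not necessarily affine) over an algebraically closed field k, B a
Borel subgroup of G, C a Cartan subgroup of B and N the normalizer of C in G. Then N ∩ B = C: a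
point of G with values in a k-scheme factors through N and through B if and only if it factors
through C. -/
theorem result (k : Type u) [Field k] [IsAlgClosed k]
    (G : Over (Spec (CommRingCat.of k))) [GrpObj G] [Smooth G.hom] [QuasiCompact G.hom]
    (B : Over (Spec (CommRingCat.of k))) [GrpObj B] (b : B ⟶ G) (hB : Red.IsBorelOver k b)
    (C : Over (Spec (CommRingCat.of k))) [GrpObj C] (c : C ⟶ B) (hC : SGA3x.IsCartanOver k c)
    (N : Over (Spec (CommRingCat.of k))) [GrpObj N] (n : N ⟶ G) (hN : Red.IsNormalizerOf (c ≫ b) n)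
    (X : Over (Spec (CommRingCat.of k))) (g : X ⟶ G) :
    ((∃ x : X ⟶ N, x ≫ n = g) ∧ (∃ y : X ⟶ B, y ≫ b = g)) ↔ ∃ z : X ⟶ C, z ≫ c ≫ b = g := by
  obtain ⟨hbm, hbcl, hBs, hBc, hBsol, -⟩ := hB
  haveI := hbm
  haveI := hbcl
  haveI := hBs
  haveI := hBc
  haveI : QuasiCompact B.hom := by rw [← Over.w b]; infer_instance
  haveI : Mono b := Over.mono_of_mono_left _
  obtain ⟨hcm, hcmono, T, _, t, hT, hcen⟩ := hC
  haveI := hcm
  haveI := hcmono
  haveI := hT.1
  haveI := hT.2.1
  constructor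
  · rintro ⟨hgN, y, rfl⟩
    obtain ⟨t', ht'⟩ := (hcen.2.2 T t).2 fun Y y h => by
      rw [← MonObj.mul_comp, ← MonObj.mul_comp, Groth.Agent.Lib.Tori.Comm.mul_comm_of_isTorus hT.2.2.1]
    have hnorm := (hN.2.2 X (y ≫ b)).1 hgN
    obtain ⟨z, hz⟩ := (hcen.2.2 X y).2 fun X' x h => by
      refine Groth.Agent.Lib.SmWeil.SolvableNorm.commute_of_normalizes hBsol hT.2.2.1 t (x ≫ y)
        (fun Y w a => Groth.Agent.S8408.normalizes_torus hT hcen ht' (w ≫ x ≫ y) (fun Y' w' a' => ?_) a) h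
      obtain ⟨h', hh'⟩ := (hnorm Y' (w' ≫ w ≫ x) a').1
      refine ⟨h', ?_⟩
      rw [← cancel_mono b]
      simp only [MonObj.mul_comp, GrpObj.inv_comp, Category.assoc] at hh' ⊢
      exact hh'
    exact ⟨z, by rw [← Category.assoc, hz]⟩
  · rintro ⟨z, rfl⟩
    refine ⟨(hN.2.2 X _).2 fun X' x h => ⟨⟨(x ≫ z) * h * (x ≫ z)⁻¹, ?_⟩, ⟨(x ≫ z)⁻¹ * h * (x ≫ z), ?_⟩⟩,
      z ≫ c, Category.assoc _ _ _⟩ <;>
      simp only [MonObj.mul_comp, GrpObj.inv_comp, Category.assoc]

end Groth.Agent.S8424
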