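import Groth.Statements.S8426
import Groth.Agent.H87.SubLift
import Groth.Agent.H87.MT
import Groth.Agent.H87.Normal
-- import your own Groth.Agent.* helpers here

set_option autoImplicit false
universe u
open CategoryTheory MonoidalCategory CartesianMonoidalCategory MonObj GrpObj AlgebraicGeometry
open SGA3x

namespace Groth.Agent.S8426

open CategoryTheory.Limits Groth.Agent.Lib.RedPts Groth.Agent.Lib.Tori
set_option linter.style.haveILetI false

/-- Let S = Spec A be affine, S₀ = Spec(A/J) the closed subscheme defined by an ideal J of square zero,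
G an S-group scheme and H₀ a subgroup scheme of G₀ = G ×_S S₀ (a monomorphic homomorphism H₀ → G₀
which is an immersion) which is smooth and of finite type over S₀ and of multiplicative type. Then G
has a subgroup scheme of multiplicative type (again an immersion) lifting H₀ if and only if G has a
subscheme H′, flat over S, lifting H₀ (H′ ×_S S₀ = H₀ as subschemes of G₀). -/
theorem result (A : Type u) [CommRing A] (J : Ideal A) (hJ : J ^ 2 = ⊥)
    (G : Over (Spec (CommRingCat.of A))) [GrpObj G]
    (H₀ : Over (Spec (CommRingCat.of (A ⧸ J)))) [GrpObj H₀] (j₀ : H₀ ⟶ Red.bc (Spec.map (CommRingCat.ofHom (Ideal.Quotient.mk J))) G) [IsMonHom j₀] [Mono j₀]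
    (hj₀ : IsImmersion j₀.left) [Smooth H₀.hom] [QuasiCompact H₀.hom] (hm₀ : SGA3x.IsMultTypeFT H₀) :
    (∃ (H : Over (Spec (CommRingCat.of A))) (_ : GrpObj H) (j : H ⟶ G), IsMonHom j ∧ Mono j ∧ IsImmersion j.left ∧ SGA3x.IsMultTypeFT H ∧
      ∃ e : Red.bc (Spec.map (CommRingCat.ofHom (Ideal.Quotient.mk J))) H ≅ H₀, e.hom ≫ j₀ = (Over.pullback (Spec.map (CommRingCat.ofHom (Ideal.Quotient.mk J)))).map j) ↔
    (∃ (H' : Scheme.{u}) (h' : H' ⟶ G.left), IsImmersion h' ∧ Flat (h' ≫ G.hom) ∧
      ∃ e : Limits.pullback h' (Limits.pullback.fst G.hom (Spec.map (CommRingCat.ofHom (Ideal.Quotient.mk J)))) ≅ H₀.left,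
        e.hom ≫ j₀.left = Limits.pullback.snd h' (Limits.pullback.fst G.hom (Spec.map (CommRingCat.ofHom (Ideal.Quotient.mk J))))) := by
  let i := Spec.map (CommRingCat.ofHom (Ideal.Quotient.mk J))
  haveI : IsClosedImmersion i := IsClosedImmersion.spec_of_surjective _ Ideal.Quotient.mk_surjective
  have hJn : IsNilpotent J := ⟨2, hJ⟩
  haveI : Surjective i := H87.SubLift.surjective_mq hJn
  haveI := hj₀
  constructor
  · rintro ⟨H, _, j, hj, hjm, hji, hm, e, he⟩
    haveI := H87.MT.flat hm
    refine ⟨H.left, j.left, hji, by rw [Over.w j]; infer_instance, ?_⟩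
    have sq : CategoryTheory.IsPullback (Limits.pullback.fst H.hom i) ((Over.pullback i).map j).left j.left
        (Limits.pullback.fst G.hom i) := by
      exact (Lib.GrpSch.isPullback_bc_map i j).flip
    refine ⟨sq.isoPullback.symm ≪≫ (Over.forget _).mapIso e, ?_⟩
    show (sq.isoPullback.inv ≫ e.hom.left) ≫ j₀.left = _
    rw [Category.assoc]
    exact (congrArg (sq.isoPullback.inv ≫ ·) (congrArg CommaMorphism.left he)).trans sq.isoPullback_inv_snd
  · rintro ⟨H', h', hh', hflat, e, he⟩
    haveI := hh'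
    haveI := hflat
    have hls : Lib.MultAvg.LocSplit H₀ := by
      obtain ⟨S', f, h1, h2, h3, h4⟩ := id hm₀
      exact ⟨S', f, h1, h2, h3, fun s' => by
        obtain ⟨U, hU, M, iM, -, hiso⟩ := h4 s'
        exact ⟨U, hU, M, iM, hiso⟩⟩
    obtain ⟨H, _, hH, ⟨c⟩⟩ := H87.Bridge.exists_lift hJn H₀ hls inferInstance
    obtain ⟨ε, hε⟩ : ∃ ε : Red.bc i H ≅ H₀, IsMonHom ε.hom :=
      ⟨BaseChange.overIso c, BaseChange.isMonHom_overIso c⟩
    haveI := hε
    haveI : IsIso ε.hom.left := inferInstanceAs (IsIso ((Over.forget _).map ε.hom))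
    haveI := H87.MT.flat hH
    haveI := H87.MT.locallyOfFinitePresentation hH
    haveI : Smooth (Red.bc i H).hom := by rw [← Over.w ε.hom]; infer_instance
    haveI : Smooth H.hom := H87.SubLift.smooth_of_mod hJn H
    -- the subscheme over the base
    let Y : Over (Spec (CommRingCat.of A)) := Over.mk (h' ≫ G.hom)
    let κ : Y ⟶ G := Over.homMk h'
    have sq : CategoryTheory.IsPullback (Limits.pullback.fst Y.hom i) ((Over.pullback i).map κ).left κ.left
        (Limits.pullback.fst G.hom i) := by
      exact (Lib.GrpSch.isPullback_bc_map i κ).flip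
    let e' : (Red.bc i Y).left ≅ H₀.left := sq.isoPullback ≪≫ e
    have he' : e'.hom ≫ j₀.left = ((Over.pullback i).map κ).left := by
      show (sq.isoPullback.hom ≫ e.hom) ≫ j₀.left = _
      rw [Category.assoc]
      exact (congrArg (sq.isoPullback.hom ≫ ·) he).trans sq.isoPullback_hom_snd
    let E : Red.bc i Y ≅ H₀ := Over.isoMk e' (by
      rw [← Over.w j₀, ← Category.assoc, he']
      exact Over.w ((Over.pullback i).map κ))
    have hE : E.hom ≫ j₀ = (Over.pullback i).map κ := Over.OverMorphism.ext he'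
    haveI : IsAffineHom H₀.hom := H87.MT.isAffineHom hm₀
    haveI : IsAffine H₀.left := isAffine_of_isAffineHom H₀.hom
    haveI : IsAffine (Red.bc i Y).left := IsAffine.of_isIso e'.hom
    haveI : IsAffine (Limits.pullback Y.hom i) := ‹IsAffine (Red.bc i Y).left›
    haveI : IsAffine Y.left := Lib.Lim.Thickening.isAffine_of_surjective (i := Limits.pullback.fst Y.hom i)
    obtain ⟨φ, hφ⟩ := H87.SubLift.exists_lift_smooth hJ (E.hom ≫ ε.inv)
    haveI : Flat Y.hom := hflat
    haveI : IsIso φ := Lib.NilGrp.isIso_of_pullback J hJn φ (by rw [hφ]; infer_instance)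
    let m : H ⟶ G := inv φ ≫ κ
    have hm : (Over.pullback i).map m = ε.hom ≫ j₀ := by
      rw [Functor.map_comp, Functor.map_inv, IsIso.inv_comp_eq, hφ, ← hE]
      simp [Category.assoc]
    have hlsH : Lib.MultAvg.LocSplit H := by
      obtain ⟨S', f, h1, h2, h3, h4⟩ := id hH
      exact ⟨S', f, h1, h2, h3, fun s' => by
        obtain ⟨U, hU, M, iM, -, hiso⟩ := h4 s'
        exact ⟨U, hU, M, iM, hiso⟩⟩
    -- correct it to a homomorphism
    let F₀ := (H87.CentralDescent.famOf (ε.hom ≫ j₀)).res (𝟙 _) (by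
      rw [Category.id_comp]; all_goals exact (Category.comp_id _).symm)
    have hF₀ : ∀ (X : Over (Spec (CommRingCat.of A))) (y : X.left ⟶ Spec (CommRingCat.of (A ⧸ J)))
        (hy : y ≫ Spec.map (Lib.MultAvg.mkA (A := CommRingCat.of A) J) ≫ 𝟙 _ = X.hom) (g : X ⟶ H),
        F₀.app X y hy g = g ≫ m := by
      intro X y hy g
      show (H87.CentralDescent.famOf (ε.hom ≫ j₀)).app X (y ≫ 𝟙 _) _ g = _
      simp only [H87.CentralDescent.famOf]
      rw [← hm, BC.down_map, BC.down_up, Category.assoc]
      erw [← Category.assoc, H87.CentralDescent.out_inn, Category.id_comp]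
    obtain ⟨F, hF⟩ := H87.SubLift.exists_fam_sq_of_lift (A := CommRingCat.of A) (S := Spec (CommRingCat.of A)) hlsH (𝟙 (Spec (CommRingCat.of A))) J hJ F₀ m hF₀
    let j : H ⟶ G := F.app H H.hom (Category.comp_id _) (𝟙 H)
    have hj : ∀ {X : Over (Spec (CommRingCat.of A))} (x : X ⟶ H), x ≫ j = F.app X X.hom (Category.comp_id _) x := by
      intro X x
      rw [← F.natural x H.hom (Category.comp_id _) X.hom (Category.comp_id _) (𝟙 H) (Over.w x), Category.comp_id]
    haveI : IsMonHom j := H87.HomDS.isMonHom_of_points j fun X a b => by rw [hj, hj, hj, F.mul]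
    have hjmod : (Over.pullback i).map j = ε.hom ≫ j₀ := by
      rw [← hm]
      apply BC.down_injective
      rw [← Category.id_comp ((Over.pullback i).map j), ← Category.id_comp ((Over.pullback i).map m), BC.down_map,
        BC.down_map, hj]
      let Z := Red.bc i H
      have hy : Z.hom ≫ Spec.map (Lib.MultAvg.mkA (A := CommRingCat.of A) J) ≫ 𝟙 _ = ((Over.map i).obj Z).hom := by
        rw [Category.comp_id]; rfl
      exact ((F.app_congr rfl _ _ _).trans congr(($hF).app ((Over.map i).obj Z) Z.hom hy (BC.down i (𝟙 Z)))).trans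
        (hF₀ _ _ hy _)
    haveI : IsImmersion (ε.hom ≫ j₀).left := by rw [Over.comp_left]; infer_instance
    haveI : IsImmersion ((Over.pullback (H87.Bridge.mq J)).map j).left := by
      rw [show (Over.pullback (H87.Bridge.mq J)).map j = ε.hom ≫ j₀ from hjmod]; infer_instance
    haveI hjimm : IsImmersion j.left := H87.Bridge.isImmersion_of_mod hJn j
    haveI : Mono j := Over.mono_of_mono_left j
    exact ⟨H, inferInstance, j, inferInstance, inferInstance, hjimm, hH, ε, hjmod.symm⟩

end Groth.Agent.S8426
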