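import Groth.Statements.S8431
import Groth.Agent.H87.CentralExt
import Groth.Agent.H87.GmFibre
import Groth.Agent.Lib.SmWeil.TorusCentralizer
import Groth.Agent.H87.MT
-- import your own Groth.Agent.* helpers here

set_option autoImplicit false
set_option linter.style.haveILetI false
universe u
open CategoryTheory MonoidalCategory CartesianMonoidalCategory MonObj GrpObj AlgebraicGeometry
open SGA3x

namespace Groth.Agent.S8431

open Groth.Agent Groth.Agent.Lib.RedPts

/-- Let G be an algebraic group over a field k and Z a central algebraic subgroup such that G′ = G/Z is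
a torus. Then G is commutative. Here q : G → G′ is a homomorphism representing the fppf quotient of
G by Z, and G′ is a k-torus. -/
theorem result (k : Type u) [Field k]
    (G : Over (Spec (CommRingCat.of k))) [GrpObj G] [QuasiCompact G.hom] [LocallyOfFiniteType G.hom]
    (Z : Over (Spec (CommRingCat.of k))) [GrpObj Z] (z : Z ⟶ G) [IsMonHom z] [Mono z]
    (hz : ∀ (X : Over (Spec (CommRingCat.of k))) (x : X ⟶ Z) (g : X ⟶ G), (x ≫ z) * g = g * (x ≫ z))
    (G' : Over (Spec (CommRingCat.of k))) [GrpObj G'] (q : G ⟶ G') [IsMonHom q] (hq : RedSub.IsQuotient z q) (hT : Red.IsTorus G') :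
    ∀ (X : Over (Spec (CommRingCat.of k))) (g h : X ⟶ G), g * h = h * g := by
  obtain ⟨hq1, hq2, hq3, hq4⟩ := id hq
  haveI := hq1
  haveI := hq2
  haveI := hq3
  intro X g h
  have hT' := H87.GmFibre.isMultTypeFT_of_isTorus hT
  haveI : IsAffineHom G'.hom := H87.MT.isAffineHom hT'
  haveI : LocallyOfFinitePresentation G'.hom := H87.MT.locallyOfFinitePresentation hT'
  have hquot := H87.TorusQuot.quot_of_isQuotient z q hq
  -- the subgroup is a closed subscheme
  haveI : IsClosedImmersion η[G'].left := Lib.GrpSch.isClosedImmersion_η G'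
  haveI : IsClosedImmersion z.left := by
    have hpb : IsPullback z (toUnit Z) q η[G'] := H87.CentralExt.isKernel_of_quot q z hquot
    exact MorphismProperty.of_isPullback (hpb.map (Over.forget _)).flip ‹IsClosedImmersion η[G'].left›
  haveI : IsSeparated G.hom := Lib.GrpSch.isSeparated_of_field G
  haveI : IsSeparated Z.hom := by rw [← Over.w z]; infer_instance
  have hcomm : ∀ (W : Over (Spec (CommRingCat.of k))) (a : W ⟶ G') (b : W ⟶ G'), (a ≫ 𝟙 G') * b = b * (a ≫ 𝟙 G') :=
    fun W a b => by rw [Category.comp_id]; exact H87.Normal.comm hT' a b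
  obtain ⟨κ, spec, hadd, hone⟩ := H87.CentralExt.exists_pairing q z (𝟙 G') hquot hz hcomm
  have sqw := Lib.GrpSch.isPullback_whiskerRight q G'
  haveI : Surjective (q ▷ G').left := MorphismProperty.of_isPullback (P := @Surjective) sqw.flip hq1
  haveI : Flat (q ▷ G').left := MorphismProperty.of_isPullback (P := @Flat) sqw.flip hq2
  haveI : LocallyOfFinitePresentation (q ▷ G').left :=
    MorphismProperty.of_isPullback (P := @LocallyOfFinitePresentation) sqw.flip hq3
  obtain ⟨κ', hκ'⟩ := H87.CentralExt.exists_desc (q ▷ G') κ fun W a b hab => by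
    rw [← cancel_mono z, Category.assoc, Category.assoc]
    obtain ⟨W₁, c₁, x, hx, _, _, _⟩ := Lib.GrpQ.ThirdIso.exists_lift q (a ≫ snd G G')
    haveI := H87.CentralExt.epi_of_cover c₁
    rw [← cancel_epi c₁]
    have h1 : a ≫ fst G G' ≫ q = b ≫ fst G G' ≫ q := by
      simpa using congrArg (· ≫ fst G' G') hab
    have h2 : a ≫ snd G G' = b ≫ snd G G' := by simpa using congrArg (· ≫ snd G' G') hab
    have ea : c₁ ≫ a = lift (c₁ ≫ a ≫ fst G G') (c₁ ≫ a ≫ snd G G') := by ext <;> simp
    have eb : c₁ ≫ b = lift (c₁ ≫ b ≫ fst G G') (c₁ ≫ a ≫ snd G G') := by rw [h2]; ext <;> simp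
    have hx' : x ≫ q = (c₁ ≫ a ≫ snd G G') ≫ 𝟙 G' := by rw [hx, Category.comp_id]
    rw [← Category.assoc c₁ a, ← Category.assoc c₁ b, ea, eb, spec _ _ _ _ hx', spec _ _ _ _ hx']
    obtain ⟨n, hn⟩ := (hquot.ker ((a ≫ fst G G')⁻¹ * (b ≫ fst G G'))).1 (by
      rw [MonObj.mul_comp _ _ q, GrpObj.inv_comp _ q, Category.assoc, Category.assoc, h1, inv_mul_cancel])
    have hb : c₁ ≫ b ≫ fst G G' = (c₁ ≫ a ≫ fst G G') * ((c₁ ≫ n) ≫ z) := by
      rw [Category.assoc, hn, MonObj.comp_mul, GrpObj.comp_inv, mul_inv_cancel_left]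
    rw [hb, ← commutatorElement_inv x ((c₁ ≫ a ≫ fst G G') * ((c₁ ≫ n) ≫ z)),
      H87.CentralExt.group_conj_central (hz _ (c₁ ≫ n)), commutatorElement_inv]
  have hadd' : ∀ (W : Over (Spec (CommRingCat.of k))) (a b b' : W ⟶ G'),
      lift a (b * b') ≫ κ' = (lift a b ≫ κ') * (lift a b' ≫ κ') := by
    intro W a b b'
    obtain ⟨W₁, c₁, x, hx, _, _, _⟩ := Lib.GrpQ.ThirdIso.exists_lift q a
    haveI := H87.CentralExt.epi_of_cover c₁
    have key : ∀ d : W₁ ⟶ G', lift (c₁ ≫ a) d ≫ κ' = lift x d ≫ κ := fun d => by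
      rw [← hκ', lift_whiskerRight_assoc, hx]
    rw [← cancel_epi c₁, MonObj.comp_mul, comp_lift_assoc, comp_lift_assoc, comp_lift_assoc, MonObj.comp_mul, key, key,
      key, hadd]
  have hone' : ∀ (W : Over (Spec (CommRingCat.of k))) (b : W ⟶ G'), lift 1 b ≫ κ' = 1 := by
    intro W b
    rw [← hone W b, ← hκ', lift_whiskerRight_assoc, MonObj.one_comp q]
  have hconn : ∀ s, ConnectedSpace ↥(Limits.pullback G'.hom ((Spec (CommRingCat.of k)).fromSpecResidueField s)) :=
    Lib.SmWeil.connectedSpace_fibre_of_isTorus hT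
  have htriv := H87.CentralExt.pairing_trivial hT' (Or.inl ⟨inferInstance, inferInstance⟩) hconn κ' hadd' hone'
  have h3 := spec X g h (h ≫ q) (Category.comp_id _).symm
  rw [← hκ', Category.assoc, lift_whiskerRight_assoc, ← Category.assoc, htriv, MonObj.one_comp z] at h3
  exact (commutatorElement_eq_one_iff_commute.1 h3.symm).eq

end Groth.Agent.S8431
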