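import Groth.Statements.S8439
import Groth.Agent.H87.CentreDescent

set_option autoImplicit false
universe u
open CategoryTheory MonoidalCategory CartesianMonoidalCategory MonObj GrpObj AlgebraicGeometry
open SGA3x

namespace Groth.Agent.S8439

/-- Let G be an S-group scheme of finite presentation over S with affine fibres. If G admits a reductive
centre locally for the faithfully flat quasi-compact topology — after some flat surjective base
change S′ → S which is an fpqc covering — then G admits a reductive centre. -/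
theorem result (S : Scheme.{u}) (G : Over S) [GrpObj G]
    [QuasiCompact G.hom] [QuasiSeparated G.hom] [LocallyOfFinitePresentation G.hom]
    (haff : ∀ s : S, IsAffine (Limits.pullback G.hom (S.fromSpecResidueField s)))
    (h : (∃ (S' : Scheme.{u}) (f : S' ⟶ S), Flat f ∧ Surjective f ∧
      (∀ V : S.Opens, IsAffineOpen V → ∃ W : S'.Opens, IsCompact (W : Set ↥S') ∧ f.base '' (W : Set ↥S') = (V : Set ↥S)) ∧
      ∃ (Z' : Over S') (_ : GrpObj Z') (z' : Z' ⟶ Red.bc f G), (IsMonHom z' ∧ Mono z' ∧ SGA3x.IsMultTypeFT Z' ∧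
      (∀ (X : Over S') (x : X ⟶ Z') (g : X ⟶ (Red.bc f G)), (x ≫ z') * g = g * (x ≫ z')) ∧
      ∀ (S'' : Scheme.{u}) (f' : S'' ⟶ S') (H : Over S'') [GrpObj H] (v : H ⟶ Red.bc f' (Red.bc f G)) [IsMonHom v],
        SGA3x.IsMultTypeFT H →
        (∀ (X : Over S'') (x : X ⟶ H) (g : X ⟶ Red.bc f' (Red.bc f G)), (x ≫ v) * g = g * (x ≫ v)) →
        ∃ w : H ⟶ Red.bc f' Z', w ≫ (Over.pullback f').map z' = v))) :
    ∃ (Z : Over S) (_ : GrpObj Z) (z : Z ⟶ G), (IsMonHom z ∧ Mono z ∧ SGA3x.IsMultTypeFT Z ∧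
      (∀ (X : Over S) (x : X ⟶ Z) (g : X ⟶ G), (x ≫ z) * g = g * (x ≫ z)) ∧
      ∀ (S' : Scheme.{u}) (f : S' ⟶ S) (H : Over S') [GrpObj H] (v : H ⟶ Red.bc f G) [IsMonHom v],
        SGA3x.IsMultTypeFT H →
        (∀ (X : Over S') (x : X ⟶ H) (g : X ⟶ Red.bc f G), (x ≫ v) * g = g * (x ≫ v)) →
        ∃ w : H ⟶ Red.bc f Z, w ≫ (Over.pullback f).map z = v) := by
  obtain ⟨S', f, hf, hs, hcov, Z', gZ', z', hz', hzm', hmt, hc, huniv⟩ := h
  haveI := hz'
  haveI := hzm'
  obtain ⟨Z, gZ, z, h1, h2, h3, h4, h5⟩ :=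
    Groth.Agent.H87.CentreDescent.exists_centre f hcov z' hmt hc huniv
  exact ⟨Z, gZ, z, h1, h2, h3, h4, fun S' f H _ v _ => h5 S' f H v⟩

end Groth.Agent.S8439
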