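import Groth.Statements.S8441
import Mathlib.LinearAlgebra.Dimension.OrzechProperty
-- import your own Groth.Agent.* helpers here

set_option autoImplicit false
universe u v w
open SGA3t2b

namespace Groth.Agent.S8441

theorem li_of_span_eq {R : Type*} [CommRing R] [Nontrivial R] {M : Type*} [AddCommGroup M] [Module R M] {n : ℕ}
    (a th : Fin n → M) (ha : LinearIndependent R a)
    (h : Submodule.span R (Set.range th) = Submodule.span R (Set.range a)) : LinearIndependent R th := by
  let g : Fin n → Submodule.span R (Set.range a) := fun i => ⟨th i, h ▸ Submodule.subset_span ⟨i, rfl⟩⟩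
  have hg : ⊤ ≤ Submodule.span R (Set.range g) := by
    rintro ⟨x, hx⟩ -
    rw [← h] at hx
    obtain ⟨c, hc⟩ := (Submodule.mem_span_range_iff_exists_fun R).1 hx
    refine (Submodule.mem_span_range_iff_exists_fun R).2 ⟨c, Subtype.ext ?_⟩
    simpa [g] using hc
  exact (linearIndependent_of_top_le_span_of_card_eq_finrank hg
    (Module.finrank_eq_card_basis (Module.Basis.span ha)).symm).map'
      (Submodule.span R (Set.range a)).subtype (Submodule.ker_subtype _)

/-- Let R be a root system with a system of simple roots a₁, …, aₙ and simple reflections rᵢ, and put θᵢ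
= rₙ ⋯ rᵢ₊₁(aᵢ). Then the θᵢ form a basis of the group generated by the roots. Stated for a root
pairing over ℤ (Mathlib) with a base whose support is enumerated by Fin n: the θᵢ are ℤ-linearly
independent and their ℤ-span is the ℤ-span of all roots. -/
theorem result {ι : Type u} {M : Type v} {N : Type w} [AddCommGroup M] [Module ℤ M]
    [AddCommGroup N] [Module ℤ N] (P : RootPairing ι ℤ M N) (b : P.Base) (n : ℕ) (e : Fin n ≃ ↥b.support) :
    LinearIndependent ℤ (fun i : Fin n =>
      ((List.finRange n).filter (fun j => i < j)).foldl (fun x j => P.reflection (e j : ι) x) (P.root (e i : ι))) ∧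
    Submodule.span ℤ (Set.range (fun i : Fin n =>
      ((List.finRange n).filter (fun j => i < j)).foldl (fun x j => P.reflection (e j : ι) x) (P.root (e i : ι)))) =
      Submodule.span ℤ (Set.range P.root) := by
  classical
  let a : Fin n → M := fun i => P.root (e i : ι)
  let th : Fin n → M := fun i =>
    ((List.finRange n).filter (fun j => i < j)).foldl (fun x j => P.reflection (e j : ι) x) (a i)
  have hfold : ∀ (L : List (Fin n)) (x : M),
      L.foldl (fun x j => P.reflection (e j : ι) x) x - x ∈ Submodule.span ℤ (a '' {j | j ∈ L}) := by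
    intro L
    induction L with
    | nil => intro x; simp
    | cons j L ih =>
      intro x
      rw [List.foldl_cons]
      have h1 := ih (P.reflection (e j : ι) x)
      have h2 : P.reflection (e j : ι) x - x ∈ Submodule.span ℤ (a '' {i | i ∈ j :: L}) := by
        rw [RootPairing.reflection_apply, sub_sub_cancel_left]
        exact Submodule.neg_mem _ (Submodule.smul_mem _ _ (Submodule.subset_span ⟨j, by simp, rfl⟩))
      have h3 := Submodule.add_mem _ (Submodule.span_mono (Set.image_mono
        fun i hi => List.mem_cons_of_mem _ hi) h1) h2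
      rwa [sub_add_sub_cancel] at h3
  have htri : ∀ i, th i - a i ∈ Submodule.span ℤ (a '' {j | i < j}) := by
    intro i
    have h1 := hfold ((List.finRange n).filter (fun j => i < j)) (a i)
    refine Submodule.span_mono (Set.image_mono ?_) h1
    intro j hj
    simpa using hj
  have hspan : Submodule.span ℤ (Set.range th) = Submodule.span ℤ (Set.range a) := by
    refine le_antisymm (Submodule.span_le.2 ?_) (Submodule.span_le.2 ?_)
    · rintro _ ⟨i, rfl⟩
      have h2 := Submodule.add_mem _ (Submodule.span_mono (Set.image_subset_range a _) (htri i))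
        (Submodule.subset_span ⟨i, rfl⟩ : a i ∈ Submodule.span ℤ (Set.range a))
      rwa [sub_add_cancel] at h2
    · suffices h : ∀ m : ℕ, ∀ i : Fin n, n - i.1 ≤ m → a i ∈ Submodule.span ℤ (Set.range th) by
        rintro _ ⟨i, rfl⟩; exact h n i (Nat.sub_le _ _)
      intro m
      induction m with
      | zero => intro i hi; have := i.2; omega
      | succ m ih =>
        intro i hi
        have h3 : th i - a i ∈ Submodule.span ℤ (Set.range th) := by
          refine (Submodule.span_le.2 ?_ : Submodule.span ℤ (a '' {j | i < j}) ≤ _) (htri i)
          rintro _ ⟨j, hj, rfl⟩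
          exact ih j (by have : i.1 < j.1 := hj; omega)
        have h4 := Submodule.sub_mem _ (Submodule.subset_span ⟨i, rfl⟩ : th i ∈ Submodule.span ℤ (Set.range th)) h3
        rwa [sub_sub_cancel] at h4
  have hroots : Submodule.span ℤ (Set.range a) = Submodule.span ℤ (Set.range P.root) := by
    have hr : Set.range a = P.root '' b.support := by
      ext y
      constructor
      · rintro ⟨i, rfl⟩; exact ⟨(e i : ι), (e i).2, rfl⟩
      · rintro ⟨i, hi, rfl⟩; exact ⟨e.symm ⟨i, hi⟩, by simp [a]⟩
    rw [hr, b.span_root_support]
  have ha : LinearIndependent ℤ a :=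
    (LinearIndepOn.linearIndependent b.linearIndepOn_root).comp (fun i => e i) e.injective
  exact ⟨li_of_span_eq a th ha hspan, hspan.trans hroots⟩

end Groth.Agent.S8441
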