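import Groth.Statements.S8443
import Groth.Agent.Lib.SmWeil.CartanInto

set_option autoImplicit false
universe u
open CategoryTheory MonoidalCategory CartesianMonoidalCategory MonObj GrpObj AlgebraicGeometry
open SGA3x

namespace Groth.Agent.S8443

open Groth.Agent.Lib Groth.Agent.H87

/-- Let G be an S-group scheme, smooth and of finite presentation over S with connected fibres, and i :
H → G a monomorphism of S-groups with H smooth over S whose geometric fibres are connected and
contain a Cartan subgroup of the corresponding geometric fibre of G. If G admits a maximal torus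
locally for the etale topology (resp. for the fpqc topology), then so does H. (The published item
also covers Cartan subgroups; this row states only the maximal-torus halves.) -/
theorem result (S : Scheme.{u}) (G : Over S) [GrpObj G]
    [Smooth G.hom] [QuasiCompact G.hom] [QuasiSeparated G.hom] (hconn : ∀ s : S, _root_.IsConnected (G.hom.base ⁻¹' {s}))
    (H : Over S) [GrpObj H] [Smooth H.hom] (i : H ⟶ G) [IsMonHom i] [Mono i]
    (hHconn : ∀ s : S, ConnectedSpace ↥(Red.geomFibre s H).left)
    (hHC : ∀ s : S, ∃ (C' : Over (Spec (CommRingCat.of (AlgebraicClosure (S.residueField s))))) (_ : GrpObj C')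
      (c' : C' ⟶ Red.geomFibre s H), SGA3x.IsCartanOver _ (c' ≫ (Over.pullback (Red.geomPt s)).map i)) :
    (SGA3x.HasMaxTorusEtaleLocally G → SGA3x.HasMaxTorusEtaleLocally H) ∧
    (SGA3x.HasMaxTorusFpqcLocally G → SGA3x.HasMaxTorusFpqcLocally H) := by
  haveI := Groth.Agent.Lib.SmWeil.CartanInto.isSeparated_of_connected G hconn
  have hfib : Groth.Agent.Lib.SmWeil.CartanInto.FibTorus i := fun s => by
    obtain ⟨C', _, c', -, -, U, _, u, hu, hcu⟩ := hHC s
    haveI := hu.1
    obtain ⟨au, hau⟩ := (hcu.2.2 _ u).2 fun X' x h => by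
      rw [← MonObj.mul_comp, ← MonObj.mul_comp, Groth.Agent.Lib.Tori.Comm.mul_comm_of_isTorus hu.2.2.1]
    exact ⟨U, inferInstance, u, hu, au ≫ c', by rw [Category.assoc, hau]⟩
  have key : ∀ (S' : Scheme.{u}) (f : S' ⟶ S) (T : Over S') [GrpObj T] (t : T ⟶ Red.bc f G), Red.IsMaximalTorus t →
      ∃ (S'' : Scheme.{u}) (σ : S'' ⟶ S'), Etale σ ∧ Surjective σ ∧
        ∃ (T' : Over S'') (_ : GrpObj T') (t' : T' ⟶ Red.bc (σ ≫ f) H), Red.IsMaximalTorus t' := fun S' f T _ t ht => by
    haveI : Smooth (Red.bc f G).hom := MorphismProperty.pullback_snd (P := @Smooth) _ _ inferInstance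
    haveI : IsSeparated (Red.bc f G).hom := MorphismProperty.pullback_snd (P := @IsSeparated) _ _ inferInstance
    haveI : QuasiCompact (Red.bc f G).hom := MorphismProperty.pullback_snd (P := @QuasiCompact) _ _ inferInstance
    haveI : Smooth (Red.bc f H).hom := MorphismProperty.pullback_snd (P := @Smooth) _ _ inferInstance
    obtain ⟨S'', σ, hσ, hσs, t', ht'⟩ := Groth.Agent.Lib.SmWeil.CartanInto.exists_etale_maximalTorus
      ((Over.pullback f).map i) (Groth.Agent.Lib.SmWeil.CartanInto.fibTorus_bc i f hfib) ht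
    exact ⟨S'', σ, hσ, hσs, _, inferInstance, t' ≫ (Groth.Agent.Lib.SmWeil.CartanDescent.compIso σ f (rfl : σ ≫ f = _) H).hom,
      Groth.Agent.Lib.SmWeil.CartanAux.isMaximalTorus_congr (Groth.Agent.Lib.SmWeil.CartanDescent.compIso σ f rfl H) (Iso.refl _)
        (Groth.Agent.Lib.SmWeil.CartanDescent.isMonHom_compIso σ f rfl H) (inferInstanceAs (IsMonHom (𝟙 _))) (Category.id_comp _).symm ht'⟩
  refine ⟨fun ⟨S', f, hf, hfs, T, _, t, ht⟩ => ?_, fun ⟨S', f, hf, hfs, hcov, T, _, t, ht⟩ => ?_⟩
  · obtain ⟨S'', σ, hσ, hσs, h⟩ := key S' f T t ht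
    haveI := hf; haveI := hfs; haveI := hσ; haveI := hσs
    exact ⟨S'', σ ≫ f, inferInstance, inferInstance, h⟩
  · obtain ⟨S'', σ, hσ, hσs, h⟩ := key S' f T t ht
    haveI := hf; haveI := hfs; haveI := hσ; haveI := hσs
    exact ⟨S'', σ ≫ f, inferInstance, inferInstance,
      Charts.isQCCover_comp (Groth.Agent.Lib.SmWeil.CartanAux.isQCCover_of_isOpenMap σ σ.isOpenMap) hcov, h⟩

end Groth.Agent.S8443
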