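import Groth.Statements.S8445
import Groth.Agent.H82.RankOne2.Setup

set_option autoImplicit false
universe u
open CategoryTheory MonoidalCategory CartesianMonoidalCategory MonObj GrpObj AlgebraicGeometry CategoryTheory.Limits
open Red
open Groth.Agent.Lib.RedPts Groth.Agent.H82 Groth.Agent.H82.BigCell
open Groth.Agent.H82.RankOne (P P_eq P_comp)

namespace Groth.Agent.S8445

/-- Let G be an S-group scheme, i : T ⟶ G a torus of G, j : Q ⟶ T a subtorus, α a character of T whose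
restriction to Q is non-trivial on every geometric fibre, and p₊, p₋ : 𝔾_a ⟶ G homomorphisms
normalised by T with multipliers α and α⁻¹ (i(t) p₊(x) i(t)⁻¹ = p₊(α(t) x), i(t) p₋(y) i(t)⁻¹ =
p₋(α(t)⁻¹ y)) such that the morphism 𝔾_a ×_S T ×_S 𝔾_a ⟶ G, (y, t, x) ↦ p₋(y) i(t) p₊(x), is an open
immersion. Let q ≥ 0 and let p : 𝔾_a ⟶ G be a homomorphism such that conjugating p(x) q times by
i(j(t)) gives p(α(t) x), for all points t of Q and x of 𝔾_a. Then there is exactly one S-point ν of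
𝔾_a such that p(x) = p₊(ν x^q) for every point x of 𝔾_a with values in any S-scheme. -/
theorem result (S : Scheme.{u}) (G T : Over S) [GrpObj G] [GrpObj T] (i : T ⟶ G) [IsMonHom i] [Mono i] (hT : Red.IsTorus T)
    (Q : Over S) [GrpObj Q] (j : Q ⟶ T) [IsMonHom j] [Mono j] (hQ : Red.IsTorus Q)
    (α : T ⟶ Red.Gm S) [IsMonHom α] (hα : ∀ s : S, (Over.pullback (Red.geomPt s)).map (j ≫ α) ≠ 1)
    (pp pm : Red.Ga S ⟶ G) [IsMonHom pp] [IsMonHom pm]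
    (hpp : ∀ (X : Over S) (t : X ⟶ T) (x : X ⟶ Red.Ga S), ∃ x' : X ⟶ Red.Ga S,
      x' ≫ pp = (t ≫ i) * (x ≫ pp) * (t ≫ i)⁻¹ ∧ Red.gaFn x' = Red.gmFn (t ≫ α) * Red.gaFn x)
    (hpm : ∀ (X : Over S) (t : X ⟶ T) (y : X ⟶ Red.Ga S), ∃ y' : X ⟶ Red.Ga S,
      y' ≫ pm = (t ≫ i) * (y ≫ pm) * (t ≫ i)⁻¹ ∧ Red.gaFn y' * Red.gmFn (t ≫ α) = Red.gaFn y)
    (hΩ : IsOpenImmersion (((pm ⊗ₘ i) ⊗ₘ pp) ≫ (μ[G] ▷ G) ≫ μ[G]).left) (q : ℕ) (p : Red.Ga S ⟶ G) [IsMonHom p]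
    (hp : ∀ (X : Over S) (t : X ⟶ Q) (x x' : X ⟶ Red.Ga S), Red.gaFn x' = Red.gmFn (t ≫ j ≫ α) * Red.gaFn x →
      x' ≫ p = ((t ≫ j ≫ i) ^ q) * (x ≫ p) * ((t ≫ j ≫ i) ^ q)⁻¹) :
    ∃! ν : 𝟙_ (Over S) ⟶ Red.Ga S, ∀ (X : Over S) (x y : X ⟶ Red.Ga S),
      Red.gaFn y = Red.gaFn (toUnit X ≫ ν) * Red.gaFn x ^ q → x ≫ p = y ≫ pp := by
  let H : Hyp i α pp pm := hyp_of_lift hT (fun z => by
      obtain ⟨X', c, t, hc, hs, h⟩ := lift_of_geomFibres (α := j ≫ α) hQ hα z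
      exact ⟨X', c, t ≫ j, hc, hs, by rw [Category.assoc]; exact h⟩) hpp hpm hΩ
  have hw : HasWeight i α p q := fun X u x => by
    obtain ⟨X', c, t, hc, hs, h⟩ := lift_of_geomFibres (α := j ≫ α) hQ hα (Gm.gmPt u)
    have ha : Red.gmFn (t ≫ j ≫ α) = c.left.appTop (u : Γ(X.left, ⊤)) := by
      rw [h, Gm.gmFn_comp, Gm.gmFn_gmPt]
    refine ⟨X', c, t ≫ j, hc, hs, by rw [Category.assoc]; exact ha, ?_⟩
    have h' := hp X' t (Ga.gaPt (c.left.appTop x))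
      (Ga.gaPt (c.left.appTop (u : Γ(X.left, ⊤)) * c.left.appTop x))
      (by rw [Ga.gaFn_gaPt, Ga.gaFn_gaPt, ha])
    rw [← Category.assoc t j i] at h'
    exact h'
  haveI := Groth.Agent.Lib.Tori.Basic.isAffineHom_of_isTorus hT
  have hν : ∀ X : Over S, Red.gaFn (toUnit X ≫ Ga.gaPt (H.wCoef hw (𝟙_ (Over S)))) = H.wCoef hw X := fun X => by
    rw [Ga.gaFn_comp, Ga.gaFn_gaPt, H.wCoef_comp hw]
  refine ⟨Ga.gaPt (H.wCoef hw (𝟙_ (Over S))), fun X x y hy => ?_, fun ν hν' => ?_⟩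
  · rw [P_eq, H.weight_formula hw, P_eq, hy, hν]
  · refine Ga.gaFn_injective ?_
    rw [Ga.gaFn_gaPt]
    have h := hν' (𝟙_ (Over S)) (Ga.gaPt 1) (Ga.gaPt (Red.gaFn ν))
      (by rw [Ga.gaFn_gaPt, Ga.gaFn_gaPt, one_pow, _root_.mul_one,
        toUnit_unique (toUnit (𝟙_ (Over S))) (𝟙 _), Category.id_comp])
    rw [P_eq, H.weight_formula hw, P_eq, Ga.gaFn_gaPt, Ga.gaFn_gaPt, one_pow, _root_.mul_one] at h
    exact (H.P_pp_injective h).symm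

end Groth.Agent.S8445
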