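import Groth.Statements.S8451
import Groth.Agent.H82.RankOne2.WeylElt

set_option autoImplicit false
universe u
open CategoryTheory MonoidalCategory CartesianMonoidalCategory MonObj GrpObj AlgebraicGeometry CategoryTheory.Limits
open Red
open Groth.Agent.Lib.RedPts Groth.Agent.H82 Groth.Agent.H82.BigCell
open Groth.Agent.H82.RankOne (P P_eq P_comp P_add P_zero P_neg gmPt_eq Sys sys_of_hyp)

namespace Groth.Agent.S8451

/-- Let G be a reductive S-group, i : T ⟶ G a maximal torus, α a character of T non-trivial on every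
geometric fibre, p₊, p₋ : 𝔾_a ⟶ G monomorphisms of groups normalised by T with multipliers α and α⁻¹
whose cell map (y, t, x) ↦ p₋(y) i(t) p₊(x) is an open immersion 𝔾_a ×_S T ×_S 𝔾_a ⟶ G, and α^* :
𝔾_m ⟶ T the coroot: α ∘ α^* is the squaring map and p₊(x) p₋(y) = p₋(y/(1+xy)) · i(α^*(1+xy)) ·
p₊(x/(1+xy)) whenever 1 + xy is invertible (so p₊ and p₋ are dual to each other). Let e₁, em be the
S-points of 𝔾_a with coordinates 1 and -1, u = p₊(e₁) and w₀ = p₊(e₁) p₋(em) p₊(e₁). Let n be a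
non-zero integer. If an S-point w of G satisfies w · i(α^*(z))^n · w⁻¹ = i(α^*(z))^{-n} for all
points z of 𝔾_m (after base change) and w u w⁻¹ = u⁻¹ w u⁻¹, then w = w₀. (The published statement
has the condition (w u)³ = e in place of w u w⁻¹ = u⁻¹ w u⁻¹, and also asserts that w₀ has both
properties. The cube condition does not determine w when the centre of G contains a non-trivial cube
root of unity: for G = GL₂ over a field containing a primitive cube root of unity ζ, the point ζ·w₀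
inverts the coroot and satisfies (ζ w₀ u)³ = e. The published proof uses the conjugation identity
stated here, which is equivalent to (w u)³ = e once w² = i(α^*(-1)).) -/
theorem result (S : Scheme.{u}) (G T : Over S) [GrpObj G] [GrpObj T] (i : T ⟶ G) [IsMonHom i] [Mono i] (hG : Red.IsReductive G) (hTm : Red.IsMaximalTorus i)
    (α : T ⟶ Red.Gm S) [IsMonHom α] (hα : ∀ s : S, (Over.pullback (Red.geomPt s)).map α ≠ 1)
    (pp pm : Red.Ga S ⟶ G) [IsMonHom pp] [Mono pp] [IsMonHom pm] [Mono pm]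
    (hpp : ∀ (X : Over S) (t : X ⟶ T) (x : X ⟶ Red.Ga S), ∃ x' : X ⟶ Red.Ga S,
      x' ≫ pp = (t ≫ i) * (x ≫ pp) * (t ≫ i)⁻¹ ∧ Red.gaFn x' = Red.gmFn (t ≫ α) * Red.gaFn x)
    (hpm : ∀ (X : Over S) (t : X ⟶ T) (y : X ⟶ Red.Ga S), ∃ y' : X ⟶ Red.Ga S,
      y' ≫ pm = (t ≫ i) * (y ≫ pm) * (t ≫ i)⁻¹ ∧ Red.gaFn y' * Red.gmFn (t ≫ α) = Red.gaFn y)
    (hΩ : IsOpenImmersion (((pm ⊗ₘ i) ⊗ₘ pp) ≫ (μ[G] ▷ G) ≫ μ[G]).left)
    (av : Red.Gm S ⟶ T) [IsMonHom av] (h2 : av ≫ α = (𝟙 (Red.Gm S)) ^ 2)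
    (hF : ∀ (X : Over S) (x y : X ⟶ Red.Ga S), IsUnit (1 + Red.gaFn x * Red.gaFn y) →
      ∃ (x' y' : X ⟶ Red.Ga S) (z : X ⟶ Red.Gm S), Red.gmFn z = 1 + Red.gaFn x * Red.gaFn y ∧
        Red.gaFn x' * Red.gmFn z = Red.gaFn x ∧ Red.gaFn y' * Red.gmFn z = Red.gaFn y ∧
        (x ≫ pp) * (y ≫ pm) = (y' ≫ pm) * (z ≫ av ≫ i) * (x' ≫ pp))
    (e₁ em : 𝟙_ (Over S) ⟶ Red.Ga S) (he₁ : Red.gaFn e₁ = 1) (hem : Red.gaFn em = -1)
    (n : ℤ) (hn : n ≠ 0) (w : 𝟙_ (Over S) ⟶ G)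
    (hw : ∀ (X : Over S) (z : X ⟶ Red.Gm S),
      (toUnit X ≫ w) * (((z ≫ av) ^ n) ≫ i) * (toUnit X ≫ w)⁻¹ = ((((z ≫ av) ^ n) ≫ i))⁻¹)
    (hconj : w * (e₁ ≫ pp) * w⁻¹ = (e₁ ≫ pp)⁻¹ * w * (e₁ ≫ pp)⁻¹) :
    w = (e₁ ≫ pp) * (em ≫ pm) * (e₁ ≫ pp) := by
  have hT : Red.IsTorus T := hTm.2.2.1
  have H : Hyp i α pp pm := hyp_of hT hα hpp hpm hΩ
  have hs := sys_of_hyp (i := i) hpp hpm h2 hF
  obtain ⟨t, ht⟩ := H.exists_eq_w₀_mul hs hG n hn w hw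
  have hw₀ : w₀ pp pm (𝟙_ (Over S)) = (e₁ ≫ pp) * (em ≫ pm) * (e₁ ≫ pp) := by
    rw [P_eq pp e₁, P_eq pm em, he₁, hem, w₀, Sys.W, Units.val_one, inv_one, Units.val_one]
  rw [← hw₀]
  rw [P_eq pp e₁, he₁, ht, _root_.mul_inv_rev] at hconj
  have h1 : Cell i pp pm ((w₀ pp pm (𝟙_ (Over S))) * (t ≫ i) * P pp 1 * ((t ≫ i)⁻¹ * (w₀ pp pm (𝟙_ (Over S)))⁻¹))
      (-(Red.gmFn (t ≫ α))) 1 0 := by
    have e : (t ≫ i) * P pp 1 * (t ≫ i)⁻¹ = P pp (Red.gmFn (t ≫ α)) := by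
      rw [H.conjP, mul_inv_cancel_right, _root_.mul_one]
    rw [Cell, P_zero, MonObj.one_comp, _root_.mul_one, _root_.mul_one, ← _root_.mul_assoc,
      _root_.mul_assoc (w₀ pp pm _), _root_.mul_assoc (w₀ pp pm _), e, H.w₀_mul_pp hs, mul_inv_cancel_right]
  have h2' : Cell i pp pm ((P pp 1)⁻¹ * (w₀ pp pm (𝟙_ (Over S)) * (t ≫ i)) * (P pp 1)⁻¹)
      (-1) t (Red.gmFn (t ≫ α⁻¹) * 1 + -1) := by
    rw [Cell, P_add]
    simp only [← _root_.mul_assoc]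
    rw [_root_.mul_assoc (P pm _) (t ≫ i), ← H.P_mul_B, w₀, Sys.W, P_neg pp]
    simp only [Units.val_one, inv_one, ← _root_.mul_assoc, inv_mul_cancel, _root_.one_mul]
  rw [hconj] at h1
  have e := (H.unique h2' h1).2.1
  rw [ht, e, MonObj.one_comp, _root_.mul_one]

end Groth.Agent.S8451
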