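import Groth.Statements.S8452
import Groth.Agent.H82.RankOne2.TransferTorus

set_option autoImplicit false
universe u
open CategoryTheory MonoidalCategory CartesianMonoidalCategory MonObj GrpObj AlgebraicGeometry CategoryTheory.Limits
open Red
open Groth.Agent.Lib.RedPts Groth.Agent.H82 Groth.Agent.H82.BigCell
open Groth.Agent.H82.RankOne (P P_eq Sys sys_of_hyp gmPt_eq)

namespace Groth.Agent.S8452

/-- Let (G, T, α, p₊, p₋, α^*) and (G', T', α', p'₊, p'₋, α'^*) be two rank-one systems over S: G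
reductive, i : T ⟶ G a maximal torus, α a character of T non-trivial on every geometric fibre, p₊,
p₋ : 𝔾_a ⟶ G monomorphisms normalised by T with multipliers α, α⁻¹ whose cell map (y, t, x) ↦ p₋(y)
i(t) p₊(x) is an open immersion, α^* : 𝔾_m ⟶ T with α ∘ α^* the squaring map and p₊(x) p₋(y) =
p₋(y/(1+xy)) · i(α^*(1+xy)) · p₊(x/(1+xy)) whenever 1 + xy is invertible; likewise for the primed
data. Let q > 0 be an integer such that x ↦ x^q is additive on all functions of S-schemes. For a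
homomorphism f : G ⟶ G' the following are equivalent: (i) f restricted to T factors through a
homomorphism f_T : T ⟶ T' with α' ∘ f_T = α^q and f_T ∘ α^* = (α'^*)^q; (ii) there is an S-point c
of 𝔾_m (it is then unique) with f(p₊(x)) = p'₊(c x^q) and f(p₋(y)) = p'₋(c⁻¹ y^q) for all points x,
y of 𝔾_a. -/
theorem result (S : Scheme.{u}) (G T : Over S) [GrpObj G] [GrpObj T] (i : T ⟶ G) [IsMonHom i] [Mono i] (hG : Red.IsReductive G) (hTm : Red.IsMaximalTorus i)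
    (α : T ⟶ Red.Gm S) [IsMonHom α] (hα : ∀ s : S, (Over.pullback (Red.geomPt s)).map α ≠ 1)
    (pp pm : Red.Ga S ⟶ G) [IsMonHom pp] [Mono pp] [IsMonHom pm] [Mono pm]
    (hpp : ∀ (X : Over S) (t : X ⟶ T) (x : X ⟶ Red.Ga S), ∃ x' : X ⟶ Red.Ga S,
      x' ≫ pp = (t ≫ i) * (x ≫ pp) * (t ≫ i)⁻¹ ∧ Red.gaFn x' = Red.gmFn (t ≫ α) * Red.gaFn x)
    (hpm : ∀ (X : Over S) (t : X ⟶ T) (y : X ⟶ Red.Ga S), ∃ y' : X ⟶ Red.Ga S,
      y' ≫ pm = (t ≫ i) * (y ≫ pm) * (t ≫ i)⁻¹ ∧ Red.gaFn y' * Red.gmFn (t ≫ α) = Red.gaFn y)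
    (hΩ : IsOpenImmersion (((pm ⊗ₘ i) ⊗ₘ pp) ≫ (μ[G] ▷ G) ≫ μ[G]).left)
    (av : Red.Gm S ⟶ T) [IsMonHom av] (h2 : av ≫ α = (𝟙 (Red.Gm S)) ^ 2)
    (hF : ∀ (X : Over S) (x y : X ⟶ Red.Ga S), IsUnit (1 + Red.gaFn x * Red.gaFn y) →
      ∃ (x' y' : X ⟶ Red.Ga S) (z : X ⟶ Red.Gm S), Red.gmFn z = 1 + Red.gaFn x * Red.gaFn y ∧
        Red.gaFn x' * Red.gmFn z = Red.gaFn x ∧ Red.gaFn y' * Red.gmFn z = Red.gaFn y ∧
        (x ≫ pp) * (y ≫ pm) = (y' ≫ pm) * (z ≫ av ≫ i) * (x' ≫ pp))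
    (G' T' : Over S) [GrpObj G'] [GrpObj T'] (i' : T' ⟶ G') [IsMonHom i'] [Mono i'] (hG' : Red.IsReductive G') (hTm' : Red.IsMaximalTorus i')
    (α' : T' ⟶ Red.Gm S) [IsMonHom α'] (hα' : ∀ s : S, (Over.pullback (Red.geomPt s)).map α' ≠ 1)
    (pp' pm' : Red.Ga S ⟶ G') [IsMonHom pp'] [Mono pp'] [IsMonHom pm'] [Mono pm']
    (hpp' : ∀ (X : Over S) (t : X ⟶ T') (x : X ⟶ Red.Ga S), ∃ x' : X ⟶ Red.Ga S,
      x' ≫ pp' = (t ≫ i') * (x ≫ pp') * (t ≫ i')⁻¹ ∧ Red.gaFn x' = Red.gmFn (t ≫ α') * Red.gaFn x)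
    (hpm' : ∀ (X : Over S) (t : X ⟶ T') (y : X ⟶ Red.Ga S), ∃ y' : X ⟶ Red.Ga S,
      y' ≫ pm' = (t ≫ i') * (y ≫ pm') * (t ≫ i')⁻¹ ∧ Red.gaFn y' * Red.gmFn (t ≫ α') = Red.gaFn y)
    (hΩ' : IsOpenImmersion (((pm' ⊗ₘ i') ⊗ₘ pp') ≫ (μ[G'] ▷ G') ≫ μ[G']).left)
    (av' : Red.Gm S ⟶ T') [IsMonHom av'] (h2' : av' ≫ α' = (𝟙 (Red.Gm S)) ^ 2)
    (hF' : ∀ (X : Over S) (x y : X ⟶ Red.Ga S), IsUnit (1 + Red.gaFn x * Red.gaFn y) →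
      ∃ (x' y' : X ⟶ Red.Ga S) (z : X ⟶ Red.Gm S), Red.gmFn z = 1 + Red.gaFn x * Red.gaFn y ∧
        Red.gaFn x' * Red.gmFn z = Red.gaFn x ∧ Red.gaFn y' * Red.gmFn z = Red.gaFn y ∧
        (x ≫ pp') * (y ≫ pm') = (y' ≫ pm') * (z ≫ av' ≫ i') * (x' ≫ pp'))
    (q : ℕ) (hq0 : 0 < q) (hq : ∀ (X : Over S) (a b : Γ(X.left, ⊤)), (a + b) ^ q = a ^ q + b ^ q) (f : G ⟶ G') [IsMonHom f] :
    (∃ fT : T ⟶ T', IsMonHom fT ∧ i ≫ f = fT ≫ i' ∧ fT ≫ α' = α ^ q ∧ av ≫ fT = av' ^ q) ↔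
      ∃! c : 𝟙_ (Over S) ⟶ Red.Gm S,
        (∀ (X : Over S) (x y : X ⟶ Red.Ga S), Red.gaFn y = Red.gmFn (toUnit X ≫ c) * Red.gaFn x ^ q →
          (x ≫ pp) ≫ f = y ≫ pp') ∧
        (∀ (X : Over S) (x y : X ⟶ Red.Ga S), Red.gaFn y * Red.gmFn (toUnit X ≫ c) = Red.gaFn x ^ q →
          (x ≫ pm) ≫ f = y ≫ pm') := by
  have H : Hyp i α pp pm := hyp_of hTm.2.2.1 hα hpp hpm hΩ
  have hs := sys_of_hyp (i := i) hpp hpm h2 hF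
  have H' : Hyp i' α' pp' pm' := hyp_of hTm'.2.2.1 hα' hpp' hpm' hΩ'
  have hs' := sys_of_hyp (i := i') hpp' hpm' h2' hF'
  haveI := Groth.Agent.Lib.Tori.Basic.isAffineHom_of_isTorus hTm'.2.2.1
  constructor
  · rintro ⟨fT, hfTm, hfT, hfα, hfav⟩
    haveI := hfTm
    have hc : MapsCoroot i av i' av' f q := fun X u => by
      rw [← zpow_natCast u q, ← zpow_av hs' _ (Gm.gmFn_gmPt u), zpow_natCast, ← MonObj.comp_pow, ← hfav,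
        Sys.H]
      simp only [Category.assoc, hfT]
    obtain ⟨v, hv⟩ := exists_mapsPP f H hs H' hs' hG' hq0 fT hfT hfα hc
    have hu : unitOf (Gm.gmPt v : 𝟙_ (Over S) ⟶ Red.Gm S) = v :=
      Units.ext ((Gm.isUnit_gmFn _).unit_spec.trans (Gm.gmFn_gmPt v))
    refine ⟨Gm.gmPt v, ⟨(mapsPP_iff f).2 (by rw [hu]; exact hv), (mapsPM_iff f).2 ?_⟩, fun c' hc' => ?_⟩
    · rw [hu]
      exact mapsPM_of_mapsCoroot f H hs H' hs' hG' hq hq0 hv hc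
    · rw [← mapsPP_unique f H' ((mapsPP_iff f).1 hc'.1) hv]
      exact gmPt_eq c' (Gm.isUnit_gmFn c').unit_spec.symm
  · rintro ⟨c, ⟨hcp, hcm⟩, -⟩
    have hp := (mapsPP_iff f).1 hcp
    exact exists_fT f H H' hs' hG' hq0 hp
      (mapsCoroot_of_mapsW f hs hs' (mapsW_of_mapsPM f hq hq0 hp ((mapsPM_iff f).1 hcm)))

end Groth.Agent.S8452
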