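import Groth.Statements.S8454
import Groth.Agent.H82.RankOne2.Iso

set_option autoImplicit false
universe u
open CategoryTheory MonoidalCategory CartesianMonoidalCategory MonObj GrpObj AlgebraicGeometry CategoryTheory.Limits
open Red
open Groth.Agent.H82.BigCell Groth.Agent.Lib.RedPts
open Groth.Agent.H82.RankOne (P P_eq Sys sys_of_hyp)

namespace Groth.Agent.S8454

/-- Let (G, T, α, p₊, p₋, α^*) and (G', T', α', p'₊, p'₋, α'^*) be two rank-one systems over S: G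
reductive, i : T ⟶ G a maximal torus, α a character of T non-trivial on every geometric fibre, p₊,
p₋ : 𝔾_a ⟶ G monomorphisms normalised by T with multipliers α, α⁻¹ whose cell map (y, t, x) ↦ p₋(y)
i(t) p₊(x) is an open immersion, α^* : 𝔾_m ⟶ T with α ∘ α^* the squaring map and p₊(x) p₋(y) =
p₋(y/(1+xy)) · i(α^*(1+xy)) · p₊(x/(1+xy)) whenever 1 + xy is invertible; likewise for the primed
data. Let q > 0 be an integer such that x ↦ x^q is additive on all functions of S-schemes. Assume q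
= 1: let c be an S-point of 𝔾_m and f_T : T ⟶ T' a homomorphism with α' ∘ f_T = α and f_T ∘ α^* =
α'^* which is an isomorphism. Then a homomorphism f : G ⟶ G' extending f_T with f(p₊(x)) = p'₊(c x)
for all points x is an isomorphism. -/
theorem result (S : Scheme.{u}) (G T : Over S) [GrpObj G] [GrpObj T] (i : T ⟶ G) [IsMonHom i] [Mono i] (hG : Red.IsReductive G) (hTm : Red.IsMaximalTorus i)
    (α : T ⟶ Red.Gm S) [IsMonHom α] (hα : ∀ s : S, (Over.pullback (Red.geomPt s)).map α ≠ 1)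
    (pp pm : Red.Ga S ⟶ G) [IsMonHom pp] [Mono pp] [IsMonHom pm] [Mono pm]
    (hpp : ∀ (X : Over S) (t : X ⟶ T) (x : X ⟶ Red.Ga S), ∃ x' : X ⟶ Red.Ga S,
      x' ≫ pp = (t ≫ i) * (x ≫ pp) * (t ≫ i)⁻¹ ∧ Red.gaFn x' = Red.gmFn (t ≫ α) * Red.gaFn x)
    (hpm : ∀ (X : Over S) (t : X ⟶ T) (y : X ⟶ Red.Ga S), ∃ y' : X ⟶ Red.Ga S,
      y' ≫ pm = (t ≫ i) * (y ≫ pm) * (t ≫ i)⁻¹ ∧ Red.gaFn y' * Red.gmFn (t ≫ α) = Red.gaFn y)
    (hΩ : IsOpenImmersion (((pm ⊗ₘ i) ⊗ₘ pp) ≫ (μ[G] ▷ G) ≫ μ[G]).left)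
    (av : Red.Gm S ⟶ T) [IsMonHom av] (h2 : av ≫ α = (𝟙 (Red.Gm S)) ^ 2)
    (hF : ∀ (X : Over S) (x y : X ⟶ Red.Ga S), IsUnit (1 + Red.gaFn x * Red.gaFn y) →
      ∃ (x' y' : X ⟶ Red.Ga S) (z : X ⟶ Red.Gm S), Red.gmFn z = 1 + Red.gaFn x * Red.gaFn y ∧
        Red.gaFn x' * Red.gmFn z = Red.gaFn x ∧ Red.gaFn y' * Red.gmFn z = Red.gaFn y ∧
        (x ≫ pp) * (y ≫ pm) = (y' ≫ pm) * (z ≫ av ≫ i) * (x' ≫ pp))
    (G' T' : Over S) [GrpObj G'] [GrpObj T'] (i' : T' ⟶ G') [IsMonHom i'] [Mono i'] (hG' : Red.IsReductive G') (hTm' : Red.IsMaximalTorus i')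
    (α' : T' ⟶ Red.Gm S) [IsMonHom α'] (hα' : ∀ s : S, (Over.pullback (Red.geomPt s)).map α' ≠ 1)
    (pp' pm' : Red.Ga S ⟶ G') [IsMonHom pp'] [Mono pp'] [IsMonHom pm'] [Mono pm']
    (hpp' : ∀ (X : Over S) (t : X ⟶ T') (x : X ⟶ Red.Ga S), ∃ x' : X ⟶ Red.Ga S,
      x' ≫ pp' = (t ≫ i') * (x ≫ pp') * (t ≫ i')⁻¹ ∧ Red.gaFn x' = Red.gmFn (t ≫ α') * Red.gaFn x)
    (hpm' : ∀ (X : Over S) (t : X ⟶ T') (y : X ⟶ Red.Ga S), ∃ y' : X ⟶ Red.Ga S,
      y' ≫ pm' = (t ≫ i') * (y ≫ pm') * (t ≫ i')⁻¹ ∧ Red.gaFn y' * Red.gmFn (t ≫ α') = Red.gaFn y)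
    (hΩ' : IsOpenImmersion (((pm' ⊗ₘ i') ⊗ₘ pp') ≫ (μ[G'] ▷ G') ≫ μ[G']).left)
    (av' : Red.Gm S ⟶ T') [IsMonHom av'] (h2' : av' ≫ α' = (𝟙 (Red.Gm S)) ^ 2)
    (hF' : ∀ (X : Over S) (x y : X ⟶ Red.Ga S), IsUnit (1 + Red.gaFn x * Red.gaFn y) →
      ∃ (x' y' : X ⟶ Red.Ga S) (z : X ⟶ Red.Gm S), Red.gmFn z = 1 + Red.gaFn x * Red.gaFn y ∧
        Red.gaFn x' * Red.gmFn z = Red.gaFn x ∧ Red.gaFn y' * Red.gmFn z = Red.gaFn y ∧
        (x ≫ pp') * (y ≫ pm') = (y' ≫ pm') * (z ≫ av' ≫ i') * (x' ≫ pp'))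
    (c : 𝟙_ (Over S) ⟶ Red.Gm S) (fT : T ⟶ T') [IsMonHom fT] [IsIso fT]
    (hfTα : fT ≫ α' = α) (hfTav : av ≫ fT = av') (f : G ⟶ G') [IsMonHom f] (hfT : i ≫ f = fT ≫ i')
    (hf : ∀ (X : Over S) (x y : X ⟶ Red.Ga S), Red.gaFn y = Red.gmFn (toUnit X ≫ c) * Red.gaFn x →
      (x ≫ pp) ≫ f = y ≫ pp') :
    IsIso f := by
  have H : Hyp i α pp pm := hyp_of hTm.2.2.1 hα hpp hpm hΩ
  have hs := sys_of_hyp (i := i) hpp hpm h2 hF
  have H' : Hyp i' α' pp' pm' := hyp_of hTm'.2.2.1 hα' hpp' hpm' hΩ'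
  have hs' := sys_of_hyp (i := i') hpp' hpm' h2' hF'
  have hq : IsAddPow S 1 := fun X a b => by simp only [pow_one]
  have hp : MapsPP pp pp' f (unitOf c) 1 := (mapsPP_iff f).1 fun X x y hy => hf X x y (by rw [hy, pow_one])
  have hav1 : av ≫ fT = av' ^ 1 := by rw [pow_one]; exact hfTav
  have hm := mapsPM_of_mapsCoroot f H hs H' hs' hG' hq one_pos hp (mapsCoroot_of_fT hfT hav1)
  haveI : IsMonHom (inv fT) := Groth.Agent.H87.HomDS.isMonHom_of_points _ fun X a b => by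
    rw [← cancel_mono fT, MonObj.mul_comp _ _ fT]
    simp only [Category.assoc, IsIso.inv_hom_id, Category.comp_id]
  obtain ⟨g, hg, hgT, hgp, hgm⟩ := exists_hom_of_data H' hs' H hs hG' hq one_pos (unitOf c)⁻¹ (inv fT)
    (by rw [pow_one, IsIso.inv_comp_eq, hfTα]) (by rw [pow_one, ← hfTav, Category.assoc, IsIso.hom_inv_id, Category.comp_id])
  haveI := hg
  refine ⟨g, ?_, ?_⟩
  · refine hom_eq_of_data (v := 1) (q := 1) (i := i) (pp' := pp) (pm' := pm) H hs hG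
      (by rw [reassoc_of% hfT, hgT, IsIso.hom_inv_id_assoc, Category.comp_id]) ?_ ?_ ?_ ?_
    · intro X x
      rw [← Category.assoc, hp, hgp]
      congr 1
      simp only [cst_inv, cst_one, _root_.inv_inv, _root_.inv_one, pow_one, Units.val_one, _root_.one_mul, Units.inv_mul_cancel_left, Units.mul_inv_cancel_left]
    · intro X x
      simp [cst]
    · intro X x
      rw [← Category.assoc, hm, hgm]
      congr 1
      simp only [cst_inv, cst_one, _root_.inv_inv, _root_.inv_one, pow_one, Units.val_one, _root_.one_mul, Units.inv_mul_cancel_left, Units.mul_inv_cancel_left]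
    · intro X x
      simp [cst]
  · refine hom_eq_of_data (v := 1) (q := 1) (i := i') (pp' := pp') (pm' := pm') H' hs' hG'
      (by rw [reassoc_of% hgT, hfT, IsIso.inv_hom_id_assoc, Category.comp_id]) ?_ ?_ ?_ ?_
    · intro X x
      rw [← Category.assoc, hgp, hp]
      congr 1
      simp only [cst_inv, cst_one, _root_.inv_inv, _root_.inv_one, pow_one, Units.val_one, _root_.one_mul, Units.inv_mul_cancel_left, Units.mul_inv_cancel_left]
    · intro X x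
      simp [cst]
    · intro X x
      rw [← Category.assoc, hgm, hm]
      congr 1
      simp only [cst_inv, cst_one, _root_.inv_inv, _root_.inv_one, pow_one, Units.val_one, _root_.one_mul, Units.inv_mul_cancel_left, Units.mul_inv_cancel_left]
    · intro X x
      simp [cst]

end Groth.Agent.S8454
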