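import Groth.Statements.S8456
import Groth.Agent.H82.RankOne2.Closed

set_option autoImplicit false
universe u
open CategoryTheory MonoidalCategory CartesianMonoidalCategory MonObj GrpObj AlgebraicGeometry CategoryTheory.Limits
open Red
open Groth.Agent.H82.BigCell

namespace Groth.Agent.S8456

/-- Let G be a reductive S-group, i : T ⟶ G a maximal torus, α a character of T non-trivial on every
geometric fibre, and p₊, p₋ : 𝔾_a ⟶ G monomorphisms of groups normalised by T with multipliers α and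
α⁻¹ such that 𝔾_a ×_S T ×_S 𝔾_a ⟶ G, (y, t, x) ↦ p₋(y) i(t) p₊(x), is an open immersion (a rank-one
system: G has semisimple rank 1 and p₊, p₋ trivialise the root groups of α and -α). Then the
subgroups U_α = im p₊, U_{-α} = im p₋, T·U_α and T·U_{-α} are closed in G: p₊ and p₋ are closed
immersions, and so are the morphisms T ×_S 𝔾_a ⟶ G, (t, x) ↦ i(t) p₊(x) and (t, y) ↦ i(t) p₋(y). -/
theorem result (S : Scheme.{u}) (G T : Over S) [GrpObj G] [GrpObj T] (i : T ⟶ G) [IsMonHom i] [Mono i] (hG : Red.IsReductive G) (hTm : Red.IsMaximalTorus i)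
    (α : T ⟶ Red.Gm S) [IsMonHom α] (hα : ∀ s : S, (Over.pullback (Red.geomPt s)).map α ≠ 1)
    (pp pm : Red.Ga S ⟶ G) [IsMonHom pp] [Mono pp] [IsMonHom pm] [Mono pm]
    (hpp : ∀ (X : Over S) (t : X ⟶ T) (x : X ⟶ Red.Ga S), ∃ x' : X ⟶ Red.Ga S,
      x' ≫ pp = (t ≫ i) * (x ≫ pp) * (t ≫ i)⁻¹ ∧ Red.gaFn x' = Red.gmFn (t ≫ α) * Red.gaFn x)
    (hpm : ∀ (X : Over S) (t : X ⟶ T) (y : X ⟶ Red.Ga S), ∃ y' : X ⟶ Red.Ga S,
      y' ≫ pm = (t ≫ i) * (y ≫ pm) * (t ≫ i)⁻¹ ∧ Red.gaFn y' * Red.gmFn (t ≫ α) = Red.gaFn y)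
    (hΩ : IsOpenImmersion (((pm ⊗ₘ i) ⊗ₘ pp) ≫ (μ[G] ▷ G) ≫ μ[G]).left) :
    IsClosedImmersion pp.left ∧ IsClosedImmersion pm.left ∧
      IsClosedImmersion ((i ⊗ₘ pp) ≫ μ[G]).left ∧ IsClosedImmersion ((i ⊗ₘ pm) ≫ μ[G]).left := by
  obtain ⟨pm', hpm', av, hav, H, hs, σ, hσ, rfl⟩ := exists_sys_iso hG hTm.2.2.1 hα hpp hpm hΩ
  haveI := hpm'; haveI := hσ
  haveI : Mono pm' := by rw [← IsIso.inv_hom_id_assoc σ pm']; infer_instance
  obtain ⟨h1, h2, h3, h4⟩ := H.closed_borels hs hG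
  haveI : IsIso σ.left := inferInstanceAs (IsIso ((Over.forget S).map σ))
  haveI : IsIso (𝟙 T ⊗ₘ σ).left := inferInstanceAs (IsIso ((Over.forget S).map (𝟙 T ⊗ₘ σ)))
  refine ⟨h1, by rw [Over.comp_left]; infer_instance, h3, ?_⟩
  rw [show (i ⊗ₘ σ ≫ pm') ≫ μ[G] = (𝟙 T ⊗ₘ σ) ≫ (i ⊗ₘ pm') ≫ μ[G] by
    rw [tensorHom_comp_tensorHom_assoc, Category.id_comp], Over.comp_left]
  infer_instance

end Groth.Agent.S8456
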