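import Groth.Statements.S8457
import Groth.Agent.H82.RankOne2.Generators
import Groth.Agent.S8475

set_option autoImplicit false
universe u
open CategoryTheory MonoidalCategory CartesianMonoidalCategory MonObj GrpObj AlgebraicGeometry CategoryTheory.Limits
open Red
open Groth.Agent.H82.BigCell Groth.Agent.Lib.RedPts
open Groth.Agent.H82.RankOne (P P_eq P_comp gmPt_eq Sys sys_of_hyp)

namespace Groth.Agent.S8457

/-- Generators and relations for a group of semisimple rank 1: for H an S-group scheme. Let G be a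
reductive S-group, i : T ⟶ G a maximal torus, α a character of T non-trivial on every geometric
fibre, p₊, p₋ : 𝔾_a ⟶ G monomorphisms of groups normalised by T with multipliers α and α⁻¹ whose
cell map (y, t, x) ↦ p₋(y) i(t) p₊(x) is an open immersion 𝔾_a ×_S T ×_S 𝔾_a ⟶ G, and α^* : 𝔾_m ⟶ T
the coroot: α ∘ α^* is the squaring map and p₊(x) p₋(y) = p₋(y/(1+xy)) · i(α^*(1+xy)) · p₊(x/(1+xy))
whenever 1 + xy is invertible (so p₊ and p₋ are dual to each other). Let e₁, em be the S-points of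
𝔾_a with coordinates 1, -1 and m the S-point of 𝔾_m with coordinate -1; put u = p₊(e₁) and w =
p₊(e₁) p₋(em) p₊(e₁). Let H be an S-group scheme, f_T : T ⟶ H and f_α : 𝔾_a ⟶ H homomorphisms and h
an S-point of H. Then there is exactly one homomorphism f : G ⟶ H with f ∘ i = f_T, f ∘ p₊ = f_α and
f(w) = h if and only if: (1) f_T(t) f_α(x) f_T(t)⁻¹ = f_α(α(t) x) for all points t of T and x of
𝔾_a; (2) h f_T(t) h⁻¹ = f_T(t · α^*(α(t))⁻¹) for all points t of T; (3) h² = f_T(α^*(m)); (4) (h ·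
f_α(e₁))³ = e. (The published statement allows H to be any fppf sheaf of groups.) -/
theorem result (S : Scheme.{u}) (G T : Over S) [GrpObj G] [GrpObj T] (i : T ⟶ G) [IsMonHom i] [Mono i] (hG : Red.IsReductive G) (hTm : Red.IsMaximalTorus i)
    (α : T ⟶ Red.Gm S) [IsMonHom α] (hα : ∀ s : S, (Over.pullback (Red.geomPt s)).map α ≠ 1)
    (pp pm : Red.Ga S ⟶ G) [IsMonHom pp] [Mono pp] [IsMonHom pm] [Mono pm]
    (hpp : ∀ (X : Over S) (t : X ⟶ T) (x : X ⟶ Red.Ga S), ∃ x' : X ⟶ Red.Ga S,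
      x' ≫ pp = (t ≫ i) * (x ≫ pp) * (t ≫ i)⁻¹ ∧ Red.gaFn x' = Red.gmFn (t ≫ α) * Red.gaFn x)
    (hpm : ∀ (X : Over S) (t : X ⟶ T) (y : X ⟶ Red.Ga S), ∃ y' : X ⟶ Red.Ga S,
      y' ≫ pm = (t ≫ i) * (y ≫ pm) * (t ≫ i)⁻¹ ∧ Red.gaFn y' * Red.gmFn (t ≫ α) = Red.gaFn y)
    (hΩ : IsOpenImmersion (((pm ⊗ₘ i) ⊗ₘ pp) ≫ (μ[G] ▷ G) ≫ μ[G]).left)
    (av : Red.Gm S ⟶ T) [IsMonHom av] (h2 : av ≫ α = (𝟙 (Red.Gm S)) ^ 2)
    (hF : ∀ (X : Over S) (x y : X ⟶ Red.Ga S), IsUnit (1 + Red.gaFn x * Red.gaFn y) →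
      ∃ (x' y' : X ⟶ Red.Ga S) (z : X ⟶ Red.Gm S), Red.gmFn z = 1 + Red.gaFn x * Red.gaFn y ∧
        Red.gaFn x' * Red.gmFn z = Red.gaFn x ∧ Red.gaFn y' * Red.gmFn z = Red.gaFn y ∧
        (x ≫ pp) * (y ≫ pm) = (y' ≫ pm) * (z ≫ av ≫ i) * (x' ≫ pp))
    (e₁ em : 𝟙_ (Over S) ⟶ Red.Ga S) (he₁ : Red.gaFn e₁ = 1) (hem : Red.gaFn em = -1)
    (m : 𝟙_ (Over S) ⟶ Red.Gm S) (hm : Red.gmFn m = -1)
    (H : Over S) [GrpObj H] (fT : T ⟶ H) [IsMonHom fT] (fα : Red.Ga S ⟶ H) [IsMonHom fα] (h : 𝟙_ (Over S) ⟶ H) :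
    (∃! f : G ⟶ H, IsMonHom f ∧ i ≫ f = fT ∧ pp ≫ f = fα ∧ ((e₁ ≫ pp) * (em ≫ pm) * (e₁ ≫ pp)) ≫ f = h) ↔
      ((∀ (X : Over S) (t : X ⟶ T) (x x' : X ⟶ Red.Ga S), Red.gaFn x' = Red.gmFn (t ≫ α) * Red.gaFn x →
          (t ≫ fT) * (x ≫ fα) * (t ≫ fT)⁻¹ = x' ≫ fα) ∧
        (∀ (X : Over S) (t : X ⟶ T), (toUnit X ≫ h) * (t ≫ fT) * (toUnit X ≫ h)⁻¹ = (t * (t ≫ α ≫ av)⁻¹) ≫ fT) ∧
        h ^ 2 = m ≫ av ≫ fT ∧ (h * (e₁ ≫ fα)) ^ 3 = 1) := by
  have Hy : Hyp i α pp pm := hyp_of hTm.2.2.1 hα hpp hpm hΩ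
  have hs := sys_of_hyp (i := i) hpp hpm h2 hF
  have hw₀ : w₀ pp pm (𝟙_ (Over S)) = (e₁ ≫ pp) * (em ≫ pm) * (e₁ ≫ pp) := by
    rw [P_eq pp e₁, P_eq pm em, he₁, hem, w₀, Sys.W, Units.val_one, inv_one, Units.val_one]
  constructor
  · rintro ⟨f, ⟨hf, hfi, hfp, hfw⟩, -⟩
    haveI := hf
    rw [← hw₀] at hfw
    refine ⟨fun X t x x' hx => ?_, fun X t => ?_, ?_, ?_⟩
    · have e := congrArg (· ≫ f) (Hy.conjP t (Red.gaFn x))
      simp only [MonObj.mul_comp, Category.assoc, hfi] at e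
      rw [← hx, ← P_eq pp x, ← P_eq pp x'] at e
      simp only [Category.assoc, hfp] at e
      rw [e, mul_inv_cancel_right]
    · have e := congrArg (· ≫ f) (hs.W_conj t (1 : Γ(X.left, ⊤)ˣ))
      simp only [MonObj.mul_comp, GrpObj.inv_comp, Category.assoc, hfi] at e
      change (w₀ pp pm X ≫ f) * _ * (w₀ pp pm X ≫ f)⁻¹ = _ at e
      rw [← w₀_comp (toUnit X), Category.assoc, hfw] at e
      rw [e, MonObj.mul_comp _ _ fT, GrpObj.inv_comp _ fT]
      simp only [Category.assoc]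
      have e'' := congrArg (· ≫ fT) (Hy.comm (t ≫ α ≫ av)⁻¹ t)
      simp only [MonObj.mul_comp, GrpObj.inv_comp, Category.assoc] at e''
      exact e''
    · have hm' : m = Gm.gmPt (-1 : Γ((𝟙_ (Over S)).left, ⊤)ˣ) := gmPt_eq m (by rw [hm, Units.val_neg, Units.val_one])
      have e := hs.W_mul_W (1 : Γ((𝟙_ (Over S)).left, ⊤)ˣ) 1 (-1) (by simp)
      have e' := congrArg (· ≫ f) e
      simp only [MonObj.mul_comp, Sys.H, Category.assoc, hfi] at e'
      rw [hm', pow_two, ← hfw]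
      exact e'
    · have hx : Red.gaFn em * Red.gaFn e₁ = -1 := by rw [he₁, hem, _root_.mul_one]
      have e := (Groth.Agent.S8475.result S G T i hG hTm α hα pp pm hpp hpm hΩ av h2 hF _ e₁ em hx).2
      rw [← hw₀] at e
      have e' := congrArg (· ≫ f) e
      simp only [MonObj.pow_comp, MonObj.mul_comp, MonObj.one_comp, Category.assoc, hfp, hfw] at e'
      exact e'
  · rintro ⟨r1, r2, r3, r4⟩
    have R : Gens α av fT fα h :=
      { monT := inferInstance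
        monP := inferInstance
        c1 := fun {X} t a => by
          have e := r1 X t (Ga.gaPt a) (Ga.gaPt (Red.gmFn (t ≫ α) * a)) (by rw [Ga.gaFn_gaPt, Ga.gaFn_gaPt])
          exact mul_inv_eq_iff_eq_mul.1 e
        c2 := fun {X} t => by rw [Category.assoc]; exact r2 X t
        sq := fun {X} => by
          have e := congrArg (toUnit X ≫ ·) r3
          simp only [pow_two, MonObj.comp_mul] at e
          rw [e, ← Category.assoc, ← Category.assoc]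
          congr 2
          exact gmPt_eq _ (by rw [Gm.gmFn_comp, hm, map_neg, map_one, Units.val_neg, Units.val_one])
        cube := fun {X} => by
          have e := congrArg (toUnit X ≫ ·) r4
          simp only [MonObj.comp_pow, MonObj.comp_mul, MonObj.comp_one] at e
          rwa [P_eq fα e₁, he₁, P_comp, map_one] at e }
    obtain ⟨f, hf, hfi, hfp, hfw⟩ := R.exists_hom Hy hs hG
    have hh : (e₁ ≫ pp) * (em ≫ pm) * (e₁ ≫ pp) = w₀ pp pm (𝟙_ (Over S)) := hw₀.symm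
    refine ⟨f, ⟨hf, hfi, hfp, ?_⟩, fun g hg => ?_⟩
    · rw [hh, hfw, toUnit_unique (toUnit (𝟙_ (Over S))) (𝟙 _), Category.id_comp]
    obtain ⟨hgm, hgi, hgp, hgw⟩ := hg
    haveI := hf; haveI := hgm
    refine Hy.hom_ext hs hG g f (hgi.trans hfi.symm) (hgp.trans hfp.symm) ?_
    have key : ∀ g : G ⟶ H, IsMonHom g → pp ≫ g = fα →
        (∀ {X : Over S}, w₀ pp pm X ≫ g = toUnit X ≫ h) →
        pm ≫ g = (toUnit (Red.Ga S) ≫ h) * P fα (-Red.gaFn (𝟙 (Red.Ga S))) * (toUnit (Red.Ga S) ≫ h)⁻¹ :=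
      fun g hg hgp hgw => by
        haveI := hg
        have e := congrArg (· ≫ g) (Hy.w₀_mul_pp hs (-Red.gaFn (𝟙 (Red.Ga S))))
        simp only [MonObj.mul_comp, neg_neg, hgw] at e
        rw [← P_eq pm, Category.id_comp] at e
        rw [eq_mul_inv_iff_mul_eq, ← e]
        congr 1
        unfold P
        rw [Category.assoc, hgp]
    refine (key g hgm hgp fun {X} => ?_).trans (key f hf hfp fun {X} => hfw).symm
    rw [← w₀_comp (toUnit X), Category.assoc, ← hh, hgw]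

end Groth.Agent.S8457
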