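import Groth.Statements.S8459
import Groth.Agent.H82.Weyl.PinnedExt
import Groth.Agent.S8458
-- import your own Groth.Agent.* helpers here

set_option autoImplicit false
universe u
open CategoryTheory MonoidalCategory CartesianMonoidalCategory MonObj GrpObj AlgebraicGeometry CategoryTheory.Limits
open Red

namespace Groth.Agent.S8459

/-- Let G be a pinned reductive S-group: a splitting D (maximal torus T ≅ D_S(M), root datum with root
homomorphisms u_c : 𝔾_a ⟶ G for all roots c, system of simple roots Δ) such that for every simple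
root a the root homomorphisms of a and -a are dual to each other: u_a(x) u_{-a}(y) =
u_{-a}(y/(1+xy)) · a^∨(1+xy) · u_a(x/(1+xy)) whenever 1 + xy is invertible, where a^∨ : 𝔾_m ⟶ T is
the coroot of a read through the splitting. For a root a put w_a = u_a(1) u_{-a}(-1) u_a(1) (an
S-point of G). Let a ≠ b be simple roots with ⟨b, a^∨⟩ = 0 and ⟨a, b^∨⟩ = 0 (the pair spans a system
of type A₁ × A₁). Then t_{ab} = (w_a w_b)^2 = a^∨(-1) · b^∨(-1) = (w_b w_a)^2. (The published
statement is for a pinned group whose simple roots are exactly a and b; this row states it for two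
simple roots a ≠ b of any pinned group.) -/
theorem result (S : Scheme.{u}) (e₁ : 𝟙_ (Over S) ⟶ Red.Ga S) (he₁ : Red.gaFn e₁ = 1)
    (G : Over S) [GrpObj G] (D : Red.Pinning G)
    (avc : D.idx → (Red.Gm S ⟶ D.T))
    (havc : ∀ a, avc a = Red.DSmap S (D.P.coroot a).toAddMonoidHom ≫ D.split.inv.hom.hom)
    (hpair : ∀ a ∈ D.base.support, ∀ (X : Over S) (x y : X ⟶ Red.Ga S), IsUnit (1 + Red.gaFn x * Red.gaFn y) →
        ∃ (x' y' : X ⟶ Red.Ga S) (z : X ⟶ Red.Gm S), Red.gmFn z = 1 + Red.gaFn x * Red.gaFn y ∧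
          Red.gaFn x' * Red.gmFn z = Red.gaFn x ∧ Red.gaFn y' * Red.gmFn z = Red.gaFn y ∧
          (x ≫ D.u a) * (y ≫ D.u (D.P.reflectionPerm a a)) = (y' ≫ D.u (D.P.reflectionPerm a a)) * (z ≫ avc a ≫ D.i) * (x' ≫ D.u a))
    (w : D.idx → (𝟙_ (Over S) ⟶ G))
    (hw : ∀ a, w a = (e₁ ≫ D.u a) * (e₁ ≫ D.u (D.P.reflectionPerm a a))⁻¹ * (e₁ ≫ D.u a))
    (m₁ : 𝟙_ (Over S) ⟶ Red.Gm S) (hm₁ : Red.gmFn m₁ = -1)
    (a b : D.idx) (ha : a ∈ D.base.support) (hb : b ∈ D.base.support) (hne : a ≠ b)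
    (hba : D.P.pairing b a = 0) (hab : D.P.pairing a b = 0) :
    (w a * w b) ^ 2 = (m₁ ≫ avc a ≫ D.i) * (m₁ ≫ avc b ≫ D.i) ∧ (w b * w a) ^ 2 = (m₁ ≫ avc a ≫ D.i) * (m₁ ≫ avc b ≫ D.i) := by
  haveI := Groth.Agent.H82.Weyl.isCrystallographic_int D.toSplitRed
  haveI : IsAddTorsionFree D.M := .of_isTorsionFree ℤ D.M
  haveI : IsAddTorsionFree (Module.Dual ℤ D.M) := .of_isTorsionFree ℤ _
  have hsub : D.P.root b - D.P.root a ∉ Set.range D.P.root := D.base.sub_notMem_range_root hb ha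
  have hsub' : D.P.root a - D.P.root b ∉ Set.range D.P.root := D.base.sub_notMem_range_root ha hb
  have hsum : D.P.root a + D.P.root b ∉ Set.range D.P.root := fun ⟨c, hc⟩ => hsub ⟨D.P.reflectionPerm a c, by
    rw [D.P.root_reflectionPerm, hc, map_add, D.P.reflection_apply_self, D.P.reflection_apply,
      D.P.root_coroot'_eq_pairing, hba, zero_smul, sub_zero]
    abel⟩
  have hnegmem : ∀ x : D.M, x ∈ Set.range D.P.root → -x ∈ Set.range D.P.root := by
    rintro _ ⟨c, rfl⟩
    exact ⟨D.P.reflectionPerm c c, by rw [D.P.root_reflectionPerm, D.P.reflection_apply_self]⟩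
  have hne0 : ∀ x : D.M, x = D.P.root a + D.P.root b ∨ x = D.P.root a - D.P.root b → x ≠ 0 := by
    rintro x (rfl | rfl) h0
    · exact hsum (by
        have := congrArg (fun z => z - D.P.root b) h0
        simp only [add_sub_cancel_right, zero_sub] at this
        exfalso
        have h2 := congrArg (D.P.coroot' b) this
        simp [D.P.root_coroot'_eq_pairing, hab] at h2)
    · have h2 := congrArg (D.P.coroot' b) (sub_eq_zero.1 h0)
      simp [D.P.root_coroot'_eq_pairing, hab] at h2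
  have hneg : ∀ c, D.P.root (D.P.reflectionPerm c c) = -D.P.root c := fun c => by
    rw [D.P.root_reflectionPerm, D.P.reflection_apply_self]
  have hc : ∀ p ∈ ({a, D.P.reflectionPerm a a} : Set D.idx), ∀ q ∈ ({b, D.P.reflectionPerm b b} : Set D.idx),
      ∀ X (x y : X ⟶ Red.Ga S), Commute (x ≫ D.u p) (y ≫ D.u q) := by
    intro p hp q hq X x y
    refine Groth.Agent.S8458.result S G D.toSplitRed p q ?_ ?_ X x y
    · rcases hp with rfl | rfl <;> rcases hq with rfl | rfl <;> (try simp only [hneg]) <;> intro h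
      · exact hne0 _ (Or.inl rfl) h
      · exact hne0 _ (Or.inr rfl) (by rw [sub_eq_add_neg]; exact h)
      · exact hne0 _ (Or.inr rfl) (by rw [← neg_eq_zero, neg_sub, sub_eq_add_neg, add_comm]; exact h)
      · exact hne0 _ (Or.inl rfl) (by rw [← neg_eq_zero, neg_add]; exact h)
    · rcases hp with rfl | rfl <;> rcases hq with rfl | rfl <;> (try simp only [hneg]) <;> intro h
      · exact hsum h
      · exact hsub' (by rw [sub_eq_add_neg]; exact h)
      · exact hsub (by rw [sub_eq_add_neg, add_comm]; exact h)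
      · exact hsum (by have := hnegmem _ h; rwa [neg_add, neg_neg, neg_neg] at this)
  have hwc : Commute (w a) (w b) := by
    rw [hw a, hw b]
    have h1 : ∀ q ∈ ({b, D.P.reflectionPerm b b} : Set D.idx), Commute ((e₁ ≫ D.u a) *
        (e₁ ≫ D.u (D.P.reflectionPerm a a))⁻¹ * (e₁ ≫ D.u a)) (e₁ ≫ D.u q) := fun q hq =>
      ((hc a (Or.inl rfl) q hq _ _ _).mul_left (hc _ (Or.inr rfl) q hq _ _ _).inv_left).mul_left
        (hc a (Or.inl rfl) q hq _ _ _)
    exact ((h1 b (Or.inl rfl)).mul_right (h1 _ (Or.inr rfl)).inv_right).mul_right (h1 b (Or.inl rfl))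
  have hsq : ∀ c ∈ D.base.support, w c * w c = m₁ ≫ avc c ≫ D.i := by
    intro c hc'
    have hs := Groth.Agent.H82.Weyl.sys_of_dual (D := D.toSplitRed) (a := c)
      (fun X x y hxy => by rw [← havc c]; exact hpair c hc' X x y hxy)
    have hW : w c = Groth.Agent.H82.RankOne.Sys.W (D.u c) (D.u (D.P.reflectionPerm c c))
        (1 : Γ((𝟙_ (Over S)).left, ⊤)ˣ) := by
      simp only [hw c, Groth.Agent.H82.RankOne.Sys.W]
      rw [Groth.Agent.H82.RankOne.P_eq, Groth.Agent.H82.RankOne.P_eq, he₁, inv_one, Units.val_one,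
        Groth.Agent.H82.RankOne.P_neg]
    rw [hW, hs.W_mul_W 1 1 (-1) (by rw [_root_.mul_one]), Groth.Agent.H82.RankOne.Sys.H, havc c,
      Groth.Agent.H82.RankOne.gmPt_eq m₁ (u := -1) (by rw [hm₁]; simp)]
    rfl
  refine ⟨?_, ?_⟩
  · rw [hwc.mul_pow, pow_two, pow_two, hsq a ha, hsq b hb]
  · rw [← hwc.eq, hwc.mul_pow, pow_two, pow_two, hsq a ha, hsq b hb]

end Groth.Agent.S8459
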