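import Groth.Statements.S8464
import Groth.Agent.H82.R2.B2
import Groth.Agent.H82.R2.Pinned
-- import your own Groth.Agent.* helpers here

set_option autoImplicit false
universe u
open CategoryTheory MonoidalCategory CartesianMonoidalCategory MonObj GrpObj AlgebraicGeometry CategoryTheory.Limits
open Red

namespace Groth.Agent.S8464

open Groth.Agent Groth.Agent.H82.R2
open Groth.Agent.H82.RankOne (P P_eq P_neg)

/-- Let G be a pinned reductive S-group: a splitting D (maximal torus T ≅ D_S(M), root datum with root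
homomorphisms u_c : 𝔾_a ⟶ G for all roots c, system of simple roots Δ) such that for every simple
root a the root homomorphisms of a and -a are dual to each other: u_a(x) u_{-a}(y) =
u_{-a}(y/(1+xy)) · a^∨(1+xy) · u_a(x/(1+xy)) whenever 1 + xy is invertible, where a^∨ : 𝔾_m ⟶ T is
the coroot of a read through the splitting. For a root a put w_a = u_a(1) u_{-a}(-1) u_a(1) (an
S-point of G). Let a ≠ b be simple roots with ⟨b, a^∨⟩ = -2 and ⟨a, b^∨⟩ = -1 (type B₂, a the short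
root); put u_{a+b}(x) = w_b u_a(x) w_b⁻¹ and u_{2a+b}(x) = w_a u_b(x) w_a⁻¹. Then for all points x,
y of 𝔾_a: u_b(y) u_a(x) = u_a(x) u_b(y) u_{a+b}(x y) u_{2a+b}(x² y) and u_{a+b}(y) u_a(x) = u_a(x)
u_{a+b}(y) u_{2a+b}(2 x y). (The published statement is for a pinned group whose simple roots are
exactly a and b; this row states it for two simple roots a ≠ b of any pinned group.) -/
theorem result (S : Scheme.{u}) (e₁ : 𝟙_ (Over S) ⟶ Red.Ga S) (he₁ : Red.gaFn e₁ = 1)
    (G : Over S) [GrpObj G] (D : Red.Pinning G)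
    (avc : D.idx → (Red.Gm S ⟶ D.T))
    (havc : ∀ a, avc a = Red.DSmap S (D.P.coroot a).toAddMonoidHom ≫ D.split.inv.hom.hom)
    (hpair : ∀ a ∈ D.base.support, ∀ (X : Over S) (x y : X ⟶ Red.Ga S), IsUnit (1 + Red.gaFn x * Red.gaFn y) →
        ∃ (x' y' : X ⟶ Red.Ga S) (z : X ⟶ Red.Gm S), Red.gmFn z = 1 + Red.gaFn x * Red.gaFn y ∧
          Red.gaFn x' * Red.gmFn z = Red.gaFn x ∧ Red.gaFn y' * Red.gmFn z = Red.gaFn y ∧
          (x ≫ D.u a) * (y ≫ D.u (D.P.reflectionPerm a a)) = (y' ≫ D.u (D.P.reflectionPerm a a)) * (z ≫ avc a ≫ D.i) * (x' ≫ D.u a))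
    (w : D.idx → (𝟙_ (Over S) ⟶ G))
    (hw : ∀ a, w a = (e₁ ≫ D.u a) * (e₁ ≫ D.u (D.P.reflectionPerm a a))⁻¹ * (e₁ ≫ D.u a))
    (a b : D.idx) (ha : a ∈ D.base.support) (hb : b ∈ D.base.support) (hne : a ≠ b)
    (hba : D.P.pairing b a = -2) (hab : D.P.pairing a b = -1)
    (uab : ∀ X : Over S, (X ⟶ Red.Ga S) → (X ⟶ G))
    (huab : ∀ (X : Over S) (x : X ⟶ Red.Ga S), uab X x = (toUnit X ≫ w b) * (x ≫ D.u a) * (toUnit X ≫ w b)⁻¹)
    (uaab : ∀ X : Over S, (X ⟶ Red.Ga S) → (X ⟶ G))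
    (huaab : ∀ (X : Over S) (x : X ⟶ Red.Ga S), uaab X x = (toUnit X ≫ w a) * (x ≫ D.u b) * (toUnit X ≫ w a)⁻¹)
    (X : Over S) (x y xy xxy txy : X ⟶ Red.Ga S) (hxy : Red.gaFn xy = Red.gaFn x * Red.gaFn y)
    (hxxy : Red.gaFn xxy = Red.gaFn x ^ 2 * Red.gaFn y) (htxy : Red.gaFn txy = 2 * Red.gaFn x * Red.gaFn y) :
    (y ≫ D.u b) * (x ≫ D.u a) = (x ≫ D.u a) * (y ≫ D.u b) * uab X xy * uaab X xxy ∧
      uab X y * (x ≫ D.u a) = (x ≫ D.u a) * uab X y * uaab X txy := by
  haveI := Groth.Agent.H82.R2.crys D.toSplitRed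
  haveI := Groth.Agent.H82.R2.reduced_of_base D.base
  have hp : Pair D.toSplitRed a b 2 := pair_of_base D.base ha hb (Or.inr (Or.inl rfl)) hba hab
  have hda : H82.Weyl.Dual D.toSplitRed a := fun X x y hu => by simpa only [← havc a] using hpair a ha X x y hu
  have hdb : H82.Weyl.Dual D.toSplitRed b := fun X x y hu => by simpa only [← havc b] using hpair b hb X x y hu
  have hwa : ∀ X : Over S, toUnit X ≫ w a = el D.toSplitRed a (-1) X := fun X => by rw [hw]; exact toUnit_comp_w e₁ he₁ X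
  have hwb : ∀ X : Over S, toUnit X ≫ w b = el D.toSplitRed b (-1) X := fun X => by rw [hw]; exact toUnit_comp_w e₁ he₁ X
  have hneg : ∀ {X : Over S} (c : D.idx) (v : Γ(X.left, ⊤)), (P (D.u c) v)⁻¹ = P (D.u c) (-v) := fun c v => (P_neg _ v).symm
  obtain ⟨c, hc'⟩ := hp.exists_root (i := 1) (j := 1) (by decide)
  obtain ⟨d, hd'⟩ := hp.exists_root (i := 2) (j := 1) (by decide)
  have hc : Co a b c 1 1 := hc'
  have hd : Co a b d 2 1 := hd'
  obtain ⟨t, s, k, hr⟩ := B2.exists_rel hp hc hd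
  have mA := B2.el_conj_b hp hc hd hr (flip_el hda) (hp.co_inj (hp.co_refl_a co_right) hd ▸ maps_el hda b)
    (by have := maps_el hda c; rwa [hp.co_inj (hp.co_refl_a hc) hc] at this) (hp.co_inj (hp.co_refl_a hd) co_right ▸ maps_el hda d)
  have mB := B2.el_conj_a hp hc hd hr (flip_el hdb) (hp.co_inj (hp.co_refl_b co_left) hc ▸ maps_el hdb a)
    (hp.co_inj (hp.co_refl_b hc) co_left ▸ maps_el hdb c)
  have e : ∀ Y y, uab Y y = P (D.u c) (res Y t * Red.gaFn y) := fun Y y => by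
    rw [huab, hwb, P_eq, mul_inv_eq_iff_eq_mul, (mB Y _).1]
  have e' : ∀ Y y, uaab Y y = P (D.u d) (res Y s * Red.gaFn y) := fun Y y => by
    rw [huaab, hwa, P_eq, mul_inv_eq_iff_eq_mul, (mA Y _).1]
  simp only [e, e', P_eq, hxy, hxxy, htxy]
  have hk : res X k * res X t = 2 * res X s := by
    have h2 := hr.tk
    simp only [res_unit] at h2
    rw [res, res, res, ← map_mul, mul_comm, h2, map_mul, map_ofNat]
  constructor
  · rw [← _root_.mul_one (P (D.u b) (Red.gaFn y) * P (D.u a) (Red.gaFn x)), _root_.mul_assoc, hr.ba]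
    simp only [_root_.mul_one, _root_.mul_assoc]
  · rw [← _root_.mul_one (P (D.u c) (res X t * Red.gaFn y) * P (D.u a) (Red.gaFn x)), _root_.mul_assoc, hr.ca,
      show res X k * (Red.gaFn x * (res X t * Red.gaFn y)) = res X s * (2 * Red.gaFn x * Red.gaFn y) by
        linear_combination Red.gaFn x * Red.gaFn y * hk]
    simp only [_root_.mul_one, _root_.mul_assoc]

end Groth.Agent.S8464
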