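import Groth.Statements.S8465
import Groth.Agent.H82.R2.G2
import Groth.Agent.H82.R2.Pinned
-- import your own Groth.Agent.* helpers here

set_option autoImplicit false
universe u
open CategoryTheory MonoidalCategory CartesianMonoidalCategory MonObj GrpObj AlgebraicGeometry CategoryTheory.Limits
open Red

namespace Groth.Agent.S8465

open Groth.Agent Groth.Agent.H82.R2
open Groth.Agent.H82.RankOne (P P_eq P_neg)

/-- Let G be a pinned reductive S-group: a splitting D (maximal torus T ≅ D_S(M), root datum with root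
homomorphisms u_c : 𝔾_a ⟶ G for all roots c, system of simple roots Δ) such that for every simple
root a the root homomorphisms of a and -a are dual to each other: u_a(x) u_{-a}(y) =
u_{-a}(y/(1+xy)) · a^∨(1+xy) · u_a(x/(1+xy)) whenever 1 + xy is invertible, where a^∨ : 𝔾_m ⟶ T is
the coroot of a read through the splitting. For a root a put w_a = u_a(1) u_{-a}(-1) u_a(1) (an
S-point of G). Let a ≠ b be simple roots with ⟨b, a^∨⟩ = -3 and ⟨a, b^∨⟩ = -1 (type G₂, a the short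
root); put u_{a+b}(x) = w_b u_a(x) w_b⁻¹, u_{2a+b}(x) = (w_a w_b) u_a(x) (w_a w_b)⁻¹, u_{3a+b}(x) =
w_a u_b(-x) w_a⁻¹ and u_{3a+2b}(x) = (w_b w_a) u_b(-x) (w_b w_a)⁻¹. Then for all points x, y of 𝔾_a:
u_b(y) u_a(x) = u_a(x) u_b(y) u_{a+b}(xy) u_{2a+b}(x²y) u_{3a+b}(x³y) u_{3a+2b}(x³y²); u_{a+b}(y)
u_a(x) = u_a(x) u_{a+b}(y) u_{2a+b}(2xy) u_{3a+b}(3x²y) u_{3a+2b}(3xy²); u_{2a+b}(y) u_a(x) = u_a(x)
u_{2a+b}(y) u_{3a+b}(3xy); u_{3a+b}(y) u_b(x) = u_b(x) u_{3a+b}(y) u_{3a+2b}(-xy); u_{2a+b}(y)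
u_{a+b}(x) = u_{a+b}(x) u_{2a+b}(y) u_{3a+2b}(3xy). (The published statement is for a pinned group
whose simple roots are exactly a and b; this row states it for two simple roots a ≠ b of any pinned
group.) -/
theorem result (S : Scheme.{u}) (e₁ : 𝟙_ (Over S) ⟶ Red.Ga S) (he₁ : Red.gaFn e₁ = 1)
    (G : Over S) [GrpObj G] (D : Red.Pinning G)
    (avc : D.idx → (Red.Gm S ⟶ D.T))
    (havc : ∀ a, avc a = Red.DSmap S (D.P.coroot a).toAddMonoidHom ≫ D.split.inv.hom.hom)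
    (hpair : ∀ a ∈ D.base.support, ∀ (X : Over S) (x y : X ⟶ Red.Ga S), IsUnit (1 + Red.gaFn x * Red.gaFn y) →
        ∃ (x' y' : X ⟶ Red.Ga S) (z : X ⟶ Red.Gm S), Red.gmFn z = 1 + Red.gaFn x * Red.gaFn y ∧
          Red.gaFn x' * Red.gmFn z = Red.gaFn x ∧ Red.gaFn y' * Red.gmFn z = Red.gaFn y ∧
          (x ≫ D.u a) * (y ≫ D.u (D.P.reflectionPerm a a)) = (y' ≫ D.u (D.P.reflectionPerm a a)) * (z ≫ avc a ≫ D.i) * (x' ≫ D.u a))
    (w : D.idx → (𝟙_ (Over S) ⟶ G))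
    (hw : ∀ a, w a = (e₁ ≫ D.u a) * (e₁ ≫ D.u (D.P.reflectionPerm a a))⁻¹ * (e₁ ≫ D.u a))
    (a b : D.idx) (ha : a ∈ D.base.support) (hb : b ∈ D.base.support) (hne : a ≠ b)
    (hba : D.P.pairing b a = -3) (hab : D.P.pairing a b = -1)
    (u11 : ∀ X : Over S, (X ⟶ Red.Ga S) → (X ⟶ G))
    (hu11 : ∀ (X : Over S) (x : X ⟶ Red.Ga S), u11 X x = (toUnit X ≫ w b) * (x ≫ D.u a) * (toUnit X ≫ w b)⁻¹)
    (u21 : ∀ X : Over S, (X ⟶ Red.Ga S) → (X ⟶ G))
    (hu21 : ∀ (X : Over S) (x : X ⟶ Red.Ga S), u21 X x = (toUnit X ≫ (w a * w b)) * (x ≫ D.u a) * (toUnit X ≫ (w a * w b))⁻¹)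
    (u31 : ∀ X : Over S, (X ⟶ Red.Ga S) → (X ⟶ G))
    (hu31 : ∀ (X : Over S) (x : X ⟶ Red.Ga S), u31 X x = (toUnit X ≫ w a) * (x ≫ D.u b)⁻¹ * (toUnit X ≫ w a)⁻¹)
    (u32 : ∀ X : Over S, (X ⟶ Red.Ga S) → (X ⟶ G))
    (hu32 : ∀ (X : Over S) (x : X ⟶ Red.Ga S), u32 X x = (toUnit X ≫ (w b * w a)) * (x ≫ D.u b)⁻¹ * (toUnit X ≫ (w b * w a))⁻¹)
    (X : Over S) (x y c11 c21 c31 c32 d21 d31 d32 f31 g32 k32 : X ⟶ Red.Ga S)
    (h11 : Red.gaFn c11 = Red.gaFn x * Red.gaFn y) (h21 : Red.gaFn c21 = Red.gaFn x ^ 2 * Red.gaFn y)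
    (h31 : Red.gaFn c31 = Red.gaFn x ^ 3 * Red.gaFn y) (h32 : Red.gaFn c32 = Red.gaFn x ^ 3 * Red.gaFn y ^ 2)
    (hd21 : Red.gaFn d21 = 2 * Red.gaFn x * Red.gaFn y) (hd31 : Red.gaFn d31 = 3 * Red.gaFn x ^ 2 * Red.gaFn y)
    (hd32 : Red.gaFn d32 = 3 * Red.gaFn x * Red.gaFn y ^ 2) (hf31 : Red.gaFn f31 = 3 * Red.gaFn x * Red.gaFn y)
    (hg32 : Red.gaFn g32 = - (Red.gaFn x * Red.gaFn y)) (hk32 : Red.gaFn k32 = 3 * Red.gaFn x * Red.gaFn y) :
    (y ≫ D.u b) * (x ≫ D.u a) = (x ≫ D.u a) * (y ≫ D.u b) * u11 X c11 * u21 X c21 * u31 X c31 * u32 X c32 ∧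
      u11 X y * (x ≫ D.u a) = (x ≫ D.u a) * u11 X y * u21 X d21 * u31 X d31 * u32 X d32 ∧
      u21 X y * (x ≫ D.u a) = (x ≫ D.u a) * u21 X y * u31 X f31 ∧
      u31 X y * (x ≫ D.u b) = (x ≫ D.u b) * u31 X y * u32 X g32 ∧
      u21 X y * u11 X x = u11 X x * u21 X y * u32 X k32 := by
  haveI := Groth.Agent.H82.R2.crys D.toSplitRed
  haveI := Groth.Agent.H82.R2.reduced_of_base D.base
  have hp : Pair D.toSplitRed a b 3 := pair_of_base D.base ha hb (Or.inr (Or.inr rfl)) hba hab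
  have hda : H82.Weyl.Dual D.toSplitRed a := fun X x y hu => by simpa only [← havc a] using hpair a ha X x y hu
  have hdb : H82.Weyl.Dual D.toSplitRed b := fun X x y hu => by simpa only [← havc b] using hpair b hb X x y hu
  have hwa : ∀ X : Over S, toUnit X ≫ w a = el D.toSplitRed a (-1) X := fun X => by rw [hw]; exact toUnit_comp_w e₁ he₁ X
  have hwb : ∀ X : Over S, toUnit X ≫ w b = el D.toSplitRed b (-1) X := fun X => by rw [hw]; exact toUnit_comp_w e₁ he₁ X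
  have hneg : ∀ {X : Over S} (c : D.idx) (v : Γ(X.left, ⊤)), (P (D.u c) v)⁻¹ = P (D.u c) (-v) := fun c v => (P_neg _ v).symm
  obtain ⟨c, hc'⟩ := hp.exists_root (i := 1) (j := 1) (by decide)
  obtain ⟨d, hd'⟩ := hp.exists_root (i := 2) (j := 1) (by decide)
  obtain ⟨e, he'⟩ := hp.exists_root (i := 3) (j := 1) (by decide)
  obtain ⟨f, hf'⟩ := hp.exists_root (i := 3) (j := 2) (by decide)
  have h : G2.Ix D.toSplitRed a b c d e f := ⟨hp, hc', hd', he', hf'⟩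
  obtain ⟨C, hr⟩ := G2.exists_rel h
  have mA := G2.el_conj_b h hr (flip_el hda) (hp.co_inj (hp.co_refl_a co_right) h.he ▸ maps_el hda b)
    (hp.co_inj (hp.co_refl_a h.hc) h.hd ▸ maps_el hda c) (hp.co_inj (hp.co_refl_a h.hd) h.hc ▸ maps_el hda d)
    (hp.co_inj (hp.co_refl_a h.he) co_right ▸ maps_el hda e)
  have mB := G2.el_conj_a h hr (flip_el hdb) (hp.co_inj (hp.co_refl_b co_left) h.hc ▸ maps_el hdb a)
    (hp.co_inj (hp.co_refl_b h.hc) co_left ▸ maps_el hdb c) (hp.co_inj (hp.co_refl_b h.he) h.hf ▸ maps_el hdb e)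
    (hp.co_inj (hp.co_refl_b h.hf) h.he ▸ maps_el hdb f)
  have v11 : ∀ Y y, u11 Y y = P (D.u c) (res Y C.t * Red.gaFn y) := fun Y y => by
    rw [hu11, hwb, P_eq, mul_inv_eq_iff_eq_mul, (mB Y _).1]
  have v21 : ∀ Y y, u21 Y y = P (D.u d) (res Y C.s * Red.gaFn y) := fun Y y => by
    rw [hu21, MonObj.comp_mul, hwa, hwb, P_eq, mul_inv_eq_iff_eq_mul, _root_.mul_assoc, (mB Y _).1,
      ← _root_.mul_assoc, (mA Y _).2.1, _root_.mul_assoc]
  have v31 : ∀ Y y, u31 Y y = P (D.u e) (res Y C.r * Red.gaFn y) := fun Y y => by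
    rw [hu31, hwa, P_eq, hneg, mul_inv_eq_iff_eq_mul, (mA Y _).1, mul_neg, neg_neg]
  have v32 : ∀ Y y, u32 Y y = P (D.u f) (res Y C.q * Red.gaFn y) := fun Y y => by
    rw [hu32, MonObj.comp_mul, hwb, hwa, P_eq, hneg, mul_inv_eq_iff_eq_mul, _root_.mul_assoc, (mA Y _).1,
      mul_neg, neg_neg, ← _root_.mul_assoc, (mB Y _).2.2.2.1, _root_.mul_assoc]
  obtain ⟨r1, r2, r3, r4, r5, r6⟩ := G2.relations h hr
  have rr : ∀ A B : Γ(S, ⊤), res X (A * B) = res X A * res X B := fun A B => map_mul _ A B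
  have n2 : res X (2 : Γ(S, ⊤)) = 2 := map_ofNat _ 2
  have n3 : res X (3 : Γ(S, ⊤)) = 3 := map_ofNat _ 3
  replace r1 := congrArg (res X) r1
  replace r2 := congrArg (res X) r2
  replace r3 := congrArg (res X) r3
  replace r4 := congrArg (res X) r4
  replace r5 := congrArg (res X) r5
  replace r6 := congrArg (res X) r6
  simp only [rr, n2, n3, res_neg] at r1 r2 r3 r4 r5 r6
  simp only [v11, v21, v31, v32, P_eq, h11, h21, h31, h32, hd21, hd31, hd32, hf31, hg32, hk32]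
  refine ⟨?_, ?_, ?_, ?_, ?_⟩
  · rw [← _root_.mul_one (P (D.u b) (Red.gaFn y) * P (D.u a) (Red.gaFn x)), _root_.mul_assoc, hr.ba]
    simp only [_root_.mul_one, _root_.mul_assoc]
  · rw [← _root_.mul_one (P (D.u c) _ * P (D.u a) (Red.gaFn x)), _root_.mul_assoc, hr.ca,
      show res X C.k₂ * (Red.gaFn x * (res X C.t * Red.gaFn y)) = res X C.s * (2 * Red.gaFn x * Red.gaFn y) by
        linear_combination Red.gaFn x * Red.gaFn y * r1,
      show res X C.k₃ * (Red.gaFn x ^ 2 * (res X C.t * Red.gaFn y)) = res X C.r * (3 * Red.gaFn x ^ 2 * Red.gaFn y) by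
        linear_combination Red.gaFn x ^ 2 * Red.gaFn y * r2,
      show res X C.k₄ * (Red.gaFn x * (res X C.t * Red.gaFn y) ^ 2) = res X C.q * (3 * Red.gaFn x * Red.gaFn y ^ 2) by
        linear_combination Red.gaFn x * Red.gaFn y ^ 2 * r5]
    simp only [_root_.mul_one, _root_.mul_assoc]
  · rw [← _root_.mul_one (P (D.u d) _ * P (D.u a) (Red.gaFn x)), _root_.mul_assoc, hr.da,
      show res X C.l * (Red.gaFn x * (res X C.s * Red.gaFn y)) = res X C.r * (3 * Red.gaFn x * Red.gaFn y) by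
        linear_combination Red.gaFn x * Red.gaFn y * r3]
    simp only [_root_.mul_one, _root_.mul_assoc]
  · rw [← _root_.mul_one (P (D.u e) _ * P (D.u b) (Red.gaFn x)), _root_.mul_assoc, hr.eb,
      show res X C.g * (Red.gaFn x * (res X C.r * Red.gaFn y)) = res X C.q * -(Red.gaFn x * Red.gaFn y) by
        linear_combination Red.gaFn x * Red.gaFn y * r6]
    simp only [_root_.mul_one, _root_.mul_assoc]
  · rw [← _root_.mul_one (P (D.u d) _ * P (D.u c) (res X C.t * Red.gaFn x)), _root_.mul_assoc, hr.dc,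
      show res X C.k * (res X C.t * Red.gaFn x * (res X C.s * Red.gaFn y)) = res X C.q * (3 * Red.gaFn x * Red.gaFn y) by
        linear_combination Red.gaFn x * Red.gaFn y * r4]
    simp only [_root_.mul_one, _root_.mul_assoc]

end Groth.Agent.S8465
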