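import Groth.Statements.S8466
import Groth.Agent.H82.Coxeter.NormalizerHom
-- import your own Groth.Agent.* helpers here

set_option autoImplicit false
universe u
open CategoryTheory MonoidalCategory CartesianMonoidalCategory MonObj GrpObj AlgebraicGeometry CategoryTheory.Limits
open Red

namespace Groth.Agent.S8466

/-- Let G be a pinned reductive S-group: a splitting D (maximal torus T ≅ D_S(M), root datum with root
homomorphisms u_c : 𝔾_a ⟶ G for all roots c, system of simple roots Δ) such that for every simple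
root a the root homomorphisms of a and -a are dual to each other: u_a(x) u_{-a}(y) =
u_{-a}(y/(1+xy)) · a^∨(1+xy) · u_a(x/(1+xy)) whenever 1 + xy is invertible, where a^∨ : 𝔾_m ⟶ T is
the coroot of a read through the splitting. For a root a put w_a = u_a(1) u_{-a}(-1) u_a(1) (an
S-point of G). Let j : N ⟶ G be the normaliser of T (with T ⟶ N the inclusion), H an S-group scheme,
f_T : T ⟶ H a homomorphism and h_a (a a simple root) S-points of H. For simple roots a, b let n_{ab}
be the order of s_a s_b (as an automorphism of M) and t_{ab} = (w_a w_b)^{n_{ab}}, an S-point of T.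
Then there is exactly one homomorphism f_N : N ⟶ H inducing f_T on T and with f_N(w_a) = h_a for
every simple root a if and only if (i) f_T(t · a^∨(a(t))⁻¹) = h_a f_T(t) h_a⁻¹ for all simple a and
all points t of T, and (ii) f_T(t_{ab}) = (h_a h_b)^{n_{ab}} for all simple a, b. (The published
statement allows H to be any group functor turning disjoint unions into products.) -/
theorem result (S : Scheme.{u}) (e₁ : 𝟙_ (Over S) ⟶ Red.Ga S) (he₁ : Red.gaFn e₁ = 1)
    (G : Over S) [GrpObj G] (D : Red.Pinning G)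
    (avc : D.idx → (Red.Gm S ⟶ D.T))
    (havc : ∀ a, avc a = Red.DSmap S (D.P.coroot a).toAddMonoidHom ≫ D.split.inv.hom.hom)
    (hpair : ∀ a ∈ D.base.support, ∀ (X : Over S) (x y : X ⟶ Red.Ga S), IsUnit (1 + Red.gaFn x * Red.gaFn y) →
        ∃ (x' y' : X ⟶ Red.Ga S) (z : X ⟶ Red.Gm S), Red.gmFn z = 1 + Red.gaFn x * Red.gaFn y ∧
          Red.gaFn x' * Red.gmFn z = Red.gaFn x ∧ Red.gaFn y' * Red.gmFn z = Red.gaFn y ∧
          (x ≫ D.u a) * (y ≫ D.u (D.P.reflectionPerm a a)) = (y' ≫ D.u (D.P.reflectionPerm a a)) * (z ≫ avc a ≫ D.i) * (x' ≫ D.u a))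
    (w : D.idx → (𝟙_ (Over S) ⟶ G))
    (hw : ∀ a, w a = (e₁ ≫ D.u a) * (e₁ ≫ D.u (D.P.reflectionPerm a a))⁻¹ * (e₁ ≫ D.u a))
    (N : Over S) [GrpObj N] (j : N ⟶ G) (hN : Red.IsNormalizerOf D.i j) (tN : D.T ⟶ N) [IsMonHom tN] (htN : tN ≫ j = D.i)
    (H : Over S) [GrpObj H] (fT : D.T ⟶ H) [IsMonHom fT] (h : D.idx → (𝟙_ (Over S) ⟶ H)) :
    (∃! fN : N ⟶ H, IsMonHom fN ∧ tN ≫ fN = fT ∧
        ∀ a ∈ D.base.support, ∀ n : 𝟙_ (Over S) ⟶ N, n ≫ j = w a → n ≫ fN = h a) ↔
      ((∀ a ∈ D.base.support, ∀ (X : Over S) (t : X ⟶ D.T),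
          (t * (t ≫ (D.split.hom.hom.hom ≫ Red.chi S (D.P.root a)) ≫ avc a)⁻¹) ≫ fT = (toUnit X ≫ h a) * (t ≫ fT) * (toUnit X ≫ h a)⁻¹) ∧
        ∀ a ∈ D.base.support, ∀ b ∈ D.base.support, ∀ t : 𝟙_ (Over S) ⟶ D.T,
          t ≫ D.i = (w a * w b) ^ orderOf (D.P.reflection a * D.P.reflection b) →
            t ≫ fT = (h a * h b) ^ orderOf (D.P.reflection a * D.P.reflection b)) := by
  open Groth.Agent.H82 in
  haveI := R2.crys D.toSplitRed
  have hd : ∀ a ∈ D.base.support, Weyl.Dual D.toSplitRed a :=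
    fun a ha X x y hu => by simpa only [← havc a] using hpair a ha X x y hu
  have hwe : ∀ (a : D.idx) (X : Over S), toUnit X ≫ w a = R2.el D.toSplitRed a (-1) X := fun a X => by
    rw [hw a]
    exact R2.toUnit_comp_w (D := D.toSplitRed) (a := a) e₁ he₁ X
  have hrep : ∀ a ∈ D.base.support, Weyl.ActsBy (Weyl.wmap D.toSplitRed [a]) (w a) := fun a ha => by
    have := R2.rep_el (hd a ha) (𝟙_ (Over S))
    rw [Bruhat.Rep, List.reverse_singleton, ← hwe, toUnit_unique (toUnit (𝟙_ (Over S))) (𝟙 _),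
      Category.id_comp] at this
    exact this
  have hact : ∀ (a : D.idx) (X : Over S) (t : X ⟶ D.T),
      Weyl.act D.toSplitRed (Weyl.wmap D.toSplitRed [a]) t =
        t * (t ≫ (D.split.hom.hom.hom ≫ Red.chi S (D.P.root a)) ≫ avc a)⁻¹ := fun a X t => by
    rw [havc a]
    exact Coxeter.act_refl a t
  haveI := hN.1
  haveI := hN.2.1
  constructor
  · rintro ⟨fN, ⟨hm, hT, hh⟩, -⟩
    haveI := hm
    have hpt : ∀ a ∈ D.base.support, ∃ n : 𝟙_ (Over S) ⟶ N, n ≫ j = w a ∧ n ≫ fN = h a := fun a ha => by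
      obtain ⟨n, hn⟩ := Coxeter.exists_gen_point hN (hrep a ha)
      exact ⟨n, hn, hh a ha n hn⟩
    refine ⟨fun a ha X t => ?_, fun a ha b hb t ht => ?_⟩
    · obtain ⟨n, hn, hn'⟩ := hpt a ha
      have e : (toUnit X ≫ n) * (t ≫ tN) * (toUnit X ≫ n)⁻¹ =
          Weyl.act D.toSplitRed (Weyl.wmap D.toSplitRed [a]) t ≫ tN := by
        refine (cancel_mono j).1 ?_
        rw [MonObj.mul_comp, MonObj.mul_comp, GrpObj.inv_comp]
        simp only [Category.assoc, htN, hn]
        exact hrep a ha X (toUnit X) t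
      have e2 := congrArg (· ≫ fN) e
      rw [MonObj.mul_comp, MonObj.mul_comp, GrpObj.inv_comp] at e2
      simp only [Category.assoc, hT, hn', hact] at e2
      simp only [Category.assoc]
      exact e2.symm
    · obtain ⟨n, hn, hn'⟩ := hpt a ha
      obtain ⟨m, hm', hm''⟩ := hpt b hb
      have e : t ≫ tN = (n * m) ^ orderOf (D.P.reflection a * D.P.reflection b) := by
        refine (cancel_mono j).1 ?_
        rw [MonObj.pow_comp, MonObj.mul_comp, hn, hm', Category.assoc, htN, ht]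
      have e2 := congrArg (· ≫ fN) e
      rw [MonObj.pow_comp, MonObj.mul_comp, hn', hm'', Category.assoc, hT] at e2
      exact e2
  · rintro ⟨h1, h2⟩
    exact Coxeter.existsUnique_hom
      ({ w := w, rep := hrep, fT := fT, monT := inferInstance, h := h,
         conj := fun a ha X t => by rw [hact]; exact h1 a ha X t, rel := h2 } : Coxeter.NData D.base H) tN hN htN

end Groth.Agent.S8466
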