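import Groth.Statements.S8469
import Groth.Agent.H82.Roots.FibreSplit
import Groth.Agent.S2963
import Groth.Agent.S8406
import Groth.Agent.S3005

set_option autoImplicit false
universe u
open CategoryTheory MonoidalCategory CartesianMonoidalCategory MonObj GrpObj AlgebraicGeometry CategoryTheory.Limits
open Red

namespace Groth.Agent.S8469

/-- Let G and G' be reductive S-groups each admitting a splitting, and let s be a point of S such that
the geometric fibres G_{s̄} and G'_{s̄} have the same type: both are split of type Q for one root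
datum Q. Then G and G' are isomorphic as S-group schemes. -/
theorem result (S : Scheme.{u}) (G G' : Over S) [GrpObj G] [GrpObj G']
    (D : Red.SplitRed G) (D' : Red.SplitRed G') (s : S)
    {ι' M' N' : Type} [AddCommGroup M'] [Module ℤ M'] [AddCommGroup N'] [Module ℤ N'] (Q : RootPairing ι' ℤ M' N')
    (hs : Red.IsSplitOfType Q (Red.geomFibre s G)) (hs' : Red.IsSplitOfType Q (Red.geomFibre s G')) :
    Nonempty (Grp.mk G ≅ Grp.mk G') := by
  obtain ⟨Ds, ⟨eQ⟩⟩ := hs
  obtain ⟨Ds', ⟨eQ'⟩⟩ := hs'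
  obtain ⟨D₁, ⟨e₁⟩⟩ := H82.Roots.exists_geomSplit D s
  obtain ⟨D₁', ⟨e₁'⟩⟩ := H82.Roots.exists_geomSplit D' s
  have key : ∀ (H : Over (Spec (CommRingCat.of (AlgebraicClosure (S.residueField s))))) [GrpObj H]
      (E E' : Red.SplitRed H), Nonempty (RootPairing.Equiv E.P E'.P) := fun H _ E E' => by
    obtain ⟨h1, h2, h3⟩ := H1.Classical.CentralTorusRed.reductive_props E.reductive
    haveI := h1
    haveI := h2
    haveI := h3
    haveI := E.reductive.1
    refine S2963.result _ H E.reductive (fun T T' _ _ i i' hi hi' => ?_) E E'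
    obtain ⟨g, φ, hφ⟩ := S8406.result _ H T T' i i' hi hi'
    refine ⟨g, fun X t => ⟨t ≫ φ.hom, ?_⟩⟩
    rw [Category.assoc, ← hφ, MonObj.comp_mul, MonObj.comp_mul, GrpObj.comp_inv, comp_toUnit_assoc]
  obtain ⟨k⟩ := key _ D₁ Ds
  obtain ⟨k'⟩ := key _ D₁' Ds'
  let toQ : RootPairing.Equiv D.P Q :=
    eQ.comp (k.comp (RootPairing.Equiv.symm D₁.P D.P e₁))
  let toQ' : RootPairing.Equiv D'.P Q :=
    eQ'.comp (k'.comp (RootPairing.Equiv.symm D₁'.P D'.P e₁'))
  exact S3005.result S Q G G' ⟨D, ⟨toQ⟩⟩ ⟨D', ⟨toQ'⟩⟩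

end Groth.Agent.S8469
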