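import Groth.Statements.S8471
import Mathlib.Tactic.LinearCombination
import Mathlib.FieldTheory.IsAlgClosed.AlgebraicClosure
import Mathlib.Tactic.FinCases

set_option autoImplicit false
open Red

namespace Groth.Agent.S8471

open Polynomial

variable {k : Type} [Field k]

/-- `k[x,y] → K[Y]`, `K = k̄(x)`. -/
noncomputable def ψ : MvPolynomial (Fin 2) k →+* (RatFunc (AlgebraicClosure k))[X] :=
  MvPolynomial.eval₂Hom
    ((C : RatFunc (AlgebraicClosure k) →+* _).comp
      (RatFunc.C.comp (algebraMap k (AlgebraicClosure k))))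
    ![C RatFunc.X, X]

theorem ψ_injective : Function.Injective (ψ (k := k)) := by
  let A := AlgebraicClosure k
  have hφ : Function.Injective
      (MvPolynomial.eval₂Hom ((C : A[X] →+* A[X][X]).comp (C.comp (algebraMap k A))) ![C X, X]) := by
    have : (MvPolynomial.eval₂Hom ((C : A[X] →+* A[X][X]).comp (C.comp (algebraMap k A))) ![C X, X]) =
        ((mapRingHom (mapRingHom (algebraMap k A))).comp
          (MvPolynomial.eval₂Hom ((C : k[X] →+* k[X][X]).comp C) ![C X, X])) := by
      ext i
      · simp
      · fin_cases i <;> simp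
    rw [this]
    refine (Polynomial.map_injective _ (Polynomial.map_injective _ (algebraMap k A).injective)).comp ?_
    refine Function.LeftInverse.injective (g := eval₂RingHom
      (eval₂RingHom (MvPolynomial.C : k →+* MvPolynomial (Fin 2) k) (MvPolynomial.X 0)) (MvPolynomial.X 1)) ?_
    intro q
    induction q using MvPolynomial.induction_on with
    | C a => simp
    | add a b ha hb => simp only [map_add, ha, hb]
    | mul_X a i ha =>
      rw [map_mul, map_mul, ha]
      fin_cases i <;> simp
  have : (ψ (k := k)) = (mapRingHom (algebraMap A[X] (RatFunc A))).comp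
      (MvPolynomial.eval₂Hom ((C : A[X] →+* A[X][X]).comp (C.comp (algebraMap k A))) ![C X, X]) := by
    ext i
    · simp [ψ, A]
    · fin_cases i <;> simp [ψ, A]
  rw [this]
  exact (Polynomial.map_injective _ (RatFunc.algebraMap_injective A)).comp hφ

/-- The key polynomial identity, over abstract fields. -/
theorem cross_aux {K L : Type} [Field K] [Field L] (ι : K[X] →+* L) (hι : Function.Injective ι)
    (f : k →+* K) (x : K) (hne : ∀ q : k[X], q ≠ 0 → q.eval₂ f x ≠ 0)
    (Ψ : FractionRing (MvPolynomial (Fin 2) k) →+* L)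
    (hΨ0 : Ψ (algebraMap (MvPolynomial (Fin 2) k) _ (MvPolynomial.X 0)) = ι (C x))
    (hΨ1 : Ψ (algebraMap (MvPolynomial (Fin 2) k) _ (MvPolynomial.X 1)) = ι X)
    (hΨk : Ψ.comp (algebraMap k (FractionRing (MvPolynomial (Fin 2) k))) = ι.comp (C.comp f))
    (F : RatFunc k) (h0 : F.denom.eval 0 ≠ 0) (h1 : F.num.eval 0 = F.denom.eval 0)
    (hFE : RatFunc.eval (algebraMap k (FractionRing (MvPolynomial (Fin 2) k)))
        (algebraMap (MvPolynomial (Fin 2) k) (FractionRing (MvPolynomial (Fin 2) k)) (MvPolynomial.X 0) +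
          algebraMap (MvPolynomial (Fin 2) k) (FractionRing (MvPolynomial (Fin 2) k)) (MvPolynomial.X 1) *
            RatFunc.eval (algebraMap k (FractionRing (MvPolynomial (Fin 2) k)))
              (algebraMap (MvPolynomial (Fin 2) k) (FractionRing (MvPolynomial (Fin 2) k)) (MvPolynomial.X 0)) F) F =
      RatFunc.eval (algebraMap k (FractionRing (MvPolynomial (Fin 2) k)))
          (algebraMap (MvPolynomial (Fin 2) k) (FractionRing (MvPolynomial (Fin 2) k)) (MvPolynomial.X 0)) F *
        RatFunc.eval (algebraMap k (FractionRing (MvPolynomial (Fin 2) k)))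
          (algebraMap (MvPolynomial (Fin 2) k) (FractionRing (MvPolynomial (Fin 2) k)) (MvPolynomial.X 1)) F) :
    let w : K := F.num.eval₂ f x / F.denom.eval₂ f x
    w ≠ 0 ∧ F.num.eval₂ (C.comp f) (C x + C w * X) * F.denom.map f =
      F.denom.eval₂ (C.comp f) (C x + C w * X) * (C w * F.num.map f) := by
  intro w
  have h := congrArg Ψ hFE
  simp only [RatFunc.eval, map_mul, map_div₀, Polynomial.hom_eval₂, hΨk, map_add, hΨ0, hΨ1] at h
  simp only [← Polynomial.hom_eval₂] at h
  have hX : ∀ q : k[X], q.eval₂ (C.comp f) X = q.map f := fun q => rfl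
  have hC : ∀ a b : K, b ≠ 0 → ι (C a) / ι (C b) = ι (C (a / b)) := fun a b hb => by
    rw [div_eq_iff ((map_ne_zero_iff _ hι).2 (C_ne_zero.2 hb)),
      ← map_mul, ← map_mul, div_mul_cancel₀ _ hb]
  rw [hX, hX, hC _ _ (hne _ F.denom_ne_zero), ← map_mul ι, ← map_add ι,
    ← Polynomial.hom_eval₂, ← Polynomial.hom_eval₂] at h
  have hP : F.num ≠ 0 := fun hz => h0 (by rw [← h1, hz, eval_zero])
  have hw : w ≠ 0 := div_ne_zero (hne _ hP) (hne _ F.denom_ne_zero)
  refine ⟨hw, ?_⟩
  have hQY : F.denom.map f ≠ 0 := Polynomial.map_ne_zero F.denom_ne_zero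
  have hPY : F.num.map f ≠ 0 := Polynomial.map_ne_zero hP
  rw [mul_comm X] at h
  change _ = ι (C w) * _ at h
  have hι : ∀ z, z ≠ 0 → ι z ≠ 0 := fun z hz => (map_ne_zero_iff _ hι).2 hz
  have hQs : F.denom.eval₂ (C.comp f) (C x + C w * X) ≠ 0 := by
    intro hz
    change ι _ / ι (F.denom.eval₂ _ (C x + C w * X)) = _ at h
    rw [hz, map_zero, div_zero] at h
    exact (mul_ne_zero (hι _ (C_ne_zero.2 hw)) (div_ne_zero (hι _ hPY) (hι _ hQY))) h.symm
  rw [← mul_div_assoc, div_eq_div_iff (hι _ hQs) (hι _ hQY), ← map_mul, ← map_mul, ← map_mul] at h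
  rw [‹Function.Injective ι› h]
  ring

theorem cross (F : RatFunc k) (h0 : F.denom.eval 0 ≠ 0) (h1 : F.num.eval 0 = F.denom.eval 0)
    (hFE : RatFunc.eval (algebraMap k (FractionRing (MvPolynomial (Fin 2) k)))
        (algebraMap (MvPolynomial (Fin 2) k) (FractionRing (MvPolynomial (Fin 2) k)) (MvPolynomial.X 0) +
          algebraMap (MvPolynomial (Fin 2) k) (FractionRing (MvPolynomial (Fin 2) k)) (MvPolynomial.X 1) *
            RatFunc.eval (algebraMap k (FractionRing (MvPolynomial (Fin 2) k)))
              (algebraMap (MvPolynomial (Fin 2) k) (FractionRing (MvPolynomial (Fin 2) k)) (MvPolynomial.X 0)) F) F =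
      RatFunc.eval (algebraMap k (FractionRing (MvPolynomial (Fin 2) k)))
          (algebraMap (MvPolynomial (Fin 2) k) (FractionRing (MvPolynomial (Fin 2) k)) (MvPolynomial.X 0)) F *
        RatFunc.eval (algebraMap k (FractionRing (MvPolynomial (Fin 2) k)))
          (algebraMap (MvPolynomial (Fin 2) k) (FractionRing (MvPolynomial (Fin 2) k)) (MvPolynomial.X 1)) F) :
    let A := AlgebraicClosure k
    let f : k →+* RatFunc A := RatFunc.C.comp (algebraMap k A)
    let w : RatFunc A := F.num.eval₂ f RatFunc.X / F.denom.eval₂ f RatFunc.X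
    w ≠ 0 ∧ F.num.eval₂ (C.comp f) (C RatFunc.X + C w * X) * F.denom.map f =
      F.denom.eval₂ (C.comp f) (C RatFunc.X + C w * X) * (C w * F.num.map f) := by
  intro A f w
  let ι := algebraMap (RatFunc A)[X] (FractionRing (RatFunc A)[X])
  have hι : Function.Injective ι := IsFractionRing.injective _ _
  let Ψ : FractionRing (MvPolynomial (Fin 2) k) →+* FractionRing (RatFunc A)[X] :=
    IsFractionRing.lift (K := FractionRing (MvPolynomial (Fin 2) k))
      (g := ι.comp ψ) (hι.comp ψ_injective)
  have hΨ : ∀ q, Ψ (algebraMap (MvPolynomial (Fin 2) k) _ q) = ι (ψ q) := fun q => by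
    simp only [Ψ, IsFractionRing.lift_algebraMap]; rfl
  refine cross_aux ι hι f RatFunc.X ?_ Ψ (by rw [hΨ]; simp [ψ]) (by rw [hΨ]; simp [ψ]) ?_
    F h0 h1 hFE
  · intro q hq
    have e : q.eval₂ f RatFunc.X = algebraMap A[X] (RatFunc A) (q.map (algebraMap k A)) := by
      rw [← coe_mapRingHom, ← RingHom.comp_apply]
      conv_rhs => rw [← eval₂_C_X (p := q), hom_eval₂]
      congr 1
      · ext a; simp [f]
      · simp
    rw [e]
    exact (map_ne_zero_iff _ (RatFunc.algebraMap_injective A)).2 (Polynomial.map_ne_zero hq)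
  · ext a
    rw [RingHom.comp_apply, IsScalarTower.algebraMap_apply k (MvPolynomial (Fin 2) k)
      (FractionRing (MvPolynomial (Fin 2) k)), hΨ]
    simp [ψ, f, A, ι]

end Groth.Agent.S8471

namespace Groth.Agent.S8471

/-- Let k be a field and F ∈ k(X) a rational function whose denominator does not vanish at 0 and with
F(0) = 1. Suppose that in the field of fractions L of k[X₀, X₁] one has F(X₀ + X₁ · F(X₀)) = F(X₀) ·
F(X₁) (the functional equation F(x + y F(x)) = F(x) F(y)). Then there is a ∈ k with F = 1 + a X.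
(The published statement takes the identity on an open neighbourhood of the origin of 𝔾_a × 𝔾_a on
which all terms are defined; this row takes it as an identity of rational functions in two
variables.) -/
theorem result (k : Type) [Field k] (F : RatFunc k)
    (h0 : F.denom.eval 0 ≠ 0) (h1 : F.num.eval 0 = F.denom.eval 0)
    (hFE : RatFunc.eval (algebraMap k (FractionRing (MvPolynomial (Fin 2) k)))
        (algebraMap (MvPolynomial (Fin 2) k) (FractionRing (MvPolynomial (Fin 2) k)) (MvPolynomial.X 0) +
          algebraMap (MvPolynomial (Fin 2) k) (FractionRing (MvPolynomial (Fin 2) k)) (MvPolynomial.X 1) *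
            RatFunc.eval (algebraMap k (FractionRing (MvPolynomial (Fin 2) k)))
              (algebraMap (MvPolynomial (Fin 2) k) (FractionRing (MvPolynomial (Fin 2) k)) (MvPolynomial.X 0)) F) F =
      RatFunc.eval (algebraMap k (FractionRing (MvPolynomial (Fin 2) k)))
          (algebraMap (MvPolynomial (Fin 2) k) (FractionRing (MvPolynomial (Fin 2) k)) (MvPolynomial.X 0)) F *
        RatFunc.eval (algebraMap k (FractionRing (MvPolynomial (Fin 2) k)))
          (algebraMap (MvPolynomial (Fin 2) k) (FractionRing (MvPolynomial (Fin 2) k)) (MvPolynomial.X 1)) F) :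
    ∃ a : k, F = 1 + RatFunc.C a * RatFunc.X := by
  obtain ⟨hw, hcr⟩ := cross F h0 h1 hFE
  suffices hQ : F.denom = 1 ∧ F.num.natDegree ≤ 1 by
    refine ⟨F.num.coeff 1, ?_⟩
    have e := Polynomial.eq_X_add_C_of_natDegree_le_one hQ.2
    have e0 : F.num.coeff 0 = 1 := by
      rw [Polynomial.coeff_zero_eq_eval_zero, h1, hQ.1, Polynomial.eval_one]
    conv_lhs => rw [← F.num_div_denom, hQ.1, map_one, div_one, e]
    simp [e0, RatFunc.algebraMap_C]
    ring
  let A := AlgebraicClosure k
  let f : k →+* RatFunc A := RatFunc.C.comp (algebraMap k A)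
  by_cases hr : ∃ β : A, (F.num.map (algebraMap k A)).eval β = 0 ∨
      (F.denom.map (algebraMap k A)).eval β = 0
  · obtain ⟨β, hβ⟩ := hr
    have hb0 : β ≠ 0 := by
      rintro rfl
      simp only [Polynomial.eval_zero_map] at hβ
      rcases hβ with h | h
      · exact h0 (by rw [← h1]; exact (algebraMap k A).injective (h.trans (map_zero _).symm))
      · exact h0 ((algebraMap k A).injective (h.trans (map_zero _).symm))
    set w : RatFunc A := F.num.eval₂ f RatFunc.X / F.denom.eval₂ f RatFunc.X with hwdef
    set t : RatFunc A := RatFunc.X + RatFunc.C β * w with ht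
    have hev := congrArg (Polynomial.eval (RatFunc.C β)) hcr
    have hmap : ∀ q : Polynomial k, (q.map (RatFunc.C.comp (algebraMap k (AlgebraicClosure k)))).eval (RatFunc.C β) =
        RatFunc.C ((q.map (algebraMap k A)).eval β) := fun q => by
      rw [← Polynomial.map_map, Polynomial.eval_map, Polynomial.eval₂_at_apply]
    have hs : ∀ q : Polynomial k,
        (q.eval₂ (Polynomial.C.comp f) (Polynomial.C RatFunc.X + Polynomial.C w * Polynomial.X)).eval
          (RatFunc.C β) = q.eval₂ f t := fun q => by
      rw [← Polynomial.coe_evalRingHom, Polynomial.hom_eval₂]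
      congr 1
      · ext a; simp
      · simp [ht]; ring
    simp only [Polynomial.eval_mul, Polynomial.eval_C, hmap] at hev
    change (F.num.eval₂ (Polynomial.C.comp f) _).eval _ * _ =
      (F.denom.eval₂ (Polynomial.C.comp f) _).eval _ * (w * _) at hev
    rw [hs, hs] at hev
    have hroot : ∃ γ : A, t = RatFunc.C γ := by
      have key : ∃ q : Polynomial k, q ≠ 0 ∧ q.eval₂ f t = 0 := by
        have hco := F.isCoprime_num_denom.map (Polynomial.mapRingHom (algebraMap k A))
        obtain ⟨a, b, hab⟩ := hco
        have hab' := congrArg (Polynomial.eval β) hab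
        simp only [Polynomial.coe_mapRingHom, Polynomial.eval_add, Polynomial.eval_mul,
          Polynomial.eval_one] at hab'
        rcases hβ with hβ | hβ
        · refine ⟨F.num, fun hz => h0 (by rw [← h1, hz, Polynomial.eval_zero]), ?_⟩
          have hne : (F.denom.map (algebraMap k A)).eval β ≠ 0 := fun hz => by
            simp [hz, hβ] at hab'
          rw [hβ, map_zero, mul_zero, mul_zero, mul_eq_zero] at hev
          exact hev.resolve_right ((map_ne_zero_iff _ RatFunc.C.injective).2 hne)
        · refine ⟨F.denom, F.denom_ne_zero, ?_⟩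
          have hne : (F.num.map (algebraMap k A)).eval β ≠ 0 := fun hz => by
            simp [hz, hβ] at hab'
          rw [hβ, map_zero, mul_zero, eq_comm, mul_eq_zero] at hev
          exact hev.resolve_right (mul_ne_zero hw ((map_ne_zero_iff _ RatFunc.C.injective).2 hne))
      obtain ⟨q, hq, hqt⟩ := key
      have hq' : (q.map (algebraMap k A)).map RatFunc.C ≠ 0 :=
        Polynomial.map_ne_zero (Polynomial.map_ne_zero hq)
      have hroot : t ∈ ((q.map (algebraMap k A)).map RatFunc.C).roots :=
        (Polynomial.mem_roots hq').2 (by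
          rw [Polynomial.IsRoot, Polynomial.map_map, Polynomial.eval_map]; exact hqt)
      rw [(IsAlgClosed.splits (q.map (algebraMap k A))).roots_map RatFunc.C] at hroot
      obtain ⟨γ, -, hγ⟩ := Multiset.mem_map.1 hroot
      exact ⟨γ, hγ.symm⟩
    obtain ⟨γ, hγ⟩ := hroot
    have he2 : ∀ q : Polynomial k, q.eval₂ f RatFunc.X =
        algebraMap (Polynomial A) (RatFunc A) (q.map (algebraMap k A)) := fun q => by
      rw [← Polynomial.eval₂_C_X (p := q.map (algebraMap k A)), Polynomial.hom_eval₂,
        Polynomial.eval₂_map]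
      congr 1
    have hd0 : F.denom.map (algebraMap k A) ≠ 0 := Polynomial.map_ne_zero F.denom_ne_zero
    have hpoly : Polynomial.C β * F.num.map (algebraMap k A) =
        (Polynomial.C γ - Polynomial.X) * F.denom.map (algebraMap k A) := by
      apply RatFunc.algebraMap_injective A
      have e : RatFunc.C β * w = RatFunc.C γ - RatFunc.X := by rw [← hγ, ht]; ring
      rw [hwdef, he2, he2, ← mul_div_assoc,
        div_eq_iff ((map_ne_zero_iff _ (RatFunc.algebraMap_injective A)).2 hd0)] at e
      simpa [RatFunc.algebraMap_C] using e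
    have hQ1 : F.denom = 1 := by
      have hdvd : F.denom.map (algebraMap k A) ∣ F.num.map (algebraMap k A) :=
        ((Polynomial.isUnit_C.2 (IsUnit.mk0 β hb0)).dvd_mul_left).1 (hpoly ▸ dvd_mul_left _ _)
      rw [Polynomial.map_dvd_map' (algebraMap k A)] at hdvd
      exact (F.monic_denom.isUnit_iff).1
        (F.isCoprime_num_denom.isUnit_of_dvd' hdvd dvd_rfl)
    refine ⟨hQ1, ?_⟩
    rw [← Polynomial.natDegree_map (algebraMap k A), ← Polynomial.natDegree_C_mul hb0, hpoly, hQ1,
      Polynomial.map_one, _root_.mul_one]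
    compute_degree
  · push Not at hr
    have hconst : ∀ q : Polynomial k, q ≠ 0 → (∀ β, (q.map (algebraMap k A)).eval β ≠ 0) →
        q.natDegree = 0 := fun q hq h => by
      by_contra hd
      obtain ⟨β, hβ⟩ := IsAlgClosed.exists_root (q.map (algebraMap k A)) (by
        rw [Polynomial.degree_map, Polynomial.degree_eq_natDegree hq]
        exact_mod_cast hd)
      exact h β hβ
    refine ⟨(F.monic_denom.natDegree_eq_zero).1 (hconst _ F.denom_ne_zero fun β => (hr β).2), ?_⟩
    rw [hconst _ (fun hz => h0 (by rw [← h1, hz, Polynomial.eval_zero])) fun β => (hr β).1]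
    exact zero_le_one

end Groth.Agent.S8471
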