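import Groth.Statements.S8472
import Groth.Agent.H82.R2.System
import Groth.Agent.H82.R2.ChevComm

set_option autoImplicit false
universe u
open CategoryTheory MonoidalCategory CartesianMonoidalCategory MonObj GrpObj AlgebraicGeometry CategoryTheory.Limits
open Red

open Groth.Agent.H82 Groth.Agent.Lib.RedPts

namespace Groth.Agent.S8472

/-- Existence of a Chevalley system extending a pinning: at the level of root groups. Let G be a pinned
reductive S-group: a splitting D (maximal torus T ≅ D_S(M), root datum with root homomorphisms u_c :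
𝔾_a ⟶ G for all roots c, system of simple roots Δ) such that for every simple root a the root
homomorphisms of a and -a are dual to each other: u_a(x) u_{-a}(y) = u_{-a}(y/(1+xy)) · a^∨(1+xy) ·
u_a(x/(1+xy)) whenever 1 + xy is invertible, where a^∨ : 𝔾_m ⟶ T is the coroot of a read through the
splitting. For a root a put w_a = u_a(1) u_{-a}(-1) u_a(1) (an S-point of G). Then the pinning
extends to a Chevalley system: there is a family (v_c)_{c} of root homomorphisms v_c : 𝔾_a ⟶ G, one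
for each root c, normalised by T through the character of c, with v_a = u_a for every simple root a,
such that every v_c admits a dual root homomorphism v_c⁻ (v_c(x) v_c⁻(y) = v_c⁻(y/(1+xy)) c^∨(1+xy)
v_c(x/(1+xy)) for 1 + xy invertible) for which, writing n_c = v_c(1) v_c⁻(1)⁻¹ v_c(1), one has for
every root b a sign ε ∈ {1, -1} with n_c v_b(x) n_c⁻¹ = v_{s_c(b)}(ε x) for all points x of 𝔾_a. -/
theorem result (S : Scheme.{u}) (e₁ : 𝟙_ (Over S) ⟶ Red.Ga S) (he₁ : Red.gaFn e₁ = 1)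
    (G : Over S) [GrpObj G] (D : Red.Pinning G)
    (avc : D.idx → (Red.Gm S ⟶ D.T))
    (havc : ∀ a, avc a = Red.DSmap S (D.P.coroot a).toAddMonoidHom ≫ D.split.inv.hom.hom)
    (hpair : ∀ a ∈ D.base.support, ∀ (X : Over S) (x y : X ⟶ Red.Ga S), IsUnit (1 + Red.gaFn x * Red.gaFn y) →
        ∃ (x' y' : X ⟶ Red.Ga S) (z : X ⟶ Red.Gm S), Red.gmFn z = 1 + Red.gaFn x * Red.gaFn y ∧
          Red.gaFn x' * Red.gmFn z = Red.gaFn x ∧ Red.gaFn y' * Red.gmFn z = Red.gaFn y ∧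
          (x ≫ D.u a) * (y ≫ D.u (D.P.reflectionPerm a a)) = (y' ≫ D.u (D.P.reflectionPerm a a)) * (z ≫ avc a ≫ D.i) * (x' ≫ D.u a)) :
    ∃ v : D.idx → (Red.Ga S ⟶ G),
      (∀ c, Red.IsRootHom D.i (D.split.hom.hom.hom ≫ Red.chi S (D.P.root c)) (v c)) ∧
      (∀ a ∈ D.base.support, v a = D.u a) ∧
      ∀ c, ∃ vd : Red.Ga S ⟶ G, IsMonHom vd ∧
        (∀ (X : Over S) (x y : X ⟶ Red.Ga S), IsUnit (1 + Red.gaFn x * Red.gaFn y) →
        ∃ (x' y' : X ⟶ Red.Ga S) (z : X ⟶ Red.Gm S), Red.gmFn z = 1 + Red.gaFn x * Red.gaFn y ∧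
          Red.gaFn x' * Red.gmFn z = Red.gaFn x ∧ Red.gaFn y' * Red.gmFn z = Red.gaFn y ∧
          (x ≫ v c) * (y ≫ vd) = (y' ≫ vd) * (z ≫ avc c ≫ D.i) * (x' ≫ v c)) ∧
        ∀ b, ∃ ε : ℤ, (ε = 1 ∨ ε = -1) ∧ ∀ (X : Over S) (x y : X ⟶ Red.Ga S), Red.gaFn y = (ε : Γ(X.left, ⊤)) * Red.gaFn x →
          (toUnit X ≫ ((e₁ ≫ v c) * (e₁ ≫ vd)⁻¹ * (e₁ ≫ v c))) * (x ≫ v b) *
              (toUnit X ≫ ((e₁ ≫ v c) * (e₁ ≫ vd)⁻¹ * (e₁ ≫ v c)))⁻¹ = y ≫ v (D.P.reflectionPerm c b) := by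
  haveI := R2.crys D.toSplitRed
  haveI := R2.reduced_of_base D.base
  have hd : ∀ a ∈ D.base.support, Weyl.Dual D.toSplitRed a :=
    fun a ha X x y hu => by simpa only [← havc a] using hpair a ha X x y hu
  obtain ⟨Λ, hu, h1, h1', hall, -, hM⟩ := R2.exists_norm hd
  refine ⟨fun c => R2.scl (Λ c) ≫ D.u c, fun c => R2.isRootHom_scl c (hu c), fun a ha => ?_, fun c => ?_⟩
  · have e : R2.scl (1 : Γ(S, ⊤)) = 𝟙 (Red.Ga S) :=
      Ga.gaFn_injective (by rw [R2.scl, Ga.gaFn_gaPt, R2.res_one, _root_.one_mul])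
    change R2.scl (Λ a) ≫ D.u a = D.u a
    rw [h1 a ha, e, Category.id_comp]
  refine ⟨R2.scl (Λ (D.P.reflectionPerm c c)) ≫ D.u (D.P.reflectionPerm c c),
    (R2.isRootHom_scl (D := D.toSplitRed) (D.P.reflectionPerm c c) (hu _)).1, fun X x y hxy => ?_, fun b => ?_⟩
  · obtain ⟨k, hk⟩ := hxy
    refine ⟨Ga.gaPt (Red.gaFn x * ↑k⁻¹), Ga.gaPt (Red.gaFn y * ↑k⁻¹), Gm.gmPt k, by rw [Gm.gmFn_gmPt, hk],
      by rw [Gm.gmFn_gmPt, Ga.gaFn_gaPt, _root_.mul_assoc, k.inv_mul, _root_.mul_one],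
      by rw [Gm.gmFn_gmPt, Ga.gaFn_gaPt, _root_.mul_assoc, k.inv_mul, _root_.mul_one], ?_⟩
    simp only [R2.comp_scl_comp, Ga.gaFn_gaPt, havc]
    exact hall c X _ _ k hk
  · obtain ⟨ν, hν, sν⟩ := R2.monAct_nn hu hall hd h1 h1' hM c b
    obtain ⟨ε, hε, h⟩ : ∃ ε : ℤ, (ε = 1 ∨ ε = -1) ∧ ν * Λ b = (ε : Γ(S, ⊤)) * Λ (D.P.reflectionPerm c b) := by
      rcases sν with h | h
      exacts [⟨1, Or.inl rfl, by rw [h]; simp⟩, ⟨-1, Or.inr rfl, by rw [h]; simp⟩]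
    refine ⟨ε, hε, fun X x y hy => ?_⟩
    have e : (e₁ ≫ (R2.scl (Λ c) ≫ D.u c)) *
        (e₁ ≫ (R2.scl (Λ (D.P.reflectionPerm c c)) ≫ D.u (D.P.reflectionPerm c c)))⁻¹ *
        (e₁ ≫ (R2.scl (Λ c) ≫ D.u c)) = R2.nn D.toSplitRed Λ c := by
      rw [R2.nn, R2.comp_scl_comp, R2.comp_scl_comp, he₁, _root_.mul_one, _root_.mul_one, ← RankOne.P_neg]
    rw [e]
    simp only [R2.comp_scl_comp, hy]
    rw [mul_inv_eq_iff_eq_mul, hν X, ← _root_.mul_assoc (R2.res X ν), ← R2.res_mul', h, R2.res_mul',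
      R2.res_intCast, mul_comm (ε : Γ(X.left, ⊤)) (R2.res X _), _root_.mul_assoc]

end Groth.Agent.S8472
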