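import Groth.Statements.S8473
import Groth.Agent.H1.Classical.TorusSplit
import Groth.Agent.H1.Classical.MaxTorusExists
import Groth.Agent.H1.Classical.Parabolic
import Mathlib.RingTheory.Unramified.LocalStructure
import Mathlib.AlgebraicGeometry.Morphisms.QuasiFinite

set_option autoImplicit false
universe u
open CategoryTheory MonoidalCategory CartesianMonoidalCategory MonObj GrpObj AlgebraicGeometry CategoryTheory.Limits
open Red

open Groth.Agent.Lib.RedPts Groth.Agent.H1.Classical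

namespace Groth.Agent.S8473

/-- A torus over a field is connected. -/
theorem connectedSpace_torus {k : Type u} [Field k] {T : Over (Spec (CommRingCat.of k))} [GrpObj T]
    (hT : Red.IsTorus T) : ConnectedSpace T.left := by
  obtain ⟨S', f, -, hsurj, -, hloc⟩ := id hT
  obtain ⟨s', -⟩ := f.surjective (IsLocalRing.closedPoint k)
  obtain ⟨U, hU, r, hr⟩ := hloc s'
  obtain ⟨u₀⟩ : Nonempty (U : Scheme.{u}) := ⟨⟨s', hU⟩⟩
  obtain ⟨ε⟩ := Groth.Agent.Lib.Tori.Basic.isSplit_bc hr ((U : Scheme.{u}).fromSpecResidueField u₀)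
  let h := (U : Scheme.{u}).fromSpecResidueField u₀ ≫ U.ι ≫ f
  let E := Groth.Agent.Lib.Tori.BaseChange.overIso
    ((Groth.Agent.Lib.Tori.BaseChange.bcComp ((U : Scheme.{u}).fromSpecResidueField u₀) (U.ι ≫ f) T) ≪≫ ε)
  haveI := TorusSplit.connectedSpace_DS ((U : Scheme.{u}).residueField u₀) r
  haveI : ConnectedSpace (Red.bc h T).left := by
    haveI : IsIso E.inv.left := ((Over.forget _).mapIso E).isIso_inv
    exact E.inv.left.homeomorph.surjective.connectedSpace E.inv.left.homeomorph.continuous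
  haveI : Surjective h := ⟨fun x => ⟨IsLocalRing.closedPoint _, Subsingleton.elim (α := PrimeSpectrum k) _ _⟩⟩
  haveI : ConnectedSpace ↥(Limits.pullback T.hom h) := ‹ConnectedSpace (Red.bc h T).left›
  exact (Limits.pullback.fst T.hom h).surjective.connectedSpace (Limits.pullback.fst T.hom h).continuous

/-- An étale scheme over a field is discrete. -/
theorem discrete_of_etale {K : Type u} [Field K] {P : Scheme.{u}} (f : P ⟶ Spec (CommRingCat.of K)) [Etale f] :
    DiscreteTopology ↥P := by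
  have : LocallyQuasiFinite f := by
    rw [HasRingHomProperty.iff_appLE (P := @LocallyQuasiFinite)]
    intro U V e
    have := HasRingHomProperty.appLE (P := @Etale) f ‹_› U V e
    algebraize [(Scheme.Hom.appLE f U.1 V.1 e).hom]
    exact inferInstanceAs (Algebra.QuasiFinite _ _)
  have : IsLocallyArtinian (Spec (CommRingCat.of K)) := inferInstance
  have := IsLocallyArtinian.of_locallyQuasiFinite (f := f)
  infer_instance

/-- Two points in a connected source have the same image in an étale target. -/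
theorem same_image {k : Type u} [Field k] [IsAlgClosed k] {X N : Over (Spec (CommRingCat.of k))} [Etale N.hom]
    [PreconnectedSpace X.left] (w : X ⟶ N) (a b : 𝟙_ (Over (Spec (CommRingCat.of k))) ⟶ X) : a ≫ w = b ≫ w := by
  haveI := discrete_of_etale N.hom
  exact Scheme'.point_ext (PreconnectedSpace.constant ‹_› w.left.continuous)

/-- Let k be an algebraically closed field, T a k-torus, α : T ⟶ 𝔾_m a non-trivial character and P the
semi-direct product T ⋉_α 𝔾_a, given as a k-group P with homomorphisms j_T : T ⟶ P and j_U : 𝔾_a ⟶ P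
such that (t, x) ↦ j_T(t) j_U(x) is an isomorphism of schemes T × 𝔾_a ≅ P and j_T(t) j_U(x) j_T(t)⁻¹
= j_U(α(t) x). Let n : N ⟶ P be a normal subgroup scheme which is étale over k and such that N ∩ T
is trivial (a point of N whose image is in j_T(T) is the unit). Then N is the trivial group. -/
theorem result (K : Type u) [Field K] [IsAlgClosed K]
    (T P N : Over (Spec (CommRingCat.of K))) [GrpObj T] [GrpObj P] [GrpObj N] (hT : Red.IsTorus T)
    (α : T ⟶ Red.Gm (Spec (CommRingCat.of K))) [IsMonHom α] (hα : α ≠ 1)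
    (jT : T ⟶ P) [IsMonHom jT] (jU : Red.Ga (Spec (CommRingCat.of K)) ⟶ P) [IsMonHom jU] (hiso : IsIso ((jT ⊗ₘ jU) ≫ μ[P]))
    (hconj : ∀ (X : Over (Spec (CommRingCat.of K))) (t : X ⟶ T) (x x' : X ⟶ Red.Ga (Spec (CommRingCat.of K))), Red.gaFn x' = Red.gmFn (t ≫ α) * Red.gaFn x →
      (t ≫ jT) * (x ≫ jU) * (t ≫ jT)⁻¹ = x' ≫ jU)
    (n : N ⟶ P) [IsMonHom n] [Mono n] (hn : AlgGrp.IsNormalHom n) (het : Etale N.hom)
    (hNT : ∀ (X : Over (Spec (CommRingCat.of K))) (t : X ⟶ T) (m : X ⟶ N), t ≫ jT = m ≫ n → m = 1) :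
    Red.IsTrivialGrp N := by
  haveI := het
  haveI := hiso
  haveI := connectedSpace_torus hT
  haveI := Groth.Agent.Lib.Tori.Basic.smooth_of_isTorus hT
  haveI := Groth.Agent.Lib.Tori.Basic.isAffineHom_of_isTorus hT
  haveI : IsAffine T.left := isAffine_of_isAffineHom T.hom
  let one : Γ((𝟙_ (Over (Spec (CommRingCat.of K)))).left, ⊤) := 1
  have hinj : ∀ (t t' : 𝟙_ (Over (Spec (CommRingCat.of K))) ⟶ T) (x x' : 𝟙_ _ ⟶ Red.Ga _),
      (t ≫ jT) * (x ≫ jU) = (t' ≫ jT) * (x' ≫ jU) → t = t' ∧ x = x' := fun t t' x x' h => by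
    have h1 : lift t x = lift t' x' := (cancel_mono ((jT ⊗ₘ jU) ≫ μ[P])).1 (by
      rw [Gm.tensorHom_μ, MonObj.comp_mul, MonObj.comp_mul]
      simpa only [lift_fst_assoc, lift_snd_assoc] using h)
    exact ⟨by simpa using congrArg (· ≫ fst _ _) h1, by simpa using congrArg (· ≫ snd _ _) h1⟩
  have hy : ∀ y : 𝟙_ (Over (Spec (CommRingCat.of K))) ⟶ N, y = 1 := by
    intro y
    -- conjugates of `y` are equal to `y`
    have hcy : ∀ (X : Over (Spec (CommRingCat.of K))) [PreconnectedSpace X.left] (g : X ⟶ P)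
        (a b : 𝟙_ (Over (Spec (CommRingCat.of K))) ⟶ X), b ≫ g = 1 →
        (a ≫ g) * (y ≫ n) * (a ≫ g)⁻¹ = y ≫ n := fun X _ g a b hb => by
      obtain ⟨w, hw⟩ := hn X g (toUnit X ≫ y)
      have h1 := congrArg (fun z => z ≫ n) (same_image w a b)
      have key : ∀ c : 𝟙_ (Over (Spec (CommRingCat.of K))) ⟶ X, (c ≫ w) ≫ n = (c ≫ g) * (y ≫ n) * (c ≫ g)⁻¹ := fun c => by
        rw [Category.assoc, ← hw, MonObj.comp_mul, MonObj.comp_mul, GrpObj.comp_inv, Category.assoc,
          ← Category.assoc c (toUnit X), toUnit_unique (c ≫ toUnit X) (𝟙 _), Category.id_comp]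
      simp only [key, hb, _root_.one_mul, inv_one, _root_.mul_one] at h1
      exact h1
    let z : 𝟙_ (Over (Spec (CommRingCat.of K))) ⟶ T ⊗ Red.Ga _ := (y ≫ n) ≫ inv ((jT ⊗ₘ jU) ≫ μ[P])
    obtain ⟨t₀, ht₀⟩ : ∃ t₀, t₀ = z ≫ fst _ _ := ⟨_, rfl⟩
    obtain ⟨x₀, hx₀⟩ : ∃ x₀, x₀ = z ≫ snd _ _ := ⟨_, rfl⟩
    have hyz : y ≫ n = (t₀ ≫ jT) * (x₀ ≫ jU) := by
      have : z ≫ (jT ⊗ₘ jU) ≫ μ[P] = y ≫ n := by
        rw [Category.assoc, IsIso.inv_hom_id, Category.comp_id]
      rw [← this, Gm.tensorHom_μ, MonObj.comp_mul, ht₀, hx₀]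
      simp only [Category.assoc]
    by_cases hx : Red.gaFn x₀ = 0
    · refine hNT _ t₀ y ?_
      rw [hyz, Ga.gaFn_injective (hx.trans Ga.gaFn_one.symm), MonObj.one_comp, _root_.mul_one]
    exfalso
    haveI : IsAffineHom (Red.Gm (Spec (CommRingCat.of K))).hom :=
      Groth.Agent.Lib.Tori.Basic.isAffineHom_of_isTorus (Groth.Agent.Lib.Tori.Basic.isTorus_Gm _)
    haveI : IsAffine (Red.Gm (Spec (CommRingCat.of K))).left := isAffine_of_isAffineHom (Red.Gm _).hom
    refine hα (MaxTorusExists.hom_ext_of_points α 1 fun t => ?_)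
    rw [MonObj.comp_one]
    obtain ⟨x', hx'⟩ : ∃ x' : 𝟙_ (Over (Spec (CommRingCat.of K))) ⟶ Red.Ga _,
        Red.gaFn x' = Red.gmFn (t ≫ α) * Red.gaFn x₀ := ⟨Ga.gaPt _, Ga.gaFn_gaPt _⟩
    have h2 := hcy T jT t 1 (MonObj.one_comp jT)
    rw [hyz, show (t ≫ jT) * ((t₀ ≫ jT) * (x₀ ≫ jU)) * (t ≫ jT)⁻¹ =
      ((t ≫ jT) * (t₀ ≫ jT) * (t ≫ jT)⁻¹) * ((t ≫ jT) * (x₀ ≫ jU) * (t ≫ jT)⁻¹) by group,
      hconj _ t x₀ x' hx'] at h2
    rw [show (t ≫ jT) * (t₀ ≫ jT) * (t ≫ jT)⁻¹ = t₀ ≫ jT by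
      rw [← MonObj.mul_comp, Groth.Agent.Lib.Tori.Comm.mul_comm_of_isTorus hT t t₀, MonObj.mul_comp,
        mul_inv_cancel_right]] at h2
    have h3 := congrArg Red.gaFn (hinj _ _ _ _ h2).2
    rw [hx'] at h3
    refine Gm.gmFn_injective ?_
    rw [Gm.gmFn_one]
    have hu : IsUnit (Red.gaFn x₀) := by
      obtain ⟨r, hr⟩ := Scheme'.baseHom_bijective.2 (Red.gaFn x₀)
      rw [← hr]
      exact (Ne.isUnit fun h0 => hx (by rw [← hr, h0, map_zero])).map _
    exact hu.mul_eq_right.1 h3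
  haveI := discrete_of_etale N.hom
  haveI : Subsingleton N.left := ⟨fun a b => by
    obtain ⟨p, hp⟩ := Scheme'.exists_point (Y := N) (isClosed_discrete {a})
    obtain ⟨p', hp'⟩ := Scheme'.exists_point (Y := N) (isClosed_discrete {b})
    rw [← hp (IsLocalRing.closedPoint K), ← hp' (IsLocalRing.closedPoint K), hy p, hy p']⟩
  haveI : IsAffine N.left := inferInstance
  haveI : Smooth N.hom := inferInstance
  have hid : 𝟙 N = toUnit N ≫ η[N] := MaxTorusExists.hom_ext_of_points _ _ fun x => by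
    rw [Category.comp_id, hy x, ← Category.assoc, Hom.one_def]
    rw [toUnit_unique ((toUnit _ ≫ η[N]) ≫ toUnit N) (toUnit _)]
  haveI : IsIso (toUnit N) := ⟨η[N], hid.symm, toUnit_unique _ _⟩
  haveI : IsIso (toUnit N).left := inferInstanceAs (IsIso ((Over.forget _).map (toUnit N)))
  show IsIso N.hom
  rw [← Over.w (toUnit N)]
  haveI : IsIso (𝟙_ (Over (Spec (CommRingCat.of K)))).hom := inferInstanceAs (IsIso (𝟙 _))
  infer_instance

end Groth.Agent.S8473
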