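import Groth.Statements.S8474
import Groth.Agent.Lib.Unram.Diagonal
import Groth.Agent.H75.BaseChange.Nhd
import Groth.Agent.H1.GrpIrred
import Groth.Agent.Lib.GrpSch.SmoothReduced
import Groth.Agent.Lib.Tori.Comm
import Groth.Agent.Lib.Tori.BaseChange
import Groth.Agent.H1.Classical.TorusSplit
import Groth.Agent.H1.Classical.Parabolic
import Groth.Agent.H1.Classical.TorusPts
import Groth.Agent.H82.RankOne2.Fibre

set_option autoImplicit false
set_option linter.style.haveILetI false
universe u
open CategoryTheory MonoidalCategory CartesianMonoidalCategory MonObj GrpObj AlgebraicGeometry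
open Groth.Agent.Lib.RedPts

namespace Groth.Agent.S8474

theorem one_left {S : Scheme.{u}} {G Y : Over S} [GrpObj G] : (1 : Y ⟶ G).left = Y.hom ≫ η[G].left := by
  rw [show (1 : Y ⟶ G) = toUnit Y ≫ η[G] from rfl, Over.comp_left]
  rfl

/-- A homomorphism mono on a fibre is unramified near the unit of that fibre. -/
theorem exists_unramified_nhd {S : Scheme.{u}} {G P : Over S} [GrpObj G] [GrpObj P] (f : P ⟶ G) [IsMonHom f]
    [LocallyOfFiniteType f.left] (s₀ : S) [Mono ((Over.pullback (S.fromSpecResidueField s₀)).map f)] :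
    ∃ V : P.left.Opens, η[P].left s₀ ∈ V ∧ FormallyUnramified (V.ι ≫ f.left) := by
  let j₀ := S.fromSpecResidueField s₀
  let g : Limits.pullback G.hom j₀ ⟶ G.left := Limits.pullback.fst G.hom j₀
  haveI : Mono ((Over.pullback j₀).map f).left := Over.mono_left_of_mono _
  haveI hm : Mono (Limits.pullback.snd f.left g) := by
    refine ⟨fun {W} a b h => ?_⟩
    let A : ∀ c : W ⟶ Limits.pullback f.left g, W ⟶ Limits.pullback P.hom j₀ := fun c =>
      Limits.pullback.lift (c ≫ Limits.pullback.fst _ _) (c ≫ Limits.pullback.snd _ _ ≫ Limits.pullback.snd _ _) (by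
        rw [← Over.w f]
        simp only [Category.assoc, g, ← Limits.pullback.condition (f := G.hom) (g := j₀)]
        rw [Limits.pullback.condition_assoc])
    have hA : ∀ c, A c ≫ ((Over.pullback j₀).map f).left = c ≫ Limits.pullback.snd f.left g := fun c => by
      refine Limits.pullback.hom_ext ?_ ?_
      · simp only [A, Category.assoc]
        erw [Limits.pullback.lift_fst]
        rw [Limits.pullback.lift_fst_assoc, Category.assoc, Limits.pullback.condition]
      · simp only [A, Category.assoc]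
        erw [Limits.pullback.lift_snd]
        rw [Limits.pullback.lift_snd]
    have hab : A a = A b := (cancel_mono ((Over.pullback j₀).map f).left).1 (by rw [hA, hA, h])
    refine Limits.pullback.hom_ext ?_ h
    simpa only [A, Limits.pullback.lift_fst] using congrArg (fun z => z ≫ Limits.pullback.fst _ _) hab
  obtain ⟨y, hy⟩ : f.left (η[P].left s₀) ∈ Set.range g := by
    rw [Scheme.Pullback.range_fst, Set.mem_preimage, Scheme.range_fromSpecResidueField,
      ← Scheme.Hom.comp_apply, Over.w f, ← Scheme.Hom.comp_apply, Over.w η[P]]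
    rfl
  obtain ⟨w, hw, -⟩ := Scheme.Pullback.exists_preimage_pullback (f := f.left) (g := g) _ y hy.symm
  obtain ⟨V, hV, hV'⟩ := Groth.Agent.H75.BaseChange.unramified_nhd_descend f.left g w
    ⟨⊤, trivial, inferInstance⟩
  exact ⟨V, hw ▸ hV, hV'⟩

set_option maxHeartbeats 1600000 in
theorem result (S : Scheme.{u}) (G T P : Over S) [GrpObj G] [GrpObj T] [GrpObj P]
    [LocallyOfFinitePresentation G.hom] [QuasiCompact G.hom] [QuasiSeparated G.hom] (hT : Red.IsTorus T)
    (α : T ⟶ Red.Gm S) [IsMonHom α] (hα : ∀ s : S, (Over.pullback (Red.geomPt s)).map α ≠ 1)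
    (jT : T ⟶ P) [IsMonHom jT] (jU : Red.Ga S ⟶ P) [IsMonHom jU] (hiso : IsIso ((jT ⊗ₘ jU) ≫ μ[P]))
    (hconj : ∀ (X : Over S) (t : X ⟶ T) (x x' : X ⟶ Red.Ga S), Red.gaFn x' = Red.gmFn (t ≫ α) * Red.gaFn x →
      (t ≫ jT) * (x ≫ jU) * (t ≫ jT)⁻¹ = x' ≫ jU)
    (s₀ : S) (f : P ⟶ G) [IsMonHom f] [Mono ((Over.pullback (S.fromSpecResidueField s₀)).map f)] [Mono (jT ≫ f)] :
    ∃ U : S.Opens, s₀ ∈ U ∧ Mono ((Over.pullback U.ι).map f) := by
  haveI := hiso
  haveI hαm : IsMonHom α := inferInstance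
  haveI := Groth.Agent.Lib.Tori.Basic.smooth_of_isTorus hT
  haveI : LocallyOfFiniteType (Red.Ga S).hom := by
    haveI : Smooth (Red.Ga S).hom := Groth.Agent.H82.BigCell.smooth_Ga S
    infer_instance
  haveI : LocallyOfFiniteType P.hom := by
    haveI : LocallyOfFiniteType (T ⊗ Red.Ga S).hom := by
      change LocallyOfFiniteType (Limits.pullback.fst T.hom (Red.Ga S).hom ≫ T.hom)
      infer_instance
    rw [← Over.w (inv ((jT ⊗ₘ jU) ≫ μ[P]))]
    haveI : IsIso (inv ((jT ⊗ₘ jU) ≫ μ[P])).left :=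
      ((Over.forget S).mapIso (asIso ((jT ⊗ₘ jU) ≫ μ[P])).symm).isIso_hom
    infer_instance
  haveI : LocallyOfFiniteType f.left := by
    haveI : LocallyOfFiniteType (f.left ≫ G.hom) := by rw [Over.w f]; infer_instance
    exact locallyOfFiniteType_of_comp f.left G.hom
  obtain ⟨V, hV0, hV⟩ := exists_unramified_nhd f s₀
  let ηG : S ⟶ G.left := η[G].left
  let ηP : S ⟶ P.left := η[P].left
  refine ⟨ηP ⁻¹ᵁ V, hV0, ?_⟩
  let U : S.Opens := ηP ⁻¹ᵁ V
  have hη : ηP ≫ f.left = ηG := by
    show (η[P] ≫ f).left = ηG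
    rw [IsMonHom.one_hom]
  let e : S ⟶ Limits.pullback f.left ηG := Limits.pullback.lift ηP (𝟙 S) (by rw [hη, Category.id_comp])
  have he : ∀ y ∈ U, SchLoc.IsLocalIsoAt e y := fun y hy =>
    Groth.Agent.Lib.Unram.Diagonal.isLocalIsoAt_section f.left ηG e (Limits.pullback.lift_snd _ _ _) y
      ⟨V, by rw [← Scheme.Hom.comp_apply, Limits.pullback.lift_fst]; exact hy, hV⟩
  have step : ∀ (X : Over S) (x : X ⟶ P) (z : X.left ⟶ Limits.pullback f.left ηG),
      z ≫ Limits.pullback.fst _ _ = x.left → z ≫ Limits.pullback.snd _ _ = X.hom →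
      (∀ p, ∃ (O : S.Opens) (o : ↥O), IsOpenImmersion (O.ι ≫ e) ∧ z p = (O.ι ≫ e) o) → x = 1 := by
    intro X x z hz1 hz2 hp
    choose O o hO' hps using hp
    let R : X.left → X.left.Opens := fun p => z ⁻¹ᵁ
      (haveI := hO' p; ((O p).ι ≫ e).opensRange)
    have hmem : ∀ p, p ∈ R p := fun p => ⟨o p, (hps p).symm⟩
    refine Over.OverMorphism.ext (Scheme.Cover.hom_ext (X.left.openCoverOfIsOpenCover R
      (TopologicalSpace.IsOpenCover.mk (eq_top_iff.2 fun w _ =>
        TopologicalSpace.Opens.mem_iSup.2 ⟨w, hmem w⟩))) _ _ fun p => ?_)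
    haveI := hO' p
    change (R p).ι ≫ x.left = (R p).ι ≫ (1 : X ⟶ P).left
    have hr : Set.range ((R p).ι ≫ z) ⊆ Set.range ((O p).ι ≫ e) := by
      rintro _ ⟨q, rfl⟩
      exact q.2
    let w := IsOpenImmersion.lift ((O p).ι ≫ e) ((R p).ι ≫ z) hr
    have hw : w ≫ (O p).ι ≫ e = (R p).ι ≫ z := IsOpenImmersion.lift_fac _ _ hr
    have h2 : w ≫ (O p).ι = (R p).ι ≫ X.hom := by
      have := congrArg (fun z => z ≫ Limits.pullback.snd _ _) hw
      simp only [Category.assoc, e, Limits.pullback.lift_snd, Category.comp_id, hz2] at this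
      exact this
    rw [one_left, ← hz1, ← Category.assoc, ← hw, ← Category.assoc (R p).ι, ← h2]
    simp only [Category.assoc]
    congr 2
    exact Limits.pullback.lift_fst _ _ _
  have fibre : ∀ q : ↑(Limits.pullback f.left ηG), Limits.pullback.snd f.left ηG q ∈ U →
      q = e (Limits.pullback.snd f.left ηG q) := by
    intro q hq
    set s := Limits.pullback.snd f.left ηG q with hsdef
    let k := (Limits.pullback f.left ηG).residueField q
    let K := AlgebraicClosure k
    let zK : Spec (CommRingCat.of K) ⟶ Limits.pullback f.left ηG :=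
      Spec.map (CommRingCat.ofHom (algebraMap k K)) ≫ (Limits.pullback f.left ηG).fromSpecResidueField q
    let p : Spec (CommRingCat.of K) ⟶ S := zK ≫ Limits.pullback.snd _ _
    let X : Over S := Over.mk p
    let y : X ⟶ P := Over.homMk (zK ≫ Limits.pullback.fst _ _) (by
      show (zK ≫ Limits.pullback.fst _ _) ≫ P.hom = p
      rw [← Over.w f, Category.assoc, Limits.pullback.condition_assoc]
      show zK ≫ Limits.pullback.snd _ _ ≫ ηG ≫ G.hom = _
      rw [show ηG ≫ G.hom = 𝟙 S from Over.w η[G], Category.comp_id])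
    have hyf : y ≫ f = 1 := Over.OverMorphism.ext (by
      rw [one_left]
      show (zK ≫ Limits.pullback.fst _ _) ≫ f.left = (zK ≫ Limits.pullback.snd _ _) ≫ ηG
      rw [Category.assoc, Category.assoc]
      exact congrArg (fun z => Spec.map (CommRingCat.ofHom (algebraMap k K)) ≫
        (Limits.pullback f.left ηG).fromSpecResidueField q ≫ z) Limits.pullback.condition)
    let c : X ⟶ T ⊗ Red.Ga S := y ≫ inv ((jT ⊗ₘ jU) ≫ μ[P])
    have hy : y = ((c ≫ fst _ _) ≫ jT) * ((c ≫ snd _ _) ≫ jU) := by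
      have : c ≫ (jT ⊗ₘ jU) ≫ μ[P] = y := by
        rw [Category.assoc, IsIso.inv_hom_id, Category.comp_id]
      conv_lhs => rw [← this]
      rw [Gm.tensorHom_μ, MonObj.comp_mul]
      simp only [Category.assoc]
    set t₀ := c ≫ fst _ _
    set x₀ := c ≫ snd _ _
    have hy1 : y = 1 := by
      by_cases hx : Red.gaFn x₀ = 0
      · have hx0 : x₀ = 1 := Ga.gaFn_injective (hx.trans Ga.gaFn_one.symm)
        rw [hx0, MonObj.one_comp, _root_.mul_one] at hy
        have : t₀ = 1 := (cancel_mono (jT ≫ f)).1 (by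
          rw [MonObj.one_comp, ← Category.assoc, ← hy, hyf])
        rw [hy, this, MonObj.one_comp]
      exfalso
      let Y : Over S := Over.mk (Limits.pullback.snd T.hom p ≫ p)
      let r : Y ⟶ X := Over.homMk (Limits.pullback.snd T.hom p) rfl
      let t : Y ⟶ T := Over.homMk (Limits.pullback.fst T.hom p) Limits.pullback.condition
      let x' : Y ⟶ Red.Ga S := Ga.gaPt (Red.gmFn (t ≫ α) * Red.gaFn (r ≫ x₀))
      let d : Y ⟶ Red.Ga S := x' * (r ≫ x₀)⁻¹
      have hd : d ≫ jU ≫ f = 1 := by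
        have h1 := hconj Y t (r ≫ x₀) x' (Ga.gaFn_gaPt _)
        have h2 : (r ≫ y) ≫ f = 1 := by rw [Category.assoc, hyf, MonObj.comp_one]
        have h3 : (t ≫ jT) * (r ≫ y) * (t ≫ jT)⁻¹ = ((r ≫ t₀) ≫ jT) * (x' ≫ jU) := by
          rw [hy, MonObj.comp_mul]
          rw [show r ≫ t₀ ≫ jT = (r ≫ t₀) ≫ jT from (Category.assoc _ _ _).symm,
            show r ≫ x₀ ≫ jU = (r ≫ x₀) ≫ jU from (Category.assoc _ _ _).symm]
          rw [show (t ≫ jT) * ((r ≫ t₀) ≫ jT * ((r ≫ x₀) ≫ jU)) * (t ≫ jT)⁻¹ =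
              ((t ≫ jT) * ((r ≫ t₀) ≫ jT) * (t ≫ jT)⁻¹) * ((t ≫ jT) * ((r ≫ x₀) ≫ jU) * (t ≫ jT)⁻¹) by group, h1]
          congr 1
          rw [← MonObj.mul_comp, Groth.Agent.Lib.Tori.Comm.mul_comm_of_isTorus hT t (r ≫ t₀), MonObj.mul_comp,
            mul_inv_cancel_right]
        have h4 := congrArg (fun z => z ≫ f) h3
        simp only [MonObj.mul_comp, GrpObj.inv_comp, h2, _root_.mul_one, mul_inv_cancel] at h4
        rw [hy, MonObj.comp_mul, ← Category.assoc, ← Category.assoc, MonObj.mul_comp] at h2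
        have h5 : (x' ≫ jU) ≫ f = ((r ≫ x₀) ≫ jU) ≫ f := mul_left_cancel (h4.symm.trans h2.symm)
        rw [← Category.assoc]
        show ((x' * (r ≫ x₀)⁻¹) ≫ jU) ≫ f = 1
        rw [MonObj.mul_comp, MonObj.mul_comp, GrpObj.inv_comp, GrpObj.inv_comp, h5, mul_inv_cancel]
      let ψ : Y.left ⟶ Limits.pullback f.left ηG := Limits.pullback.lift (d ≫ jU).left Y.hom (by
        rw [← Over.comp_left, Category.assoc, hd, one_left])
      haveI hTs : Smooth (Red.bc p T).hom := Groth.Agent.Lib.Tori.Basic.smooth_of_isTorus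
        (Groth.Agent.Lib.Tori.Basic.isTorus_bc hT p)
      haveI := Groth.Agent.Lib.Tori.Basic.isAffineHom_of_isTorus (Groth.Agent.Lib.Tori.Basic.isTorus_bc hT p)
      haveI : IsAffine (Red.bc p T).left := isAffine_of_isAffineHom (Red.bc p T).hom
      haveI : ConnectedSpace (Red.bc p T).left := (Groth.Agent.H1.Classical.TorusPts.torus_props (𝟙 (Red.bc p T))
        (Groth.Agent.Lib.Tori.Basic.isTorus_bc hT p)).2.2.1
      haveI : IrreducibleSpace (Red.bc p T).left :=
        Groth.Agent.H1.GrpIrred.irreducibleSpace_of_isAlgClosed (G := Red.bc p T)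
      haveI : IsReduced (Red.bc p T).left := Groth.Agent.Lib.GrpSch.isReduced_of_smooth_field (Red.bc p T).hom
      haveI : IsIntegral Y.left := by
        haveI : IrreducibleSpace Y.left := ‹IrreducibleSpace (Red.bc p T).left›
        haveI : IsReduced Y.left := ‹IsReduced (Red.bc p T).left›
        exact isIntegral_of_irreducibleSpace_of_isReduced _
      let u₁ : X ⟶ Y := Over.homMk (Limits.pullback.lift (1 : X ⟶ T).left (𝟙 _) (by
        rw [Over.w, Category.id_comp]; rfl)) (by
        show _ ≫ Limits.pullback.snd T.hom p ≫ p = p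
        erw [Limits.pullback.lift_snd_assoc, Category.id_comp])
      have hu₁t : u₁ ≫ t = 1 := Over.OverMorphism.ext (Limits.pullback.lift_fst _ _ _)
      have hu₁r : u₁ ≫ r = 𝟙 X := Over.OverMorphism.ext (Limits.pullback.lift_snd _ _ _)
      have h1α : (1 : X ⟶ T) ≫ α = 1 := @MonObj.one_comp _ _ _ _ _ _ _ _ α hαm
      have hu₁d : u₁ ≫ d = 1 := Ga.gaFn_injective (by
        rw [Ga.gaFn_one, Ga.gaFn_comp]
        show u₁.left.appTop (Red.gaFn (x' * (r ≫ x₀)⁻¹)) = 0
        rw [Ga.gaFn_mul, Ga.gaFn_inv, map_add, map_neg, Ga.gaFn_gaPt, map_mul, ← Gm.gmFn_comp, ← Ga.gaFn_comp,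
          ← Category.assoc, hu₁t, h1α, Gm.gmFn_one, _root_.one_mul, add_neg_cancel])
      let x₁ : Spec (CommRingCat.of K) := IsLocalRing.closedPoint K
      have hzx : zK x₁ = q :=
        (Scheme.Hom.comp_apply _ _ _).trans (Scheme.fromSpecResidueField_apply _ _)
      obtain ⟨O, hO, hO'⟩ := he s hq
      haveI := hO'
      let W : Y.left.Opens := ψ ⁻¹ᵁ ((O.ι ≫ e).opensRange)
      have hWne : u₁.left x₁ ∈ W := by
        refine ⟨⟨s, hO⟩, ?_⟩
        have h1 : u₁.left ≫ ψ = p ≫ e := by
          refine Limits.pullback.hom_ext ?_ ?_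
          · rw [Category.assoc, Category.assoc, Limits.pullback.lift_fst, Limits.pullback.lift_fst, ← Over.comp_left,
              ← Category.assoc u₁ d, hu₁d, MonObj.one_comp, one_left]
            rfl
          · rw [Category.assoc, Category.assoc, Limits.pullback.lift_snd, Limits.pullback.lift_snd, Category.comp_id]
            exact Over.w u₁
        rw [← Scheme.Hom.comp_apply, h1, Scheme.Hom.comp_apply]
        show (O.ι ≫ e) ⟨s, hO⟩ = e (p x₁)
        rw [Scheme.Hom.comp_apply, show p x₁ = s by rw [Scheme.Hom.comp_apply, hzx]]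
        rfl
      let YW : Over S := Over.mk (W.ι ≫ Y.hom)
      let ιW : YW ⟶ Y := Over.homMk W.ι rfl
      have hone : ιW ≫ d ≫ jU = 1 := step _ _ (W.ι ≫ ψ)
        (by rw [Category.assoc]; exact congrArg (W.ι ≫ ·) (Limits.pullback.lift_fst _ _ _))
        (by rw [Category.assoc]; exact congrArg (W.ι ≫ ·) (Limits.pullback.lift_snd _ _ _)) (fun w => by
          obtain ⟨o, ho⟩ := (show ψ (W.ι w) ∈ Set.range (O.ι ≫ e) from w.2)
          exact ⟨O, o, hO', by rw [ho]; rfl⟩)
      have hd1 : ιW ≫ d = 1 := by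
        have h1 : lift (1 : YW ⟶ T) (ιW ≫ d) = lift 1 1 := (cancel_mono ((jT ⊗ₘ jU) ≫ μ[P])).1 (by
          rw [Gm.tensorHom_μ, MonObj.comp_mul (lift (1 : YW ⟶ T) (ιW ≫ d)), MonObj.comp_mul (lift (1 : YW ⟶ T) 1),
            lift_fst_assoc, lift_snd_assoc, lift_fst_assoc, lift_snd_assoc, Category.assoc ιW d, hone,
            MonObj.one_comp, MonObj.one_comp])
        simpa using congrArg (· ≫ snd _ _) h1
      have hu : IsUnit (Red.gaFn (r ≫ x₀)) := by
        have : IsUnit (Red.gaFn x₀) := by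
          let eK := (Scheme.ΓSpecIso (CommRingCat.of K)).commRingCatIsoToRingEquiv
          rw [← eK.symm_apply_apply (Red.gaFn x₀)]
          exact (Ne.isUnit fun h0 => hx (eK.injective (h0.trans (map_zero eK).symm))).map eK.symm
        rw [Ga.gaFn_comp]
        exact this.map r.left.appTop.hom
      have hres : W.ι.appTop (Red.gmFn (t ≫ α) - 1) = 0 := by
        have h1 : W.ι.appTop (Red.gaFn d) = 0 := by
          have := congrArg Red.gaFn hd1
          rwa [Ga.gaFn_one, Ga.gaFn_comp] at this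
        rw [show Red.gaFn d = (Red.gmFn (t ≫ α) - 1) * Red.gaFn (r ≫ x₀) by
          show Red.gaFn (x' * (r ≫ x₀)⁻¹) = _
          rw [Ga.gaFn_mul, Ga.gaFn_inv, Ga.gaFn_gaPt, sub_mul, _root_.one_mul, sub_eq_add_neg], map_mul] at h1
        exact ((hu.map W.ι.appTop.hom).mul_left_eq_zero).1 h1
      have hg1 : Red.gmFn (t ≫ α) - 1 = 0 := by
        rw [← basicOpen_eq_bot_iff]
        by_contra hne
        obtain ⟨w, hw1, hw2⟩ := nonempty_preirreducible_inter (W.2) (Y.left.basicOpen _).2 ⟨_, hWne⟩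
          ((TopologicalSpace.Opens.ne_bot_iff_nonempty _).1 hne)
        have h2 : (⟨w, hw1⟩ : W.toScheme) ∈ W.ι ⁻¹ᵁ Y.left.basicOpen (Red.gmFn (t ≫ α) - 1) := hw2
        rw [Scheme.preimage_basicOpen_top, hres, Scheme.basicOpen_zero] at h2
        exact h2
      have htα : t ≫ α = 1 := Gm.gmFn_injective (by rw [Gm.gmFn_one, sub_eq_zero.1 hg1])
      let π := Limits.pullback.snd f.left ηG
      let k₀ := S.residueField (π q)
      letI : Algebra k₀ k := (π.residueFieldMap q).hom.toAlgebra
      letI : Algebra k₀ K := ((algebraMap k K).comp (algebraMap k₀ k)).toAlgebra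
      let σ : AlgebraicClosure k₀ →ₐ[k₀] K := IsAlgClosed.lift
      let a : Spec (CommRingCat.of K) ⟶ Spec (CommRingCat.of (AlgebraicClosure k₀)) :=
        Spec.map (CommRingCat.ofHom σ.toRingHom)
      have hcomm : a ≫ Red.geomPt (π q) = p := by
        show Spec.map _ ≫ Spec.map _ ≫ _ = (Spec.map _ ≫ _) ≫ _
        rw [← Spec.map_comp_assoc, Category.assoc, ← Scheme.Hom.SpecMap_residueFieldMap_fromSpecResidueField,
          ← Spec.map_comp_assoc]
        congr 2
        exact CommRingCat.hom_ext (RingHom.ext fun x => σ.commutes x)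
      haveI : Surjective a := ⟨fun x => ⟨IsLocalRing.closedPoint K, Subsingleton.elim _ _⟩⟩
      haveI : Flat a := inferInstance
      haveI : QuasiCompact a := inferInstance
      let e₂ : Limits.pullback (Limits.pullback.snd T.hom (Red.geomPt (π q))) a ≅ Limits.pullback T.hom p :=
        Limits.pullbackLeftPullbackSndIso T.hom (Red.geomPt (π q)) a ≪≫ Limits.pullback.congrHom rfl hcomm
      let bb : Y.left ⟶ (Red.bc (Red.geomPt (π q)) T).left := e₂.inv ≫ Limits.pullback.fst _ _
      haveI : Flat bb := inferInstanceAs (Flat (e₂.inv ≫ Limits.pullback.fst _ _))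
      haveI : Surjective bb := inferInstanceAs (Surjective (e₂.inv ≫ Limits.pullback.fst _ _))
      haveI : Epi bb := Flat.epi_of_flat_of_surjective bb
      refine hα (π q) ?_
      rw [← Category.id_comp ((Over.pullback (Red.geomPt (π q))).map α)]
      refine BC.down_injective ?_
      rw [BC.down_map, BC.down_one]
      have hb1 : bb ≫ Limits.pullback.fst T.hom (Red.geomPt (π q)) = t.left := by
        simp only [bb, e₂, t, Over.homMk_left, Iso.trans_inv, Category.assoc,
          Limits.pullback.congrHom_inv, Limits.pullback.map, Category.comp_id]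
        erw [Limits.pullbackLeftPullbackSndIso_inv_fst]
        exact Limits.pullback.lift_fst _ _ _
      refine Over.OverMorphism.ext ((cancel_epi bb).1 ?_)
      rw [one_left, Over.comp_left, BC.down_left]
      have h3 := congrArg (fun z => z.left) htα
      simp only [Over.comp_left, one_left] at h3
      refine Eq.trans ?_ (Eq.trans h3 ?_)
      · rw [← hb1]
        simp
      · rw [← Category.assoc]
        congr 1
        rw [show Y.hom = t.left ≫ T.hom from (Over.w t).symm, ← hb1, Category.assoc, Limits.pullback.condition]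
        rfl
    have h1 : zK = p ≫ e := by
      refine Limits.pullback.hom_ext ?_ ?_
      · have := congrArg (fun z => z.left) hy1
        rw [one_left] at this
        refine Eq.trans this ?_
        rw [Category.assoc p e]
        exact congrArg (p ≫ ·) (Limits.pullback.lift_fst _ _ _).symm
      · rw [Category.assoc p e]
        exact ((congrArg (p ≫ ·) (Limits.pullback.lift_snd _ _ _)).trans (Category.comp_id p)).symm
    have hzx : zK (IsLocalRing.closedPoint K) = q :=
      (Scheme.Hom.comp_apply _ _ _).trans (Scheme.fromSpecResidueField_apply _ _)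
    conv_lhs => rw [← hzx, h1]
    rw [Scheme.Hom.comp_apply]
    congr 1
    show (zK ≫ Limits.pullback.snd _ _) _ = s
    rw [Scheme.Hom.comp_apply, hzx]
  refine ⟨fun {X'} a b hab => BC.down_injective ?_⟩
  have hf : BC.down _ a ≫ f = BC.down _ b ≫ f := by
    rw [← BC.down_map, ← BC.down_map, hab]
  refine mul_inv_eq_one.1 (step _ _ (Limits.pullback.lift (BC.down U.ι a * (BC.down U.ι b)⁻¹).left
    ((Over.map U.ι).obj X').hom ?_) (Limits.pullback.lift_fst _ _ _) (Limits.pullback.lift_snd _ _ _) fun p => ?_)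
  · rw [← Over.comp_left, MonObj.mul_comp, GrpObj.inv_comp, hf, mul_inv_cancel, one_left]
  · set z := Limits.pullback.lift (f := f.left) (g := ηG) (BC.down U.ι a * (BC.down U.ι b)⁻¹).left
      ((Over.map U.ι).obj X').hom _
    have hz : Limits.pullback.snd f.left ηG (z p) = U.ι (X'.hom p) := by
      rw [← Scheme.Hom.comp_apply, Limits.pullback.lift_snd]
      rfl
    have hzU : Limits.pullback.snd f.left ηG (z p) ∈ U := hz ▸ (X'.hom p).2
    obtain ⟨O, hO, hO'⟩ := he _ hzU
    exact ⟨O, ⟨_, hO⟩, hO', fibre _ hzU⟩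

end Groth.Agent.S8474
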