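import Groth.Statements.S8479
import Groth.Agent.H82.R2.ChevB2

set_option autoImplicit false
universe u
open CategoryTheory MonoidalCategory CartesianMonoidalCategory MonObj GrpObj AlgebraicGeometry CategoryTheory.Limits
open Red

open Groth.Agent.H82
open Groth.Agent.H82.RankOne (P P_eq)

namespace Groth.Agent.S8479

/-- The cases (p, q) = (1,1), (2,1), (3,1) of the table. Let G be a split reductive S-group with
splitting D (torus T ≅ D_S(M), root datum) and a Chevalley system at the level of root groups: for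
every root c a root homomorphism v_c : 𝔾_a ⟶ G (normalised by T through the character of c) with a
dual root homomorphism v_c⁻ (v_c(x) v_c⁻(y) = v_c⁻(y/(1+xy)) c^∨(1+xy) v_c(x/(1+xy)) for 1 + xy
invertible), such that with n_c = v_c(1) v_c⁻(1)⁻¹ v_c(1) one has, for all roots c, b, n_c v_b(x)
n_c⁻¹ = v_{s_c(b)}(± x) for a sign depending on (c, b). Let a, b be two linearly independent roots
with |⟨a, b^∨⟩| ≤ |⟨b, a^∨⟩| (a is not longer than b). Suppose a + b is a root, with index c, and b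
+ 2a is not a root (q = 1); let p ≥ 1 be such that b - k a is a root for k < p and b - p a is not a
root. Then there is a sign ε ∈ {1, -1} with v_b(y) v_a(x) v_b(y)⁻¹ v_a(x)⁻¹ = v_c(ε p x y) for all
points x, y of 𝔾_a. -/
theorem result (S : Scheme.{u}) (e₁ : 𝟙_ (Over S) ⟶ Red.Ga S) (he₁ : Red.gaFn e₁ = 1)
    (G : Over S) [GrpObj G] (D : Red.SplitRed G)
    (avc : D.idx → (Red.Gm S ⟶ D.T))
    (havc : ∀ a, avc a = Red.DSmap S (D.P.coroot a).toAddMonoidHom ≫ D.split.inv.hom.hom)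
    (v vd : D.idx → (Red.Ga S ⟶ G)) (hv : ∀ c, Red.IsRootHom D.i (D.split.hom.hom.hom ≫ Red.chi S (D.P.root c)) (v c))
    (hvd : ∀ c, IsMonHom (vd c) ∧ ∀ (X : Over S) (x y : X ⟶ Red.Ga S), IsUnit (1 + Red.gaFn x * Red.gaFn y) →
        ∃ (x' y' : X ⟶ Red.Ga S) (z : X ⟶ Red.Gm S), Red.gmFn z = 1 + Red.gaFn x * Red.gaFn y ∧
          Red.gaFn x' * Red.gmFn z = Red.gaFn x ∧ Red.gaFn y' * Red.gmFn z = Red.gaFn y ∧
          (x ≫ v c) * (y ≫ vd c) = (y' ≫ vd c) * (z ≫ avc c ≫ D.i) * (x' ≫ v c))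
    (n : D.idx → (𝟙_ (Over S) ⟶ G)) (hn : ∀ c, n c = (e₁ ≫ v c) * (e₁ ≫ vd c)⁻¹ * (e₁ ≫ v c))
    (hSC : ∀ c b, ∃ ε : ℤ, (ε = 1 ∨ ε = -1) ∧ ∀ (X : Over S) (x y : X ⟶ Red.Ga S),
      Red.gaFn y = (ε : Γ(X.left, ⊤)) * Red.gaFn x →
        (toUnit X ≫ n c) * (x ≫ v b) * (toUnit X ≫ n c)⁻¹ = y ≫ v (D.P.reflectionPerm c b))
    (a b : D.idx) (hind : ∀ r s : ℤ, r • D.P.root a + s • D.P.root b = 0 → r = 0 ∧ s = 0)
    (hlen : |D.P.pairing a b| ≤ |D.P.pairing b a|)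
    (c : D.idx) (hc : D.P.root c = D.P.root a + D.P.root b) (hq : D.P.root b + (2 : ℤ) • D.P.root a ∉ Set.range D.P.root)
    (p : ℕ) (hp1 : 1 ≤ p) (hpk : ∀ k : ℕ, k < p → D.P.root b - (k : ℤ) • D.P.root a ∈ Set.range D.P.root)
    (hp : D.P.root b - (p : ℤ) • D.P.root a ∉ Set.range D.P.root) :
    ∃ ε : ℤ, (ε = 1 ∨ ε = -1) ∧ ∀ (X : Over S) (x y z : X ⟶ Red.Ga S),
      Red.gaFn z = (ε : Γ(X.left, ⊤)) * (p : Γ(X.left, ⊤)) * Red.gaFn x * Red.gaFn y → (y ≫ v b) * (x ≫ v a) * (y ≫ v b)⁻¹ * (x ≫ v a)⁻¹ = z ≫ v c := by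
  haveI := R2.crys D
  let D' : Red.SplitRed G := { D with u := v, rootHom := hv }
  haveI : D'.P.IsCrystallographic := R2.crys D'
  have hC : ∀ c, ∃ z, R2.ChevEl D' c z := fun c => R2.exists_chevEl v vd hv avc havc hvd e₁ he₁ n hn hSC c
  obtain ⟨bot, rfl⟩ : ∃ bot, p = bot + 1 := ⟨p - 1, by omega⟩
  obtain ⟨hbound, b₀, hco, hb₀, hp0, hab, hsub⟩ := R2.exists_pair_of_string (D := D') hind (bot := bot) (top := 1)
    le_rfl (hpk bot bot.lt_succ_self) hp ⟨c, by rw [hc, Nat.cast_one, one_zsmul, add_comm]⟩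
    (by simpa using hq) hlen
  have hcc : R2.Co (D := D') a b₀ c (bot + 1) 1 := by
    rw [R2.Co, hc, hco]; push_cast; module
  rcases (show bot = 0 ∨ bot = 1 ∨ bot = 2 by omega) with rfl | rfl | rfl
  · have hp1' : R2.Pair D' a b₀ 1 :=
      ⟨by simpa using hp0, hab, hsub, Or.inl rfl, R2.nm_of_odd (n := 1) (by simpa using hp0) rfl⟩
    obtain rfl : b₀ = b := D.P.root.injective (by rw [hb₀]; simp [D'])
    obtain ⟨t, ht, h⟩ := R2.chev_A2 hC hp1' (c := c) (by simpa using hcc)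
    obtain ⟨ε, hε, rfl⟩ := R2.sign_int ht
    refine ⟨ε, hε, fun X x y z hz => ?_⟩
    simp only [P_eq]
    rw [h X, hz, R2.res_intCast]
    congr 1
    push_cast; ring
  · obtain ⟨t, s, k, hr, ht, hs⟩ := R2.exists_B2 (D := D') hC (a := a) (b := b₀) (c := b) (d := c)
      (by simpa using hp0) hab hsub (by simpa using hco) (by simpa using hcc)
    obtain ⟨ε, hε, hts⟩ := R2.sign_int (R2.sign_mul ht hs)
    refine ⟨ε, hε, fun X x y z hz => ?_⟩
    simp only [P_eq]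
    rw [R2.chev_B2_two hr ht, hz, hts, R2.res_intCast]
    congr 1
    push_cast; ring
  · have hp3 : R2.Pair D' a b₀ 3 :=
      ⟨by simpa using hp0, hab, hsub, Or.inr (Or.inr rfl), R2.nm_of_odd (n := 3) (by simpa using hp0) rfl⟩
    obtain ⟨c', hc'⟩ := hp3.exists_root (i := 1) (j := 1) (by decide)
    obtain ⟨f, hf⟩ := hp3.exists_root (i := 3) (j := 2) (by decide)
    obtain ⟨l, hl, h⟩ := R2.chev_G2_three hC (a := a) (b := b₀) (c := c') (d := b) (e := c) (f := f)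
      ⟨hp3, hc', by simpa using hco, by simpa using hcc, hf⟩
    obtain ⟨ε, hε, rfl⟩ := R2.sign_int hl
    refine ⟨ε, hε, fun X x y z hz => ?_⟩
    simp only [P_eq]
    rw [h X, hz, R2.res_intCast]
    congr 1
    push_cast; ring

end Groth.Agent.S8479
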