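import Groth.Statements.S8480
import Groth.Agent.H82.R2.ChevB2

set_option autoImplicit false
universe u
open CategoryTheory MonoidalCategory CartesianMonoidalCategory MonObj GrpObj AlgebraicGeometry CategoryTheory.Limits
open Red

open Groth.Agent.H82
open Groth.Agent.H82.RankOne (P P_eq)

namespace Groth.Agent.S8480

/-- The case (p, q) = (1,2) of the table. Let G be a split reductive S-group with splitting D (torus T ≅
D_S(M), root datum) and a Chevalley system at the level of root groups: for every root c a root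
homomorphism v_c : 𝔾_a ⟶ G (normalised by T through the character of c) with a dual root
homomorphism v_c⁻ (v_c(x) v_c⁻(y) = v_c⁻(y/(1+xy)) c^∨(1+xy) v_c(x/(1+xy)) for 1 + xy invertible),
such that with n_c = v_c(1) v_c⁻(1)⁻¹ v_c(1) one has, for all roots c, b, n_c v_b(x) n_c⁻¹ =
v_{s_c(b)}(± x) for a sign depending on (c, b). Let a, b be two linearly independent roots with |⟨a,
b^∨⟩| ≤ |⟨b, a^∨⟩| (a is not longer than b). Suppose b - a is not a root, a + b and 2a + b are roots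
with indices c₁, c₂, and 3a + b is not a root. Then there are signs ε₁, ε₂ ∈ {1, -1} with v_b(y)
v_a(x) v_b(y)⁻¹ v_a(x)⁻¹ = v_{c₁}(ε₁ x y) v_{c₂}(ε₂ x² y) for all points x, y of 𝔾_a. -/
theorem result (S : Scheme.{u}) (e₁ : 𝟙_ (Over S) ⟶ Red.Ga S) (he₁ : Red.gaFn e₁ = 1)
    (G : Over S) [GrpObj G] (D : Red.SplitRed G)
    (avc : D.idx → (Red.Gm S ⟶ D.T))
    (havc : ∀ a, avc a = Red.DSmap S (D.P.coroot a).toAddMonoidHom ≫ D.split.inv.hom.hom)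
    (v vd : D.idx → (Red.Ga S ⟶ G)) (hv : ∀ c, Red.IsRootHom D.i (D.split.hom.hom.hom ≫ Red.chi S (D.P.root c)) (v c))
    (hvd : ∀ c, IsMonHom (vd c) ∧ ∀ (X : Over S) (x y : X ⟶ Red.Ga S), IsUnit (1 + Red.gaFn x * Red.gaFn y) →
        ∃ (x' y' : X ⟶ Red.Ga S) (z : X ⟶ Red.Gm S), Red.gmFn z = 1 + Red.gaFn x * Red.gaFn y ∧
          Red.gaFn x' * Red.gmFn z = Red.gaFn x ∧ Red.gaFn y' * Red.gmFn z = Red.gaFn y ∧
          (x ≫ v c) * (y ≫ vd c) = (y' ≫ vd c) * (z ≫ avc c ≫ D.i) * (x' ≫ v c))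
    (n : D.idx → (𝟙_ (Over S) ⟶ G)) (hn : ∀ c, n c = (e₁ ≫ v c) * (e₁ ≫ vd c)⁻¹ * (e₁ ≫ v c))
    (hSC : ∀ c b, ∃ ε : ℤ, (ε = 1 ∨ ε = -1) ∧ ∀ (X : Over S) (x y : X ⟶ Red.Ga S),
      Red.gaFn y = (ε : Γ(X.left, ⊤)) * Red.gaFn x →
        (toUnit X ≫ n c) * (x ≫ v b) * (toUnit X ≫ n c)⁻¹ = y ≫ v (D.P.reflectionPerm c b))
    (a b : D.idx) (hind : ∀ r s : ℤ, r • D.P.root a + s • D.P.root b = 0 → r = 0 ∧ s = 0)
    (hlen : |D.P.pairing a b| ≤ |D.P.pairing b a|)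
    (hm : D.P.root b - D.P.root a ∉ Set.range D.P.root) (c₁ c₂ : D.idx) (hc₁ : D.P.root c₁ = D.P.root a + D.P.root b)
    (hc₂ : D.P.root c₂ = (2 : ℤ) • D.P.root a + D.P.root b) (hq : D.P.root b + (3 : ℤ) • D.P.root a ∉ Set.range D.P.root) :
    ∃ ε₁ ε₂ : ℤ, (ε₁ = 1 ∨ ε₁ = -1) ∧ (ε₂ = 1 ∨ ε₂ = -1) ∧ ∀ (X : Over S) (x y z₁ z₂ : X ⟶ Red.Ga S),
      Red.gaFn z₁ = (ε₁ : Γ(X.left, ⊤)) * Red.gaFn x * Red.gaFn y →
      Red.gaFn z₂ = (ε₂ : Γ(X.left, ⊤)) * Red.gaFn x ^ 2 * Red.gaFn y → (y ≫ v b) * (x ≫ v a) * (y ≫ v b)⁻¹ * (x ≫ v a)⁻¹ = (z₁ ≫ v c₁) * (z₂ ≫ v c₂) := by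
  haveI := R2.crys D
  let D' : Red.SplitRed G := { D with u := v, rootHom := hv }
  haveI : D'.P.IsCrystallographic := R2.crys D'
  have hC : ∀ c, ∃ z, R2.ChevEl D' c z := fun c => R2.exists_chevEl v vd hv avc havc hvd e₁ he₁ n hn hSC c
  obtain ⟨-, b₀, hco, hb₀, hp0, hab, hsub⟩ := R2.exists_pair_of_string (D := D') hind (bot := 0) (top := 2)
    (by norm_num) ⟨b, by simp⟩ (by simpa using hm) ⟨c₂, by rw [hc₂, add_comm]; rfl⟩ (by simpa using hq) hlen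
  obtain rfl : b₀ = b := D.P.root.injective (by rw [hb₀]; simp [D'])
  obtain ⟨t, s, k, hr, ht, hs⟩ := R2.exists_B2 (D := D') hC (a := a) (b := b₀) (c := c₁) (d := c₂)
    (by simpa using hp0) hab hsub (by rw [R2.Co, hc₁]; module) (by rw [R2.Co, hc₂]; module)
  obtain ⟨ε₁, hε₁, rfl⟩ := R2.sign_int ht
  obtain ⟨ε₂, hε₂, hs'⟩ := R2.sign_int (R2.sign_neg hs)
  refine ⟨ε₁, ε₂, hε₁, hε₂, fun X x y z₁ z₂ h1 h2 => ?_⟩
  simp only [P_eq]
  rw [R2.chev_B2_one hr, h1, h2, hs', R2.res_intCast, R2.res_intCast]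
  simp only [_root_.mul_assoc]
  rfl

end Groth.Agent.S8480
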