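import Groth.Statements.S8481
import Groth.Agent.H82.R2.ChevB2

set_option autoImplicit false
universe u
open CategoryTheory MonoidalCategory CartesianMonoidalCategory MonObj GrpObj AlgebraicGeometry CategoryTheory.Limits
open Red

open Groth.Agent.H82
open Groth.Agent.H82.RankOne (P P_eq)

namespace Groth.Agent.S8481

/-- The case (p, q) = (1,3) of the table. Let G be a split reductive S-group with splitting D (torus T ≅
D_S(M), root datum) and a Chevalley system at the level of root groups: for every root c a root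
homomorphism v_c : 𝔾_a ⟶ G (normalised by T through the character of c) with a dual root
homomorphism v_c⁻ (v_c(x) v_c⁻(y) = v_c⁻(y/(1+xy)) c^∨(1+xy) v_c(x/(1+xy)) for 1 + xy invertible),
such that with n_c = v_c(1) v_c⁻(1)⁻¹ v_c(1) one has, for all roots c, b, n_c v_b(x) n_c⁻¹ =
v_{s_c(b)}(± x) for a sign depending on (c, b). Let a, b be two linearly independent roots with |⟨a,
b^∨⟩| ≤ |⟨b, a^∨⟩| (a is not longer than b). Suppose b - a is not a root and a + b, 2a + b, 3a + b,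
3a + 2b are roots with indices c₁, c₂, c₃, c₄. Then there are signs ε₁, …, ε₄ ∈ {1, -1} with v_b(y)
v_a(x) v_b(y)⁻¹ v_a(x)⁻¹ = v_{c₁}(ε₁ x y) v_{c₂}(ε₂ x² y) v_{c₃}(ε₃ x³ y) v_{c₄}(ε₄ x³ y²) for all
points x, y of 𝔾_a. -/
theorem result (S : Scheme.{u}) (e₁ : 𝟙_ (Over S) ⟶ Red.Ga S) (he₁ : Red.gaFn e₁ = 1)
    (G : Over S) [GrpObj G] (D : Red.SplitRed G)
    (avc : D.idx → (Red.Gm S ⟶ D.T))
    (havc : ∀ a, avc a = Red.DSmap S (D.P.coroot a).toAddMonoidHom ≫ D.split.inv.hom.hom)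
    (v vd : D.idx → (Red.Ga S ⟶ G)) (hv : ∀ c, Red.IsRootHom D.i (D.split.hom.hom.hom ≫ Red.chi S (D.P.root c)) (v c))
    (hvd : ∀ c, IsMonHom (vd c) ∧ ∀ (X : Over S) (x y : X ⟶ Red.Ga S), IsUnit (1 + Red.gaFn x * Red.gaFn y) →
        ∃ (x' y' : X ⟶ Red.Ga S) (z : X ⟶ Red.Gm S), Red.gmFn z = 1 + Red.gaFn x * Red.gaFn y ∧
          Red.gaFn x' * Red.gmFn z = Red.gaFn x ∧ Red.gaFn y' * Red.gmFn z = Red.gaFn y ∧
          (x ≫ v c) * (y ≫ vd c) = (y' ≫ vd c) * (z ≫ avc c ≫ D.i) * (x' ≫ v c))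
    (n : D.idx → (𝟙_ (Over S) ⟶ G)) (hn : ∀ c, n c = (e₁ ≫ v c) * (e₁ ≫ vd c)⁻¹ * (e₁ ≫ v c))
    (hSC : ∀ c b, ∃ ε : ℤ, (ε = 1 ∨ ε = -1) ∧ ∀ (X : Over S) (x y : X ⟶ Red.Ga S),
      Red.gaFn y = (ε : Γ(X.left, ⊤)) * Red.gaFn x →
        (toUnit X ≫ n c) * (x ≫ v b) * (toUnit X ≫ n c)⁻¹ = y ≫ v (D.P.reflectionPerm c b))
    (a b : D.idx) (hind : ∀ r s : ℤ, r • D.P.root a + s • D.P.root b = 0 → r = 0 ∧ s = 0)
    (hlen : |D.P.pairing a b| ≤ |D.P.pairing b a|)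
    (hm : D.P.root b - D.P.root a ∉ Set.range D.P.root) (c₁ c₂ c₃ c₄ : D.idx) (hc₁ : D.P.root c₁ = D.P.root a + D.P.root b)
    (hc₂ : D.P.root c₂ = (2 : ℤ) • D.P.root a + D.P.root b) (hc₃ : D.P.root c₃ = (3 : ℤ) • D.P.root a + D.P.root b)
    (hc₄ : D.P.root c₄ = (3 : ℤ) • D.P.root a + (2 : ℤ) • D.P.root b) :
    ∃ ε : Fin 4 → ℤ, (∀ j, ε j = 1 ∨ ε j = -1) ∧ ∀ (X : Over S) (x y z₁ z₂ z₃ z₄ : X ⟶ Red.Ga S),
      Red.gaFn z₁ = (ε 0 : Γ(X.left, ⊤)) * Red.gaFn x * Red.gaFn y →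
      Red.gaFn z₂ = (ε 1 : Γ(X.left, ⊤)) * Red.gaFn x ^ 2 * Red.gaFn y →
      Red.gaFn z₃ = (ε 2 : Γ(X.left, ⊤)) * Red.gaFn x ^ 3 * Red.gaFn y →
      Red.gaFn z₄ = (ε 3 : Γ(X.left, ⊤)) * Red.gaFn x ^ 3 * Red.gaFn y ^ 2 →
        (y ≫ v b) * (x ≫ v a) * (y ≫ v b)⁻¹ * (x ≫ v a)⁻¹ = (z₁ ≫ v c₁) * (z₂ ≫ v c₂) * (z₃ ≫ v c₃) * (z₄ ≫ v c₄) := by
  haveI := R2.crys D
  let D' : Red.SplitRed G := { D with u := v, rootHom := hv }
  haveI : D'.P.IsCrystallographic := R2.crys D'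
  have hC : ∀ c, ∃ z, R2.ChevEl D' c z := fun c => R2.exists_chevEl v vd hv avc havc hvd e₁ he₁ n hn hSC c
  have hli : LinearIndependent ℤ ![D.P.root a, D.P.root b] := LinearIndependent.pair_iff.2 hind
  have htop : 3 ≤ D.P.chainTopCoeff a b := (D.P.root_add_nsmul_mem_range_iff_le_chainTopCoeff hli).1
    ⟨c₃, by rw [hc₃, add_comm, ← natCast_zsmul]; rfl⟩
  obtain ⟨hbound, b₀, hco, hb₀, hp0, hab, hsub⟩ := R2.exists_pair_of_string (D := D') hind (bot := 0)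
    (top := D.P.chainTopCoeff a b) (by omega) ⟨b, by simp⟩ (by simpa using hm)
    (by rw [natCast_zsmul]; exact (D.P.root_add_nsmul_mem_range_iff_le_chainTopCoeff hli).2 le_rfl)
    (fun h => by rw [natCast_zsmul] at h; exact absurd ((D.P.root_add_nsmul_mem_range_iff_le_chainTopCoeff hli).1 h) (by omega))
    hlen
  obtain rfl : b₀ = b := D.P.root.injective (by rw [hb₀]; simp [D'])
  have hn3 : D.P.pairing b₀ a = -3 := hp0.trans (by omega)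
  have hp3 : R2.Pair D' a b₀ 3 := ⟨hn3, hab, hsub, Or.inr (Or.inr rfl), R2.nm_of_odd (n := 3) hn3 rfl⟩
  obtain ⟨T, U, V, W, hT, hU, hV, hW, h⟩ := R2.chev_G2_one hC (c := c₁) (d := c₂) (e := c₃) (f := c₄)
    ⟨hp3, by rw [R2.Co, hc₁]; module, by rw [R2.Co, hc₂]; module, by rw [R2.Co, hc₃]; module,
      by rw [R2.Co, hc₄]⟩
  obtain ⟨t, ht, rfl⟩ := R2.sign_int hT
  obtain ⟨u, hu, rfl⟩ := R2.sign_int hU
  obtain ⟨w₁, hv', rfl⟩ := R2.sign_int hV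
  obtain ⟨w, hw, rfl⟩ := R2.sign_int hW
  refine ⟨![t, u, w₁, w], fun j => by fin_cases j <;> assumption, fun X x y z₁ z₂ z₃ z₄ h1 h2 h3 h4 => ?_⟩
  simp only [P_eq]
  rw [h X, h1, h2, h3, h4]
  simp only [R2.res_intCast, Matrix.cons_val_zero, Matrix.cons_val_one, Matrix.cons_val, _root_.mul_assoc]
  rfl

end Groth.Agent.S8481
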