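import Groth.Statements.S8484
import Groth.Agent.H82.R2.A2
import Groth.Agent.H82.R2.Pinned
-- import your own Groth.Agent.* helpers here

set_option autoImplicit false
universe u
open CategoryTheory MonoidalCategory CartesianMonoidalCategory MonObj GrpObj AlgebraicGeometry CategoryTheory.Limits
open Red

namespace Groth.Agent.S8484

open Groth.Agent Groth.Agent.H82.R2
open Groth.Agent.H82.RankOne (P P_eq P_neg)

/-- At the level of root groups. Let G be a pinned reductive S-group: a splitting D (maximal torus T ≅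
D_S(M), root datum with root homomorphisms u_c : 𝔾_a ⟶ G for all roots c, system of simple roots Δ)
such that for every simple root a the root homomorphisms of a and -a are dual to each other: u_a(x)
u_{-a}(y) = u_{-a}(y/(1+xy)) · a^∨(1+xy) · u_a(x/(1+xy)) whenever 1 + xy is invertible, where a^∨ :
𝔾_m ⟶ T is the coroot of a read through the splitting. For a root a put w_a = u_a(1) u_{-a}(-1)
u_a(1) (an S-point of G). Let a ≠ b be simple roots with ⟨b, a^∨⟩ = ⟨a, b^∨⟩ = -1 (type A₂) and put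
u_{a+b}(x) = w_b u_a(x) w_b⁻¹. Then for all points x of 𝔾_a: w_a u_b(x) w_a⁻¹ = u_{a+b}(-x), w_a
u_{a+b}(x) w_a⁻¹ = u_b(x) and w_b u_{a+b}(x) w_b⁻¹ = u_a(-x) (the relations Ad(w_a) X_b = -X_{a+b},
Ad(w_a) X_{a+b} = X_b, Ad(w_b) X_{a+b} = -X_a). (The published statement is for a pinned group whose
simple roots are exactly a and b; this row states it for two simple roots a ≠ b of any pinned
group.) -/
theorem result (S : Scheme.{u}) (e₁ : 𝟙_ (Over S) ⟶ Red.Ga S) (he₁ : Red.gaFn e₁ = 1)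
    (G : Over S) [GrpObj G] (D : Red.Pinning G)
    (avc : D.idx → (Red.Gm S ⟶ D.T))
    (havc : ∀ a, avc a = Red.DSmap S (D.P.coroot a).toAddMonoidHom ≫ D.split.inv.hom.hom)
    (hpair : ∀ a ∈ D.base.support, ∀ (X : Over S) (x y : X ⟶ Red.Ga S), IsUnit (1 + Red.gaFn x * Red.gaFn y) →
        ∃ (x' y' : X ⟶ Red.Ga S) (z : X ⟶ Red.Gm S), Red.gmFn z = 1 + Red.gaFn x * Red.gaFn y ∧
          Red.gaFn x' * Red.gmFn z = Red.gaFn x ∧ Red.gaFn y' * Red.gmFn z = Red.gaFn y ∧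
          (x ≫ D.u a) * (y ≫ D.u (D.P.reflectionPerm a a)) = (y' ≫ D.u (D.P.reflectionPerm a a)) * (z ≫ avc a ≫ D.i) * (x' ≫ D.u a))
    (w : D.idx → (𝟙_ (Over S) ⟶ G))
    (hw : ∀ a, w a = (e₁ ≫ D.u a) * (e₁ ≫ D.u (D.P.reflectionPerm a a))⁻¹ * (e₁ ≫ D.u a))
    (a b : D.idx) (ha : a ∈ D.base.support) (hb : b ∈ D.base.support) (hne : a ≠ b)
    (hba : D.P.pairing b a = -1) (hab : D.P.pairing a b = -1)
    (uab : ∀ X : Over S, (X ⟶ Red.Ga S) → (X ⟶ G))
    (huab : ∀ (X : Over S) (x : X ⟶ Red.Ga S), uab X x = (toUnit X ≫ w b) * (x ≫ D.u a) * (toUnit X ≫ w b)⁻¹)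
    (X : Over S) (x nx : X ⟶ Red.Ga S) (hnx : Red.gaFn nx = - Red.gaFn x) :
    (toUnit X ≫ w a) * (x ≫ D.u b) * (toUnit X ≫ w a)⁻¹ = uab X nx ∧
      (toUnit X ≫ w a) * uab X x * (toUnit X ≫ w a)⁻¹ = x ≫ D.u b ∧
      (toUnit X ≫ w b) * uab X x * (toUnit X ≫ w b)⁻¹ = nx ≫ D.u a := by
  haveI := Groth.Agent.H82.R2.crys D.toSplitRed
  haveI := Groth.Agent.H82.R2.reduced_of_base D.base
  have hp : Pair D.toSplitRed a b 1 := pair_of_base D.base ha hb (Or.inl rfl) hba hab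
  have hda : H82.Weyl.Dual D.toSplitRed a := fun X x y hu => by simpa only [← havc a] using hpair a ha X x y hu
  have hdb : H82.Weyl.Dual D.toSplitRed b := fun X x y hu => by simpa only [← havc b] using hpair b hb X x y hu
  have hwa : ∀ X : Over S, toUnit X ≫ w a = el D.toSplitRed a (-1) X := fun X => by rw [hw]; exact toUnit_comp_w e₁ he₁ X
  have hwb : ∀ X : Over S, toUnit X ≫ w b = el D.toSplitRed b (-1) X := fun X => by rw [hw]; exact toUnit_comp_w e₁ he₁ X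
  have hneg : ∀ {X : Over S} (c : D.idx) (v : Γ(X.left, ⊤)), (P (D.u c) v)⁻¹ = P (D.u c) (-v) := fun c v => (P_neg _ v).symm
  obtain ⟨c, hc'⟩ := hp.exists_root (i := 1) (j := 1) (by decide)
  have hc : Co a b c 1 1 := hc'
  obtain ⟨t, ht⟩ := A2.exists_rel hp hc
  have mab : Maps (el D.toSplitRed b (-1)) a c := hp.co_inj (hp.co_refl_b co_left) hc ▸ maps_el hdb a
  obtain ⟨gb, gb'⟩ := A2.el_conj_a hp hc ht mab
  have e : ∀ Y y, uab Y y = P (D.u c) (res Y t * Red.gaFn y) := fun Y y => by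
    rw [huab, hwb, P_eq, mul_inv_eq_iff_eq_mul, gb]
  obtain ⟨ga, ga'⟩ := A2.el_conj_a (A2.pair_symm hp) (show Co b a c 1 1 by rw [Co, hc', add_comm])
    (A2.rel_symm hp hc ht) (hp.co_inj (hp.co_refl_a co_right) hc ▸ maps_el hda b)
  simp only [e, hwa, hwb, P_eq, hnx, mul_inv_eq_iff_eq_mul]
  refine ⟨?_, ?_, gb' (flip_el hdb) X _⟩
  · rw [ga, res_neg, neg_mul, mul_neg]
  · have h2 := ga' (flip_el hda) X (-Red.gaFn x)
    rwa [res_neg, neg_mul_neg, neg_neg] at h2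

end Groth.Agent.S8484
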