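import Groth.Statements.S8486
import Groth.Agent.H82.R2.G2
import Groth.Agent.H82.R2.Pinned
-- import your own Groth.Agent.* helpers here

set_option autoImplicit false
universe u
open CategoryTheory MonoidalCategory CartesianMonoidalCategory MonObj GrpObj AlgebraicGeometry CategoryTheory.Limits
open Red

namespace Groth.Agent.S8486

open Groth.Agent Groth.Agent.H82.R2
open Groth.Agent.H82.RankOne (P P_eq P_neg)

/-- At the level of root groups. Let G be a pinned reductive S-group: a splitting D (maximal torus T ≅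
D_S(M), root datum with root homomorphisms u_c : 𝔾_a ⟶ G for all roots c, system of simple roots Δ)
such that for every simple root a the root homomorphisms of a and -a are dual to each other: u_a(x)
u_{-a}(y) = u_{-a}(y/(1+xy)) · a^∨(1+xy) · u_a(x/(1+xy)) whenever 1 + xy is invertible, where a^∨ :
𝔾_m ⟶ T is the coroot of a read through the splitting. For a root a put w_a = u_a(1) u_{-a}(-1)
u_a(1) (an S-point of G). Let a ≠ b be simple roots with ⟨b, a^∨⟩ = -3 and ⟨a, b^∨⟩ = -1 (type G₂);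
put u_{a+b}(x) = w_b u_a(x) w_b⁻¹, u_{2a+b}(x) = (w_a w_b) u_a(x) (w_a w_b)⁻¹, u_{3a+b}(x) = w_a
u_b(-x) w_a⁻¹, u_{3a+2b}(x) = (w_b w_a) u_b(-x) (w_b w_a)⁻¹. Then for all points x of 𝔾_a: w_a
u_{2a+b}(x) w_a⁻¹ = u_{a+b}(-x), w_a u_{3a+b}(x) w_a⁻¹ = u_b(x), w_a u_{3a+2b}(x) w_a⁻¹ =
u_{3a+2b}(x), w_b u_{a+b}(x) w_b⁻¹ = u_a(-x), w_b u_{2a+b}(x) w_b⁻¹ = u_{2a+b}(x) and w_b
u_{3a+2b}(x) w_b⁻¹ = u_{3a+b}(-x). (The published statement is for a pinned group whose simple roots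
are exactly a and b; this row states it for two simple roots a ≠ b of any pinned group.) -/
theorem result (S : Scheme.{u}) (e₁ : 𝟙_ (Over S) ⟶ Red.Ga S) (he₁ : Red.gaFn e₁ = 1)
    (G : Over S) [GrpObj G] (D : Red.Pinning G)
    (avc : D.idx → (Red.Gm S ⟶ D.T))
    (havc : ∀ a, avc a = Red.DSmap S (D.P.coroot a).toAddMonoidHom ≫ D.split.inv.hom.hom)
    (hpair : ∀ a ∈ D.base.support, ∀ (X : Over S) (x y : X ⟶ Red.Ga S), IsUnit (1 + Red.gaFn x * Red.gaFn y) →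
        ∃ (x' y' : X ⟶ Red.Ga S) (z : X ⟶ Red.Gm S), Red.gmFn z = 1 + Red.gaFn x * Red.gaFn y ∧
          Red.gaFn x' * Red.gmFn z = Red.gaFn x ∧ Red.gaFn y' * Red.gmFn z = Red.gaFn y ∧
          (x ≫ D.u a) * (y ≫ D.u (D.P.reflectionPerm a a)) = (y' ≫ D.u (D.P.reflectionPerm a a)) * (z ≫ avc a ≫ D.i) * (x' ≫ D.u a))
    (w : D.idx → (𝟙_ (Over S) ⟶ G))
    (hw : ∀ a, w a = (e₁ ≫ D.u a) * (e₁ ≫ D.u (D.P.reflectionPerm a a))⁻¹ * (e₁ ≫ D.u a))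
    (a b : D.idx) (ha : a ∈ D.base.support) (hb : b ∈ D.base.support) (hne : a ≠ b)
    (hba : D.P.pairing b a = -3) (hab : D.P.pairing a b = -1)
    (u11 : ∀ X : Over S, (X ⟶ Red.Ga S) → (X ⟶ G))
    (hu11 : ∀ (X : Over S) (x : X ⟶ Red.Ga S), u11 X x = (toUnit X ≫ w b) * (x ≫ D.u a) * (toUnit X ≫ w b)⁻¹)
    (u21 : ∀ X : Over S, (X ⟶ Red.Ga S) → (X ⟶ G))
    (hu21 : ∀ (X : Over S) (x : X ⟶ Red.Ga S), u21 X x = (toUnit X ≫ (w a * w b)) * (x ≫ D.u a) * (toUnit X ≫ (w a * w b))⁻¹)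
    (u31 : ∀ X : Over S, (X ⟶ Red.Ga S) → (X ⟶ G))
    (hu31 : ∀ (X : Over S) (x : X ⟶ Red.Ga S), u31 X x = (toUnit X ≫ w a) * (x ≫ D.u b)⁻¹ * (toUnit X ≫ w a)⁻¹)
    (u32 : ∀ X : Over S, (X ⟶ Red.Ga S) → (X ⟶ G))
    (hu32 : ∀ (X : Over S) (x : X ⟶ Red.Ga S), u32 X x = (toUnit X ≫ (w b * w a)) * (x ≫ D.u b)⁻¹ * (toUnit X ≫ (w b * w a))⁻¹)
    (X : Over S) (x nx : X ⟶ Red.Ga S) (hnx : Red.gaFn nx = - Red.gaFn x) :
    (toUnit X ≫ w a) * u21 X x * (toUnit X ≫ w a)⁻¹ = u11 X nx ∧ (toUnit X ≫ w a) * u31 X x * (toUnit X ≫ w a)⁻¹ = x ≫ D.u b ∧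
      (toUnit X ≫ w a) * u32 X x * (toUnit X ≫ w a)⁻¹ = u32 X x ∧ (toUnit X ≫ w b) * u11 X x * (toUnit X ≫ w b)⁻¹ = nx ≫ D.u a ∧
      (toUnit X ≫ w b) * u21 X x * (toUnit X ≫ w b)⁻¹ = u21 X x ∧ (toUnit X ≫ w b) * u32 X x * (toUnit X ≫ w b)⁻¹ = u31 X nx := by
  haveI := Groth.Agent.H82.R2.crys D.toSplitRed
  haveI := Groth.Agent.H82.R2.reduced_of_base D.base
  have hp : Pair D.toSplitRed a b 3 := pair_of_base D.base ha hb (Or.inr (Or.inr rfl)) hba hab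
  have hda : H82.Weyl.Dual D.toSplitRed a := fun X x y hu => by simpa only [← havc a] using hpair a ha X x y hu
  have hdb : H82.Weyl.Dual D.toSplitRed b := fun X x y hu => by simpa only [← havc b] using hpair b hb X x y hu
  have hwa : ∀ X : Over S, toUnit X ≫ w a = el D.toSplitRed a (-1) X := fun X => by rw [hw]; exact toUnit_comp_w e₁ he₁ X
  have hwb : ∀ X : Over S, toUnit X ≫ w b = el D.toSplitRed b (-1) X := fun X => by rw [hw]; exact toUnit_comp_w e₁ he₁ X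
  have hneg : ∀ {X : Over S} (c : D.idx) (v : Γ(X.left, ⊤)), (P (D.u c) v)⁻¹ = P (D.u c) (-v) := fun c v => (P_neg _ v).symm
  obtain ⟨c, hc'⟩ := hp.exists_root (i := 1) (j := 1) (by decide)
  obtain ⟨d, hd'⟩ := hp.exists_root (i := 2) (j := 1) (by decide)
  obtain ⟨e, he'⟩ := hp.exists_root (i := 3) (j := 1) (by decide)
  obtain ⟨f, hf'⟩ := hp.exists_root (i := 3) (j := 2) (by decide)
  have h : G2.Ix D.toSplitRed a b c d e f := ⟨hp, hc', hd', he', hf'⟩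
  obtain ⟨C, hr⟩ := G2.exists_rel h
  have mA := G2.el_conj_b h hr (flip_el hda) (hp.co_inj (hp.co_refl_a co_right) h.he ▸ maps_el hda b)
    (hp.co_inj (hp.co_refl_a h.hc) h.hd ▸ maps_el hda c) (hp.co_inj (hp.co_refl_a h.hd) h.hc ▸ maps_el hda d)
    (hp.co_inj (hp.co_refl_a h.he) co_right ▸ maps_el hda e)
  have mB := G2.el_conj_a h hr (flip_el hdb) (hp.co_inj (hp.co_refl_b co_left) h.hc ▸ maps_el hdb a)
    (hp.co_inj (hp.co_refl_b h.hc) co_left ▸ maps_el hdb c) (hp.co_inj (hp.co_refl_b h.he) h.hf ▸ maps_el hdb e)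
    (hp.co_inj (hp.co_refl_b h.hf) h.he ▸ maps_el hdb f)
  have v11 : ∀ Y y, u11 Y y = P (D.u c) (res Y C.t * Red.gaFn y) := fun Y y => by
    rw [hu11, hwb, P_eq, mul_inv_eq_iff_eq_mul, (mB Y _).1]
  have v21 : ∀ Y y, u21 Y y = P (D.u d) (res Y C.s * Red.gaFn y) := fun Y y => by
    rw [hu21, MonObj.comp_mul, hwa, hwb, P_eq, mul_inv_eq_iff_eq_mul, _root_.mul_assoc, (mB Y _).1,
      ← _root_.mul_assoc, (mA Y _).2.1, _root_.mul_assoc]
  have v31 : ∀ Y y, u31 Y y = P (D.u e) (res Y C.r * Red.gaFn y) := fun Y y => by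
    rw [hu31, hwa, P_eq, hneg, mul_inv_eq_iff_eq_mul, (mA Y _).1, mul_neg, neg_neg]
  have v32 : ∀ Y y, u32 Y y = P (D.u f) (res Y C.q * Red.gaFn y) := fun Y y => by
    rw [hu32, MonObj.comp_mul, hwb, hwa, P_eq, hneg, mul_inv_eq_iff_eq_mul, _root_.mul_assoc, (mA Y _).1,
      mul_neg, neg_neg, ← _root_.mul_assoc, (mB Y _).2.2.2.1, _root_.mul_assoc]
  simp only [v11, v21, v31, v32, hwa, hwb, P_eq, hnx, mul_inv_eq_iff_eq_mul]
  refine ⟨?_, (mA X _).2.2.2.1, (mA X _).2.2.2.2, (mB X _).2.1, (mB X _).2.2.1, ?_⟩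
  · rw [(mA X _).2.2.1, mul_neg]
  · rw [(mB X _).2.2.2.2, mul_neg]

end Groth.Agent.S8486
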