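import Groth.Statements.S8489
import Groth.Agent.H82.RankOne2.Setup

set_option autoImplicit false
universe u
open CategoryTheory MonoidalCategory CartesianMonoidalCategory MonObj GrpObj AlgebraicGeometry CategoryTheory.Limits
open Red
open Groth.Agent.Lib.RedPts Groth.Agent.H82 Groth.Agent.H82.BigCell
open Groth.Agent.H82.RankOne (P P_eq P_comp P_zero)

namespace Groth.Agent.S8489

/-- At the level of root homomorphisms. Let G be a reductive S-group, i : T ⟶ G a maximal torus, α a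
character of T non-trivial on every geometric fibre, and p₊, p₋ : 𝔾_a ⟶ G monomorphisms of groups
normalised by T with multipliers α and α⁻¹ such that 𝔾_a ×_S T ×_S 𝔾_a ⟶ G, (y, t, x) ↦ p₋(y) i(t)
p₊(x), is an open immersion (a rank-one system: G has semisimple rank 1 and p₊, p₋ trivialise the
root groups of α and -α). Then every monomorphism of groups p : 𝔾_a ⟶ G normalised by T with
multiplier α is a rescaling of p₊ by a unit: there is exactly one S-point c of 𝔾_m with p(x) = p₊(c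
x) for all points x of 𝔾_a. (The published statement is a bijection between the nowhere-vanishing
sections of the root line bundle and such monomorphisms; this row states it after fixing p₊.) -/
theorem result (S : Scheme.{u}) (G T : Over S) [GrpObj G] [GrpObj T] (i : T ⟶ G) [IsMonHom i] [Mono i] (hG : Red.IsReductive G) (hTm : Red.IsMaximalTorus i)
    (α : T ⟶ Red.Gm S) [IsMonHom α] (hα : ∀ s : S, (Over.pullback (Red.geomPt s)).map α ≠ 1)
    (pp pm : Red.Ga S ⟶ G) [IsMonHom pp] [Mono pp] [IsMonHom pm] [Mono pm]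
    (hpp : ∀ (X : Over S) (t : X ⟶ T) (x : X ⟶ Red.Ga S), ∃ x' : X ⟶ Red.Ga S,
      x' ≫ pp = (t ≫ i) * (x ≫ pp) * (t ≫ i)⁻¹ ∧ Red.gaFn x' = Red.gmFn (t ≫ α) * Red.gaFn x)
    (hpm : ∀ (X : Over S) (t : X ⟶ T) (y : X ⟶ Red.Ga S), ∃ y' : X ⟶ Red.Ga S,
      y' ≫ pm = (t ≫ i) * (y ≫ pm) * (t ≫ i)⁻¹ ∧ Red.gaFn y' * Red.gmFn (t ≫ α) = Red.gaFn y)
    (hΩ : IsOpenImmersion (((pm ⊗ₘ i) ⊗ₘ pp) ≫ (μ[G] ▷ G) ≫ μ[G]).left)
    (p : Red.Ga S ⟶ G) [IsMonHom p] [Mono p]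
    (hp : ∀ (X : Over S) (t : X ⟶ T) (x : X ⟶ Red.Ga S), ∃ x' : X ⟶ Red.Ga S,
      x' ≫ p = (t ≫ i) * (x ≫ p) * (t ≫ i)⁻¹ ∧ Red.gaFn x' = Red.gmFn (t ≫ α) * Red.gaFn x) :
    ∃! c : 𝟙_ (Over S) ⟶ Red.Gm S, ∀ (X : Over S) (x y : X ⟶ Red.Ga S),
      Red.gaFn y = Red.gmFn (toUnit X ≫ c) * Red.gaFn x → x ≫ p = y ≫ pp := by
  have hT : Red.IsTorus T := hTm.2.2.1
  let H : Hyp i α pp pm := hyp_of hT hα hpp hpm hΩ
  haveI := Groth.Agent.Lib.Tori.Basic.isAffineHom_of_isTorus hT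
  have hw : HasWeight i α p 1 := fun X u x => by
    obtain ⟨X', c, t, hc, hs, h⟩ := H.lift (Gm.gmPt u)
    have ha : Red.gmFn (t ≫ α) = c.left.appTop (u : Γ(X.left, ⊤)) := by
      rw [h, Gm.gmFn_comp, Gm.gmFn_gmPt]
    refine ⟨X', c, t, hc, hs, ha, ?_⟩
    obtain ⟨x', h1, h2⟩ := hp X' t (Ga.gaPt (c.left.appTop x))
    rw [Ga.gaFn_gaPt, ha] at h2
    rw [P_eq, h2] at h1
    rw [pow_one]
    exact h1
  have hu : IsUnit (H.wCoef hw (𝟙_ (Over S))) := isUnit_of_points _ fun q => by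
    rw [H.wCoef_comp hw]
    haveI : IsAffine (ptObj (𝟙_ (Over S)) q).left :=
      inferInstanceAs (IsAffine (Spec ((𝟙_ (Over S)).left.residueField q)))
    have hk := isField_ptObj (𝟙_ (Over S)) q
    refine FEq.isUnit_of_ne_zero _ hk fun h0 => ?_
    have := hk.nontrivial
    have h1 := H.weight_formula hw (1 : Γ((ptObj (𝟙_ (Over S)) q).left, ⊤))
    rw [h0, zero_mul, P_zero, ← P_zero p] at h1
    have h2 := congrArg Red.gaFn ((cancel_mono p).1 h1)
    rw [Ga.gaFn_gaPt, Ga.gaFn_gaPt] at h2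
    exact one_ne_zero h2
  have hν : ∀ X : Over S, Red.gmFn (toUnit X ≫ Gm.gmPt hu.unit) = H.wCoef hw X := fun X => by
    rw [Gm.gmFn_comp, Gm.gmFn_gmPt, IsUnit.unit_spec, H.wCoef_comp hw]
  refine ⟨Gm.gmPt hu.unit, fun X x y hy => ?_, fun c hc => ?_⟩
  · rw [P_eq, H.weight_formula hw, P_eq, hy, hν, pow_one]
  · refine Gm.gmFn_injective ?_
    rw [Gm.gmFn_gmPt, IsUnit.unit_spec]
    have h := hc (𝟙_ (Over S)) (Ga.gaPt 1) (Ga.gaPt (Red.gmFn c))
      (by rw [Ga.gaFn_gaPt, Ga.gaFn_gaPt, _root_.mul_one,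
        toUnit_unique (toUnit (𝟙_ (Over S))) (𝟙 _), Category.id_comp])
    rw [P_eq, H.weight_formula hw, P_eq, Ga.gaFn_gaPt, Ga.gaFn_gaPt, one_pow, _root_.mul_one] at h
    exact (H.P_pp_injective h).symm

end Groth.Agent.S8489
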