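import Groth.Statements.S8503
import Groth.Agent.Lib.CentW.ParTransp

set_option autoImplicit false
open CategoryTheory MonoidalCategory CartesianMonoidalCategory MonObj GrpObj AlgebraicGeometry
universe u
open Par

namespace Groth.Agent.S8503

/-- Let G be a reductive S-group, Q a parabolic subgroup of G, P and P' parabolic subgroups of G
contained in Q, and g ∈ G(S) such that int(g)P and P' are in osculating position: their intersection
(a fibre product over G of the conjugate of P by g and of P', with its induced group structure) is a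
parabolic subgroup of G. Then g ∈ Q(S). -/
theorem result {S : Scheme.{u}} {G Q P P' I : Over S} [GrpObj G] [GrpObj Q] [GrpObj P]
    [GrpObj P'] [GrpObj I] (hG : Red.IsReductive G) (q : Q ⟶ G) (hQ : Red.IsParabolic q)
    (pq : P ⟶ Q) (pq' : P' ⟶ Q) (hP : Red.IsParabolic (pq ≫ q)) (hP' : Red.IsParabolic (pq' ≫ q))
    (g : 𝟙_ (Over S) ⟶ G) (m : I ⟶ P) (m' : I ⟶ P') [IsMonHom m']
    (hI : IsPullback m m' (AGF.conjBy g (pq ≫ q)) (pq' ≫ q)) (hosc : Red.IsParabolic (m' ≫ pq' ≫ q)) :
    ∃ x : 𝟙_ (Over S) ⟶ Q, x ≫ q = g := by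
  haveI := hG.1
  have hI' : Red.IsParabolic ((m' ≫ pq') ≫ q) := by rw [Category.assoc]; exact hosc
  obtain ⟨z, hz⟩ := Groth.Agent.Lib.CentW.factor_of_fwdFrom_parabolic hG q hQ (m' ≫ pq') hI' g⁻¹ fun X' x h => by
    refine ⟨h ≫ m ≫ pq, ?_⟩
    have h1 := congrArg (fun f => h ≫ f) hI.w
    simp only [AGF.conjBy, MonObj.comp_mul, GrpObj.comp_inv] at h1
    have h2 : ∀ Y : Over S, ∀ a b : Y ⟶ 𝟙_ (Over S), a = b := fun Y a b => toUnit_unique a b
    rw [← Category.assoc h m (toUnit P ≫ g), ← Category.assoc (h ≫ m) (toUnit P) g,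
      h2 _ ((h ≫ m) ≫ toUnit P) x] at h1
    simp only [GrpObj.comp_inv, Category.assoc] at h1 ⊢
    rw [← h1]
    group
  haveI := hQ.1
  exact ⟨z⁻¹, by rw [GrpObj.inv_comp, hz, _root_.inv_inv]⟩

end Groth.Agent.S8503
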