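import Groth.Statements.S8513
-- import your own Groth.Agent.* helpers here

set_option autoImplicit false
open CategoryTheory MonoidalCategory CartesianMonoidalCategory MonObj GrpObj AlgebraicGeometry
universe u
open Par

namespace Groth.Agent.S8513

/-- Let G be a reductive S-group and P, Q two parabolic subgroups of G in transversal position (the
multiplication morphism P ×_S Q ⟶ G is smooth). Then P ∩ Q (a fibre product of P and Q over G) is
smooth over S. -/
theorem result {S : Scheme.{u}} {G P Q I : Over S} [GrpObj G] [GrpObj P] [GrpObj Q]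
    (hG : Red.IsReductive G) (p : P ⟶ G) (q : Q ⟶ G) (hP : Red.IsParabolic p) (hQ : Red.IsParabolic q)
    (htr : Smooth ((p ⊗ₘ q) ≫ μ[G]).left) (m : I ⟶ P) (m' : I ⟶ Q) (hI : IsPullback m m' p q) :
    Smooth I.hom := by
  have := hP.1
  have := hQ.1
  have hsq : IsPullback (lift m⁻¹ m') (toUnit I) ((p ⊗ₘ q) ≫ μ[G]) η[G] := by
    have he : ∀ (X : Over S) (a : X ⟶ P) (b : X ⟶ Q),
        lift a b ≫ (p ⊗ₘ q) ≫ μ[G] = (a ≫ p) * (b ≫ q) := by
      intro X a b
      rw [Hom.mul_def, lift_map_assoc]
    have h1 : lift m⁻¹ m' ≫ (p ⊗ₘ q) ≫ μ[G] = toUnit I ≫ η[G] := by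
      rw [he, GrpObj.inv_comp, hI.w, _root_.inv_mul_cancel]
      exact Hom.one_def
    refine ⟨⟨h1⟩, ⟨Limits.PullbackCone.IsLimit.mk _
      (fun c => hI.lift (c.fst ≫ fst P Q)⁻¹ (c.fst ≫ snd P Q) ?_) (fun c => ?_)
      (fun c => toUnit_unique _ _) (fun c l hl _ => ?_)⟩⟩
    · have h2 : ((c.fst ≫ fst P Q) ≫ p) * ((c.fst ≫ snd P Q) ≫ q) = 1 := by
        rw [← he, ← comp_lift, lift_fst_snd, Category.comp_id, c.condition, Hom.one_def]
        exact congrArg (· ≫ η[G]) (toUnit_unique _ _)
      rw [GrpObj.inv_comp]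
      exact inv_eq_of_mul_eq_one_right h2
    · apply CartesianMonoidalCategory.hom_ext
      · simp only [Category.assoc, lift_fst, GrpObj.comp_inv, IsPullback.lift_fst, _root_.inv_inv]
      · simp only [Category.assoc, lift_snd, IsPullback.lift_snd]
    · apply hI.hom_ext
      · rw [IsPullback.lift_fst, ← hl]
        simp only [Category.assoc, lift_fst, GrpObj.comp_inv, _root_.inv_inv]
      · rw [IsPullback.lift_snd, ← hl]
        simp only [Category.assoc, lift_snd]
  exact MorphismProperty.of_isPullback (P := @Smooth) (hsq.map (Over.forget S)) htr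

end Groth.Agent.S8513
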