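import Groth.Statements.S8517
import Groth.Agent.H83.RootBridge
-- import your own Groth.Agent.* helpers here

set_option autoImplicit false
open CategoryTheory MonoidalCategory CartesianMonoidalCategory MonObj GrpObj AlgebraicGeometry
universe u
open RedSub

namespace Groth.Agent.S8517

open Set Function Groth.Agent.H83.RootBridge Groth.Agent.Lib.RootDatum Groth.Agent.Lib.RootDatum.Basic
  Groth.Agent.Lib.RootDatum.PosSys Groth.Agent.Lib.RootDatum.Weyl



/-- Let R be the set of roots of a root pairing over ℤ with finitely many roots, and R₁, R₂ two closed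
subsets of R (if a, b ∈ Rᵢ and root a + root b is a root c then c ∈ Rᵢ), each containing a system of
positive roots (the positive roots of some base). If R₁ ∪ R₂ = R, then R₁ ∩ (−R₂) (the roots of R₁
whose negative is a root in R₂) contains a system of positive roots. -/
theorem result {idx M N : Type} [Finite idx] [AddCommGroup M] [AddCommGroup N] (P : RootPairing idx ℤ M N) (R₁ R₂ : Set idx)
    (h₁ : ∀ a b c : idx, a ∈ R₁ → b ∈ R₁ → P.root a + P.root b = P.root c → c ∈ R₁)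
    (h₂ : ∀ a b c : idx, a ∈ R₂ → b ∈ R₂ → P.root a + P.root b = P.root c → c ∈ R₂)
    (hb₁ : ∃ b : P.Base, RedSub.posRoots P b ⊆ R₁) (hb₂ : ∃ b : P.Base, RedSub.posRoots P b ⊆ R₂)
    (hunion : R₁ ∪ R₂ = Set.univ) :
    ∃ b : P.Base, RedSub.posRoots P b ⊆ {a | a ∈ R₁ ∧ ∃ c ∈ R₂, P.root a = -P.root c} := by
  obtain ⟨b₁, hb₁⟩ := hb₁
  obtain ⟨b₂, hb₂⟩ := hb₂
  let Q : Set idx := {a | a ∈ R₁ ∧ negIdx P a ∈ R₂}
  have hQ : {a | a ∈ R₁ ∧ ∃ c ∈ R₂, P.root a = -P.root c} = Q := by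
    ext a
    refine and_congr_right fun _ => ⟨fun ⟨c, hc, e⟩ => ?_, fun h => ⟨_, h, by rw [root_negIdx, neg_neg]⟩⟩
    rwa [(negIdx_eq_iff P (i := a) (j := c)).2 (by rw [e, neg_neg])]
  rw [hQ]
  have hcov : ∀ a, a ∈ Q ∨ negIdx P a ∈ Q := by
    intro a
    have e1 : a ∈ R₁ ∨ negIdx P a ∈ R₁ :=
      ((isPosSys P b₁).cover a).imp (fun h => hb₁ h) (fun h => hb₁ h)
    have e2 : a ∈ R₂ ∨ negIdx P a ∈ R₂ :=
      ((isPosSys P b₂).cover a).imp (fun h => hb₂ h) (fun h => hb₂ h)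
    have e3 : a ∈ R₁ ∨ a ∈ R₂ := (Set.ext_iff.mp hunion a).mpr trivial
    have e4 : negIdx P a ∈ R₁ ∨ negIdx P a ∈ R₂ := (Set.ext_iff.mp hunion (negIdx P a)).mpr trivial
    simp only [Q, Set.mem_ofPred_eq, negIdx_negIdx]
    tauto
  have hcl : RootD.IsClosedSub P Q := by
    intro i j k hi hj hk
    refine ⟨h₁ i j k hi.1 hj.1 hk.symm, h₂ _ _ _ hi.2 hj.2 ?_⟩
    rw [root_negIdx, root_negIdx, root_negIdx, hk]
    abel
  obtain ⟨g, -, hg⟩ := exists_smul_posSys_subset P (isPosSys P b₁) hcov hcl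
  obtain ⟨b', hb'⟩ := exists_base_smul P g b₁
  exact ⟨b', hb' ▸ hg⟩

end Groth.Agent.S8517
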