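import Groth.Statements.S8526
import Groth.Agent.H88.EtMod.Support

set_option autoImplicit false
universe u
open CategoryTheory CategoryTheory.Limits AlgebraicGeometry Opposite
open EtPBC

namespace Groth.Agent.S8526

/-- Let F be a constructible abelian sheaf on the small etale site of a scheme X. Then the support of F,
the set of points of X over which some geometric stalk of F is nonzero, is a locally constructible
subset of X. -/
theorem result {X : Scheme.{u}} (F : EtCoh.Ab X) (hF : EtPBC.IsConstructible F) :
    Topology.IsLocallyConstructible (EtPBC.supp F) := by
  exact Groth.Agent.H88.EtMod.Support.isLocallyConstructible_supp hF

end Groth.Agent.S8526
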