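import Groth.Statements.S8528
import Groth.Agent.H88.EtMod.ConstTorsionFree

set_option autoImplicit false
universe u
open CategoryTheory CategoryTheory.Limits AlgebraicGeometry Opposite
open EtPBC

namespace Groth.Agent.S8528

/-- Let X be an irreducible scheme all of whose strict localizations are irreducible (for every point x
and every strict henselization R of the local ring at x, Spec R is irreducible; that is, X is
geometrically unibranch), and M a torsion-free abelian group. Then H^1(X, M_X) = 0 for the constant
sheaf M_X on the small etale site. -/
theorem result (X : Scheme.{u}) [IrreducibleSpace X]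
    (hX : ∀ (x : X) (R : Type u) [CommRing R] [IsLocalRing R] [Algebra (X.presheaf.stalk x) R]
      [IsLocalHom (algebraMap (X.presheaf.stalk x) R)] [Hensel.IsStrictHenselization (X.presheaf.stalk x) R],
      IrreducibleSpace (PrimeSpectrum R))
    (M : Type) [AddCommGroup M] [IsAddTorsionFree M] :
    Subsingleton (EtCoh.H X (EtCoh.const X M) 1) := by
  exact H88.EtMod.ConstTorsionFree.subsingleton_H_one X hX M

end Groth.Agent.S8528
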