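import Groth.Statements.S8535
import Groth.Agent.Lib.DeltaF.Universal


set_option autoImplicit false
universe v v' u u'
open CategoryTheory CategoryTheory.Limits
open DeltaF

namespace Groth.Agent.S8535

/-- Let A and B be abelian categories, T and T' cohomological delta-functors from A to B in degrees ≥ 0
whose degree-0 components are left exact (they vanish in negative degrees), such that T^i is
effaceable for every i > 0, and let φ : T → T' be a morphism of delta-functors and n a natural
number. Then the following are equivalent: (a) φ^i is an isomorphism for i ≤ n and a monomorphism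
for i = n + 1; (b) φ^0 is a monomorphism and φ^i is an epimorphism for every i ≤ n; (c) φ^0 is an
isomorphism and, for 0 < i ≤ n, T'^i is effaceable (every object X admits a monomorphism X → Y
killed by T'^i). -/
theorem result {A : Type u} [Category.{v} A] [Abelian A]
    {B : Type u'} [Category.{v'} B] [Abelian B] (T T' : DeltaF.CohDeltaFunctor A B ℕ)
    (h0 : T.ZeroMono) (h0' : T'.ZeroMono) (hT : T.IsEffaceable) (φ : T ⟶ T') (n : ℕ) :
    ((∀ i : ℕ, i ≤ n → IsIso (φ.app i)) ∧ Mono (φ.app (n + 1)) ↔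
      (Mono (φ.app 0) ∧ ∀ i : ℕ, i ≤ n → Epi (φ.app i))) ∧
    ((∀ i : ℕ, i ≤ n → IsIso (φ.app i)) ∧ Mono (φ.app (n + 1)) ↔
      (IsIso (φ.app 0) ∧ ∀ i : ℕ, 0 < i → i ≤ n → ∀ X : A, ∃ (Y : A) (u : X ⟶ Y), Mono u ∧ (T'.F i).map u = 0)) := by
  have hab : (Mono (φ.app 0) ∧ ∀ i : ℕ, i ≤ n → Epi (φ.app i)) →
      (∀ i : ℕ, i ≤ n → IsIso (φ.app i)) ∧ Mono (φ.app (n + 1)) := by
    rintro ⟨hm, he⟩
    have hmono : ∀ i, i ≤ n + 1 → Mono (φ.app i) := by
      intro i
      induction i with
      | zero => exact fun _ => hm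
      | succ i ih =>
        exact fun hi => Groth.Agent.Lib.DeltaF.Universal.mono_succ hT φ i (ih (by omega)) (he i (by omega))
    refine ⟨fun i hi => ?_, hmono (n + 1) le_rfl⟩
    have := hmono i (by omega)
    have := he i hi
    exact isIso_of_mono_of_epi _
  refine ⟨⟨fun ⟨h1, _⟩ => ⟨by have := h1 0 (Nat.zero_le n); infer_instance,
    fun i hi => by have := h1 i hi; infer_instance⟩, hab⟩, ⟨fun ⟨h1, _⟩ => ?_, fun ⟨h1, h2⟩ => hab ⟨inferInstance, ?_⟩⟩⟩
  · refine ⟨h1 0 (Nat.zero_le n), fun i hi hi' X => ?_⟩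
    obtain ⟨j, rfl⟩ : ∃ j, i = j + 1 := ⟨i - 1, by omega⟩
    obtain ⟨Y, u, hu, hu0⟩ := hT j X
    have := h1 (j + 1) hi'
    refine ⟨Y, u, hu, ?_⟩
    rw [← cancel_epi ((φ.app (j + 1)).app X), ← (φ.app (j + 1)).naturality, hu0, zero_comp, comp_zero]
  · intro i
    induction i with
    | zero => exact fun _ => inferInstance
    | succ i ih =>
      exact fun hi => Groth.Agent.Lib.DeltaF.Universal.epi_succ φ i (ih (by omega))
        (h2 (i + 1) (Nat.succ_pos i) hi)

end Groth.Agent.S8535
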