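import Groth.Statements.S8536
import Groth.Agent.Lib.EtSite.Basic
import Mathlib.Algebra.Homology.DerivedCategory.Ext.ExactSequences
import Mathlib.CategoryTheory.Sites.EpiMono
import Mathlib.Algebra.Homology.DerivedCategory.Ext.Map

set_option autoImplicit false
universe u
open CategoryTheory CategoryTheory.Limits AlgebraicGeometry Opposite
open EtAcyc

namespace Groth.Agent.S8536

/-- Let h : Y → X be a morphism of quasi-compact quasi-separated schemes, L a set of primes and n a
natural number, and suppose that for every abelian L-torsion sheaf on X the pullback map on etale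
cohomology along h is bijective in degrees ≤ n and injective in degree n + 1. Let u : F → G be a
monomorphism of abelian L-torsion sheaves on X and ξ a class in H^{n+1}(Y, h⁻¹F) whose image in
H^{n+1}(Y, h⁻¹G) comes from H^{n+1}(X, G). Then ξ comes from H^{n+1}(X, F). -/
theorem result {X Y : Scheme.{u}} [CompactSpace X] [QuasiSeparatedSpace X]
    [CompactSpace Y] [QuasiSeparatedSpace Y] (h : Y ⟶ X) (L : Set ℕ) (n : ℕ) (hc : EtAcyc.CompN h L n)
    [PreservesFiniteLimits (EtCoh.pull h)] {F G : EtCoh.Ab X} (u : F ⟶ G) [Mono u]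
    (hF : EtAcyc.IsLTorsion L F) (hG : EtAcyc.IsLTorsion L G)
    (ξ : EtCoh.H Y ((EtCoh.pull h).obj F) (n + 1))
    (hξ : (EtCoh.HF Y (n + 1)).map ((EtCoh.pull h).map u) ξ ∈ Set.range (EtCore.Hpull h G (n + 1))) :
    ξ ∈ Set.range (EtCore.Hpull h F (n + 1)) := by
  let S := ShortComplex.mk u (cokernel.π u) (cokernel.condition u)
  have hS : S.ShortExact := { exact := ShortComplex.exact_cokernel u }
  have hS' := hS.map_of_exact (EtCoh.pull h)
  have hQ : EtAcyc.IsLTorsion L S.X₃ := fun U s x => by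
    have : Epi S.g := hS.epi_g
    have := (Sheaf.isLocallySurjective_iff_epi' (φ := S.g)).2 this
    obtain ⟨V, a, ha, v, hv⟩ := (Groth.Agent.Lib.EtSite.Basic.mem_topology_iff _).1
      (Presheaf.imageSieve_mem X.smallEtaleTopology S.g.hom s) x
    obtain ⟨s', hs'⟩ := ha
    obtain ⟨W, b, m, ⟨w, hw⟩, hm, hms⟩ := hG V s' v
    refine ⟨W, b ≫ a, m, ⟨w, ?_⟩, hm, ?_⟩
    · refine Eq.trans ?_ hv
      rw [← hw]
      rfl
    · rw [op_comp, Functor.map_comp, ConcreteCategory.comp_apply, ← hs']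
      refine Eq.trans ?_ ((congrArg (fun y => S.g.hom.app _ y) hms).trans (map_zero _))
      exact ((congrArg (m • ·) (NatTrans.naturality_apply S.g.hom b.op s').symm)).trans
        (map_nsmul (S.g.hom.app (op W)).hom m (G.obj.map b.op s')).symm
  obtain ⟨z, hz⟩ := hξ
  have hz' : Abelian.Ext.comp ξ (Abelian.Ext.mk₀ ((EtCoh.pull h).map u)) (add_zero (n + 1)) =
      EtCore.Hpull h G (n + 1) z := hz.symm
  -- naturality of the pullback map
  have nat : ∀ {F₁ F₂ : EtCoh.Ab X} (v : F₁ ⟶ F₂) (q : ℕ) (a : EtCoh.H X F₁ q),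
      EtCore.Hpull h F₂ q (Abelian.Ext.comp a (Abelian.Ext.mk₀ v) (add_zero q)) =
        Abelian.Ext.comp (EtCore.Hpull h F₁ q a) (Abelian.Ext.mk₀ ((EtCoh.pull h).map v)) (add_zero q) := by
    intro F₁ F₂ v q a
    simp only [EtCore.Hpull, AddMonoidHom.comp_apply, AddMonoidHom.mk'_apply,
      Functor.mapExtAddHom_coe, Abelian.Ext.mapExactFunctor_comp, Abelian.Ext.mapExactFunctor_mk₀,
      Abelian.Ext.comp_assoc_of_third_deg_zero]
  have natδ : ∀ (a : EtCoh.H X S.X₃ n),
      EtCore.Hpull h F (n + 1) (Abelian.Ext.comp a hS.extClass rfl) =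
        Abelian.Ext.comp (EtCore.Hpull h S.X₃ n a) hS'.extClass rfl := by
    intro a
    simp only [EtCore.Hpull, AddMonoidHom.comp_apply, AddMonoidHom.mk'_apply,
      Functor.mapExtAddHom_coe, Abelian.Ext.mapExactFunctor_comp,
      Abelian.Ext.mapExactFunctor_extClass]
    exact (Abelian.Ext.comp_assoc _ _ _ _ _ (by lia)).symm
  have hzQ : Abelian.Ext.comp z (Abelian.Ext.mk₀ S.g) (add_zero (n + 1)) = 0 := by
    refine (hc S.X₃ hQ).2 ?_
    rw [nat, map_zero, ← hz', Abelian.Ext.comp_assoc_of_second_deg_zero, Abelian.Ext.mk₀_comp_mk₀,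
      ← Functor.map_comp]
    simp [S]
  obtain ⟨w, hw⟩ := Abelian.Ext.covariant_sequence_exact₂ _ hS z hzQ
  have hd : Abelian.Ext.comp (ξ - EtCore.Hpull h F (n + 1) w)
      (Abelian.Ext.mk₀ ((EtCoh.pull h).map u)) (add_zero (n + 1)) = 0 := by
    rw [sub_eq_add_neg, Abelian.Ext.add_comp, Abelian.Ext.neg_comp, ← sub_eq_add_neg, ← nat, hz', ← hw, sub_self]
  obtain ⟨x, hx⟩ := Abelian.Ext.covariant_sequence_exact₁ _ hS' _ hd rfl
  obtain ⟨y, rfl⟩ := ((hc S.X₃ hQ).1 n le_rfl).2 x
  exact ⟨w + Abelian.Ext.comp y hS.extClass rfl, by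
    rw [map_add, natδ]
    exact (congrArg (EtCore.Hpull h F (n + 1) w + ·) hx).trans (add_sub_cancel _ _)⟩

end Groth.Agent.S8536
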