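import Groth.Statements.S8538
import Groth.Agent.Lib.Cyc.InducedDimFun
import Groth.Agent.Lib.Cyc.DimClosure
import Groth.Agent.Lib.Excellent.Localization
import Groth.Agent.Lib.Excellent.CatenaryDim
import Groth.Agent.H46.FibreTrdeg
import Groth.Agent.Lib.Ideal.Prime
import Mathlib.RingTheory.Adjoin.Tower

set_option autoImplicit false
universe u
open CategoryTheory CategoryTheory.Limits AlgebraicGeometry Opposite
open EtCd

namespace Groth.Agent.S8538

open Groth.Agent.Lib Groth.Agent.Lib.Cyc Groth.Agent.Lib.Excellent.CatenaryDim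
  Groth.Agent.H46.FibreTrdeg IsLocalRing

/-- A field of finite type over a noetherian domain makes some nonzero element lie in every nonzero
prime. -/
theorem exists_mem_all_primes {R : Type u} [CommRing R] [IsDomain R] [IsNoetherianRing R]
    (K : Type u) [Field K] [Algebra R K] [FaithfulSMul R K] [Algebra.FiniteType R K] :
    ∃ g : R, g ≠ 0 ∧ ∀ q : Ideal R, q.IsPrime → q ≠ ⊥ → g ∈ q := by
  classical
  let F := FractionRing R
  letI : Algebra F K := (IsFractionRing.lift (A := R) (K := F)
    (FaithfulSMul.algebraMap_injective R K)).toAlgebra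
  haveI : IsScalarTower R F K := IsScalarTower.of_algebraMap_eq fun x =>
    (IsFractionRing.lift_algebraMap _ x).symm
  haveI : Algebra.FiniteType F K := Algebra.FiniteType.of_restrictScalars_finiteType R F K
  haveI : Module.Finite F K := finite_of_finite_type_of_isJacobsonRing F K
  obtain ⟨s, hs⟩ := fg_of_fg_of_fg R F K Algebra.FiniteType.out Module.Finite.fg_top
    (algebraMap F K).injective
  obtain ⟨g, hg⟩ := IsLocalization.exist_integer_multiples_of_finset (nonZeroDivisors R) s
  refine ⟨g, nonZeroDivisors.ne_zero g.2, fun q hq hq0 => ?_⟩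
  have hpow : ∀ z : F, ∃ n : ℕ, IsLocalization.IsInteger R (((g : R) ^ n) • z) := by
    intro z
    have hz : z ∈ Algebra.adjoin R (s : Set F) := by rw [hs]; trivial
    induction hz using Algebra.adjoin_induction with
    | mem z hz => exact ⟨1, by simpa using hg z hz⟩
    | algebraMap r => exact ⟨0, r, by simp⟩
    | add x y _ _ hx hy =>
      obtain ⟨m, hm⟩ := hx
      obtain ⟨n, hn⟩ := hy
      refine ⟨m + n, ?_⟩
      rw [smul_add]
      refine IsLocalization.isInteger_add ?_ ?_
      · rw [pow_add, mul_comm, mul_smul]; exact IsLocalization.isInteger_smul hm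
      · rw [pow_add, mul_smul]; exact IsLocalization.isInteger_smul hn
    | mul x y _ _ hx hy =>
      obtain ⟨m, a, ha⟩ := hx
      obtain ⟨n, b, hb⟩ := hy
      refine ⟨m + n, a * b, ?_⟩
      rw [map_mul, ha, hb, pow_add, ← smul_mul_smul_comm]
  obtain ⟨c, hc, hc0⟩ := Submodule.exists_mem_ne_zero_of_ne_bot hq0
  obtain ⟨n, a, ha⟩ := hpow (algebraMap R F c)⁻¹
  refine hq.mem_of_pow_mem n ?_
  have h1 : algebraMap R F (a * c) = algebraMap R F ((g : R) ^ n) := by
    rw [map_mul, ha, Algebra.smul_def, mul_assoc, inv_mul_cancel₀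
      ((map_ne_zero_iff _ (IsFractionRing.injective R F)).mpr hc0), mul_one]
  rw [← IsFractionRing.injective R F h1]
  exact q.mul_mem_left _ hc

/-- If some element outside `p` lies in all strictly bigger primes then `dim A/p ≤ 1`. -/
theorem coheight_le_one {A : Type u} [CommRing A] [IsNoetherianRing A] [IsLocalRing A]
    (p : PrimeSpectrum A) {g : A} (hg : g ∉ p.asIdeal)
    (hall : ∀ q : PrimeSpectrum A, p < q → g ∈ q.asIdeal) : Order.coheight p ≤ 1 := by
  classical
  by_contra hlt
  rw [not_le] at hlt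
  set m := closedPoint A
  obtain ⟨q, hpq, hq⟩ : ∃ q, p < q ∧ q ≠ m := by
    by_contra! h
    refine hlt.not_ge (Order.coheight_le ?_)
    intro l hl
    by_contra h2
    rw [not_le, Nat.one_lt_cast] at h2
    have h01 : p < l ⟨1, by omega⟩ := calc
      p = l 0 := hl.symm
      _ < _ := l.strictMono (show (0 : Fin (l.length + 1)) < ⟨1, by omega⟩ from Nat.one_pos)
    have h12 : l ⟨1, by omega⟩ < l ⟨2, by omega⟩ := l.strictMono (Fin.mk_lt_mk.mpr Nat.one_lt_two)
    exact (h _ h01 ▸ h12).not_ge (le_maximalIdeal (l ⟨2, by omega⟩).2.ne_top)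
  have hqm : q < m := lt_of_le_of_ne (le_maximalIdeal q.2.ne_top) hq
  have hfin := Ideal.finite_minimalPrimes_of_isNoetherianRing A (p.asIdeal ⊔ Ideal.span {g})
  have hnle : ∀ Q ∈ (p.asIdeal ⊔ Ideal.span {g}).minimalPrimes, ¬ m.asIdeal ≤ Q := fun Q hQ hle => by
    have hcov := covBy_of_mem_minimalPrimes hg (Q := ⟨Q, hQ.1.1⟩) hQ
    exact hcov.2 hpq (lt_of_lt_of_le hqm hle)
  obtain ⟨a, ham, ha⟩ : ∃ a ∈ m.asIdeal, ∀ Q ∈ (p.asIdeal ⊔ Ideal.span {g}).minimalPrimes, a ∉ Q := by
    by_contra! h
    have hsub : (m.asIdeal : Set A) ⊆ ⋃ Q ∈ (hfin.toFinset : Set (Ideal A)), (Q : Set A) := fun b hb => by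
      obtain ⟨Q, hQ, hbQ⟩ := h b hb
      exact Set.mem_biUnion (by simpa using hQ) hbQ
    obtain ⟨Q, hQ, hle⟩ := (Ideal.subset_union_prime (f := fun Q => Q) ⊥ ⊥ fun Q hQ _ _ =>
      (hfin.mem_toFinset.mp hQ).1.1).mp hsub
    exact hnle Q (hfin.mem_toFinset.mp hQ) hle
  have hap : a ∉ p.asIdeal := fun h => by
    obtain ⟨Q, hQ, -⟩ := Ideal.exists_minimalPrimes_le (I := p.asIdeal ⊔ Ideal.span {g}) (J := m.asIdeal)
      (sup_le (le_maximalIdeal p.2.ne_top)
        ((Ideal.span_singleton_le_iff_mem _).mpr (hall m (hpq.trans hqm))))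
    exact ha Q hQ (hQ.1.2 (Ideal.mem_sup_left h))
  obtain ⟨Q', hQ', -⟩ := Ideal.exists_minimalPrimes_le (I := p.asIdeal ⊔ Ideal.span {a}) (J := m.asIdeal)
    (sup_le (le_maximalIdeal p.2.ne_top) ((Ideal.span_singleton_le_iff_mem _).mpr ham))
  have hcov' := covBy_of_mem_minimalPrimes hap (Q := ⟨Q', hQ'.1.1⟩) hQ'
  haveI := hQ'.1.1
  obtain ⟨Q, hQ, hQQ'⟩ := Ideal.exists_minimalPrimes_le (I := p.asIdeal ⊔ Ideal.span {g}) (J := Q')
    (sup_le (le_sup_left.trans hQ'.1.2) ((Ideal.span_singleton_le_iff_mem _).mpr (hall _ hcov'.lt)))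
  have hcov := covBy_of_mem_minimalPrimes hg (Q := ⟨Q, hQ.1.1⟩) hQ
  rcases hQQ'.eq_or_lt with h | h
  · exact ha Q hQ (h ▸ hQ'.1.2 (Ideal.mem_sup_right (Ideal.mem_span_singleton_self a)))
  · exact hcov'.2 hcov.lt h

set_option backward.isDefEq.respectTransparency.types false in
theorem trd_eq_zero_of_isClosed {X Y : Scheme.{u}} (f : X ⟶ Y) [LocallyOfFiniteType f] {z : X}
    (hz : IsClosed ({z} : Set X)) : trd f z = 0 := by
  have hc : IsClosed ({f.asFiber z} : Set (f.fiber (f z))) := by
    convert hz.preimage (f.fiberι (f z)).continuous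
    ext w
    constructor
    · intro h; rw [Set.mem_singleton_iff.mp h]; exact Scheme.Hom.fiberι_asFiber f z
    · intro h
      exact (f.fiberι (f z)).isEmbedding.injective
        ((Set.mem_singleton_iff.mp h).trans (Scheme.Hom.fiberι_asFiber f z).symm)
  have h0 := fdelta_fiber f (f z) (f.asFiber z)
  rw [FieldDim.fdelta_of_isClosed (K := Y.residueField (f z)) (f.fiberToSpecResidueField (f z))
    (f.asFiber z) hc, Scheme.Hom.fiberι_asFiber] at h0
  exact_mod_cast h0.symm

/-- The dimension of a closure from a dimension function bounded below on it. -/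
theorem dim_closure_add {X : Scheme.{u}} {δ : X → ℤ} (hδ : Cyc.IsDimFun X δ) (c : ℕ) (ξ z : X)
    (hlb : ∀ y, ξ ⤳ y → (c : ℤ) ≤ δ y) (hξz : ξ ⤳ z) (hz0 : δ z = c) (d : ℕ)
    (hd : topologicalKrullDim (closure ({ξ} : Set X)) = d) : (d : ℤ) + c = δ ξ := by
  let T := closure ({ξ} : Set X)
  have : QuasiSober T := isClosed_closure.isClosedEmbedding_subtypeVal.quasiSober
  let g : TopologicalSpace.IrreducibleCloseds T → X := fun C => C.2.genericPoint.1
  have hgT : ∀ C, ξ ⤳ g C := fun C => specializes_iff_mem_closure.mpr C.2.genericPoint.2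
  have hlt : ∀ C C', C < C' → δ (g C) < δ (g C') := by
    intro C C' h
    have h1 := C.2.isGenericPoint_genericPoint C.3
    have h2 := C'.2.isGenericPoint_genericPoint C'.3
    have hsp : C'.2.genericPoint ⤳ C.2.genericPoint := h2.specializes (h.le h1.mem)
    refine DimFun.lt_of_specializes hδ (hsp.map continuous_subtype_val) fun he => h.ne ?_
    refine SetLike.coe_injective ?_
    have heq : C.2.genericPoint = C'.2.genericPoint := Subtype.ext he.symm
    exact h1.def.symm.trans ((congrArg (fun w => closure {w}) heq).trans h2.def)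
  refine le_antisymm ?_ ?_
  · have hle : topologicalKrullDim T ≤ (((δ ξ - c).toNat : ℕ) : WithBot ℕ∞) := by
      refine iSup_le fun l => ?_
      have key : ∀ i : ℕ, (hi : i < l.length + 1) → (c + i : ℤ) ≤ δ (g (l ⟨i, hi⟩)) := by
        intro i
        induction i with
        | zero => intro _; simpa using hlb _ (hgT _)
        | succ i ih =>
          intro hi
          have := ih (by omega)
          have := hlt _ _ (l.step ⟨i, by omega⟩)
          simp only [Fin.castSucc_mk, Fin.succ_mk] at this
          push_cast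
          omega
      have h1 := key l.length (Nat.lt_succ_self _)
      have h2 := DimFun.le_of_specializes hδ (hgT (l ⟨l.length, Nat.lt_succ_self _⟩))
      exact_mod_cast (show l.length ≤ (δ ξ - c).toNat by omega)
    rw [hd] at hle
    have h3 : d ≤ (δ ξ - c).toNat := by exact_mod_cast hle
    have := hlb ξ specializes_rfl
    omega
  · suffices ∀ n : ℕ, ∀ y : X, ∀ hy : ξ ⤳ y, y ⤳ z → δ y = c + n →
        ∃ l : LTSeries (TopologicalSpace.IrreducibleCloseds T), l.length = n ∧
          (l.last : Set T) = closure {⟨y, specializes_iff_mem_closure.mp hy⟩} by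
      have hξc := hlb ξ specializes_rfl
      obtain ⟨l, hl, -⟩ := this (δ ξ - c).toNat ξ specializes_rfl hξz (by omega)
      have h4 : (((δ ξ - c).toNat : ℕ) : WithBot ℕ∞) ≤ topologicalKrullDim T :=
        Order.le_krullDim_iff.mpr ⟨l, hl⟩
      rw [hd] at h4
      have h3 : (δ ξ - c).toNat ≤ d := by exact_mod_cast h4
      omega
    intro n
    induction n with
    | zero =>
      intro y hy hyz h0
      exact ⟨RelSeries.singleton _ ⟨closure {⟨y, specializes_iff_mem_closure.mp hy⟩},
        isIrreducible_singleton.closure, isClosed_closure⟩, rfl, rfl⟩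
    | succ n ih =>
      intro y hy hyz hn
      have hne : y ≠ z := fun h => by
        rw [h, hz0] at hn
        omega
      obtain ⟨w, hyw, hwz, hw⟩ := DimFun.exists_step_below hδ hyz hne
      obtain ⟨l, hl, hlast⟩ := ih w (hy.trans hyw) hwz (by omega)
      let C : TopologicalSpace.IrreducibleCloseds T :=
        ⟨closure {⟨y, specializes_iff_mem_closure.mp hy⟩},
          isIrreducible_singleton.closure, isClosed_closure⟩
      suffices hlt' : l.last < C from ⟨l.snoc C hlt', congrArg (· + 1) hl,
        congrArg SetLike.coe (RelSeries.last_snoc l C hlt')⟩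
      refine lt_of_le_of_ne (SetLike.coe_subset_coe.mp fun a ha => ?_) fun he => ?_
      · rw [hlast] at ha
        exact specializes_iff_mem_closure.mp ((Topology.IsInducing.subtypeVal.specializes_iff.mp hyw).trans
          (specializes_iff_mem_closure.mpr ha))
      · have hy' : (⟨y, specializes_iff_mem_closure.mp hy⟩ : T) ∈ (l.last : Set T) := by
          rw [he]; exact subset_closure rfl
        rw [hlast] at hy'
        have := DimFun.le_of_specializes hδ
          ((specializes_iff_mem_closure.mpr hy').map continuous_subtype_val)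
        change δ y ≤ δ w at this
        omega

/-- Let A be a Noetherian universally catenary local ring, f : X → Spec A a morphism of finite type, x a
point of X with image y, and X₀ the closed fibre of f. Put δ(x) = dim closure(y) + trdeg(κ(x)/κ(y))
= dim(A/p_y) + trdeg(κ(x)/κ(y)) and d(x) = dim closure(x) (topological Krull dimension of the
closure of x in X). Then d(x) = δ(x) when the closure of x meets X₀, and d(x) + 1 = δ(x) when it
does not. -/
theorem result (A : Type u) [CommRing A] [IsNoetherianRing A] [IsLocalRing A]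
    (hA : CAlg.IsUniversallyCatenary A) {X : Scheme.{u}} (f : X ⟶ Spec (CommRingCat.of A)) [LocallyOfFiniteType f]
    [QuasiCompact f] (x : X) (a b d : ℕ) (ha : ringKrullDim (A ⧸ (f.base x).asIdeal) = a)
    (hb : letI := (f.residueFieldMap x).hom.toAlgebra;
      Algebra.trdeg ((Spec (CommRingCat.of A)).residueField (f.base x)) (X.residueField x) = b)
    (hd : topologicalKrullDim ↥(closure ({x} : Set X)) = d) :
    ((closure ({x} : Set X) ∩ f.base ⁻¹' {((IsLocalRing.closedPoint A : PrimeSpectrum A) : ↥(Spec (CommRingCat.of A)))}).Nonempty →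
        d = a + b) ∧
    (closure ({x} : Set X) ∩ f.base ⁻¹' {((IsLocalRing.closedPoint A : PrimeSpectrum A) : ↥(Spec (CommRingCat.of A)))} = ∅ →
        d + 1 = a + b) := by
  have hcat : CAlg.IsCatenary A := hA.2 A inferInstance
  let S := Spec (CommRingCat.of A)
  let ht : S → ℤ := fun p => ((Order.coheight (α := PrimeSpectrum A) p).toNat : ℤ)
  have hδS : Cyc.IsDimFun S ht := by
    intro (p : PrimeSpectrum A) (q : PrimeSpectrum A) hpq hne
    have hlt : p < q := lt_of_le_of_ne ((PrimeSpectrum.le_iff_specializes p q).mpr hpq) hne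
    obtain ⟨m, hm⟩ := ENat.ne_top_iff_exists.mp (coheight_ne_top q)
    obtain ⟨n, hn⟩ := ENat.ne_top_iff_exists.mp (coheight_ne_top p)
    refine ⟨?_, fun himm => ?_⟩
    · have := Order.coheight_add_one_le hlt
      rw [← hm, ← hn] at this
      have h' : m + 1 ≤ n := by exact_mod_cast this
      show (((Order.coheight q).toNat : ℕ) : ℤ) < ((Order.coheight p).toNat : ℕ)
      rw [← hm, ← hn]
      simp only [ENat.toNat_natCast]
      omega
    · have hcov : p ⋖ q := ⟨hlt, fun z hz1 hz2 => by
        rcases himm z ((PrimeSpectrum.le_iff_specializes p z).mp hz1.le)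
          ((PrimeSpectrum.le_iff_specializes z q).mp hz2.le) with e | e
        · exact hz1.ne' e
        · exact hz2.ne e⟩
      show (((Order.coheight p).toNat : ℕ) : ℤ) = ((Order.coheight q).toNat : ℕ) + 1
      rw [coheight_covBy hcat hcov, ← hm]
      norm_cast
  haveI : IsLocallyNoetherian S := inferInstance
  have huc : ∀ t : S, CAlg.IsUniversallyCatenary (S.presheaf.stalk t) := fun t => by
    let algS : Algebra A (S.presheaf.stalk t) := StructureSheaf.stalkAlgebra A t
    haveI : IsLocalization (PrimeSpectrum.asIdeal t).primeCompl (S.presheaf.stalk t) :=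
      StructureSheaf.IsLocalization.to_stalk A t
    exact Excellent.Localization.isUniversallyCatenary_of_isLocalization (A := A)
      (PrimeSpectrum.asIdeal t).primeCompl hA
  let δ : X → ℤ := fun y => ht (f y) + trd f y
  have hδ : Cyc.IsDimFun X δ := InducedDimFun.isDimFun f hδS huc
    (fun y => ⟨trd f y, trdegAt_eq f y, rfl⟩)
  have hx : δ x = a + b := by
    have h1 : Order.coheight (α := PrimeSpectrum A) (f.base x) = (a : ℕ∞) := by
      have h' := (ringKrullDim_quotient_eq_coheight (A := A) (f.base x)).symm.trans ha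
      exact_mod_cast h'
    have h2 : trd f x = b := by
      have := (trdegAt_eq f x).symm.trans hb
      exact_mod_cast this
    show (((Order.coheight (α := PrimeSpectrum A) (f.base x)).toNat : ℕ) : ℤ) + trd f x = a + b
    rw [h1, h2, ENat.toNat_natCast]
  haveI : CompactSpace X := QuasiCompact.compactSpace_of_compactSpace f
  have hm0 : Order.coheight (closedPoint A : PrimeSpectrum A) = 0 :=
    Order.coheight_eq_zero.mpr fun q _ => le_maximalIdeal q.2.ne_top
  constructor
  · intro hne
    obtain ⟨z, hz, hzc⟩ := (isClosed_closure.inter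
      (IsClosed.preimage f.continuous ((PrimeSpectrum.isClosed_singleton_iff_isMaximal
        (closedPoint A)).mpr (maximalIdeal.isMaximal A)))).exists_closed_singleton hne
    have hzm : f z = closedPoint A := hz.2
    have hδz : δ z = ((0 : ℕ) : ℤ) := by
      show (((Order.coheight (α := PrimeSpectrum A) (f z)).toNat : ℕ) : ℤ) + trd f z = _
      rw [hzm, hm0, trd_eq_zero_of_isClosed f hzc]
      rfl
    have := dim_closure_add hδ 0 x z (fun y _ => by show (0:ℤ) ≤ ht (f y) + trd f y; simp only [ht]; omega)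
      (specializes_iff_mem_closure.mpr hz.1) hδz d hd
    rw [hx] at this
    omega
  · intro hempty
    obtain ⟨z, hz, hzc⟩ := (isClosed_closure (s := ({x} : Set X))).exists_closed_singleton
      ⟨x, subset_closure rfl⟩
    have hout : ∀ y, x ⤳ y → (1 : ℤ) ≤ δ y := by
      intro y hy
      obtain ⟨q0, hq0⟩ : ∃ q0 : PrimeSpectrum A, q0 = f y := ⟨_, rfl⟩
      have hne : q0 ≠ closedPoint A := fun h => by
        have : y ∈ (∅ : Set X) := hempty ▸ ⟨specializes_iff_mem_closure.mp hy, hq0.symm.trans h⟩
        exact this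
      have hlt : q0 < closedPoint A :=
        lt_of_le_of_ne (show q0 ≤ closedPoint A from le_maximalIdeal q0.2.ne_top) hne
      obtain ⟨n, hn⟩ := ENat.ne_top_iff_exists.mp (coheight_ne_top q0)
      have := Order.coheight_add_one_le hlt
      rw [hm0, ← hn] at this
      have h' : 0 + 1 ≤ n := by exact_mod_cast this
      show (1 : ℤ) ≤ (((Order.coheight (α := PrimeSpectrum A) (f y)).toNat : ℕ) : ℤ) + trd f y
      rw [← hq0, ← hn, ENat.toNat_natCast]
      omega
    have hxz : x ⤳ z := specializes_iff_mem_closure.mpr hz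
    have hz1 : Order.coheight (α := PrimeSpectrum A) (f z) ≤ 1 := by
      obtain ⟨U, hU, hzU, -⟩ :=
        exists_isAffineOpen_mem_and_subset (U := (⊤ : X.Opens)) (Set.mem_univ z)
      let ψ : A →+* Γ(X, U) := (f.appLE ⊤ U (fun _ _ => trivial)).hom.comp
        (Scheme.ΓSpecIso (CommRingCat.of A)).commRingCatIsoToRingEquiv.symm.toRingHom
      have hψ : ψ.FiniteType := RingHom.FiniteType.comp (f.finiteType_appLE (isAffineOpen_top _) hU _)
        (RingHom.FiniteType.of_surjective _ (RingEquiv.surjective _))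
      set q := (hU.primeIdealOf ⟨z, hzU⟩).asIdeal with hqdef
      have hcomap : q.comap ψ = PrimeSpectrum.asIdeal (R := A) (f z) := by
        ext r
        rw [Ideal.mem_comap, ← not_iff_not]
        rw [hqdef, ← Groth.Agent.Lib.Ideal.EffCartier.mem_basicOpen_iff_notMem_prime hU hzU]
        show z ∈ X.basicOpen (f.appLE ⊤ U _ ((Scheme.ΓSpecIso (CommRingCat.of A)).inv r)) ↔ _
        rw [Scheme.basicOpen_appLE, basicOpen_eq_of_affine]
        exact ⟨fun h => h.2, fun h => ⟨hzU, h⟩⟩
      haveI : q.IsMaximal := by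
        have hc : IsClosed ({hU.primeIdealOf ⟨z, hzU⟩} : Set (PrimeSpectrum Γ(X, U))) := by
          have heq : ({hU.primeIdealOf ⟨z, hzU⟩} : Set (PrimeSpectrum Γ(X, U))) =
              hU.fromSpec ⁻¹' {z} := by
            refine Set.ext fun w => ⟨fun h => ?_, fun h => ?_⟩
            · rw [Set.mem_singleton_iff.mp h]; exact hU.fromSpec_primeIdealOf ⟨z, hzU⟩
            · exact hU.fromSpec.isOpenEmbedding.injective
                ((Set.mem_singleton_iff.mp h).trans (hU.fromSpec_primeIdealOf ⟨z, hzU⟩).symm)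
          rw [heq]
          exact hzc.preimage hU.fromSpec.continuous
        exact (PrimeSpectrum.isClosed_singleton_iff_isMaximal _).mp hc
      letI : Field (Γ(X, U) ⧸ q) := Ideal.Quotient.field q
      obtain ⟨p, hp⟩ : ∃ p : PrimeSpectrum A, p = f z := ⟨_, rfl⟩
      rw [← hp] at hcomap ⊢
      let φ : A ⧸ p.asIdeal →+* Γ(X, U) ⧸ q := Ideal.quotientMap q ψ hcomap.ge
      letI := φ.toAlgebra
      haveI : FaithfulSMul (A ⧸ p.asIdeal) (Γ(X, U) ⧸ q) :=
        (faithfulSMul_iff_algebraMap_injective _ _).mpr (Ideal.quotientMap_injective' hcomap.le)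
      haveI : Algebra.FiniteType (A ⧸ p.asIdeal) (Γ(X, U) ⧸ q) := by
        have h1 : (φ.comp (Ideal.Quotient.mk p.asIdeal)).FiniteType := by
          rw [Ideal.quotientMap_comp_mk]
          exact RingHom.FiniteType.comp_surjective hψ Ideal.Quotient.mk_surjective
        exact RingHom.finiteType_algebraMap.mp (RingHom.FiniteType.of_comp_finiteType h1)
      obtain ⟨g, hg0, hg⟩ := exists_mem_all_primes (R := A ⧸ p.asIdeal) (Γ(X, U) ⧸ q)
      obtain ⟨g, rfl⟩ := Ideal.Quotient.mk_surjective g
      refine coheight_le_one p (g := g) (fun h => hg0 (Ideal.Quotient.eq_zero_iff_mem.mpr h)) ?_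
      intro Q hQ
      have hker : RingHom.ker (Ideal.Quotient.mk p.asIdeal) ≤ Q.asIdeal := by
        rw [Ideal.mk_ker]; exact hQ.le
      have hmem := hg (Q.asIdeal.map (Ideal.Quotient.mk p.asIdeal))
        (Ideal.map_isPrime_of_surjective Ideal.Quotient.mk_surjective hker) (by
          rw [Ne, Ideal.map_eq_bot_iff_le_ker, Ideal.mk_ker]
          exact hQ.not_ge)
      rwa [← Ideal.mem_comap, Ideal.comap_map_of_surjective' _ Ideal.Quotient.mk_surjective,
        sup_eq_left.mpr hker] at hmem
    have hδz : δ z = ((1 : ℕ) : ℤ) := by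
      have h1 := hout z hxz
      have h2 : δ z ≤ 1 := by
        show (((Order.coheight (α := PrimeSpectrum A) (f z)).toNat : ℕ) : ℤ) + trd f z ≤ 1
        rw [trd_eq_zero_of_isClosed f hzc]
        have := ENat.toNat_le_of_le_natCast (n := 1) (by exact_mod_cast hz1)
        omega
      omega
    have := dim_closure_add hδ 1 x z (fun y hy => by exact_mod_cast hout y hy) hxz hδz d hd
    rw [hx] at this
    omega

end Groth.Agent.S8538
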