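import Groth.Statements.S8541
import Groth.Agent.Lib.FlatCI.Exist
import Groth.Agent.Lib.ProjSpace.BaseChange
import Groth.Agent.Lib.ProjSpace.Dim
import Groth.Agent.Lib.FibreDim.Global

set_option autoImplicit false
universe u
open CategoryTheory CategoryTheory.Limits AlgebraicGeometry Opposite
open EtCd

namespace Groth.Agent.S8541

/-- Let A be a Noetherian local ring, S = Spec A, and X a closed subscheme of the projective space P^N_S
(closed immersion i) whose fibres over S all have dimension at most n. Then there is a closed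
subscheme Z of P^N_S which is flat over S with all fibres of dimension at most n and which contains
X: a closed immersion j : Z → P^N_S with Z → S flat of relative dimension ≤ n and a closed immersion
g : X → Z with g ≫ j = i. -/
theorem result (A : Type u) [CommRing A] [IsNoetherianRing A] [IsLocalRing A]
    (N n : ℕ) {X : Scheme.{u}} (i : X ⟶ CohB1.ProjSpaceOver N (Spec (CommRingCat.of A))) [IsClosedImmersion i]
    (hdim : ∀ s : ↥(Spec (CommRingCat.of A)),
      topologicalKrullDim ↥((i ≫ CohB1.ProjSpaceOver.toBase N (Spec (CommRingCat.of A))).fiber s) ≤ n) :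
    ∃ (Z : Scheme.{u}) (j : Z ⟶ CohB1.ProjSpaceOver N (Spec (CommRingCat.of A))) (g : X ⟶ Z),
      IsClosedImmersion j ∧ IsClosedImmersion g ∧ g ≫ j = i ∧
      Flat (j ≫ CohB1.ProjSpaceOver.toBase N (Spec (CommRingCat.of A))) ∧
      ∀ s : ↥(Spec (CommRingCat.of A)),
        topologicalKrullDim ↥((j ≫ CohB1.ProjSpaceOver.toBase N (Spec (CommRingCat.of A))).fiber s) ≤ n := by
  classical
  let P := Proj (CohB1.polyGrading N A)
  let ω : CohB1.ProjSpaceOver N (Spec (CommRingCat.of A)) ≅ P :=
    Lib.ProjSpace.BaseChange.overSpecIso N A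
  let F : P ⟶ Spec (CommRingCat.of A) := CohB1.ProjSpace.toSpec N A
  haveI hFp : IsProper F := inferInstanceAs (IsProper (CohB1.ProjSpace.toSpec N A))
  have hω : ω.inv ≫ CohB1.ProjSpaceOver.toBase N (Spec (CommRingCat.of A)) = F :=
    Lib.ProjSpace.BaseChange.overSpecIso_inv_toBase N A
  have hF : ∀ l, Lib.ProjSpace.Basic.chartι A l ≫ F = Spec.map (CommRingCat.ofHom MvPolynomial.C) :=
    fun l => Lib.ProjSpace.Basic.chartι_toSpec A l
  let i' : X ⟶ P := i ≫ ω.hom
  have hi'F : i' ≫ F = i ≫ CohB1.ProjSpaceOver.toBase N (Spec (CommRingCat.of A)) := by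
    simp only [i', ← hω, Category.assoc, Iso.hom_inv_id_assoc]
  have hd0 : topologicalKrullDim ↥((i' ≫ F).fiber (IsLocalRing.closedPoint A)) ≤ (n : WithBot ℕ∞) := by
    rw [hi'F]; exact hdim _
  obtain ⟨L, hlen, hL, hLQ⟩ := Lib.FlatCI.Exist.exists_forms (Lib.FlatCI.Chart.ideal i')
    (Lib.FlatCI.Chart.ideal_isHomogeneous i') (N - n)
    (fun l Q hQ h => Lib.FlatCI.Exist.height_of_mem i' F hF hd0 l Q h) (N - n) le_rfl
  obtain ⟨W, j, c, hj, hc, hcj, hcov, hlift⟩ := Lib.FlatCI.Sub.exists_sub L fun f hf => (hL f hf).2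
  obtain ⟨g, hg⟩ := hlift X i' fun f hf => (hL f hf).1
  have hgc : IsClosedImmersion g := by
    haveI : IsClosedImmersion (g ≫ j) := by rw [hg]; infer_instance
    exact IsClosedImmersion.of_comp g j
  have hcF : ∀ l, c l ≫ j ≫ F = Spec.map (CommRingCat.ofHom
      (algebraMap A (MvPolynomial (Fin N) A ⧸ Ideal.ofList (Lib.FlatCI.Sub.eqs L l)))) := fun l => by
    rw [← Category.assoc, hcj]
    erw [Category.assoc, hF, ← Spec.map_comp]
    rfl
  refine ⟨W, j ≫ ω.inv, g, inferInstance, hgc, ?_, ?_, ?_⟩
  · rw [← Category.assoc, hg]; simp [i']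
  · rw [Category.assoc, hω]
    refine Lib.FlatCI.Sub.flat_of_fibre (j ≫ F) _ c hcF hcov fun l Q hQ hQm => ?_
    refine Lib.FlatCI.Alg.flat_atPrime _ (fun Q' hQ' h => ?_) Q hQm
    rw [List.length_map, hlen]
    exact hLQ l Q' hQ' fun f hf => h _ (List.mem_map.2 ⟨f, hf, rfl⟩)
  · rw [Category.assoc, hω]
    have hclosed : topologicalKrullDim ↥((j ≫ F).fiber (IsLocalRing.closedPoint A)) ≤ (n : WithBot ℕ∞) := by
      let Jk : Fin (N + 1) → Ideal (MvPolynomial (Fin N) (IsLocalRing.ResidueField A)) := fun l =>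
        Ideal.ofList ((Lib.FlatCI.Sub.eqs L l).map (Lib.FlatCI.Alg.red A N))
      let π : ∀ l, (MvPolynomial (Fin N) A ⧸ Ideal.ofList (Lib.FlatCI.Sub.eqs L l)) →+*
          MvPolynomial (Fin N) (IsLocalRing.ResidueField A) ⧸ Jk l := fun l =>
        Ideal.quotientMap (Jk l) (Lib.FlatCI.Alg.red A N) (Ideal.map_le_iff_le_comap.1 (Ideal.map_ofList _ _).le)
      have hπ : ∀ l, Function.Surjective (π l) := fun l =>
        Ideal.quotientMap_surjective (Lib.FlatCI.Alg.red_surjective A N)
      let ψ : ∀ l, PrimeSpectrum (MvPolynomial (Fin N) (IsLocalRing.ResidueField A) ⧸ Jk l) → W := fun l t =>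
        c l (PrimeSpectrum.comap (π l) t)
      have hψi : ∀ l, Topology.IsInducing (ψ l) := fun l =>
        (c l).isOpenEmbedding.isInducing.comp (PrimeSpectrum.isClosedEmbedding_comap_of_surjective _ (π l) (hπ l)).isInducing
      have hψm : ∀ l t, (j ≫ F) (ψ l t) = IsLocalRing.closedPoint A := by
        intro l t
        change (c l ≫ j ≫ F) (PrimeSpectrum.comap (π l) t) = _
        rw [hcF]
        refine PrimeSpectrum.ext (le_antisymm (IsLocalRing.le_maximalIdeal (Ideal.IsPrime.ne_top inferInstance))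
          fun a ha => ?_)
        change π l (Ideal.Quotient.mk _ (MvPolynomial.C a)) ∈ t.asIdeal
        rw [Ideal.quotientMap_mk, MvPolynomial.map_C, (IsLocalRing.residue_eq_zero_iff _).2 ha, map_zero, map_zero]
        exact zero_mem _
      have hψe : ∀ l t, ∃ y, (j ≫ F).fiberι (IsLocalRing.closedPoint A) y = ψ l t := fun l t => by
        have : ψ l t ∈ Set.range ((j ≫ F).fiberι (IsLocalRing.closedPoint A)) := by
          rw [Scheme.Hom.range_fiberι]; exact hψm l t
        exact this
      choose φ hφ using hψe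
      have hrange : ∀ l, Set.range (φ l) =
          ((j ≫ F).fiberι (IsLocalRing.closedPoint A)) ⁻¹' (Set.range (c l)) := by
        intro l
        refine Set.Subset.antisymm ?_ fun y hy => ?_
        · rintro _ ⟨t, rfl⟩
          rw [Set.mem_preimage, hφ]
          exact ⟨_, rfl⟩
        obtain ⟨p, hp⟩ := hy
        have hpm : (j ≫ F) (c l p) = IsLocalRing.closedPoint A := by
          rw [hp]
          have : (j ≫ F).fiberι (IsLocalRing.closedPoint A) y ∈
              Set.range ((j ≫ F).fiberι (IsLocalRing.closedPoint A)) := ⟨y, rfl⟩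
          rw [Scheme.Hom.range_fiberι] at this
          exact this
        rw [← Scheme.Hom.comp_apply, hcF] at hpm
        have hker : RingHom.ker (π l) ≤ p.asIdeal := by
          intro x hx
          obtain ⟨x, rfl⟩ := Ideal.Quotient.mk_surjective x
          rw [RingHom.mem_ker, Ideal.quotientMap_mk, Ideal.Quotient.eq_zero_iff_mem] at hx
          rw [show Jk l = (Ideal.ofList (Lib.FlatCI.Sub.eqs L l)).map (Lib.FlatCI.Alg.red A N) from
            (Ideal.map_ofList _ _).symm, ← Ideal.mem_comap,
            Ideal.comap_map_of_surjective _ (Lib.FlatCI.Alg.red_surjective A N), ← RingHom.ker_eq_comap_bot] at hx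
          obtain ⟨u, hu, v, hv, rfl⟩ := Submodule.mem_sup.1 hx
          rw [map_add, Ideal.Quotient.eq_zero_iff_mem.2 hu, zero_add]
          rw [Lib.FlatCI.Alg.ker_red] at hv
          refine (Ideal.map_le_iff_le_comap (K := p.asIdeal.comap (Ideal.Quotient.mk _))).2 (fun a ha => ?_) hv
          exact (congrArg PrimeSpectrum.asIdeal hpm).ge ha
        obtain ⟨t, ht⟩ : p ∈ Set.range (PrimeSpectrum.comap (π l)) := by
          rw [_root_.range_comap_of_surjective _ (π l) (hπ l)]
          exact hker
        refine ⟨t, ((j ≫ F).fiberι _).isEmbedding.injective ?_⟩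
        rw [hφ, ← hp, ← ht]
      refine Lib.ProjSpace.Dim.topologicalKrullDim_le_of_cover φ (fun l => ?_) (fun y => ?_) fun l => ?_
      · have hemb : Topology.IsEmbedding (φ l) := by
          refine ⟨?_, fun a b hab => ?_⟩
          · rw [← ((j ≫ F).fiberι _).isEmbedding.isInducing.of_comp_iff]
            convert hψi l using 1
            exact funext (hφ l)
          · have := congrArg ((j ≫ F).fiberι (IsLocalRing.closedPoint A)) hab
            rw [hφ, hφ] at this
            exact PrimeSpectrum.comap_injective_of_surjective (π l) (hπ l) ((c l).isOpenEmbedding.injective this)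
        exact ⟨hemb, by rw [hrange]; exact (c l).isOpenEmbedding.isOpen_range.preimage ((j ≫ F).fiberι _).continuous⟩
      · obtain ⟨l, hl⟩ := hcov ((j ≫ F).fiberι _ y)
        obtain ⟨t, ht⟩ := (hrange l).ge hl
        exact ⟨l, t, ht⟩
      · rw [PrimeSpectrum.topologicalKrullDim_eq_ringKrullDim]
        have hN : ringKrullDim (MvPolynomial (Fin N) (IsLocalRing.ResidueField A)) ≤ (N : WithBot ℕ∞) := by
          rw [MvPolynomial.ringKrullDim_of_isNoetherianRing, ringKrullDim_eq_zero_of_field]
          simp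
        refine (Lib.FlatCI.Alg.ringKrullDim_quotient_le (Jk l) (N - n) N hN fun Q hQ hle => ?_).trans ?_
        · exact hLQ l Q hQ fun f hf => hle (Ideal.subset_span
            (show _ ∈ List.map _ _ from List.mem_map.2 ⟨_, List.mem_map.2 ⟨f, hf, rfl⟩, rfl⟩))
        · exact_mod_cast (show N - (N - n) ≤ n by omega)
    intro s
    exact (IsLocalRing.specializes_closedPoint s).mem_open
      (Lib.FibreDim.Global.isOpen_setOf_fibre_dim_le (j ≫ F) (j ≫ F).isClosedMap n) hclosed

end Groth.Agent.S8541
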