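import Groth.Statements.S8545
import Groth.Agent.H20.StrictStage
import Groth.Agent.H46.FlatGeomRed
import Groth.Agent.Lib.Flat55.ResTrdegBC
import Groth.Agent.Lib.Cyc.FieldDim

set_option autoImplicit false
universe u
open CategoryTheory CategoryTheory.Limits AlgebraicGeometry Opposite
open EtCd

namespace Groth.Agent.S8545

theorem stalk_essFiniteType (k : Type u) [Field k] {Y : Scheme.{u}} (aY : Y ⟶ Spec (CommRingCat.of k))
    [LocallyOfFiniteType aY] (y₀ : Y) :
    ∃ _ : Algebra k (Y.presheaf.stalk y₀), Algebra.EssFiniteType k (Y.presheaf.stalk y₀) := by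
  obtain ⟨_, ⟨U, hU, rfl⟩, hyU, -⟩ :=
    Y.isBasis_affineOpens.exists_subset_of_mem_open (Set.mem_univ y₀) isOpen_univ
  letI := (Groth.Agent.Lib.Cyc.FieldDim.structHom aY U).toAlgebra
  haveI : Algebra.FiniteType k Γ(Y, U) := Groth.Agent.Lib.Cyc.FieldDim.structHom_finiteType aY hU
  letI : Algebra Γ(Y, U) (Y.presheaf.stalk y₀) := TopCat.Presheaf.algebra_section_stalk Y.presheaf ⟨y₀, hyU⟩
  haveI := hU.isLocalization_stalk ⟨y₀, hyU⟩
  letI : Algebra k (Y.presheaf.stalk y₀) :=
    ((algebraMap Γ(Y, U) (Y.presheaf.stalk y₀)).comp (algebraMap k Γ(Y, U))).toAlgebra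
  haveI : IsScalarTower k Γ(Y, U) (Y.presheaf.stalk y₀) := IsScalarTower.of_algebraMap_eq' rfl
  haveI : Algebra.EssFiniteType Γ(Y, U) (Y.presheaf.stalk y₀) :=
    Algebra.EssFiniteType.of_isLocalization _ (hU.primeIdealOf ⟨y₀, hyU⟩).asIdeal.primeCompl
  exact ⟨inferInstance, Algebra.EssFiniteType.comp k Γ(Y, U) _⟩

/-- Let f : X → Y be a morphism of schemes of finite type over a field k, x a point of X with image y,
y₀ a specialization of y in Y, R a strict henselization of the local ring of Y at y₀ with Y' = Spec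
R → Y the strict localization and X' = X ×_Y Y' with projection f' : X' → Y', and let x' be a point
of X' lying over x, with image y' in Y'. Writing δ(x') = dim closure(y') + trdeg(κ(x')/κ(y'))
(closure in Y' = Spec R, so dim closure(y') = dim R/p_{y'}) and d for the dimension of the closure
of a point in X or Y, one has δ(x') = d(x) - d(y₀); stated as δ(x') + d(y₀) = d(x). -/
theorem result (k : Type u) [Field k] {X Y : Scheme.{u}}
    (aX : X ⟶ Spec (CommRingCat.of k)) (aY : Y ⟶ Spec (CommRingCat.of k)) [LocallyOfFiniteType aX] [QuasiCompact aX]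
    [LocallyOfFiniteType aY] [QuasiCompact aY] (f : X ⟶ Y) (w : f ≫ aY = aX) (x : X) (y₀ : Y) (hsp : f.base x ⤳ y₀)
    (R : Type u) [CommRing R] [IsLocalRing R] [Algebra (Y.presheaf.stalk y₀) R]
    [IsLocalHom (algebraMap (Y.presheaf.stalk y₀) R)] [Hensel.IsStrictHenselization (Y.presheaf.stalk y₀) R]
    (x' : ↥(pullback f (Hens2.specOf Y y₀ R))) (hx' : (pullback.fst f (Hens2.specOf Y y₀ R)).base x' = x)
    (a b dx dy : ℕ)
    (ha : ringKrullDim (R ⧸ ((pullback.snd f (Hens2.specOf Y y₀ R)).base x').asIdeal) = a)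
    (hb : letI := ((pullback.snd f (Hens2.specOf Y y₀ R)).residueFieldMap x').hom.toAlgebra;
      Algebra.trdeg ((Spec (CommRingCat.of R)).residueField ((pullback.snd f (Hens2.specOf Y y₀ R)).base x'))
        ((pullback f (Hens2.specOf Y y₀ R)).residueField x') = b)
    (hdx : topologicalKrullDim ↥(closure ({x} : Set X)) = dx)
    (hdy : topologicalKrullDim ↥(closure ({y₀} : Set Y)) = dy) :
    a + b + dy = dx := by
  obtain ⟨iA, hA⟩ := stalk_essFiniteType k aY y₀
  haveI : IsNoetherianRing (Y.presheaf.stalk y₀) := Algebra.EssFiniteType.isNoetherianRing k _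
  let g := Hens2.specOf Y y₀ R
  have sq : IsPullback (pullback.fst f g) (pullback.snd f g) f g := IsPullback.of_hasPullback f g
  let P : PrimeSpectrum R := (pullback.snd f g).base x'
  let p : PrimeSpectrum (Y.presheaf.stalk y₀) := P.comap (algebraMap (Y.presheaf.stalk y₀) R)
  have hy : Y.fromSpecStalk y₀ p = f x := by
    have h := congrArg (fun h => h.base x') sq.w
    simp only [Scheme.Hom.comp_base, TopCat.comp_app] at h
    rw [← hx']
    exact h.symm
  have hspec : f x ⤳ y₀ := hsp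
  have hδ := Groth.Agent.Lib.Cyc.FieldDim.isDimFun_fdelta aY
  have hmono := Groth.Agent.Lib.Cyc.DimFun.le_of_specializes hδ hspec
  have hδy₀ := Groth.Agent.Lib.Cyc.FieldDim.fdelta_nonneg aY y₀
  have hdimA : ringKrullDim (Y.presheaf.stalk y₀ ⧸ p.asIdeal) =
      (((Groth.Agent.Lib.Cyc.FieldDim.fdelta aY (f x)) -
        Groth.Agent.Lib.Cyc.FieldDim.fdelta aY y₀).toNat : WithBot ℕ∞) := by
    conv_lhs => rw [Groth.Agent.Lib.Cyc.DimFun.eq_genPrime y₀ p]
    have h := Groth.Agent.Lib.Cyc.DimFun.ringKrullDim_locQuot hδ y₀ (Y.fromSpecStalk y₀ p)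
      (Groth.Agent.Lib.Cyc.DimFun.fromSpecStalk_specializes_self y₀ p)
    exact h.trans (by rw [hy])
  have hdimR := Groth.Agent.H20.StrictStage.dim_quotient_strict (A := Y.presheaf.stalk y₀) k P
  rw [show ringKrullDim (R ⧸ P.asIdeal) = (a : WithBot ℕ∞) from ha] at hdimR
  replace hdimR := hdimR.trans hdimA
  have ha' : a = (Groth.Agent.Lib.Cyc.FieldDim.fdelta aY (f x) -
      Groth.Agent.Lib.Cyc.FieldDim.fdelta aY y₀).toNat := by exact_mod_cast hdimR
  have hg0 : Groth.Agent.Lib.Cyc.Residue.trdegAt g P = 0 := by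
    show Groth.Agent.Lib.Cyc.Residue.trdegAt
      (Spec.map (CommRingCat.ofHom (algebraMap (Y.presheaf.stalk y₀) R)) ≫ Y.fromSpecStalk y₀) P = 0
    rw [Groth.Agent.Lib.Cyc.Residue.trdegAt_comp,
      Groth.Agent.Lib.Cyc.FieldDim.trdegAt_eq_zero_of_surjective _ _
        (Groth.Agent.Lib.Cyc.FieldDim.residueFieldMap_surjective _ _), zero_add,
      Groth.Agent.H46.FlatGeomRed.trdegAt_sm (R := Y.presheaf.stalk y₀) P]
    letI := (Ideal.ResidueField.map p.asIdeal P.asIdeal (algebraMap (Y.presheaf.stalk y₀) R) rfl).toAlgebra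
    haveI := Groth.Agent.H20.StrictStage.isAlgebraic_residueField P p.asIdeal rfl
    exact trdeg_eq_zero
  have hb' : Groth.Agent.Lib.Cyc.Residue.trdegAt (pullback.snd f g) x' = (b : Cardinal) := hb
  have hbe : Groth.Agent.Lib.Cyc.Residue.trdegAt f x = (b : Cardinal) := by
    have h1 := Groth.Agent.Lib.Flat55.ResTrdegBC.trdegAt_le sq x'
    have h2 := Groth.Agent.Lib.Cyc.Residue.trdegAt_comp (pullback.fst f g) f x'
    rw [Groth.Agent.Lib.Cyc.FieldDim.trdegAt_congr sq.w,
      Groth.Agent.Lib.Cyc.Residue.trdegAt_comp, hg0, zero_add] at h2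
    rw [hb', hx'] at h1 h2
    exact le_antisymm ((self_le_add_right _ _).trans h2.ge) h1
  have hx2 := Groth.Agent.Lib.Cyc.Residue.trdegAt_comp f aY x
  rw [Groth.Agent.Lib.Cyc.FieldDim.trdegAt_congr w, hbe,
    Groth.Agent.Lib.Cyc.FieldDim.trdegAt_eq_fdelta, Groth.Agent.Lib.Cyc.FieldDim.trdegAt_eq_fdelta] at hx2
  rw [Groth.Agent.Lib.Cyc.FieldDim.topologicalKrullDim_closure aX] at hdx
  rw [Groth.Agent.Lib.Cyc.FieldDim.topologicalKrullDim_closure aY] at hdy
  have h3 : (Groth.Agent.Lib.Cyc.FieldDim.fdelta aX x).toNat =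
      (Groth.Agent.Lib.Cyc.FieldDim.fdelta aY (f x)).toNat + b := by exact_mod_cast hx2
  have h4 : (Groth.Agent.Lib.Cyc.FieldDim.fdelta aX x).toNat = dx := by exact_mod_cast hdx
  have h5 : (Groth.Agent.Lib.Cyc.FieldDim.fdelta aY y₀).toNat = dy := by exact_mod_cast hdy
  omega

end Groth.Agent.S8545
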