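import Groth.Statements.S8546
import Groth.Agent.H88.EtMod.DescendLfp
import Groth.Agent.H88.EtMod.PBCOps

set_option autoImplicit false
universe u
open CategoryTheory CategoryTheory.Limits AlgebraicGeometry Opposite
open EtPBC

namespace Groth.Agent.S8546

/-- Let f : X → Y be a surjective morphism locally of finite presentation and F an abelian sheaf on the
small etale site of Y. Then F is constructible if and only if f⁻¹F is constructible. (No
quasi-compactness hypothesis on X or Y.) -/
theorem result {X Y : Scheme.{u}} (f : X ⟶ Y) [Surjective f]
    [LocallyOfFinitePresentation f] (F : EtCoh.Ab Y) :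
    EtPBC.IsConstructible F ↔ EtPBC.IsConstructible ((EtCoh.pull f).obj F) := by
  exact ⟨fun h => H88.EtMod.PBCOps.isConstructible_pull f h,
    fun h => H88.EtMod.Descend.isConstructible_of_pull_lfp f h⟩

end Groth.Agent.S8546
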