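import Groth.Statements.S8547
import Groth.Agent.Lib.EtSite.BCGerm
import Groth.Agent.Lib.EtSite.MinusOne

set_option autoImplicit false
universe u
open CategoryTheory CategoryTheory.Limits AlgebraicGeometry Opposite
open EtBC

namespace Groth.Agent.S8547

/-- Let h : Y → X and p : X̄ → X be morphisms of schemes with X, Y, X̄ quasi-compact and quasi-separated
(p need not be surjective), and Ȳ = Y ×_X X̄ with projections h̄ : Ȳ → X̄ and p_Y : Ȳ → Y. If the
pullback map on global sections Γ(X, F) → Γ(Y, h^*F) is injective for every sheaf of sets F on X and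
the base change morphism h^* p_* F̄ → p_{Y*} h̄^* F̄ is a monomorphism for every sheaf of sets F̄ on
X̄, then Γ(X̄, F̄) → Γ(Ȳ, h̄^*F̄) is injective for every F̄. If the maps for h are bijective and the
base change morphisms are isomorphisms, then the maps for h̄ are bijective. -/
theorem result {X Y Xb Yb : Scheme.{u}} [CompactSpace X]
    [QuasiSeparatedSpace X] [CompactSpace Y] [QuasiSeparatedSpace Y] [CompactSpace Xb] [QuasiSeparatedSpace Xb]
    (h : Y ⟶ X) (p : Xb ⟶ X) (hb : Yb ⟶ Xb) (pY : Yb ⟶ Y) (sq : IsPullback hb pY p h) :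
    ((∀ F : EtDesc.Sh X, Function.Injective (EtDesc.secPull h F)) →
      (∀ Fb : EtDesc.Sh Xb, Mono (EtBC.baseChange0Sh p h pY hb sq.w Fb)) →
      ∀ Fb : EtDesc.Sh Xb, Function.Injective (EtDesc.secPull hb Fb)) ∧
    ((∀ F : EtDesc.Sh X, Function.Bijective (EtDesc.secPull h F)) →
      (∀ Fb : EtDesc.Sh Xb, IsIso (EtBC.baseChange0Sh p h pY hb sq.w Fb)) →
      ∀ Fb : EtDesc.Sh Xb, Function.Bijective (EtDesc.secPull hb Fb)) := by
  open Groth.Agent.Lib.EtSite Groth.Agent.Lib.EtSite.SubDescent Groth.Agent.Lib.EtSite.BCGerm in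
  have key : ∀ (Fb : EtDesc.Sh Xb) (σ : EtDesc.sect Fb (EtCoh.top Xb)),
      (EtBC.baseChange0Sh p h pY hb sq.w Fb).hom.app (op (EtCoh.top Y))
        (EtDesc.secPull h _ (ofSrc p Fb σ)) =
        ofSrc pY _ (EtDesc.secPull hb Fb σ) := by
    intro Fb σ
    rw [← ofSrc_toSrc pY _ ((EtBC.baseChange0Sh p h pY hb sq.w Fb).hom.app (op (EtCoh.top Y))
        (EtDesc.secPull h _ (ofSrc p Fb σ)))]
    refine congrArg (ofSrc pY _) (top_ext _ _ _ fun z => ?_)
    refine ⟨_, inferInstance, inferInstance, Push.algPoint Yb z, Push.algPoint_apply Yb z default, ?_⟩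
    have h₀ : (Push.algPoint Yb z ≫ hb) ≫ p = (Push.algPoint Yb z ≫ pY) ≫ h := by
      rw [Category.assoc, sq.w, Category.assoc]
    rw [← germTo_top pY _ _ rfl, ← stalkMap_germ, germ_secPull h _ rfl,
      germTo_baseChange0Sh sq.w Fb rfl rfl rfl h₀, germTo_top p Fb _ h₀, toSrc_ofSrc,
      germ_secPull hb Fb rfl]
  have hinj : (∀ F : EtDesc.Sh X, Function.Injective (EtDesc.secPull h F)) →
      (∀ Fb : EtDesc.Sh Xb, Mono (EtBC.baseChange0Sh p h pY hb sq.w Fb)) →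
      ∀ Fb : EtDesc.Sh Xb, Function.Injective (EtDesc.secPull hb Fb) := by
    intro hi hm Fb σ σ' e
    have := hm Fb
    have e' := Groth.Agent.Lib.EtSite.SubSheaf.injective_app (EtBC.baseChange0Sh p h pY hb sq.w Fb)
      (EtCoh.top Y) ((key Fb σ).trans ((congrArg (Groth.Agent.Lib.EtSite.BCGerm.ofSrc pY _) e).trans
        (key Fb σ').symm))
    have e2 := congrArg (Groth.Agent.Lib.EtSite.BCGerm.toSrc p Fb) (hi _ e')
    rwa [Groth.Agent.Lib.EtSite.BCGerm.toSrc_ofSrc, Groth.Agent.Lib.EtSite.BCGerm.toSrc_ofSrc] at e2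
  refine ⟨hinj, fun hbij hiso Fb => ⟨hinj (fun F => (hbij F).1) (fun F => ?_) Fb, fun τ => ?_⟩⟩
  · have := hiso F
    infer_instance
  · have := hiso Fb
    have hi := Groth.Agent.Lib.EtSite.SubSheaf.injective_app
      (EtBC.baseChange0Sh p h pY hb sq.w Fb) (EtCoh.top Y)
    obtain ⟨r, hr⟩ : ∃ r, (EtBC.baseChange0Sh p h pY hb sq.w Fb).hom.app (op (EtCoh.top Y)) r =
        Groth.Agent.Lib.EtSite.BCGerm.ofSrc pY _ τ := by
      refine ⟨(inv (EtBC.baseChange0Sh p h pY hb sq.w Fb)).hom.app (op (EtCoh.top Y))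
        (Groth.Agent.Lib.EtSite.BCGerm.ofSrc pY _ τ), ?_⟩
      exact congrArg (fun m : (EtDesc.pushSh pY).obj ((EtDesc.pullSh hb).obj Fb) ⟶ _ =>
        m.hom.app (op (EtCoh.top Y)) (Groth.Agent.Lib.EtSite.BCGerm.ofSrc pY _ τ))
          (IsIso.inv_hom_id (EtBC.baseChange0Sh p h pY hb sq.w Fb))
    obtain ⟨s, rfl⟩ := (hbij _).2 r
    refine ⟨Groth.Agent.Lib.EtSite.BCGerm.toSrc p Fb s, ?_⟩
    have e := key Fb (Groth.Agent.Lib.EtSite.BCGerm.toSrc p Fb s)
    rw [Groth.Agent.Lib.EtSite.BCGerm.ofSrc_toSrc, hr] at e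
    have e2 := congrArg (Groth.Agent.Lib.EtSite.BCGerm.toSrc pY _) e
    rw [Groth.Agent.Lib.EtSite.BCGerm.toSrc_ofSrc, Groth.Agent.Lib.EtSite.BCGerm.toSrc_ofSrc] at e2
    exact e2.symm

end Groth.Agent.S8547
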