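import Groth.Statements.S8548
import Groth.Agent.Lib.EtDiscrete.Main
-- import your own Groth.Agent.* helpers here

set_option autoImplicit false
universe u
open CategoryTheory CategoryTheory.Limits AlgebraicGeometry Opposite
open EtAcyc

namespace Groth.Agent.S8548

/-- Let g : X → Y be surjective with Y discrete. Then g is a morphism of universal effective descent for
etale sheaves of sets: for every cartesian square with base change g₁ : X₁ → Y₁ of g and every sheaf
of sets F' on the small etale site of X₁ with an isomorphism pr₁^* F' ≅ pr₂^* F' on X₁ ×_{Y₁} X₁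
satisfying the cocycle condition, the datum is effective. -/
theorem result {X Y : Scheme.{u}} (g : X ⟶ Y) [Surjective g]
    [DiscreteTopology Y] :
    ∀ ⦃X₁ Y₁ : Scheme.{u}⦄ (g₁ : X₁ ⟶ Y₁) (b' : X₁ ⟶ X) (b : Y₁ ⟶ Y), IsPullback b' g₁ g b →
      ∀ (F' : EtDesc.Sh X₁)
        (φ : (EtDesc.pullSh (pullback.fst g₁ g₁)).obj F' ≅ (EtDesc.pullSh (pullback.snd g₁ g₁)).obj F'),
        EtDesc.IsCocycle F' φ → EtDesc.IsEffective g₁ F' φ := by
  intro X₁ Y₁ g₁ b' b sq F' φ hφ
  exact Groth.Agent.Lib.EtDiscrete.isEffective sq F' φ hφ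

end Groth.Agent.S8548
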