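import Groth.Statements.S8556
import Groth.Agent.Lib.NAH1.Fibre

set_option autoImplicit false
universe u
open CategoryTheory CategoryTheory.Limits AlgebraicGeometry Opposite
open NonAbH1

namespace Groth.Agent.S8556

/-- Exactness of the non-abelian cohomology sequence at H¹(X, F): let u : F ⟶ G be a morphism of sheaves
of groups on the small etale site of a scheme X that is injective on sections over every object, and
let the G-sheaf Q with its equivariant map π from G (acting on itself by left translation) be the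
quotient G/F (π identifies two sections of G exactly when they differ by right multiplication by a
section of F, and is locally surjective). Then for an F-torsor T the following are equivalent: the
image of the class of T under u is the base point of H¹(X, G), in the sense that there is a
u-equivariant morphism of sheaves of sets from T to G acting on itself by left translation; T is the
sheaf of local liftings to G of some global section c of Q (with F acting on liftings by f · g = g
u(f)⁻¹), that is, the class of T is a boundary ∂c. -/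
theorem result {X : Scheme.{u}} {F G : Sheaf X.smallEtaleTopology GrpCat.{u + 1}}
    (u : F ⟶ G) (hu : ∀ U : X.Etaleᵒᵖ, Function.Injective (u.hom.app U))
    {Q : NonAbH1.GSheaf G} (π : NonAbH1.GSheaf.trivial.{u + 1, u, u + 1} G ⟶ Q) (hQ : NonAbH1.GSheaf.IsQuotientBy.{u + 1, u, u + 1} u π)
    (T : NonAbH1.Torsor F) :
    NonAbH1.GSheaf.IsPushforwardAlong.{u + 1, u, u + 1} u T.toGSheaf (NonAbH1.GSheaf.trivial.{u + 1, u, u + 1} G) ↔
      ∃ c : Q.P.obj.sections, NonAbH1.GSheaf.IsFibreOver.{u + 1, u, u + 1} u π c T.toGSheaf := by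
  constructor
  · rintro ⟨f, hf⟩
    let ψ : ∀ U : X.Etaleᵒᵖ, T.P.obj.obj U → G.obj.obj U := fun U t =>
      (NonAbH1.GSheaf.toGrp.{u + 1, u, u + 1} (f.hom.app U t))⁻¹
    have ψs : ∀ U k t, ψ U (T.smul k t) = ψ U t * (u.hom.app U k)⁻¹ := fun U k t => by
      show (NonAbH1.GSheaf.toGrp.{u + 1, u, u + 1} (f.hom.app U (T.smul k t)))⁻¹ = _
      rw [hf U k t]
      exact mul_inv_rev _ _
    have ψn : ∀ U V (a : U ⟶ V) t, G.obj.map a (ψ U t) = ψ V (T.P.obj.map a t) := fun U V a t => by
      show G.obj.map a (NonAbH1.GSheaf.toGrp.{u + 1, u, u + 1} (f.hom.app U t))⁻¹ = _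
      rw [map_inv]
      exact congrArg (·⁻¹) (NatTrans.naturality_apply f.hom a t).symm
    have ψp : ∀ U t t', Groth.Agent.Lib.NAH1.Fibre.pi'.{u + 1, u, u + 1} π (ψ U t) =
        Groth.Agent.Lib.NAH1.Fibre.pi'.{u + 1, u, u + 1} π (ψ U t') := fun U t t' => by
      obtain ⟨k, rfl, -⟩ := T.isTorsor.1 U t t'
      rw [ψs]
      exact (hQ.1 U _ _).mpr ⟨k⁻¹, by rw [map_inv]⟩
    choose S hS hne using T.isTorsor.2
    choose c hc hcu using fun U : X.Etale => Groth.Agent.Lib.NAH1.Basic.existsUnique_glue Q.P (S U)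
      (hS U) (fun V a h => Groth.Agent.Lib.NAH1.Fibre.pi'.{u + 1, u, u + 1} π (ψ (op V) (hne U a h).some))
      (fun V W d a h => by
        refine (Groth.Agent.Lib.NAH1.Fibre.pi_natural.{u + 1, u, u + 1} π d.op _).symm.trans ?_
        rw [ψn]
        exact ψp _ _ _)
    have hct : ∀ (U : X.Etale) t, Groth.Agent.Lib.NAH1.Fibre.pi'.{u + 1, u, u + 1} π (ψ (op U) t) = c U := fun U t =>
      hcu U _ fun V a h => by
        refine (Groth.Agent.Lib.NAH1.Fibre.pi_natural.{u + 1, u, u + 1} π a.op _).symm.trans ?_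
        rw [ψn]
        exact ψp _ _ _
    have hcn : ∀ (U V : X.Etale) (a : V ⟶ U), Q.P.obj.map a.op (c U) = c V := fun U V a => by
      refine Groth.Agent.Lib.NAH1.Basic.ext_on_sieve Q.P _ (hS V) fun W b hb => ?_
      rw [Groth.Agent.Lib.NAH1.Basic.map_comp_set, hc V b hb, hct W]
      refine Groth.Agent.Lib.NAH1.Basic.ext_on_sieve Q.P _
        (X.smallEtaleTopology.pullback_stable (b ≫ a) (hS U)) fun W' d hd => ?_
      rw [Groth.Agent.Lib.NAH1.Basic.map_comp_set, hc U _ hd, hct W', ← hct W (hne V b hb).some]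
      refine Eq.trans ?_ (Groth.Agent.Lib.NAH1.Fibre.pi_natural.{u + 1, u, u + 1} π d.op _)
      rw [ψn, hct W']
    refine ⟨⟨fun U => c U.unop, fun {U V} a => hcn _ _ a.unop⟩,
      ⟨{ app := fun U => ↾fun t => NonAbH1.GSheaf.ofGrp.{u + 1, u, u + 1} (ψ U t)
         naturality := fun U V a => by ext t; exact (ψn U V a t).symm }⟩, ?_, ?_, fun U k t => ψs U k t⟩
    · intro U t t' h
      obtain ⟨k, rfl, -⟩ := T.isTorsor.1 U t t'
      have h' : ψ U t = ψ U (T.smul k t) := h
      rw [ψs, left_eq_mul, inv_eq_one] at h'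
      rw [(map_eq_one_iff _ (hu U)).mp h', T.one_smul]
    · intro U g
      constructor
      · rintro ⟨t, rfl⟩
        exact hct U.unop t
      · intro hg
        have loc : ∀ ⦃V : X.Etale⦄ (a : V ⟶ U.unop), S U.unop a →
            ∃! t : T.P.obj.obj (op V), ψ (op V) t = G.obj.map a.op g := by
          intro V a h
          obtain ⟨k, hk⟩ := (hQ.1 (op V) (ψ (op V) (hne U.unop a h).some) (G.obj.map a.op g)).mp (by
            refine (hct V _).trans ((hcn _ _ a).symm.trans ?_)
            refine Eq.trans ?_ (Groth.Agent.Lib.NAH1.Fibre.pi_natural.{u + 1, u, u + 1} π a.op g).symm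
            exact congrArg (fun q => Q.P.obj.map a.op q) hg.symm)
          refine ⟨T.smul k⁻¹ (hne U.unop a h).some, by dsimp only; rw [ψs, map_inv, inv_inv, ← hk],
            fun t ht => ?_⟩
          obtain ⟨k', rfl, -⟩ := T.isTorsor.1 (op V) (hne U.unop a h).some t
          have h1 : ψ (op V) (T.smul k' (hne U.unop a h).some) = _ := ht
          rw [ψs, hk, mul_right_inj] at h1
          rw [← hu _ ((map_inv _ k').trans h1), inv_inv]
        choose x hx hxu using loc
        obtain ⟨t, ht, -⟩ := Groth.Agent.Lib.NAH1.Basic.existsUnique_glue T.P (S U.unop) (hS _) x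
          (fun V W d a h => hxu (d ≫ a) _ _ (by
            dsimp only
            rw [← ψn, hx a h, Groth.Agent.Lib.NAH1.Basic.map_comp_grp]))
        refine ⟨t, Groth.Agent.Lib.NAH1.Basic.ext_on_sieve_grp G _ (hS U.unop) fun V a h => ?_⟩
        refine (ψn _ _ a.op t).trans ?_
        rw [ht a h, hx a h]
  · rintro ⟨c, ι, -, -, heq⟩
    refine ⟨⟨{ app := fun U => ↾fun t => NonAbH1.GSheaf.ofGrp.{u + 1, u, u + 1} (NonAbH1.GSheaf.toGrp.{u + 1, u, u + 1} (ι.hom.app U t))⁻¹
               naturality := fun U V a => ?_ }⟩, fun U k t => ?_⟩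
    · ext t
      show (NonAbH1.GSheaf.toGrp.{u + 1, u, u + 1} (ι.hom.app V (T.P.obj.map a t)))⁻¹ =
        G.obj.map a (NonAbH1.GSheaf.toGrp.{u + 1, u, u + 1} (ι.hom.app U t))⁻¹
      rw [map_inv]
      exact congrArg (·⁻¹) (NatTrans.naturality_apply ι.hom a t)
    · show (NonAbH1.GSheaf.toGrp.{u + 1, u, u + 1} (ι.hom.app U (T.smul k t)))⁻¹ =
        u.hom.app U k * (NonAbH1.GSheaf.toGrp.{u + 1, u, u + 1} (ι.hom.app U t))⁻¹
      rw [heq, mul_inv_rev, inv_inv]

end Groth.Agent.S8556
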