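import Groth.Statements.S8558
import Groth.Agent.Lib.NAH1.Fibre

set_option autoImplicit false
universe u
open CategoryTheory CategoryTheory.Limits AlgebraicGeometry Opposite
open NonAbH1

namespace Groth.Agent.S8558

/-- Exactness of the non-abelian cohomology sequence at the global sections of the quotient: let u : F ⟶
G be a morphism of sheaves of groups on the small etale site of a scheme X that is injective on
sections over every object, and let the G-sheaf Q with its equivariant map π from G (acting on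
itself by left translation) be the quotient G/F (π identifies two sections of G exactly when they
differ by right multiplication by a section of F, and is locally surjective). If the F-torsor T is
the sheaf of local liftings of a global section c of Q to G (F acting by f · g = g u(f)⁻¹), then the
class of T in H¹(X, F) is the base point, ∂c = 1, if and only if c is the image under π of a global
section of G. -/
theorem result {X : Scheme.{u}} {F G : Sheaf X.smallEtaleTopology GrpCat.{u + 1}}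
    (u : F ⟶ G) (hu : ∀ U : X.Etaleᵒᵖ, Function.Injective (u.hom.app U))
    {Q : NonAbH1.GSheaf G} (π : NonAbH1.GSheaf.trivial.{u + 1, u, u + 1} G ⟶ Q) (hQ : NonAbH1.GSheaf.IsQuotientBy.{u + 1, u, u + 1} u π)
    (c : Q.P.obj.sections) (T : NonAbH1.Torsor F) (hT : NonAbH1.GSheaf.IsFibreOver.{u + 1, u, u + 1} u π c T.toGSheaf) :
    T.cl = 1 ↔
      ∃ g : (NonAbH1.GSheaf.uSh.{u + 1, u, u + 1} G).obj.sections, ∀ U : X.Etaleᵒᵖ, π.hom.hom.app U (g.1 U) = c.1 U := by
  -- the trivial torsor is the sheaf of liftings of `π 1`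
  let c₀ : Q.P.obj.sections := ⟨fun U => π.hom.hom.app U (NonAbH1.GSheaf.ofGrp.{u + 1, u, u + 1} (1 : G.obj.obj U)),
    fun {U V} a => by
      refine (Groth.Agent.Lib.NAH1.Fibre.pi_natural.{u + 1, u, u + 1} π a (1 : G.obj.obj U)).symm.trans ?_
      rw [map_one]⟩
  have h₀ : NonAbH1.GSheaf.IsFibreOver.{u + 1, u, u + 1} u π c₀
      (NonAbH1.GSheaf.trivial.{u + 1, u, u + 1} F) := by
    refine ⟨⟨{ app := fun U => ↾fun f => NonAbH1.GSheaf.ofGrp.{u + 1, u, u + 1} ((u.hom.app U (NonAbH1.GSheaf.toGrp.{u + 1, u, u + 1} f))⁻¹)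
               naturality := fun U V a => ?_ }⟩, ?_, ?_, ?_⟩
    · ext f
      show (u.hom.app V (F.obj.map a _))⁻¹ = G.obj.map a (u.hom.app U _)⁻¹
      exact (congrArg (·⁻¹) (Groth.Agent.Lib.NAH1.Fibre.u_natural.{u + 1, u, u + 1} u a
        (NonAbH1.GSheaf.toGrp.{u + 1, u, u + 1} f))).trans (map_inv (G.obj.map a).hom _).symm
    · intro U f f' h
      exact hu U (inv_injective h)
    · intro U g
      constructor
      · rintro ⟨f, rfl⟩
        exact ((hQ.1 U _ _).mpr ⟨(NonAbH1.GSheaf.toGrp.{u + 1, u, u + 1} f)⁻¹, by simp⟩).symm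
      · intro h
        obtain ⟨f, hf⟩ := (hQ.1 U _ _).mp h.symm
        refine ⟨NonAbH1.GSheaf.ofGrp.{u + 1, u, u + 1} f⁻¹, ?_⟩
        show (u.hom.app U f⁻¹)⁻¹ = g
        rw [map_inv, inv_inv, hf, one_mul]
    · intro U f t
      show (u.hom.app U (f * _))⁻¹ = (u.hom.app U _)⁻¹ * (u.hom.app U f)⁻¹
      rw [map_mul, mul_inv_rev]
  have hc₀ : ∀ (U : X.Etaleᵒᵖ) (g : G.obj.obj U),
      Q.smul g (c₀.1 U) = π.hom.hom.app U (NonAbH1.GSheaf.ofGrp.{u + 1, u, u + 1} g) := fun U g => by
    refine (Groth.Agent.Lib.NAH1.Fibre.pi_smul.{u + 1, u, u + 1} π g 1).symm.trans ?_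
    rw [mul_one]
  constructor
  · intro h
    have key : ∀ P P' : NonAbH1.Torsor F, Quot.mk
        (fun A B : NonAbH1.Torsor F => Nonempty (A.toGSheaf ≅ B.toGSheaf)) P = Quot.mk _ P' →
        Nonempty (P.toGSheaf ≅ P'.toGSheaf) := fun P P' e => by
      have h2 := Quot.eqvGen_exact e
      clear e
      induction h2 with
      | rel _ _ h => exact h
      | refl _ => exact ⟨Iso.refl _⟩
      | symm _ _ _ h => exact h.map Iso.symm
      | trans _ _ _ _ _ h h' => exact ⟨h.some ≪≫ h'.some⟩
    obtain ⟨e⟩ := key T (NonAbH1.trivialTorsor F) h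
    obtain ⟨g, hg⟩ := Groth.Agent.Lib.NAH1.Fibre.exists_translate_of_iso.{u + 1, u, u + 1} hu hQ h₀ hT e.symm
    exact ⟨g, fun U => (hc₀ U _).symm.trans (hg U)⟩
  · rintro ⟨g, hg⟩
    refine Quot.sound (Nonempty.map Iso.symm ?_)
    exact Groth.Agent.Lib.NAH1.Fibre.nonempty_iso_of_translate.{u + 1, u, u + 1} h₀ hT
      (fun U => NonAbH1.GSheaf.toGrp.{u + 1, u, u + 1} (g.1 U)) (fun U V a => g.2 a) fun U => (hc₀ U _).trans (hg U)

end Groth.Agent.S8558
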