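import Groth.Statements.S8561
import Groth.Agent.H88.EtMod.Filtration

set_option autoImplicit false
universe u
open CategoryTheory CategoryTheory.Limits AlgebraicGeometry Opposite
open EtPBC

namespace Groth.Agent.S8561

/-- Let X be a quasi-compact and quasi-separated scheme and F a constructible abelian sheaf on the small
etale site of X (every affine open has a finite partition into constructible locally closed strata
along which F is finite locally constant). Then F has a finite filtration whose successive quotients
are extensions by zero of finite locally constant sheaves on constructible locally closed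
subschemes: there are abelian sheaves 0 = E₀, E₁, …, E_n with E_n ≅ F and short exact sequences 0 →
E_k → E_{k+1} → j_!(c_* G) → 0, where j : U ⟶ X is an open immersion, c : W ⟶ U a closed immersion
with the image of c ≫ j constructible in X, and G a finite locally constant abelian sheaf on W. (The
refinement with irreducible strata for X Noetherian is not stated.) -/
theorem result {X : Scheme.{u}} [CompactSpace X]
    [QuasiSeparatedSpace X] (F : EtCoh.Ab X) (hF : EtPBC.IsConstructible F) :
    ∃ (n : ℕ) (E : Fin (n + 1) → EtCoh.Ab X) (ι : ∀ k : Fin n, E k.castSucc ⟶ E k.succ),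
      IsZero (E 0) ∧ Nonempty (E (Fin.last n) ≅ F) ∧
      ∀ k : Fin n, ∃ (U W : Scheme.{u}) (j : U ⟶ X) (_ : IsOpenImmersion j) (c : W ⟶ U)
        (_ : IsClosedImmersion c) (G : EtCoh.Ab W)
        (π : E k.succ ⟶ (EtShriek.extZero j).obj ((EtCoh.push c).obj G)) (hz : ι k ≫ π = 0),
        Topology.IsConstructible (Set.range (c ≫ j)) ∧ EtCoh.IsFiniteLocallyConstant G ∧
        (ShortComplex.mk (ι k) π hz).ShortExact := by
  classical
  obtain ⟨N, O, h0, hN, hstep⟩ := Groth.Agent.H88.EtMod.Filtration.exists_chain F hF
  choose hle hcons T g hg hsub hlc using hstep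
  choose ι hι using fun k : Fin N => Groth.Agent.H88.EtMod.Filtration.exists_incl F (hle k k.2)
  refine ⟨N, fun k => Groth.Agent.H88.EtMod.Filtration.cut F (O k), ι, ?_, ?_, fun k => ?_⟩
  · show IsZero (Groth.Agent.H88.EtMod.Filtration.cut F (O 0))
    rw [h0]
    exact Groth.Agent.H88.EtMod.Filtration.isZero_cut_bot F
  · show Nonempty (Groth.Agent.H88.EtMod.Filtration.cut F (O N) ≅ F)
    rw [hN]
    haveI := Groth.Agent.H88.EtMod.Filtration.isIso_cutMap_top F
    exact ⟨asIso (Groth.Agent.H88.EtMod.Filtration.cutMap F ⊤)⟩
  · haveI := hg k k.2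
    obtain ⟨W, c, hc, G, π, hz, hr, hG, hS⟩ :=
      Groth.Agent.H88.EtMod.Filtration.exists_quotient F (ι k) (hι k) (hle k k.2) (g k k.2) (hsub k k.2) (hlc k k.2)
    exact ⟨_, W, (O (k + 1)).ι, inferInstance, c, hc, G, π, hz, hr ▸ hcons k k.2, hG, hS⟩

end Groth.Agent.S8561
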