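import Groth.Statements.S8562
import Groth.Agent.Lib.NAH1.Fibre
import Groth.Agent.Lib.EtSite.Basic

set_option autoImplicit false
universe u
open CategoryTheory CategoryTheory.Limits AlgebraicGeometry Opposite
open NonAbH1

namespace Groth.Agent.S8562

/-- Exactness of the sequence 0 → H¹(Y, f_*F) → H¹(X, F) → H⁰(Y, R¹f_*F) at its middle term, in terms of
torsors: let f : X ⟶ Y be a morphism of schemes, F a sheaf of groups on the small etale site of X,
f_*F its direct image on Y (sections over an etale Y-scheme V are the sections of F over X ×_Y V),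
and Q an F-torsor. Then Q is the image of a class in H¹(Y, f_*F), in the sense that there are an
f_*F-torsor P on Y and a morphism of sheaves of sets from P to the direct image of the sheaf
underlying Q which is equivariant for the actions of f_*F, if and only if the class of Q is locally
trivial over Y: there is a jointly surjective family of etale Y-schemes Y_i such that Q has a
section over every X ×_Y Y_i. -/
theorem result {X Y : Scheme.{u}} (f : X ⟶ Y)
    [EtCoh.BCCont f] (F : Sheaf X.smallEtaleTopology GrpCat.{u + 1}) (Q : NonAbH1.Torsor F) :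
    (∃ (P : NonAbH1.Torsor (((EtCoh.bc f).sheafPushforwardContinuous GrpCat.{u + 1}
        Y.smallEtaleTopology X.smallEtaleTopology).obj F))
      (φ : P.P ⟶ ((EtCoh.bc f).sheafPushforwardContinuous (Type (u + 1))
        Y.smallEtaleTopology X.smallEtaleTopology).obj Q.P),
      ∀ (V : Y.Etaleᵒᵖ) (g : F.obj.obj (op ((EtCoh.bc f).obj V.unop))) (s : P.P.obj.obj V),
        φ.hom.app V (P.smul g s) = Q.smul g (φ.hom.app V s)) ↔
    ∃ (ι : Type u) (V : ι → Y.Etale), EtCoh.Covers V ∧
      ∀ i, Nonempty (Q.P.obj.obj (op ((EtCoh.bc f).obj (V i)))) := by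
  constructor
  · rintro ⟨P, φ, -⟩
    obtain ⟨S, hS, hne⟩ := P.isTorsor.2 (EtCoh.top Y)
    have hmem := (Groth.Agent.Lib.EtSite.Basic.mem_topology_iff S).mp hS
    choose V a ha v hv using hmem
    exact ⟨(EtCoh.top Y).left, V, fun y => ⟨y, v y, (congrArg (fun k => k.base (v y))
      ((MorphismProperty.Over.w (a y)).symm.trans (Category.comp_id _))).trans (hv y)⟩,
      fun i => (hne (a i) (ha i)).map fun p => φ.hom.app _ p⟩
  · rintro ⟨ι, V, hV, hne⟩
    let P : NonAbH1.GSheaf (((EtCoh.bc f).sheafPushforwardContinuous GrpCat.{u + 1}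
        Y.smallEtaleTopology X.smallEtaleTopology).obj F) :=
      { P := ((EtCoh.bc f).sheafPushforwardContinuous (Type (u + 1))
          Y.smallEtaleTopology X.smallEtaleTopology).obj Q.P
        smul := fun {W} g q => Q.smul g q
        one_smul := fun q => Q.one_smul q
        mul_smul := fun g h q => Q.mul_smul g h q
        map_smul := fun a g q => Q.map_smul _ g q }
    refine ⟨⟨P, fun W p q => Q.isTorsor.1 _ p q, fun W => ?_⟩, 𝟙 _, fun V g s => rfl⟩
    refine ⟨Sieve.ofObjects V W, (Groth.Agent.Lib.EtSite.Basic.mem_topology_iff _).mpr fun w => ?_,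
      fun W' a ha => ?_⟩
    · obtain ⟨i, y, hy⟩ := hV (W.hom.base w)
      obtain ⟨z, -, hz⟩ := Scheme.Pullback.exists_preimage_pullback (f := (V i).hom) (g := W.hom) y w hy
      have : Etale (V i).hom := (V i).prop
      have : Etale W.hom := W.prop
      refine ⟨Scheme.Etale.mk (pullback.snd (V i).hom W.hom ≫ W.hom),
        MorphismProperty.Over.homMk (pullback.snd _ _) rfl,
        ⟨i, ⟨MorphismProperty.Over.homMk (pullback.fst _ _) pullback.condition⟩⟩, z, hz⟩
    · obtain ⟨i, ⟨b⟩⟩ := ha
      exact (hne i).map fun q => Q.P.obj.map ((EtCoh.bc f).map b).op q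

end Groth.Agent.S8562
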