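import Groth.Statements.S8563
import Groth.Agent.Lib.Chow.Projective

set_option autoImplicit false
universe u
open CategoryTheory CategoryTheory.Limits AlgebraicGeometry
open RelProj

namespace Groth.Agent.S8563

/-- A variant of Chow's lemma free of Noetherian and irreducibility hypotheses: let S be a quasi-compact
and quasi-separated scheme and f : X ⟶ S a separated morphism of finite type with X nonempty. Then
there are a scheme X̄ and a morphism π : X̄ ⟶ X such that π is projective (X̄ is, over X, the
homogeneous spectrum of a quasi-coherent graded algebra generated by its degree-one part, of finite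
type in degree one), the composite π ≫ f is quasi-projective (of finite type with a relatively ample
invertible sheaf), and π induces an isomorphism from the inverse image of U onto U for some nonempty
open subset U of X. (No density of U and no surjectivity of π are asserted.) -/
theorem result {X S : Scheme.{u}} (f : X ⟶ S)
    [CompactSpace S] [QuasiSeparatedSpace S] [IsSeparated f] [LocallyOfFiniteType f] [QuasiCompact f]
    [Nonempty X] :
    ∃ (Xbar : Scheme.{u}) (π : Xbar ⟶ X), RelProj.IsProjective π ∧ RelProj.IsQuasiProjective (π ≫ f) ∧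
      ∃ U : X.Opens, (U : Set X).Nonempty ∧ IsIso (π ∣_ U) := by
  haveI : CompactSpace X := QuasiCompact.compactSpace_of_compactSpace f
  haveI : QuasiSeparatedSpace X := quasiSeparatedSpace_of_quasiSeparated f
  obtain ⟨r, V, T, hVT, hcov⟩ := Lib.Chow.Main.exists_cover f
  let E : Fin r → Set X := fun i => (V i : Set X) ∪ (closure (V i : Set X))ᶜ
  have hE : ∀ i, IsOpen (E i) ∧ Dense (E i) := fun i =>
    ⟨(V i).2.union isClosed_closure.isOpen_compl, by
      rw [dense_iff_closure_eq, closure_union, Set.eq_univ_iff_forall]
      intro x
      by_cases hx : x ∈ closure (V i : Set X)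
      · exact Or.inl hx
      · exact Or.inr (subset_closure hx)⟩
  have hI : ∀ s : Finset (Fin r), IsOpen (⋂ i ∈ s, E i) ∧ Dense (⋂ i ∈ s, E i) := fun s => by
    induction s using Finset.induction with
    | empty => simp [dense_univ]
    | insert a s _ ih =>
      rw [Finset.set_biInter_insert]
      exact ⟨(hE a).1.inter ih.1, (hE a).2.inter_of_isOpen_left ih.2 (hE a).1⟩
  obtain ⟨x, hx⟩ := (hI Finset.univ).2.nonempty
  obtain ⟨U, hU, hxU, hle⟩ := TopologicalSpace.Opens.isBasis_iff_nbhd.1 X.isBasis_affineOpens
    (U := (⟨_, (hI Finset.univ).1⟩ : X.Opens)) hx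
  haveI : CompactSpace (U : Scheme.{u}) := isCompact_iff_compactSpace.1 hU.isCompact
  have had : Lib.Chow.Main.Adapted V U := fun i y hy => by
    have := Set.mem_iInter₂.1 (hle hy) i (Finset.mem_univ i)
    exact this
  obtain ⟨n, X', π, j, hj, hjf, hπ, -, hiso, -, -⟩ := Lib.Chow.Main.chow_open f V T hVT hcov U had
  haveI := hj
  haveI := hπ
  exact ⟨X', π, Lib.Chow.Projective.isProjective_modification f π j hjf,
    Lib.Chow.Projective.isQuasiProjective_comp f π j hjf, U, ⟨x, hxU⟩, hiso⟩

end Groth.Agent.S8563
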