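import Groth.Statements.S8564
import Groth.Agent.Lib.SiteCoh.TotAcyclic
-- import your own Groth.Agent.* helpers here

set_option autoImplicit false
open CategoryTheory CategoryTheory.Limits
universe u
open CohCx

namespace Groth.Agent.S8564

/-- Let (F_t) be a family of abelian sheaves on a small site, indexed by a small set, such that each F_t
is totally acyclic, i.e. H^p(K, F_t) = 0 for every sheaf of sets K and every p > 0. Then the product
sheaf of the family is totally acyclic. (The published statement is for modules over a ringed topos;
this row is the case of abelian sheaves.) -/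
theorem result {C : Type u} [SmallCategory C] (J : GrothendieckTopology C)
    {T : Type u} (F : T → Sheaf J AddCommGrpCat.{u}) (hF : ∀ t, CohCx.IsTotallyAcyclic (F t)) :
    CohCx.IsTotallyAcyclic (∏ᶜ F) := by
  refine Lib.SiteCoh.TotAcyclic.isTotallyAcyclic_of_exactHom fun f hf q => ?_
  intro x hx
  have h : ∀ t, ∃ y, (Lib.SiteCoh.NerveCx.nerveP f).d (q + 1) q ≫ y = x ≫ Pi.π F t := fun t =>
    Lib.SiteCoh.TotAcyclic.exactHom_of_isTotallyAcyclic f q (hF t) (x ≫ Pi.π F t)
      (by rw [← Category.assoc, hx, zero_comp])
  choose y hy using h
  exact ⟨Pi.lift y, Pi.hom_ext _ _ fun t => by rw [Category.assoc, Pi.lift_π]; exact hy t⟩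

end Groth.Agent.S8564
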