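import Groth.Statements.S8567
import Groth.Agent.H30.Gode.Soft

set_option autoImplicit false
open CategoryTheory TopologicalSpace Opposite
universe u
open CohTop

namespace Groth.Agent.S8567

/-- Let X be a topological space, K ⊆ X a compact subset such that any two distinct points of K have
disjoint neighbourhoods in X, and F a flasque abelian sheaf on X. Then the inverse image F|K of F on
the subspace K is a soft sheaf: for every closed subset A of K, every section of (F|K)|A over A is
the restriction of a section of F|K over K (the restriction map is the unit of the inverse image /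
direct image adjunction for the inclusion A → K, taken on global sections). -/
theorem result {X : TopCat.{u}} {K : Set X} (hK : IsCompact K)
    (hsep : ∀ x ∈ K, ∀ y ∈ K, x ≠ y → ∃ U V : Set X, IsOpen U ∧ IsOpen V ∧ x ∈ U ∧ y ∈ V ∧ Disjoint U V)
    (F : CohTop.Ab X) [TopCat.Sheaf.IsFlasque F] {A : Set K} (hA : IsClosed A) :
    Function.Surjective
      ((((TopCat.Sheaf.pullbackPushforwardAdjunction AddCommGrpCat.{u}
        (TopCat.ofHom ⟨((↑) : A → K), continuous_subtype_val⟩ : TopCat.of A ⟶ TopCat.of K)).unit.app
        ((CohTop.pull (TopCat.ofHom ⟨((↑) : K → X), continuous_subtype_val⟩ : TopCat.of K ⟶ X)).obj F)).hom.app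
        (op ⊤)).hom) := by
  haveI : CompactSpace K := isCompact_iff_compactSpace.1 hK
  haveI : CompactSpace A := isCompact_iff_compactSpace.1 hA.isCompact
  intro s
  let i : TopCat.of K ⟶ X := TopCat.ofHom ⟨((↑) : K → X), continuous_subtype_val⟩
  let j : TopCat.of A ⟶ TopCat.of K := TopCat.ofHom ⟨((↑) : A → K), continuous_subtype_val⟩
  have : CompactSpace (TopCat.of A) := inferInstanceAs (CompactSpace A)
  obtain ⟨φ, hφ⟩ := H30.Gode.exists_iterated_value F i j (V := ⊤) s
  have hs : H30.Gode.RelSep (j ≫ i : TopCat.of A → X) := fun a b hab =>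
    hsep _ a.1.2 _ b.1.2 fun e => hab (Subtype.ext (Subtype.ext e))
  obtain ⟨t, ht⟩ := H30.Gode.exists_global_section F (j ≫ i) hs φ fun z => (hφ z trivial).1
  let σ : ((CohTop.pull i).obj F).obj.obj (op ⊤) :=
    ((TopCat.Sheaf.pullbackPushforwardAdjunction AddCommGrpCat.{u} i).unit.app F).hom.app (op ⊤) t
  refine ⟨σ, (H30.Gode.secVal_eq_iff (F := (CohTop.pull i).obj F) (g := j) (V := ⊤)).2 fun z hz => ?_⟩
  have h2 := ((hφ z trivial).2 ⊤ σ trivial).1
    ((H30.Gode.secVal_unit (F := F) (g := i) ⊤ t (j z) trivial).trans (ht z))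
  exact (H30.Gode.secVal_unit (F := (CohTop.pull i).obj F) (g := j) ⊤ σ z trivial).trans h2

end Groth.Agent.S8567
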