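import Groth.Statements.S8569
import Groth.Agent.Lib.Giraud.Reflective

set_option autoImplicit false
open CategoryTheory
universe v u
open SGA4

namespace Groth.Agent.S8569Aux
open CategoryTheory CategoryTheory.Limits

theorem isTopos_of_reflective {X : Type u} [SmallCategory X] {Y : Type v} [Category.{u} Y]
    (Φ : Y ⥤ Xᵒᵖ ⥤ Type u) [Φ.Full] [Φ.Faithful] (L : (Xᵒᵖ ⥤ Type u) ⥤ Y) (adj : L ⊣ Φ)
    [PreservesFiniteLimits L] : SGA4.IsTopos.{v, u} Y := by
  let P : ObjectProperty (Xᵒᵖ ⥤ Type u) := Φ.essImage
  let e := Φ.toEssImage.asEquivalence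
  let adj' : L ⋙ Φ.toEssImage ⊣ P.ι :=
    (adj.comp e.symm.symm.toAdjunction).ofNatIsoRight
      ((Functor.isoWhiskerLeft e.inverse Φ.toEssImageCompι.symm) ≪≫ (Functor.associator _ _ _).symm ≪≫
        Functor.isoWhiskerRight e.counitIso P.ι ≪≫ P.ι.leftUnitor)
  letI : Reflective P.ι := { L := L ⋙ Φ.toEssImage, adj := adj' }
  have : PreservesFiniteLimits (reflector P.ι) := by
    have : PreservesFiniteLimits Φ.toEssImage := Limits.PreservesLimitsOfSize.preservesFiniteLimits.{0, 0} _
    exact comp_preservesFiniteLimits L Φ.toEssImage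
  obtain ⟨J', -, hJ'⟩ := Groth.Agent.Lib.Giraud.exists_topology P
  let e' : P.FullSubcategory ≌ Sheaf J' (Type u) :=
    CategoryTheory.Equivalence.mk
      { obj := fun F => ⟨F.obj, (isSheaf_iff_isSheaf_of_type _ _).2 ((hJ' _).1 F.property)⟩
        map := fun f => ⟨f.hom⟩ }
      { obj := fun F => ⟨F.obj, (hJ' _).2 ((isSheaf_iff_isSheaf_of_type _ _).1 F.property)⟩
        map := fun f => ⟨f.hom⟩ } (Iso.refl _) (Iso.refl _)
  exact ⟨X, inferInstance, J', ⟨e.trans e'⟩⟩

end Groth.Agent.S8569Aux

namespace Groth.Agent.S8569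

/-- Let E be a topos (a category equivalent to the category of sheaves of sets on a small site, for the
universe u) and D a u-small category. Then the category of functors D ⥤ E, which is the category of
sections of the constant D-topos with value E, is a topos. (The published statement is for an
arbitrary D-topos, i.e. a category bifibred in topoi over D; this row is the case of a constant
one.) -/
theorem result {E : Type v} [Category.{u} E] (hE : SGA4.IsTopos E)
    (D : Type u) [SmallCategory D] : SGA4.IsTopos (D ⥤ E) := by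
  obtain ⟨C, _, J, ⟨e⟩⟩ := hE
  let k : ((Dᵒᵖ × C)ᵒᵖ ⥤ Type u) ≌ D ⥤ Cᵒᵖ ⥤ Type u :=
    (((prodOpEquiv Dᵒᵖ).trans (CategoryTheory.Equivalence.prod (opOpEquivalence D) CategoryTheory.Equivalence.refl)).congrLeft).trans
      Functor.currying.symm
  let Φ := (Functor.whiskeringRight D _ _).obj (sheafToPresheaf J (Type u)) ⋙ k.inverse
  have hff : ((Functor.whiskeringRight D _ _).obj (sheafToPresheaf J (Type u))).FullyFaithful :=
    (fullyFaithfulSheafToPresheaf J (Type u)).whiskeringRight D
  have := hff.full
  have := hff.faithful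
  have : Φ.Full := inferInstanceAs ((Functor.whiskeringRight D _ _).obj (sheafToPresheaf J (Type u)) ⋙ k.inverse).Full
  have : Φ.Faithful := inferInstanceAs ((Functor.whiskeringRight D _ _).obj (sheafToPresheaf J (Type u)) ⋙ k.inverse).Faithful
  let L := k.functor ⋙ (Functor.whiskeringRight D _ _).obj (presheafToSheaf J (Type u))
  let adj : L ⊣ Φ := k.toAdjunction.comp ((sheafificationAdjunction J (Type u)).whiskerRight D)
  have : CategoryTheory.Limits.PreservesFiniteLimits k.functor := Limits.PreservesLimitsOfSize.preservesFiniteLimits.{0, 0} _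
  have : CategoryTheory.Limits.PreservesFiniteLimits ((Functor.whiskeringRight D _ _).obj (presheafToSheaf J (Type u))) :=
    ⟨fun _ _ _ => inferInstance⟩
  have : CategoryTheory.Limits.PreservesFiniteLimits L := CategoryTheory.Limits.comp_preservesFiniteLimits _ _
  obtain ⟨X, i, J', ⟨e'⟩⟩ := S8569Aux.isTopos_of_reflective Φ L adj
  exact ⟨X, i, J', ⟨(e.congrRight (E := D)).trans e'⟩⟩

end Groth.Agent.S8569
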