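import Groth.Statements.S8572
import Groth.Agent.H30.Gode.Descent
import Groth.Agent.H30.Gode.Nerve

set_option autoImplicit false
open CategoryTheory CategoryTheory.Limits TopologicalSpace
universe u
open CohTop

namespace Groth.Agent.S8572

/-- Let f : X → S be a surjective local homeomorphism of topological spaces and F an abelian sheaf on S.
Then f is of universal cohomological descent, and the descent spectral sequence reads, in existence
form: there is a bounded spectral sequence of abelian groups starting at page one with E_1^{p,q}
isomorphic, for p, q ≥ 0, to H^q(X_p, F|X_p), where X_p is the (p+1)-fold fibre product of X over S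
and F|X_p the inverse image of F along its projection to S, and zero otherwise, together with
abutment data whose filtrations are finite on H^n(S, F) for n ≥ 0 (zero for n < 0). (The E_1
identifications and the abutment isomorphisms are asserted to exist only; the differentials are not
part of this statement.) -/
theorem result {X S : TopCat.{u}} (f : X ⟶ S)
    (hf : IsLocalHomeomorph f) (hsurj : Function.Surjective f) (F : CohTop.Ab S) :
    ∃ (E : CohomologicalSpectralSequence AddCommGrpCat.{u} 1)
      (a : SpSeq.Abutment E (fun n : ℤ =>
        if 0 ≤ n then AddCommGrpCat.of (CohTop.H F n.toNat) else AddCommGrpCat.of PUnit.{u + 1})),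
      (∀ n, a.IsFinite n) ∧ SpSeq.IsBounded E ∧
      ∀ p q : ℤ, Nonempty ((E.page 1 le_rfl).X (p, q) ≅
        (if 0 ≤ p ∧ 0 ≤ q then
          AddCommGrpCat.of (CohTop.H ((CohTop.pull
            (WidePullback.base (fun _ : Fin (p.toNat + 1) => f) :
              widePullback S (fun _ : Fin (p.toNat + 1) => X) (fun _ => f) ⟶ S)).obj F) q.toNat)
         else AddCommGrpCat.of PUnit.{u + 1})) := by
  refine H30.Gode.exists_descent F (K := H30.Gode.nerve f) fun x => ?_
  let z := (hsurj x).choose
  let e := (hf z).choose
  have he : z ∈ e.source ∧ (f : X → S) = e := (hf z).choose_spec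
  refine H30.Gode.nerveContr f ⟨e.target, e.open_target⟩
    (TopCat.ofHom ⟨fun y => e.symm y.1, e.continuousOn_symm.restrict⟩) ?_ x ?_
  · ext y
    change f (e.symm y.1) = y.1
    rw [he.2]
    exact e.right_inv y.2
  · change x ∈ e.target
    rw [← (hsurj x).choose_spec]
    change f z ∈ e.target
    rw [he.2]
    exact e.map_source he.1

end Groth.Agent.S8572
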