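import Groth.Statements.S8586
import Mathlib.RingTheory.Ideal.KrullsHeightTheorem

set_option autoImplicit false
universe u
open CAlg

namespace Groth.Agent.S8586

open IsLocalRing

variable {A : Type u} [CommRing A] [IsNoetherianRing A] [IsLocalRing A] {d : ℕ}

/-- A `d`-tuple in the maximal ideal generating it up to radical. -/
def Sop (u : Fin d → A) : Prop :=
  (∀ i, u i ∈ maximalIdeal A) ∧ maximalIdeal A ≤ (Ideal.span (Set.range u)).radical

/-- One elementary step. -/
def Step (u v : Fin d → A) : Prop := Sop v ∧ ∃ i : Fin d, ∀ i' : Fin d, i' ≠ i → u i' = v i'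

/-- The ideal generated by all coordinates but `j`. -/
def Others (u : Fin d → A) (j : Fin d) : Ideal A := Ideal.span (u '' {i | i ≠ j})

lemma sup_others (u : Fin d → A) (j : Fin d) :
    Ideal.span (Set.range u) = Others u j ⊔ Ideal.span {u j} := by
  rw [Others, ← Ideal.span_union, ← Set.image_singleton, ← Set.image_union, ← Set.image_univ]
  congr 2
  ext i
  simp only [Set.mem_univ, Set.mem_union, Set.mem_ofPred_eq, Set.mem_singleton_iff, true_iff]
  tauto

lemma maximal_not_minimal (hd : (maximalIdeal A).height = d) (u : Fin d → A) (j : Fin d) :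
    maximalIdeal A ∉ (Others u j).minimalPrimes := by
  classical
  intro h
  have hfin : (u '' {i | i ≠ j}).Finite := Set.toFinite _
  have h1 := Ideal.height_le_card_of_mem_minimalPrimes_span hfin h
  have h2 : (u '' {i | i ≠ j}).ncard ≤ d - 1 := by
    refine (Set.ncard_image_le (Set.toFinite _)).trans ?_
    have : {i : Fin d | i ≠ j} = ↑((Finset.univ : Finset (Fin d)).erase j) := by ext; simp
    rw [this, Set.ncard_coe_finset, Finset.card_erase_of_mem (Finset.mem_univ j)]
    simp
  have h3 : (d : ℕ∞) ≤ ((d - 1 : ℕ) : ℕ∞) := hd ▸ h1.trans (by exact_mod_cast h2)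
  have h4 : d ≤ d - 1 := by exact_mod_cast h3
  have := j.pos
  omega

lemma exists_avoid (hd : (maximalIdeal A).height = d) (u v : Fin d → A) (j : Fin d) :
    ∃ w ∈ maximalIdeal A, (∀ P ∈ (Others u j).minimalPrimes, w ∉ P) ∧
      ∀ P ∈ (Others v j).minimalPrimes, w ∉ P := by
  classical
  by_contra! h
  have hfin : ((Others u j).minimalPrimes ∪ (Others v j).minimalPrimes).Finite :=
    (Ideal.finite_minimalPrimes_of_isNoetherianRing A _).union
      (Ideal.finite_minimalPrimes_of_isNoetherianRing A _)
  have hsub : (maximalIdeal A : Set A) ⊆ ⋃ P ∈ hfin.toFinset, ((id P : Ideal A) : Set A) := by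
    intro w hw
    simp only [Set.mem_iUnion, Set.Finite.mem_toFinset, id]
    by_cases h1 : ∀ P ∈ (Others u j).minimalPrimes, w ∉ P
    · obtain ⟨P, hP, hwP⟩ := h w hw h1
      exact ⟨P, Or.inr hP, hwP⟩
    · push_neg at h1
      obtain ⟨P, hP, hwP⟩ := h1
      exact ⟨P, Or.inl hP, hwP⟩
  obtain ⟨P, hP, hle⟩ := (Ideal.subset_union_prime (f := id) ⊤ ⊤ (fun P hP _ _ => by
    rcases hfin.mem_toFinset.mp hP with h' | h' <;> exact h'.1.1)).mp hsub
  rcases hfin.mem_toFinset.mp hP with h' | h'
  · have := (IsLocalRing.maximalIdeal.isMaximal A).eq_of_le h'.1.1.ne_top hle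
    exact maximal_not_minimal hd u j (this ▸ h')
  · have := (IsLocalRing.maximalIdeal.isMaximal A).eq_of_le h'.1.1.ne_top hle
    exact maximal_not_minimal hd v j (this ▸ h')

lemma sop_update (u : Fin d → A) (j : Fin d) (hu : Sop u)
    (w : A) (hw : w ∈ maximalIdeal A) (hav : ∀ P ∈ (Others u j).minimalPrimes, w ∉ P) :
    Sop (Function.update u j w) := by
  refine ⟨fun i => ?_, ?_⟩
  · rcases eq_or_ne i j with rfl | h
    · rwa [Function.update_self]
    · rw [Function.update_of_ne h]; exact hu.1 i
  have hO : Others (Function.update u j w) j = Others u j := by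
    simp only [Others]
    congr 1
    refine Set.image_congr fun i hi => Function.update_of_ne hi _ _
  rw [sup_others (Function.update u j w) j, hO, Function.update_self, Ideal.radical_eq_sInf]
  refine le_sInf fun Q hQ => ?_
  obtain ⟨hle, hQp⟩ := hQ
  haveI := hQp
  obtain ⟨P, hP, hPQ⟩ := Ideal.exists_minimalPrimes_le (le_sup_left.trans hle)
  have hwQ : w ∈ Q := hle (Ideal.mem_sup_right (Ideal.mem_span_singleton_self w))
  have hne : P ≠ Q := fun h => hav P hP (h ▸ hwQ)
  by_contra hQm
  have hQle : Q ≤ maximalIdeal A := IsLocalRing.le_maximalIdeal hQp.ne_top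
  have hQlt : Q < maximalIdeal A := lt_of_le_of_ne hQle fun h => hQm h.ge
  haveI := hP.1.1
  -- pass to the quotient by the other coordinates
  let I := Others u j
  let π := Ideal.Quotient.mk I
  have hIP : I ≤ P := hP.1.2
  have hcm : ∀ J : Ideal A, I ≤ J → (J.map π).comap π = J := fun J hJ => by
    rw [Ideal.comap_map_of_surjective _ Ideal.Quotient.mk_surjective, ← RingHom.ker_eq_comap_bot,
      Ideal.mk_ker, sup_eq_left.mpr hJ]
  have hprime : ∀ J : Ideal A, J.IsPrime → I ≤ J → (J.map π).IsPrime := fun J hJ hle' => by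
    haveI := hJ
    exact Ideal.map_isPrime_of_surjective Ideal.Quotient.mk_surjective (by rwa [Ideal.mk_ker])
  have hm : (maximalIdeal A).IsPrime := inferInstance
  haveI := hprime P inferInstance hIP
  haveI := hprime Q hQp (hIP.trans hPQ)
  haveI := hprime _ hm (hIP.trans (hPQ.trans hQle))
  have hlt : ∀ J J' : Ideal A, I ≤ J → J < J' → J.map π < J'.map π := fun J J' hJ h => by
    refine lt_of_le_of_ne (Ideal.map_mono h.le) fun e => h.ne ?_
    rw [← hcm J hJ, e, hcm J' (hJ.trans h.le)]
  have h1 := Ideal.height_strict_mono_of_isPrime (hlt P Q hIP (lt_of_le_of_ne hPQ hne))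
  have h2 := Ideal.height_strict_mono_of_isPrime (hlt Q _ (hIP.trans hPQ) hQlt)
  have hmin : (maximalIdeal A).map π ∈ (Ideal.span {π (u j)}).minimalPrimes := by
    refine ⟨⟨inferInstance, (Ideal.span_singleton_le_iff_mem _).mpr (Ideal.mem_map_of_mem π (hu.1 j))⟩, ?_⟩
    rintro J ⟨hJ, hJle⟩ hJm
    haveI := hJ
    refine Ideal.map_le_iff_le_comap.mpr (hu.2.trans ?_)
    rw [(hJ.comap π).radical_le_iff, sup_others u j, sup_le_iff]
    refine ⟨fun x hx => ?_, (Ideal.span_singleton_le_iff_mem _).mpr
      (hJle (Ideal.mem_span_singleton_self _))⟩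
    show π x ∈ J
    rw [Ideal.Quotient.eq_zero_iff_mem.mpr hx]
    exact zero_mem J
  have h3 := Ideal.height_le_card_of_mem_minimalPrimes_span (Set.finite_singleton _) hmin
  rw [Set.ncard_singleton] at h3
  have h4 : (1 : ℕ∞) ≤ (Q.map π).height := Order.one_le_iff_pos.mpr (lt_of_le_of_lt zero_le h1)
  exact absurd (lt_of_lt_of_le (lt_of_le_of_lt h4 h2) h3) (lt_irrefl _)

lemma connected (hd : (maximalIdeal A).height = d) : ∀ (m : ℕ) (u v : Fin d → A), Sop u → Sop v →
    (∀ i : Fin d, (i : ℕ) < d - m → u i = v i) → Relation.ReflTransGen Step u v := by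
  intro m
  induction m with
  | zero =>
    intro u v _ _ h
    rw [show u = v from funext fun i => h i (by simp)]
  | succ m ih =>
    intro u v hu hv h
    by_cases hm : m < d
    · let j : Fin d := ⟨d - (m + 1), by omega⟩
      obtain ⟨w, hw, hwu, hwv⟩ := exists_avoid hd u v j
      have hu' := sop_update u j hu w hw hwu
      have hv' := sop_update v j hv w hw hwv
      refine (Relation.ReflTransGen.head ⟨hu', j, fun i hi => (Function.update_of_ne hi _ _).symm⟩
        (ih _ _ hu' hv' fun i hi => ?_)).tail ⟨hv, j, fun i hi => Function.update_of_ne hi _ _⟩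
      rcases eq_or_ne i j with rfl | hij
      · simp
      · rw [Function.update_of_ne hij, Function.update_of_ne hij]
        have : (i : ℕ) ≠ d - (m + 1) := fun e => hij (Fin.ext e)
        exact h i (by omega)
    · exact ih u v hu hv fun i hi => absurd hi (by omega)


/-- Suppose A is a Cohen–Macaulay local ring whose Krull dimension is d, and consider two systems of
parameters u = (u_1, ..., u_d) and v = (v_1, ..., v_d) of A (that is, d-tuples of elements of the
maximal ideal m such that the ideal they generate has radical m). Then one can find a finite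
sequence w_0 = u, w_1, ..., w_m = v, each term a system of parameters of A, where w_{k+1} arises
from w_k by altering just one coordinate. -/
theorem result (A : Type u) [CommRing A] [LocCoh.IsCohenMacaulayLocalRing A]
    (d : ℕ) (hd : ringKrullDim A = d) (u v : Fin d → A)
    (hu : ∀ i, u i ∈ IsLocalRing.maximalIdeal A) (hu' : IsLocalRing.maximalIdeal A ≤ (Ideal.span (Set.range u)).radical)
    (hv : ∀ i, v i ∈ IsLocalRing.maximalIdeal A) (hv' : IsLocalRing.maximalIdeal A ≤ (Ideal.span (Set.range v)).radical) :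
    ∃ (m : ℕ) (w : Fin (m + 1) → Fin d → A), w 0 = u ∧ w (Fin.last m) = v ∧
      (∀ k : Fin (m + 1), (∀ i, w k i ∈ IsLocalRing.maximalIdeal A) ∧
        IsLocalRing.maximalIdeal A ≤ (Ideal.span (Set.range (w k))).radical) ∧
      (∀ k : Fin m, ∃ i : Fin d, ∀ i' : Fin d, i' ≠ i → w k.castSucc i' = w k.succ i') := by
  have hht : (IsLocalRing.maximalIdeal A).height = d := by
    have := IsLocalRing.maximalIdeal_height_eq_ringKrullDim (R := A)
    rw [hd] at this
    exact_mod_cast this
  have key : ∀ v, Relation.ReflTransGen Step u v → ∃ (m : ℕ) (w : Fin (m + 1) → Fin d → A),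
      w 0 = u ∧ w (Fin.last m) = v ∧ (∀ k, Sop (w k)) ∧
      ∀ k : Fin m, ∃ i : Fin d, ∀ i' : Fin d, i' ≠ i → w k.castSucc i' = w k.succ i' := by
    intro v h
    induction h with
    | refl => exact ⟨0, fun _ => u, rfl, rfl, fun _ => ⟨hu, hu'⟩, fun k => k.elim0⟩
    | @tail b c _ hs ih =>
      obtain ⟨m, w, h0, hl, hs1, hs2⟩ := ih
      refine ⟨m + 1, Fin.snoc w c, ?_, Fin.snoc_last _ _, fun k => ?_, fun k => ?_⟩
      · rw [← Fin.castSucc_zero, Fin.snoc_castSucc, h0]
      · refine Fin.lastCases ?_ (fun k => ?_) k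
        · rw [Fin.snoc_last]; exact hs.1
        · rw [Fin.snoc_castSucc]; exact hs1 k
      · refine Fin.lastCases ?_ (fun k => ?_) k
        · rw [Fin.succ_last, Fin.snoc_last, Fin.snoc_castSucc, hl]; exact hs.2
        · rw [Fin.succ_castSucc, Fin.snoc_castSucc, Fin.snoc_castSucc]; exact hs2 k
  obtain ⟨m, w, h0, hl, hs1, hs2⟩ := key v
    (connected hht d u v ⟨hu, hu'⟩ ⟨hv, hv'⟩ fun i hi => absurd hi (by omega))
  exact ⟨m, w, h0, hl, fun k => hs1 k, hs2⟩


end Groth.Agent.S8586
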