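import Groth.Statements.S8591
import Mathlib.RingTheory.Polynomial.Resultant.Basic
import Mathlib.LinearAlgebra.Matrix.Charpoly.LinearMap
import Mathlib.RingTheory.AdjoinRoot
import Mathlib.RingTheory.Norm.Defs
import Mathlib.LinearAlgebra.Matrix.Charpoly.Minpoly
import Mathlib.LinearAlgebra.Charpoly.ToMatrix

set_option autoImplicit false
universe u
open CAlg

namespace Groth.Agent.S8591

open Polynomial in
lemma det_aeval_fin {R : Type u} [CommRing R] (P : R[X]) :
    ∀ (m : ℕ) (A : Matrix (Fin m) (Fin m) R),
      (aeval A P).det = resultant A.charpoly P m P.natDegree := by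
  induction P using induction_of_Splits_of_injective_of_surjective with
  | Splits K P hP =>
    intro m A
    rw [resultant_comm, resultant_eq_prod_eval _ _ _ (by rw [Matrix.charpoly_natDegree_eq_dim, Fintype.card_fin]) hP]
    have key : ∀ a : K, (aeval A (X - Polynomial.C a)).det = (-1) ^ m * A.charpoly.eval a := by
      intro a
      rw [Matrix.eval_charpoly, map_sub, aeval_X, aeval_C, ← neg_sub, Matrix.det_neg, Fintype.card_fin]
      rfl
    have h2 : ∀ s : Multiset K, (aeval A (s.map fun a => X - Polynomial.C a).prod).det =
        (-1) ^ (m * s.card) * (s.map A.charpoly.eval).prod := by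
      intro s
      induction s using Multiset.induction with
      | empty => simp
      | cons a s ih =>
        rw [Multiset.map_cons, Multiset.prod_cons, map_mul, Matrix.det_mul, ih, key,
          Multiset.map_cons, Multiset.prod_cons, Multiset.card_cons, mul_add, pow_add, mul_one]
        ring
    conv_lhs => rw [hP.eq_prod_roots, map_mul, aeval_C, Matrix.det_mul, h2]
    rw [Algebra.algebraMap_eq_smul_one, Matrix.det_smul, Matrix.det_one, mul_one, Fintype.card_fin,
      ← hP.natDegree_eq_card_roots]
    ring
  | injective R S φ hφ P IH =>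
    intro m A
    apply hφ
    rw [← resultant_map_map, ← Matrix.charpoly_map, ← natDegree_map_eq_of_injective hφ P, ← IH,
      RingHom.map_det]
    congr 1
    exact Polynomial.map_aeval_eq_aeval_map (φ := φ) (ψ := φ.mapMatrix) (by
      ext r i j
      simp [Matrix.algebraMap_matrix_apply, apply_ite φ]) P A
  | surjective R S φ hφ P IH =>
    intro m A
    obtain ⟨P', hP', e⟩ := exists_degree_eq_of_mem_lifts (Polynomial.map_surjective φ hφ P)
    obtain ⟨A', rfl⟩ : ∃ A' : Matrix (Fin m) (Fin m) R, φ.mapMatrix A' = A :=
      ⟨A.map (Function.surjInv hφ), by ext i j; exact Function.surjInv_eq hφ _⟩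
    rw [← natDegree_eq_natDegree e, ← hP', show φ.mapMatrix A' = A'.map φ from rfl,
      Matrix.charpoly_map, resultant_map_map, ← IH, RingHom.map_det]
    congr 1
    exact (Polynomial.map_aeval_eq_aeval_map (φ := φ) (ψ := φ.mapMatrix) (by
      ext r i j
      simp [Matrix.algebraMap_matrix_apply, apply_ite φ]) P' A').symm

open Polynomial in
lemma det_aeval_eq_resultant {R : Type u} [CommRing R] {n : Type*} [Fintype n] [DecidableEq n]
    (A : Matrix n n R) (P : R[X]) :
    (aeval A P).det = resultant A.charpoly P (Fintype.card n) P.natDegree := by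
  rw [← Matrix.charpoly_reindex (Fintype.equivFin n) A, ← det_aeval_fin, ← Matrix.reindexAlgEquiv_apply R R,
    aeval_algHom_apply, Matrix.det_reindexAlgEquiv]


/-- Let k be a commutative ring, M a finite free k-module, u an endomorphism of M with characteristic
polynomial χ, and P a polynomial over k. Then the norm, from the k-algebra k[T]/(χ) (free of rank
the rank of M) down to k, of the class of P(T) equals det(P(u)). (The published statement writes the
quotient by det(u - T), which generates the same ideal as χ(T) = det(T - u).) -/
theorem result (k : Type u) [CommRing k] (M : Type u) [AddCommGroup M] [Module k M]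
    [Module.Free k M] [Module.Finite k M] (u : M →ₗ[k] M) (P : Polynomial k) :
    Algebra.norm k (AdjoinRoot.mk u.charpoly P) = LinearMap.det (Polynomial.aeval u P) := by
  cases subsingleton_or_nontrivial k
  · exact Subsingleton.elim _ _
  classical
  let b := Module.Free.chooseBasis k M
  let A := LinearMap.toMatrix b b u
  have hA : A.charpoly = u.charpoly := LinearMap.charpoly_toMatrix u b
  have h1 : LinearMap.det (Polynomial.aeval u P) = (Polynomial.aeval A P).det := by
    rw [← LinearMap.det_toMatrix b]
    congr 1
    exact (Polynomial.aeval_algHom_apply (LinearMap.toMatrixAlgEquiv b).toAlgHom u P).symm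
  have hm : u.charpoly.Monic := LinearMap.charpoly_monic u
  let pb := AdjoinRoot.powerBasis' hm
  let C := Algebra.leftMulMatrix pb.basis pb.gen
  have hC : C.charpoly = u.charpoly := by
    refine Polynomial.eq_of_monic_of_dvd_of_natDegree_le hm (Matrix.charpoly_monic C) ?_ ?_
    · rw [← AdjoinRoot.mk_eq_zero, ← AdjoinRoot.aeval_eq]
      apply Algebra.leftMulMatrix_injective pb.basis
      rw [map_zero, ← Polynomial.aeval_algHom_apply]
      exact Matrix.aeval_self_charpoly C
    · rw [Matrix.charpoly_natDegree_eq_dim, Fintype.card_fin]
      exact le_of_eq (AdjoinRoot.powerBasis'_dim hm)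
  have hcard : Fintype.card (Fin pb.dim) = Fintype.card (Module.Free.ChooseBasisIndex k M) := by
    rw [← Matrix.charpoly_natDegree_eq_dim C, ← Matrix.charpoly_natDegree_eq_dim A, hC, hA]
  have h2 : Algebra.norm k (AdjoinRoot.mk u.charpoly P) = (Polynomial.aeval C P).det := by
    rw [Algebra.norm_eq_matrix_det pb.basis, ← AdjoinRoot.aeval_eq]
    congr 1
    exact (Polynomial.aeval_algHom_apply (Algebra.leftMulMatrix pb.basis) pb.gen P).symm
  rw [h1, h2, det_aeval_eq_resultant, det_aeval_eq_resultant, hC, hA, hcard]

end Groth.Agent.S8591
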