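import Groth.Statements.S8598
import Groth.Agent.Lib.EtSite.Stalk
import Mathlib.CategoryTheory.Adjunction.FullyFaithful
-- import your own Groth.Agent.* helpers here

set_option autoImplicit false
universe u
open CategoryTheory CategoryTheory.Limits AlgebraicGeometry Opposite
open EtDl

namespace Groth.Agent.S8598

theorem restrAlong_faithful {X Y : Scheme.{u}} (j : X ⟶ Y) [Etale j] [Surjective j]
    [EtShriek.JCont j] : (EtShriek.restrAlong j).Faithful where
  map_injective {F G φ ψ} h := by
    ext : 1
    apply NatTrans.ext
    funext V
    obtain ⟨V⟩ := V
    apply ConcreteCategory.hom_ext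
    intro s
    let T : X.Etale := (EtCoh.bc j).obj V
    let c : (EtShriek.compEtale j).obj T ⟶ V :=
      MorphismProperty.Over.homMk (pullback.fst V.hom j) pullback.condition
    refine Groth.Agent.Lib.EtSite.Stalk.sections_ext G _ _ fun v => ?_
    obtain ⟨x, hx⟩ := j.surjective (V.hom.base v)
    obtain ⟨z, hz, -⟩ := Scheme.Pullback.exists_preimage_pullback v x hx.symm
    refine ⟨(EtShriek.compEtale j).obj T, c, ?_, z, hz⟩
    have hT := congrArg (fun m => m.hom.app (op T)) h
    have h₁ := ConcreteCategory.congr_hom (φ.hom.naturality c.op) s
    have h₂ := ConcreteCategory.congr_hom (ψ.hom.naturality c.op) s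
    exact h₁.symm.trans ((ConcreteCategory.congr_hom hT (F.obj.map c.op s)).trans h₂)

/-- Let u : X -> Y be an etale, separated morphism of finite type that is surjective, and F an abelian
sheaf on Y_et. The sheaves F_n = (u_n)_! u_n^* F built from the iterated fibre powers of X over Y
form a left resolution of F; in particular (the part stated here) the augmentation u_! u^* F -> F,
which is the counit of the adjunction between extension by zero u_! and restriction u^*, is an
epimorphism. (The continuity of V ↦ (V -> X -> Y) between the small etale sites is carried as an
instance hypothesis, the prelude's convention for extension by zero along an etale morphism.) -/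
theorem result {X Y : Scheme.{u}} (u : X ⟶ Y) [Etale u] [IsSeparated u]
    [LocallyOfFiniteType u] [QuasiCompact u] [Surjective u] [EtShriek.JCont u] (F : EtCoh.Ab Y) :
    Epi ((EtShriek.extZeroAdj u).counit.app F) := by
  haveI := restrAlong_faithful u
  infer_instance

end Groth.Agent.S8598
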