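import Groth.Statements.S8600
import Groth.Agent.Lib.EtShriek50.Proper
import Groth.Agent.Lib.EtShriek50.Exact
import Groth.Agent.Lib.EtSite.FiniteEtaleTransfer
import Groth.Agent.Lib.Lim.Approx.Proper
import Groth.Agent.Lib.Cont50.Cohom
import Groth.Agent.Lib.EtH1Gm.Lift

set_option autoImplicit false
universe u
open CategoryTheory CategoryTheory.Limits AlgebraicGeometry Opposite
open EtDl

namespace Groth.Agent.S8600

open EtShriek Groth.Agent.Lib Groth.Agent.Lib.EtShriek50 TopologicalSpace Groth.Agent.H88.EtMod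

set_option backward.isDefEq.respectTransparency false
set_option linter.style.haveILetI false

section proper

/-- The complement of a finitely presented closed subscheme is quasi-compact. -/
theorem isCompact_compl_support {W : Scheme.{u}} [CompactSpace W] (J : W.IdealSheafData)
    (hJ : Lim.IdealExt.IsFG J) : IsCompact ((J.support : Set W)ᶜ) := by
  classical
  obtain ⟨𝒮, h𝒮⟩ := isCompact_univ.elim_finite_subcover (fun U : W.affineOpens => (U.1 : Set W))
    (fun U => U.1.2) (fun x _ => by
      obtain ⟨_, ⟨U, hU, rfl⟩, hxU, -⟩ :=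
        W.isBasis_affineOpens.exists_subset_of_mem_open (Set.mem_univ x) isOpen_univ
      exact Set.mem_iUnion.mpr ⟨⟨U, hU⟩, hxU⟩)
  choose s hs using hJ
  have h : ((J.support : Set W)ᶜ) = ⋃ U ∈ 𝒮, ⋃ g ∈ s U, (W.basicOpen g : Set W) := by
    ext x
    simp only [Set.mem_compl_iff, Set.mem_iUnion, SetLike.mem_coe, exists_prop]
    constructor
    · intro hx
      obtain ⟨U, hU, hxU⟩ := Set.mem_iUnion₂.1 (h𝒮 (Set.mem_univ x))
      refine ⟨U, hU, ?_⟩
      have hn : x ∉ W.zeroLocus (J.ideal U : Set Γ(W, U.1)) :=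
        fun h => hx ((J.coe_support_inter U).ge ⟨h, hxU⟩).1
      rw [← hs U, Scheme.zeroLocus_span, Scheme.mem_zeroLocus_iff] at hn
      push Not at hn
      simpa using hn
    · rintro ⟨U, -, g, hg, hx⟩ hJx
      have h := ((J.coe_support_inter U).le ⟨hJx, W.basicOpen_le g hx⟩).1
      rw [← hs U, Scheme.zeroLocus_span, Scheme.mem_zeroLocus_iff] at h
      exact h g hg hx
  rw [h]
  exact 𝒮.finite_toSet.isCompact_biUnion fun U _ => (s U).finite_toSet.isCompact_biUnion
    fun g _ => (U.2.basicOpen g).isCompact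

/-- A closed subset proper over the base lies in one with quasi-compact complement. -/
theorem exists_proper_nhd {W P S : Scheme.{u}} [CompactSpace W] [QuasiSeparatedSpace W]
    [CompactSpace S] [QuasiSeparatedSpace S] (j : W ⟶ P) [IsOpenImmersion j] (g : P ⟶ S)
    [LocallyOfFiniteType g] [IsSeparated g] {Z : Set P} (hZ : ClSub.IsProperOver g Z)
    (hZj : Z ⊆ Set.range j.base) :
    ∃ C : Set P, Z ⊆ C ∧ C ⊆ Set.range j.base ∧ ClSub.IsProperOver g C ∧
      IsCompact (j.base ⁻¹' Cᶜ) := by
  obtain ⟨hc, hp⟩ := hZ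
  let Z' : Closeds W := ⟨j.base ⁻¹' Z, hc.preimage j.continuous⟩
  let I := Scheme.IdealSheafData.vanishingIdeal Z'
  let m₀ := I.subschemeι ≫ j
  have hr : Set.range m₀.base = Z := by
    change Set.range (j.base ∘ I.subschemeι.base) = Z
    rw [Set.range_comp, Scheme.IdealSheafData.range_subschemeι,
      Scheme.IdealSheafData.coe_support_vanishingIdeal]
    exact Set.image_preimage_eq_of_subset hZj
  haveI : IsClosedImmersion m₀ := IsClosedImmersion.of_isPreimmersion _ (hr.symm ▸ hc)
  haveI hp₀ : IsProper (m₀ ≫ g) := (ZarCoh.ProperOver.isProper_comp_iff g m₀ hr).2 ⟨hc, hp⟩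
  let t : Lim.IdealExt.subDiagram I ⟶ (Functor.const _).obj S :=
    Lim.IdealExt.subDiagramι I ≫ (Functor.const _).map (j ≫ g)
  haveI : ∀ J, LocallyOfFiniteType (t.app J) := fun J =>
    inferInstanceAs (LocallyOfFiniteType (J.unop.1.subschemeι ≫ j ≫ g))
  haveI : QuasiCompact (j ≫ g) := quasiCompact_iff_compactSpace (j ≫ g) |>.2 ‹_›
  haveI : ∀ J, QuasiCompact (t.app J) := fun J =>
    inferInstanceAs (QuasiCompact (J.unop.1.subschemeι ≫ j ≫ g))
  let J₀ : (Lim.IdealExt.FGSub I)ᵒᵖ := op ⟨⊥, bot_le, Lim.IdealExt.isFG_bot⟩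
  haveI : UniversallyClosed ((Lim.IdealExt.subCone I).π.app J₀ ≫ t.app J₀) := by
    change UniversallyClosed (Scheme.IdealSheafData.inclusion _ ≫ (J₀.unop.1.subschemeι ≫ j ≫ g))
    rw [Scheme.IdealSheafData.inclusion_subschemeι_assoc]
    have : IsProper (I.subschemeι ≫ j ≫ g) := by rw [← Category.assoc]; exact hp₀
    infer_instance
  obtain ⟨J, hJ⟩ := Lim.Approx.Proper.exists_universallyClosed (Lim.IdealExt.isLimitSubCone I) t J₀
  let m := J.unop.1.subschemeι ≫ j
  haveI : UniversallyClosed (m ≫ g) := by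
    rw [Category.assoc]; exact hJ
  haveI : IsSeparated (m ≫ g) := inferInstance
  haveI : QuasiCompact (m ≫ g) := by
    rw [Category.assoc]; exact inferInstanceAs (QuasiCompact (t.app J))
  haveI : IsProper (m ≫ g) := { }
  haveI : IsProper m := IsProper.of_comp m g
  haveI : IsClosedImmersion m := IsClosedImmersion.of_isPreimmersion _ m.isClosedMap.isClosed_range
  refine ⟨Set.range m.base, ?_, ?_, (ZarCoh.ProperOver.isProper_comp_iff g m rfl).1 ‹_›, ?_⟩
  · rw [← hr]
    rintro _ ⟨z, rfl⟩
    refine ⟨(Scheme.IdealSheafData.inclusion J.unop.2.1).base z, ?_⟩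
    exact congrArg (fun k : I.subscheme ⟶ P => k.base z)
      (Scheme.IdealSheafData.inclusion_subschemeι_assoc J.unop.2.1 j)
  · rintro _ ⟨z, rfl⟩
    exact ⟨_, rfl⟩
  · have : j.base ⁻¹' (Set.range m.base)ᶜ = ((J.unop.1.support : Set W))ᶜ := by
      rw [Set.preimage_compl]
      change (j.base ⁻¹' Set.range (j.base ∘ J.unop.1.subschemeι.base))ᶜ = _
      rw [Set.range_comp, Set.preimage_image_eq _ j.isOpenEmbedding.injective,
        Scheme.IdealSheafData.range_subschemeι]
    rw [this]
    exact isCompact_compl_support _ J.unop.2.2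

end proper

section sections

variable {X : Scheme.{u}}

theorem map_eq_zero_of_supp {F : EtCoh.Ab X} {U W : X.Etale} (g : W ⟶ U) (s : EtCoh.sect F U)
    (h : Disjoint (Set.range g.left.base) (sectSupp F U s)) : F.obj.map g.op s = 0 := by
  refine Supp.eq_zero_of_sectSupp ?_
  rw [Supp.sectSupp_map, Set.preimage_eq_empty_iff]
  exact h.symm

theorem eq_of_cover {F : EtCoh.Ab X} {U W W' : X.Etale} (g : W ⟶ U) (g' : W' ⟶ U)
    (h : ∀ x : U.left, x ∈ Set.range g.left.base ∨ x ∈ Set.range g'.left.base) (s t : EtCoh.sect F U)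
    (h₁ : F.obj.map g.op s = F.obj.map g.op t) (h₂ : F.obj.map g'.op s = F.obj.map g'.op t) : s = t := by
  refine EtSite.Stalk.sections_ext F s t fun x => ?_
  rcases h x with ⟨w, hw⟩ | ⟨w, hw⟩
  · exact ⟨W, g, h₁, w, hw⟩
  · exact ⟨W', g', h₂, w, hw⟩

/-- Extension by zero of a section with closed support. -/
theorem exists_extend {F : EtCoh.Ab X} (U : X.Etale) (O : U.left.Opens) {C : Set U.left} (hC : IsClosed C)
    (hCO : C ⊆ O) (r : EtCoh.sect F (EtH1Gm.Lift.sub U O))
    (hr : sectSupp F _ r ⊆ O.ι.base ⁻¹' C) :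
    ∃ s : EtCoh.sect F U, F.obj.map (EtH1Gm.Lift.subι U O).op s = r ∧ sectSupp F U s ⊆ C := by
  let O' : U.left.Opens := ⟨Cᶜ, hC.isOpen_compl⟩
  let V : Bool → X.Etale := fun b => bif b then EtH1Gm.Lift.sub U O else EtH1Gm.Lift.sub U O'
  let g : ∀ b, V b ⟶ U := fun b => match b with
    | true => EtH1Gm.Lift.subι U O
    | false => EtH1Gm.Lift.subι U O'
  let v : ∀ b, EtCoh.sect F (V b) := fun b => match b with
    | true => r
    | false => 0
  have hcov : ∀ x : U.left, ∃ (b : Bool) (w : (V b).left), (g b).left.base w = x := fun x => by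
    by_cases hx : x ∈ C
    · exact ⟨true, ⟨x, hCO hx⟩, rfl⟩
    · exact ⟨false, ⟨x, hx⟩, rfl⟩
  have key : ∀ (W : X.Etale) (a : W ⟶ EtH1Gm.Lift.sub U O) (b : W ⟶ EtH1Gm.Lift.sub U O'),
      a ≫ EtH1Gm.Lift.subι U O = b ≫ EtH1Gm.Lift.subι U O' → F.obj.map a.op r = 0 := by
    intro W a b e
    refine map_eq_zero_of_supp a r (Set.disjoint_left.2 ?_)
    rintro _ ⟨w, rfl⟩ hw
    have h1 : O.ι.base (a.left.base w) = O'.ι.base (b.left.base w) :=
      congrArg (fun k : W ⟶ U => k.left.base w) e
    exact (b.left.base w).2 (show O'.ι.base (b.left.base w) ∈ C from h1 ▸ (hr hw : O.ι.base (a.left.base w) ∈ C))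
  obtain ⟨s, hs⟩ := EtSite.FiniteEtaleTransfer.exists_glue F V g hcov v (by
    intro i k W a b e
    match i, k with
    | true, true =>
      have : a = b := (cancel_mono (EtH1Gm.Lift.subι U O)).1 e
      rw [this]
    | true, false => exact (key W a b e).trans (map_zero _).symm
    | false, true => exact (map_zero _).trans (key W b a e.symm).symm
    | false, false => exact (map_zero _).trans (map_zero _).symm)
  refine ⟨s, hs true, fun x hx => ?_⟩
  by_contra hxC
  exact hx _ (g false) ⟨⟨x, hxC⟩, rfl⟩ (hs false)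

variable {J : Type u} [SmallCategory J] [IsFiltered J] (D : J ⥤ EtCoh.Ab X)

/-- Sections over quasi-compact quasi-separated objects of a filtered colimit. -/
theorem sect_colimit (U : X.Etale) [CompactSpace U.left] [QuasiSeparatedSpace U.left] :
    (∀ t : EtCoh.sect (colimit D) U, ∃ (j : J) (r : EtCoh.sect (D.obj j) U),
      (colimit.ι D j).hom.app (op U) r = t) ∧
    ∀ (j : J) (r : EtCoh.sect (D.obj j) U), (colimit.ι D j).hom.app (op U) r = 0 →
      ∃ (k : J) (a : j ⟶ k), (D.map a).hom.app (op U) r = 0 := by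
  haveI : PreservesFilteredColimitsOfSize.{u, u} (forget AddCommGrpCat.{u + 1}) :=
    preservesFilteredColimitsOfSize_of_univLE.{u + 1, u + 1, u, u} _
  haveI : HasColimitsOfShape J AddCommGrpCat.{u + 1} := inferInstance
  haveI := FilteredSections.preservesColimits (I := J) (A := AddCommGrpCat.{u + 1}) U
  have h := isColimitOfPreserves (sheafToPresheaf X.smallEtaleTopology AddCommGrpCat.{u + 1} ⋙
    (evaluation _ _).obj (op U)) (colimit.isColimit D)
  refine ⟨fun t => Concrete.isColimit_exists_rep _ h t, fun j r hr => ?_⟩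
  obtain ⟨k, a, b, hab⟩ := (Concrete.isColimit_rep_eq_iff_exists _ h r
    (0 : EtCoh.sect (D.obj j) U)).1 (hr.trans (map_zero _).symm)
  exact ⟨k, a, hab.trans (map_zero _)⟩

theorem exists_qc_nhd {P : Scheme.{u}} {Z : Set P} (hZ : IsCompact Z) :
    ∃ O : P.Opens, Z ⊆ O ∧ IsCompact (O : Set P) := by
  classical
  obtain ⟨t, ht⟩ := hZ.elim_finite_subcover (fun U : P.affineOpens => (U.1 : Set P)) (fun U => U.1.2)
    fun x _ => by
      obtain ⟨_, ⟨U, hU, rfl⟩, hxU, -⟩ :=
        P.isBasis_affineOpens.exists_subset_of_mem_open (Set.mem_univ x) isOpen_univ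
      exact Set.mem_iUnion.mpr ⟨⟨U, hU⟩, hxU⟩
  refine ⟨⟨⋃ U ∈ t, (U.1 : Set P), isOpen_biUnion fun U _ => U.1.2⟩, ht, ?_⟩
  exact t.finite_toSet.isCompact_biUnion fun U _ => U.2.isCompact

end sections

section shriek

variable {X S : Scheme.{u}} (f : X ⟶ S) [LocallyOfFiniteType f]

theorem shι_mono (F : EtCoh.Ab X) : Mono ((Pre.shι f).app F) :=
  Sheaf.mono_of_injective _ fun _ _ _ h => Subtype.ext h

instance : (Pre.shFunctor f).Additive where
  map_add {F G} α β := by
    apply Sheaf.hom_ext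
    ext V ⟨s, hs⟩
    rfl

theorem preservesFiniteLimits_sh : PreservesFiniteLimits (Pre.shFunctor f) := by
  refine ((Pre.shFunctor f).preservesFiniteLimits_tfae.out 0 3).1 fun T hT => ?_
  have hl := fun W => Groth.Agent.Lib.CechPsh.ShortExact.app_left_exact hT W
  haveI : Mono ((T.map (Pre.shFunctor f)).f) :=
    Sheaf.mono_of_injective _ fun V _ _ h =>
      Subtype.ext (EtH1Gm.Lift.injective_app hT ((EtCoh.bc f).obj V.unop) (congrArg Subtype.val h))
  refine ⟨?_, ‹Mono (T.map (Pre.shFunctor f)).f›⟩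
  refine Exact.exact_of_stalks _ fun y => ?_
  rw [ShortComplex.ab_exact_iff]
  intro z hz
  obtain ⟨V, q, s, rfl⟩ := (Scheme.pointSmallEtale _).toPresheafFiber_jointly_surjective z
  have h0 := ((Scheme.pointSmallEtale (EtSite.Push.algPoint S y)).toPresheafFiber_naturality_apply
    ((Pre.shFunctor f).map T.g).hom V q s).symm.trans hz
  obtain ⟨V', φ, r, hr, hsr⟩ := ((Scheme.pointSmallEtale _).toPresheafFiber_eq_iff' V q _ _).1
    (h0.trans (map_zero _).symm)
  let s' : (Pre.sh f T.X₂).obj.obj (op V') := (Pre.sh f T.X₂).obj.map φ.op s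
  have hs' : T.g.hom.app (op ((EtCoh.bc f).obj V')) s'.1 = 0 :=
    (congrArg Subtype.val ((NatTrans.naturality_apply ((Pre.shFunctor f).map T.g).hom φ.op s).trans
      (hsr.trans (map_zero _))) :)
  obtain ⟨t, ht⟩ := EtH1Gm.Lift.exists_eq_app hT _ s'.1 hs'
  have htm : t ∈ shriekSubgroup f T.X₁ V' := by
    rw [Pre.mem_iff']
    have e : sectSupp T.X₁ ((EtCoh.bc f).obj V') t = sectSupp T.X₂ _ s'.1 := by
      rw [← ht]
      refine (Set.Subset.antisymm (sectSupp_map_subset T.f _ t) fun x hx W g hw h0 => ?_).symm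
      refine hx W g hw (EtH1Gm.Lift.injective_app hT W ?_)
      exact (NatTrans.naturality_apply T.f.hom g.op t).trans (h0.trans (map_zero _).symm)
    rw [e]
    exact (Pre.mem_iff' f T.X₂ V' s'.1).1 s'.2
  refine ⟨(Scheme.pointSmallEtale _).toPresheafFiber V' r (Pre.sh f T.X₁).obj ⟨t, htm⟩, ?_⟩
  refine ((Scheme.pointSmallEtale _).toPresheafFiber_naturality_apply
    ((Pre.shFunctor f).map T.f).hom V' r _).trans ?_
  refine (congrArg _ (Subtype.ext ht : _ = s')).trans ?_
  refine (GrothendieckTopology.Point.toPresheafFiber_w_apply _ φ r _ s).trans ?_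
  exact congrArg (fun p => (Scheme.pointSmallEtale _).toPresheafFiber V p (Pre.sh f T.X₂).obj s) hr

variable [IsSeparated f] {J : Type u} [SmallCategory J] [IsFiltered J] (D : J ⥤ EtCoh.Ab X)

theorem preservesColimit_sh : PreservesColimit D (Pre.shFunctor f) := by
  haveI : IsIso (colimit.post D (Pre.shFunctor f)) := by
    refine Cont50.Cohom.isIso_of_affine _ fun V hV => ?_
    haveI : IsAffine ((𝟭 Scheme.{u}).obj V.left) := hV
    haveI : IsAffine V.left := hV
    let P := (EtCoh.bc f).obj V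
    haveI : QuasiSeparatedSpace P.left := quasiSeparatedSpace_of_quasiSeparated (prV f V)
    have hι : ∀ (j : J) (y : EtCoh.sect (Pre.sh f (D.obj j)) V),
        ((colimit.post D (Pre.shFunctor f)).hom.app (op V)
          ((colimit.ι (D ⋙ Pre.shFunctor f) j).hom.app (op V) y)).1 =
        (colimit.ι D j).hom.app (op P) y.1 := fun j y => by
      have e := congrArg (fun k => (k.hom.app (op V)) y) (colimit.ι_post D (Pre.shFunctor f) j)
      exact congrArg Subtype.val e
    obtain ⟨hs₁, -⟩ := sect_colimit (D ⋙ Pre.shFunctor f) V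
    refine ⟨(injective_iff_map_eq_zero _).2 fun x hx => ?_, fun t => ?_⟩
    · obtain ⟨j, y, rfl⟩ := hs₁ x
      have h0 : (colimit.ι D j).hom.app (op P) y.1 = 0 := (hι j y).symm.trans (congrArg Subtype.val hx)
      have hZ := (Pre.mem_iff' f (D.obj j) V y.1).1 y.2
      obtain ⟨hZc, hZp⟩ := hZ
      have hZk : IsCompact (sectSupp (D.obj j) P y.1) := by
        haveI := QuasiCompact.compactSpace_of_compactSpace
          ((Scheme.IdealSheafData.vanishingIdeal ⟨_, hZc⟩).subschemeι ≫ prV f V)
        have h := isCompact_range (Scheme.IdealSheafData.vanishingIdeal ⟨_, hZc⟩).subschemeι.continuous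
        rwa [Scheme.IdealSheafData.range_subschemeι,
          Scheme.IdealSheafData.coe_support_vanishingIdeal] at h
      obtain ⟨O, hO, hOc⟩ := exists_qc_nhd hZk
      let W := EtH1Gm.Lift.sub P O
      haveI : CompactSpace W.left := isCompact_iff_compactSpace.1 hOc
      haveI : QuasiSeparatedSpace W.left := quasiSeparatedSpace_of_quasiSeparated O.ι
      obtain ⟨k, a, ha⟩ := (sect_colimit D W).2 j ((D.obj j).obj.map (EtH1Gm.Lift.subι P O).op y.1)
        ((NatTrans.naturality_apply (colimit.ι D j).hom _ y.1).trans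
          ((congrArg _ h0).trans (map_zero _)))
      have hy : (D.map a).hom.app (op P) y.1 = 0 := by
        refine EtSite.Stalk.sections_ext (D.obj k) _ 0 fun x => ?_
        by_cases hxO : x ∈ O
        · refine ⟨W, EtH1Gm.Lift.subι P O, ?_, ⟨x, hxO⟩, rfl⟩
          rw [map_zero]
          exact (NatTrans.naturality_apply (D.map a).hom _ y.1).symm.trans ha
        · have hxZ : x ∉ sectSupp (D.obj k) P ((D.map a).hom.app (op P) y.1) :=
            fun h => hxO (hO (sectSupp_map_subset (D.map a) P y.1 h))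
          simp only [sectSupp, Set.mem_setOf_eq, not_forall, not_not] at hxZ
          obtain ⟨W', g, hw, hg⟩ := hxZ
          exact ⟨W', g, hg.trans (map_zero _).symm, hw⟩
      have e := congrArg (fun m => (m.hom.app (op V)) y) (colimit.w (D ⋙ Pre.shFunctor f) a)
      refine e.symm.trans ?_
      have h' : ((Pre.shFunctor f).map (D.map a)).hom.app (op V) y = 0 := Subtype.ext hy
      exact (congrArg ((colimit.ι (D ⋙ Pre.shFunctor f) k).hom.app (op V)) h').trans (map_zero _)
    · have hZ := (Pre.mem_iff' f (colimit D) V t.1).1 t.2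
      obtain ⟨hZc, hZp⟩ := hZ
      have hZk : IsCompact (sectSupp (colimit D) P t.1) := by
        haveI := QuasiCompact.compactSpace_of_compactSpace
          ((Scheme.IdealSheafData.vanishingIdeal ⟨_, hZc⟩).subschemeι ≫ prV f V)
        have h := isCompact_range (Scheme.IdealSheafData.vanishingIdeal ⟨_, hZc⟩).subschemeι.continuous
        rwa [Scheme.IdealSheafData.range_subschemeι,
          Scheme.IdealSheafData.coe_support_vanishingIdeal] at h
      obtain ⟨O, hO, hOc⟩ := exists_qc_nhd hZk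
      let W := EtH1Gm.Lift.sub P O
      haveI : CompactSpace W.left := isCompact_iff_compactSpace.1 hOc
      haveI : QuasiSeparatedSpace W.left := quasiSeparatedSpace_of_quasiSeparated O.ι
      haveI : CompactSpace O.toScheme := ‹CompactSpace W.left›
      haveI : QuasiSeparatedSpace O.toScheme := ‹QuasiSeparatedSpace W.left›
      obtain ⟨C, hZC, hCO, hCp, hCc⟩ := exists_proper_nhd O.ι (prV f V)
        (⟨hZc, hZp⟩ : ClSub.IsProperOver (prV f V) _) (by rw [Scheme.Opens.range_ι]; exact hO)
      rw [Scheme.Opens.range_ι] at hCO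
      obtain ⟨j, r, hr⟩ := (sect_colimit D W).1 ((colimit D).obj.map (EtH1Gm.Lift.subι P O).op t.1)
      let O' : W.left.Opens := ⟨O.ι.base ⁻¹' Cᶜ, (hCp.1.isOpen_compl).preimage O.ι.continuous⟩
      let W' := EtH1Gm.Lift.sub W O'
      haveI : CompactSpace W'.left := isCompact_iff_compactSpace.1 hCc
      haveI : QuasiSeparatedSpace W'.left := quasiSeparatedSpace_of_quasiSeparated O'.ι
      obtain ⟨k, a, ha⟩ := (sect_colimit D W').2 j ((D.obj j).obj.map (EtH1Gm.Lift.subι W O').op r) (by
        refine (NatTrans.naturality_apply (colimit.ι D j).hom _ r).trans ?_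
        rw [hr, EtH1Gm.Lift.map_map_apply]
        refine map_eq_zero_of_supp _ _ (Set.disjoint_left.2 ?_)
        rintro _ ⟨w, rfl⟩ hw
        exact w.2 (hZC hw))
      let r' := (D.map a).hom.app (op W) r
      have hr' : sectSupp (D.obj k) W r' ⊆ O.ι.base ⁻¹' C := fun x hx => by
        by_contra hxC
        refine hx W' (EtH1Gm.Lift.subι W O') ⟨⟨x, hxC⟩, rfl⟩ ?_
        exact (NatTrans.naturality_apply (D.map a).hom _ r).symm.trans ha
      obtain ⟨s, hs, hsC⟩ := exists_extend P O hCp.1 hCO r' hr'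
      have hsm : s ∈ shriekSubgroup f (D.obj k) V :=
        (Pre.mem_iff f (D.obj k) V s).2 ⟨C, hsC, hCp⟩
      refine ⟨(colimit.ι (D ⋙ Pre.shFunctor f) k).hom.app (op V) ⟨s, hsm⟩, Subtype.ext ((hι k _).trans ?_)⟩
      refine EtSite.Stalk.sections_ext (colimit D) _ _ fun x => ?_
      by_cases hxO : x ∈ O
      · refine ⟨W, EtH1Gm.Lift.subι P O, ?_, ⟨x, hxO⟩, rfl⟩
        refine (NatTrans.naturality_apply (colimit.ι D k).hom _ s).symm.trans ((congrArg _ hs).trans ?_)
        refine Eq.trans ?_ hr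
        exact congrArg (fun m => (m.hom.app (op W)) r) (colimit.w D a)
      · have hxC : x ∉ C := fun h => hxO (hCO h)
        let O'' : P.left.Opens := ⟨Cᶜ, hCp.1.isOpen_compl⟩
        refine ⟨EtH1Gm.Lift.sub P O'', EtH1Gm.Lift.subι P O'', ?_, ⟨x, hxC⟩, rfl⟩
        rw [map_eq_zero_of_supp (EtH1Gm.Lift.subι P O'') ((colimit.ι D k).hom.app (op P) s)
            (Set.disjoint_left.2 (by
              rintro _ ⟨w, rfl⟩ hw
              exact w.2 (hsC (sectSupp_map_subset (colimit.ι D k) P s hw)))),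
          map_eq_zero_of_supp (EtH1Gm.Lift.subι P O'') t.1 (Set.disjoint_left.2 (by
              rintro _ ⟨w, rfl⟩ hw
              exact w.2 (hZC hw)))]
  exact preservesColimit_of_isIso_post (F := D) (G := Pre.shFunctor f)

end shriek

/-- Let f : X -> S be separated and locally of finite type. Then the functor f_! (sections of f_* with
proper support over the base) on abelian etale sheaves is left exact — it preserves finite limits —
and commutes with filtered colimits (indexed by small filtered categories). -/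
theorem result {X S : Scheme.{u}} (f : X ⟶ S) [IsSeparated f]
    [LocallyOfFiniteType f] :
    PreservesFiniteLimits (EtShriek.lowerShriek f) ∧
      PreservesFilteredColimitsOfSize.{u, u} (EtShriek.lowerShriek f) := by
  haveI := preservesFiniteLimits_sh f
  haveI : PreservesFilteredColimitsOfSize.{u, u} (Pre.shFunctor f) :=
    ⟨fun J _ _ => ⟨fun {D} => preservesColimit_sh f D⟩⟩
  exact ⟨preservesFiniteLimits_of_natIso (Pre.lowerShriekIso f).symm,
    ⟨fun J _ _ => preservesColimitsOfShape_of_natIso (Pre.lowerShriekIso f).symm⟩⟩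

end Groth.Agent.S8600
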