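import Groth.Statements.S8603
import Groth.Agent.Lib.DEtCompact.Basic
-- import your own Groth.Agent.* helpers here

set_option autoImplicit false
universe u
open CategoryTheory CategoryTheory.Limits AlgebraicGeometry Opposite
open DEt

namespace Groth.Agent.S8603

/-- The domination half of 'the category of compactifications of f is cofiltering': let f : X -> Y be a
morphism of quasi-compact quasi-separated schemes and let (Xbar_1, j_1, fbar_1), (Xbar_2, j_2,
fbar_2) be two compactifications of f (j_i : X -> Xbar_i open immersions, fbar_i : Xbar_i -> Y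
proper, fbar_i ∘ j_i = f). Then there are a compactification (Xbar, j, fbar) of f and proper
morphisms p_i : Xbar -> Xbar_i (i = 1, 2) with p_i ∘ j = j_i and fbar_i ∘ p_i = fbar, i.e. a
compactification mapping to both by morphisms of compactifications. (The published statement also
includes the equalizing axiom: two morphisms of compactifications are equalized by a third; only
domination is stated here.) -/
theorem result {X Y : Scheme.{u}} [CompactSpace ↥X] [QuasiSeparatedSpace ↥X]
    [CompactSpace ↥Y] [QuasiSeparatedSpace ↥Y] {f : X ⟶ Y} (c₁ c₂ : DEt.Compactification f) :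
    ∃ (c : DEt.Compactification f) (p₁ : c.Xbar ⟶ c₁.Xbar) (p₂ : c.Xbar ⟶ c₂.Xbar),
      IsProper p₁ ∧ IsProper p₂ ∧ c.j ≫ p₁ = c₁.j ∧ c.j ≫ p₂ = c₂.j ∧
        p₁ ≫ c₁.fbar = c.fbar ∧ p₂ ≫ c₂.fbar = c.fbar := by
  have : IsImmersion (pullback.lift c₁.j c₂.j (c₁.fac.trans c₂.fac.symm)) := by
    have : IsImmersion (pullback.lift c₁.j c₂.j (c₁.fac.trans c₂.fac.symm) ≫
        pullback.fst c₁.fbar c₂.fbar) := by
      rw [pullback.lift_fst]; infer_instance
    exact IsImmersion.of_comp _ (pullback.fst c₁.fbar c₂.fbar)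
  obtain ⟨c, p, hp, hj, hπ⟩ :=
    Groth.Agent.Lib.DEtCompact.Basic.exists_of_immersion (f := f)
      (pullback.fst c₁.fbar c₂.fbar ≫ c₁.fbar)
      (pullback.lift c₁.j c₂.j (c₁.fac.trans c₂.fac.symm))
      (by rw [pullback.lift_fst_assoc, c₁.fac])
  refine ⟨c, p ≫ pullback.fst _ _, p ≫ pullback.snd _ _, inferInstance, inferInstance, ?_, ?_, ?_,
    ?_⟩
  · rw [reassoc_of% hj, pullback.lift_fst]
  · rw [reassoc_of% hj, pullback.lift_snd]
  · rw [Category.assoc, hπ]
  · rw [Category.assoc, ← pullback.condition, hπ]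

end Groth.Agent.S8603
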