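import Groth.Statements.S8604
import Groth.Agent.S16853
import Mathlib.FieldTheory.IsAlgClosed.Basic
import Mathlib.FieldTheory.Finite.Basic
import Mathlib.RingTheory.Artinian.Module
import Mathlib.LinearAlgebra.LinearIndependent.Lemmas
import Mathlib.Algebra.Algebra.ZMod

set_option autoImplicit false
universe u
open CAlg

namespace Groth.Agent.S8604

/-- Over an algebraically closed field: let k be an algebraically closed field of characteristic p > 0,
V a finite-dimensional k-vector space and F : V -> V a p-linear endomorphism (additive with F(a·v) =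
a^p·F(v)). Let V^F be the set of vectors fixed by F (an F_p-subspace), V_0 the k-span of V^F and V_n
the k-span of the vectors killed by some iterate of F (these already form an F-stable subspace on
which F is nilpotent). Then V = V_0 ⊕ V_n, and V^F ⊗ k -> V_0 is bijective in the sense that any
finitely many F-fixed vectors linearly independent over Z/p (every vanishing integer combination has
all coefficients divisible by p) are linearly independent over k. (The published statement asserts
this decomposition, with V^F ⊗ k ≅ V_0, for every PERFECT field k; that is false when k is not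
separably closed — for k = Z/3, V = k and F = multiplication by 2 there are no nonzero fixed vectors
although F is bijective — and the decomposition is stated here over an algebraically closed field,
the case in which it holds.) -/
theorem result (p : ℕ) [Fact p.Prime] (k : Type u) [Field k]
    [IsAlgClosed k] [CharP k p] (V : Type u) [AddCommGroup V] [Module k V] [FiniteDimensional k V]
    (F : V →+ V) (hF : ∀ (a : k) (v : V), F (a • v) = a ^ p • F v) :
    IsCompl (Submodule.span k {v : V | F v = v})
        (Submodule.span k {v : V | ∃ m : ℕ, (⇑F)^[m] v = 0}) ∧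
      ∀ (s : Finset V), (∀ v ∈ s, F v = v) →
        (∀ c : s → ℤ, (∑ v : s, c v • (v : V)) = 0 → ∀ v : s, (p : ℤ) ∣ c v) →
          LinearIndependent k (fun v : s => (v : V)) := by
  classical
  have hp1 : 1 < p := (Fact.out : p.Prime).one_lt
  have hFi : ∀ (n : ℕ) (a : k) (v : V), F^[n] (a • v) = a ^ p ^ n • F^[n] v := by
    intro n
    induction n with
    | zero => simp
    | succ n ih =>
      intro a v
      rw [Function.iterate_succ_apply', Function.iterate_succ_apply', ih, hF, ← pow_mul, ← pow_succ]
  have hadd : ∀ (n : ℕ) (v w : V), F^[n] (v + w) = F^[n] v + F^[n] w := fun n => iterate_map_add F n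
  have hzero : ∀ n : ℕ, F^[n] (0 : V) = 0 := fun n => iterate_map_zero F n
  let Ker : ℕ →o Submodule k V :=
    ⟨fun n => { carrier := {v | F^[n] v = 0}
                add_mem' := fun {a b} ha hb => by
                  show F^[n] (a + b) = 0
                  rw [hadd, show F^[n] a = 0 from ha, show F^[n] b = 0 from hb, add_zero]
                zero_mem' := hzero n
                smul_mem' := fun a v hv => by
                  show F^[n] (a • v) = 0
                  rw [hFi, show F^[n] v = 0 from hv, smul_zero] },
      monotone_nat_of_le_succ fun n v (hv : F^[n] v = 0) => by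
        show F^[n+1] v = 0
        rw [Function.iterate_succ_apply', hv, map_zero]⟩
  let Im : ℕ →o (Submodule k V)ᵒᵈ :=
    ⟨fun n => OrderDual.toDual
              { carrier := Set.range F^[n]
                add_mem' := by rintro _ _ ⟨a, rfl⟩ ⟨b, rfl⟩; exact ⟨a + b, hadd n a b⟩
                zero_mem' := ⟨0, hzero n⟩
                smul_mem' := by
                  rintro a _ ⟨v, rfl⟩
                  obtain ⟨z, hz⟩ := IsAlgClosed.exists_pow_nat_eq a (show 0 < p ^ n from pow_pos (by omega) n)
                  exact ⟨z • v, by rw [hFi, hz]⟩ },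
      monotone_nat_of_le_succ fun n => by
        rintro _ ⟨v, rfl⟩
        exact ⟨F v, (Function.iterate_succ_apply F n v).symm⟩⟩
  obtain ⟨n₁, hn₁⟩ := monotone_stabilizes_iff_noetherian.2 inferInstance Ker
  obtain ⟨n₂, hn₂⟩ := IsArtinian.monotone_stabilizes Im
  let N := max n₁ n₂
  let R : Submodule k V := OrderDual.ofDual (Im N)
  have hK : ∀ j, Ker (N + j) = Ker N := fun j => (hn₁ _ (by omega)).symm.trans (hn₁ _ (le_max_left _ _))
  have hI : ∀ j v, ∃ w, F^[N + j] w = F^[N] v := by
    intro j v
    have h : OrderDual.ofDual (Im (N + j)) = R :=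
      congrArg OrderDual.ofDual ((hn₂ _ (by omega)).symm.trans (hn₂ _ (le_max_right _ _)))
    have : F^[N] v ∈ OrderDual.ofDual (Im (N + j)) := h ▸ (⟨v, rfl⟩ : F^[N] v ∈ R)
    exact this
  have hspanK : Submodule.span k {v : V | ∃ m : ℕ, (⇑F)^[m] v = 0} = Ker N := by
    refine le_antisymm (Submodule.span_le.2 ?_) (fun v hv => Submodule.subset_span ⟨N, hv⟩)
    rintro v ⟨m, hm⟩
    have : v ∈ Ker (N + m) := by
      show F^[N + m] v = 0
      rw [Function.iterate_add_apply, hm, hzero]
    rwa [hK] at this
  have hdisj : ∀ v ∈ R, v ∈ Ker N → v = 0 := by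
    rintro _ ⟨w, rfl⟩ (hw : F^[N] (F^[N] w) = 0)
    rw [← Function.iterate_add_apply] at hw
    have : w ∈ Ker (N + N) := hw
    rw [hK] at this
    exact this
  let FR : R →+ R := (F.comp R.toAddSubgroup.subtype).codRestrict R (by
    rintro ⟨_, v, rfl⟩
    exact ⟨F v, (Function.iterate_succ_apply F N v).symm.trans (Function.iterate_succ_apply' F N v)⟩)
  have hFR : Function.Bijective FR := by
    constructor
    · rw [injective_iff_map_eq_zero]
      intro v hv
      refine Subtype.ext (hdisj _ v.2 ?_)
      have h1 : F v.1 = 0 := congrArg Subtype.val hv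
      have h2 : v.1 ∈ Ker (N + 1) := by
        show F^[N + 1] v.1 = 0
        rw [Function.iterate_succ_apply, h1, hzero]
      rwa [hK] at h2
    · rintro ⟨_, v, rfl⟩
      obtain ⟨w, hw⟩ := hI 1 v
      refine ⟨⟨F^[N] w, w, rfl⟩, Subtype.ext ?_⟩
      show F (F^[N] w) = F^[N] v
      rw [← hw, Function.iterate_succ_apply']
  obtain ⟨ι, b, hb⟩ := Groth.Agent.S16853.result k p 1 le_rfl R FR
    (fun a v => Subtype.ext (by show F (a • v.1) = a ^ p ^ 1 • F v.1; rw [pow_one]; exact hF a v.1)) hFR
  have hspanF : Submodule.span k {v : V | F v = v} = R := by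
    refine le_antisymm (Submodule.span_le.2 fun v (hv : F v = v) => ⟨v, Function.iterate_fixed hv N⟩) ?_
    have : R = Submodule.span k (Set.range fun i => (b i : V)) := by
      rw [show (Set.range fun i => (b i : V)) = R.subtype '' Set.range b by rw [← Set.range_comp]; rfl,
        ← Submodule.map_span, b.span_eq, Submodule.map_top, Submodule.range_subtype]
    rw [this]
    refine Submodule.span_mono ?_
    rintro _ ⟨i, rfl⟩
    exact congrArg Subtype.val (hb i)
  refine ⟨?_, ?_⟩
  · rw [hspanF, hspanK]
    refine ⟨Submodule.disjoint_def.2 hdisj, codisjoint_iff.2 (eq_top_iff.2 fun v _ => ?_)⟩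
    obtain ⟨w, hw⟩ := hI N v
    refine Submodule.mem_sup.2 ⟨F^[N] w, ⟨w, rfl⟩, v - F^[N] w, ?_, add_sub_cancel _ _⟩
    show F^[N] (v - F^[N] w) = 0
    rw [show F^[N] (v - F^[N] w) = F^[N] v - F^[N] (F^[N] w) from iterate_map_sub F N _ _,
      ← Function.iterate_add_apply, hw, sub_self]
  intro s hs hind
  suffices H : ∀ u : Finset V, u ⊆ s → ∀ c : V → k, ∑ v ∈ u, c v • v = 0 → ∀ v ∈ u, c v = 0 by
    rw [Fintype.linearIndependent_iff]
    intro c hc v
    let c' : V → k := fun x => if h : x ∈ s then c ⟨x, h⟩ else 0
    have := H s subset_rfl c' (by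
      rw [← Finset.sum_attach]
      refine Eq.trans (Finset.sum_congr rfl fun x _ => ?_) hc
      simp [c', x.2]) v v.2
    simpa [c'] using this
  intro u
  induction u using Finset.induction with
  | empty => simp
  | insert a u ha ih =>
    intro hu c hc
    rw [Finset.sum_insert ha] at hc
    have hu' : u ⊆ s := fun x hx => hu (Finset.mem_insert_of_mem hx)
    by_cases h0 : c a = 0
    · rw [h0, zero_smul, zero_add] at hc
      intro v hv
      rcases Finset.mem_insert.1 hv with rfl | hv
      · exact h0
      · exact ih hu' c hc v hv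
    exfalso
    let d : V → k := fun v => -(c v / c a)
    have hd : a = ∑ v ∈ u, d v • v := by
      rw [← inv_smul_smul₀ h0 a, eq_neg_of_add_eq_zero_left hc, ← Finset.sum_neg_distrib, Finset.smul_sum]
      refine Finset.sum_congr rfl fun v _ => ?_
      rw [← neg_smul, smul_smul]
      congr 1
      simp [d, div_eq_inv_mul]
    have hd' : ∀ v ∈ u, d v ^ p = d v := by
      intro v hv
      refine sub_eq_zero.1 (ih hu' (fun v => d v ^ p - d v) ?_ v hv)
      simp only [sub_smul, Finset.sum_sub_distrib]
      have e := hs a (hu (Finset.mem_insert_self a u))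
      rw [hd, map_sum] at e
      rw [← sub_eq_zero.2 e]
      congr 1
      exact Finset.sum_congr rfl fun v hv => by rw [hF, hs v (hu' hv)]
    letI : Algebra (ZMod p) k := ZMod.algebra k p
    have hint : ∀ v ∈ u, ∃ z : ℤ, (z : k) = d v := by
      intro v hv
      have hne : (Polynomial.X ^ p - Polynomial.X : Polynomial (ZMod p)) ≠ 0 := FiniteField.X_pow_card_sub_X_ne_zero _ hp1
      have hmem : d v ∈ ((Polynomial.X ^ p - Polynomial.X : Polynomial (ZMod p)).map (algebraMap (ZMod p) k)).roots := by
        rw [Polynomial.mem_roots ((Polynomial.map_ne_zero_iff (algebraMap (ZMod p) k).injective).2 hne)]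
        simp [hd' v hv]
      have hroots : (Polynomial.X ^ p - Polynomial.X : Polynomial (ZMod p)).roots = Finset.univ.val := by
        have := FiniteField.roots_X_pow_card_sub_X (ZMod p)
        rwa [ZMod.card] at this
      rw [← Polynomial.roots_map_of_injective_of_card_eq_natDegree (algebraMap (ZMod p) k).injective
        (by rw [hroots, FiniteField.X_pow_card_sub_X_natDegree_eq _ hp1]; simp [ZMod.card]), hroots] at hmem
      obtain ⟨z, -, hz⟩ := Multiset.mem_map.1 hmem
      obtain ⟨n, rfl⟩ := ZMod.intCast_surjective z
      exact ⟨n, by rw [← hz, map_intCast]⟩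
    choose! z hz using hint
    let cz : V → ℤ := fun x => if x = a then -1 else if x ∈ u then z x else 0
    have := hind (fun x => cz x.1) (by
      rw [Finset.sum_coe_sort s (fun x => cz x • x), ← Finset.sum_subset hu (fun x _ hx => by
        simp only [Finset.mem_insert, not_or] at hx
        simp [cz, hx.1, hx.2]), Finset.sum_insert ha]
      rw [show cz a • a = -a by simp [cz]]
      nth_rewrite 1 [hd]
      rw [neg_add_eq_zero]
      refine Finset.sum_congr rfl fun v hv => ?_
      have hva : v ≠ a := fun h => ha (h ▸ hv)
      simp only [cz, hva, hv, if_true, if_false]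
      rw [← hz v hv, Int.cast_smul_eq_zsmul]) ⟨a, hu (Finset.mem_insert_self a u)⟩
    simp [cz] at this
    exact absurd (Int.eq_one_of_dvd_one (by positivity) this) (by exact_mod_cast hp1.ne')

end Groth.Agent.S8604
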