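import Groth.Statements.S8607
import Groth.Agent.Lib.DEtCompact.Basic
-- import your own Groth.Agent.* helpers here

set_option autoImplicit false
universe u
open CategoryTheory CategoryTheory.Limits AlgebraicGeometry Opposite
open DEt

namespace Groth.Agent.S8607

/-- The equalizing half of 'the category of compactifications of f is cofiltering': let f : X -> Y be a
morphism of quasi-compact quasi-separated schemes, (Xbar_1, j_1, fbar_1) and (Xbar_2, j_2, fbar_2)
two compactifications of f, and r, s : Xbar_1 -> Xbar_2 two morphisms of compactifications (r ∘ j_1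
= j_2 = s ∘ j_1 and fbar_2 ∘ r = fbar_1 = fbar_2 ∘ s). Then there are a compactification (Xbar, j,
fbar) of f and a proper morphism t : Xbar -> Xbar_1 of compactifications (t ∘ j = j_1, fbar_1 ∘ t =
fbar) with r ∘ t = s ∘ t. -/
theorem result {X Y : Scheme.{u}} [CompactSpace ↥X] [QuasiSeparatedSpace ↥X]
    [CompactSpace ↥Y] [QuasiSeparatedSpace ↥Y] {f : X ⟶ Y} (c₁ c₂ : DEt.Compactification f)
    (r s : c₁.Xbar ⟶ c₂.Xbar) (hr : c₁.j ≫ r = c₂.j) (hs : c₁.j ≫ s = c₂.j)
    (hr' : r ≫ c₂.fbar = c₁.fbar) (hs' : s ≫ c₂.fbar = c₁.fbar) :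
    ∃ (c : DEt.Compactification f) (t : c.Xbar ⟶ c₁.Xbar), IsProper t ∧ c.j ≫ t = c₁.j ∧ t ≫ c₁.fbar = c.fbar ∧
      t ≫ r = t ≫ s := by
  let q := pullback.lift r s (hr'.trans hs'.symm)
  let l := pullback.lift (f := pullback.diagonal c₂.fbar) (g := q) c₂.j c₁.j (by
    apply pullback.hom_ext
    · rw [Category.assoc, Category.assoc, pullback.diagonal_fst, pullback.lift_fst,
        Category.comp_id, hr]
    · rw [Category.assoc, Category.assoc, pullback.diagonal_snd, pullback.lift_snd,
        Category.comp_id, hs])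
  have : IsImmersion l := by
    have : IsImmersion (l ≫ pullback.snd (pullback.diagonal c₂.fbar) q) := by
      simp only [l, pullback.lift_snd]; infer_instance
    exact IsImmersion.of_comp _ (pullback.snd (pullback.diagonal c₂.fbar) q)
  obtain ⟨c, p, hp, hj, hπ⟩ :=
    Groth.Agent.Lib.DEtCompact.Basic.exists_of_immersion (f := f)
      (pullback.snd (pullback.diagonal c₂.fbar) q ≫ c₁.fbar) l
      (by simp only [l, pullback.lift_snd_assoc, c₁.fac])
  refine ⟨c, p ≫ pullback.snd _ _, inferInstance, ?_, ?_, ?_⟩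
  · rw [reassoc_of% hj]; exact pullback.lift_snd _ _ _
  · rw [Category.assoc, hπ]
  · have h := pullback.condition (f := pullback.diagonal c₂.fbar) (g := q)
    have h₁ := h =≫ pullback.fst c₂.fbar c₂.fbar
    have h₂ := h =≫ pullback.snd c₂.fbar c₂.fbar
    simp only [q, Category.assoc, pullback.diagonal_fst, pullback.diagonal_snd, Category.comp_id,
      pullback.lift_fst, pullback.lift_snd] at h₁ h₂
    simp only [Category.assoc]
    rw [← h₁, ← h₂]

end Groth.Agent.S8607
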