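import Groth.Statements.S8609
import Groth.Agent.Lib.SymTrace99
-- import your own Groth.Agent.* helpers here

set_option autoImplicit false
universe u
open CategoryTheory
open SGA4h

namespace Groth.Agent.S8609

open TensorProduct PiTensorProduct Polynomial in
/-- The case of a module placed in degree 0: let A be a commutative ring, M a finite free A-module and u
an endomorphism of M. For each n let Γ^n M be the submodule of the n-fold tensor power of M fixed by
all permutations of the factors (symmetric tensors) and γ_n the endomorphism of Γ^n M induced by the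
n-fold tensor power of u. Then the power series Σ_n Tr(γ_n) t^n is the inverse of the polynomial
det(1 - u t, M): their product is 1 in A[[t]]. (The published statement allows M projective of
finite type; this row takes M free, where the trace of Γ^n M is the usual one.) -/
theorem result {A : Type u} [CommRing A] (M : Type u) [AddCommGroup M]
    [Module A M] [Module.Free A M] [Module.Finite A M] (u : M →ₗ[A] M)
    (γ : ∀ n : ℕ, ↥(⨅ σ : Equiv.Perm (Fin n),
        LinearMap.eqLocus ((PiTensorProduct.reindex A (fun _ : Fin n => M) σ).toLinearMap) LinearMap.id) →ₗ[A]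
      ↥(⨅ σ : Equiv.Perm (Fin n),
        LinearMap.eqLocus ((PiTensorProduct.reindex A (fun _ : Fin n => M) σ).toLinearMap) LinearMap.id))
    (hγ : ∀ (n : ℕ) (x : ↥(⨅ σ : Equiv.Perm (Fin n),
        LinearMap.eqLocus ((PiTensorProduct.reindex A (fun _ : Fin n => M) σ).toLinearMap) LinearMap.id)),
      (↑(γ n x) : ⨂[A] _i : Fin n, M) = PiTensorProduct.map (fun _ : Fin n => u) (↑x : ⨂[A] _i : Fin n, M)) :
    (↑(SGA4h.detOneSub (ModuleCat.of A M) (ModuleCat.ofHom u)) : PowerSeries A) *
      PowerSeries.mk (fun n => LinearMap.trace A _ (γ n)) = 1 := by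
  by_cases hN : Nontrivial A
  · have b := Module.finBasis A M
    have h := Groth.Agent.Lib.SymTrace99.good (LinearMap.toMatrix b b u)
    unfold Groth.Agent.Lib.SymTrace99.Good at h
    have hQ : SGA4h.detOneSub (ModuleCat.of A M) (ModuleCat.ofHom u) =
        Matrix.charpolyRev (LinearMap.toMatrix b b u) :=
      Groth.Agent.Lib.SymTrace99.det_oneSub b u
    rw [hQ]
    refine Eq.trans (congrArg₂ (· * ·) rfl ?_) h
    ext n
    simp only [Groth.Agent.Lib.SymTrace99.P, PowerSeries.coeff_mk]
    exact Groth.Agent.Lib.SymTrace99.trace_sym b u (γ n) (hγ n)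
  · rw [not_nontrivial_iff_subsingleton] at hN
    exact Subsingleton.elim _ _

end Groth.Agent.S8609
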