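import Groth.Statements.S8611
import Groth.Agent.H88.DeltaIso

set_option autoImplicit false
universe w v u
open CategoryTheory CategoryTheory.Limits
open SGA4h

namespace Groth.Agent.S8611
open Groth.Agent.H88.DeltaIso

/-- Let C be an abelian category, T and T' cohomological delta-functors on C in degrees ≥ 0 with values
in abelian groups, both left exact in degree 0, with T effaceable in every degree q > 0 (every
element of T^q(A) is killed by T^q(u) for some monomorphism u : A → M, depending on the element),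
and φ : T → T' a morphism of delta-functors. Let E be a class of objects such that every object
admits a monomorphism into a member of E. Then the following are equivalent: (i) φ^q(A) is bijective
for all q and all A; (ii) φ^0(M) is bijective and φ^q(M) is surjective for q > 0, for all M in E;
(iii) φ^0(A) is bijective for all A and T' is effaceable in every degree > 0 (in the same
element-wise sense). Stated as (i) ⇔ (ii) together with (i) ⇔ (iii). -/
theorem result {C : Type u} [Category.{v} C] [Abelian C]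
    (T T' : DeltaF.CohDeltaFunctor C AddCommGrpCat.{w} ℕ) (hT0 : T.ZeroMono) (hT'0 : T'.ZeroMono)
    (hT : ∀ (q : ℕ) (A : C) (α : (T.F (q + 1)).obj A),
      ∃ (M : C) (u : A ⟶ M), Mono u ∧ (T.F (q + 1)).map u α = 0)
    (φ : T ⟶ T') (E : ObjectProperty C)
    (hE : ∀ A : C, ∃ (M : C) (i : A ⟶ M), Mono i ∧ E M) :
    ((∀ (q : ℕ) (A : C), IsIso ((φ.app q).app A)) ↔
      ((∀ M : C, E M → IsIso ((φ.app 0).app M)) ∧
        ∀ (q : ℕ) (M : C), E M → Epi ((φ.app (q + 1)).app M))) ∧
    ((∀ (q : ℕ) (A : C), IsIso ((φ.app q).app A)) ↔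
      ((∀ A : C, IsIso ((φ.app 0).app A)) ∧
        ∀ (q : ℕ) (A : C) (α : (T'.F (q + 1)).obj A),
          ∃ (M : C) (u : A ⟶ M), Mono u ∧ (T'.F (q + 1)).map u α = 0)) := by
  have h1 : (∀ (q : ℕ) (A : C), IsIso ((φ.app q).app A)) →
      ∀ (q : ℕ) (A : C) (α : (T'.F (q + 1)).obj A),
          ∃ (M : C) (u : A ⟶ M), Mono u ∧ (T'.F (q + 1)).map u α = 0 := by
    intro h q A α'
    obtain ⟨α, rfl⟩ := surj_of φ (h (q + 1) A) α'
    obtain ⟨M, u, hu, hα⟩ := hT q A α
    exact ⟨M, u, hu, by rw [← nat, hα, map_zero]⟩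
  refine ⟨⟨fun h ↦ ⟨fun M _ ↦ h 0 M, fun q M _ ↦ haveI := h (q + 1) M; inferInstance⟩, ?_⟩,
    ⟨fun h ↦ ⟨fun A ↦ h 0 A, h1 h⟩, ?_⟩⟩
  · rintro ⟨h0, hq⟩
    have main : ∀ q, (∀ A, Inj φ q A) ∧ ∀ A, Surj φ q A := by
      intro q
      induction q with
      | zero =>
        have hi : ∀ A, Inj φ 0 A := fun A ↦ by
          obtain ⟨M, i, hi, hM⟩ := hE A
          exact inj_zero φ hT0 (ses i) (ses_shortExact i) (inj_of φ (h0 M hM))
        refine ⟨hi, fun A ↦ ?_⟩
        obtain ⟨M, i, hi', hM⟩ := hE A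
        exact surj_zero φ hT'0 (ses i) (ses_shortExact i) (surj_of φ (h0 M hM)) (hi _)
      | succ q ih =>
        have hi : ∀ A, Inj φ (q + 1) A := inj_succ_of_effaceable φ q (hT q) ih.1 ih.2
        refine ⟨hi, fun A ↦ ?_⟩
        obtain ⟨M, i, hi', hM⟩ := hE A
        exact surj_succ φ (ses i) (ses_shortExact i) q
          ((AddCommGrpCat.epi_iff_surjective _).1 (hq q M hM)) (hi _) (ih.2 _)
    exact fun q A ↦ isIso_of φ ((main q).1 A) ((main q).2 A)
  · rintro ⟨h0, hT'⟩
    have main : ∀ q, (∀ A, Inj φ q A) ∧ ∀ A, Surj φ q A := by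
      intro q
      induction q with
      | zero => exact ⟨fun A ↦ inj_of φ (h0 A), fun A ↦ surj_of φ (h0 A)⟩
      | succ q ih =>
        refine ⟨inj_succ_of_effaceable φ q (hT q) ih.1 ih.2, fun A α' ↦ ?_⟩
        obtain ⟨M, u, hu, hu'⟩ := hT' q A α'
        obtain ⟨β', rfl⟩ := ex₁ T' (ses u) (ses_shortExact u) q α' hu'
        obtain ⟨β, rfl⟩ := ih.2 _ β'
        exact ⟨_, comm φ (ses u) (ses_shortExact u) q β⟩
    exact fun q A ↦ isIso_of φ ((main q).1 A) ((main q).2 A)

end Groth.Agent.S8611
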