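import Groth.Statements.S8612
import Groth.Agent.H88.DeltaIso

set_option autoImplicit false
universe w v u
open CategoryTheory CategoryTheory.Limits
open SGA4h

namespace Groth.Agent.S8612
open Groth.Agent.H88.DeltaIso

/-- Let C be an abelian category with filtered colimits, T and T' cohomological delta-functors on C in
degrees ≥ 0 with values in abelian groups, both left exact in degree 0 and commuting with filtered
colimits in every degree, and φ : T → T' a morphism of delta-functors. Let D and E be classes of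
objects such that (a) every object of C is a filtered colimit of objects of D and (b) every object
of D admits a monomorphism into a member of E. Then φ^q(A) is bijective for all q and all A if and
only if φ^q(M) is bijective for all q and all M in E. -/
theorem result {C : Type u} [Category.{v} C] [Abelian C]
    [HasFilteredColimitsOfSize.{v, v} C]
    (T T' : DeltaF.CohDeltaFunctor C AddCommGrpCat.{w} ℕ) (hT0 : T.ZeroMono) (hT'0 : T'.ZeroMono)
    [∀ n, PreservesFilteredColimitsOfSize.{v, v} (T.F n)] [∀ n, PreservesFilteredColimitsOfSize.{v, v} (T'.F n)]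
    (φ : T ⟶ T') (D E : ObjectProperty C)
    (hD : ∀ A : C, ∃ (J : Type v) (_ : SmallCategory J) (_ : IsFiltered J) (K : J ⥤ C) (c : Cocone K)
      (_ : IsColimit c), (∀ j, D (K.obj j)) ∧ Nonempty (c.pt ≅ A))
    (hE : ∀ A : C, D A → ∃ (M : C) (i : A ⟶ M), Mono i ∧ E M) :
    (∀ (q : ℕ) (A : C), IsIso ((φ.app q).app A)) ↔
      ∀ (q : ℕ) (M : C), E M → IsIso ((φ.app q).app M) := by
  refine ⟨fun h q M _ ↦ h q M, fun h ↦ ?_⟩
  have glue : ∀ (q : ℕ), ((∀ A, D A → Inj φ q A) → ∀ A, Inj φ q A) ∧
      ((∀ A, D A → Surj φ q A) → ∀ A, Surj φ q A) := by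
    refine fun q ↦ ⟨fun hh A ↦ ?_, fun hh A ↦ ?_⟩
    all_goals
      obtain ⟨J, _, _, K, c, hc, hK, ⟨e⟩⟩ := hD A
    · intro x y hxy
      have := inj_colimit φ hc q (fun j ↦ hh _ (hK j))
      have he : Function.Injective ((T.F q).map e.inv) :=
        ((ConcreteCategory.isIso_iff_bijective _).1 inferInstance).1
      refine he (this ?_)
      rw [nat, nat, hxy]
    · intro y
      have := surj_colimit φ hc q (fun j ↦ hh _ (hK j))
      obtain ⟨x, hx⟩ := this ((T'.F q).map e.inv y)
      refine ⟨(T.F q).map e.hom x, ?_⟩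
      rw [nat, hx, ← ConcreteCategory.comp_apply, ← Functor.map_comp, e.inv_hom_id,
        CategoryTheory.Functor.map_id, ConcreteCategory.id_apply]
  have main : ∀ q, (∀ A, Inj φ q A) ∧ ∀ A, Surj φ q A := by
    intro q
    induction q with
    | zero =>
      have hi : ∀ A, Inj φ 0 A := (glue 0).1 fun A hA ↦ by
        obtain ⟨M, i, hi, hM⟩ := hE A hA
        exact inj_zero φ hT0 (ses i) (ses_shortExact i) (inj_of φ (h 0 M hM))
      refine ⟨hi, (glue 0).2 fun A hA ↦ ?_⟩
      obtain ⟨M, i, hi', hM⟩ := hE A hA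
      exact surj_zero φ hT'0 (ses i) (ses_shortExact i) (surj_of φ (h 0 M hM)) (hi _)
    | succ q ih =>
      have hi : ∀ A, Inj φ (q + 1) A := (glue (q + 1)).1 fun A hA ↦ by
        refine (injective_iff_map_eq_zero _).2 fun α hα ↦ ?_
        obtain ⟨M, i, hi, hM⟩ := hE A hA
        refine eq_zero φ (ses i) (ses_shortExact i) q (ih.2 _) (ih.1 _) α hα ?_
        refine inj_of φ (h (q + 1) M hM) ?_
        rw [nat, hα, map_zero, map_zero]
      refine ⟨hi, (glue (q + 1)).2 fun A hA ↦ ?_⟩
      obtain ⟨M, i, hi', hM⟩ := hE A hA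
      exact surj_succ φ (ses i) (ses_shortExact i) q (surj_of φ (h (q + 1) M hM)) (hi _) (ih.2 _)
  exact fun q A ↦ isIso_of φ ((main q).1 A) ((main q).2 A)

end Groth.Agent.S8612
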