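import Groth.Statements.S8613
import Groth.Agent.H88.EtMod.Efface

set_option autoImplicit false
universe u
open CategoryTheory CategoryTheory.Limits AlgebraicGeometry
open SGA4h

namespace Groth.Agent.S8613

/-- Let X be a Noetherian scheme. The functors H^q(X, -) for q > 0 are effaceable in the category of
constructible abelian sheaves on the small etale site of X: for every constructible F, every q > 0
and every class α in H^q(X, F) there are a constructible G and a monomorphism u : F → G with
H^q(u)(α) = 0. -/
theorem result {X : Scheme.{u}} [IsNoetherian X] (F : EtCoh.Ab X)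
    (hF : EtPBC.IsConstructible F) (q : ℕ) (hq : 0 < q) (α : EtCoh.H X F q) :
    ∃ (G : EtCoh.Ab X) (u : F ⟶ G), EtPBC.IsConstructible G ∧ Mono u ∧
      (EtCoh.HF X q).map u α = 0 := by
  exact Groth.Agent.H88.EtMod.Efface.exists_efface F hF q hq α

end Groth.Agent.S8613
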