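import Groth.Statements.S8616
import Groth.Agent.H88.Hom.EdgeIn

set_option autoImplicit false
universe u
open CategoryTheory CategoryTheory.Limits AlgebraicGeometry
open SGA4h

namespace Groth.Agent.S8616

/-- Let f : X → Y and g : Y → Z be morphisms of quasi-compact quasi-separated schemes and F an abelian
etale sheaf on X with R^q f_* F = 0 for all q > 0. Then for every p the Leray edge map R^p g_*(f_*
F) → R^p (g ∘ f)_* F is an isomorphism. -/
theorem result {X Y Z : Scheme.{u}}
    [CompactSpace ↥X] [QuasiSeparatedSpace ↥X] [CompactSpace ↥Y] [QuasiSeparatedSpace ↥Y]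
    [CompactSpace ↥Z] [QuasiSeparatedSpace ↥Z]
    (f : X ⟶ Y) (g : Y ⟶ Z) [PreservesFiniteLimits (EtCoh.pull f)] (F : EtCoh.Ab X)
    (h : ∀ q : ℕ, 0 < q → IsZero ((EtCoh.Rpush f q).obj F)) (p : ℕ) :
    IsIso (EtBC.lerayEdgeIn f g p F) := by
  haveI := Groth.Agent.H88.Hom.EdgeIn.isIso_edgeIn (EtCoh.push f) (EtCoh.push g) p F h
  dsimp only [EtBC.lerayEdgeIn]
  infer_instance

end Groth.Agent.S8616
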