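import Groth.Agent.Lib.SemiLinFix28.Basic
import Groth.Statements.S8618
-- import your own Groth.Agent.* helpers here

set_option autoImplicit false
universe u
open SGA4h

namespace Groth.Agent.S8618

open Groth.Agent.Lib.SemiLinFix28.Basic

open TensorProduct in
/-- Let k be a finite field with q = p^f elements, F₀ ⊂ k its prime field, K an algebraically closed
extension of k, V a finite-dimensional k-vector space and φ a p-linear endomorphism of V (φ(λx) =
λ^p φ(x)); let F = φ^f, a k-linear endomorphism, F_K its K-linear extension to K ⊗_k V and φ_K the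
p-linear extension of φ (φ_K(μ ⊗ v) = μ^p ⊗ φ(v)). Then F_K preserves the F₀-subspace W = Ker(φ_K -
1) of K ⊗_k V, W is finite-dimensional over F₀, and the trace of F_K on W (an element of F₀) equals
the trace of F on V. -/
theorem result {p : ℕ} [Fact p.Prime] (k : Type u) [Field k] [Fintype k]
    [CharP k p] (f : ℕ) (hq : Fintype.card k = p ^ f) (K : Type u) [Field K] [Algebra k K] [IsAlgClosed K]
    (V : Type u) [AddCommGroup V] [Module k V] [FiniteDimensional k V]
    (φ : V →ₛₗ[frobenius k p] V) (F : V →ₗ[k] V) (hF : ∀ x, F x = (⇑φ)^[f] x)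
    (φK : K ⊗[k] V →+ K ⊗[k] V) (hφK : ∀ (μ : K) (v : V), φK (μ ⊗ₜ[k] v) = (μ ^ p) ⊗ₜ[k] φ v)
    (W : Submodule (↥(⊥ : Subfield k)) (K ⊗[k] V)) (hW : ∀ y, y ∈ W ↔ φK y = y) :
    (∀ y, φK y = y → φK (F.baseChange K y) = F.baseChange K y) ∧
    Module.Finite (↥(⊥ : Subfield k)) ↥W ∧
    ∀ (G : ↥W →ₗ[↥(⊥ : Subfield k)] ↥W), (∀ y : ↥W, (↑(G y) : K ⊗[k] V) = F.baseChange K ↑y) →
      algebraMap k K (algebraMap (↥(⊥ : Subfield k)) k (LinearMap.trace (↥(⊥ : Subfield k)) ↥W G)) =
        algebraMap k K (LinearMap.trace k V F) := by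
  classical
  haveI : CharP K p := charP_of_injective_algebraMap (algebraMap k K).injective p
  have hsm : ∀ (c : K) (y : K ⊗[k] V), φK (c • y) = c ^ p • φK y := fun c y => by
    induction y using TensorProduct.induction_on with
    | zero => simp
    | tmul μ v => rw [TensorProduct.smul_tmul', hφK, hφK, TensorProduct.smul_tmul', smul_eq_mul, smul_eq_mul, mul_pow]
    | add y z hy hz => simp only [smul_add, map_add, hy, hz]
  let ψ : K ⊗[k] V →ₛₗ[frobenius K p] K ⊗[k] V :=
    { toFun := φK, map_add' := map_add φK, map_smul' := fun c y => by simpa [frobenius_def] using hsm c y }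
  have hcomm : ∀ y, φK (F.baseChange K y) = F.baseChange K (φK y) := fun y => by
    induction y using TensorProduct.induction_on with
    | zero => simp
    | tmul μ v =>
      rw [LinearMap.baseChange_tmul, hφK, hφK, LinearMap.baseChange_tmul, hF, hF]
      exact congrArg ((μ ^ p) ⊗ₜ[k] ·) (Function.Commute.self_iterate (⇑φ) f v)
    | add y z hy hz => simp only [map_add, hy, hz]
  have hiter : ∀ (m : ℕ) (v : V), ψ^[m] ((1 : K) ⊗ₜ[k] v) = (1 : K) ⊗ₜ[k] (φ^[m] v) := fun m v => by
    induction m with
    | zero => rfl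
    | succ m ih =>
      rw [Function.iterate_succ_apply', ih, Function.iterate_succ_apply']
      exact (hφK 1 _).trans (by rw [one_pow])
  have hfpos : 0 < f := by
    rcases Nat.eq_zero_or_pos f with rfl | h
    · exact absurd hq (by simpa using (Fintype.one_lt_card (α := k)).ne')
    · exact h
  have hpow : ∀ (N : ℕ) (v : V),
      ((F.baseChange K) ^ N) ((1 : K) ⊗ₜ[k] v) = (1 : K) ⊗ₜ[k] (φ^[f * N] v) := fun N v => by
    induction N with
    | zero => rfl
    | succ N ih =>
      rw [pow_succ', Module.End.mul_apply, ih, LinearMap.baseChange_tmul, hF, ← Function.iterate_add_apply,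
        Nat.mul_succ, add_comm]
  set U := Submodule.span K (fixed ψ) with hUdef
  have hUφ : ∀ (n : ℕ) (y : K ⊗[k] V), y ∈ U → ψ^[n] y ∈ U := fun n y hy => by
    induction n with
    | zero => exact hy
    | succ n ih => rw [Function.iterate_succ_apply']; exact map_mem_span_fixed ψ ih
  have hUF : ∀ y ∈ U, F.baseChange K y ∈ U := fun y hy => by
    have hle : U ≤ U.comap (F.baseChange K) := Submodule.span_le.2 fun z hz =>
      Submodule.subset_span ((hcomm z).trans (congrArg (F.baseChange K) hz))
    exact hle hy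
  obtain ⟨N, hN⟩ : ∃ N : ℕ, ∀ x, ((F.baseChange K) ^ N) x ∈ U := by
    have hv : ∀ v : V, ∃ N : ℕ, ∀ m, N ≤ m → ((F.baseChange K) ^ m) ((1 : K) ⊗ₜ[k] v) ∈ U := fun v => by
      obtain ⟨N, hN⟩ := exists_iterate_mem_span_fixed ψ ((1 : K) ⊗ₜ[k] v)
      refine ⟨N, fun m hm => ?_⟩
      obtain ⟨d, hd⟩ := Nat.exists_eq_add_of_le (hm.trans (Nat.le_mul_of_pos_left m hfpos))
      rw [hpow, ← hiter, hd, add_comm, Function.iterate_add_apply]
      exact hUφ d _ hN
    choose Nv hNv using hv
    let bV := Module.finBasis k V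
    refine ⟨Finset.univ.sup fun i => Nv (bV i), fun x => ?_⟩
    induction x using TensorProduct.induction_on with
    | zero => simp
    | tmul μ v =>
      rw [show μ ⊗ₜ[k] v = μ • ((1 : K) ⊗ₜ[k] v) by rw [TensorProduct.smul_tmul', smul_eq_mul, mul_one],
        map_smul]
      refine U.smul_mem μ ?_
      rw [← bV.sum_repr v, TensorProduct.tmul_sum, map_sum]
      refine U.sum_mem fun i _ => ?_
      rw [← TensorProduct.smul_tmul, show (bV.repr v i • (1 : K)) ⊗ₜ[k] bV i =
        (algebraMap k K (bV.repr v i)) • ((1 : K) ⊗ₜ[k] bV i) by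
          rw [Algebra.smul_def, TensorProduct.smul_tmul', smul_eq_mul], map_smul]
      exact U.smul_mem _ (hNv _ _ (Finset.le_sup (f := fun j => Nv (bV j)) (Finset.mem_univ i)))
    | add y z hy hz => rw [map_add]; exact U.add_mem hy hz
  have hbot : ∀ x : K, x ^ p = x → x ∈ Set.range (algebraMap (⊥ : Subfield k) K) := fun x hx => by
    have h : x ∈ (⊥ : Subfield K) := (Subfield.mem_bot_iff_pow_eq_self K p).2 hx
    rw [← Subfield.map_bot (algebraMap k K), Subfield.mem_map] at h
    obtain ⟨y, hy, rfl⟩ := h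
    exact ⟨⟨y, hy⟩, rfl⟩
  let b := Module.Basis.ofVectorSpace (⊥ : Subfield k) W
  have hli : LinearIndependent K fun i => (b i : K ⊗[k] V) :=
    linearIndependent_of_fixed ψ hbot _ (fun i => (hW _).1 (b i).2)
      (b.linearIndependent.map' W.subtype W.ker_subtype)
  haveI : Finite (Module.Basis.ofVectorSpaceIndex (⊥ : Subfield k) W) := hli.finite
  haveI : Fintype (Module.Basis.ofVectorSpaceIndex (⊥ : Subfield k) W) := Fintype.ofFinite _
  refine ⟨fun y hy => (hcomm y).trans (congrArg _ hy), Module.Finite.of_basis b, fun G hG => ?_⟩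
  have hbU : ∀ i, (b i : K ⊗[k] V) ∈ U := fun i => Submodule.subset_span ((hW _).1 (b i).2)
  have hsum : ∀ y : W, (y : K ⊗[k] V) =
      ∑ i, algebraMap (⊥ : Subfield k) K (b.repr y i) • (b i : K ⊗[k] V) := fun y => by
    conv_lhs => rw [← b.sum_repr y, Submodule.coe_sum]
    exact Finset.sum_congr rfl fun i _ => (algebraMap_smul K (b.repr y i) (b i : K ⊗[k] V)).symm
  let bU : Module.Basis _ K U := Module.Basis.mk (v := fun i => (⟨b i, hbU i⟩ : U))
    (LinearIndependent.of_comp U.subtype hli) (by
      rintro ⟨y, hy⟩ -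
      have hy' : y ∈ Submodule.span K (Set.range fun i => (b i : K ⊗[k] V)) := by
        refine Submodule.span_le.2 ?_ hy
        intro z hz
        rw [SetLike.mem_coe, show z = ((⟨z, (hW z).2 hz⟩ : W) : K ⊗[k] V) from rfl, hsum]
        exact Submodule.sum_mem _ fun i _ => Submodule.smul_mem _ _ (Submodule.subset_span ⟨i, rfl⟩)
      obtain ⟨c, hc⟩ := (Submodule.mem_span_range_iff_exists_fun K).1 hy'
      exact (Submodule.mem_span_range_iff_exists_fun K).2 ⟨c, Subtype.ext (by simpa using hc)⟩)
  have hcol : ∀ i j, bU.repr ((F.baseChange K).restrict hUF (bU j)) i =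
      algebraMap (⊥ : Subfield k) K (b.repr (G (b j)) i) := fun i j => by
    have h : (F.baseChange K).restrict hUF (bU j) =
        ∑ l, algebraMap (⊥ : Subfield k) K (b.repr (G (b j)) l) • bU l := Subtype.ext (by
      simp only [bU, Module.Basis.mk_apply, LinearMap.restrict_apply, Submodule.coe_sum, Submodule.coe_smul]
      rw [← hG, ← hsum])
    rw [h, Module.Basis.repr_sum_self]
  calc algebraMap k K (algebraMap (⊥ : Subfield k) k (LinearMap.trace (⊥ : Subfield k) W G))
      = algebraMap (⊥ : Subfield k) K (LinearMap.trace (⊥ : Subfield k) W G) :=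
        (IsScalarTower.algebraMap_apply _ k K _).symm
    _ = LinearMap.trace K U ((F.baseChange K).restrict hUF) := by
        refine algebraMap_trace (K := K) (F := (⊥ : Subfield k)) (W := W) (U' := U) b bU G _ ?_
        exact hcol
    _ = LinearMap.trace K (K ⊗[k] V) (F.baseChange K) := (trace_eq_restrict _ hUF hN).symm
    _ = algebraMap k K (LinearMap.trace k V F) := LinearMap.trace_baseChange F K

end Groth.Agent.S8618
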