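import Groth.Statements.S8625
import Mathlib.Tactic.Group

set_option autoImplicit false
universe u
open SGA4h

namespace Groth.Agent.S8625

/-- Let G be a group with an endomorphism F, and assume the Lang map g ↦ F(g)g⁻¹ is surjective (for
instance the geometric points of a connected algebraic group over F_q with its Frobenius, where the
surjectivity is the classical result of Lang; the other Lang map g ↦ g⁻¹F(g) is then surjective too,
by g ↦ g⁻¹). Let G^F be the subgroup of fixed points of F. (i) If F(g)g⁻¹ is fixed by F then so is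
g⁻¹F(g). (ii), (iii) There is a bijection of the set of conjugacy classes of G^F with itself
sending, for every g with F(g)g⁻¹ ∈ G^F, the class of F(g)g⁻¹ to the class of g⁻¹F(g) (in particular
the latter class depends only on the former). -/
theorem result {G : Type u} [Group G] (F : G →* G)
    (hL : Function.Surjective fun g : G => F g * g⁻¹) :
    (∀ g : G, F (F g * g⁻¹) = F g * g⁻¹ → F (g⁻¹ * F g) = g⁻¹ * F g) ∧
    ∃ φ : ConjClasses ↥(F.eqLocus (MonoidHom.id G)) → ConjClasses ↥(F.eqLocus (MonoidHom.id G)),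
      Function.Bijective φ ∧
      ∀ (g : G) (h : F (F g * g⁻¹) = F g * g⁻¹) (h' : F (g⁻¹ * F g) = g⁻¹ * F g),
        φ (ConjClasses.mk (⟨F g * g⁻¹, h⟩ : ↥(F.eqLocus (MonoidHom.id G)))) =
          ConjClasses.mk (⟨g⁻¹ * F g, h'⟩ : ↥(F.eqLocus (MonoidHom.id G))) := by
  have key : ∀ g : G, F (F g * g⁻¹) = F g * g⁻¹ → F (g⁻¹ * F g) = g⁻¹ * F g := by
    intro g h
    set a := F g * g⁻¹ with ha
    have hg : F g = a * g := by simp [ha]
    rw [map_mul, map_inv, hg, map_mul, h, hg]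
    group
  refine ⟨key, ?_⟩
  let H := F.eqLocus (MonoidHom.id G)
  choose sec hsec0 using hL
  have hsec : ∀ b : G, F (sec b) * (sec b)⁻¹ = b := hsec0
  have hsec' : ∀ x, F (sec x) = x * sec x := fun x => by
    exact mul_inv_eq_iff_eq_mul.1 (hsec x)
  have hconj : ∀ (g g' : G) (a : H), F g * g⁻¹ ∈ H → F g' * g'⁻¹ ∈ H →
      F g' * g'⁻¹ = (a : G) * (F g * g⁻¹) * (a : G)⁻¹ →
      ∃ b : H, g'⁻¹ * F g' = (b : G) * (g⁻¹ * F g) * (b : G)⁻¹ := by
    intro g g' a hg hg' he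
    have ha : F (a : G) = a := a.2
    have hg1 : F g' = (a : G) * (F g * g⁻¹) * (a : G)⁻¹ * g' := mul_inv_eq_iff_eq_mul.1 he
    have hb : F (g'⁻¹ * a * g) = g'⁻¹ * a * g := by
      rw [map_mul, map_mul, map_inv, hg1, ha]
      group
    refine ⟨⟨_, hb⟩, ?_⟩
    rw [hg1]
    group
  let tw : H → H := fun x => ⟨(sec (x : G))⁻¹ * F (sec (x : G)), key (sec (x : G)) (by
    rw [hsec' (x : G), mul_inv_cancel_right]; exact x.2)⟩
  have htw : ∀ x : H, F (sec (x : G)) * (sec (x : G))⁻¹ = x := fun x => hsec (x : G)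
  let φ : ConjClasses H → ConjClasses H := Quotient.map tw (by
    intro x y hxy
    obtain ⟨a, ha⟩ := isConj_iff.1 (show IsConj x y from hxy)
    obtain ⟨b, hb⟩ := hconj (sec (x : G)) (sec (y : G)) a (by rw [htw]; exact x.2) (by rw [htw]; exact y.2)
      (by rw [htw, htw]; exact (congrArg Subtype.val ha).symm)
    exact isConj_iff.2 ⟨b, Subtype.ext hb.symm⟩)
  have hφ : ∀ x : H, φ (ConjClasses.mk x) = ConjClasses.mk (tw x) := fun x => rfl
  have hmain : ∀ (g : G) (h : F (F g * g⁻¹) = F g * g⁻¹) (h' : F (g⁻¹ * F g) = g⁻¹ * F g),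
      φ (ConjClasses.mk (⟨F g * g⁻¹, h⟩ : H)) = ConjClasses.mk (⟨g⁻¹ * F g, h'⟩ : H) := by
    intro g h h'
    rw [hφ, ConjClasses.mk_eq_mk_iff_isConj]
    obtain ⟨b, hb⟩ := hconj (sec (F g * g⁻¹)) g 1 (by rw [hsec]; exact h) h (by simp [hsec (F g * g⁻¹)])
    exact isConj_iff.2 ⟨b, Subtype.ext hb.symm⟩
  refine ⟨φ, ⟨?_, ?_⟩, hmain⟩
  · intro c d hcd
    obtain ⟨x, rfl⟩ := ConjClasses.exists_rep c
    obtain ⟨y, rfl⟩ := ConjClasses.exists_rep d
    rw [hφ, hφ, ConjClasses.mk_eq_mk_iff_isConj, isConj_iff] at hcd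
    obtain ⟨b, hb⟩ := hcd
    rw [ConjClasses.mk_eq_mk_iff_isConj, isConj_iff]
    set g := sec (x : G)
    set g' := sec (y : G)
    have hb' : (b : G) * (g⁻¹ * F g) * (b : G)⁻¹ = g'⁻¹ * F g' := congrArg Subtype.val hb
    have hfb : F (b : G) = b := b.2
    have hFg' : F g' = g' * ((b : G) * (g⁻¹ * F g) * (b : G)⁻¹) := by rw [hb', mul_inv_cancel_left]
    have hz : F (g' * b * g⁻¹) = g' * b * g⁻¹ := by
      rw [map_mul, map_mul, map_inv, hFg', hfb]
      group
    refine ⟨⟨_, hz⟩, Subtype.ext ?_⟩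
    change g' * b * g⁻¹ * (x : G) * (g' * b * g⁻¹)⁻¹ = (y : G)
    rw [← htw x, ← htw y]
    change g' * b * g⁻¹ * (F g * g⁻¹) * (g' * b * g⁻¹)⁻¹ = F g' * g'⁻¹
    rw [hFg']
    group
  · intro c
    obtain ⟨y, rfl⟩ := ConjClasses.exists_rep c
    have hy : F (y : G) = y := y.2
    set g := (sec (y : G)⁻¹)⁻¹
    have hFg : F g = g * y := by
      change F (sec (y : G)⁻¹)⁻¹ = (sec (y : G)⁻¹)⁻¹ * y
      rw [map_inv, hsec' (y : G)⁻¹]
      group
    clear_value g
    have h : F (F g * g⁻¹) = F g * g⁻¹ := by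
      rw [hFg, map_mul, map_inv, map_mul, hFg, hy]
      group
    refine ⟨ConjClasses.mk (⟨F g * g⁻¹, h⟩ : H), ?_⟩
    rw [hmain g h (key g h)]
    exact congrArg _ (Subtype.ext (by simp [hFg]))

end Groth.Agent.S8625
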