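import Groth.Statements.S8626
import Groth.Agent.H88.AdaptedClass

set_option autoImplicit false
universe v v' u u'
open CategoryTheory CategoryTheory.Limits
open SGA4h

namespace Groth.Agent.S8626

/-- Acyclicity assertion; A with enough injectives so that R^n f is the usual right derived functor: let
f : A → B be an additive functor between abelian categories and 𝒪 a class of objects of A, stable
under binary direct sums, such that (1) f carries every acyclic bounded-below cochain complex of
objects of 𝒪 (indexed by ℕ, exact in every degree, in degree 0 meaning the first differential is a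
monomorphism) to an acyclic complex, and (2) every object of A admits a monomorphism into a member
of 𝒪. Then every member of 𝒪 is right f-acyclic: R^n f(X) = 0 for all n > 0. -/
theorem result {A : Type u} [Category.{v} A] [Abelian A] [EnoughInjectives A]
    {B : Type u'} [Category.{v'} B] [Abelian B] (f : A ⥤ B) [f.Additive] (𝒪 : ObjectProperty A)
    (h0 : ∀ X Y : A, 𝒪 X → 𝒪 Y → 𝒪 (X ⊞ Y))
    (h1 : ∀ K : CochainComplex A ℕ, (∀ i, 𝒪 (K.X i)) → K.Acyclic →
      ((f.mapHomologicalComplex (ComplexShape.up ℕ)).obj K).Acyclic)
    (h2 : ∀ X : A, ∃ (Y : A) (i : X ⟶ Y), 𝒪 Y ∧ Mono i)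
    (X : A) (hX : 𝒪 X) (n : ℕ) (hn : 0 < n) :
    IsZero ((f.rightDerived n).obj X) := 
  Groth.Agent.H88.AdaptedClass.isZero_rightDerived f 𝒪 h1 h2 X hX n hn

end Groth.Agent.S8626
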