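import Groth.Statements.S8630
import Mathlib.RingTheory.Localization.Integral
import Mathlib.RingTheory.Polynomial.Content
import Mathlib.FieldTheory.Finite.Basic
import Mathlib.RingTheory.PowerSeries.NoZeroDivisors

set_option autoImplicit false
open Zeta

namespace Groth.Agent.S8630

/-- Fatou's lemma: let P, Q ∈ ℚ[T] be coprime with constant coefficient 1, and suppose the power series
P/Q has integer coefficients, i.e. P = Q·Z in ℚ⟦T⟧ for a power series Z with coefficients in ℤ. Then
P and Q have integer coefficients. -/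
theorem result (P Q : Polynomial ℚ)
    (hPQ : IsCoprime P Q) (hP : P.coeff 0 = 1) (hQ : Q.coeff 0 = 1) (Z : PowerSeries ℤ)
    (hZ : (P : PowerSeries ℚ) = (Q : PowerSeries ℚ) * PowerSeries.map (Int.castRingHom ℚ) Z) :
    (∃ P₀ : Polynomial ℤ, P₀.map (Int.castRingHom ℚ) = P) ∧
      ∃ Q₀ : Polynomial ℤ, Q₀.map (Int.castRingHom ℚ) = Q := by
  classical
  obtain ⟨a, b, hab⟩ := hPQ
  set Zq := PowerSeries.map (Int.castRingHom ℚ) Z
  let N := (IsLocalization.integerNormalization (nonZeroDivisors ℤ) Q).primPart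
  obtain ⟨⟨c, hc⟩, hcQ⟩ := IsLocalization.integerNormalization_map_to_map (nonZeroDivisors ℤ) Q
  have hc0 : c ≠ 0 := nonZeroDivisors.ne_zero hc
  set Q' := IsLocalization.integerNormalization (nonZeroDivisors ℤ) Q
  have hQ'0 : Q'.coeff 0 = c := by
    have := congrArg (fun r => Polynomial.coeff r 0) hcQ
    simp [hQ, Polynomial.coeff_map] at this
    exact_mod_cast this
  have hQ'ne : Q' ≠ 0 := fun h => hc0 (by rw [← hQ'0, h, Polynomial.coeff_zero])
  have hsplit : Q' = Polynomial.C Q'.content * N := Q'.eq_C_content_mul_primPart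
  have hprim : N.IsPrimitive := Q'.isPrimitive_primPart
  obtain ⟨⟨da, hda⟩, ha⟩ := IsLocalization.integerNormalization_map_to_map (nonZeroDivisors ℤ) a
  obtain ⟨⟨db, hdb⟩, hb⟩ := IsLocalization.integerNormalization_map_to_map (nonZeroDivisors ℤ) b
  set a' := IsLocalization.integerNormalization (nonZeroDivisors ℤ) a
  set b' := IsLocalization.integerNormalization (nonZeroDivisors ℤ) b
  let W : PowerSeries ℤ := PowerSeries.C Q'.content * (PowerSeries.C db * (a' : PowerSeries ℤ) * Z + PowerSeries.C da * (b' : PowerSeries ℤ))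
  have hW : (N : PowerSeries ℤ) * W = PowerSeries.C (c * da * db) := by
    apply PowerSeries.map_injective (Int.castRingHom ℚ) Int.cast_injective
    have e : ∀ (r : Polynomial ℤ), PowerSeries.map (Int.castRingHom ℚ) (r : PowerSeries ℤ) = ((r.map (Int.castRingHom ℚ) : Polynomial ℚ) : PowerSeries ℚ) :=
      fun r => Polynomial.polynomial_map_coe.symm
    have hQZ : ((a * P + b * Q : Polynomial ℚ) : PowerSeries ℚ) = 1 := by rw [hab, Polynomial.coe_one]
    rw [Polynomial.coe_add, Polynomial.coe_mul, Polynomial.coe_mul, hZ] at hQZ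
    have hcast : algebraMap ℤ ℚ = Int.castRingHom ℚ := rfl
    simp only [hcast, Submonoid.mk_smul, zsmul_eq_mul] at ha hb hcQ
    have hci : ∀ z : ℤ, (((z : Polynomial ℚ)) : PowerSeries ℚ) = z := fun z => map_intCast (Polynomial.coeToPowerSeries.ringHom (R := ℚ)) z
    have hN : (PowerSeries.map (Int.castRingHom ℚ)) (PowerSeries.C Q'.content) * ((N.map (Int.castRingHom ℚ) : Polynomial ℚ) : PowerSeries ℚ) = (c : PowerSeries ℚ) * (Q : PowerSeries ℚ) := by
      rw [← e, ← map_mul, show PowerSeries.C Q'.content * (N : PowerSeries ℤ) = (Q' : PowerSeries ℤ) by rw [← Polynomial.coe_C, ← Polynomial.coe_mul, ← hsplit], e, hcQ]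
      rw [Polynomial.coe_mul, hci]
    simp only [W, map_mul, map_add, e, ha, hb, Polynomial.coe_mul, PowerSeries.map_C] at hN ⊢
    simp only [eq_intCast, hci, map_intCast, Int.cast_id, Int.cast_mul] at hN ⊢
    linear_combination (((db : PowerSeries ℚ) * (da : PowerSeries ℚ)) * ((a : PowerSeries ℚ) * Zq + (b : PowerSeries ℚ))) * hN + ((c : PowerSeries ℚ) * db * da) * hQZ
  have desc : ∀ (m : ℕ) (M : ℤ) (V : PowerSeries ℤ), M.natAbs = m → M ≠ 0 → (N : PowerSeries ℤ) * V = PowerSeries.C M →
      IsUnit (N.coeff 0) := by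
    intro m
    induction m using Nat.strong_induction_on with
    | _ m ih =>
      intro M V hm hM h
      by_cases h1 : M.natAbs = 1
      · have := congrArg PowerSeries.constantCoeff h
        rw [map_mul, Polynomial.constantCoeff_coe, PowerSeries.constantCoeff_C] at this
        exact isUnit_of_mul_isUnit_left (this ▸ Int.isUnit_iff_natAbs_eq.2 h1)
      obtain ⟨p, hp, hpd⟩ := Nat.exists_prime_and_dvd h1
      have := Fact.mk hp
      obtain ⟨M', rfl⟩ := Int.natCast_dvd.2 hpd
      have hmap := congrArg (PowerSeries.map (Int.castRingHom (ZMod p))) h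
      rw [map_mul, PowerSeries.map_C, ← Polynomial.polynomial_map_coe] at hmap
      simp only [eq_intCast, Int.cast_mul, Int.cast_natCast, CharP.cast_eq_zero, zero_mul, map_zero, mul_eq_zero] at hmap
      have hNp : N.map (Int.castRingHom (ZMod p)) ≠ 0 := by
        intro h0
        refine (Nat.prime_iff_prime_int.1 hp).not_unit ((Polynomial.isPrimitive_iff_isUnit_of_C_dvd.1 hprim) p ?_)
        rw [Polynomial.C_dvd_iff_dvd_coeff]
        intro i
        have := congrArg (fun r => Polynomial.coeff r i) h0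
        rw [Polynomial.coeff_map, Polynomial.coeff_zero] at this
        exact (ZMod.intCast_zmod_eq_zero_iff_dvd _ _).1 this
      have hV : PowerSeries.map (Int.castRingHom (ZMod p)) V = 0 := hmap.resolve_left (fun h => hNp (Polynomial.coe_eq_zero_iff.1 h))
      choose v hv using fun i => (ZMod.intCast_zmod_eq_zero_iff_dvd (PowerSeries.coeff i V) p).1 (by simpa [PowerSeries.coeff_map] using congrArg (PowerSeries.coeff i) hV)
      have hV' : V = PowerSeries.C (p : ℤ) * PowerSeries.mk v := by
        ext i; rw [PowerSeries.coeff_C_mul, PowerSeries.coeff_mk, hv]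
      have hM' : M' ≠ 0 := right_ne_zero_of_mul hM
      refine ih M'.natAbs ?_ M' (PowerSeries.mk v) rfl hM' ?_
      · rw [← hm, Int.natAbs_mul, Int.natAbs_natCast]
        exact lt_mul_left (Int.natAbs_pos.2 hM') hp.one_lt
      · refine mul_left_cancel₀ (a := PowerSeries.C (p : ℤ)) (fun hC => hp.ne_zero (by simpa using congrArg PowerSeries.constantCoeff hC)) ?_
        rw [← mul_assoc, mul_comm (PowerSeries.C (p : ℤ)), mul_assoc, ← hV', h, map_mul]
  have hu := desc _ (c * da * db) W rfl (mul_ne_zero (mul_ne_zero hc0 (nonZeroDivisors.ne_zero hda)) (nonZeroDivisors.ne_zero hdb)) hW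
  obtain ⟨Q₀, hQ₀⟩ : ∃ Q₀ : Polynomial ℤ, Q₀.map (Int.castRingHom ℚ) = Q := by
    refine ⟨Polynomial.C (N.coeff 0) * N, Polynomial.ext fun i => ?_⟩
    have h0 : Q'.content * N.coeff 0 = c := by
      rw [← hQ'0, ← Polynomial.coeff_C_mul, ← hsplit]
    have hi := congrArg (fun r => Polynomial.coeff r i) hcQ
    rw [hsplit] at hi
    simp [Polynomial.coeff_map] at hi
    rw [← h0, Int.cast_mul] at hi
    rw [Polynomial.coeff_map, Polynomial.coeff_C_mul, eq_intCast, Int.cast_mul]
    have hk : (Q'.content : ℚ) ≠ 0 := Int.cast_ne_zero.2 fun h => hc0 (by rw [← h0, h, zero_mul])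
    rcases Int.isUnit_iff.1 hu with hn | hn <;> rw [hn] at hi ⊢ <;> push_cast at hi ⊢
    · exact mul_left_cancel₀ hk (by linear_combination hi)
    · exact mul_left_cancel₀ hk (by linear_combination -hi)
  refine ⟨?_, Q₀, hQ₀⟩
  have hPc : ∀ i, ∃ z : ℤ, (z : ℚ) = P.coeff i := fun i => ⟨PowerSeries.coeff i ((Q₀ : PowerSeries ℤ) * Z), by
    rw [← Polynomial.coeff_coe, hZ, ← hQ₀, Polynomial.polynomial_map_coe, ← map_mul, PowerSeries.coeff_map, eq_intCast]⟩
  choose z hz using hPc
  exact ⟨∑ i ∈ Finset.range (P.natDegree + 1), Polynomial.monomial i (z i), by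
    rw [Polynomial.map_sum]; conv_rhs => rw [P.as_sum_range]
    exact Finset.sum_congr rfl fun i _ => by rw [Polynomial.map_monomial, eq_intCast, hz]⟩

end Groth.Agent.S8630
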