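import Groth.Statements.S8649
import Groth.Agent.Lib.Lambda.Series

set_option autoImplicit false
universe u
open Finset
open LambdaRing

namespace Groth.Agent.S8649

/-- Let K be a pre-λ-ring (λ^0 = 1, λ^1 = id, λ^n(x + y) = Σ λ^p(x) λ^q(y)) in which λ^k(1) = 0 for all
k ≥ 2, so that λ_t(1) = 1 + t. Then the γ-operations, defined as the coefficients of λ_{t/(1−t)}(x)
(γ^0 = 1 and γ^n(x) = Σ_{j=1}^{n} C(n−1, j−1) λ^j(x) for n ≥ 1), satisfy γ^n(x) = λ^n(x + n − 1) for
all x and n. (The published statement is for a λ-ring, where λ_t also respects products and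
composition; its proof uses only additivity and λ_t(1) = 1 + t, which are the hypotheses taken
here.) -/
theorem result (K : Type u) [CommRing K] [LambdaRing.LambdaOps K]
    (h1 : ∀ k : ℕ, 2 ≤ k → LambdaRing.LambdaOps.lam k (1 : K) = 0) (n : ℕ) (x : K) :
    LambdaRing.gamma n x = LambdaRing.LambdaOps.lam n (x + (n : K) - 1) := by
  open Groth.Agent.Lib.Lambda in
  rcases n with _ | m
  · simp [gamma_zero_left, LambdaRing.LambdaOps.lam_zero]
  · have e : x + ((m + 1 : ℕ) : K) - 1 = x + (m : K) := by push_cast; ring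
    rw [e, LambdaRing.LambdaOps.lam_add]
    unfold LambdaRing.gamma
    rw [if_neg (Nat.succ_ne_zero m)]
    refine sum_congr rfl fun j hj => ?_
    rw [mem_range] at hj
    rw [lam_natCast h1]
    rcases j with _ | j
    · simp [Nat.choose_eq_zero_of_lt]
    · rw [if_neg (Nat.succ_ne_zero j), mul_comm]
      congr 2
      rw [Nat.add_sub_cancel, Nat.add_sub_cancel, Nat.add_sub_add_right, Nat.choose_symm (by omega)]

end Groth.Agent.S8649
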