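import Groth.Statements.S8650
import Groth.Agent.Lib.Lambda.Series

set_option autoImplicit false
universe u
open Finset
open LambdaRing

namespace Groth.Agent.S8650

/-- Let K be a pre-λ-ring (λ^0 = 1, λ^1 = id, additive formula) in which λ^k(1) = 0 for all k ≥ 2. Then
for every x ∈ K and every n, λ^n(x + n − 1) = (−1)^n Σ_{i=0}^{n} (−1)^i λ^i(x + n). (The published
statement is for a λ-ring; its proof uses only additivity and λ_t(1) = 1 + t, the hypotheses taken
here.) -/
theorem result (K : Type u) [CommRing K] [LambdaRing.LambdaOps K]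
    (h1 : ∀ k : ℕ, 2 ≤ k → LambdaRing.LambdaOps.lam k (1 : K) = 0) (n : ℕ) (x : K) :
    LambdaRing.LambdaOps.lam n (x + (n : K) - 1) =
      (-1 : K) ^ n * ∑ i ∈ range (n + 1), (-1 : K) ^ i * LambdaRing.LambdaOps.lam i (x + (n : K)) := by
  open Groth.Agent.Lib.Lambda in
  have hneg : ∀ k : ℕ, LambdaRing.LambdaOps.lam k (-1 : K) = (-1) ^ k := by
    intro k
    induction k with
    | zero => simp [LambdaRing.LambdaOps.lam_zero]
    | succ k ih =>
      have h := congrArg (PowerSeries.coeff (k + 1)) (lamSeries_mul_neg (1 : K))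
      rw [lamSeries_one h1, add_mul, one_mul, map_add, coeff_lamSeries,
        PowerSeries.coeff_succ_X_mul, coeff_lamSeries, ih, PowerSeries.coeff_one,
        if_neg (Nat.succ_ne_zero k)] at h
      rw [pow_succ]
      linear_combination h
  rw [sub_eq_add_neg, LambdaRing.LambdaOps.lam_add, mul_sum]
  refine sum_congr rfl fun i hi => ?_
  rw [mem_range] at hi
  rw [hneg, ← mul_assoc, ← pow_add, mul_comm]
  congr 1
  have h2 : n + i = (n - i) + (i + i) := by omega
  rw [h2, pow_add _ (n - i) (i + i), Even.neg_one_pow (n := i + i) ⟨i, rfl⟩, mul_one]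

end Groth.Agent.S8650
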