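import Groth.Statements.S8658
import Groth.Agent.Lib.Synt92.KRBase


set_option autoImplicit false
universe u
open CategoryTheory CategoryTheory.Limits AlgebraicGeometry
open Synt

namespace Groth.Agent.S8658

/-- Let f : X ⟶ Y be a local complete intersection morphism in the factorisation sense (around each
point of X, f is locally of finite type and factors as a Koszul-regular immersion followed by a
smooth morphism), and let g : Y' ⟶ Y be flat. Then for any cartesian square, the base change f' : X'
⟶ Y' is a local complete intersection morphism in the same sense. -/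
theorem result {X Y X' Y' : Scheme.{u}} (f : X ⟶ Y) (g : Y' ⟶ Y) [Flat g]
    (f' : X' ⟶ Y') (g' : X' ⟶ X) (hsq : IsPullback g' f' f g)
    (hf : ∀ x : X, Synt.IsKoszulAt f x) : ∀ x' : X', Synt.IsKoszulAt f' x' := by
  intro x'
  obtain ⟨U, P, i, π, hxU, hlft, hi, hπ, hfac⟩ := hf (g' x')
  let U' := g' ⁻¹ᵁ U
  have hsq1 : IsPullback (g' ∣_ U) (U'.ι ≫ f') (U.ι ≫ f) g :=
    (isPullback_morphismRestrict g' U).paste_vert hsq
  let i' : (U' : Scheme.{u}) ⟶ pullback π g :=
    pullback.lift (g' ∣_ U ≫ i) (U'.ι ≫ f') (by rw [Category.assoc, hfac]; exact hsq1.w)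
  have hsq2 : IsPullback (g' ∣_ U) i' i (pullback.fst π g) := by
    refine IsPullback.of_bot ?_ (pullback.lift_fst _ _ _).symm (IsPullback.of_hasPullback π g)
    rw [pullback.lift_snd, hfac]
    exact hsq1
  haveI : Smooth π := hπ
  haveI : Flat (pullback.fst π g) := MorphismProperty.pullback_fst _ _ inferInstance
  refine ⟨U', pullback π g, i', pullback.snd π g, hxU, ?_,
    Groth.Agent.Lib.Synt92.KRBase.isRegularImmersion_baseChange i _ i' (g' ∣_ U) hsq2 hi,
    MorphismProperty.pullback_snd _ _ hπ, pullback.lift_snd _ _ _⟩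
  exact MorphismProperty.of_isPullback (P := @LocallyOfFiniteType) hsq1 hlft

end Groth.Agent.S8658
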