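import Groth.Statements.S8667
import Groth.Agent.Lib.KVec.KcohBundle
import Groth.Agent.Lib.KVec.KcohPush
import Groth.Agent.Lib.KVec.KcohVanish
import Groth.Agent.Lib.Cyc.CH.BdlUniq
import Groth.Agent.Lib.Cyc.CH.SubLine
import Groth.Agent.Lib.ExchangeFP29.PBK.Koszul
import Groth.Agent.Lib.ProjSpace.Dim
import Groth.Agent.Lib.Perfect.Coherent
set_option linter.style.haveILetI false
-- import your own Groth.Agent.* helpers here

set_option autoImplicit false
universe v u
open CategoryTheory CategoryTheory.Limits AlgebraicGeometry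
attribute [local instance] HasDerivedCategory.standard
open SGA6
open Groth.Agent Groth.Agent.Lib TensorMod.Basic

namespace Groth.Agent.S8667

/-- Let S be a Noetherian scheme, E a finite locally free O_S-module of rank n, and (f : P ⟶ S, O(1), q)
the projective bundle P(E) (universal property for invertible quotients of pull-backs of E), with P
Noetherian. On K_• = K₀ of coherent modules let f^* be induced by pull-back along the flat f and ξ·
by tensoring with O(1) (both exact, carried as instance hypotheses, and preserving coherence,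
hypotheses hf and ht). Then the map (x_0, …, x_{n−1}) ↦ Σ_{i<n} ξ^i · f^*(x_i) from K_•(S)^n to
K_•(P) is bijective. (The published statement uses the basis ξ^{−i}, 0 ≤ i < n; multiplying by the
unit ξ^{n−1} turns it into 1, ξ, …, ξ^{n−1}, so the two statements are equivalent.) -/
theorem result {S P : Scheme.{u}} [IsNoetherian S] [IsNoetherian P] (n : ℕ)
    (E : S.Modules) (hE : FlatMod.IsFinLocFreeOfRank n E)
    (f : P ⟶ S) (O1 : P.Modules) (q : (Scheme.Modules.pullback f).obj E ⟶ O1) (hPB : KRR.IsProjBundle f E O1 q)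
    [(Scheme.Modules.pullback f).Additive] [PreservesFiniteLimits (Scheme.Modules.pullback f)] [PreservesFiniteColimits (Scheme.Modules.pullback f)]
    (hf : ∀ M : S.Modules, Coh.IsCoh M → Coh.IsCoh ((Scheme.Modules.pullback f).obj M))
    [PreservesFiniteLimits ((DCoh.tensorBi (X := P)).obj O1)] [PreservesFiniteColimits ((DCoh.tensorBi (X := P)).obj O1)]
    (ht : ∀ M : P.Modules, Coh.IsCoh M → Coh.IsCoh (((DCoh.tensorBi (X := P)).obj O1).obj M)) :
    Function.Bijective (fun x : Fin n → SGA6.Kcoh S =>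
      ∑ i : Fin n, (⇑(SGA6.mapSub ((DCoh.tensorBi (X := P)).obj O1) (fun M : P.Modules => Coh.IsCoh M) (fun M : P.Modules => Coh.IsCoh M) ht))^[(i : ℕ)]
        (SGA6.mapSub (Scheme.Modules.pullback f) (fun M : S.Modules => Coh.IsCoh M) (fun M : P.Modules => Coh.IsCoh M) hf (x i))) := by
  classical
  let T1 := SGA6.mapSub ((DCoh.tensorBi (X := P)).obj O1) (fun M : P.Modules => Coh.IsCoh M)
    (fun M : P.Modules => Coh.IsCoh M) ht
  let p := SGA6.mapSub (Scheme.Modules.pullback f) (fun M : S.Modules => Coh.IsCoh M)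
    (fun M : P.Modules => Coh.IsCoh M) hf
  rcases n with _ | r
  · haveI := Cyc.CH.BdlUniq.isEmpty hPB hE
    have hz : ∀ z : SGA6.Kcoh P, z = 0 := fun z => DFunLike.congr_fun
      (KRes.KSub.hom_ext (φ := AddMonoidHom.id (SGA6.Kcoh P)) (ψ := 0) fun M hM =>
        H95.SyzRes.K0.clSub_zero (Cyc.CH.isZero_of_rank_zero fun x => isEmptyElim x)) z
    exact ⟨fun a b _ => funext fun i => i.elim0, fun z => ⟨fun i => i.elim0, by simp [hz z]⟩⟩
  haveI := Cyc.CH.BdlUniq.isProper hPB hE
  haveI := ExchangeFP29.PBK.flat hPB hE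
  haveI : HasInjectiveResolutions P.Modules :=
    haveI := DerivedOX.Grothendieck.enoughInjectives_modules P
    inferInstance
  have hO := ExchangeFP29.PBK.isInvertible hPB
  let cS := KZero.clSub (fun M : S.Modules => Coh.IsCoh M)
  let cP := KZero.clSub (fun M : P.Modules => Coh.IsCoh M)
  -- the iterated twist
  have hpowc : ∀ (i : ℕ) (M : P.Modules), Coh.IsCoh M →
      Coh.IsCoh (CohB1.tensorMod (CohB1.tensorPow O1 i) M) := fun i M hM =>
    Snapper.Twist.isCoh_twist (TensorMod.Invertible.isInvertible_tensorPow hO i) hM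
  have hiter : ∀ (i : ℕ) (M : P.Modules), Coh.IsCoh M →
      (⇑T1)^[i] (cP M) = cP (CohB1.tensorMod (CohB1.tensorPow O1 i) M) := by
    intro i M hM
    induction i with
    | zero => exact H95.SyzRes.K0.clSub_iso (TensorMod.Basic.leftUnit M).symm hM
    | succ i ih =>
      rw [Function.iterate_succ_apply', ih]
      refine (KRes.KSub.mapSub_cl _ ht (hpowc i M hM)).trans
        (H95.SyzRes.K0.clSub_iso ?_ (ht _ (hpowc i M hM)))
      exact (TensorMod.Basic.assoc O1 (CohB1.tensorPow O1 i) M).symm ≪≫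
        TensorMod.Basic.tensorIso (TensorMod.Basic.comm O1 (CohB1.tensorPow O1 i)) (Iso.refl M)
  let Φ : (Fin (r + 1) → SGA6.Kcoh S) →+ SGA6.Kcoh P :=
    AddMonoidHom.mk' (fun x => ∑ i : Fin (r + 1), (⇑T1)^[(i : ℕ)] (p (x i))) fun a b => by
      simp only [Pi.add_apply, map_add, iterate_map_add, Finset.sum_add_distrib]
  show Function.Bijective Φ
  have hΦ : ∀ (a : Fin (r + 1)) (M : S.Modules), Coh.IsCoh M → Φ (Pi.single a (cS M)) =
      cP (CohB1.tensorMod (CohB1.tensorPow O1 (a : ℕ)) ((Scheme.Modules.pullback f).obj M)) := by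
    intro a M hM
    show ∑ i : Fin (r + 1), (⇑T1)^[(i : ℕ)]
      (p ((Pi.single a (cS M) : Fin (r + 1) → SGA6.Kcoh S) i)) = _
    rw [Finset.sum_eq_single a (fun b _ hb => by rw [Pi.single_eq_of_ne hb, map_zero, iterate_map_zero])
      (fun h => absurd (Finset.mem_univ a) h), Pi.single_eq_same, ← hiter _ _ (hf M hM)]
    exact congrArg _ (KRes.KSub.mapSub_cl _ hf hM)
  refine ⟨?_, ?_⟩
  swap
  · rw [← AddMonoidHom.range_eq_top]
    exact Devissage.FibreGen.eq_top f (fun i : Fin (r + 1) => CohB1.tensorPow O1 (i : ℕ))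
      (fun i => Perfect.Coherent.isCoh_of_isFinLocFree (TensorMod.LocFree.of_rank
        (TensorMod.LocFree.of_isInvertible (TensorMod.Invertible.isInvertible_tensorPow hO (i : ℕ)))))
      (KVec.KcohBundle.fibre_generated hPB hE) _ fun a M hM => ⟨_, hΦ a M hM⟩
  -- injectivity, by direct images
  obtain ⟨L, hL, ⟨c⟩⟩ := TensorMod.Invertible.exists_inverse hO
  obtain ⟨g, hg⟩ := KVec.KcohPush.exists_push f r fun y => by
    rw [← (f.fiberHomeo y).isHomeomorph.topologicalKrullDim_eq]
    exact KVec.KcohBundle.fibre_dim hPB hE y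
  have hpush : ∀ (m i : ℕ), i ≤ m → m ≤ r → ∀ M : S.Modules, Coh.IsCoh M →
      g (cP (CohB1.tensorMod (CohB1.tensorPow L m) (CohB1.tensorMod (CohB1.tensorPow O1 i)
        ((Scheme.Modules.pullback f).obj M)))) = if i = m then cS M else 0 := by
    intro m i him hmr M hM
    haveI := hM.1
    obtain ⟨k, rfl⟩ : ∃ k, m = k + i := ⟨m - i, by omega⟩
    obtain ⟨d⟩ := ExchangeFP29.PBK.Koszul.nonempty_powCancel c i 0
    let N := (Scheme.Modules.pullback f).obj M
    let e : CohB1.tensorMod (CohB1.tensorPow L (k + i)) (CohB1.tensorMod (CohB1.tensorPow O1 i) N) ≅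
        CohB1.tensorMod N (CohB1.tensorPow L k) :=
      tensorIso (Ample.Pow.powAdd L k i) (Iso.refl _) ≪≫ assoc _ _ _ ≪≫
        tensorIso (Iso.refl _) ((assoc _ _ _).symm ≪≫ tensorIso d (Iso.refl N) ≪≫ leftUnit N) ≪≫
        comm _ _
    have hN : Coh.IsCoh N := hf M hM
    have hc : Coh.IsCoh (CohB1.tensorMod N (CohB1.tensorPow L k)) :=
      CohBasics.Closure.isCoh_of_iso (comm _ _)
        (Snapper.Twist.isCoh_twist (TensorMod.Invertible.isInvertible_tensorPow hL k) hN)
    have e1 : cP (CohB1.tensorMod (CohB1.tensorPow L (k + i))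
        (CohB1.tensorMod (CohB1.tensorPow O1 i) N)) = cP (CohB1.tensorMod N (CohB1.tensorPow L k)) :=
      H95.SyzRes.K0.clSub_iso e (CohBasics.Closure.isCoh_of_iso e.symm hc)
    rw [e1, show g (cP _) = _ from hg.2 _ hc]
    rcases Nat.eq_zero_or_pos k with rfl | hk
    · rw [if_pos (by omega), Finset.sum_range_succ']
      haveI := KVec.KcohVanish.isIso_unit hPB hE M
      let u : M ≅ (Coh.Rpush f 0).obj (CohB1.tensorMod N (CohB1.tensorPow L 0)) :=
        asIso ((Scheme.Modules.pullbackPushforwardAdjunction f).unit.app M) ≪≫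
        (Scheme.Modules.pushforward f).mapIso (rightUnit N).symm ≪≫
        (((Scheme.Modules.pushforward f).rightDerivedZeroIsoSelf).app _).symm
      rw [Finset.sum_eq_zero fun j _ => ?_, zero_add, pow_zero, one_smul]
      · exact (H95.SyzRes.K0.clSub_iso u hM).symm
      · rw [H95.SyzRes.K0.clSub_zero (Z := (Coh.Rpush f (j + 1)).obj (CohB1.tensorMod N (CohB1.tensorPow L 0)))
          (KVec.RelVanish.isZero_Rpush_of_RpushAb f
          (KVec.KcohVanish.isZero hPB hE M _ 0 (j + 1) (by omega) (by omega) fun A j' hj' =>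
            ⟨PicLoc.pullbackStructureIso j' ≪≫ ProjCoh.Coherent.twZero.symm⟩)), smul_zero]
    · rw [if_neg (by omega)]
      refine Finset.sum_eq_zero fun j _ => ?_
      rw [H95.SyzRes.K0.clSub_zero (KVec.RelVanish.isZero_Rpush_of_RpushAb f
          (KVec.KcohVanish.isZero hPB hE M _ (-(k : ℤ)) j (by omega) (by omega) fun A j' hj' => ?_)), smul_zero]
      obtain ⟨o⟩ := hj'
      let e1 : CohB1.tensorMod ((Scheme.Modules.pullback j').obj L) (Twist.twistProjSpace r A 1) ≅
          CohB1.tensorMod (Twist.twistProjSpace r A (-1)) (Twist.twistProjSpace r A 1) :=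
        tensorIso (Iso.refl _) o.symm ≪≫ (TensorMod.Pullback.pullbackTensorIso j' L O1).symm ≪≫
          (Scheme.Modules.pullback j').mapIso (comm L O1 ≪≫ c) ≪≫ PicLoc.pullbackStructureIso j' ≪≫
          (ProjCoh.Coherent.twCancel (-1) 1 (by omega)).symm
      exact ⟨Ample.Pow.pullbackPow j' L k ≪≫ Ample.Pow.powIso
        (TensorMod.Invertible.cancelRight (ProjCoh.Coherent.isInvertible_tw (n := r) (R := A) 1) e1) k ≪≫
        (S4483.twPowNeg r A k).symm⟩
  rw [injective_iff_map_eq_zero]
  intro x hx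
  suffices key : ∀ (b : ℕ) (a : Fin (r + 1)), r < (a : ℕ) + b → x a = 0 from
    funext fun a => key (r + 1) a (by omega)
  intro b
  induction b with
  | zero => intro a ha; omega
  | succ b ih =>
    intro a ha
    obtain ⟨w, hw⟩ := KVec.KcohBundle.exists_tensorHom (TensorMod.Invertible.isInvertible_tensorPow hL (a : ℕ))
    have hterm : ∀ (i : Fin (r + 1)), (i : ℕ) ≤ a → ∀ y : SGA6.Kcoh S,
        g (w ((⇑T1)^[(i : ℕ)] (p y))) = if i = a then y else 0 := by
      intro i hia
      let D : SGA6.Kcoh S →+ SGA6.Kcoh S := AddMonoidHom.mk' (fun y => g (w ((⇑T1)^[(i : ℕ)] (p y))))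
        fun u v => by simp only [map_add, iterate_map_add]
      let D' : SGA6.Kcoh S →+ SGA6.Kcoh S := if i = a then AddMonoidHom.id _ else 0
      have hD : D = D' := KRes.KSub.hom_ext fun M hM => by
        show g (w ((⇑T1)^[(i : ℕ)] (p (cS M)))) = D' (cS M)
        rw [show p (cS M) = cP ((Scheme.Modules.pullback f).obj M) from KRes.KSub.mapSub_cl _ hf hM,
          hiter _ _ (hf M hM), show w (cP _) = _ from hw _ (hpowc _ _ (hf M hM)),
          show g (KZero.clSub _ _) = _ from hpush (a : ℕ) (i : ℕ) hia (by omega) M hM]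
        by_cases h : i = a
        · simp [D', h]
        · rw [if_neg fun e => h (Fin.ext e)]
          simp [D', h]
      intro y
      have := DFunLike.congr_fun hD y
      by_cases h : i = a <;> simp [D, D', h] at this ⊢ <;> exact this
    have h0 := congrArg (fun z => g (w z)) hx
    simp only [map_zero] at h0
    change g (w (∑ i : Fin (r + 1), (⇑T1)^[(i : ℕ)] (p (x i)))) = 0 at h0
    rw [map_sum, map_sum, Finset.sum_eq_single a] at h0
    · rwa [hterm a le_rfl, if_pos rfl] at h0
    · intro i _ hi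
      rcases le_or_gt (i : ℕ) a with h | h
      · rw [hterm i h, if_neg hi]
      · rw [ih i (by omega), map_zero, iterate_map_zero, map_zero, map_zero]
    · exact fun h => absurd (Finset.mem_univ a) h
end Groth.Agent.S8667
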