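import Groth.Statements.S8669
import Groth.Agent.Lib.ExchangeFP29.KPush.Push

set_option autoImplicit false
universe v u
open CategoryTheory CategoryTheory.Limits AlgebraicGeometry
attribute [local instance] HasDerivedCategory.standard
open SGA6
open Groth.Agent.Lib Groth.Agent.Lib.ExchangeFP29 Groth.Agent.Lib.ExchangeFP29.KPush

namespace Groth.Agent.S8669

/-- Let S be a quasi-compact scheme, f : P = P^r_S ⟶ S the projection, and F, G finite locally free
O_P-modules whose classes in K₀ of finite locally free O_P-modules coincide. Then there is n₀ such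
that for every n ≥ n₀ the modules f_*(F(n)) and f_*(G(n)) are finite locally free on S and have the
same class in K₀ of finite locally free O_S-modules, where F(n) = O_P(n) ⊗ F. (The published
statement is for the projective bundle of any finite locally free module of rank r + 1; this row
takes the trivial bundle.) -/
theorem result (S : Scheme.{u}) [CompactSpace ↥S] (r : ℕ)
    (F G : (KRR.PY r S).Modules) (hF : FlatMod.IsFinLocFree F) (hG : FlatMod.IsFinLocFree G)
    (h : KRR.cl (KRR.PY r S) F = KRR.cl (KRR.PY r S) G) :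
    ∃ n₀ : ℕ, ∀ n : ℕ, n₀ ≤ n →
      FlatMod.IsFinLocFree ((Scheme.Modules.pushforward (KRR.pr r S)).obj (KRR.twF r S (n : ℤ) F)) ∧
      FlatMod.IsFinLocFree ((Scheme.Modules.pushforward (KRR.pr r S)).obj (KRR.twF r S (n : ℤ) G)) ∧
      KRR.cl S ((Scheme.Modules.pushforward (KRR.pr r S)).obj (KRR.twF r S (n : ℤ) F)) =
        KRR.cl S ((Scheme.Modules.pushforward (KRR.pr r S)).obj (KRR.twF r S (n : ℤ) G)) := by
  classical
  obtain ⟨g, hg⟩ := Ext.exists_extend (Push.isAdd (n := r) (AddMonoidHom.id (SGA6.Kvb S)))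
  obtain ⟨a, ha⟩ := Ext.exists_lev F hF
  obtain ⟨b, hb⟩ := Ext.exists_lev G hG
  refine ⟨a + b, fun m hm => ?_⟩
  have la := (Ext.lev_of_le ha (show a ≤ m by omega)).2
  have lb := (Ext.lev_of_le hb (show b ≤ m by omega)).2
  have hAdd : ∃ τ : SGA6.Kvb (KRR.PY r S) →+ SGA6.Kvb (KRR.PY r S), ∀ E, FlatMod.IsFinLocFree E →
      τ (KRR.cl (KRR.PY r S) E) = KRR.cl (KRR.PY r S) (Reg.tw (m : ℤ) E) := by
    let t : Subtype (KRR.vbP (KRR.PY r S)) → SGA6.Kvb (KRR.PY r S) :=
      fun E => KRR.cl (KRR.PY r S) (Reg.tw (m : ℤ) E.1)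
    refine ⟨QuotientAddGroup.lift _ (FreeAbelianGroup.lift t) ?_, fun E hE => ?_⟩
    · refine (AddSubgroup.closure_le _).2 ?_
      rintro x ⟨T, h1, h2, h3, hT, rfl⟩
      show FreeAbelianGroup.lift t _ = 0
      rw [map_sub, map_sub, FreeAbelianGroup.lift_apply_of, FreeAbelianGroup.lift_apply_of,
        FreeAbelianGroup.lift_apply_of, sub_sub, sub_eq_zero]
      exact KAugNil98.Main.clSub_shortExact (hT.map_of_exact (Groth.Agent.H73.RegSeq.tb (m : ℤ)))
        (Reg.B_tw _ h1) (Reg.B_tw _ h2) (Reg.B_tw _ h3)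
    · simp only [KRR.cl, KZero.clSub, KRR.vbP, hE, dite_true]
      exact FreeAbelianGroup.lift_apply_of t ⟨E, hE⟩
  obtain ⟨τ, hτ⟩ := hAdd
  have e : ∀ E, FlatMod.IsFinLocFree E → Reg.RB (Reg.tw (m : ℤ) E) →
      FlatMod.IsFinLocFree ((Scheme.Modules.pushforward (KRR.pr r S)).obj (KRR.twF r S (m : ℤ) E)) ∧
      KRR.cl S ((Scheme.Modules.pushforward (KRR.pr r S)).obj (KRR.twF r S (m : ℤ) E)) =
        g (τ (KRR.cl (KRR.PY r S) E)) := fun E hE hl => by
    have i := (Scheme.Modules.pushforward (KRR.pr r S)).mapIso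
      (Groth.Agent.H73.RegSeq.twFIso (m : ℤ) E)
    have hf := TensorMod.LocFree.of_iso i.symm (Push.isFinLocFree_push hl)
    refine ⟨hf, ?_⟩
    rw [hτ E hE, hg _ hl]
    exact KAugNil98.Main.cl_iso i hf
  exact ⟨(e F hF la).1, (e G hG lb).1, by rw [(e F hF la).2, (e G hG lb).2, h]⟩

end Groth.Agent.S8669
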