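import Groth.Statements.S8673
import Groth.Agent.Lib.KAugNil98.Main

set_option autoImplicit false
universe v u
open CategoryTheory CategoryTheory.Limits AlgebraicGeometry
attribute [local instance] HasDerivedCategory.standard
open scoped TensorProduct
open KRR

namespace Groth.Agent.S8673

/-- Let X be a connected quasi-compact scheme with an ample invertible O_X-module, (K, P, φ) a model of
the λ-ring K(X) of finite locally free modules (augmentation ε = rank), and A a commutative ring.
Then y ∈ A ⊗_ℤ K(X) is invertible if and only if (id ⊗ ε)(y) ∈ A ⊗_ℤ ℤ is invertible; in particular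
the class of a nowhere-zero bundle is invertible in K(X) ⊗ ℚ. (The published statement allows X
disconnected, with ε valued in H^0(X, ℤ); this row takes X connected, as the model requires.) -/
theorem result (X : Scheme.{u}) [ConnectedSpace ↥X] (L : X.Modules) (hL : CohB1.IsAmple L)
    (K : Type v) [CommRing K] [LambdaRing.LambdaOps K] (P : LambdaRing.PosStructure K) (φ : SGA6.Kvb X →+ K) (hK : KRR.IsModel X K P φ)
    (A : Type v) [CommRing A] (y : A ⊗[ℤ] K) :
    IsUnit y ↔ IsUnit (Algebra.TensorProduct.map (AlgHom.id ℤ A) P.aug.toIntAlgHom y) := by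
  exact Groth.Agent.Lib.KAugNil98.Alg.isUnit_iff_map P.aug
    (Groth.Agent.Lib.KAugNil98.Main.isNilpotent_of_aug_eq_zero hL hK) y

end Groth.Agent.S8673
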