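import Groth.Statements.S8676
import Groth.Agent.Lib.Devissage.FibreGen
import Groth.Agent.Lib.Perfect.Coherent
-- import your own Groth.Agent.* helpers here

set_option autoImplicit false
universe v u
open CategoryTheory CategoryTheory.Limits AlgebraicGeometry
attribute [local instance] HasDerivedCategory.standard
open SGA6

namespace Groth.Agent.S8676

/-- For a finite family of classes of locally free modules: let f : X ⟶ S be a flat morphism of
Noetherian schemes and E_1, …, E_m finite locally free O_X-modules whose restrictions to every fibre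
X_s have classes generating K₀(Coh X_s) as an abelian group. For each i the functor M ↦ E_i ⊗ f^*M
is exact (instance hypotheses) and preserves coherence (hypothesis hco), so induces [E_i]·f^* :
K₀(Coh S) ⟶ K₀(Coh X); then (x_i) ↦ Σ_i [E_i]·f^*(x_i) from K₀(Coh S)^m to K₀(Coh X) is surjective.
(The published statement allows an arbitrary family of elements of K^•(X) acting on K₀(Coh X); this
row takes the classes of finitely many finite locally free modules.) -/
theorem result {X S : Scheme.{u}} [IsNoetherian X] [IsNoetherian S] (f : X ⟶ S) [Flat f]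
    (m : ℕ) (E : Fin m → X.Modules) (hE : ∀ i, FlatMod.IsFinLocFree (E i))
    [(Scheme.Modules.pullback f).Additive]
    [∀ i, PreservesFiniteLimits (Scheme.Modules.pullback f ⋙ (DCoh.tensorBi (X := X)).obj (E i))]
    [∀ i, PreservesFiniteColimits (Scheme.Modules.pullback f ⋙ (DCoh.tensorBi (X := X)).obj (E i))]
    (hco : ∀ (i : Fin m) (M : S.Modules), Coh.IsCoh M → Coh.IsCoh ((Scheme.Modules.pullback f ⋙ (DCoh.tensorBi (X := X)).obj (E i)).obj M))
    (hfib : ∀ s : S, AddSubgroup.closure (Set.range (fun i : Fin m =>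
      KZero.clSub (fun M : (f.fiber s).Modules => Coh.IsCoh M) ((Scheme.Modules.pullback (f.fiberι s)).obj (E i)))) = ⊤) :
    Function.Surjective (fun x : Fin m → SGA6.Kcoh S =>
      ∑ i : Fin m, SGA6.mapSub (Scheme.Modules.pullback f ⋙ (DCoh.tensorBi (X := X)).obj (E i))
        (fun M : S.Modules => Coh.IsCoh M) (fun M : X.Modules => Coh.IsCoh M) (hco i) (x i)) := by
  let Φ : (Fin m → SGA6.Kcoh S) →+ SGA6.Kcoh X :=
    ∑ i : Fin m, (SGA6.mapSub (Scheme.Modules.pullback f ⋙ (DCoh.tensorBi (X := X)).obj (E i))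
      (fun M : S.Modules => Coh.IsCoh M) (fun M : X.Modules => Coh.IsCoh M) (hco i)).comp
        (Pi.evalAddMonoidHom (fun _ : Fin m => SGA6.Kcoh S) i)
  have hΦ : ⇑Φ = fun x : Fin m → SGA6.Kcoh S =>
      ∑ i : Fin m, SGA6.mapSub (Scheme.Modules.pullback f ⋙ (DCoh.tensorBi (X := X)).obj (E i))
        (fun M : S.Modules => Coh.IsCoh M) (fun M : X.Modules => Coh.IsCoh M) (hco i) (x i) := by
    funext x
    simp [Φ, AddMonoidHom.finsetSum_apply]
  rw [← hΦ, ← AddMonoidHom.range_eq_top]
  refine Groth.Agent.Lib.Devissage.FibreGen.eq_top f E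
    (fun i => Groth.Agent.Lib.Perfect.Coherent.isCoh_of_isFinLocFree (hE i)) hfib _ fun a M hM => ?_
  classical
  refine ⟨Pi.single a (KZero.clSub (fun M : S.Modules => Coh.IsCoh M) M), ?_⟩
  rw [hΦ]
  dsimp only
  rw [Finset.sum_eq_single a (fun b _ hb => by rw [Pi.single_eq_of_ne hb, map_zero])
    (fun h => absurd (Finset.mem_univ a) h), Pi.single_eq_same]
  exact Groth.Agent.Lib.KRes.KSub.mapSub_cl _ (hco a) hM

end Groth.Agent.S8676
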