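import Groth.Statements.S8678
import Groth.Agent.Lib.Lambda.Series

set_option autoImplicit false
universe u
open Finset
open LambdaRing

namespace Groth.Agent.S8678

/-- As the identity it proves in the pre-λ-ring K(Y') of the exceptional divisor: let K be a pre-λ-ring
(λ^0 = 1, λ^1 = id, additive formula) with λ^k(1) = 0 for all k ≥ 2, let d ≥ 2, and let F, L, N' ∈ K
satisfy λ^j(L) = 0 for j ≥ 2 (L is the class of an invertible module), λ^i(N') = 0 for i ≥ d − 1 (N'
is the class of a bundle of rank d − 2) and F + L = N' + 2 (for the blowing up of a regular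
immersion of codimension d: on the exceptional divisor the pulled-back conormal class is F + L, and
N = N' + 2). Then 1 − L divides λ_{−1}(F) = Σ_{i<d} (−1)^i λ^i(F). (The published proof uses only
additivity of λ_t and λ_t(1) = 1 + t, the hypotheses taken here.) -/
theorem result (K : Type u) [CommRing K] [LambdaRing.LambdaOps K]
    (h1 : ∀ k : ℕ, 2 ≤ k → LambdaRing.LambdaOps.lam k (1 : K) = 0) (d : ℕ) (hd : 2 ≤ d) (F L N' : K)
    (hL : ∀ j : ℕ, 2 ≤ j → LambdaRing.LambdaOps.lam j L = 0) (hN' : ∀ i : ℕ, d - 1 ≤ i → LambdaRing.LambdaOps.lam i N' = 0)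
    (hrel : F + L = N' + 2) :
    (1 - L) ∣ ∑ i ∈ range d, (-1 : K) ^ i * LambdaRing.LambdaOps.lam i F := by
  open Groth.Agent.Lib.Lambda in
  let π := Ideal.Quotient.mk (Ideal.span ({1 - L} : Set K))
  have hπL : π L = 1 := by
    have : π (1 - L) = 0 := Ideal.Quotient.eq_zero_iff_mem.2 (Ideal.mem_span_singleton_self _)
    rw [map_sub, map_one, sub_eq_zero] at this
    exact this.symm
  have hser : PowerSeries.map π (LambdaRing.lamSeries F) =
      PowerSeries.map π (LambdaRing.lamSeries N') * (1 + PowerSeries.X) := by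
    have h := congrArg (PowerSeries.map π) (congrArg LambdaRing.lamSeries hrel)
    rw [show (2 : K) = 1 + 1 by norm_num, lamSeries_add, lamSeries_add, lamSeries_add,
      LineLike.lamSeries_eq hL, lamSeries_one h1] at h
    simp only [map_mul, map_add, map_one, PowerSeries.map_C, PowerSeries.map_X, hπL, one_mul] at h
    refine (PowerSeries.isUnit_iff_constantCoeff.2 ?_).mul_right_cancel
      (b := (1 + PowerSeries.X : PowerSeries (K ⧸ Ideal.span ({1 - L} : Set K)))) ?_
    · simp
    · rw [h]; ring
  have hsum : ∀ n : ℕ, π (∑ i ∈ range (n + 1), (-1 : K) ^ i * LambdaRing.LambdaOps.lam i F) =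
      π ((-1 : K) ^ n * LambdaRing.LambdaOps.lam n N') := by
    intro n
    induction n with
    | zero => simp [LambdaRing.LambdaOps.lam_zero]
    | succ n ih =>
      have hc := congrArg (PowerSeries.coeff (n + 1)) hser
      rw [mul_add, mul_one, map_add, PowerSeries.coeff_map, PowerSeries.coeff_map,
        PowerSeries.coeff_succ_mul_X, PowerSeries.coeff_map, coeff_lamSeries, coeff_lamSeries,
        coeff_lamSeries] at hc
      rw [sum_range_succ, map_add, ih]
      simp only [map_mul, map_pow, map_neg, map_one, hc, pow_succ]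
      ring
  obtain ⟨e, rfl⟩ : ∃ e, d = e + 1 := ⟨d - 1, by omega⟩
  rw [← Ideal.mem_span_singleton, ← Ideal.Quotient.eq_zero_iff_mem]
  show π _ = 0
  rw [hsum, hN' e (by omega), mul_zero, map_zero]

end Groth.Agent.S8678
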