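import Groth.Statements.S8685
import Groth.Agent.Lib.Lambda.Univ

set_option autoImplicit false
universe u
open LambdaRing

namespace Groth.Agent.S8685

/-- For all i, j there is a polynomial Q ∈ ℤ[X_1, …, X_{ij}] such that substituting the k-th elementary
symmetric function of ij variables T for X_k yields the j-th elementary symmetric function of the
products of the T_a over the i-element subsets of the variables, and Q is isobaric of weight ij, the
variable X_k having weight k. -/
theorem result (i j : ℕ) :
    ∃ Q : MvPolynomial (Fin (i * j)) ℤ, LambdaRing.IsCompPoly i j Q := by
  exact Groth.Agent.Lib.Lambda.exists_isCompPoly i j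

end Groth.Agent.S8685
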