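import Groth.Statements.S8686
import Groth.Agent.Lib.Lambda.Adams

set_option autoImplicit false
universe u
open LambdaRing

namespace Groth.Agent.S8686

/-- Let K be a pre-λ-ring with λ^n(1) = 0 for all n ≥ 2, i.e. λ_t(1) = 1 + t. Then the Adams operations,
defined for k ≥ 1 through (d/dt λ_t(x)) · λ_t(x)⁻¹ = Σ_{k ≥ 1} (−1)^{k−1} ψ^k(x) t^{k−1}, satisfy
ψ^k(1) = 1 for every k ≥ 1. (The published statement is for a λ-ring in the strict sense; this
identity uses only λ_t(1) = 1 + t, the hypothesis taken here.) -/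
theorem result (K : Type u) [CommRing K] [LambdaRing.LambdaOps K]
    (h1 : ∀ n : ℕ, 2 ≤ n → LambdaRing.LambdaOps.lam n (1 : K) = 0) (k : ℕ) (hk : 1 ≤ k) :
    LambdaRing.adamsOp k (1 : K) = 1 := by
  exact Groth.Agent.Lib.Lambda.adamsOp_apply_one h1 hk

end Groth.Agent.S8686
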