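import Groth.Statements.S8693
import Groth.Agent.Lib.KAugNil98.Main
import Mathlib.RingTheory.IntegralClosure.IsIntegralClosure.Basic
import Mathlib.RingTheory.Finiteness.Nilpotent

set_option autoImplicit false
universe v u
open CategoryTheory CategoryTheory.Limits AlgebraicGeometry
attribute [local instance] HasDerivedCategory.standard
open KRR

namespace Groth.Agent.S8693

/-- Let X be a connected quasi-compact scheme with an ample invertible O_X-module L, (K, P, φ) a model
of the λ-ring K(X) of finite locally free modules with its positive structure (augmentation ε =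
rank), and E_1, …, E_k finite locally free O_X-modules. Let R ⊆ K(X) be the subring generated by the
elements λ^j[E_i] for all i and j, which is the sub-λ-ring generated by the classes [E_i]. Then the
ideal R ∩ Ker ε of R is nilpotent: there is n such that every product of n elements of R of
augmentation zero vanishes; and R is finitely generated as an abelian group. (The published
statement allows X disconnected, with R a module of finite type over R ∩ H^0(X, ℤ), and also asserts
that the λ-ring filtration of R is discrete; this row takes X connected, as the model requires, and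
states the nilpotency and the finite generation over the integers.) -/
theorem result (X : Scheme.{u}) [ConnectedSpace ↥X] (L : X.Modules) (hL : CohB1.IsAmple L)
    (K : Type v) [CommRing K] [LambdaRing.LambdaOps K] (P : LambdaRing.PosStructure K) (φ : SGA6.Kvb X →+ K)
    (hK : KRR.IsModel X K P φ)
    (k : ℕ) (E : Fin k → X.Modules) (hE : ∀ i : Fin k, FlatMod.IsFinLocFree (E i)) :
    (∃ n : ℕ, ∀ f : Fin n → K,
      (∀ t : Fin n, f t ∈ Subring.closure {y : K | ∃ (i : Fin k) (j : ℕ), y = LambdaRing.LambdaOps.lam j (φ (KRR.cl X (E i)))} ∧ P.aug (f t) = 0) →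
        ∏ t, f t = 0) ∧
    (Subring.closure {y : K | ∃ (i : Fin k) (j : ℕ), y = LambdaRing.LambdaOps.lam j (φ (KRR.cl X (E i)))}).toAddSubgroup.FG := by
  classical
  choose r hr using fun i => Groth.Agent.Lib.KAugNil98.Main.exists_rank (hE i)
  have hnil := Groth.Agent.Lib.KAugNil98.Main.isNilpotent_of_aug_eq_zero hL hK
  let Y : Set K := {y : K | ∃ (i : Fin k) (j : ℕ), y = LambdaRing.LambdaOps.lam j (φ (KRR.cl X (E i)))}
  have hvan : ∀ i j, r i < j → LambdaRing.LambdaOps.lam j (φ (KRR.cl X (E i))) = 0 := by
    intro i j hj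
    rcases Nat.eq_zero_or_pos (r i) with h0 | hpos
    · have hz := Groth.Agent.Lib.KAugNil98.Main.isZero_of_rank_zero (h0 ▸ hr i)
      rw [Groth.Agent.Lib.KAugNil98.Main.cl_isZero hz, map_zero]
      have := congrArg (PowerSeries.coeff j) (Groth.Agent.Lib.KAugNil98.Alg.lamSeries_zero (K := K))
      simpa [LambdaRing.lamSeries, PowerSeries.coeff_one, (show j ≠ 0 by omega)] using this
    · refine P.lam_eq_zero _ ((hK.mem_pos_iff _).2 ⟨r i, E i, hpos, hr i, rfl⟩) j ?_
      rw [hK.aug_cl (r i) _ (hr i)]
      exact_mod_cast hj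
  have hY : Y.Finite := by
    refine Set.Finite.subset ((Set.finite_range fun p : (Σ i : Fin k, Fin (r i + 1)) =>
      LambdaRing.LambdaOps.lam (p.2 : ℕ) (φ (KRR.cl X (E p.1)))).union (Set.finite_singleton (0 : K))) ?_
    rintro _ ⟨i, j, rfl⟩
    by_cases hj : r i < j
    · exact Or.inr (hvan i j hj)
    · exact Or.inl ⟨⟨i, j, by omega⟩, rfl⟩
  let Z : Set K := (fun y => y - (P.aug y : K)) '' Y
  have hZ : Z.Finite := hY.image _
  have hZnil : ∀ z ∈ Z, IsNilpotent z := by
    rintro _ ⟨y, _, rfl⟩
    exact hnil _ (by simp)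
  have hR : ∀ x, x ∈ Subring.closure Y →
      x - (P.aug x : K) ∈ Ideal.span Z ∧ x ∈ Algebra.adjoin ℤ Z := by
    intro x hx
    induction hx using Subring.closure_induction with
    | mem y hy =>
      refine ⟨Ideal.subset_span ⟨y, hy, rfl⟩, ?_⟩
      have h1 := Algebra.subset_adjoin (R := ℤ) (s := Z) ⟨y, hy, rfl⟩
      simpa using (Algebra.adjoin ℤ Z).add_mem h1 ((Algebra.adjoin ℤ Z).intCast_mem (P.aug y))
    | zero => simp
    | one => simp
    | add a b _ _ ha hb =>
      refine ⟨?_, add_mem ha.2 hb.2⟩
      rw [map_add, Int.cast_add, add_sub_add_comm]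
      exact add_mem ha.1 hb.1
    | neg a _ ha =>
      refine ⟨?_, neg_mem ha.2⟩
      rw [map_neg, Int.cast_neg, ← neg_sub']
      exact neg_mem ha.1
    | mul a b _ _ ha hb =>
      refine ⟨?_, mul_mem ha.2 hb.2⟩
      rw [map_mul, Int.cast_mul, show a * b - (P.aug a : K) * (P.aug b : K) =
        b * (a - (P.aug a : K)) + (P.aug a : K) * (b - (P.aug b : K)) by ring]
      exact add_mem (Ideal.mul_mem_left _ _ ha.1) (Ideal.mul_mem_left _ _ hb.1)
  refine ⟨?_, ?_⟩
  · obtain ⟨n, hn⟩ := (Ideal.FG.isNilpotent_iff_le_nilradical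
      (I := Ideal.span Z) (Submodule.fg_span hZ)).2 (Ideal.span_le.2 fun z hz => hZnil z hz)
    refine ⟨n, fun f hf => ?_⟩
    have hm : ∏ t, f t ∈ ∏ _t : Fin n, Ideal.span Z := Ideal.prod_mem_prod fun t _ => by
      simpa [(hf t).2] using (hR _ (hf t).1).1
    rw [Fin.prod_const, hn] at hm
    exact hm
  · have hfg : (Algebra.adjoin ℤ Z).toSubmodule.FG := fg_adjoin_of_finite hZ fun z hz => by
      obtain ⟨n, hn⟩ := hZnil z hz
      exact ⟨Polynomial.X ^ n, Polynomial.monic_X_pow n, by simp [hn]⟩
    rw [Submodule.fg_iff_addSubgroup_fg] at hfg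
    have he : (Subring.closure Y).toAddSubgroup = (Algebra.adjoin ℤ Z).toSubmodule.toAddSubgroup := by
      refine le_antisymm (fun x hx => (hR x hx).2) fun x hx => ?_
      change x ∈ Algebra.adjoin ℤ Z at hx
      change x ∈ Subring.closure Y
      refine Algebra.adjoin_induction (fun z hz => ?_) (fun n => ?_) (fun a b _ _ ha hb => add_mem ha hb)
        (fun a b _ _ ha hb => mul_mem ha hb) hx
      · obtain ⟨y, hy, rfl⟩ := hz
        exact sub_mem (Subring.subset_closure hy) (intCast_mem (Subring.closure Y) _)
      · simp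
    rw [he]
    exact hfg

end Groth.Agent.S8693
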