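import Groth.Statements.S8697
import Groth.Agent.Lib.Lambda.Free

set_option autoImplicit false
universe u v
open Finset
open LambdaRing

namespace Groth.Agent.S8697

/-- Let K be a binomial ring with its binomial λ-structure and B a λ-ring in the strict sense which is
an augmented K-λ-algebra with augmentation ε. Let x ∈ B satisfy ε(x) = 0 and γ^k(x) = 0 for every k
> n, and assume that γ^1(x), …, γ^n(x) are algebraically independent over K and generate B as a
K-algebra — so B is the K-λ-algebra generated by one element subject to the relations γ^k = 0 for k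
> n, a polynomial ring K[γ^1 x, …, γ^n x]. Then for every k, the k-th ideal Fil^k B of the
γ-filtration (generated by the products of γ^{i}(z), ε(z) = 0, of total weight ≥ k) is the ideal
generated by the monomials ∏_j (γ^j x)^{e_j} with Σ_j j·e_j ≥ k: the λ-ring filtration is the
filtration by the weight in the γ^j x. (With λ in place of γ — relations λ^k x = 0 for k > n and
weights in the λ^j x — the assertion fails already for n = 1, where γ^i(x) = x for all i ≥ 1 puts x
in every Fil^k while x is not in the ideal (x²); the form with γ stated here is the one the proof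
establishes.) The hypotheses hP and hQ, existence of the universal polynomials, are true statements
carried so that the identities of B can be used at every index. -/
theorem result
    (K : Type u) [CommRing K] [LambdaRing.LambdaOps K] [BinomialRing K] (hKb : LambdaRing.IsBinomial K)
    (hK : LambdaRing.IsSpecial K)
    (B : Type v) [CommRing B] [LambdaRing.LambdaOps B] [Algebra K B] (hB : LambdaRing.IsSpecial B)
    (hP : ∀ n : ℕ, ∃ P : MvPolynomial (Fin n ⊕ Fin n) ℤ, LambdaRing.IsMulPoly n P)
    (hQ : ∀ i j : ℕ, ∃ Q : MvPolynomial (Fin (i * j)) ℤ, LambdaRing.IsCompPoly i j Q)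
    (ε : B →ₐ[K] K) (hε : LambdaRing.IsAugLambdaAlg K B ε)
    (n : ℕ) (x : B) (hx : ε x = 0) (hγ : ∀ k : ℕ, n < k → LambdaRing.gamma k x = 0)
    (hind : AlgebraicIndependent K (fun j : Fin n => LambdaRing.gamma ((j : ℕ) + 1) x))
    (hgen : Algebra.adjoin K (Set.range fun j : Fin n => LambdaRing.gamma ((j : ℕ) + 1) x) = ⊤)
    (k : ℕ) :
    LambdaRing.gammaFil (ε : B →+* K) k =
      Ideal.span {m : B | ∃ e : Fin n → ℕ, k ≤ ∑ j : Fin n, ((j : ℕ) + 1) * e j ∧
        m = ∏ j : Fin n, LambdaRing.gamma ((j : ℕ) + 1) x ^ e j} := by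
  open Groth.Agent.Lib.Lambda in
  have hKA := hK_of_isLambdaAlg hKb hε.isLambdaAlg
  let v : Fin 1 → B := fun _ => x
  have hv : ∀ a l, ε (LambdaRing.gamma (l + 1) (v a)) = 0 := fun _ l => aug_gamma_eq_zero hε hx l
  have hsurj : Function.Surjective (evalFree (K := K) v) := by
    intro b
    have hb : b ∈ Algebra.adjoin K (Set.range fun j : Fin n => LambdaRing.gamma ((j : ℕ) + 1) x) := by
      rw [hgen]; trivial
    refine (Algebra.adjoin_le (S := (evalFree (K := K) v).range) ?_ hb)
    rintro _ ⟨j, rfl⟩
    exact ⟨MvPolynomial.X (0, (j : ℕ)), evalFree_X v 0 _⟩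
  rw [gammaFil_eq_map hB hKA ε v hv hsurj]
  apply le_antisymm
  · rw [Ideal.map_le_iff_le_comap]
    intro z hz
    rw [Ideal.mem_comap, MvPolynomial.as_sum z, map_sum]
    refine Ideal.sum_mem _ fun s hs => ?_
    show evalFree v (MvPolynomial.monomial s _) ∈ _
    rw [evalFree, MvPolynomial.aeval_monomial]
    by_cases hbad : ∃ p ∈ s.support, n ≤ p.2
    · obtain ⟨p, hp, hpn⟩ := hbad
      rw [Finsupp.prod, Finset.prod_eq_zero hp]
      · rw [mul_zero]; exact Submodule.zero_mem _
      · rw [hγ (p.2 + 1) (by omega), zero_pow (Finsupp.mem_support_iff.1 hp)]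
    · push Not at hbad
      refine Ideal.mul_mem_left _ _ (Ideal.subset_span ⟨fun j => s (0, (j : ℕ)), ?_, ?_⟩)
      · refine (mem_wtIdeal_iff_support.1 hz s hs).trans (le_of_eq ?_)
        rw [wt, Finsupp.weight_apply, Finsupp.sum]
        refine Finset.sum_bij_ne_zero (fun p hp _ => (⟨p.2, hbad p hp⟩ : Fin n)) ?_ ?_ ?_ ?_
        · intros; exact mem_univ _
        · intro p₁ h₁ _ p₂ h₂ _ he
          exact Prod.ext (Subsingleton.elim _ _) (Fin.mk.inj_iff.1 he)
        · intro j _ hj
          refine ⟨(0, (j : ℕ)), Finsupp.mem_support_iff.2 fun h => hj (by simp [h]), ?_, rfl⟩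
          simpa [mul_comm] using hj
        · intro p hp _
          obtain ⟨p1, p2⟩ := p
          obtain rfl : p1 = 0 := Subsingleton.elim _ _
          simp [mul_comm]
      · rw [Finsupp.prod]
        refine Finset.prod_bij_ne_one (fun p hp _ => (⟨p.2, hbad p hp⟩ : Fin n)) ?_ ?_ ?_ ?_
        · intros; exact mem_univ _
        · intro p₁ h₁ _ p₂ h₂ _ he
          exact Prod.ext (Subsingleton.elim _ _) (Fin.mk.inj_iff.1 he)
        · intro j _ hj
          refine ⟨(0, (j : ℕ)), Finsupp.mem_support_iff.2 fun h => hj (by simp [h]), ?_, rfl⟩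
          exact hj
        · intro p hp _
          obtain ⟨p1, p2⟩ := p
          obtain rfl : p1 = 0 := Subsingleton.elim _ _
          rfl
  · rw [Ideal.span_le]
    rintro m ⟨e, he, rfl⟩
    have := Ideal.mem_map_of_mem (evalFree (K := K) v).toRingHom
      (monomial_mem_wtIdeal (s := ∑ j : Fin n, Finsupp.single ((0 : Fin 1), (j : ℕ)) (e j)) (m := k)
        (by
          refine he.trans (le_of_eq ?_)
          rw [wt, map_sum]
          exact sum_congr rfl fun j _ => by simp [Finsupp.weight_apply, mul_comm]) (1 : K))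
    rw [MvPolynomial.monomial_sum_one] at this
    simpa [evalFree, MvPolynomial.aeval_monomial] using this

end Groth.Agent.S8697
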