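import Groth.Statements.S8698
import Groth.Agent.Lib.Lambda.Free

set_option autoImplicit false
universe u v w
open Finset
open LambdaRing

namespace Groth.Agent.S8698

/-- Let K be a binomial ring with its binomial λ-structure, A a λ-ring in the strict sense which is an
augmented K-λ-algebra with augmentation ε_A, and B a λ-ring in the strict sense which is at once an
augmented K-λ-algebra with augmentation ε_B and an A-algebra compatibly with the K-structures, the
structure map A → B commuting with the λ^n and ε_B restricting to ε_A on A. Let x ∈ B with ε_B(x) =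
0, and assume that the family (γ^{j+1} x)_{j ∈ ℕ} is algebraically independent over A and generates
B as an A-algebra: B is the free λ-ring A[X, γ^2 X, γ^3 X, …] on one generator over A, augmented by
X ↦ 0. Then for every k the k-th ideal Fil^k B of the γ-filtration of B is the ideal generated by
the products a · m where m = ∏_j (γ^{j+1} x)^{e_j} is a monomial of weight i = Σ_j (j+1) e_j and a
lies in (the image of) Fil^{k−i} A, with Fil^s A = A for s ≤ 0; that is, Fil^k B = Fil^k A +
Fil^{k−1} A·M_1 + ⋯ + Fil^0 A·M_k + (monomials of weight > k), M_i denoting the monomials of weight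
i. The hypotheses hP and hQ, existence of the universal polynomials, are true statements carried so
that the identities of A and B can be used at every index. -/
theorem result
    (K : Type u) [CommRing K] [LambdaRing.LambdaOps K] [BinomialRing K] (hKb : LambdaRing.IsBinomial K)
    (hK : LambdaRing.IsSpecial K)
    (A : Type v) [CommRing A] [LambdaRing.LambdaOps A] [Algebra K A] (hA : LambdaRing.IsSpecial A)
    (εA : A →ₐ[K] K) (hεA : LambdaRing.IsAugLambdaAlg K A εA)
    (B : Type w) [CommRing B] [LambdaRing.LambdaOps B] [Algebra K B] [Algebra A B] [IsScalarTower K A B]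
    (hB : LambdaRing.IsSpecial B) (hAB : LambdaRing.IsLambdaAlg A B)
    (εB : B →ₐ[K] K) (hεB : LambdaRing.IsAugLambdaAlg K B εB) (hεAB : ∀ a : A, εB (algebraMap A B a) = εA a)
    (hP : ∀ n : ℕ, ∃ P : MvPolynomial (Fin n ⊕ Fin n) ℤ, LambdaRing.IsMulPoly n P)
    (hQ : ∀ i j : ℕ, ∃ Q : MvPolynomial (Fin (i * j)) ℤ, LambdaRing.IsCompPoly i j Q)
    (x : B) (hx : εB x = 0)
    (hind : AlgebraicIndependent A (fun j : ℕ => LambdaRing.gamma (j + 1) x))
    (hgen : Algebra.adjoin A (Set.range fun j : ℕ => LambdaRing.gamma (j + 1) x) = ⊤)
    (k : ℕ) :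
    LambdaRing.gammaFil (εB : B →+* K) k =
      Ideal.span {b : B | ∃ (e : ℕ →₀ ℕ) (a : A),
        a ∈ LambdaRing.gammaFil (εA : A →+* K) (k - e.sum fun j n => (j + 1) * n) ∧
        b = algebraMap A B a * e.prod fun j n => LambdaRing.gamma (j + 1) x ^ n} := by
  open Groth.Agent.Lib.Lambda in
  have hKB := hK_of_isLambdaAlg hKb hεB.isLambdaAlg
  let ι := {a : A // εA a = 0} ⊕ Unit
  let v : ι → B := Sum.elim (fun a => algebraMap A B a.1) (fun _ => x)
  have hv : ∀ a l, εB (LambdaRing.gamma (l + 1) (v a)) = 0 := by
    rintro (a | a) l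
    · exact aug_gamma_eq_zero hεB (by show εB (algebraMap A B a.1) = 0; rw [hεAB, a.2]) l
    · exact aug_gamma_eq_zero hεB hx l
  have hgA : ∀ l (a : A), algebraMap A B (LambdaRing.gamma l a) = LambdaRing.gamma l (algebraMap A B a) :=
    fun l a => map_gamma (algebraMap A B) hAB l a
  have hsurj : Function.Surjective (evalFree (K := K) v) := by
    intro b
    have hb : b ∈ Algebra.adjoin A (Set.range fun j : ℕ => LambdaRing.gamma (j + 1) x) := by
      rw [hgen]; trivial
    induction hb using Algebra.adjoin_induction with
    | mem y hy =>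
      obtain ⟨j, rfl⟩ := hy
      exact ⟨MvPolynomial.X (Sum.inr (), j), evalFree_X v _ _⟩
    | algebraMap r =>
      refine ⟨MvPolynomial.C (εA r) +
        MvPolynomial.X (Sum.inl ⟨r - algebraMap K A (εA r), by simp⟩, 0), ?_⟩
      rw [map_add, evalFree_X_zero]
      show evalFree v (MvPolynomial.C (εA r)) + algebraMap A B (r - algebraMap K A (εA r)) = _
      rw [map_sub, ← IsScalarTower.algebraMap_apply]
      simp [evalFree]
    | add y z _ _ hy hz =>
      obtain ⟨p, rfl⟩ := hy
      obtain ⟨q, rfl⟩ := hz
      exact ⟨p + q, map_add _ _ _⟩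
    | mul y z _ _ hy hz =>
      obtain ⟨p, rfl⟩ := hy
      obtain ⟨q, rfl⟩ := hz
      exact ⟨p * q, map_mul _ _ _⟩
  apply le_antisymm
  · rw [gammaFil_eq_map hB hKB εB v hv hsurj, Ideal.map_le_iff_le_comap]
    intro z hz
    rw [Ideal.mem_comap, MvPolynomial.as_sum z, map_sum]
    refine Ideal.sum_mem _ fun s hs => ?_
    suffices ∀ (s : ι × ℕ →₀ ℕ) (c : K), ∃ (e : ℕ →₀ ℕ) (r : ℕ) (a : A),
        a ∈ LambdaRing.gammaFil (εA : A →+* K) r ∧ wt s ≤ r + (e.sum fun j n => (j + 1) * n) ∧
        evalFree v (MvPolynomial.monomial s c) =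
          algebraMap A B a * e.prod fun j n => LambdaRing.gamma (j + 1) x ^ n by
      obtain ⟨e, r, a, ha, hw, he⟩ := this s (MvPolynomial.coeff s z)
      show evalFree v _ ∈ _
      rw [he]
      refine Ideal.subset_span ⟨e, a, gammaFil_anti _ ?_ ha, rfl⟩
      have := (mem_wtIdeal_iff_support.1 hz s hs).trans hw
      omega
    intro s c
    induction s using Finsupp.induction with
    | zero =>
      refine ⟨0, 0, algebraMap K A c, ?_, by simp [wt], ?_⟩
      · have : (1 : A) ∈ LambdaRing.gammaFil (εA : A →+* K) 0 := by
          simpa using prod_gamma_mem_gammaFil (εA : A →+* K) (n := 0) (l := []) (by simp) (by simp)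
        simpa using Ideal.mul_mem_left _ (algebraMap K A c) this
      · simp [evalFree, ← IsScalarTower.algebraMap_apply]
    | single_add p m s hp hm ih =>
      obtain ⟨e, r, a, ha, hw, he⟩ := ih
      obtain ⟨q, l⟩ := p
      rw [wt_add, wt_single, MvPolynomial.monomial_single_add, map_mul, map_pow, evalFree_X, he]
      rcases q with q | q
      · refine ⟨e, m * (l + 1) + r, LambdaRing.gamma (l + 1) q.1 ^ m * a, ?_, ?_, ?_⟩
        · refine mul_mem_gammaFil _ ?_ ha
          clear hm
          induction m with
          | zero =>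
            simpa using prod_gamma_mem_gammaFil (εA : A →+* K) (n := 0) (l := []) (by simp) (by simp)
          | succ m ihm =>
            rw [pow_succ, Nat.succ_mul]
            exact mul_mem_gammaFil _ ihm (gamma_mem_gammaFil _ q.2 _)
        · show m * (l + 1) + wt s ≤ _
          omega
        · show LambdaRing.gamma (l + 1) (algebraMap A B q.1) ^ m * _ = _
          rw [map_mul, map_pow, hgA]
          ring
      · refine ⟨Finsupp.single l m + e, r, a, ha, ?_, ?_⟩
        · rw [Finsupp.sum_add_index' (by simp) (by intros; ring), Finsupp.sum_single_index (by simp)]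
          show m * (l + 1) + wt s ≤ _
          rw [mul_comm m]
          omega
        · show LambdaRing.gamma (l + 1) x ^ m * _ = _
          rw [Finsupp.prod_add_index' (by simp) (fun a b c => pow_add _ b c),
            Finsupp.prod_single_index (by simp)]
          ring
  · rw [Ideal.span_le]
    rintro b ⟨e, a, ha, rfl⟩
    have h1 : algebraMap A B a ∈ LambdaRing.gammaFil (εB : B →+* K)
        (k - e.sum fun j n => (j + 1) * n) := by
      suffices LambdaRing.gammaFil (εA : A →+* K) (k - e.sum fun j n => (j + 1) * n) ≤
          (LambdaRing.gammaFil (εB : B →+* K) (k - e.sum fun j n => (j + 1) * n)).comap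
            (algebraMap A B) from this ha
      refine gammaFil_le fun l hl hs => ?_
      show algebraMap A B _ ∈ LambdaRing.gammaFil (εB : B →+* K) _
      rw [map_list_prod, List.map_map]
      have := prod_gamma_mem_gammaFil (εB : B →+* K) (n := k - e.sum fun j n => (j + 1) * n)
        (l := l.map fun p => (p.1, algebraMap A B p.2))
        (by
          intro p hp
          obtain ⟨q, hq, rfl⟩ := List.mem_map.1 hp
          show εB (algebraMap A B q.2) = 0
          rw [hεAB]; exact hl q hq)
        (by simpa [List.map_map, Function.comp_def] using hs)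
      simpa [List.map_map, Function.comp_def, hgA] using this
    have h2 : (e.prod fun j n => LambdaRing.gamma (j + 1) x ^ n) ∈
        LambdaRing.gammaFil (εB : B →+* K) (e.sum fun j n => (j + 1) * n) := by
      have := evalFree_monomial_mem εB (fun _ : Unit => x) (fun _ => hx)
        (e.mapDomain fun j => ((), j)) (1 : K)
      rw [wt, Finsupp.weight_apply, Finsupp.sum_mapDomain_index (by simp) (by intros; simp [add_mul]),
        evalFree, MvPolynomial.aeval_monomial, Finsupp.prod_mapDomain_index (by simp)
          (by intros; rw [pow_add]), map_one, one_mul] at this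
      simpa [mul_comm] using this
    exact gammaFil_anti _ (by omega) (mul_mem_gammaFil _ h1 h2)

end Groth.Agent.S8698
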