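import Groth.Statements.S8704
import Groth.Agent.Lib.Lambda.AlgFil

set_option autoImplicit false
universe u v
open LambdaRing

namespace Groth.Agent.S8704

/-- Let K and A be λ-rings in the strict sense, A an augmented K-λ-algebra with augmentation ε : A → K,
and Fil^n A its γ-filtration, the ideal generated by the products γ^{i_1}(x_1) ⋯ γ^{i_k}(x_k) with
i_1 + ⋯ + i_k ≥ n and all ε(x_r) = 0. If a subset S generates A as an abelian group, then Fil^n A,
as a K-submodule of A, is generated over K by the products γ^{i_1}(s_1 − ε(s_1)) ⋯ γ^{i_k}(s_k −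
ε(s_k)) with s_r ∈ S and i_1 + ⋯ + i_k ≥ n. -/
theorem result
    (K : Type u) [CommRing K] [LambdaRing.LambdaOps K] (hK : LambdaRing.IsSpecial K)
    (A : Type v) [CommRing A] [LambdaRing.LambdaOps A] [Algebra K A] (hA : LambdaRing.IsSpecial A)
    (ε : A →ₐ[K] K) (hε : LambdaRing.IsAugLambdaAlg K A ε)
    (S : Set A) (hS : AddSubgroup.closure S = ⊤) (n : ℕ) :
    (LambdaRing.gammaFil (ε : A →+* K) n).restrictScalars K =
      Submodule.span K {y : A | ∃ l : List (ℕ × A), (∀ p ∈ l, p.2 ∈ S) ∧ n ≤ (l.map Prod.fst).sum ∧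
        y = (l.map fun p => LambdaRing.gamma p.1 (p.2 - algebraMap K A (ε p.2))).prod} := by
  exact Groth.Agent.Lib.Lambda.gammaFil_restrictScalars_eq_span ε S hS n

end Groth.Agent.S8704
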