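import Groth.Statements.S8705
import Mathlib

set_option autoImplicit false
universe u
open SGA7

namespace Groth.Agent.S8705

/-- A symmetric 2-cocycle. -/
structure SymmCocycle (P A : Type*) [AddCommGroup P] [AddCommGroup A] where
  c : P → P → A
  assoc : ∀ p q r, c (p + q) r + c p q = c p (q + r) + c q r
  symm : ∀ p q, c p q = c q p

/-- The extension attached to a symmetric 2-cocycle. -/
@[ext] structure SymmExt {P A : Type*} [AddCommGroup P] [AddCommGroup A] (z : SymmCocycle P A) where
  a : A
  p : P

namespace SymmExt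

variable {P A : Type*} [AddCommGroup P] [AddCommGroup A] {z : SymmCocycle P A}

lemma c_zero (z : SymmCocycle P A) (r : P) : z.c 0 r = z.c 0 0 := by
  have := z.assoc 0 0 r
  simp only [zero_add] at this
  exact (add_left_cancel this).symm

instance : Add (SymmExt z) := ⟨fun x y => ⟨x.a + y.a + z.c x.p y.p, x.p + y.p⟩⟩
instance : Zero (SymmExt z) := ⟨⟨-z.c 0 0, 0⟩⟩
instance : Neg (SymmExt z) := ⟨fun x => ⟨-x.a - z.c x.p (-x.p) - z.c 0 0, -x.p⟩⟩

@[simp] lemma add_a (x y : SymmExt z) : (x + y).a = x.a + y.a + z.c x.p y.p := rfl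
@[simp] lemma add_p (x y : SymmExt z) : (x + y).p = x.p + y.p := rfl
@[simp] lemma zero_a : (0 : SymmExt z).a = -z.c 0 0 := rfl
@[simp] lemma zero_p : (0 : SymmExt z).p = 0 := rfl
@[simp] lemma neg_a (x : SymmExt z) : (-x).a = -x.a - z.c x.p (-x.p) - z.c 0 0 := rfl
@[simp] lemma neg_p (x : SymmExt z) : (-x).p = -x.p := rfl

instance : AddCommGroup (SymmExt z) where
  add_assoc x y w := by
    ext
    · simp only [add_a, add_p]
      have h := z.assoc x.p y.p w.p
      rw [← sub_eq_zero] at h ⊢
      rw [← h]
      abel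
    · simp [add_assoc]
  zero_add x := by ext <;> simp [c_zero z x.p]
  add_zero x := by ext <;> simp [z.symm x.p 0, c_zero z x.p]
  neg_add_cancel x := by
    ext
    · simp only [add_a, neg_a, neg_p, zero_a, z.symm (-x.p) x.p]; abel
    · simp
  add_comm x y := by
    ext
    · simp only [add_a]; rw [z.symm y.p x.p]; abel
    · simp [add_comm]
  nsmul := nsmulRec
  zsmul := zsmulRec

/-- The inclusion of the coefficient group. -/
def incl (z : SymmCocycle P A) : A →+ SymmExt z where
  toFun a := ⟨a - z.c 0 0, 0⟩
  map_zero' := by ext <;> simp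
  map_add' a b := by ext <;> simp; abel

lemma incl_injective (z : SymmCocycle P A) : Function.Injective (incl z) := fun a b h => by
  simpa [incl] using congrArg SymmExt.a h

end SymmExt

/-- In the case of the punctual topos (ordinary abelian groups): let P be an abelian group and consider
the complex of free abelian groups Z[P × P × P] ⊕ Z[P × P] → Z[P × P] → Z[P], augmented to P by [p]
↦ p, with d₀[p, q] = [p + q] − [p] − [q], with d₁ on the first summand given by [p, q, r] ↦ [p + q,
r] − [p, q + r] + [p, q] − [q, r] and on the second summand by [p, q] ↦ [p, q] − [q, p]. Then the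
augmentation is surjective with kernel the image of d₀ (so H₀ is P), and the kernel of d₀ is the sum
of the images of the two components of d₁ (so H₁ vanishes). (The published statement is for abelian
sheaves on an arbitrary topos; this row is its case of a one-point space.) -/
theorem result (P : Type u) [AddCommGroup P] :
    letI ε : (P →₀ ℤ) →ₗ[ℤ] P := Finsupp.linearCombination ℤ (fun p : P => p)
    letI d₀ : (P × P →₀ ℤ) →ₗ[ℤ] (P →₀ ℤ) := Finsupp.linearCombination ℤ
      (fun pq : P × P => Finsupp.single (pq.1 + pq.2) 1 - Finsupp.single pq.1 1 - Finsupp.single pq.2 1)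
    letI d₁ : (P × P × P →₀ ℤ) →ₗ[ℤ] (P × P →₀ ℤ) := Finsupp.linearCombination ℤ
      (fun t : P × P × P => Finsupp.single (t.1 + t.2.1, t.2.2) 1 - Finsupp.single (t.1, t.2.1 + t.2.2) 1
        + Finsupp.single (t.1, t.2.1) 1 - Finsupp.single (t.2.1, t.2.2) 1)
    letI d₁' : (P × P →₀ ℤ) →ₗ[ℤ] (P × P →₀ ℤ) := Finsupp.linearCombination ℤ
      (fun pq : P × P => Finsupp.single pq 1 - Finsupp.single (pq.2, pq.1) 1)
    Function.Surjective ε ∧ LinearMap.ker ε = LinearMap.range d₀ ∧
      LinearMap.ker d₀ = LinearMap.range d₁ ⊔ LinearMap.range d₁' := by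
  show (let ε : (P →₀ ℤ) →ₗ[ℤ] P := Finsupp.linearCombination ℤ (fun p : P => p)
    let d₀ : (P × P →₀ ℤ) →ₗ[ℤ] (P →₀ ℤ) := Finsupp.linearCombination ℤ
      (fun pq : P × P => Finsupp.single (pq.1 + pq.2) 1 - Finsupp.single pq.1 1 - Finsupp.single pq.2 1)
    let d₁ : (P × P × P →₀ ℤ) →ₗ[ℤ] (P × P →₀ ℤ) := Finsupp.linearCombination ℤ
      (fun t : P × P × P => Finsupp.single (t.1 + t.2.1, t.2.2) 1 - Finsupp.single (t.1, t.2.1 + t.2.2) 1
        + Finsupp.single (t.1, t.2.1) 1 - Finsupp.single (t.2.1, t.2.2) 1)
    let d₁' : (P × P →₀ ℤ) →ₗ[ℤ] (P × P →₀ ℤ) := Finsupp.linearCombination ℤ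
      (fun pq : P × P => Finsupp.single pq 1 - Finsupp.single (pq.2, pq.1) 1)
    Function.Surjective ε ∧ LinearMap.ker ε = LinearMap.range d₀ ∧
      LinearMap.ker d₀ = LinearMap.range d₁ ⊔ LinearMap.range d₁')
  intro ε d₀ d₁ d₁'
  have hε : ∀ p : P, ε (Finsupp.single p 1) = p := fun p => by
    simp [ε, Finsupp.linearCombination_single]
  have hd₀ : ∀ pq : P × P, d₀ (Finsupp.single pq 1) = Finsupp.single (pq.1 + pq.2) 1 -
      Finsupp.single pq.1 1 - Finsupp.single pq.2 1 := fun pq => by
    simp [d₀, Finsupp.linearCombination_single]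
  refine ⟨fun p => ⟨_, hε p⟩, ?_, ?_⟩
  · apply le_antisymm
    · intro x hx
      let φ : P →+ (P →₀ ℤ) ⧸ LinearMap.range d₀ := AddMonoidHom.mk'
        (fun p => Submodule.Quotient.mk (Finsupp.single p 1)) (fun p q => by
          rw [← Submodule.Quotient.mk_add, Submodule.Quotient.eq]
          exact ⟨Finsupp.single (p, q) 1, by rw [hd₀]; abel⟩)
      have h : (LinearMap.range d₀).mkQ = φ.toIntLinearMap.comp ε := by
        apply Finsupp.lhom_ext'
        intro p
        apply LinearMap.ext_ring
        simp [φ, hε]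
      have := LinearMap.congr_fun h x
      simp [LinearMap.mem_ker.1 hx] at this
      simpa using this
    · rintro _ ⟨x, rfl⟩
      have h : ε.comp d₀ = 0 := by
        apply Finsupp.lhom_ext'
        intro pq
        apply LinearMap.ext_ring
        simp [hd₀, hε]
      exact LinearMap.congr_fun h x
  · have hd₁ : ∀ t : P × P × P, d₁ (Finsupp.single t 1) = Finsupp.single (t.1 + t.2.1, t.2.2) 1 -
        Finsupp.single (t.1, t.2.1 + t.2.2) 1 + Finsupp.single (t.1, t.2.1) 1 -
        Finsupp.single (t.2.1, t.2.2) 1 := fun t => by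
      simp [d₁, Finsupp.linearCombination_single]
    have hd₁' : ∀ pq : P × P, d₁' (Finsupp.single pq 1) =
        Finsupp.single pq 1 - Finsupp.single (pq.2, pq.1) 1 := fun pq => by
      simp [d₁', Finsupp.linearCombination_single]
    apply le_antisymm
    · intro x hx
      set S := LinearMap.range d₁ ⊔ LinearMap.range d₁'
      let z : SymmCocycle P ((P × P →₀ ℤ) ⧸ S) :=
        { c := fun p q => Submodule.Quotient.mk (Finsupp.single (p, q) 1)
          assoc := fun p q r => by
            rw [← Submodule.Quotient.mk_add, ← Submodule.Quotient.mk_add, Submodule.Quotient.eq]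
            exact Submodule.mem_sup_left ⟨Finsupp.single (p, q, r) 1, by rw [hd₁]; abel⟩
          symm := fun p q => by
            rw [Submodule.Quotient.eq]
            exact Submodule.mem_sup_right ⟨Finsupp.single (p, q) 1, by rw [hd₁']⟩ }
      let Φ : (P →₀ ℤ) →ₗ[ℤ] SymmExt z :=
        Finsupp.linearCombination ℤ (fun p => (⟨0, p⟩ : SymmExt z))
      have hΦ : ∀ p, Φ (Finsupp.single p 1) = ⟨0, p⟩ := fun p => by
        simp [Φ, Finsupp.linearCombination_single]
      have h : Φ.comp d₀ = -((SymmExt.incl z).toIntLinearMap.comp S.mkQ) := by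
        apply Finsupp.lhom_ext'
        intro pq
        apply LinearMap.ext_ring
        simp only [LinearMap.coe_comp, Function.comp_apply, Finsupp.lsingle_apply, LinearMap.neg_apply,
          hd₀, map_sub, hΦ, AddMonoidHom.coe_toIntLinearMap, Submodule.mkQ_apply]
        rw [sub_sub, ← sub_eq_zero, sub_neg_eq_add, sub_add_eq_add_sub, sub_eq_zero]
        ext
        · simp [SymmExt.incl, z]
          have hc := (z.symm (pq.1 + pq.2) 0).trans (SymmExt.c_zero z (pq.1 + pq.2))
          simp only [z] at hc
          rw [hc]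
          abel
        · simp [SymmExt.incl]
      have h2 := LinearMap.congr_fun h x
      simp only [LinearMap.coe_comp, Function.comp_apply, LinearMap.mem_ker.1 hx, map_zero,
        LinearMap.neg_apply] at h2
      have h3 : SymmExt.incl z (S.mkQ x) = 0 := neg_eq_zero.1 h2.symm
      have h4 : S.mkQ x = 0 := SymmExt.incl_injective z (h3.trans (map_zero _).symm)
      simpa using h4
    · rw [sup_le_iff]
      constructor
      · rintro _ ⟨x, rfl⟩
        have h : d₀.comp d₁ = 0 := by
          apply Finsupp.lhom_ext'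
          intro t
          apply LinearMap.ext_ring
          simp [hd₁, hd₀, add_assoc]
          abel
        exact LinearMap.congr_fun h x
      · rintro _ ⟨x, rfl⟩
        have h : d₀.comp d₁' = 0 := by
          apply Finsupp.lhom_ext'
          intro t
          apply LinearMap.ext_ring
          simp [hd₁', hd₀, add_comm]
          abel
        exact LinearMap.congr_fun h x

end Groth.Agent.S8705
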