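import Groth.Statements.S8706
import Groth.Agent.Lib.SectTriv76.Main
import Groth.Agent.Lib.HensChart.Coprod
import Groth.Agent.Lib.DescAlg.Descends
import Groth.Agent.Lib.TorsorSch.Descent

set_option autoImplicit false
set_option linter.style.haveILetI false
universe u
open CategoryTheory CategoryTheory.Limits MonoidalCategory CartesianMonoidalCategory MonObj AlgebraicGeometry
open SGA7

namespace Groth.Agent.S8706

/-- Let p : P → S be a smooth morphism of finite presentation (smooth, quasi-compact, quasi-separated)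
with geometrically connected fibres, e : S → P a section of p, Z a group and G the constant P-group
scheme Z_P (through the isomorphism eG), E a torsor under G over P for the fppf topology, and e' : S
→ E a section of E lying over e. Then E is trivial (has a section over P) if and only if for every
point s of S the torsor induced on the fibre P_s is trivial (E acquires a section over P_s → P); and
when E is trivial there is exactly one section g of E over P with g ∘ e = e'. -/
theorem result (S P : Scheme.{u}) (p : P ⟶ S)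
    [Smooth p] [QuasiCompact p] [QuasiSeparated p] [GeometricallyConnected p]
    (e : S ⟶ P) (he : e ≫ p = 𝟙 S)
    (Z : Type u) [Group Z] (G : Over P) [GrpObj G] (eG : G ≅ TwC.const P Z) (hG : TwC.IsConstGrp Z G eG)
    (E : NonAbH1.TorsorSch G Scheme.fppfPrecoverage)
    (e' : S ⟶ E.X.left) (he' : e' ≫ E.X.hom = e) :
    (NonAbH1.HasSectionOver E.X (𝟙 P) ↔
        ∀ s : ↥S, NonAbH1.HasSectionOver E.X (pullback.fst p (S.fromSpecResidueField s))) ∧
      (NonAbH1.HasSectionOver E.X (𝟙 P) →
        ∃! g : P ⟶ E.X.left, g ≫ E.X.hom = 𝟙 P ∧ e ≫ g = e') := by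
  have hE := Groth.Agent.Lib.TorsorSch.Descent.isTorsorFor_mono Scheme.fppfPrecoverage_le_fpqcPrecoverage E.isTorsor
  haveI : IsSeparated (TwC.const P Z).hom :=
    Groth.Agent.Lib.HensChart.isSeparated_sigmaDesc fun _ : Z => 𝟙 P
  haveI : Etale (TwC.const P Z).hom :=
    IsZariskiLocalAtSource.sigmaDesc (P := @Etale) (f := fun _ : Z => 𝟙 P) fun _ => inferInstance
  haveI : IsIso eG.hom.left := inferInstanceAs (IsIso ((Over.forget _).map eG.hom))
  haveI : IsSeparated G.hom := by rw [← Over.w eG.hom]; infer_instance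
  haveI : Etale G.hom := by rw [← Over.w eG.hom]; infer_instance
  haveI : Etale E.X.hom := Groth.Agent.Lib.TorsorSch.Basic.of_hom (P := @Etale) hE inferInstance
  haveI : IsSeparated E.X.hom := Groth.Agent.Lib.TorsorSch.Basic.of_hom (P := @IsSeparated) hE inferInstance
  have build : (∀ s : ↥S, NonAbH1.HasSectionOver E.X (pullback.fst p (S.fromSpecResidueField s))) →
      ∃ g : P ⟶ E.X.left, g ≫ E.X.hom = 𝟙 P ∧ e ≫ g = e' := by
    intro hloc
    refine Groth.Agent.Lib.SectTriv76.exists_section p e E.X.hom e' he he' fun s => ?_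
    obtain ⟨σ₀, hσ₀⟩ := hloc s
    let T : Over P := Over.mk (pullback.fst p (S.fromSpecResidueField s))
    let σ : T ⟶ E.X := Over.homMk σ₀ hσ₀
    haveI := Groth.Agent.Lib.TorsorSch.Basic.isIso_triv E.act E.isTorsor.1 σ
    let tr := Groth.Agent.Lib.TorsorSch.Basic.triv E.act σ
    haveI : IsIso tr.left := inferInstanceAs (IsIso ((Over.forget P).map tr))
    have hes : e' s ∈ Set.range (pullback.fst E.X.hom T.hom).base := by
      rw [Scheme.Pullback.range_fst, Set.mem_preimage]
      show (e' ≫ E.X.hom) s ∈ Set.range (pullback.fst p (S.fromSpecResidueField s)).base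
      rw [he', Scheme.Pullback.range_fst, Set.mem_preimage, Scheme.range_fromSpecResidueField, Set.mem_singleton_iff]
      exact congr($he s)
    obtain ⟨y₀, hy₀⟩ := hes
    obtain ⟨gam, hgam⟩ := tr.left.surjective y₀
    let idx := fun x : (G ⊗ T).left => Groth.Agent.Lib.ConstRigid.idx ((fst G T ≫ eG.hom).left x)
    let W : (G ⊗ T).left.Opens := ⟨{x | idx x = idx gam},
      ((Groth.Agent.Lib.ConstRigid.isLocallyConstant_idx).comp_continuous
        (fst G T ≫ eG.hom).left.continuous).isOpen_fiber _⟩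
    let ω : Over.mk (W.ι ≫ (G ⊗ T).hom) ⟶ G ⊗ T := Over.homMk W.ι
    let κ : T ⟶ G ⊗ T := lift ((toUnit T ≫ TwC.pt P Z (idx gam)) ≫ eG.inv) (𝟙 T)
    have hω : ω = (ω ≫ snd G T) ≫ κ := by
      apply CartesianMonoidalCategory.hom_ext
      · have hc : (ω ≫ fst G T) ≫ eG.hom = toUnit _ ≫ TwC.pt P Z (idx gam) :=
          Groth.Agent.Lib.ConstRigid.eq_pt _ _ fun x => x.2
        simp only [κ, Category.assoc, lift_fst]
        rw [← cancel_mono eG.hom, hc]
        simp only [Category.assoc, Iso.inv_hom_id, Category.comp_id]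
        rw [← Category.assoc (snd G T), comp_toUnit, ← Category.assoc ω, comp_toUnit]
      · simp [κ]
    refine ⟨(κ ≫ tr).left, ?_, ?_⟩
    · show ((κ ≫ tr) ≫ snd E.X T).left = 𝟙 _
      simp [κ, tr]
    · refine ⟨(ω ≫ snd G T).left ⟨gam, rfl⟩, ?_⟩
      have h1 : κ.left ((ω ≫ snd G T).left ⟨gam, rfl⟩) = gam := by
        show ((ω ≫ snd G T) ≫ κ).left ⟨gam, rfl⟩ = gam
        rw [← hω]
        rfl
      show (pullback.fst E.X.hom T.hom).base (tr.left (κ.left ((ω ≫ snd G T).left ⟨gam, rfl⟩))) = _
      rw [h1, hgam, hy₀]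
  refine ⟨⟨fun ⟨g, hg⟩ s => ⟨pullback.fst p _ ≫ g, by rw [Category.assoc, hg, Category.comp_id]⟩,
    fun h => (build h).imp fun g hg => hg.1⟩, fun ⟨g₀, hg₀⟩ => ?_⟩
  obtain ⟨g, hg⟩ := build fun s => ⟨pullback.fst p _ ≫ g₀, by rw [Category.assoc, hg₀, Category.comp_id]⟩
  exact ⟨g, hg, fun g' hg' => Groth.Agent.Lib.SectTriv76.section_unique p e E.X.hom he g' g hg'.1 hg.1
    (hg'.2.trans hg.2.symm)⟩

end Groth.Agent.S8706
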