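import Groth.Statements.S8707
import Groth.Agent.Lib.UnibTriv76.Main
import Groth.Agent.Lib.HensChart.Coprod
import Groth.Agent.Lib.DescAlg.Descends
import Groth.Agent.Lib.TorsorSch.Descent
import Groth.Agent.Lib.TorsorSch.FibreProd
import Groth.Agent.Lib.GrpSch.Basic

set_option autoImplicit false
set_option linter.style.haveILetI false
universe u
open CategoryTheory CategoryTheory.Limits MonoidalCategory CartesianMonoidalCategory MonObj AlgebraicGeometry
open SGA7

namespace Groth.Agent.S8707

/-- Let S be an irreducible scheme whose local rings are all geometrically unibranch, Z a group without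
non-trivial elements of finite order, f : P → S a smooth morphism, G the constant P-group scheme Z_P
(through the isomorphism eG) and E a torsor under G over P for the fppf topology. Then E is trivial:
it has a section over P. (Taking f the identity of S gives the statement for torsors under Z_S on S
itself. The accompanying assertions identifying the category of such torsors with that of torsors
over the generic point are not stated.) -/
theorem result (S : Scheme.{u}) [IrreducibleSpace ↥S]
    (hS : ∀ s : ↥S, CAlg2.IsGeomUnibranch ↑(S.presheaf.stalk s))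
    (Z : Type u) [Group Z] (hZ : ∀ z : Z, IsOfFinOrder z → z = 1)
    (P : Scheme.{u}) (f : P ⟶ S) [Smooth f]
    (G : Over P) [GrpObj G] (eG : G ≅ TwC.const P Z) (hG : TwC.IsConstGrp Z G eG)
    (E : NonAbH1.TorsorSch G Scheme.fppfPrecoverage) :
    NonAbH1.HasSectionOver E.X (𝟙 P) := by
  have hE := Groth.Agent.Lib.TorsorSch.Descent.isTorsorFor_mono Scheme.fppfPrecoverage_le_fpqcPrecoverage E.isTorsor
  haveI : IsSeparated (TwC.const P Z).hom :=
    Groth.Agent.Lib.HensChart.isSeparated_sigmaDesc fun _ : Z => 𝟙 P
  haveI : Etale (TwC.const P Z).hom :=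
    IsZariskiLocalAtSource.sigmaDesc (P := @Etale) (f := fun _ : Z => 𝟙 P) fun _ => inferInstance
  haveI : IsIso eG.hom.left := inferInstanceAs (IsIso ((Over.forget _).map eG.hom))
  haveI : IsSeparated G.hom := by rw [← Over.w eG.hom]; infer_instance
  haveI : Etale G.hom := by rw [← Over.w eG.hom]; infer_instance
  haveI : Etale E.X.hom := Groth.Agent.Lib.TorsorSch.Basic.of_hom (P := @Etale) hE inferInstance
  haveI : IsSeparated E.X.hom := Groth.Agent.Lib.TorsorSch.Basic.of_hom (P := @IsSeparated) hE inferInstance
  haveI : Surjective E.X.hom := Groth.Agent.Lib.TorsorSch.Basic.of_hom (P := @Surjective) hE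
    ⟨fun x => ⟨(MonObj.one (X := G)).left x, congr($(Over.w (MonObj.one (X := G))) x)⟩⟩
  let cz : ∀ (T : Over P), Z → (T ⟶ G) := fun T z => (toUnit T ≫ TwC.pt P Z z) ≫ eG.inv
  have hcmul : ∀ (T : Over P) (z z' : Z), cz T z * cz T z' = cz T (z * z') := fun T z z' => by
    simp only [cz, Category.assoc]
    rw [← MonObj.comp_mul, hG]
  have hcone : ∀ (T : Over P), cz T 1 = 1 := fun T => by
    simp only [cz, Category.assoc]
    rw [Groth.Agent.Lib.ConstRigid.pt_one hG, MonObj.comp_one]
  let τ : Z → (E.X ⟶ E.X) := fun z => lift (cz _ z) (𝟙 _) ≫ E.act.act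
  have hcomp : ∀ {T : Over P} (y : T ⟶ E.X) (z : Z), y ≫ τ z = lift (cz T z) y ≫ E.act.act := fun y z => by
    simp only [τ, cz, comp_lift_assoc, Category.comp_id]
    rw [← Category.assoc y, ← Category.assoc y, comp_toUnit]
  have hmul : ∀ z z', τ (z * z') = τ z' ≫ τ z := fun z z' => by
    rw [hcomp]
    simp only [τ]
    rw [← hcmul, Groth.Agent.Lib.GrpSch.act_mul]
  obtain ⟨s, hs⟩ := Groth.Agent.Lib.UnibTriv76.exists_section f hS E.X.hom hZ (fun z => (τ z).left)
    (fun z => Over.w (τ z)) (fun z z' => by show (τ (z * z')).left = _; rw [hmul]; rfl)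
    (by show (τ 1).left = _; simp only [τ]; rw [hcone, Groth.Agent.Lib.GrpSch.act_one]; rfl)
    (fun K _ g z h => by
      let T : Over P := Over.mk (g ≫ E.X.hom)
      let y : T ⟶ E.X := Over.homMk g
      have h' : lift (cz T z) y ≫ E.act.act = lift (1 : T ⟶ G) y ≫ E.act.act := by
        rw [← hcomp, Groth.Agent.Lib.GrpSch.act_one]
        exact Over.OverMorphism.ext h
      have e := (Groth.Agent.Lib.TorsorSch.FibreProd.existsUnique_of_pseudo E.isTorsor.1 y
        (lift (1 : T ⟶ G) y ≫ E.act.act)).unique h' rfl
      rw [← hcone] at e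
      have e' := (cancel_mono eG.inv).1 e
      have := congrArg (fun m => Groth.Agent.Lib.ConstRigid.idx (m.left (IsLocalRing.closedPoint K))) e'
      simpa only [Groth.Agent.Lib.ConstRigid.idx_toUnit_pt] using this)
    (fun K _ g g' h => by
      let T : Over P := Over.mk (g ≫ E.X.hom)
      let y : T ⟶ E.X := Over.homMk g
      let y' : T ⟶ E.X := Over.homMk g' h.symm
      obtain ⟨gam, hgam, -⟩ := Groth.Agent.Lib.TorsorSch.FibreProd.existsUnique_of_pseudo E.isTorsor.1 y y'
      let z := Groth.Agent.Lib.ConstRigid.idx ((gam ≫ eG.hom).left (IsLocalRing.closedPoint K))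
      have hc : gam = cz T z := by
        rw [← cancel_mono eG.hom]
        simp only [cz, Category.assoc, Iso.inv_hom_id, Category.comp_id]
        exact Groth.Agent.Lib.ConstRigid.eq_pt _ _ fun t => by
          show Groth.Agent.Lib.ConstRigid.idx ((gam ≫ eG.hom).left t) = z
          simp only [z]
          congr 2
          exact Subsingleton.elim (α := ↥(Spec (CommRingCat.of K))) _ _
      refine ⟨z, ?_⟩
      show (y ≫ τ z).left = y'.left
      rw [hcomp, ← hc, hgam])
  exact ⟨s, hs⟩

end Groth.Agent.S8707
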