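import Groth.Statements.S8708
import Groth.Agent.H63.GrpIdentity
import Groth.Agent.Lib.BitorsExt
import Groth.Agent.Lib.AlgSpace.Props
import Groth.Agent.Lib.FinCond.Components
import Groth.Agent.Lib.GrpSch.Basic
import Mathlib.AlgebraicGeometry.Morphisms.FlatMono

set_option autoImplicit false
universe u
open CategoryTheory CategoryTheory.Limits MonoidalCategory CartesianMonoidalCategory MonObj AlgebraicGeometry
open SGA7

namespace Groth.Agent.S8708

open Groth.Agent.H63.GrpConnected Groth.Agent.H63.GrpComponent Groth.Agent.H63.GrpIdentity Groth.Agent.H63.GrpTranslate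
open Groth.Agent.H63.GrpIrred Groth.Agent.Lib

variable {k : Type u} [Field k]

theorem etale_const (Z : Type u) : Etale (TwC.const (Spec (CommRingCat.of k)) Z).hom :=
  haveI := HasRingHomProperty.instIsZariskiLocalAtSource (P := @Etale.{u}) (Q := RingHom.Etale)
  IsZariskiLocalAtSource.sigmaDesc (P := @Etale.{u}) fun _ => inferInstance

theorem etale_of_exact {P E G : Over (Spec (CommRingCat.of k))} [GrpObj P] [GrpObj E] [GrpObj G]
    {u : G ⟶ E} {v : E ⟶ P} (hex : NonAbH1.IsExactSeq Scheme.fppfPrecoverage u v) [Etale G.hom] :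
    Etale v.left := by
  obtain ⟨-, -, -, hp, R, hR, hs⟩ := hex
  haveI : MorphismProperty.IsStableUnderBaseChange (@Etale.{u}) := AlgebraicGeometry.Etale.etale_isStableUnderBaseChange
  haveI : MorphismProperty.RespectsIso (@Etale.{u}) := MorphismProperty.IsStableUnderBaseChange.respectsIso
  haveI := AlgSpace.isLocalAtTarget_fppf_etale.{u}
  refine MorphismProperty.IsLocalAtTarget.of_forall_pullbackSnd (K := Scheme.fppfPrecoverage) hR
    fun {W} g _ hg => ?_
  obtain ⟨s, hsv⟩ := hs g hg
  have h1 : Etale (fst E G).left := GrpSch.fst_left_of E inferInstance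
  have sq : IsPullback ((E ◁ u) ≫ μ[E]).left (fst E G).left v.left v.left :=
    (hp.map (Over.forget _)).flip
  have sq2 := (IsPullback.of_hasPullback (fst E G).left s).paste_horiz sq.flip.flip
  have sq3 : IsPullback (pullback.fst (fst E G).left s ≫ ((E ◁ u) ≫ μ[E]).left)
      (pullback.snd (fst E G).left s) v.left g := by
    have hsv' : s ≫ v.left = g := hsv
    exact hsv' ▸ sq2
  have h2 : Etale (pullback.snd (fst E G).left s) := MorphismProperty.pullback_snd _ _ h1
  rw [← sq3.isoPullback_inv_snd]
  exact (MorphismProperty.cancel_left_of_respectsIso @Etale _ _).2 h2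

/-- The point set of a `T`-point lies in the identity component. -/
def InC {E : Over (Spec (CommRingCat.of k))} [GrpObj E] {T : Over (Spec (CommRingCat.of k))} (x : T ⟶ E) : Prop :=
  ∀ t, x.left t ∈ comp0 E

section InC

variable {E : Over (Spec (CommRingCat.of k))} [GrpObj E] [LocallyOfFiniteType E.hom]
  {T : Over (Spec (CommRingCat.of k))}

theorem InC.mul {x y : T ⟶ E} (hx : InC x) (hy : InC y) : InC (x * y) := by
  intro t
  rw [Hom.mul_def, Over.comp_left, Scheme.Hom.comp_apply]
  refine mul_mem E ?_ ?_
  · show ((lift x y).left ≫ (fst E E).left) t ∈ comp0 E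
    rw [← Over.comp_left, lift_fst]; exact hx t
  · show ((lift x y).left ≫ (snd E E).left) t ∈ comp0 E
    rw [← Over.comp_left, lift_snd]; exact hy t

theorem InC.inv {x : T ⟶ E} (hx : InC x) : InC x⁻¹ := by
  intro t
  rw [Hom.inv_def, Over.comp_left, Scheme.Hom.comp_apply]
  exact inv_mem E (hx t)

theorem InC.one : InC (1 : T ⟶ E) := by
  intro t
  rw [Hom.one_def, Over.comp_left, Scheme.Hom.comp_apply]
  have : η[E].left ((toUnit T).left t) = unitPt E :=
    congrArg η[E].left (Subsingleton.elim (α := PrimeSpectrum k) _ _)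
  rw [this]
  exact unitPt_mem E

end InC

theorem inC_ι {E : Over (Spec (CommRingCat.of k))} [GrpObj E] (U : E.left.Opens)
    (hU : (U : Set E.left) = comp0 E) : InC (Over.homMk U.ι : Over.mk (U.ι ≫ E.hom) ⟶ E) := fun t => by
  rw [← hU]; exact t.2


/-- Let k be a field, Z a group without non-trivial elements of finite order, P a connected k-group
scheme locally of finite type, G the constant k-group scheme Z_k (through the isomorphism eG), and u
: G → E, v : E → P homomorphisms of k-group schemes forming a sequence 1 → G → E → P → 1 which is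
exact for the fppf topology. Then the extension is rigid and trivial: every automorphism of the
k-group scheme E compatible with u and v is the identity, and there is a homomorphism of k-group
schemes s : P → E with s followed by v equal to the identity of P. (For P not connected the
published statement reduces extensions of P to extensions of its group of connected components; that
part is not stated.) -/
theorem result (k : Type u) [Field k]
    (Z : Type u) [Group Z] (hZ : ∀ z : Z, IsOfFinOrder z → z = 1)
    (P E G : Over (Spec (CommRingCat.of k))) [GrpObj P] [GrpObj E] [GrpObj G]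
    [LocallyOfFiniteType P.hom] [ConnectedSpace ↥P.left]
    (eG : G ≅ TwC.const (Spec (CommRingCat.of k)) Z) (hG : TwC.IsConstGrp Z G eG)
    (u : G ⟶ E) (v : E ⟶ P) (hex : NonAbH1.IsExactSeq Scheme.fppfPrecoverage u v) :
    (∀ φ : E ≅ E, IsMonHom φ.hom → u ≫ φ.hom = u → φ.hom ≫ v = v → φ.hom = 𝟙 E) ∧
      ∃ s : P ⟶ E, IsMonHom s ∧ s ≫ v = 𝟙 P := by
  classical
  obtain ⟨hu, hv, huv, -, -⟩ := id hex
  haveI := hu; haveI := hv
  haveI : Etale G.hom := by
    haveI := etale_const (k := k) Z
    haveI : IsIso eG.hom.left := ((Over.forget _).mapIso eG).isIso_hom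
    rw [← Over.w eG.hom]
    infer_instance
  haveI hve : Etale v.left := etale_of_exact hex
  haveI : LocallyOfFiniteType E.hom := by
    rw [← Over.w v]; infer_instance
  haveI : IsLocallyNoetherian E.left := LocallyOfFiniteType.isLocallyNoetherian E.hom
  haveI : LocallyConnectedSpace E.left :=
    FinCond.locallyConnectedSpace_of_locally_noetherian fun x => by
      obtain ⟨U, hU, hxU, -⟩ := exists_isAffineOpen_mem_and_subset (U := (⊤ : E.left.Opens)) (x := x) trivial
      haveI : IsNoetherianRing Γ(E.left, U) := IsLocallyNoetherian.component_noetherian ⟨U, hU⟩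
      exact ⟨U, U.2.mem_nhds hxU, noetherianSpace_of_isAffineOpen U hU⟩
  let U : E.left.Opens := ⟨comp0 E, by rw [← connectedComponent_unit E]; exact isOpen_connectedComponent⟩
  -- the kernel meets the identity component trivially
  let zp : Z → (𝟙_ (Over (Spec (CommRingCat.of k))) ⟶ G) := fun m => TwC.pt _ Z m ≫ eG.inv
  have hone : zp 1 = 1 := by
    have := hG 1 1
    rw [_root_.one_mul] at this
    exact mul_left_cancel (this.trans (_root_.mul_one _).symm)
  let p₀ : ↥(𝟙_ (Over (Spec (CommRingCat.of k)))).left :=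
    (IsLocalRing.closedPoint k : Spec (CommRingCat.of k))
  let ψ : Z → G.left := fun m => (zp m).left p₀
  have hψinj : Function.Injective ψ := by
    intro m n h
    have h2 := congrArg eG.hom.left h
    simp only [ψ, zp] at h2
    rw [← Scheme.Hom.comp_apply, ← Scheme.Hom.comp_apply, ← Over.comp_left, ← Over.comp_left, Category.assoc,
      Category.assoc, eG.inv_hom_id, Category.comp_id, Category.comp_id] at h2
    by_contra hmn
    have hd := disjoint_opensRange_sigmaι (fun _ : Z => Spec (CommRingCat.of k)) m n hmn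
    rw [disjoint_iff] at hd
    have hmem : Sigma.ι (fun _ : Z => Spec (CommRingCat.of k)) m p₀ ∈
        (Sigma.ι (fun _ : Z => Spec (CommRingCat.of k)) m).opensRange ⊓
          (Sigma.ι (fun _ : Z => Spec (CommRingCat.of k)) n).opensRange :=
      ⟨⟨p₀, rfl⟩, ⟨p₀, h2.symm⟩⟩
    rw [hd] at hmem
    exact hmem
  have hψ : ∀ y : G.left, ∃ m, ψ m = y := by
    intro y
    obtain ⟨m, z, hz⟩ := (sigmaOpenCover fun _ : Z => Spec (CommRingCat.of k)).exists_eq (eG.hom.left y)
    refine ⟨m, ?_⟩
    have hz' : (TwC.pt (Spec (CommRingCat.of k)) Z m).left p₀ = eG.hom.left y := by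
      rw [Subsingleton.elim (α := PrimeSpectrum k) p₀ z]
      exact hz
    simp only [ψ, zp]
    rw [Over.comp_left, Scheme.Hom.comp_apply, hz', ← Scheme.Hom.comp_apply, ← Over.comp_left, eG.hom_inv_id]
    rfl
  haveI : IsSeparated P.hom := GrpSch.isSeparated_of_field P
  haveI : IsClosedImmersion u.left := by
    haveI := GrpSch.isClosedImmersion_η P
    have hk : IsPullback u (toUnit G) v η[P] := by
      refine IsPullback.of_isLimit' ⟨by rw [huv, Hom.one_def]⟩ (PullbackCone.IsLimit.mk _
        (fun c => (BitorsExt.exists_lift_kernel u v hex 1 c.fst (by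
          rw [MonObj.one_comp, c.condition, Hom.one_def, toUnit_unique c.snd (toUnit _)])).choose) ?_ ?_ ?_)
      · intro c
        have := (BitorsExt.exists_lift_kernel u v hex 1 c.fst (by
          rw [MonObj.one_comp, c.condition, Hom.one_def, toUnit_unique c.snd (toUnit _)])).choose_spec
        rw [_root_.one_mul] at this
        exact this.symm
      · intro c; exact toUnit_unique _ _
      · intro c m hm _
        have := (BitorsExt.exists_lift_kernel u v hex 1 c.fst (by
          rw [MonObj.one_comp, c.condition, Hom.one_def, toUnit_unique c.snd (toUnit _)])).choose_spec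
        rw [_root_.one_mul] at this
        exact BitorsExt.kernel_injective u v hex _ _ (hm.trans this)
    exact MorphismProperty.of_isPullback (hk.map (Over.forget _)).flip (by assumption : IsClosedImmersion η[P].left)
  have hdisc : DiscreteTopology G.left := by
    rw [discreteTopology_iff_isOpen_singleton]
    intro y
    obtain ⟨m, rfl⟩ := hψ y
    haveI : IsOpenImmersion (TwC.pt (Spec (CommRingCat.of k)) Z m).left :=
      inferInstanceAs (IsOpenImmersion (Sigma.ι (fun _ : Z => Spec (CommRingCat.of k)) m))
    haveI : IsIso eG.inv.left := ((Over.forget _).mapIso eG.symm).isIso_hom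
    have hr : ({ψ m} : Set G.left) = Set.range ((zp m).left) := by
      ext y
      constructor
      · rintro rfl; exact ⟨_, rfl⟩
      · rintro ⟨z, rfl⟩
        rw [Subsingleton.elim (α := PrimeSpectrum k) z p₀]; rfl
    rw [hr]
    haveI : IsOpenImmersion (zp m).left := by
      simp only [zp, Over.comp_left]; infer_instance
    exact (zp m).left.isOpenEmbedding.isOpen_range
  let M : Subgroup Z :=
    { carrier := {m | u.left (ψ m) ∈ comp0 E}
      mul_mem' := by
        intro a b ha hb
        have h : InC ((zp a ≫ u) * (zp b ≫ u)) := InC.mul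
          (fun t => by rw [Subsingleton.elim (α := PrimeSpectrum k) t p₀]; exact ha)
          (fun t => by rw [Subsingleton.elim (α := PrimeSpectrum k) t p₀]; exact hb)
        rw [← MonObj.mul_comp, hG] at h
        exact h p₀
      one_mem' := by
        have h : InC ((1 : 𝟙_ (Over (Spec (CommRingCat.of k))) ⟶ G) ≫ u) := by
          rw [MonObj.one_comp]; exact InC.one
        rw [← hone] at h
        exact h p₀
      inv_mem' := by
        intro a ha
        have h : InC ((zp a ≫ u)⁻¹) := InC.inv
          (fun t => by rw [Subsingleton.elim (α := PrimeSpectrum k) t p₀]; exact ha)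
        rw [← GrpObj.inv_comp] at h
        have e : (zp a)⁻¹ = zp a⁻¹ := by
          refine inv_eq_of_mul_eq_one_right ?_
          rw [← hone, hG, mul_inv_cancel]
        rw [e] at h
        exact h p₀ }
  have hMfin : (M : Set Z).Finite := by
    have hc : IsCompact (u.left ⁻¹' comp0 E) :=
      u.left.isClosedEmbedding.isCompact_preimage (isCompact_comp0 E)
    exact Set.Finite.preimage (f := ψ) hψinj.injOn hc.finite_of_discrete
  have hker : ∀ {T : Over (Spec (CommRingCat.of k))} (g : T ⟶ G), InC (g ≫ u) → g = 1 := by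
    intro T g hg
    have h1 : ∀ t, g.left t = ψ 1 := by
      intro t
      obtain ⟨m, hm⟩ := hψ (g.left t)
      have hmM : m ∈ M := by
        show u.left (ψ m) ∈ comp0 E
        rw [hm, ← Scheme.Hom.comp_apply, ← Over.comp_left]
        exact hg t
      haveI : Finite M := hMfin.to_subtype
      have : m = 1 := hZ m (by
        have := isOfFinOrder_of_finite (⟨m, hmM⟩ : M)
        exact (Submonoid.isOfFinOrder_coe (x := (⟨m, hmM⟩ : M.toSubmonoid))).2 this)
      rw [← hm, this]
    haveI : IsOpenImmersion (TwC.pt (Spec (CommRingCat.of k)) Z 1).left :=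
      inferInstanceAs (IsOpenImmersion (Sigma.ι (fun _ : Z => Spec (CommRingCat.of k)) 1))
    haveI : IsIso eG.inv.left := ((Over.forget _).mapIso eG.symm).isIso_hom
    haveI : IsOpenImmersion (zp 1).left := by simp only [zp, Over.comp_left]; infer_instance
    let w := IsOpenImmersion.lift (zp 1).left g.left (by rintro _ ⟨t, rfl⟩; exact ⟨p₀, (h1 t).symm⟩)
    have hw : w ≫ (zp 1).left = g.left := IsOpenImmersion.lift_fac _ _ _
    let w' : T ⟶ 𝟙_ _ := Over.homMk w (by
      rw [← Over.w (zp 1), reassoc_of% hw, Over.w g])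
    have : g = w' ≫ zp 1 := Over.OverMorphism.ext hw.symm
    rw [this, hone, MonObj.comp_one]
  have hmono : ∀ {T : Over (Spec (CommRingCat.of k))} (x y : T ⟶ E), InC x → InC y → x ≫ v = y ≫ v → x = y := by
    intro T x y hx hy h
    obtain ⟨g, hg⟩ := BitorsExt.exists_lift_kernel u v hex x y h
    have h' : InC (g ≫ u) := by
      have := (InC.inv hx).mul hy
      rwa [hg, inv_mul_cancel_left] at this
    rw [hg, hker g h', MonObj.one_comp, _root_.mul_one]
  -- the identity component maps isomorphically
  let E₀ : Over (Spec (CommRingCat.of k)) := Over.mk (U.ι ≫ E.hom)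
  let j : E₀ ⟶ E := Over.homMk U.ι
  have hj : InC j := inC_ι U rfl
  have hfac : ∀ {T : Over (Spec (CommRingCat.of k))} (x : T ⟶ E), InC x → ∃ x' : T ⟶ E₀, x' ≫ j = x := by
    intro T x hx
    refine ⟨Over.homMk (IsOpenImmersion.lift U.ι x.left (by rw [Scheme.Opens.range_ι]; rintro _ ⟨t, rfl⟩; exact hx t))
      (by show _ ≫ U.ι ≫ E.hom = _; rw [IsOpenImmersion.lift_fac_assoc, Over.w x]),
      Over.OverMorphism.ext (IsOpenImmersion.lift_fac _ _ _)⟩
  let vU := (j ≫ v).left
  haveI : Etale vU := inferInstanceAs (Etale (U.ι ≫ v.left))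
  haveI : Mono (j ≫ v) := by
    constructor
    intro T a b h
    haveI : Mono j := by
      haveI : Mono j.left := inferInstanceAs (Mono U.ι)
      exact Over.mono_of_mono_left _
    rw [← cancel_mono j]
    exact hmono _ _ (fun t => by rw [Over.comp_left, Scheme.Hom.comp_apply]; exact hj _)
      (fun t => by rw [Over.comp_left, Scheme.Hom.comp_apply]; exact hj _) (by simpa using h)
  haveI : Mono vU := inferInstanceAs (Mono ((Over.forget _).map (j ≫ v)))
  haveI : IsOpenImmersion vU := IsOpenImmersion.of_flat_of_mono vU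
  haveI : Surjective vU := by
    refine ⟨fun y => ?_⟩
    have he : unitPt P ∈ Set.range vU := by
      obtain ⟨e', he'⟩ := hfac (1 : 𝟙_ _ ⟶ E) InC.one
      refine ⟨e'.left p₀, ?_⟩
      show (e'.left ≫ (j ≫ v).left) p₀ = _
      rw [← Over.comp_left, ← Category.assoc, he', MonObj.one_comp]
      exact congrArg η[P].left (Subsingleton.elim (α := PrimeSpectrum k) _ _)
    have hy : y ∈ comp0 P := by
      rw [← connectedComponent_unit P, PreconnectedSpace.connectedComponent_eq_univ]; trivial
    obtain ⟨q, hq1, hq2, hq3⟩ := exists_mul_mem P hy vU.isOpenEmbedding.isOpen_range he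
    let Q : Over (Spec (CommRingCat.of k)) := Over.mk ((P ⊗ P).left.fromSpecResidueField q ≫ (P ⊗ P).hom)
    let ι' : Q ⟶ P ⊗ P := Over.homMk ((P ⊗ P).left.fromSpecResidueField q)
    have key : ∀ a : Q ⟶ P, (∀ t, a.left t ∈ Set.range vU) → ∃ a' : Q ⟶ E₀, a' ≫ j ≫ v = a := by
      intro a ha
      refine ⟨Over.homMk (IsOpenImmersion.lift vU a.left (by rintro _ ⟨t, rfl⟩; exact ha t)) ?_,
        Over.OverMorphism.ext (IsOpenImmersion.lift_fac _ _ _)⟩
      exact (congrArg (_ ≫ ·) (Over.w (j ≫ v)).symm).trans
        ((IsOpenImmersion.lift_fac_assoc vU _ _ P.hom).trans (Over.w a))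
    obtain ⟨a, ha⟩ := key (ι' ≫ fst P P) fun t => by
      rw [Over.comp_left, Scheme.Hom.comp_apply]
      show pullback.fst P.hom P.hom _ ∈ _
      rw [show ι'.left t = q from Scheme.fromSpecResidueField_apply q t]
      exact hq1.1
    obtain ⟨b, hb⟩ := key (ι' ≫ snd P P) fun t => by
      rw [Over.comp_left, Scheme.Hom.comp_apply]
      show pullback.snd P.hom P.hom _ ∈ _
      rw [show ι'.left t = q from Scheme.fromSpecResidueField_apply q t]
      exact hq2.1
    obtain ⟨c, hc⟩ := hfac ((a ≫ j) * (b ≫ j))
      (InC.mul (fun t => by rw [Over.comp_left, Scheme.Hom.comp_apply]; exact hj _)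
        (fun t => by rw [Over.comp_left, Scheme.Hom.comp_apply]; exact hj _))
    refine ⟨c.left (IsLocalRing.closedPoint ((P ⊗ P).left.residueField q) : Spec _), ?_⟩
    have h : c ≫ j ≫ v = ι' ≫ μ[P] := by
      rw [← Category.assoc, hc, MonObj.mul_comp, Category.assoc, Category.assoc, ha, hb, Hom.mul_def,
        ← comp_lift, lift_fst_snd, Category.comp_id]
    show (c.left ≫ (j ≫ v).left) _ = y
    rw [← Over.comp_left, h]
    show μ[P].left (ι'.left _) = y
    exact (congrArg μ[P].left (Scheme.fromSpecResidueField_apply q _)).trans hq3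
  haveI : IsIso vU := by
    rw [isIso_iff_isOpenImmersion_and_epi_base]
    exact ⟨inferInstance, (TopCat.epi_iff_surjective _).2 vU.surjective⟩
  haveI : IsIso (j ≫ v) := by
    haveI : IsIso ((Over.forget _).map (j ≫ v)) := inferInstanceAs (IsIso vU)
    exact isIso_of_reflects_iso _ (Over.forget _)
  let s : P ⟶ E := inv (j ≫ v) ≫ j
  have hsv : s ≫ v = 𝟙 P := by simp [s]
  have hsC : ∀ {T : Over (Spec (CommRingCat.of k))} (x : T ⟶ P), InC (x ≫ s) := fun x t => by
    rw [← Category.assoc, Over.comp_left, Scheme.Hom.comp_apply]; exact hj _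
  have hsmul : ∀ (T : Over (Spec (CommRingCat.of k))) (x y : T ⟶ P), (x * y) ≫ s = (x ≫ s) * (y ≫ s) := by
    intro T x y
    exact hmono _ _ (hsC _) ((hsC x).mul (hsC y)) (by
      simp only [MonObj.mul_comp, Category.assoc, hsv, Category.comp_id])
  refine ⟨fun φ hφ hu' hv' => ?_, s, ?_, hsv⟩
  · haveI := hφ
    have hφC : ∀ x ∈ comp0 E, φ.hom.left x ∈ comp0 E := by
      intro x hx
      rw [← connectedComponent_unit E] at hx ⊢
      have h1 : φ.hom.left (unitPt E) = unitPt E := by
        show (η[E].left ≫ φ.hom.left) _ = _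
        rw [← Over.comp_left, IsMonHom.one_hom]
      have := φ.hom.left.continuous.image_connectedComponent_subset (unitPt E) ⟨x, hx, rfl⟩
      rwa [h1] at this
    let x : E ⟶ E := 𝟙 E
    obtain ⟨g, hg⟩ := BitorsExt.exists_lift_kernel u v hex (x ≫ v ≫ s) x (by simp [hsv])
    have h2 : (x ≫ v ≫ s) ≫ φ.hom = x ≫ v ≫ s := by
      refine hmono _ _ ?_ ?_ ?_
      · intro t
        rw [Over.comp_left, Scheme.Hom.comp_apply]
        exact hφC _ (by rw [← Category.assoc]; exact hsC _ t)
      · rw [← Category.assoc]; exact hsC _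
      · rw [Category.assoc, hv']
    calc φ.hom = x ≫ φ.hom := (Category.id_comp _).symm
      _ = x := by
        nth_rewrite 1 [hg]
        rw [MonObj.mul_comp _ _ φ.hom, h2, Category.assoc, hu', ← hg]
      _ = 𝟙 E := rfl
  · constructor
    · rw [MonObj.one_eq_one, MonObj.one_eq_one]
      have := hsmul _ (1 : 𝟙_ _ ⟶ P) 1
      rw [_root_.mul_one] at this
      exact mul_left_cancel (this.symm.trans (_root_.mul_one _).symm)
    · rw [MonObj.mul_eq_mul, hsmul, MonObj.mul_eq_mul, MonObj.comp_mul, tensorHom_fst, tensorHom_snd]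

end Groth.Agent.S8708
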