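import Groth.Statements.S8709
import Groth.Agent.Lib.UnitsProd.Algebra
import Groth.Agent.Lib.UnitsProd.Connected
import Groth.Agent.Lib.RedPts.Gm
import Groth.Agent.Lib.Tori.DS
import Groth.Agent.Lib.GrpQ.Points
import Groth.Agent.H52.FBase.GeomRedSch

set_option autoImplicit false
universe u
open CategoryTheory CategoryTheory.Limits MonoidalCategory CartesianMonoidalCategory MonObj AlgebraicGeometry
open SGA7

namespace Groth.Agent.S8709Aux

open Groth.Agent.Lib TensorProduct

variable {k K : Type u} [Field k] [Field K] [Algebra k K]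

/-- `Spec C` as a `k`-scheme, for a `K`-algebra `C`. -/
noncomputable abbrev obj (k K : Type u) [Field k] [Field K] [Algebra k K] (C : Type u)
    [CommRing C] [Algebra K C] : Over (Spec (CommRingCat.of k)) :=
  Over.mk (Spec.map (CommRingCat.ofHom ((algebraMap K C).comp (algebraMap k K))))

/-- The morphism of `k`-schemes of a map of `K`-algebras. -/
noncomputable def objMap {C D : Type u} [CommRing C] [Algebra K C] [CommRing D] [Algebra K D]
    (χ : C →ₐ[K] D) : obj k K D ⟶ obj k K C :=
  Over.homMk (Spec.map (CommRingCat.ofHom χ.toRingHom)) (by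
    show Spec.map _ ≫ Spec.map _ = Spec.map _
    rw [← Spec.map_comp, ← CommRingCat.ofHom_comp, ← RingHom.comp_assoc]
    congr 3
    exact χ.comp_algebraMap)

theorem objMap_comp {C D E : Type u} [CommRing C] [Algebra K C] [CommRing D] [Algebra K D]
    [CommRing E] [Algebra K E] (χ : C →ₐ[K] D) (ψ : D →ₐ[K] E) :
    objMap (k := k) ψ ≫ objMap χ = objMap (ψ.comp χ) := by
  ext1
  show Spec.map _ ≫ Spec.map _ = Spec.map _
  rw [← Spec.map_comp, ← CommRingCat.ofHom_comp]
  rfl

variable {W : Over (Spec (CommRingCat.of k))} (u : W ⟶ Red.Gm (Spec (CommRingCat.of k)))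

/-- The value of `u` at a point with coordinates in `C`. -/
noncomputable def val {C : Type u} [CommRing C] [Algebra K C] (t : obj k K C ⟶ W) : C :=
  (Scheme.ΓSpecIso (CommRingCat.of C)).hom (Red.gmFn (t ≫ u))

theorem isUnit_val {C : Type u} [CommRing C] [Algebra K C] (t : obj k K C ⟶ W) : IsUnit (val u t) :=
  IsUnit.map (Scheme.ΓSpecIso (CommRingCat.of C)).hom.hom (RedPts.Gm.isUnit_gmFn (t ≫ u))

theorem val_comp {C D : Type u} [CommRing C] [Algebra K C] [CommRing D] [Algebra K D]
    (χ : C →ₐ[K] D) (t : obj k K C ⟶ W) : val u (objMap χ ≫ t) = χ (val u t) := by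
  rw [val, Category.assoc, RedPts.Gm.gmFn_comp]
  exact congr($(Scheme.ΓSpecIso_naturality (CommRingCat.ofHom χ.toRingHom)).hom _)

theorem val_eq_one {C : Type u} [CommRing C] [Algebra K C] (t : obj k K C ⟶ W) (h : t ≫ u = 1) :
    val u t = 1 := by
  rw [val, h, RedPts.Gm.gmFn_one, map_one]

theorem eq_one_of_val (t : obj k K K ⟶ W) (h : val u t = 1) : t ≫ u = 1 := by
  apply RedPts.Gm.gmFn_injective
  apply (Scheme.ΓSpecIso (CommRingCat.of K)).commRingCatIsoToRingEquiv.injective
  rw [RedPts.Gm.gmFn_one, map_one]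
  exact h

variable [IsAlgClosed K]

/-- A function on `K`-points constant on the integral pieces of the base change is constant. -/
theorem eq_of_pieces {X : Over (Spec (CommRingCat.of k))} [LocallyOfFiniteType X.hom]
    [GeometricallyConnected X.hom] {α : Type*} (φ : (obj k K K ⟶ X) → α)
    (h : ∀ (A : Type u) [CommRing A] [IsDomain A] [Algebra K A] (a : obj k K A ⟶ X)
      (x x' : A →ₐ[K] K), φ (objMap x ≫ a) = φ (objMap x' ≫ a)) :
    ∀ x x', φ x = φ x' := by
  let b : Spec (CommRingCat.of K) ⟶ Spec (CommRingCat.of k) :=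
    Spec.map (CommRingCat.ofHom (algebraMap k K))
  let q := pullback.snd X.hom b
  have : ConnectedSpace ↥(pullback X.hom b) :=
    GeometricallyConnected.geometrically_connectedSpace _ _ _ (IsPullback.of_hasPullback X.hom b)
  let ξ : {p : Spec (CommRingCat.of K) ⟶ pullback X.hom b // p ≫ q = 𝟙 _} → (obj k K K ⟶ X) :=
    fun p => Over.homMk (p.1 ≫ pullback.fst X.hom b) (by
      show (p.1 ≫ pullback.fst X.hom b) ≫ X.hom = b
      rw [Category.assoc, pullback.condition, ← Category.assoc, p.2, Category.id_comp])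
  have hξ : ∀ x, ∃ p, ξ p = x := fun x =>
    ⟨⟨pullback.lift x.left (𝟙 _) (by rw [Category.id_comp]; exact Over.w x), pullback.lift_snd _ _ _⟩, by
      ext1
      exact pullback.lift_fst _ _ _⟩
  intro x x'
  obtain ⟨p, rfl⟩ := hξ x
  obtain ⟨p', rfl⟩ := hξ x'
  refine UnitsProd.eq_of_connected q (φ := fun p => φ (ξ p)) ?_ p p'
  intro A _ _ _ a ha y y' hy hy'
  let a' : obj k K A ⟶ X := Over.homMk (a ≫ pullback.fst X.hom b) (by
    show (a ≫ pullback.fst X.hom b) ≫ X.hom = Spec.map _
    rw [Category.assoc, pullback.condition, ← Category.assoc, ha, ← Spec.map_comp]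
    rfl)
  have e : ∀ (z : A →ₐ[K] K) (hz : (Spec.map (CommRingCat.ofHom z.toRingHom) ≫ a) ≫ q = 𝟙 _),
      ξ ⟨_, hz⟩ = objMap z ≫ a' := by
    intro z hz
    ext1
    exact Category.assoc _ _ _
  show φ (ξ _) = φ (ξ _)
  rw [e, e]
  exact h A a' y y'

theorem val_cross {A B : Type u} [CommRing A] [IsDomain A] [Algebra K A] [CommRing B] [IsDomain B]
    [Algebra K B] {X Y : Over (Spec (CommRingCat.of k))}
    (u : X ⊗ Y ⟶ Red.Gm (Spec (CommRingCat.of k))) (a : obj k K A ⟶ X) (b : obj k K B ⟶ Y)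
    (x x' : A →ₐ[K] K) (y y' : B →ₐ[K] K) :
    val u (lift (objMap x ≫ a) (objMap y ≫ b)) * val u (lift (objMap x' ≫ a) (objMap y' ≫ b)) =
      val u (lift (objMap x' ≫ a) (objMap y ≫ b)) * val u (lift (objMap x ≫ a) (objMap y' ≫ b)) := by
  let iA : A →ₐ[K] A ⊗[K] B := Algebra.TensorProduct.includeLeft
  let iB : B →ₐ[K] A ⊗[K] B := Algebra.TensorProduct.includeRight
  let t : obj k K (A ⊗[K] B) ⟶ X ⊗ Y := lift (objMap iA ≫ a) (objMap iB ≫ b)
  have e : ∀ (z : A →ₐ[K] K) (w : B →ₐ[K] K), lift (objMap z ≫ a) (objMap w ≫ b) =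
      objMap (Algebra.TensorProduct.productMap z w) ≫ t := by
    intro z w
    rw [comp_lift, ← Category.assoc, ← Category.assoc, objMap_comp, objMap_comp,
      Algebra.TensorProduct.productMap_left, Algebra.TensorProduct.productMap_right]
  simp only [e, val_comp]
  exact UnitsProd.ev_mul_ev _ (isUnit_val u t) x x' y y'

end Groth.Agent.S8709Aux

namespace Groth.Agent.S8709

/-- Let k be a field and X, Y two k-schemes of finite type which are geometrically reduced and
geometrically connected, with rational points e_X and e_Y. Then every k-morphism u from X ×_k Y to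
the multiplicative group whose restrictions to X × e_Y and to e_X × Y are trivial is trivial.
(Morphisms to the multiplicative group over k form a group; trivial means equal to its unit
element.) -/
theorem result (k : Type u) [Field k]
    (X Y : Over (Spec (CommRingCat.of k)))
    [LocallyOfFiniteType X.hom] [QuasiCompact X.hom] [GeometricallyReduced X.hom] [GeometricallyConnected X.hom]
    [LocallyOfFiniteType Y.hom] [QuasiCompact Y.hom] [GeometricallyReduced Y.hom] [GeometricallyConnected Y.hom]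
    (eX : 𝟙_ (Over (Spec (CommRingCat.of k))) ⟶ X) (eY : 𝟙_ (Over (Spec (CommRingCat.of k))) ⟶ Y)
    (u : X ⊗ Y ⟶ Red.Gm (Spec (CommRingCat.of k)))
    (huX : lift (𝟙 X) (toUnit X ≫ eY) ≫ u = 1) (huY : lift (toUnit Y ≫ eX) (𝟙 Y) ≫ u = 1) :
    u = 1 := by
  let K := AlgebraicClosure k
  have : GeometricallyReduced (X ⊗ Y).hom :=
    Groth.Agent.H52.FBase.GeomRedSch.geometricallyReduced_prod X.hom Y.hom
  have : LocallyOfFiniteType (X ⊗ Y).hom :=
    inferInstanceAs (LocallyOfFiniteType (pullback.fst X.hom Y.hom ≫ X.hom))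
  have : IsAffineHom (Red.Gm (Spec (CommRingCat.of k))).hom :=
    Groth.Agent.Lib.Tori.DS.isAffineHom _ ℤ
  refine Groth.Agent.Lib.GrpQ.ext_of_points (k := k) (K := K) u 1 fun p => ?_
  let e : S8709Aux.obj k K K ⟶ 𝟙_ (Over (Spec (CommRingCat.of k))) := toUnit _
  let h : (S8709Aux.obj k K K ⟶ X) → (S8709Aux.obj k K K ⟶ Y) → K := fun x y =>
    S8709Aux.val u (lift x y)
  have hu : ∀ x y, h x y ≠ 0 := fun x y => (S8709Aux.isUnit_val u _).ne_zero
  have h0y : ∀ y, h (e ≫ eX) y = 1 := by
    intro y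
    refine S8709Aux.val_eq_one u _ ?_
    have := congr(y ≫ $huY)
    rwa [MonObj.comp_one, ← Category.assoc, comp_lift, Category.comp_id, ← Category.assoc,
      toUnit_unique (y ≫ toUnit Y) e] at this
  have h0x : ∀ x, h x (e ≫ eY) = 1 := by
    intro x
    refine S8709Aux.val_eq_one u _ ?_
    have := congr(x ≫ $huX)
    rwa [MonObj.comp_one, ← Category.assoc, comp_lift, Category.comp_id, ← Category.assoc,
      toUnit_unique (x ≫ toUnit X) e] at this
  have main : ∀ x y, h x y = 1 := by
    intro x y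
    rw [← h0x x]
    refine S8709Aux.eq_of_pieces (fun y => h x y) ?_ y (e ≫ eY)
    intro B _ _ _ b w w'
    have hc : ∀ z, h z (S8709Aux.objMap w ≫ b) / h z (S8709Aux.objMap w' ≫ b) = 1 := by
      intro z
      rw [S8709Aux.eq_of_pieces
        (fun z => h z (S8709Aux.objMap w ≫ b) / h z (S8709Aux.objMap w' ≫ b)) ?_ z (e ≫ eX),
        h0y, h0y, div_one]
      intro A _ _ _ a v v'
      rw [div_eq_div_iff (hu _ _) (hu _ _)]
      exact S8709Aux.val_cross u a b v v' w w'
    exact (div_eq_one_iff_eq (hu _ _)).1 (hc x)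
  let p' : S8709Aux.obj k K K ⟶ X ⊗ Y := p
  show p' ≫ u = p' ≫ 1
  rw [MonObj.comp_one, ← lift_comp_fst_snd p']
  exact S8709Aux.eq_one_of_val u _ (main _ _)

end Groth.Agent.S8709
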