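import Groth.Statements.S8710
import Groth.Agent.H25.TorLES

set_option autoImplicit false
universe u
open CategoryTheory CategoryTheory.Limits
open SGA7

namespace Groth.Agent.S8710

/-- Let f : B' → B be a surjective map of R-algebras with B' flat over R, g : C → B a map of R-algebras,
P = B' ×_B C their fibre product (the equalizer of f ∘ pr₁ and g ∘ pr₂ in B' × C), S an R-algebra
and n a natural number. If Tor_i^R(C, S) = 0 for 0 < i < n and Tor_i^R(B, S) = 0 for 0 < i ≤ n, then
Tor_i^R(P, S) = 0 for 0 < i < n. Here Tor_i^R(M, S) is the i-th left derived functor of M ⊗_R − on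
R-modules, evaluated at S. (The published statement asks the vanishing for B only in degrees 0 < i <
n; the published proof and the corollary following it use it in degrees 0 < i ≤ n, which this row
assumes.) -/
theorem result (R B' B C S : Type u) [CommRing R] [CommRing B'] [CommRing B]
    [CommRing C] [CommRing S] [Algebra R B'] [Algebra R B] [Algebra R C] [Algebra R S]
    (f : B' →ₐ[R] B) (hf : Function.Surjective f) (g : C →ₐ[R] B) [Module.Flat R B'] (n : ℕ)
    (hC : ∀ i : ℕ, 0 < i → i < n →
      IsZero (((Tor (ModuleCat.{u} R) i).obj (ModuleCat.of R C)).obj (ModuleCat.of R S)))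
    (hB : ∀ i : ℕ, 0 < i → i ≤ n →
      IsZero (((Tor (ModuleCat.{u} R) i).obj (ModuleCat.of R B)).obj (ModuleCat.of R S))) :
    letI P := AlgHom.equalizer (f.comp (AlgHom.fst R B' C)) (g.comp (AlgHom.snd R B' C))
    ∀ i : ℕ, 0 < i → i < n →
      IsZero (((Tor (ModuleCat.{u} R) i).obj (ModuleCat.of R ↥P)).obj (ModuleCat.of R S)) := by
  let P := AlgHom.equalizer (f.comp (AlgHom.fst R B' C)) (g.comp (AlgHom.snd R B' C))
  show ∀ i : ℕ, 0 < i → i < n →
    IsZero (((Tor (ModuleCat.{u} R) i).obj (ModuleCat.of R ↥P)).obj (ModuleCat.of R S))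
  intro i hi hin
  have mkSE : ∀ {X Y Z : Type u} [AddCommGroup X] [AddCommGroup Y] [AddCommGroup Z] [Module R X]
      [Module R Y] [Module R Z] (a : X →ₗ[R] Y) (b : Y →ₗ[R] Z) (_ : Function.Injective a)
      (he : Function.Exact a b) (_ : Function.Surjective b),
      (ShortComplex.mk (ModuleCat.ofHom a) (ModuleCat.ofHom b)
        (by ext x; exact he.apply_apply_eq_zero x)).ShortExact := by
    intro X Y Z _ _ _ _ _ _ a b ha he hb
    exact
      { exact := (ShortComplex.ShortExact.moduleCat_exact_iff_function_exact _).2 he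
        mono_f := (ModuleCat.mono_iff_injective _).2 ha
        epi_g := (ModuleCat.epi_iff_surjective _).2 hb }
  let T : ℕ → ModuleCat.{u} R → ModuleCat.{u} R := fun k M =>
    ((Tor (ModuleCat.{u} R) k).obj (ModuleCat.of R S)).obj M
  have flip : ∀ (k : ℕ) (M : ModuleCat.{u} R),
      IsZero (((Tor (ModuleCat.{u} R) k).obj M).obj (ModuleCat.of R S)) ↔ IsZero (T k M) :=
    fun k M => (Groth.Agent.Lib.Tor.Balance.torFlipIso M (ModuleCat.of R S) k).isZero_iff
  have hB' : IsZero (T i (ModuleCat.of R B')) := by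
    haveI : Module.Flat R (ModuleCat.of R B') := inferInstanceAs (Module.Flat R B')
    obtain ⟨k, rfl⟩ := Nat.exists_eq_succ_of_ne_zero hi.ne'
    exact Groth.Agent.Lib.Tor.Balance.isZero_tor_succ_of_flat_right _ _ k
  have hsum : IsZero (T i (ModuleCat.of R (B' × C))) :=
    Groth.Agent.H25.TorLES.isZero_mid (M := ModuleCat.of R S)
      (mkSE (LinearMap.inl R B' C) (LinearMap.snd R B' C) LinearMap.inl_injective
        Function.Exact.inl_snd LinearMap.snd_surjective) i hB'
      ((flip i (ModuleCat.of R C)).1 (hC i hi hin))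
  let d : B' × C →ₗ[R] B := f.toLinearMap ∘ₗ LinearMap.fst R B' C - g.toLinearMap ∘ₗ LinearMap.snd R B' C
  let ι : ↥P →ₗ[R] B' × C := P.val.toLinearMap
  have hmem : ∀ z : B' × C, z ∈ P ↔ f z.1 = g z.2 := fun z => Iff.rfl
  have hex : Function.Exact ι d := by
    intro z
    constructor
    · intro hz
      exact ⟨⟨z, (hmem z).2 (sub_eq_zero.1 hz)⟩, rfl⟩
    · rintro ⟨p, rfl⟩
      exact sub_eq_zero.2 ((hmem p.1).1 p.2)
  have hd : Function.Surjective d := fun b => by
    obtain ⟨b', hb'⟩ := hf b
    exact ⟨(b', 0), by simp [d, hb']⟩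
  exact (flip i (ModuleCat.of R ↥P)).2
    (Groth.Agent.H25.TorLES.isZero_left (M := ModuleCat.of R S)
      (mkSE ι d Subtype.val_injective hex hd) i
      ((flip (i + 1) (ModuleCat.of R B)).1 (hB (i + 1) (by omega) (by omega))) hsum)

end Groth.Agent.S8710
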