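import Groth.Statements.S8715
import Groth.Agent.H87.TorusIn
import Groth.Agent.Lib.MTExt.PowFinite
import Groth.Agent.Lib.SemiAbIsog.Basic
import Groth.Agent.Lib.TorusPow.Basic

set_option autoImplicit false
universe u
open CategoryTheory CategoryTheory.Limits AlgebraicGeometry MonObj
open SGA7

namespace Groth.Agent.S8715

open MonoidalCategory CartesianMonoidalCategory
open Groth.Agent.Lib.RedPts Groth.Agent.Lib.Tori
open Groth.Agent.H87.CentralEq (Fac)
open Groth.Agent.H87

set_option linter.style.haveILetI false

set_option backward.isDefEq.respectTransparency false in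
/-- A maximal torus receives every homomorphism from a torus commuting with it. -/
theorem exists_fac' {S : Scheme.{u}} {G T R : Over S} [GrpObj G] [GrpObj T] [GrpObj R]
    [IsSeparated G.hom] [LocallyOfFinitePresentation G.hom] (i : T ⟶ G) (hT : Red.IsMaximalTorus i)
    (j : R ⟶ G) [IsMonHom j] (hR : Red.IsTorus R)
    (hcomm : ∀ (X : Over S) (t : X ⟶ T) (r : X ⟶ R), (t ≫ i) * (r ≫ j) = (r ≫ j) * (t ≫ i)) :
    ∃ f : R ⟶ T, f ≫ i = j := by
  obtain ⟨hi, him, hTt, hmax⟩ := hT
  haveI := hi
  haveI := him
  obtain ⟨U, -, hU, hUf⟩ := EqLocus.exists_fac_locus j i (GmFibre.isMultTypeFT_of_isTorus hR)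
    (GmFibre.isMultTypeFT_of_isTorus hTt) (Or.inr inferInstance) (fun X h h' => (hcomm X h' h).symm)
  have hall : ∀ s : S, s ∈ U := by
    intro s
    rw [hU]
    let g := Red.geomPt s
    haveI : LocallyOfFiniteType (Red.bc g G).hom :=
      MorphismProperty.pullback_snd (P := @LocallyOfFiniteType) _ _ inferInstance
    haveI : Mono ((Over.pullback g).map i) := inferInstance
    obtain ⟨w, hw⟩ := TorusIn.exists_fac_field ((Over.pullback g).map i) ((Over.pullback g).map j)
      (Basic.isTorus_bc hTt g) (Basic.isTorus_bc hR g) (fun T' _ j' _ _ f ht hf => hmax s T' j' f ht hf)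
      (fun X t r => BC.down_injective (by
        rw [BC.down_mul, BC.down_mul, BC.down_map, BC.down_map, hcomm]))
    have hfac : Fac j i g := by
      intro Y p x
      let ε : (Over.map g).obj (Over.mk p.left) ≅ Y :=
        Over.isoMk (Iso.refl _) ((Category.id_comp _).trans (Over.w p).symm)
      refine ⟨ε.inv ≫ BC.down g (BC.up g (ε.hom ≫ x) ≫ w), ?_⟩
      rw [Category.assoc, ← BC.down_map, Category.assoc, hw, BC.down_map, BC.down_up]
      simp
    refine (CentralEq.fib_iso_iff j i _).1 ?_
    have h1 := (Charts.fib_point_iff (MorphismProperty.isomorphisms Scheme) g (CentralEq.proj j i)).1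
      ((CentralEq.fib_iso_iff j i g).2 hfac)
    have hs : g (IsLocalRing.closedPoint (AlgebraicClosure (S.residueField s))) = s :=
      S.fromSpecResidueField_apply s _
    rwa [hs] at h1
  have hr : Set.range R.hom ⊆ Set.range U.ι := by
    rintro x -
    rw [Scheme.Opens.range_ι]
    exact hall x
  obtain ⟨γ', hγ'⟩ := hUf R (Over.homMk (IsOpenImmersion.lift U.ι R.hom hr) (IsOpenImmersion.lift_fac _ _ _)) (𝟙 R)
  exact ⟨γ', by rw [hγ', Category.id_comp]⟩

/-- Base change of the multiplication by `n`. -/
theorem pullback_map_pow {S S' : Scheme.{u}} (e : S' ⟶ S) (X : Over S) [GrpObj X] (j : ℕ) :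
    (Over.pullback e).map ((𝟙 X : X ⟶ X) ^ j) = (𝟙 (Red.bc e X)) ^ j := by
  induction j with
  | zero => simp [Functor.map_one]
  | succ j ih => rw [pow_succ, Functor.map_mul, ih, CategoryTheory.Functor.map_id, pow_succ]

/-- The power maps of a torus over the spectrum of a residue field are surjective. -/
theorem surjective_pow' {X : Scheme.{u}} (s : X) {T : Over (Spec (X.residueField s))} [GrpObj T]
    (hT : Red.IsTorus T) {n : ℕ} (hn : 0 < n) : Surjective ((𝟙 T : T ⟶ T) ^ n).left :=
  @Groth.Agent.Lib.TorusPow.Basic.surjective_pow (X.residueField s) inferInstance T inferInstance hT n hn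

/-- Let R be a discrete valuation ring with fraction field K and closed point s, A and C commutative
group schemes over Spec R which are Néron models of their generic fibres A_K and C_K, both abelian
varieties (proper and geometrically integral over K), and u : C → A a homomorphism which is an
isogeny up to the Néron property: there are a homomorphism v : A → C and an integer n > 0 with u ∘ v
and v ∘ u both equal to multiplication by n (for Néron models of abelian varieties this is the same
as asking the generic fibre u_K to be an isogeny, since v_K extends uniquely). Let T_A → A_s and T_C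
→ C_s be maximal tori of the special fibres. Then the homomorphism u_s induced on special fibres
carries T_C into T_A through a homomorphism T_C → T_A which is an isogeny. (The companion
assertions, that u also induces isogenies on the fixed parts of the ℓ-adic Tate modules of the
generic fibres, on the ℓ-adic Tate modules of the neutral components of the special fibres, and on
the abelian parts of the special fibres over a perfect extension of the residue field, are not
stated.) -/
theorem result (R K : Type u) [CommRing R] [IsDomain R]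
    [IsDiscreteValuationRing R] [Field K] [Algebra R K] [IsFractionRing R K]
    (A C : Over (Spec (CommRingCat.of R))) [GrpObj A] [GrpObj C] [IsCommMonObj A] [IsCommMonObj C]
    (hA : SGA7.IsNeron R K A) (hC : SGA7.IsNeron R K C)
    [IsProper ((SGA7.genFib R K).obj A).hom] [GeometricallyIntegral ((SGA7.genFib R K).obj A).hom]
    [IsProper ((SGA7.genFib R K).obj C).hom] [GeometricallyIntegral ((SGA7.genFib R K).obj C).hom]
    (u : C ⟶ A) [IsMonHom u] (v : A ⟶ C) [IsMonHom v] (n : ℕ) (hn : 0 < n)
    (huv : u ≫ v = (𝟙 C : C ⟶ C) ^ n) (hvu : v ≫ u = (𝟙 A : A ⟶ A) ^ n)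
    (TA TC : Over (Spec ((Spec (CommRingCat.of R)).residueField (IsLocalRing.closedPoint R))))
    [GrpObj TA] [GrpObj TC]
    (iA : TA ⟶ Red.bc ((Spec (CommRingCat.of R)).fromSpecResidueField (IsLocalRing.closedPoint R)) A)
    (iC : TC ⟶ Red.bc ((Spec (CommRingCat.of R)).fromSpecResidueField (IsLocalRing.closedPoint R)) C)
    (hiA : Red.IsMaximalTorus iA) (hiC : Red.IsMaximalTorus iC) :
    ∃ w : TC ⟶ TA, IsMonHom w ∧ w ≫ iA = iC ≫ (Over.pullback ((Spec (CommRingCat.of R)).fromSpecResidueField (IsLocalRing.closedPoint R))).map u ∧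
      SGA7.IsIsogenyOver w := by
  let e := (Spec (CommRingCat.of R)).fromSpecResidueField (IsLocalRing.closedPoint R)
  haveI := hiA.1
  haveI := hiC.1
  haveI := hiA.2.1
  haveI := hiC.2.1
  haveI : Smooth A.hom := hA.1
  haveI : Smooth C.hom := hC.1
  haveI : IsSeparated A.hom := hA.2.1
  haveI : IsSeparated C.hom := hC.2.1
  haveI : IsSeparated (Red.bc e A).hom := MorphismProperty.pullback_snd (P := @IsSeparated) _ _ inferInstance
  haveI : IsSeparated (Red.bc e C).hom := MorphismProperty.pullback_snd (P := @IsSeparated) _ _ inferInstance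
  haveI : LocallyOfFinitePresentation (Red.bc e A).hom :=
    MorphismProperty.pullback_snd (P := @LocallyOfFinitePresentation) _ _ inferInstance
  haveI : LocallyOfFinitePresentation (Red.bc e C).hom :=
    MorphismProperty.pullback_snd (P := @LocallyOfFinitePresentation) _ _ inferInstance
  have hcA : ∀ (X : Over (Spec ((Spec (CommRingCat.of R)).residueField (IsLocalRing.closedPoint R))))
      (x y : X ⟶ Red.bc e A), x * y = y * x := fun X x y => BC.down_injective (by
    rw [BC.down_mul, BC.down_mul, mul_comm])
  have hcC : ∀ (X : Over (Spec ((Spec (CommRingCat.of R)).residueField (IsLocalRing.closedPoint R))))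
      (x y : X ⟶ Red.bc e C), x * y = y * x := fun X x y => BC.down_injective (by
    rw [BC.down_mul, BC.down_mul, mul_comm])
  haveI : IsMonHom (iC ≫ (Over.pullback e).map u) := inferInstance
  haveI : IsMonHom (iA ≫ (Over.pullback e).map v) := inferInstance
  obtain ⟨w, hw⟩ := exists_fac' iA hiA (iC ≫ (Over.pullback e).map u) hiC.2.2.1 (fun X t r => hcA X _ _)
  obtain ⟨z, hz⟩ := exists_fac' iC hiC (iA ≫ (Over.pullback e).map v) hiA.2.2.1 (fun X t r => hcC X _ _)
  haveI : IsMonHom w := HomDS.isMonHom_of_points w fun X x y => by
    rw [← cancel_mono iA, MonObj.mul_comp _ _ iA, Category.assoc, Category.assoc, Category.assoc, hw,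
      MonObj.mul_comp]
  have hwz : w ≫ z = (𝟙 TC : TC ⟶ TC) ^ n := by
    rw [← cancel_mono iC, MonObj.pow_comp, Category.id_comp, Category.assoc, hz, ← Category.assoc, hw,
      Category.assoc, ← Functor.map_comp, huv, pullback_map_pow, MonObj.comp_pow, Category.comp_id]
  have hzw : z ≫ w = (𝟙 TA : TA ⟶ TA) ^ n := by
    rw [← cancel_mono iA, MonObj.pow_comp, Category.id_comp, Category.assoc, hw, ← Category.assoc, hz,
      Category.assoc, ← Functor.map_comp, hvu, pullback_map_pow, MonObj.comp_pow, Category.comp_id]
  refine ⟨w, inferInstance, hw, ?_, fun N i hN => ?_⟩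
  · haveI : Surjective (z.left ≫ w.left) := by
      rw [← Over.comp_left, hzw]
      exact surjective_pow' _ hiA.2.2.1 hn
    exact Surjective.of_comp z.left w.left
  · let q : TC ⟶ TC := (𝟙 TC : TC ⟶ TC) ^ n
    haveI : IsFinite q.left :=
      Groth.Agent.Lib.MTExt.isFinite_pow (GmFibre.isMultTypeFT_of_isTorus hiC.2.2.1) hn
    haveI : IsAffineHom TA.hom := Basic.isAffineHom_of_isTorus hiA.2.2.1
    haveI : IsClosedImmersion η[TA].left := by
      haveI : IsClosedImmersion (η[TA].left ≫ TA.hom) := by rw [Over.w]; exact inferInstanceAs (IsClosedImmersion (𝟙 _))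
      exact IsClosedImmersion.of_comp η[TA].left TA.hom
    have sq : IsPullback i.left (toUnit N).left w.left η[TA].left := hN.map (Over.forget _)
    haveI : IsClosedImmersion i.left :=
      MorphismProperty.of_isPullback (P := @IsClosedImmersion) sq.flip inferInstance
    have hiw : i ≫ w = toUnit N ≫ η[TA] := hN.w
    haveI : IsMonHom z := HomDS.isMonHom_of_points z fun X x y => by
      rw [← cancel_mono iC, MonObj.mul_comp _ _ iC, Category.assoc, Category.assoc, Category.assoc, hz,
        MonObj.mul_comp]
    have hiq : i.left ≫ q.left = N.hom ≫ η[TC].left := by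
      have h : i ≫ q = toUnit N ≫ η[TC] := by
        rw [show q = w ≫ z from hwz.symm, ← Category.assoc, hiw, Category.assoc, IsMonHom.one_hom z]
      have h' := congrArg (fun m => m.left) h
      simp only [Over.comp_left] at h'
      rw [h']
      congr 1
    haveI : IsSeparated TC.hom := by
      haveI := Basic.isAffineHom_of_isTorus hiC.2.2.1
      infer_instance
    haveI : IsClosedImmersion η[TC].left := by
      haveI : IsClosedImmersion (η[TC].left ≫ TC.hom) := by rw [Over.w]; exact inferInstanceAs (IsClosedImmersion (𝟙 _))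
      exact IsClosedImmersion.of_comp η[TC].left TC.hom
    haveI : IsFinite (N.hom ≫ η[TC].left) := by rw [← hiq]; infer_instance
    exact IsFinite.of_comp N.hom η[TC].left

end Groth.Agent.S8715
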