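import Groth.Statements.S8716
import Groth.Agent.Lib.ConstRigid.Basic

set_option autoImplicit false
universe u
open CategoryTheory CategoryTheory.Limits MonoidalCategory CartesianMonoidalCategory MonObj AlgebraicGeometry
open SGA7

namespace Groth.Agent.S8716

/-- Let k be a field, Z a commutative group without non-trivial elements of finite order, P a
commutative k-group scheme of finite type (so that its group of connected components is a finite,
hence torsion, group), G the constant k-group scheme Z_k (through the isomorphism eG), and u : G →
E, v : E → P homomorphisms of commutative k-group schemes forming a sequence 1 → G → E → P → 1 exact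
for the fppf topology. Then the extension is rigid: every automorphism of the k-group scheme E
compatible with u and v is the identity. (The published statement assumes only P locally of finite
type with torsion component group; this row takes P of finite type, the case it names.) -/
theorem result (k : Type u) [Field k]
    (Z : Type u) [CommGroup Z] (hZ : ∀ z : Z, IsOfFinOrder z → z = 1)
    (P E G : Over (Spec (CommRingCat.of k))) [GrpObj P] [GrpObj E] [GrpObj G]
    [IsCommMonObj P] [IsCommMonObj E]
    [LocallyOfFiniteType P.hom] [QuasiCompact P.hom]
    (eG : G ≅ TwC.const (Spec (CommRingCat.of k)) Z) (hG : TwC.IsConstGrp Z G eG)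
    (u : G ⟶ E) (v : E ⟶ P) (hex : NonAbH1.IsExactSeq Scheme.fppfPrecoverage u v)
    (φ : E ≅ E) [IsMonHom φ.hom] (hφu : u ≫ φ.hom = u) (hφv : φ.hom ≫ v = v) :
    φ.hom = 𝟙 E := by
  haveI : CompactSpace ↥P.left := QuasiCompact.compactSpace_of_compactSpace P.hom
  refine Groth.Agent.Lib.ConstRigid.rigid u v hex (fun c hc h1 => ?_) φ.hom hφu hφv
  exact Groth.Agent.Lib.ConstRigid.hom_eq_one (Z := Z) hG hZ c hc h1

end Groth.Agent.S8716
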