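import Groth.Statements.S8719
import Groth.Agent.H61.PSFilt

set_option autoImplicit false
universe u
open VanCyc MvPowerSeries Groth.Agent.H61.PSFilt

namespace Groth.Agent.S8719

/-- The formal computation carried out in its proof: let k be a field and f a power series in k[[x_0,
..., x_n]] with vanishing constant and linear terms whose degree-two part is a non-degenerate
quadratic form (the Gram determinant of its polar bilinear form is a unit). Then the partial
derivatives of f generate the maximal ideal of k[[x_0, ..., x_n]] (so f together with its partial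
derivatives cut out the origin with multiplicity one). -/
theorem result (k : Type u) [Field k] (n : ℕ)
    (f : MvPowerSeries (Fin (n + 1)) k) (hf : VanCyc.NondegQuadSeries f) :
    Ideal.span (Set.range fun i : Fin (n + 1) => MvPowerSeries.pderiv k i f) =
      IsLocalRing.maximalIdeal (MvPowerSeries (Fin (n + 1)) k) := by
  classical
  have hmax : IsLocalRing.maximalIdeal (MvPowerSeries (Fin (n + 1)) k) = XI (Fin (n + 1)) k := by
    ext g
    rw [IsLocalRing.mem_maximalIdeal, mem_nonunits_iff, mem_iff_constantCoeff,
      isUnit_iff_constantCoeff, isUnit_iff_ne_zero, not_not]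
  obtain ⟨⟨h0, h1⟩, hdet⟩ := hf
  set M := polarMatrix (quadPart f) with hM
  set J := Ideal.span (Set.range fun i : Fin (n + 1) => MvPowerSeries.pderiv k i f)
  have hlin : ∀ i, MvPowerSeries.pderiv k i f - ∑ j, C (M i j) * X j ∈ XI (Fin (n + 1)) k ^ 2 := by
    intro i
    rw [mem_sq_iff]
    refine ⟨?_, fun l => ?_⟩
    · rw [map_sub, ← coeff_zero_eq_constantCoeff_apply, coeff_pderiv, zero_add, h1 i]
      simp
    · rw [map_sub, coeff_pderiv, map_sum]
      simp only [coeff_C_mul, coeff_index_single_X, mul_ite, mul_one, mul_zero, Finset.sum_ite_eq,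
        Finset.mem_univ, if_true]
      rw [sub_eq_zero, hM, polarMatrix]
      rcases eq_or_ne i l with rfl | hil
      · simp [quadPart, Finsupp.single_add, ← Finsupp.single_add, mul_comm]
        norm_num
      · rcases lt_or_gt_of_ne hil with h | h
        · simp [quadPart, hil, h, h.ne, hil.symm, add_comm]
        · simp [quadPart, hil, h, h.ne, hil.symm, h.not_gt]
  apply le_antisymm
  · rw [hmax, Ideal.span_le]
    rintro _ ⟨i, rfl⟩
    rw [SetLike.mem_coe, mem_iff_constantCoeff, ← coeff_zero_eq_constantCoeff_apply, coeff_pderiv,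
      zero_add, h1 i, zero_mul]
  · rw [hmax]
    refine Submodule.le_of_le_smul_of_le_jacobson_bot (Submodule.fg_span (Set.finite_range _))
      ((IsLocalRing.jacobson_eq_maximalIdeal (⊥ : Ideal (MvPowerSeries (Fin (n + 1)) k)) bot_ne_top).symm ▸ hmax.symm.le) ?_
    rw [smul_eq_mul, ← pow_two, Ideal.span_le]
    rintro _ ⟨l, rfl⟩
    have h2 : ∑ i, C (M⁻¹ l i) * (∑ j, C (M i j) * X j) = (X l : MvPowerSeries (Fin (n + 1)) k) := by
      simp only [Finset.mul_sum, ← mul_assoc, ← map_mul]
      rw [Finset.sum_comm]
      simp only [← Finset.sum_mul, ← map_sum, ← Matrix.mul_apply, Matrix.nonsing_inv_mul M hdet]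
      simp [Matrix.one_apply]
    rw [SetLike.mem_coe, ← h2]
    refine Ideal.sum_mem _ fun i _ => Ideal.mul_mem_left _ _ ?_
    rw [← sub_sub_cancel (MvPowerSeries.pderiv k i f) (∑ j, C (M i j) * X j)]
    exact Ideal.sub_mem _ (Ideal.mem_sup_left (Ideal.subset_span ⟨i, rfl⟩))
      (Ideal.mem_sup_right (hlin i))

end Groth.Agent.S8719
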