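import Groth.Statements.S8720
import Groth.Agent.H61.PSFilt

set_option autoImplicit false
universe u
open VanCyc MvPowerSeries Groth.Agent.H61.PSFilt

namespace Groth.Agent.S8720

/-- The formal computation carried out in its proof: let k be a field of characteristic 2, m a natural
number, and f a power series over k in the variables x_0 and x_i, x_i' (i = 1, ..., m) whose terms
of degree less than 3 are exactly those of x_0^2 + x_1 x_1' + ... + x_m x_m'. Then the ideal
generated by f and all its partial derivatives is the ideal generated by x_0^2 and the x_i, x_i',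
and the quotient of the power series ring by this ideal is two-dimensional over k. (Characteristic 2
is what makes the derivative in x_0 lose its linear term.) -/
theorem result (k : Type u) [Field k] [CharP k 2] (m : ℕ)
    (f : MvPowerSeries (Option (Fin m ⊕ Fin m)) k)
    (hf : ∀ d : Option (Fin m ⊕ Fin m) →₀ ℕ, d.degree < 3 →
      MvPowerSeries.coeff d f = MvPowerSeries.coeff d
        (MvPowerSeries.X none ^ 2 +
          ∑ i : Fin m, MvPowerSeries.X (some (Sum.inl i)) * MvPowerSeries.X (some (Sum.inr i)))) :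
    Ideal.span ({f} ∪ Set.range fun i : Option (Fin m ⊕ Fin m) => MvPowerSeries.pderiv k i f) =
      Ideal.span ({MvPowerSeries.X none ^ 2} ∪
        Set.range fun j : Fin m ⊕ Fin m => (MvPowerSeries.X (some j) : MvPowerSeries (Option (Fin m ⊕ Fin m)) k)) ∧
    Module.finrank k (MvPowerSeries (Option (Fin m ⊕ Fin m)) k ⧸
      Ideal.span ({MvPowerSeries.X none ^ 2} ∪
        Set.range fun j : Fin m ⊕ Fin m => (MvPowerSeries.X (some j) : MvPowerSeries (Option (Fin m ⊕ Fin m)) k))) = 2 := by
  classical
  set K := Ideal.span ({X none ^ 2} ∪ Set.range fun j : Fin m ⊕ Fin m =>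
    (X (some j) : MvPowerSeries (Option (Fin m ⊕ Fin m)) k)) with hK
  set J := Ideal.span ({f} ∪ Set.range fun i : Option (Fin m ⊕ Fin m) => MvPowerSeries.pderiv k i f)
  set 𝔪 := XI (Option (Fin m ⊕ Fin m)) k
  set Q : MvPowerSeries (Option (Fin m ⊕ Fin m)) k :=
    X none ^ 2 + ∑ i : Fin m, X (some (Sum.inl i)) * X (some (Sum.inr i)) with hQ
  have hXm : ∀ i, (X i : MvPowerSeries (Option (Fin m ⊕ Fin m)) k) ∈ 𝔪 := fun i =>
    Ideal.subset_span ⟨i, rfl⟩
  have hsome : ∀ j, (X (some j) : MvPowerSeries (Option (Fin m ⊕ Fin m)) k) ∈ K := fun j =>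
    Ideal.subset_span (Or.inr ⟨j, rfl⟩)
  have hsq : (X none : MvPowerSeries (Option (Fin m ⊕ Fin m)) k) ^ 2 ∈ K := Ideal.subset_span (Or.inl rfl)
  -- the linear map whose kernel is `K`
  let ev : MvPowerSeries (Option (Fin m ⊕ Fin m)) k →ₗ[k] (Fin 2 → k) :=
    LinearMap.pi ![coeff 0, coeff (Finsupp.single none 1)]
  have hev : ∀ g, ev g = 0 ↔ constantCoeff g = 0 ∧ coeff (Finsupp.single none 1) g = 0 := by
    intro g
    simp [ev, funext_iff, Fin.forall_fin_two]
  have hlinmul : ∀ (a b : MvPowerSeries (Option (Fin m ⊕ Fin m)) k) i,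
      coeff (Finsupp.single i 1) (a * b) =
        constantCoeff a * coeff (Finsupp.single i 1) b + coeff (Finsupp.single i 1) a * constantCoeff b := by
    intro a b i
    rw [coeff_mul, Finsupp.antidiagonal_single]
    simp [Finset.Nat.sum_antidiagonal_succ, Finset.sum_map]
  have hm2 : 𝔪 ^ 2 ≤ K := by
    rw [pow_two, Ideal.span_mul_span', Ideal.span_le]
    rintro _ ⟨_, ⟨a, rfl⟩, _, ⟨b, rfl⟩, rfl⟩
    rcases a with _ | a
    · rcases b with _ | b
      · simpa [pow_two] using hsq
      · exact Ideal.mul_mem_left _ _ (hsome b)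
    · exact Ideal.mul_mem_right _ _ (hsome a)
  have hker : ∀ g, g ∈ K ↔ ev g = 0 := by
    intro g
    refine ⟨fun hg => ?_, fun hg => ?_⟩
    · induction hg using Submodule.span_induction with
      | mem x hx =>
        rw [hev]
        rcases hx with rfl | ⟨j, rfl⟩
        · refine ⟨by simp, ?_⟩
          rw [pow_two, hlinmul]; simp
        · exact ⟨by simp, by simp [coeff_index_single_X]⟩
      | zero => simp
      | add x y _ _ hx hy => rw [map_add, hx, hy, add_zero]
      | smul c x _ hx =>
        rw [hev] at hx ⊢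
        exact ⟨by simp [hx.1], by rw [smul_eq_mul, hlinmul, hx.1, hx.2]; simp⟩
    · rw [hev] at hg
      have : g - ∑ j, C (coeff (Finsupp.single (some j) 1) g) * X (some j) ∈ K := by
        refine hm2 (mem_sq_iff.mpr ⟨by simp [hg.1], fun i => ?_⟩)
        rcases i with _ | i
        · simp [map_sum, coeff_C_mul, coeff_index_single_X, hg.2]
        · rcases i with i | i <;> simp [map_sum, coeff_C_mul, coeff_index_single_X]
      simpa using Ideal.add_mem _ this (Ideal.sum_mem K fun j (_ : j ∈ Finset.univ) =>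
        Ideal.mul_mem_left _ (C (coeff (Finsupp.single (some j) 1) g)) (hsome j))
  refine ⟨?_, ?_⟩
  · have hlin : ∀ i, MvPowerSeries.pderiv k i f -
        (Option.elim i 0 fun j => X (some j.swap)) ∈ 𝔪 ^ 2 := by
      intro i
      rw [mem_sq_iff]
      refine ⟨?_, fun l => ?_⟩
      · rw [map_sub, ← coeff_zero_eq_constantCoeff_apply, coeff_pderiv, zero_add,
          hf _ (by simp)]
        rcases i with _ | i <;> simp [hQ, pow_two, hlinmul, coeff_index_single_X, map_sum]
      · rw [map_sub, coeff_pderiv, hf _ (by simp [map_add]), ← coeff_pderiv (R := k), map_add,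
          map_add, map_sum, map_sum]
        rcases i with _ | i | i <;>
          simp [pow_two, Derivation.leibniz, pderiv_X, smul_eq_mul, coeff_index_single_X,
            CharTwo.add_self_eq_zero, hlinmul, Pi.single_apply, hQ, apply_ite (coeff _), eq_comm]
    have hJK : J ≤ K := by
      rw [Ideal.span_le]
      rintro x (rfl | ⟨i, rfl⟩)
      · exact hm2 (mem_sq_iff.mpr ⟨by rw [← coeff_zero_eq_constantCoeff_apply, hf 0 (by simp)]; simp [hQ],
          fun i => by rw [hf _ (by simp)]; simp [hQ, pow_two, hlinmul, map_sum]⟩)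
      · have h := hm2 (hlin i)
        rcases i with _ | j
        · simpa using h
        · simpa using Ideal.add_mem _ h (hsome j.swap)
    refine le_antisymm hJK (Submodule.le_of_le_smul_of_le_jacobson_bot (I := 𝔪)
      (Submodule.fg_span ((Set.finite_singleton _).union (Set.finite_range _))) ?_ ?_)
    · rw [IsLocalRing.jacobson_eq_maximalIdeal (⊥ : Ideal (MvPowerSeries _ k)) bot_ne_top]
      intro g hg
      rw [IsLocalRing.mem_maximalIdeal, mem_nonunits_iff, isUnit_iff_constantCoeff,
        mem_iff_constantCoeff.mp hg]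
      exact not_isUnit_zero
    · rw [smul_eq_mul]
      have h3 : 𝔪 ^ 3 ≤ 𝔪 * K := by rw [pow_succ']; exact Ideal.mul_mono le_rfl hm2
      have hsq' : X none ^ 2 ∈ J ⊔ 𝔪 * K := by
        have h : f - Q ∈ 𝔪 ^ 3 := mem_iff.mpr fun e he => by rw [map_sub, hf e he, sub_self]
        have hs : ∑ i : Fin m, X (some (Sum.inl i)) * X (some (Sum.inr i)) ∈ J ⊔ 𝔪 * K :=
          Ideal.sum_mem _ fun i _ => Ideal.mem_sup_right (Ideal.mul_mem_mul (hXm _) (hsome _))
        have hfJ : f ∈ J ⊔ 𝔪 * K := Ideal.mem_sup_left (Ideal.subset_span (Or.inl rfl))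
        convert Ideal.sub_mem _ (Ideal.sub_mem _ hfJ (Ideal.mem_sup_right (h3 h))) hs using 1
        rw [hQ]; ring
      have h2 : 𝔪 ^ 2 ≤ J ⊔ 𝔪 * K := by
        rw [pow_two, Ideal.span_mul_span', Ideal.span_le]
        rintro _ ⟨_, ⟨a, rfl⟩, _, ⟨b, rfl⟩, rfl⟩
        rcases a with _ | a
        · rcases b with _ | b
          · simpa [pow_two] using hsq'
          · exact Ideal.mem_sup_right (Ideal.mul_mem_mul (hXm _) (hsome b))
        · show X (some a) * X b ∈ _
          rw [mul_comm (X (some a))]
          exact Ideal.mem_sup_right (Ideal.mul_mem_mul (hXm _) (hsome a))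
      conv_lhs => rw [hK]
      rw [Ideal.span_le]
      rintro x (rfl | ⟨j, rfl⟩)
      · exact hsq'
      · have hd : MvPowerSeries.pderiv k (some j.swap) f ∈ J ⊔ 𝔪 * K :=
          Ideal.mem_sup_left (Ideal.subset_span (Or.inr ⟨_, rfl⟩))
        simpa using Ideal.sub_mem _ hd (h2 (hlin (some j.swap)))
  · have e : (MvPowerSeries (Option (Fin m ⊕ Fin m)) k ⧸ (K.restrictScalars k)) ≃ₗ[k] (Fin 2 → k) :=
      (Submodule.quotEquivOfEq _ _ (by ext g; exact hker g)).trans
        (ev.quotKerEquivOfSurjective fun v => ⟨C (v 0) + C (v 1) * X none, by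
          funext i; fin_cases i <;> simp [ev, coeff_C, coeff_index_single_X, coeff_C_mul]⟩)
    exact ((Submodule.Quotient.restrictScalarsEquiv k K).symm.trans e).finrank_eq.trans (by simp)

end Groth.Agent.S8720
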