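import Groth.Statements.S8723
import Groth.Agent.Lib.ModelFibre.ExistsComponents
import Groth.Agent.Lib.ModelFibre.GeomFibre
import Groth.Agent.Lib.ModelFibre.RedFibre
import Groth.Agent.Lib.ModelFibre.DivisorChain
import Groth.Agent.Lib.Cyc.TorPD
-- import your own Groth.Agent.* helpers here

set_option autoImplicit false
universe u
open CategoryTheory CategoryTheory.Limits AlgebraicGeometry
open ArSurf

namespace Groth.Agent.S8723
open Groth.Agent.Lib.ModelFibre Groth.Agent.Lib IsLocalRing

/-- Let R be a discrete valuation ring with residue field k and X an integral regular scheme of Krull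
dimension 2, proper and flat over Spec R by f (a regular proper flat model whose fibres are curves).
Write X_s for the special fibre and X_sbar for its base change to an algebraic closure of k. Assume
that X_s is geometrically connected (its base change to every field extension of k is connected) and
that the multiplicities of the irreducible components of X_sbar, i.e. the lengths of the local rings
of X_sbar at its maximal points, have greatest common divisor 1 (no prime divides all of them). Then
the canonical map k -> H^0(X_s, O_{X_s}) is bijective (X is cohomologically flat over R in degree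
0). -/
theorem result (R : Type u) [CommRing R] [IsDomain R]
    [IsDiscreteValuationRing R] {X : Scheme.{u}} (f : X ⟶ Spec (CommRingCat.of R)) [IsProper f] [Flat f]
    [IsIntegral X] (hreg : ∀ x : X, IsRegularLocalRing (X.presheaf.stalk x))
    (hdim : topologicalKrullDim X = 2)
    (hconn : ∀ (K : Type u) [Field K] [Algebra (IsLocalRing.ResidueField R) K],
      ConnectedSpace ↥(pullback f (Spec.map (CommRingCat.ofHom
        ((algebraMap (IsLocalRing.ResidueField R) K).comp (IsLocalRing.residue R))))))
    (hd : letI Xb := pullback f (Spec.map (CommRingCat.ofHom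
        ((algebraMap (IsLocalRing.ResidueField R) (AlgebraicClosure (IsLocalRing.ResidueField R))).comp
          (IsLocalRing.residue R))))
      ∀ ℓ : ℕ, ℓ.Prime → ∃ x : ↥Xb, (∀ y : ↥Xb, y ⤳ x → y = x) ∧
        ¬ (ℓ ∣ (Module.length (Xb.presheaf.stalk x) (Xb.presheaf.stalk x)).toNat)) :
    Function.Bijective
      (pullback.snd f (Spec.map (CommRingCat.ofHom (IsLocalRing.residue R)))).appTop.hom := by
  let k := ResidueField R
  let kb := AlgebraicClosure k
  have hS : Inter.IsSurf (Over.mk f) :=
    ⟨inferInstanceAs (IsIntegral X), inferInstanceAs (IsProper f), inferInstanceAs (Flat f), hreg,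
      fun z => (Cyc.TorPD.ringKrullDim_stalk_le (X := X) z).trans hdim.le⟩
  obtain ⟨n, Γ, hΓ⟩ := ExistsComponents.exists_isComponentList hS hdim
  let rr := Spec.map (CommRingCat.ofHom (residue R))
  haveI : IsClosedImmersion rr := IsClosedImmersion.spec_of_surjective _ residue_surjective
  let Xs := pullback f rr
  let ιs : Xs ⟶ X := pullback.fst f rr
  let fs : Xs ⟶ Spec (CommRingCat.of k) := pullback.snd f rr
  let sk := Spec.map (CommRingCat.ofHom (algebraMap k kb))
  let Xb := pullback f (Spec.map (CommRingCat.ofHom ((algebraMap k kb).comp (residue R))))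
  have hcomp : Spec.map (CommRingCat.ofHom ((algebraMap k kb).comp (residue R))) = sk ≫ rr := by
    rw [← Spec.map_comp]; rfl
  let P : Xb ⟶ Xs := pullback.lift (pullback.fst _ _) (pullback.snd _ _ ≫ sk) (by
    rw [Category.assoc, ← hcomp]; exact pullback.condition)
  have hpb : IsPullback P (pullback.snd _ _) fs sk := by
    refine IsPullback.of_right ?_ (pullback.lift_snd _ _ _) (IsPullback.of_hasPullback f rr)
    rw [pullback.lift_fst]
    exact hcomp ▸ IsPullback.of_hasPullback f _
  haveI : Flat sk := FibreDeg.Basic.flat_of_field sk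
  haveI : Flat P := MorphismProperty.of_isPullback hpb.flip inferInstance
  haveI : ConnectedSpace Xb := hconn kb
  haveI : Nonempty Xs := ⟨P (Classical.arbitrary Xb)⟩
  have hrange : Set.range ιs = Models.specialFibreSet R (Over.mk f) := by
    rw [Scheme.Pullback.range_fst]
    refine congrArg (fun S => f ⁻¹' S) (Set.Subset.antisymm ?_ ?_)
    · rintro _ ⟨z, rfl⟩
      exact IsLocalRing.PrimeSpectrum.comap_residue R z
    · rintro _ rfl
      exact ⟨closedPoint _, IsLocalRing.PrimeSpectrum.comap_residue R _⟩
  haveI : IsClosedImmersion ιs := inferInstanceAs (IsClosedImmersion (pullback.fst f rr))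
  have hcov : ∀ x ∈ Models.specialFibreSet R (Over.mk f), ∃ i, x ∈ Set.range ((Γ i).ι.base : (Γ i).curve.left → X) :=
    fun x hx => ConnFibre.mem_component Γ hΓ x hx
  haveI : ConnectedSpace Xs := by
    haveI : Surjective sk := ⟨fun z => ⟨closedPoint kb, Subsingleton.elim (α := PrimeSpectrum k) _ _⟩⟩
    haveI : Surjective P := MorphismProperty.of_isPullback hpb.flip inferInstance
    exact P.surjective.connectedSpace P.continuous
  have hconn' : _root_.IsPreconnected (Models.specialFibreSet R (Over.mk f)) :=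
    hrange ▸ isPreconnected_range ιs.continuous
  have hn : 0 < n := by
    obtain ⟨i, -⟩ := hcov (ιs (Classical.arbitrary Xs)) (hrange.subset ⟨_, rfl⟩)
    exact i.pos
  have hgcd : Finset.univ.gcd (fun i => Models.mult R (Over.mk f) (Γ i)) = 1 := by
    by_contra hne
    obtain ⟨ℓ, hℓ, hdvd⟩ := Nat.exists_prime_and_dvd hne
    obtain ⟨x, hx, hx'⟩ := hd ℓ hℓ
    refine hx' (GeomFibre.dvd_length P x ?_)
    have hmax := GeomFibre.isMax_map P hx
    obtain ⟨i, w, hw⟩ := hcov (ιs (P x)) (hrange.subset ⟨P x, rfl⟩)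
    have hsp : Models.genPtOf R (Over.mk f) (Γ i) ⤳ ιs (P x) := by
      rw [← hw]; exact (genericPoint_specializes w).map (Γ i).ι.continuous
    obtain ⟨z, hz⟩ : Models.genPtOf R (Over.mk f) (Γ i) ∈ Set.range ιs := by
      rw [hrange]
      exact ((hΓ.2 ▸ ⟨i, rfl⟩ : Set.range (Γ i).ι ∈ Models.fibreComponents R (Over.mk f))).1.2 ⟨_, rfl⟩
    rw [← hz] at hsp
    have hzx := hmax z (ιs.isEmbedding.isInducing.specializes_iff.mp hsp)
    subst hzx
    have hlen : Module.length (Xs.presheaf.stalk (P x)) (Xs.presheaf.stalk (P x)) =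
        Module.length (X.presheaf.stalk (ιs (P x))) (X.presheaf.stalk (ιs (P x)) ⧸
          (maximalIdeal R).map (Stalk.baseHom f (ιs (P x)))) := by
      refine (Cyc.CH.BCLen.length_eq_of_ringEquiv ((Ideal.quotEquivOfEq (by rw [IsLocalRing.ker_residue])).trans
        (Stalk.quotientEquiv (residue R) residue_surjective (IsPullback.of_hasPullback f rr) (P x)))).symm.trans
        (Module.length_eq_of_surjective Ideal.Quotient.mk_surjective).symm
    have hm : Models.mult R (Over.mk f) (Γ i) =
        (Module.length (Xs.presheaf.stalk (P x)) (Xs.presheaf.stalk (P x))).toNat := by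
      rw [hlen, hz]
      rfl
    rw [← hm]
    exact hdvd.trans (Finset.gcd_dvd (Finset.mem_univ i))
  have hF := DivisorField.isField hS Γ hΓ hcov hconn' hn (fun l => InterForm.mult_pos hS (Γ l))
    ⟨1, fun l => (one_mul _).symm⟩ hgcd
  have hfin := DivisorChain.finite_ringHom hS Γ (fun l => Models.mult R (Over.mk f) (Γ l))
  have hker : ιs.ker = DivisorField.div Γ (fun l => Models.mult R (Over.mk f) (Γ l)) := by
    refine Eq.trans ?_ (RedFibre.specialFibreIdeal_eq hS Γ hΓ)
    show (pullback.fst f rr).ker = (Curv2.idealSheaf R (maximalIdeal R)).comap f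
    rw [Scheme.IdealSheafData.ker_fst_of_isClosedImmersion]
    congr 1
    rw [Scheme.ker_of_isAffine]
    show Scheme.IdealSheafData.ofIdealTop _ = Scheme.IdealSheafData.ofIdealTop _
    congr 1
    ext a
    obtain ⟨c, rfl⟩ := (Scheme.ΓSpecIso (CommRingCat.of R)).commRingCatIsoToRingEquiv.symm.surjective a
    rw [RingHom.mem_ker]
    have hnat : rr.appTop.hom ((Scheme.ΓSpecIso (CommRingCat.of R)).inv.hom c) =
        (Scheme.ΓSpecIso (CommRingCat.of k)).inv.hom (residue R c) :=
      (congr($(Scheme.ΓSpecIso_inv_naturality (CommRingCat.ofHom (residue R))) c)).symm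
    show rr.appTop.hom ((Scheme.ΓSpecIso (CommRingCat.of R)).inv.hom c) = 0 ↔ _
    rw [hnat, map_eq_zero_iff _ (ConcreteCategory.bijective_of_isIso (Scheme.ΓSpecIso (CommRingCat.of k)).inv).1,
      IsLocalRing.residue_eq_zero_iff]
    refine ⟨fun h => Ideal.mem_map_of_mem _ h, fun h => ?_⟩
    obtain ⟨c', hc', he⟩ := (Ideal.mem_map_iff_of_surjective _
      (ConcreteCategory.bijective_of_isIso (Scheme.ΓSpecIso (CommRingCat.of R)).inv).2).mp h
    rwa [(ConcreteCategory.bijective_of_isIso (Scheme.ΓSpecIso (CommRingCat.of R)).inv).1 he] at hc'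
  rw [← hker] at hF hfin
  let e : Γ(ιs.ker.subscheme, ⊤) ≃+* Γ(Xs, ⊤) :=
    (Scheme.Γ.mapIso (asIso ιs.toImage).op).commRingCatIsoToRingEquiv
  have hF' : IsField Γ(Xs, ⊤) := e.symm.toMulEquiv.isField hF
  let ιk : k →+* Γ(Xs, ⊤) := fs.appTop.hom.comp (Scheme.ΓSpecIso (CommRingCat.of k)).inv.hom
  have hfinR : (ιk.comp (residue R)).Finite := by
    have h2 : ιk.comp (residue R) = e.toRingHom.comp ((ιs.ker.subschemeι ≫ f).appTop.hom.comp
        (Scheme.ΓSpecIso (CommRingCat.of R)).inv.hom) := by
      refine RingHom.ext fun a => ?_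
      show fs.appTop.hom ((Scheme.ΓSpecIso (CommRingCat.of k)).inv.hom (residue R a)) =
        ιs.toImage.appTop.hom ((ιs.ker.subschemeι ≫ f).appTop.hom ((Scheme.ΓSpecIso (CommRingCat.of R)).inv.hom a))
      have hnat : rr.appTop.hom ((Scheme.ΓSpecIso (CommRingCat.of R)).inv.hom a) =
          (Scheme.ΓSpecIso (CommRingCat.of k)).inv.hom (residue R a) :=
        (congr($(Scheme.ΓSpecIso_inv_naturality (CommRingCat.ofHom (residue R))) a)).symm
      rw [← hnat]
      show (fs ≫ rr).appTop.hom _ = (ιs.toImage ≫ ιs.ker.subschemeι ≫ f).appTop.hom _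
      rw [Scheme.Hom.toImage_imageι_assoc, show ιs ≫ f = fs ≫ rr from pullback.condition]
    rw [h2]
    exact (RingHom.Finite.of_surjective e.toRingHom e.surjective).comp hfin
  letI : Field Γ(Xs, ⊤) := hF'.toField
  letI : Algebra k Γ(Xs, ⊤) := ιk.toAlgebra
  haveI : Module.Finite k Γ(Xs, ⊤) := RingHom.Finite.of_comp_finite (f := residue R) (g := ιk) hfinR
  have hh : Xs.toSpecΓ ≫ Spec.map (CommRingCat.ofHom (algebraMap k Γ(Xs, ⊤))) = fs := by
    show Xs.toSpecΓ ≫ Spec.map ((Scheme.ΓSpecIso (CommRingCat.of k)).inv ≫ fs.appTop) = fs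
    rw [Spec.map_comp, ← Scheme.toSpecΓ_naturality_assoc, toSpecΓ_SpecMap_ΓSpecIso_inv, Category.comp_id]
  have hsurj : Function.Surjective ιk := by
    by_contra hns
    obtain ⟨ℓ, hℓ, hall⟩ := GeomFibre.exists_prime_dvd (K := kb) fs Xs.toSpecΓ hh P _ hpb hns
    obtain ⟨x, -, hx'⟩ := hd ℓ hℓ
    exact hx' (hall x)
  have hinv := ConcreteCategory.bijective_of_isIso (Scheme.ΓSpecIso (CommRingCat.of k)).inv
  exact (Function.Bijective.of_comp_iff _ hinv).1 ⟨ιk.injective, hsurj⟩

end Groth.Agent.S8723
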