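import Groth.Statements.S8724
import Mathlib.Data.Nat.Choose.Sum
import Mathlib.Tactic.LinearCombination


set_option autoImplicit false
open LefPen

namespace Groth.Agent.S8724

/-- The algebraic identity established in its proof: let a >= 1 and work in Z[y, z]. Then (1+y)^(a-1) -
(1+z)^(a-1) = (y - z) * (sum over i, j >= 0 with i + j + 1 <= a - 1 of C(a-1, i+j+1) y^i z^j), and
(1+y)^a z - (1+z)^a y = (y - z) * (-1 + sum over i, j >= 1 with i + j <= a of C(a, i+j) y^i z^j).
Consequently the rational function -((1+y)^(a-1) - (1+z)^(a-1)) / ((1+y)^a z - (1+z)^a y), the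
generating series of the primitive middle Hodge numbers of smooth hypersurfaces of degree a, equals
(sum_{i,j >= 0} C(a-1, i+j+1) y^i z^j) / (1 - sum_{i,j >= 1} C(a, i+j) y^i z^j). -/
theorem result (a : ℕ) (ha : 1 ≤ a) :
    let y : MvPolynomial (Fin 2) ℤ := MvPolynomial.X 0
    let z : MvPolynomial (Fin 2) ℤ := MvPolynomial.X 1
    ((1 + y) ^ (a - 1) - (1 + z) ^ (a - 1) =
      (y - z) * ∑ i ∈ Finset.range a, ∑ j ∈ Finset.range a,
        if i + j + 1 ≤ a - 1 then ((a - 1).choose (i + j + 1) : MvPolynomial (Fin 2) ℤ) * y ^ i * z ^ j else 0) ∧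
    ((1 + y) ^ a * z - (1 + z) ^ a * y =
      (y - z) * (-1 + ∑ i ∈ Finset.range (a + 1), ∑ j ∈ Finset.range (a + 1),
        if 1 ≤ i ∧ 1 ≤ j ∧ i + j ≤ a then (a.choose (i + j) : MvPolynomial (Fin 2) ℤ) * y ^ i * z ^ j else 0)) := by
  intro y z
  have tele : ∀ (c : ℕ → MvPolynomial (Fin 2) ℤ) (N : ℕ), (∀ k, N ≤ k → c k = 0) →
      (y - z) * (∑ i ∈ Finset.range N, ∑ j ∈ Finset.range N, c (i + j + 1) * y ^ i * z ^ j) =
        (∑ i ∈ Finset.range N, c i * y ^ i) - ∑ j ∈ Finset.range N, c j * z ^ j := by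
    intro c N hc
    let T : ℕ → ℕ → MvPolynomial (Fin 2) ℤ := fun i j => c (i + j) * y ^ i * z ^ j
    have hT : ∀ i j, N ≤ i + j → T i j = 0 := fun i j h => by simp [T, hc _ h]
    have h1 : (y - z) * (∑ i ∈ Finset.range N, ∑ j ∈ Finset.range N, c (i + j + 1) * y ^ i * z ^ j) =
        (∑ i ∈ Finset.range N, ∑ j ∈ Finset.range N, T (i + 1) j) -
          ∑ i ∈ Finset.range N, ∑ j ∈ Finset.range N, T i (j + 1) := by
      rw [Finset.mul_sum, ← Finset.sum_sub_distrib]
      refine Finset.sum_congr rfl fun i _ => ?_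
      rw [Finset.mul_sum, ← Finset.sum_sub_distrib]
      refine Finset.sum_congr rfl fun j _ => ?_
      simp only [T]
      rw [show i + 1 + j = i + j + 1 by omega, show i + (j + 1) = i + j + 1 by omega]
      ring
    have h2 : ∀ (f : ℕ → MvPolynomial (Fin 2) ℤ), f N = 0 →
        ∑ i ∈ Finset.range N, f (i + 1) = (∑ i ∈ Finset.range N, f i) - f 0 := fun f hf => by
      have ha := Finset.sum_range_succ' f N
      rw [Finset.sum_range_succ, hf, add_zero] at ha
      rw [ha]; ring
    rw [h1, h2 (fun i => ∑ j ∈ Finset.range N, T i j) (Finset.sum_eq_zero fun j _ => hT _ _ (by omega)),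
      show (∑ i ∈ Finset.range N, ∑ j ∈ Finset.range N, T i (j + 1)) =
        ∑ i ∈ Finset.range N, ((∑ j ∈ Finset.range N, T i j) - T i 0) from
        Finset.sum_congr rfl fun i _ => h2 (T i) (hT _ _ (by omega)), Finset.sum_sub_distrib]
    simp only [T, zero_add, add_zero, pow_zero, mul_one]
    ring
  have bin : ∀ (n N : ℕ) (w : MvPolynomial (Fin 2) ℤ), n < N →
      ∑ i ∈ Finset.range N, (n.choose i : MvPolynomial (Fin 2) ℤ) * w ^ i = (1 + w) ^ n := by
    intro n N w h
    rw [← Finset.sum_subset (Finset.range_mono h) (fun i _ hi => by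
      rw [Nat.choose_eq_zero_of_lt (by simp only [Finset.mem_range, not_lt] at hi; omega)]; simp), add_comm 1 w, add_pow]
    refine Finset.sum_congr rfl fun i _ => ?_
    simp [mul_comm]
  constructor
  · have h := tele (fun k => ((a - 1).choose k : MvPolynomial (Fin 2) ℤ)) a (fun k hk => by
      rw [Nat.choose_eq_zero_of_lt (by omega)]; simp)
    rw [bin _ _ _ (by omega), bin _ _ _ (by omega)] at h
    rw [← h]
    congr 1
    refine Finset.sum_congr rfl fun i _ => Finset.sum_congr rfl fun j _ => ?_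
    split_ifs with hij
    · rfl
    · rw [Nat.choose_eq_zero_of_lt (by omega)]; simp
  · have h := tele (fun k => (a.choose (k + 1) : MvPolynomial (Fin 2) ℤ)) a (fun k hk => by
      rw [Nat.choose_eq_zero_of_lt (by omega)]; simp)
    have hz : ∀ w : MvPolynomial (Fin 2) ℤ, w * (∑ i ∈ Finset.range a, (a.choose (i + 1) : MvPolynomial (Fin 2) ℤ) * w ^ i) = (1 + w) ^ a - 1 := fun w => by
      rw [← bin a (a + 1) w (by omega), Finset.sum_range_succ', Finset.mul_sum]
      simp only [pow_succ, Nat.choose_zero_right, Nat.cast_one, pow_zero, mul_one, add_sub_cancel_right]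
      refine Finset.sum_congr rfl fun i _ => ?_
      ring
    have hW : (∑ i ∈ Finset.range (a + 1), ∑ j ∈ Finset.range (a + 1),
        if 1 ≤ i ∧ 1 ≤ j ∧ i + j ≤ a then (a.choose (i + j) : MvPolynomial (Fin 2) ℤ) * y ^ i * z ^ j else 0) =
        y * z * ∑ i ∈ Finset.range a, ∑ j ∈ Finset.range a, (a.choose (i + j + 1 + 1) : MvPolynomial (Fin 2) ℤ) * y ^ i * z ^ j := by
      rw [Finset.sum_range_succ', Finset.mul_sum]
      simp only [show ¬ (1 ≤ 0) by omega, false_and, if_false, Finset.sum_const_zero, add_zero]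
      refine Finset.sum_congr rfl fun i _ => ?_
      rw [Finset.sum_range_succ', Finset.mul_sum]
      simp only [show ¬ (1 ≤ 0) by omega, false_and, and_false, if_false, add_zero]
      refine Finset.sum_congr rfl fun j _ => ?_
      split_ifs with hij
      · rw [show i + 1 + (j + 1) = i + j + 1 + 1 by omega]; ring
      · rw [Nat.choose_eq_zero_of_lt (by omega)]; simp
    rw [hW]
    linear_combination (-(y * z)) * h + (-z) * hz y + y * hz z


end Groth.Agent.S8724
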