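import Groth.Statements.S8728
import Groth.Agent.Lib.ModelFibre.Inter
import Groth.Agent.Lib.SurfInt.Effective

set_option autoImplicit false
universe u
open CategoryTheory CategoryTheory.Limits AlgebraicGeometry
open ArSurf

namespace Groth.Agent.S8728

/-- For a vertical prime divisor against an effective divisor: let R be a discrete valuation ring, X an
arithmetic surface over Spec R (regular, integral, of dimension 2, flat and projective), Γ a
vertical prime divisor of X over the closed point, E ⊂ X an effective Cartier divisor given by an
ideal sheaf I that is locally generated by a single nonzerodivisor, with Γ not contained in E (the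
generic point of Γ lies outside the support of I), and L an O_X-module with L ⊗ I ≅ O_X (L =
O_X(E)). Then the intersection number (Γ · E) = deg_k(L|_Γ) is nonnegative, and it vanishes if and
only if E and Γ are disjoint. -/
theorem result (R : Type u) [CommRing R] [IsDomain R] [IsDiscreteValuationRing R]
    (X : Over (Spec (CommRingCat.of R))) (hX : ArSurf.IsArithSurface R X) (Γ : ArSurf.VertComp R X)
    (I : X.left.IdealSheafData) (hI : FGA.IsEffCartier I)
    (hΓ : Γ.ι.base (genericPoint ↥Γ.curve.left) ∉ (I.support : Set ↥X.left))
    (L : X.left.Modules) (hL : ClSub.IsInverseOf L (ClSub.idealMod I)) :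
    0 ≤ ArSurf.inter R X L Γ ∧
      (ArSurf.inter R X L Γ = 0 ↔ Disjoint (Set.range Γ.ι.base) (I.support : Set ↥X.left)) := by
  exact Groth.Agent.Lib.ModelFibre.Inter.inter_nonneg
    (Groth.Agent.Lib.ModelFibre.Inter.IsSurf.of_isArithSurface hX) Γ
    (Groth.Agent.Lib.SurfInt.Effective.isEffCartierIdeal hI) hΓ hL

end Groth.Agent.S8728
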