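import Groth.Statements.S8731
import Groth.Agent.Lib.ProjCI.Quadric
import Groth.Agent.Lib.ProjDim.Cut
-- import your own Groth.Agent.* helpers here

set_option autoImplicit false
universe u
open CategoryTheory CategoryTheory.Limits AlgebraicGeometry
open LefPen

open Groth.Agent.Lib Groth.Agent.Lib.Curves.LES

namespace Groth.Agent.S8731

/-- (iv), the assertions on the structure sheaf: let k be an algebraically closed field, n >= 1, and Q a
quadratic form in n + 2 variables whose zero scheme X = V(Q) ⊂ P^{n+1}_k is smooth over k of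
relative dimension n (a smooth quadric of dimension n). Then H^i(X, O_X) = 0 for every i >= 1, and
the structure map identifies k with H^0(X, O_X). (The published item also computes H^1(X, O_X(1)),
the canonical sheaf and the Picard group, not stated here.) -/
theorem result (k : Type u) [Field k] [IsAlgClosed k] (n : ℕ) (hn : 1 ≤ n)
    (Q : LefPen.Form (n + 1) k 2)
    [SmoothOfRelativeDimension n ((LefPen.hypIdeal Q).subschemeι ≫ CohB1.ProjSpace.toSpec (n + 1) k)] :
    (∀ i : ℕ, 1 ≤ i → Subsingleton (Coh.HH (LefPen.hypIdeal Q).subscheme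
        (Coh.structureModule (LefPen.hypIdeal Q).subscheme) i)) ∧
      Function.Bijective ((LefPen.hypIdeal Q).subschemeι ≫ CohB1.ProjSpace.toSpec (n + 1) k).appTop.hom := by
  classical
  let G : ∀ j : Fin 1, LefPen.Form (n + 1) k ((fun _ : Fin 1 => 2) j) := fun _ => Q
  have hne : Q.1 ≠ 0 := fun h => ProjCI.Quadric.ne_zero_of_smooth (n := n) Q (Subtype.ext h)
  have hreg : ProjCI.Cone.Reg G := by
    intro j hj i x _ h
    obtain rfl : j = 0 := by omega
    rw [ProjCI.Cone.pre_zero, Ideal.mem_bot] at h ⊢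
    exact (mul_eq_zero.1 h).resolve_left hne
  suffices hmain : ∀ I, I = LefPen.ciIdeal G →
      (∀ i : ℕ, 1 ≤ i → Subsingleton (Coh.HH I.subscheme (Coh.structureModule I.subscheme) i)) ∧
      Function.Bijective (I.subschemeι ≫ CohB1.ProjSpace.toSpec (n + 1) k).appTop.hom from
    hmain _ (iSup_const (a := LefPen.hypIdeal Q) (ι := Fin 1)).symm
  rintro _ rfl
  have hvan : ∀ i : ℕ, 1 ≤ i →
      Subsingleton (Coh.HH (CohB1.ProjSpace (n + 1) k) (ProjCI.Tilde.T (ProjCI.Cone.full G) 0 0) i) := by
    intro i hi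
    obtain ⟨f, w, hS⟩ := ProjCI.Tilde.exists_ses (I := (⊥ : Ideal (MvPolynomial (Fin (n + 2)) k))) (g := Q.1) (d := 2)
      (Ideal.IsHomogeneous.bot _) (ProjCI.Cone.form_isHomogeneous Q)
      (fun i x _ h => by
        rw [Ideal.mem_bot] at h ⊢
        exact (mul_eq_zero.1 h).resolve_left hne) 0
    haveI : Subsingleton (Coh.HH (CohB1.ProjSpace (n + 1) k) (ProjCI.Tilde.T (⊥ : Ideal (MvPolynomial (Fin (n + 2)) k)) 0 0) i) := by
      haveI := ProjCoh.Twist.subsingleton_HH_of_neg_le (n + 1) k (d := 0) (q := i) (by omega) (by omega)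
      exact (isoK k (ProjCI.Tilde.botIso (k := k) (n := n + 1) 0) i).symm.injective.subsingleton
    haveI : Subsingleton (Coh.HH (CohB1.ProjSpace (n + 1) k) (ProjCI.Tilde.T (⊥ : Ideal (MvPolynomial (Fin (n + 2)) k)) 2 0) (i + 1)) := by
      haveI := ProjCoh.Twist.subsingleton_HH_of_neg_le (n + 1) k (d := 0 - ((2 : ℕ) : ℤ)) (q := i + 1) (by omega) (by omega)
      exact (isoK k (ProjCI.Tilde.shiftIso (⊥ : Ideal (MvPolynomial (Fin (n + 2)) k)) 2 0 ≪≫
        (ProjCI.Tilde.botIso (k := k) (n := n + 1) _).symm) (i + 1)).injective.subsingleton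
    have h1 : ∀ J, J = (⊥ : Ideal (MvPolynomial (Fin (n + 2)) k)) ⊔ Ideal.span {Q.1} →
        Subsingleton (Coh.HH (CohB1.ProjSpace (n + 1) k) (ProjCI.Tilde.T J 0 0) i) := by
      rintro J rfl
      refine subsingleton_of_forall_eq 0 fun x => ?_
      obtain ⟨y, rfl⟩ := ((exactK₃ k hS i (i + 1) rfl) x).1 (Subsingleton.elim _ _)
      rw [Subsingleton.elim y 0, map_zero]
    refine h1 _ ?_
    rw [bot_sup_eq]
    exact congrArg Ideal.span (Set.range_const (c := Q.1) (ι := Fin 1))
  refine ⟨fun i hi => ?_, ?_, ProjCI.Struct.surjective_appTop hreg (by omega)⟩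
  · obtain ⟨e, -⟩ := ProjCI.Struct.exists_iso_quot hreg
    haveI := hvan i hi
    haveI := TensorMod.QCohInv.isQCoh_structureModule (LefPen.ciIdeal G).subscheme
    haveI := (isoK k e i).injective.subsingleton
    exact (ZarCoh.Morph.affineEquiv (LefPen.ciIdeal G).subschemeι (Coh.structureModule _) i).symm.injective.subsingleton
  · have hX : Nonempty (LefPen.ciIdeal G).subscheme := by
      have hb : (⊥ : Ideal (MvPolynomial (Fin (n + 2)) k)).IsPrime := Ideal.isPrime_bot
      have hd := ProjDim.Graded.dimQ_bot_poly (k := k) (n := n + 1)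
      obtain ⟨y, -, hy⟩ := ProjDim.Cut.exists_mem
        (x := ProjDim.Topology.mkPt (⊥ : Ideal (MvPolynomial (Fin (n + 2)) k)) hb (Ideal.IsHomogeneous.bot _) (by omega)) {Q.1}
        (fun f hf => by rw [Finset.mem_singleton.1 hf]; exact ⟨2, ProjCI.Cone.form_isHomogeneous Q⟩)
        (fun f hf => by rw [Finset.mem_singleton.1 hf]; exact ProjCI.Cone.form_mem_irr (by omega) Q)
        (by
          have := ProjDim.Topology.dp_add_one (k := k)
            (ProjDim.Topology.mkPt (⊥ : Ideal (MvPolynomial (Fin (n + 2)) k)) hb (Ideal.IsHomogeneous.bot _) (by omega))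
          rw [ProjDim.Topology.idl_mkPt] at this
          rw [Finset.card_singleton]
          omega)
      have hy' : y ∈ ((LefPen.ciIdeal G).support : Set (CohB1.ProjSpace (n + 1) k)) := by
        rw [ProjCI.Cone.support_eq]
        exact fun _ => ProjDim.Topology.mem_zeroLocus_iff.1 hy (Ideal.subset_span (Finset.mem_coe.2 (Finset.mem_singleton_self _)))
      rw [← (LefPen.ciIdeal G).range_subschemeι] at hy'
      exact ⟨hy'.choose⟩
    let f := (LefPen.ciIdeal G).subschemeι ≫ CohB1.ProjSpace.toSpec (n + 1) k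
    haveI : Nontrivial Γ((LefPen.ciIdeal G).subscheme, ⊤) := @Scheme.component_nontrivial _ ⊤ ⟨⟨hX.some, trivial⟩⟩
    have hb := ConcreteCategory.bijective_of_isIso (Scheme.ΓSpecIso (CommRingCat.of k)).inv
    refine (Function.Injective.of_comp_iff' f.appTop hb).1 ?_
    exact RingHom.injective ((Scheme.ΓSpecIso (CommRingCat.of k)).inv ≫ f.appTop).hom

end Groth.Agent.S8731
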