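import Groth.Statements.S8732
import Groth.Agent.Lib.LefPen45.HodgeSeries

set_option autoImplicit false
open LefPen

namespace Groth.Agent.S8732

/-- For each i let H_i in Z[[y, z]] be the series determined by (1 - sum_{u, v >= 1, u + v <= a_i}
C(a_i, u+v) y^u z^v) H_i = sum_{u, v >= 0, u + v + 1 <= a_i - 1} C(a_i - 1, u+v+1) y^u z^v (the
hypersurface series of degree a_i), and put H = sum over nonempty subsets P of {1, ..., d} of
((1+y)(1+z))^(|P|-1) prod_{i in P} H_i, the generating series sum h^{p,q} y^p z^q attached to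
primitive middle Hodge numbers of smooth complete intersections of multidegree a. Then for p <= q
one has h^{p,q} ≠ 0 if and only if p + q + d < p · max_i a_i + sum_i a_i, i.e. p > floor((p + q + d
- sum_i a_i) / max_i a_i). (The published statement prints the last condition with >= in place of >;
the proof establishes the strict form, which is the correct one: for a single quadric, d = 1 and a_1
= 2, the coefficient of y^0 z^1 vanishes although 0 >= floor(0/2).) -/
theorem result (d : ℕ) (a : Fin d → ℕ) (ha : ∀ i, 1 ≤ a i)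
    (Hs : Fin d → MvPowerSeries (Fin 2) ℤ) (p q : ℕ) (hpq : p ≤ q) :
    let y : MvPowerSeries (Fin 2) ℤ := MvPowerSeries.X 0
    let z : MvPowerSeries (Fin 2) ℤ := MvPowerSeries.X 1
    let Pser : ℕ → MvPowerSeries (Fin 2) ℤ := fun b => ∑ u ∈ Finset.range (b + 1), ∑ v ∈ Finset.range (b + 1),
      if 1 ≤ u ∧ 1 ≤ v ∧ u + v ≤ b then (b.choose (u + v) : MvPowerSeries (Fin 2) ℤ) * y ^ u * z ^ v else 0
    let Nser : ℕ → MvPowerSeries (Fin 2) ℤ := fun b => ∑ u ∈ Finset.range b, ∑ v ∈ Finset.range b,
      if u + v + 1 ≤ b - 1 then ((b - 1).choose (u + v + 1) : MvPowerSeries (Fin 2) ℤ) * y ^ u * z ^ v else 0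
    (∀ i, (1 - Pser (a i)) * Hs i = Nser (a i)) →
    let H : MvPowerSeries (Fin 2) ℤ := ∑ P ∈ (Finset.univ : Finset (Fin d)).powerset with P.Nonempty,
      ((1 + y) * (1 + z)) ^ (P.card - 1) * ∏ i ∈ P, Hs i
    (MvPowerSeries.coeff (Finsupp.single 0 p + Finsupp.single 1 q) H ≠ 0 ↔
      p + q + d < p * Finset.univ.sup a + ∑ i, a i) := by
  intro y z Pser Nser hS H
  exact Lib.LefPen45.HodgeSeries.coeff_H_ne_zero_iff ha hS hpq

end Groth.Agent.S8732
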