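import Groth.Statements.S8733
import Groth.Agent.Lib.Bott.Dim

set_option autoImplicit false
universe u
open CategoryTheory CategoryTheory.Limits AlgebraicGeometry
open LefPen

namespace Groth.Agent.S8733

/-- Over a field: let k be a field, r >= 1, P = P^r_k projective space with structure map to Spec k, Ω =
Ω^1_{P/k} its sheaf of relative differentials (the conormal sheaf of the diagonal) and L an
O_P-module which is a j-th exterior power of Ω. Then H^i(P, L) = H^i(P^r, Ω^j) is zero whenever i ≠
j or i > r, and for i = j <= r it is a one-dimensional k-vector space. (The published statement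
names the generator, the i-th power of the Hodge class of a hyperplane; this row states the
dimension only.) -/
theorem result (k : Type u) [Field k] (r : ℕ) (hr : 1 ≤ r) (j : ℕ)
    (L : (CohB1.ProjSpace r k).Modules)
    (hL : ExtPow.IsExtPow j (Omega.sheaf (CohB1.ProjSpace.toSpec r k)) L) :
    (∀ i : ℕ, (i ≠ j ∨ r < i) → Subsingleton (Coh.HH (CohB1.ProjSpace r k) L i)) ∧
      (j ≤ r → Module.finrank k (Coh.HH (CohB1.ProjSpace r k) L j) = 1) := by
  refine ⟨fun i hi => ?_, fun hj => ?_⟩
  · by_cases hjr : r < j
    · exact Groth.Agent.Lib.Bott.Coh.subsingleton_zero j L hL i (Or.inr hjr)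
    · exact Groth.Agent.Lib.Bott.Coh.subsingleton_zero j L hL i (Or.inl (by omega))
  · obtain ⟨e⟩ := Groth.Agent.Lib.Bott.Coh.nonempty_diag j hj L hL
    exact e.finrank_eq.trans (Module.finrank_self k)

end Groth.Agent.S8733
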