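import Groth.Statements.S8734
import Groth.Agent.Lib.Bott.Dim

set_option autoImplicit false
universe u
open CategoryTheory CategoryTheory.Limits AlgebraicGeometry
open LefPen

namespace Groth.Agent.S8734

/-- Over a field: let k be a field, r >= 1, P = P^r_k, Ω = Ω^1_{P/k}, L an O_P-module which is a j-th
exterior power of Ω, and n a nonzero integer; write L(n) = L ⊗ O_P(n). Then H^i(P, L(n)) = H^i(P^r,
Ω^j(n)) is zero unless either i = 0 and n > j, or i = r and n < j - r. -/
theorem result (k : Type u) [Field k] (r : ℕ) (hr : 1 ≤ r) (j : ℕ)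
    (L : (CohB1.ProjSpace r k).Modules)
    (hL : ExtPow.IsExtPow j (Omega.sheaf (CohB1.ProjSpace.toSpec r k)) L) (n : ℤ) (hn : n ≠ 0) (i : ℕ)
    (h0 : ¬ (i = 0 ∧ (j : ℤ) < n)) (hr' : ¬ (i = r ∧ n < (j : ℤ) - r)) :
    Subsingleton (Coh.HH (CohB1.ProjSpace r k)
      (CohB1.tensorMod L (Twist.twistProjSpace r k n)) i) := by
  by_cases hjr : r < j
  · exact Groth.Agent.Lib.Bott.Coh.subsingleton_of_gt r k hjr hL n i
  rcases lt_or_gt_of_ne hn with hneg | hpos
  · rcases lt_trichotomy i r with hi | rfl | hi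
    · exact Groth.Agent.Lib.Bott.Coh.subsingleton_neg hneg j L hL i hi
    · obtain ⟨e, rfl⟩ : ∃ e : ℕ, n = -(e : ℤ) := ⟨(-n).toNat, by omega⟩
      haveI : Module.Finite k (Coh.HH (CohB1.ProjSpace i k) (CohB1.tensorMod L (Twist.twistProjSpace i k (-(e : ℤ)))) i) :=
        Groth.Agent.Lib.Bott.Dim.finite_pow hL _ i
      refine Module.finrank_zero_iff (R := k).1 ?_
      exact (Groth.Agent.Lib.Bott.Dim.finrank_top_coh (e := e) (by omega) j (by omega) L hL).trans (by
        rw [Nat.choose_eq_zero_of_lt (show e - 1 < i - j by omega), mul_zero])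
    · haveI : Coh.IsQCoh (CohB1.tensorMod L (Twist.twistProjSpace r k n)) :=
        (Groth.Agent.Lib.ProjCoh.Coherent.isCoh_tensorMod
          (Groth.Agent.Lib.Perfect.Coherent.isCoh_of_isFinLocFree
            (Groth.Agent.Lib.GrassGen.ExtPowFree.isFinLocFree
              (Groth.Agent.Lib.TensorMod.LocFree.of_rank (Groth.Agent.Lib.Bott.Euler.rank_omega r k)) hL))
          (Groth.Agent.Lib.ProjCoh.Coherent.isCoh_tw n)).1
      exact Groth.Agent.Lib.ProjCoh.Twist.subsingleton_HH_of_lt _ hi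
  · rcases Nat.eq_zero_or_pos i with rfl | hi
    · obtain ⟨d, rfl⟩ : ∃ d : ℕ, n = (d : ℤ) := ⟨n.toNat, by omega⟩
      haveI : Module.Finite k (Coh.HH (CohB1.ProjSpace r k) (CohB1.tensorMod L (Twist.twistProjSpace r k (d : ℤ))) 0) :=
        Groth.Agent.Lib.Bott.Dim.finite_pow hL _ 0
      refine Module.finrank_zero_iff (R := k).1 ?_
      exact (Groth.Agent.Lib.Bott.Dim.finrank_h0 (d := d) (by omega) j L hL).trans (by
        rw [Nat.choose_eq_zero_of_lt (show d - 1 < j by omega), mul_zero])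
    · exact Groth.Agent.Lib.Bott.Coh.subsingleton_pos hpos j hL hi

end Groth.Agent.S8734
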