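import Groth.Statements.S8737
import Groth.Agent.Lib.QuadGrp99.Cliff.Center
import Groth.Agent.Lib.QuadGrp99.Cliff.EvenFppf
-- import your own Groth.Agent.* helpers here

set_option autoImplicit false
universe u v
open SGA7II

namespace Groth.Agent.S8737

open scoped TensorProduct


/-- Let A be a commutative ring, V a free A-module of rank 2m with m >= 1, and Q a quadratic form on V
which is non-degenerate in the sense that its polar bilinear form induces a bijection V -> Hom_A(V,
A). Let Z be the centre of the even Clifford algebra C^+(Q), and regard C^+(Q) as a Z-algebra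
through the inclusion of the centre. Then Z is an etale A-algebra which is finitely generated
projective of rank 2 at every prime of A, and C^+(Q) is an Azumaya algebra over Z. (The published
statement allows V locally free of rank 2m; this row takes V free.) -/
theorem result (A : Type u) [CommRing A] (V : Type v) [AddCommGroup V] [Module A V]
    [Module.Free A V] [Module.Finite A V] (m : ℕ) (hm : 1 ≤ m) (hV : Module.finrank A V = 2 * m)
    (Q : QuadraticForm A V) (hQ : Function.Bijective (QuadraticMap.polarBilin Q)) :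
    letI : Algebra ↥(Subalgebra.center A ↥(CliffordAlgebra.even Q)) ↥(CliffordAlgebra.even Q) :=
      (Subalgebra.center A ↥(CliffordAlgebra.even Q)).val.toRingHom.toAlgebra'
        (fun c x => (Subalgebra.mem_center_iff.mp c.2 x).symm)
    Algebra.Etale A ↥(Subalgebra.center A ↥(CliffordAlgebra.even Q)) ∧
      Module.Finite A ↥(Subalgebra.center A ↥(CliffordAlgebra.even Q)) ∧
      Module.Projective A ↥(Subalgebra.center A ↥(CliffordAlgebra.even Q)) ∧
      (∀ p : PrimeSpectrum A, Module.rankAtStalk ↥(Subalgebra.center A ↥(CliffordAlgebra.even Q)) p = 2) ∧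
      IsAzumaya ↥(Subalgebra.center A ↥(CliffordAlgebra.even Q)) ↥(CliffordAlgebra.even Q) := by
  obtain ⟨S, i1, i2, hff, e⟩ : ∃ (S : Type u) (_ : CommRing S) (_ : Algebra A S), Module.FaithfullyFlat A S ∧
      Nonempty ((S ⊗[A] ↥(CliffordAlgebra.even Q)) ≃ₐ[S]
        (Matrix (Fin (2 ^ (m - 1))) (Fin (2 ^ (m - 1))) S × Matrix (Fin (2 ^ (m - 1))) (Fin (2 ^ (m - 1))) S)) := by
    rcases subsingleton_or_nontrivial A with hA | hA
    · haveI : Subsingleton (A ⊗[A] ↥(CliffordAlgebra.even Q)) := Module.subsingleton A _
      exact ⟨A, inferInstance, inferInstance, inferInstance, ⟨AlgEquiv.ofBijective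
        (Algebra.TensorProduct.lift (Algebra.ofId A _)
          { toFun := fun _ => 0, map_one' := Subsingleton.elim _ _, map_zero' := rfl, map_add' := fun _ _ => by simp,
            map_mul' := fun _ _ => by simp, commutes' := fun _ => Subsingleton.elim _ _ } fun _ _ => Commute.zero_right _)
        ⟨fun x y _ => Subsingleton.elim x y, fun x => ⟨0, Subsingleton.elim _ _⟩⟩⟩⟩
    let b := Module.finBasisOfFinrankEq A V hV
    let Q' : QuadraticForm A (Fin (2 * m) → A) := Q.comp b.equivFun.symm.toLinearMap
    let es : Q.IsometryEquiv Q' := ⟨b.equivFun, fun x => congrArg Q (b.equivFun.symm_apply_apply x)⟩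
    have hQ' : QuadGrp.IsRegular Q' := by
      have h : ⇑(QuadraticMap.polarBilin Q') =
          b.equivFun.symm.dualMap ∘ QuadraticMap.polarBilin Q ∘ b.equivFun.symm := by
        funext x
        refine LinearMap.ext fun y => ?_
        show QuadraticMap.polar (Q.comp b.equivFun.symm.toLinearMap) x y = QuadraticMap.polar Q (b.equivFun.symm x) (b.equivFun.symm y)
        simp only [QuadraticMap.polar, QuadraticMap.comp_apply, LinearEquiv.coe_coe, map_add]
      show Function.Bijective ⇑(QuadraticMap.polarBilin Q')
      rw [h]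
      exact b.equivFun.symm.dualMap.bijective.comp (hQ.comp b.equivFun.symm.bijective)
    obtain ⟨S, i1, i2, hff, -, -, ⟨e⟩⟩ :=
      Lib.QuadGrp99.Cliff.EvenFppf.exists_fppf_matrix hQ' (Module.finrank_fin_fun A) hm
    obtain ⟨g⟩ := Lib.QuadGrp99.Cliff.Odd.exists_evenEquiv es
    exact ⟨S, i1, i2, hff, ⟨(Algebra.TensorProduct.congr AlgEquiv.refl g).trans e⟩⟩
  obtain ⟨e⟩ := e
  obtain ⟨h1, h2, h3, h4⟩ := Lib.QuadGrp99.Cliff.Center.center_props S e
  exact ⟨h1, h2, h3, h4, Lib.QuadGrp99.Cliff.Center.isAzumaya_center S e⟩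

end Groth.Agent.S8737
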