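import Groth.Statements.S8747
import Groth.Agent.H54.Adeq.Ext
-- import your own Groth.Agent.* helpers here

set_option autoImplicit false
universe u
open CategoryTheory Limits
open Adeq

namespace Groth.Agent.S8747

/-- A short exact sequence `0 → underline(M) → G → L → 0` of module-valued functors on `A`-algebras with
`L` linearly adequate splits, and `G` is adequate. -/
theorem result (A : Type u) [CommRing A]
    (S : ShortComplex (Adeq.MVF A)) (hS : S.ShortExact) (M : ModuleCat.{u + 1} A)
    (e : S.X₁ ≅ (Adeq.underline A).obj M) (hL : Adeq.linAdequate A S.X₃) :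
    Nonempty S.Splitting ∧ Adeq.adequate A S.X₂ := by
  have h₁ : Adeq.adequate A S.X₁ := (Adeq.adequate A).prop_of_iso e.symm (H54.Adeq.adequate_U M)
  have h₃ : Adeq.adequate A S.X₃ := by
    obtain ⟨P, P', g, _, _, _, _, h⟩ := hL
    exact ⟨P, P', g, h⟩
  exact ⟨H54.Adeq.nonempty_splitting S hS h₁ hL, H54.Adeq.adequate_extension S hS h₁ h₃⟩

end Groth.Agent.S8747
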