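import Groth.Statements.S8770
import Groth.Agent.Lib.Pure.UI

set_option autoImplicit false
universe u
open PureExt
open Groth.Agent.Lib.Pure

namespace Groth.Agent.S8770

open Groth.Agent.Lib.Pure in
theorem cover_of_lift {R : Type u} [CommRing R] {M : Type u} [AddCommGroup M] [Module R M]
    {I : Type u} (Q : I → Type u) [i₁ : ∀ i, AddCommGroup (Q i)] [i₂ : ∀ i, Module R (Q i)]
    (hfp : ∀ i, Module.FinitePresentation R (Q i)) (g : (Π₀ i, Q i) →ₗ[R] M)
    (lift : ∀ (P : Type u) [AddCommGroup P] [Module R P], Module.FinitePresentation R P →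
      ∀ φ : P →ₗ[R] M, ∃ ψ : P →ₗ[R] (Π₀ i, Q i), g ∘ₗ ψ = φ) :
    ∃ (ι : Type u) (Q : ι → Type u) (_ : ∀ i, AddCommGroup (Q i)) (_ : ∀ i, Module R (Q i)),
      (∀ i, Module.FinitePresentation R (Q i)) ∧
      ∃ g : (Π₀ i, Q i) →ₗ[R] M, Function.Surjective g ∧
        CAlgX.UniversallyInjective R (LinearMap.ker g).subtype := by
  have hsurj : Function.Surjective g := fun m => by
    obtain ⟨ψ, hψ⟩ := lift R inferInstance (LinearMap.toSpanSingleton R M m)
    exact ⟨ψ 1, by simpa using LinearMap.congr_fun hψ 1⟩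
  exact ⟨I, Q, i₁, i₂, hfp, g, hsurj, UI.ker_subtype_of_fp_lift g lift⟩

open Groth.Agent.Lib.Pure in
/-- The tautological cover by finitely presented modules. -/
theorem cover (R : Type u) [CommRing R] (M : Type u) [AddCommGroup M] [Module R M] :
    ∃ (ι : Type u) (Q : ι → Type u) (_ : ∀ i, AddCommGroup (Q i)) (_ : ∀ i, Module R (Q i)),
      (∀ i, Module.FinitePresentation R (Q i)) ∧
      ∃ g : (Π₀ i, Q i) →ₗ[R] M, Function.Surjective g ∧
        CAlgX.UniversallyInjective R (LinearMap.ker g).subtype := by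
  classical
  let I : Type u := Σ n : ℕ, Σ K : {K : Submodule R (Fin n → R) // K.FG},
    (((Fin n → R) ⧸ K.1) →ₗ[R] M)
  let Q : I → Type u := fun i => (Fin i.1 → R) ⧸ i.2.1.1
  let g : (Π₀ i, Q i) →ₗ[R] M := DFinsupp.lsum ℕ fun i : I => i.2.2
  have hg : ∀ (i : I) (q : Q i), g (DFinsupp.single i q) = i.2.2 q := fun i q => by simp [g]
  have lift : ∀ (P : Type u) [AddCommGroup P] [Module R P], Module.FinitePresentation R P →
      ∀ φ : P →ₗ[R] M, ∃ ψ : P →ₗ[R] (Π₀ i, Q i), g ∘ₗ ψ = φ := by
    intro P _ _ _ φ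
    obtain ⟨n, K, e, hK⟩ := Module.FinitePresentation.exists_fin R P
    let i : I := ⟨n, ⟨K, hK⟩, φ ∘ₗ e.symm.toLinearMap⟩
    refine ⟨(DFinsupp.lsingle i : Q i →ₗ[R] _) ∘ₗ e.toLinearMap, LinearMap.ext fun p => ?_⟩
    change g (DFinsupp.single i (e p)) = φ p
    rw [hg]
    simp [i]
  exact cover_of_lift Q (fun i => Module.finitePresentation_of_surjective _
    (Submodule.mkQ_surjective _) (by rw [Submodule.ker_mkQ]; exact i.2.1.2)) g lift

/-- For every `R`-module `M` there is a universally exact sequence `0 → N → P → M → 0` with `P` pure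
projective; this row takes `P` to be a direct sum of finitely presented modules, which is pure
projective: there is a surjection from such a direct sum onto `M` whose kernel inclusion is
universally injective. -/
theorem result (R : Type u) [CommRing R]
    (M : Type u) [AddCommGroup M] [Module R M] :
    ∃ (ι : Type u) (Q : ι → Type u) (_ : ∀ i, AddCommGroup (Q i)) (_ : ∀ i, Module R (Q i)),
      (∀ i, Module.FinitePresentation R (Q i)) ∧
      ∃ g : (Π₀ i, Q i) →ₗ[R] M, Function.Surjective g ∧
        CAlgX.UniversallyInjective R (LinearMap.ker g).subtype := by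
  classical
  exact cover R M

end Groth.Agent.S8770
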