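import Groth.Statements.S8769
import Groth.Agent.Lib.Pure.UI
import Groth.Agent.S8770

set_option autoImplicit false
universe u
open PureExt
open Groth.Agent.Lib.Pure

namespace Groth.Agent.S8769

open Groth.Agent.Lib.Pure in
/-- Maps from finitely presented modules lift along pure surjections. -/
theorem lift_of_fp {R : Type u} [CommRing R] {P L N : Type u} [AddCommGroup P] [Module R P]
    [AddCommGroup L] [Module R L] [AddCommGroup N] [Module R N] [Module.FinitePresentation R P]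
    (g : L →ₗ[R] N) (hg : Function.Surjective g)
    (hui : CAlgX.UniversallyInjective R (LinearMap.ker g).subtype) (χ : P →ₗ[R] N) :
    ∃ θ : P →ₗ[R] L, ∀ p, g (θ p) = χ p := by
  let d : P × L →ₗ[R] N := χ ∘ₗ LinearMap.fst R P L - g ∘ₗ LinearMap.snd R P L
  let E := LinearMap.ker d
  let p₁ : E →ₗ[R] P := LinearMap.fst R P L ∘ₗ E.subtype
  let j : LinearMap.ker g →ₗ[R] E :=
    (LinearMap.inr R P L ∘ₗ (LinearMap.ker g).subtype).codRestrict E fun x => by
      simp [E, d]
  have hj : CAlgX.UniversallyInjective R j := by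
    apply UI.of_comp (g := LinearMap.snd R P L ∘ₗ E.subtype)
    have : (LinearMap.snd R P L ∘ₗ E.subtype) ∘ₗ j = (LinearMap.ker g).subtype := by
      ext x; rfl
    rw [this]; exact hui
  have hex : Function.Exact j p₁ := by
    intro x
    constructor
    · intro hx
      have hx' : x.1.1 = 0 := hx
      have hd : χ x.1.1 - g x.1.2 = 0 := LinearMap.mem_ker.1 x.2
      rw [hx', map_zero, zero_sub, neg_eq_zero] at hd
      exact ⟨⟨x.1.2, hd⟩, Subtype.ext (Prod.ext hx'.symm rfl)⟩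
    · rintro ⟨y, rfl⟩
      rfl
  have hp : Function.Surjective p₁ := fun p => by
    obtain ⟨l, hl⟩ := hg (χ p)
    exact ⟨⟨(p, l), by simp [E, d, hl]⟩, rfl⟩
  obtain ⟨s, hs⟩ := UI.exists_section j p₁ hex hp hj
  refine ⟨LinearMap.snd R P L ∘ₗ E.subtype ∘ₗ s, fun p => ?_⟩
  have h1 : (s p).1.1 = p := LinearMap.congr_fun hs p
  have hd : χ (s p).1.1 - g (s p).1.2 = 0 := LinearMap.mem_ker.1 (s p).2
  rw [h1, sub_eq_zero] at hd
  exact hd.symm


/-- An `R`-module `P` is pure projective (every linear map `P → N` lifts along every surjection `L → N`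
for which `0 → ker → L → N → 0` is universally exact, i.e. whose kernel inclusion is universally
injective) if and only if `P` is a direct summand of a direct sum of finitely presented `R`-modules. -/
theorem result (R : Type u) [CommRing R]
    (P : Type u) [AddCommGroup P] [Module R P] :
    (∀ ⦃L N : Type u⦄ [AddCommGroup L] [Module R L] [AddCommGroup N] [Module R N] (g : L →ₗ[R] N),
        Function.Surjective g → CAlgX.UniversallyInjective R (LinearMap.ker g).subtype →
        ∀ φ : P →ₗ[R] N, ∃ ψ : P →ₗ[R] L, g ∘ₗ ψ = φ) ↔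
    ∃ (ι : Type u) (Q : ι → Type u) (_ : ∀ i, AddCommGroup (Q i)) (_ : ∀ i, Module R (Q i)),
      (∀ i, Module.FinitePresentation R (Q i)) ∧
      ∃ (s : P →ₗ[R] (Π₀ i, Q i)) (r : (Π₀ i, Q i) →ₗ[R] P), r ∘ₗ s = LinearMap.id := by
  classical
  constructor
  · intro h
    obtain ⟨ι, Q, i₁, i₂, hfp, g, hg, hui⟩ := Groth.Agent.S8770.cover R P
    obtain ⟨ψ, hψ⟩ := h g hg hui LinearMap.id
    exact ⟨ι, Q, i₁, i₂, hfp, ψ, g, hψ⟩
  · rintro ⟨ι, Q, i₁, i₂, hfp, s, r, hsr⟩ L N _ _ _ _ g hg hui φ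
    obtain ⟨Θ, hΘ⟩ : ∃ Θ : ∀ i, Q i →ₗ[R] L,
        ∀ i q, g (Θ i q) = φ (r (DFinsupp.single i q)) := by
      suffices ∀ i, ∃ θ : Q i →ₗ[R] L, ∀ q, g (θ q) = φ (r (DFinsupp.single i q)) from
        ⟨fun i => (this i).choose, fun i => (this i).choose_spec⟩
      intro i
      have := hfp i
      let χ : Q i →ₗ[R] N := φ ∘ₗ r ∘ₗ DFinsupp.lsingle i
      exact lift_of_fp g hg hui χ
    refine ⟨DFinsupp.lsum ℕ Θ ∘ₗ s, ?_⟩
    have : g ∘ₗ DFinsupp.lsum ℕ Θ = φ ∘ₗ r := by
      apply DFinsupp.lhom_ext'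
      intro i
      ext q
      simp [hΘ]
    rw [← LinearMap.comp_assoc, this, LinearMap.comp_assoc, hsr, LinearMap.comp_id]

end Groth.Agent.S8769
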