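import Groth.Statements.S8772
import Groth.Agent.Lib.Pure.UI

set_option autoImplicit false
universe u
open PureExt
open Groth.Agent.Lib.Pure

namespace Groth.Agent.S8772

/-- Transpose a map into a character module. -/
def flipChar {R M Q : Type u} [CommRing R] [AddCommGroup M] [Module R M]
    [AddCommGroup Q] [Module R Q] (φ : M →ₗ[R] CharacterModule Q) : Q →ₗ[R] CharacterModule M where
  toFun q :=
    { toFun := fun m => φ m q
      map_zero' := by rw [map_zero]; rfl
      map_add' := fun a b => by rw [map_add]; rfl }
  map_add' a b := by
    ext m
    exact map_add (φ m : Q →+ AddCircle (1 : ℚ)) a b
  map_smul' r a := by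
    ext m
    change φ m (r • a) = φ (r • m) a
    exact (congrArg (fun c : CharacterModule Q => c a) (φ.map_smul r m)).symm

/-- For every `R`-module `M` the evaluation map `M → (M^∨)^∨` into the double character module is
universally injective; with the pure injectivity of character modules this gives a universally exact
embedding of `M` into a pure injective module. (The published statement asserts only the existence
of such an embedding; this row names the map.) -/
theorem result (R : Type u) [CommRing R] (M : Type u) [AddCommGroup M]
    [Module R M] : CAlgX.UniversallyInjective R (PureExt.charEval R M) := by
  refine (UI.iff_exists_extension _).2 fun Q _ _ φ =>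
    ⟨CharacterModule.dual (flipChar φ), ?_⟩
  ext m q
  rfl

end Groth.Agent.S8772
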