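import Groth.Statements.S8774
import Groth.Agent.Lib.Pure.Res
import Groth.Agent.S8770

set_option autoImplicit false
universe u
open CategoryTheory
open PureExt

open CategoryTheory Limits
open Groth.Agent.Lib.Pure

namespace Groth.Agent.S8774

section
variable {R : Type u} [CommRing R]

/-- A pure projective cover: a direct sum of finitely presented modules with pure kernel. -/
structure Cover (M : ModuleCat.{u} R) where
  ι : Type u
  Q : ι → Type u
  [acg : ∀ i, AddCommGroup (Q i)]
  [mdl : ∀ i, Module R (Q i)]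
  fp : ∀ i, Module.FinitePresentation R (Q i)
  g : (Π₀ i, Q i) →ₗ[R] M
  surj : Function.Surjective g
  ui : CAlgX.UniversallyInjective R (LinearMap.ker g).subtype

attribute [instance] Cover.acg Cover.mdl

theorem nonempty_cover (M : ModuleCat.{u} R) : Nonempty (Cover M) := by
  obtain ⟨ι, Q, i₁, i₂, hfp, g, hs, hu⟩ := Groth.Agent.S8770.cover R M
  exact ⟨{ ι := ι, Q := Q, fp := hfp, g := g, surj := hs, ui := hu }⟩

noncomputable def cover (M : ModuleCat.{u} R) : Cover M := (nonempty_cover M).some

noncomputable def syz (M : ModuleCat.{u} R) : ℕ → ModuleCat.{u} R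
  | 0 => M
  | n + 1 => ModuleCat.of R (LinearMap.ker (cover (syz M n)).g)

noncomputable def term (M : ModuleCat.{u} R) (n : ℕ) : ModuleCat.{u} R :=
  ModuleCat.of R (Π₀ i, (cover (syz M n)).Q i)

noncomputable def diff (M : ModuleCat.{u} R) (n : ℕ) : term M (n + 1) ⟶ term M n :=
  ModuleCat.ofHom ((LinearMap.ker (cover (syz M n)).g).subtype ∘ₗ (cover (syz M (n + 1))).g)

noncomputable def aug (M : ModuleCat.{u} R) : term M 0 ⟶ M :=
  ModuleCat.ofHom (cover (syz M 0)).g

theorem diff_aug (M : ModuleCat.{u} R) : diff M 0 ≫ aug M = 0 := by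
  refine ModuleCat.hom_ext (LinearMap.ext fun x => ?_)
  exact ((cover (syz M 1)).g x).2

theorem diff_diff (M : ModuleCat.{u} R) (n : ℕ) : diff M (n + 1) ≫ diff M n = 0 := by
  refine ModuleCat.hom_ext (LinearMap.ext fun x => ?_)
  exact congrArg Subtype.val ((cover (syz M (n + 2))).g x).2

theorem exists_resolution (R : Type u) [CommRing R] (M : ModuleCat.{u} R) :
    ∃ (P : ChainComplex (ModuleCat.{u} R) ℕ) (π : P ⟶ (ChainComplex.single₀ (ModuleCat.{u} R)).obj M),
      (∀ n : ℕ, ∃ (ι : Type u) (Q : ι → Type u) (_ : ∀ i, AddCommGroup (Q i)) (_ : ∀ i, Module R (Q i)),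
        (∀ i, Module.FinitePresentation R (Q i)) ∧
        ∃ (s : P.X n →ₗ[R] (Π₀ i, Q i)) (r : (Π₀ i, Q i) →ₗ[R] P.X n), r ∘ₗ s = LinearMap.id) ∧
      ∀ T : ModuleCat.{u} R,
        (Function.Exact ((P.d 1 0).hom.rTensor T) ((π.f 0).hom.rTensor T) ∧
          Function.Surjective ((π.f 0).hom.rTensor T)) ∧
        ∀ n : ℕ, Function.Exact ((P.d (n + 2) (n + 1)).hom.rTensor T)
          ((P.d (n + 1) n).hom.rTensor T) := by
  classical
  let P := ChainComplex.of (term M) (diff M) (diff_diff M)
  have hd : ∀ n, P.d (n + 1) n = diff M n := fun n => ChainComplex.of_d _ _ _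
  let π : P ⟶ (ChainComplex.single₀ (ModuleCat.{u} R)).obj M :=
    (ChainComplex.toSingle₀Equiv P M).symm ⟨aug M, by rw [hd]; exact diff_aug M⟩
  have hπ : π.f 0 = aug M := ChainComplex.toSingle₀Equiv_symm_apply_f_zero _ _
  refine ⟨P, π, fun n => ⟨_, (cover (syz M n)).Q, inferInstance, inferInstance,
    (cover (syz M n)).fp, LinearMap.id, LinearMap.id, LinearMap.id_comp _⟩, fun T => ⟨?_, fun n => ?_⟩⟩
  · rw [hd, hπ]
    refine ⟨?_, LinearMap.rTensor_surjective T (cover (syz M 0)).surj⟩
    exact Res.rTensor_exact_of_pieces (cover (syz M 1)).g (cover (syz M 1)).surj _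
      (cover (syz M 0)).g (LinearMap.exact_subtype_ker_map _) (cover (syz M 0)).surj LinearMap.id
      (UI.of_leftInverse (g := LinearMap.id) (LinearMap.id_comp _)) T
  · rw [hd, hd]
    exact Res.rTensor_exact_of_pieces (cover (syz M (n + 2))).g (cover (syz M (n + 2))).surj _
      (cover (syz M (n + 1))).g (LinearMap.exact_subtype_ker_map _) (cover (syz M (n + 1))).surj _
      (cover (syz M n)).ui T
end


/-- Every `R`-module `M` has a pure projective resolution: a complex `… → P_1 → P_0` with an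
augmentation to `M` such that each `P_n` is pure projective (a direct summand of a direct sum of
finitely presented modules) and `… → P_1 → P_0 → M → 0` is universally exact, i.e. the augmentation
stays a quasi-isomorphism after tensoring with any `R`-module `N`. -/
theorem result (R : Type u) [CommRing R] (M : ModuleCat.{u} R) :
    ∃ (P : ChainComplex (ModuleCat.{u} R) ℕ) (π : P ⟶ (ChainComplex.single₀ (ModuleCat.{u} R)).obj M),
      (∀ n : ℕ, ∃ (ι : Type u) (Q : ι → Type u) (_ : ∀ i, AddCommGroup (Q i)) (_ : ∀ i, Module R (Q i)),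
        (∀ i, Module.FinitePresentation R (Q i)) ∧
        ∃ (s : P.X n →ₗ[R] (Π₀ i, Q i)) (r : (Π₀ i, Q i) →ₗ[R] P.X n), r ∘ₗ s = LinearMap.id) ∧
      ∀ N : ModuleCat.{u} R,
        QuasiIso (((MonoidalCategory.tensorRight N).mapHomologicalComplex (ComplexShape.down ℕ)).map π) := by
  classical
  obtain ⟨P, π, hP, hex⟩ := exists_resolution R M
  exact ⟨P, π, hP, fun N => (Res.quasiIso_chain_iff P π N).2 (hex N)⟩

end Groth.Agent.S8774
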