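import Groth.Statements.S8775
import Groth.Agent.Lib.Pure.Res

set_option autoImplicit false
universe u
open CategoryTheory
open PureExt

open CategoryTheory Limits
open Groth.Agent.Lib.Pure

namespace Groth.Agent.S8775

/-- Let `M → N` be a map of `R`-modules, `P → M` an augmented complex of pure projective modules and `N'
→ N` a universally exact resolution (the augmentation is a quasi-isomorphism after tensoring with
any module). Then there is a map of complexes `P → N'` inducing the given map `M → N` on the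
augmentations. -/
theorem result (R : Type u) [CommRing R] {M N : ModuleCat.{u} R}
    (f : M ⟶ N) (P N' : ChainComplex (ModuleCat.{u} R) ℕ)
    (π : P ⟶ (ChainComplex.single₀ (ModuleCat.{u} R)).obj M)
    (ε : N' ⟶ (ChainComplex.single₀ (ModuleCat.{u} R)).obj N)
    (hP : ∀ n : ℕ, (∀ ⦃L T : Type u⦄ [AddCommGroup L] [Module R L] [AddCommGroup T] [Module R T] (g : L →ₗ[R] T),
          Function.Surjective g → CAlgX.UniversallyInjective R (LinearMap.ker g).subtype →
          ∀ φ : P.X n →ₗ[R] T, ∃ ψ : P.X n →ₗ[R] L, g ∘ₗ ψ = φ))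
    (hN' : ∀ T : ModuleCat.{u} R,
      QuasiIso (((MonoidalCategory.tensorRight T).mapHomologicalComplex (ComplexShape.down ℕ)).map ε)) :
    ∃ φ : P ⟶ N', φ ≫ ε = π ≫ (ChainComplex.single₀ (ModuleCat.{u} R)).map f := by
  classical
  have hd := Res.chain_data hN'
  choose l₀ hl₀ using fun φ => Res.lift_augmentation (hP 0) hN' φ
  choose l₁ hl₁ using fun φ hφ => Res.lift_zero (hP 1) hN' φ hφ
  choose l hl using fun (n : ℕ) φ hφ => Res.lift_succ (hP (n + 2)) hN' n φ hφ
  have hπ : P.d 1 0 ≫ π.f 0 = 0 := by rw [← π.comm 1 0, HomologicalComplex.single_obj_d, comp_zero]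
  let zero : P.X 0 ⟶ N'.X 0 := l₀ (π.f 0 ≫ f)
  have h1 : (P.d 1 0 ≫ zero) ≫ ε.f 0 = 0 := by
    rw [Category.assoc, hl₀]
    exact (Category.assoc _ _ _).symm.trans ((congrArg (· ≫ f) hπ).trans zero_comp)
  let φ : P ⟶ N' := ChainComplex.mkHom P N' zero (l₁ (P.d 1 0 ≫ zero) h1) (hl₁ _ h1)
    fun n p => ⟨l n (P.d (n + 2) (n + 1) ≫ p.2.1)
        (by rw [Category.assoc, p.2.2, P.d_comp_d_assoc, zero_comp]),
      hl n _ _⟩
  refine ⟨φ, HomologicalComplex.to_single_hom_ext ?_⟩
  simp only [HomologicalComplex.comp_f, φ, ChainComplex.mkHom_f_0, ChainComplex.single₀_map_f_zero]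
  exact hl₀ _

end Groth.Agent.S8775
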