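import Groth.Statements.S8776
import Groth.Agent.Lib.Pure.Res

set_option autoImplicit false
universe u
open CategoryTheory
open PureExt

open CategoryTheory Limits
open Groth.Agent.Lib.Pure

namespace Groth.Agent.S8776

/-- With `M → N`, an augmented complex `P → M` of pure projective modules and a universally exact
resolution `N' → N` (augmentation a quasi-isomorphism after any tensor product), two maps of
complexes `P → N'` inducing the same map `M → N` are homotopic. -/
theorem result (R : Type u) [CommRing R] {M N : ModuleCat.{u} R}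
    (f : M ⟶ N) (P N' : ChainComplex (ModuleCat.{u} R) ℕ)
    (π : P ⟶ (ChainComplex.single₀ (ModuleCat.{u} R)).obj M)
    (ε : N' ⟶ (ChainComplex.single₀ (ModuleCat.{u} R)).obj N)
    (hP : ∀ n : ℕ, (∀ ⦃L T : Type u⦄ [AddCommGroup L] [Module R L] [AddCommGroup T] [Module R T] (g : L →ₗ[R] T),
          Function.Surjective g → CAlgX.UniversallyInjective R (LinearMap.ker g).subtype →
          ∀ φ : P.X n →ₗ[R] T, ∃ ψ : P.X n →ₗ[R] L, g ∘ₗ ψ = φ))
    (hN' : ∀ T : ModuleCat.{u} R,
      QuasiIso (((MonoidalCategory.tensorRight T).mapHomologicalComplex (ComplexShape.down ℕ)).map ε))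
    (α β : P ⟶ N') (hα : α ≫ ε = π ≫ (ChainComplex.single₀ (ModuleCat.{u} R)).map f)
    (hβ : β ≫ ε = π ≫ (ChainComplex.single₀ (ModuleCat.{u} R)).map f) : Nonempty (Homotopy α β) := by
  classical
  refine ⟨Homotopy.equivSubZero.symm ?_⟩
  set e := α - β
  have he : e.f 0 ≫ ε.f 0 = 0 := by
    rw [HomologicalComplex.sub_f_apply, Preadditive.sub_comp, ← HomologicalComplex.comp_f,
      ← HomologicalComplex.comp_f, hα, hβ, sub_self]
  choose l₁ hl₁ using fun φ hφ => Res.lift_zero (hP 0) hN' φ hφ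
  choose l hl using fun (n : ℕ) φ hφ => Res.lift_succ (hP (n + 1)) hN' n φ hφ
  have h1 : (e.f 1 - P.d 1 0 ≫ l₁ _ he) ≫ N'.d 1 0 = 0 := by
    rw [Preadditive.sub_comp, Category.assoc, hl₁, e.comm, sub_self]
  refine Homotopy.mkInductive e (l₁ _ he) (hl₁ _ _).symm (l 0 _ h1)
    (by rw [hl]; abel) fun n p => ⟨l (n + 1) (e.f (n + 2) - P.d (n + 2) (n + 1) ≫ p.2.1) ?_, ?_⟩
  · rw [Preadditive.sub_comp, Category.assoc, eq_sub_of_add_eq' p.2.2.symm, Preadditive.comp_sub,
      P.d_comp_d_assoc, zero_comp, sub_zero, e.comm, sub_self]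
  · rw [hl]; abel

end Groth.Agent.S8776
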