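import Groth.Statements.S8777
import Groth.Agent.Lib.Pure.Res
import Groth.Agent.S8772

set_option autoImplicit false
universe u
open CategoryTheory
open PureExt

open CategoryTheory Limits
open Groth.Agent.Lib.Pure

namespace Groth.Agent.S8777

section
variable {R : Type u} [CommRing R]

/-- The pure injective envelope used in the construction: the double character module. -/
noncomputable def dd (M : ModuleCat.{u} R) : ModuleCat.{u} R :=
  ModuleCat.of R (CharacterModule (CharacterModule M))

noncomputable def cosyz (M : ModuleCat.{u} R) : ℕ → ModuleCat.{u} R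
  | 0 => M
  | n + 1 => ModuleCat.of R (dd (cosyz M n) ⧸ LinearMap.range (PureExt.charEval R (cosyz M n)))

noncomputable def term (M : ModuleCat.{u} R) (n : ℕ) : ModuleCat.{u} R := dd (cosyz M n)

noncomputable def diff (M : ModuleCat.{u} R) (n : ℕ) : term M n ⟶ term M (n + 1) :=
  ModuleCat.ofHom (PureExt.charEval R (cosyz M (n + 1)) ∘ₗ
    (LinearMap.range (PureExt.charEval R (cosyz M n))).mkQ)

noncomputable def coaug (M : ModuleCat.{u} R) : M ⟶ term M 0 :=
  ModuleCat.ofHom (PureExt.charEval R (cosyz M 0))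

theorem coaug_diff (M : ModuleCat.{u} R) : coaug M ≫ diff M 0 = 0 := by
  refine ModuleCat.hom_ext (LinearMap.ext fun x => ?_)
  change PureExt.charEval R _ (Submodule.Quotient.mk (PureExt.charEval R (cosyz M 0) x)) = 0
  rw [(Submodule.Quotient.mk_eq_zero _).2 (LinearMap.mem_range_self _ _), map_zero]

theorem diff_diff (M : ModuleCat.{u} R) (n : ℕ) : diff M n ≫ diff M (n + 1) = 0 := by
  refine ModuleCat.hom_ext (LinearMap.ext fun x => ?_)
  change PureExt.charEval R _ (Submodule.Quotient.mk (PureExt.charEval R (cosyz M (n + 1))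
    (Submodule.Quotient.mk x))) = 0
  rw [(Submodule.Quotient.mk_eq_zero _).2 (LinearMap.mem_range_self _ _), map_zero]

theorem exists_coresolution (R : Type u) [CommRing R] (M : ModuleCat.{u} R) :
    ∃ (I : CochainComplex (ModuleCat.{u} R) ℕ) (η : (CochainComplex.single₀ (ModuleCat.{u} R)).obj M ⟶ I),
      (∀ n : ℕ, (∀ ⦃K L : Type u⦄ [AddCommGroup K] [Module R K] [AddCommGroup L] [Module R L]
        (g : K →ₗ[R] L), CAlgX.UniversallyInjective R g →
          ∀ φ : K →ₗ[R] I.X n, ∃ ψ : L →ₗ[R] I.X n, ψ ∘ₗ g = φ)) ∧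
      ∀ T : ModuleCat.{u} R,
        (Function.Exact ((η.f 0).hom.rTensor T) ((I.d 0 1).hom.rTensor T) ∧
          Function.Injective ((η.f 0).hom.rTensor T)) ∧
        ∀ n : ℕ, Function.Exact ((I.d n (n + 1)).hom.rTensor T)
          ((I.d (n + 1) (n + 2)).hom.rTensor T) := by
  classical
  let I := CochainComplex.of (term M) (diff M) (diff_diff M)
  have hd : ∀ n, I.d n (n + 1) = diff M n := fun n => CochainComplex.of_d _ _ _
  let η : (CochainComplex.single₀ (ModuleCat.{u} R)).obj M ⟶ I :=
    (CochainComplex.fromSingle₀Equiv I M).symm ⟨coaug M, by rw [hd]; exact coaug_diff M⟩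
  have hη : η.f 0 = coaug M := CochainComplex.fromSingle₀Equiv_symm_apply_f_zero _ _
  have hui : ∀ n, CAlgX.UniversallyInjective R (PureExt.charEval R (cosyz M n)) :=
    fun n => Groth.Agent.S8772.result R (cosyz M n)
  refine ⟨I, η, fun n K L _ _ _ _ g hg φ => (UI.iff_exists_extension g).1 hg _ φ,
    fun T => ⟨?_, fun n => ?_⟩⟩
  · rw [hd, hη]
    refine ⟨?_, hui 0 T⟩
    exact Res.rTensor_exact_of_pieces LinearMap.id Function.surjective_id
      (PureExt.charEval R (cosyz M 0)) _
      (LinearMap.exact_map_mkQ_range _) (Submodule.mkQ_surjective _) _ (hui 1) T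
  · rw [hd, hd]
    exact Res.rTensor_exact_of_pieces _ (Submodule.mkQ_surjective _) _ _
      (LinearMap.exact_map_mkQ_range _) (Submodule.mkQ_surjective _) _ (hui (n + 2)) T
end


/-- Every `R`-module `M` has a pure injective resolution: a complex `I^0 → I^1 → …` with a
coaugmentation from `M` such that each `I^n` is pure injective (every linear map into `I^n` extends
along every universally injective map) and `0 → M → I^0 → I^1 → …` is universally exact, i.e. the
coaugmentation stays a quasi-isomorphism after tensoring with any `R`-module. -/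
theorem result (R : Type u) [CommRing R] (M : ModuleCat.{u} R) :
    ∃ (I : CochainComplex (ModuleCat.{u} R) ℕ) (η : (CochainComplex.single₀ (ModuleCat.{u} R)).obj M ⟶ I),
      (∀ n : ℕ, (∀ ⦃K L : Type u⦄ [AddCommGroup K] [Module R K] [AddCommGroup L] [Module R L] (g : K →ₗ[R] L),
          CAlgX.UniversallyInjective R g → ∀ φ : K →ₗ[R] I.X n, ∃ ψ : L →ₗ[R] I.X n, ψ ∘ₗ g = φ)) ∧
      ∀ T : ModuleCat.{u} R,
      QuasiIso (((MonoidalCategory.tensorRight T).mapHomologicalComplex (ComplexShape.up ℕ)).map η) := by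
  classical
  obtain ⟨I, η, hI, hex⟩ := exists_coresolution R M
  exact ⟨I, η, hI, fun T => (Res.quasiIso_cochain_iff I η T).2 (hex T)⟩

end Groth.Agent.S8777
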