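import Groth.Statements.S8778
import Groth.Agent.Lib.Pure.Res

set_option autoImplicit false
universe u
open CategoryTheory
open PureExt

open CategoryTheory Limits
open Groth.Agent.Lib.Pure

namespace Groth.Agent.S8778

/-- Let `M → N` be a map of `R`-modules, `M → M'` a universally exact resolution (the coaugmentation is
a quasi-isomorphism after tensoring with any module) and `N → I` a coaugmented cochain complex of
pure injective modules. Then there is a map of complexes `M' → I` inducing the given map `M → N` on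
the coaugmentations. -/
theorem result (R : Type u) [CommRing R] {M N : ModuleCat.{u} R}
    (f : M ⟶ N) (M' I : CochainComplex (ModuleCat.{u} R) ℕ)
    (η : (CochainComplex.single₀ (ModuleCat.{u} R)).obj M ⟶ M')
    (ε : (CochainComplex.single₀ (ModuleCat.{u} R)).obj N ⟶ I)
    (hM' : ∀ T : ModuleCat.{u} R,
      QuasiIso (((MonoidalCategory.tensorRight T).mapHomologicalComplex (ComplexShape.up ℕ)).map η))
    (hI : ∀ n : ℕ, (∀ ⦃K L : Type u⦄ [AddCommGroup K] [Module R K] [AddCommGroup L] [Module R L] (g : K →ₗ[R] L),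
          CAlgX.UniversallyInjective R g → ∀ φ : K →ₗ[R] I.X n, ∃ ψ : L →ₗ[R] I.X n, ψ ∘ₗ g = φ)) :
    ∃ φ : M' ⟶ I, η ≫ φ = (CochainComplex.single₀ (ModuleCat.{u} R)).map f ≫ ε := by
  classical
  choose l₀ hl₀ using fun φ => Res.extend_coaugmentation (hI 0) hM' φ
  choose l₁ hl₁ using fun φ hφ => Res.extend_zero (hI 1) hM' φ hφ
  choose l hl using fun (n : ℕ) φ hφ => Res.extend_succ (hI (n + 2)) hM' n φ hφ
  have hε : ε.f 0 ≫ I.d 0 1 = 0 := by rw [ε.comm 0 1, HomologicalComplex.single_obj_d, zero_comp]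
  let zero : M'.X 0 ⟶ I.X 0 := l₀ (f ≫ ε.f 0)
  have h1 : η.f 0 ≫ zero ≫ I.d 0 1 = 0 := by
    rw [← Category.assoc, hl₀]
    exact (Category.assoc _ _ _).trans ((congrArg (f ≫ ·) hε).trans comp_zero)
  let φ : M' ⟶ I := CochainComplex.mkHom M' I zero (l₁ (zero ≫ I.d 0 1) h1) (hl₁ _ h1).symm
    fun n p => ⟨l n (p.2.1 ≫ I.d (n + 1) (n + 2))
        (by rw [← Category.assoc, ← p.2.2, Category.assoc, I.d_comp_d, comp_zero]),
      (hl n _ _).symm⟩
  refine ⟨φ, HomologicalComplex.from_single_hom_ext ?_⟩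
  simp only [HomologicalComplex.comp_f, φ, CochainComplex.mkHom_f_0,
    CochainComplex.single₀_map_f_zero]
  exact hl₀ _

end Groth.Agent.S8778
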