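import Groth.Statements.S8779
import Groth.Agent.Lib.Pure.Res

set_option autoImplicit false
universe u
open CategoryTheory
open PureExt

open CategoryTheory Limits
open Groth.Agent.Lib.Pure

namespace Groth.Agent.S8779

/-- With `M → N` a map of `R`-modules, `M → M'` a universally exact resolution and `N → I` a coaugmented
cochain complex of pure injective modules, two maps of complexes `M' → I` inducing the same map `M →
N` are homotopic. -/
theorem result (R : Type u) [CommRing R] {M N : ModuleCat.{u} R}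
    (f : M ⟶ N) (M' I : CochainComplex (ModuleCat.{u} R) ℕ)
    (η : (CochainComplex.single₀ (ModuleCat.{u} R)).obj M ⟶ M')
    (ε : (CochainComplex.single₀ (ModuleCat.{u} R)).obj N ⟶ I)
    (hM' : ∀ T : ModuleCat.{u} R,
      QuasiIso (((MonoidalCategory.tensorRight T).mapHomologicalComplex (ComplexShape.up ℕ)).map η))
    (hI : ∀ n : ℕ, (∀ ⦃K L : Type u⦄ [AddCommGroup K] [Module R K] [AddCommGroup L] [Module R L] (g : K →ₗ[R] L),
          CAlgX.UniversallyInjective R g → ∀ φ : K →ₗ[R] I.X n, ∃ ψ : L →ₗ[R] I.X n, ψ ∘ₗ g = φ))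
    (α β : M' ⟶ I) (hα : η ≫ α = (CochainComplex.single₀ (ModuleCat.{u} R)).map f ≫ ε)
    (hβ : η ≫ β = (CochainComplex.single₀ (ModuleCat.{u} R)).map f ≫ ε) : Nonempty (Homotopy α β) := by
  classical
  refine ⟨Homotopy.equivSubZero.symm ?_⟩
  set e := α - β
  have he : η.f 0 ≫ e.f 0 = 0 := by
    rw [HomologicalComplex.sub_f_apply, Preadditive.comp_sub, ← HomologicalComplex.comp_f,
      ← HomologicalComplex.comp_f, hα, hβ, sub_self]
  choose l₁ hl₁ using fun φ hφ => Res.extend_zero (hI 0) hM' φ hφ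
  choose l hl using fun (n : ℕ) φ hφ => Res.extend_succ (hI (n + 1)) hM' n φ hφ
  have h1 : M'.d 0 1 ≫ (e.f 1 - l₁ _ he ≫ I.d 0 1) = 0 := by
    rw [Preadditive.comp_sub, ← Category.assoc, hl₁, e.comm, sub_self]
  refine Homotopy.mkCoinductive e (l₁ _ he) (hl₁ _ _).symm (l 0 _ h1)
    (by rw [hl]; abel) fun n p => ⟨l (n + 1) (e.f (n + 2) - p.2.1 ≫ I.d (n + 1) (n + 2)) ?_, ?_⟩
  · rw [Preadditive.comp_sub, ← Category.assoc, eq_sub_of_add_eq' p.2.2.symm, Preadditive.sub_comp,
      Category.assoc, I.d_comp_d, comp_zero, sub_zero, e.comm, sub_self]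
  · rw [hl]; abel

end Groth.Agent.S8779
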