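import Groth.Statements.S8780
import Groth.Agent.H52.AdeqFree
import Mathlib.Algebra.Category.ModuleCat.EpiMono

set_option autoImplicit false
universe u
open CategoryTheory Limits
open AdeqTF

namespace Groth.Agent.S8780

/-- Take `I` injective in the category of module-valued functors on `A`-algebras. For every `A`-algebra
`B` and every short exact sequence `0 → N₁ → N → N₂ → 0` of `B`-modules, the induced map of tangent
modules `TI(B, N) → TI(B, N₂)` is surjective (`TI(B, N)` is the kernel of `I(B[N]) → I(B)`, `B[N]`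
the trivial square-zero extension). (The published statement asserts that `TI(B, N₁) → TI(B, N) →
TI(B, N₂) → 0` is exact; exactness at the middle term is false: for `A = B = ℚ`, the split sequence
`0 → ℚ → ℚ² → ℚ → 0` and the injective functor `D ↦ Map(Hom(D, ℚ[ε]/(ε²)), E)` with `E` an injective
hull of `ℚ[ε]/(ε²)`, the indicator function of the first coordinate form lies in the kernel of
`TI(B, ℚ²) → TI(B, ℚ)` and not in the image of `TI(B, ℚ) → TI(B, ℚ²)`. This row keeps the
surjectivity, which the published argument does establish.) -/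
theorem result (A : Type u) [CommRing A] (I : Adeq.MVF A) [Injective I]
    (B : Adeq.Alg A) (S : ShortComplex (ModuleCat.{u} B)) (hS : S.ShortExact) :
    Function.Surjective (AdeqTF.tangentMap B I S.g) := by
  haveI := hS.epi_g
  have hg : Function.Surjective S.g := (ModuleCat.epi_iff_surjective _).1 inferInstance
  have hmap : Function.Surjective (AdeqTF.map B S.g).hom := fun z => by
    obtain ⟨n, hn⟩ := hg (TrivSqZeroExt.snd z)
    refine ⟨TrivSqZeroExt.inl (TrivSqZeroExt.fst z) + TrivSqZeroExt.inr n, ?_⟩
    refine TrivSqZeroExt.ext ?_ ?_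
    · show TrivSqZeroExt.fst (TrivSqZeroExt.map S.g.hom _) = _
      simp
    · show TrivSqZeroExt.snd (TrivSqZeroExt.map S.g.hom _) = _
      simp
      exact hn
  rintro ⟨x, hx⟩
  obtain ⟨y, hy⟩ := H52.AdeqFree.surjective_map (I := I) (AdeqTF.map B S.g) hmap x
  have hy' : y ∈ AdeqTF.tangent B S.X₂ I := by
    show I.map (Adeq.ptHom (AdeqTF.fst B S.X₂)) y = 0
    have e : Adeq.ptHom (AdeqTF.map B S.g) ≫ Adeq.ptHom (AdeqTF.fst B S.X₃) = Adeq.ptHom (AdeqTF.fst B S.X₂) :=
      congrArg Adeq.ptHom (AdeqTF.map_fst B S.g)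
    rw [← I.congr_map_apply e, I.map_comp_apply]
    exact (congrArg (I.map (Adeq.ptHom (AdeqTF.fst B S.X₃))) hy).trans hx
  exact ⟨⟨y, hy'⟩, Subtype.ext hy⟩

end Groth.Agent.S8780
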