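import Groth.Statements.S8789
import Groth.Agent.H54.AdeqSite.PiecePar
-- import your own Groth.Agent.* helpers here

set_option autoImplicit false
universe u
open CategoryTheory Limits AlgebraicGeometry
open Adeq

namespace Groth.Agent.S8789

/-- For a quasi-compact and quasi-separated morphism `f : T → S` and a parasitic adequate `O`-module `M`
on the big fppf site of `T`, the higher direct images `Rⁱ f_* M` are parasitic on the big fppf site
of `S`. (That they are adequate is a separate statement.) -/
theorem result {S T : Scheme.{u}} (f : T ⟶ S) [QuasiCompact f] [QuasiSeparated f]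
    [HasInjectiveResolutions (BigSite.Mod Scheme.fppfPrecoverage T)] (M : BigSite.Mod Scheme.fppfPrecoverage T)
    (hM : Adeq.adequateMod Scheme.fppfPrecoverage T M) (hP : Adeq.parasitic Scheme.fppfPrecoverage T M) (i : ℕ) :
    Adeq.parasitic Scheme.fppfPrecoverage S ((BigSite.RpushMod Scheme.fppfPrecoverage f i).obj M) := by
  exact Groth.Agent.H54.AdeqSite.Piece.parasitic_Rpush f M hM hP i

end Groth.Agent.S8789
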