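import Groth.Statements.S8794
import Groth.Agent.Lib.RGamma.CompletionKillBound

set_option autoImplicit false
universe u
open CategoryTheory
attribute [local instance] HasDerivedCategory.standard
open LocCoh

namespace Groth.Agent.S8794
open Groth.Agent.Lib.RGamma

/-- Let (A, m) be a Noetherian local ring with a dualizing complex, I an ideal and d a natural with
cd(A, I) ≤ d, M a finite A-module, p a prime of A and s a natural with depth(M_p) + dim(A/p) > d +
s. Assume the total right derived functor RΓ_m and derived I-adic completion exist on D(A). Then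
there is f ∈ A with f ∉ p annihilating the cohomology modules H^i of the derived I-adic completion
of RΓ_m(M) for all i ≤ s. -/
theorem result (A : Type u) [CommRing A] [IsNoetherianRing A] [IsLocalRing A] (hdc : ∃ ω : Dual.D A, Dual.IsDualizing A ω) (I : Ideal A) [DRing.HasRgammaI (IsLocalRing.maximalIdeal A)] [DRing.HasDerivedCompletion I] (M : Type u) [AddCommGroup M] [Module A M] [Module.Finite A M] (p : PrimeSpectrum A) (s d : ℕ) (h2 : LocCoh.CdLE A I d) (h3 : (((d + s : ℕ) : ℕ∞) : WithBot ℕ∞) < ((LocCoh.depth (Localization.AtPrime p.asIdeal) (LocalizedModule p.asIdeal.primeCompl M) : ℕ∞) : WithBot ℕ∞) + ringKrullDim (A ⧸ p.asIdeal)) : ∃ f : A, f ∉ p.asIdeal ∧ ∀ i : ℤ, i ≤ s → ∀ x : Dual.HD A ((DRing.derivedCompletion I).obj ((DRing.RgammaI (IsLocalRing.maximalIdeal A)).obj (Dual.inD A M))).obj i, f • x = 0 := by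
  obtain ⟨ω, hω⟩ := hdc
  refine CompletionKill.exists_notMem_kill hω M I (IsLocalRing.maximalIdeal A) p s d h2
    fun p' q hp' hq hJ hI j hj g => ?_
  obtain rfl : q = IsLocalRing.closedPoint A :=
    PrimeSpectrum.ext (le_antisymm (IsLocalRing.le_maximalIdeal q.isPrime.ne_top) hJ)
  have hpm : p ≤ IsLocalRing.closedPoint A := IsLocalRing.le_maximalIdeal p.isPrime.ne_top
  have h := h3
  rw [Groth.Agent.Lib.DMod.DimDegree.ringKrullDim_quotient_eq hω p] at h
  have hdeg := Groth.Agent.Lib.DMod.Degree.deg_le hω hpm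
  have hdeg' := Groth.Agent.Lib.DMod.Degree.deg_le hω hp'
  let d₀ := Groth.Agent.Lib.DMod.Degree.deg hω p - Groth.Agent.Lib.DMod.Degree.deg hω p'
  have hk := CompletionKill.hom_kill_of_lt_depth hω M p (j + d₀)
    fun k hk => CompletionKill.lt_depth_of_lt _ _ d s h (j + d₀) (by omega) k hk
  rw [show Groth.Agent.Lib.DMod.Degree.deg hω p - (j + d₀) =
    Groth.Agent.Lib.DMod.Degree.deg hω p' - j by omega] at hk
  obtain ⟨t, ht, htg⟩ := hk g
  exact ⟨t, fun h => ht (hp' h), htg⟩

end Groth.Agent.S8794
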