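import Groth.Statements.S8795
import Groth.Agent.Lib.RGamma.ComplMain
import Groth.Agent.S8794
import Groth.Agent.Lib.LocalCoh.Height

set_option autoImplicit false
universe u
open CategoryTheory
attribute [local instance] HasDerivedCategory.standard
open LocCoh

namespace Groth.Agent.S8795

open Groth.Agent.Lib
open scoped Pointwise

/-- The depth hypothesis. -/
abbrev Hyp (A : Type u) [CommRing A] [IsLocalRing A] (I : Ideal A) (d : ℕ) (s : ℕ) (M : Type u)
    [AddCommGroup M] [Module A M] : Prop :=
  ∀ p : PrimeSpectrum A, ¬ I ≤ p.asIdeal → (∃ r : PrimeSpectrum A, p ≤ r ∧ I ≤ r.asIdeal ∧ r.asIdeal ≠ IsLocalRing.maximalIdeal A) → (s : ℕ∞) ≤ LocCoh.depth (Localization.AtPrime p.asIdeal) (LocalizedModule p.asIdeal.primeCompl M) ∨ (((d + s : ℕ) : ℕ∞) : WithBot ℕ∞) < ((LocCoh.depth (Localization.AtPrime p.asIdeal) (LocalizedModule p.asIdeal.primeCompl M) : ℕ∞) : WithBot ℕ∞) + ringKrullDim (A ⧸ p.asIdeal)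

theorem dim_le (A : Type u) [CommRing A] [IsNoetherianRing A] [IsLocalRing A] (I : Ideal A) (d : ℕ)
    (hcd : LocCoh.CdLE A I d) (hI : I ≤ IsLocalRing.maximalIdeal A) (p : PrimeSpectrum A)
    (hp : ∀ q : PrimeSpectrum A, p ≤ q → I ≤ q.asIdeal → IsLocalRing.maximalIdeal A ≤ q.asIdeal) :
    ringKrullDim (A ⧸ p.asIdeal) ≤ ((d : ℕ∞) : WithBot ℕ∞) := by
  let B := A ⧸ p.asIdeal
  have hB : LocCoh.CdLE B (I.map (algebraMap A B)) d := LCFin.Cd.cdLE_map hcd
  have : Nontrivial B := Ideal.Quotient.nontrivial_iff.2 p.isPrime.ne_top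
  have : IsLocalRing B := IsLocalRing.of_surjective' (Ideal.Quotient.mk p.asIdeal) Ideal.Quotient.mk_surjective
  have hmin : IsLocalRing.maximalIdeal B ∈ (I.map (algebraMap A B)).minimalPrimes := by
    refine ⟨⟨inferInstance, IsLocalRing.le_maximalIdeal fun h => ?_⟩, fun P hP _ => ?_⟩
    · have h1 : (1 : B) ∈ I.map (algebraMap A B) := h ▸ Submodule.mem_top
      rw [Ideal.Quotient.algebraMap_eq,
        Ideal.mem_map_iff_of_surjective _ Ideal.Quotient.mk_surjective] at h1
      obtain ⟨x, hx, hx1⟩ := h1
      have : x - 1 ∈ p.asIdeal := Ideal.Quotient.eq.1 (hx1.trans (map_one _).symm)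
      apply (IsLocalRing.maximalIdeal.isMaximal A).ne_top
      rw [Ideal.eq_top_iff_one]
      simpa using sub_mem (hI hx) (IsLocalRing.le_maximalIdeal p.isPrime.ne_top this)
    · have := hP.1
      have h1 : p ≤ ⟨P.comap (algebraMap A B), Ideal.IsPrime.comap _⟩ := fun x hx => by
        show algebraMap A B x ∈ P
        rw [Ideal.Quotient.algebraMap_eq, Ideal.Quotient.eq_zero_iff_mem.2 hx]
        exact P.zero_mem
      have h2 := hp _ h1 (Ideal.map_le_iff_le_comap.1 hP.2)
      intro y hy
      obtain ⟨a, rfl⟩ := Ideal.Quotient.mk_surjective y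
      exact h2 ((IsLocalRing.mem_maximalIdeal a).2 fun hu => hy (hu.map _))
  have := LocalCoh.Height.height_le_of_cdLE _ d hB _ hmin
  rw [← IsLocalRing.maximalIdeal_height_eq_ringKrullDim]
  exact_mod_cast this

/-- Let (A, m) be a Noetherian local ring which is I-adically complete for an ideal I and has a
dualizing complex; let d be a natural with cd(A, I) ≤ d, M a finite A-module and s a natural. Assume
that every prime p ∉ V(I) with V(p) ∩ V(I) ≠ {m} satisfies depth(M_p) ≥ s or depth(M_p) + dim(A/p) >
d + s, and that derived I-adic completion (left adjoint to the inclusion of derived complete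
objects) exists on D(A). Then there is an ideal J₀ with V(J₀) ∩ V(I) = {m} such that for every ideal
J ⊆ J₀ with V(J) ∩ V(I) = {m} whose total right derived functor RΓ_J exists, the canonical map from
RΓ_J(M) to its derived I-adic completion induces a bijection on cohomology in every degree i ≤ s.
(The identification of that completion with the completion of RΓ_m(M) is not part of this
statement.) -/
theorem result (A : Type u) [CommRing A] [IsNoetherianRing A] [IsLocalRing A] (I : Ideal A) [IsAdicComplete I A] (hdc : ∃ ω : Dual.D A, Dual.IsDualizing A ω) [DRing.HasDerivedCompletion I] (d : ℕ) (hcd : LocCoh.CdLE A I d) (M : Type u) [AddCommGroup M] [Module A M] [Module.Finite A M] (s : ℕ) (h4 : ∀ p : PrimeSpectrum A, ¬ I ≤ p.asIdeal → (∃ r : PrimeSpectrum A, p ≤ r ∧ I ≤ r.asIdeal ∧ r.asIdeal ≠ IsLocalRing.maximalIdeal A) → (s : ℕ∞) ≤ LocCoh.depth (Localization.AtPrime p.asIdeal) (LocalizedModule p.asIdeal.primeCompl M) ∨ (((d + s : ℕ) : ℕ∞) : WithBot ℕ∞) < ((LocCoh.depth (Localization.AtPrime p.asIdeal) (LocalizedModule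 p.asIdeal.primeCompl M) : ℕ∞) : WithBot ℕ∞) + ringKrullDim (A ⧸ p.asIdeal)) : ∃ J₀ : Ideal A, PrimeSpectrum.zeroLocus ((J₀ : Ideal A) : Set A) ∩ PrimeSpectrum.zeroLocus ((I : Ideal A) : Set A) = {IsLocalRing.closedPoint A} ∧ ∀ (J : Ideal A) [DRing.HasRgammaI J], J ≤ J₀ → PrimeSpectrum.zeroLocus ((J : Ideal A) : Set A) ∩ PrimeSpectrum.zeroLocus ((I : Ideal A) : Set A) = {IsLocalRing.closedPoint A} → ∀ i : ℤ, i ≤ s → Function.Bijective ((DerivedCategory.homologyFunctor (ModuleCat.{u} A) i).map (DRing.toDerivedCompletion I ((DRing.RgammaI J).obj (Dual.inD A M)))).hom := by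
  obtain ⟨ω, hω⟩ := hdc
  have hI : I ≤ IsLocalRing.maximalIdeal A :=
    (IsAdicComplete.le_jacobson_bot I).trans (IsLocalRing.jacobson_eq_maximalIdeal ⊥ bot_ne_top).le
  have hclosed : ∀ q : PrimeSpectrum A, IsLocalRing.maximalIdeal A ≤ q.asIdeal →
      q = IsLocalRing.closedPoint A := fun q hq =>
    PrimeSpectrum.ext (le_antisymm (IsLocalRing.le_maximalIdeal q.isPrime.ne_top) hq)
  have hgood : ∀ p : PrimeSpectrum A, ¬ I ≤ p.asIdeal →
      (∃ r : PrimeSpectrum A, p ≤ r ∧ I ≤ r.asIdeal ∧ r.asIdeal ≠ IsLocalRing.maximalIdeal A) →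
        ¬ RGamma.ComplMain.Bad I (IsLocalRing.maximalIdeal A) p := by
    rintro p hp ⟨r, hr, hIr, hne⟩ (h | h | h)
    · exact hp h
    · exact hne (le_antisymm (IsLocalRing.le_maximalIdeal r.isPrime.ne_top) (h r hr hIr))
    · exact h (IsLocalRing.closedPoint A) (IsLocalRing.le_maximalIdeal p.isPrime.ne_top) hI le_rfl
  have hV : ∀ K : Ideal A, RGamma.ComplMain.SameTrace I (IsLocalRing.maximalIdeal A) K ↔
      PrimeSpectrum.zeroLocus (K : Set A) ∩ PrimeSpectrum.zeroLocus (I : Set A) =
        {IsLocalRing.closedPoint A} := fun K => by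
    have : PrimeSpectrum.zeroLocus ((IsLocalRing.maximalIdeal A : Ideal A) : Set A) ∩
        PrimeSpectrum.zeroLocus (I : Set A) = {IsLocalRing.closedPoint A} :=
      Set.ext fun q => ⟨fun h => hclosed q h.1, fun h => by
        rw [Set.mem_singleton_iff] at h
        subst h
        exact ⟨fun x hx => hx, fun x hx => hI hx⟩⟩
    rw [RGamma.ComplMain.SameTrace, this]
  obtain ⟨J₀, -, hJ₀, h⟩ := RGamma.ComplMain.main (I := I) (J := IsLocalRing.maximalIdeal A) ⟨ω, hω⟩
    (fun s M _ _ _ => Hyp A I d s M)
    (fun s M M' _ _ _ _ _ _ he h p hp hr => by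
      obtain ⟨e⟩ := he p (hgood p hp hr)
      rw [← Depth.Basic.depth_congr e]
      exact h p hp hr)
    (fun s M _ _ _ f hf h p hp hr => by
      have h' := h p hp hr
      have hle := RGamma.ComplModule.depth_le_quot M hf p
      rw [DMod.DimDegree.ringKrullDim_quotient_eq hω p] at h' ⊢
      generalize LocCoh.depth (Localization.AtPrime p.asIdeal)
        (LocalizedModule p.asIdeal.primeCompl (QuotSMulTop f M)) = D' at hle ⊢
      generalize LocCoh.depth (Localization.AtPrime p.asIdeal)
        (LocalizedModule p.asIdeal.primeCompl M) = D at hle h'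
      induction D' with
      | top => exact Or.inl le_top
      | coe b =>
        induction D with
        | top => simp at hle
        | coe a =>
          have hab : a ≤ b + 1 := by exact_mod_cast hle
          rcases h' with h' | h'
          · have : s + 1 ≤ a := by exact_mod_cast h'
            exact Or.inl (by exact_mod_cast (show s ≤ b by omega))
          · have : d + (s + 1) < a + (DMod.Degree.deg hω (IsLocalRing.closedPoint A) -
                DMod.Degree.deg hω p).toNat := by exact_mod_cast h'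
            exact Or.inr (by exact_mod_cast (show d + s < b + (DMod.Degree.deg hω (IsLocalRing.closedPoint A) -
                DMod.Degree.deg hω p).toNat by omega)))
    (fun s M _ _ _ h => by
      obtain ⟨J₀, -, hJ₀, hc⟩ := LCFin.Algebraize.exists_ideal M (s + 1) hω I
        (IsLocalRing.maximalIdeal A) d {p | RGamma.ComplMain.InT I (IsLocalRing.maximalIdeal A) p}
        (fun p => Iff.rfl)
        (fun p _ hT => ⟨IsLocalRing.closedPoint A, IsLocalRing.le_maximalIdeal p.isPrime.ne_top,
          le_rfl, hI, by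
            have := dim_le A I d hcd hI p hT
            rw [DMod.DimDegree.ringKrullDim_quotient_eq hω p] at this
            rwa [LCFin.Bootstrap.dimBetween_eq hω p (IsLocalRing.closedPoint A)
              (IsLocalRing.le_maximalIdeal p.isPrime.ne_top)]⟩)
        (fun p hp hT q hpq hq hIq => by
          obtain rfl := hclosed q hq
          obtain ⟨r, hr, hIr, hne⟩ : ∃ r : PrimeSpectrum A, p ≤ r ∧ I ≤ r.asIdeal ∧
              r.asIdeal ≠ IsLocalRing.maximalIdeal A := by
            by_contra hc
            push Not at hc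
            exact hT fun q hq hIq => (hc q hq hIq).ge
          rw [LCFin.Bootstrap.dimBetween_eq hω p _ hpq]
          have := h p hp ⟨r, hr, hIr, hne⟩
          rwa [DMod.DimDegree.ringKrullDim_quotient_eq hω p] at this)
      exact ⟨J₀, hJ₀, hc⟩)
    (fun s M _ _ _ h p hass hbad => by
      intro _
      have hp : ¬ I ≤ p.asIdeal := fun h => hbad (Or.inl h)
      obtain ⟨r, hr, hIr, hne⟩ : ∃ r : PrimeSpectrum A, p ≤ r ∧ I ≤ r.asIdeal ∧
          r.asIdeal ≠ IsLocalRing.maximalIdeal A := by
        by_contra hc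
        push Not at hc
        exact hbad (Or.inr (Or.inl fun q hq hIq => (hc q hq hIq).ge))
      refine Groth.Agent.S8794.result A ⟨ω, hω⟩ I M p (s + 1) d hcd ?_
      rcases h p hp ⟨r, hr, hIr, hne⟩ with h' | h'
      · exfalso
        have hm := Module.associatedPrimes.mem_associatedPrimes_atPrime_of_mem_associatedPrimes hass
        have : Nontrivial (LocalizedModule p.asIdeal.primeCompl M) := by
          obtain ⟨-, z, hz⟩ := isAssociatedPrime_iff.1 hm
          by_contra hc
          rw [not_nontrivial_iff_subsingleton] at hc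
          apply (IsLocalRing.maximalIdeal.isMaximal (Localization.AtPrime p.asIdeal)).ne_top
          rw [hz, eq_top_iff]
          intro a _
          rw [Submodule.mem_colon_singleton]
          simp [Subsingleton.elim z 0]
        have := Module.Finite.of_isLocalizedModule p.asIdeal.primeCompl (Rₚ := Localization.AtPrime p.asIdeal)
          (LocalizedModule.mkLinearMap p.asIdeal.primeCompl M)
        rw [(Depth.Assoc.depth_eq_zero_iff _).2 hm] at h'
        simp at h'
      · exact h') s M h4
  exact ⟨J₀, (hV J₀).1 hJ₀, fun J _ hle hJ i hi => h J hle ((hV J).2 hJ) i hi⟩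

end Groth.Agent.S8795
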