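import Groth.Statements.S8801
import Groth.Agent.Lib.Henselian.PairUP
import Groth.Agent.Lib.Henselian.GRingHens
import Groth.Agent.H48.PairNoeth

set_option autoImplicit false
set_option linter.style.haveILetI false
universe u
open AdicRing

namespace Groth.Agent.S8801

open Groth.Agent.Lib.Henselian

/-- Let A be a Noetherian ring and I an ideal. Let C be an A-algebra of finite type and Cʰ a
henselization of the pair (C, IC), viewed as an A-algebra through C, and let J be an ideal of Cʰ.
Then there is an A-algebra B of finite type whose IB-adic completion is isomorphic as an A-algebra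
to the I(Cʰ/J)-adic completion of Cʰ/J (existence of an isomorphism only; the published statement
names no particular map). -/
theorem result (A : Type u) [CommRing A] [IsNoetherianRing A] (I : Ideal A) (C : Type u) [CommRing C] [Algebra A C] [Algebra.FiniteType A C] (Ch : Type u) [CommRing Ch] [Algebra C Ch] [Algebra A Ch] [IsScalarTower A C Ch] (hCh : Hens2.IsPairHenselization C (I.map (algebraMap A C)) Ch) (J : Ideal Ch) : ∃ (B : Type u) (_ : CommRing B) (_ : Algebra A B), Algebra.FiniteType A B ∧ Nonempty (AdicCompletion (I.map (algebraMap A B)) B ≃ₐ[A] AdicCompletion (I.map (algebraMap A (Ch ⧸ J))) (Ch ⧸ J)) := by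
  classical
  haveI : IsNoetherianRing C := Algebra.FiniteType.isNoetherianRing A C
  haveI : IsNoetherianRing Ch := Groth.Agent.H48.PairNoeth.isNoetherianRing hCh
  obtain ⟨G, hG⟩ := IsNoetherian.noetherian J
  obtain ⟨S, _, _, _, hS, φ, hφ⟩ := PairHenselization.exists_isNbhd_range hCh G
  choose y hy using fun g : G => hφ g.2
  let L : Ideal S := Ideal.span (Set.range y)
  letI : Algebra S Ch := φ.toRingHom.toAlgebra
  haveI : IsScalarTower C S Ch := IsScalarTower.of_algebraMap_eq fun c => (φ.commutes c).symm
  letI : Algebra A S := ((algebraMap C S).comp (algebraMap A C)).toAlgebra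
  haveI : IsScalarTower A C S := IsScalarTower.of_algebraMap_eq fun _ => rfl
  haveI : IsScalarTower A S Ch := IsScalarTower.of_algebraMap_eq fun a => by
    rw [IsScalarTower.algebraMap_apply A C Ch, IsScalarTower.algebraMap_apply A C S, ← IsScalarTower.algebraMap_apply C S Ch]
  haveI : Algebra.FiniteType A S := Algebra.FiniteType.trans (S := C) inferInstance inferInstance
  have hLJ : L.map (algebraMap S Ch) = J := by
    rw [Ideal.map_span, ← Set.range_comp, ← hG]
    show Ideal.span _ = Ideal.span (G : Set Ch)
    congr 1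
    ext z
    constructor
    · rintro ⟨g, rfl⟩
      show φ (y g) ∈ _
      rw [hy g]; exact g.2
    · intro hz
      exact ⟨⟨z, hz⟩, hy ⟨z, hz⟩⟩
  subst hLJ
  letI : Algebra (S ⧸ L) (Ch ⧸ L.map (algebraMap S Ch)) :=
    (Ideal.quotientMap (L.map (algebraMap S Ch)) (algebraMap S Ch) Ideal.le_comap_map).toAlgebra
  have h1 := PairUP.quotient (PairUP.of_isNbhd' hS hCh) L (fun r => rfl)
  haveI : IsScalarTower A (S ⧸ L) (Ch ⧸ L.map (algebraMap S Ch)) := IsScalarTower.of_algebraMap_eq fun a => by
    show Ideal.Quotient.mk _ (algebraMap A Ch a) = Ideal.Quotient.mk _ (algebraMap S Ch (algebraMap A S a))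
    rw [← IsScalarTower.algebraMap_apply]
  have hI : ((I.map (algebraMap A C)).map (algebraMap C S)).map (Ideal.Quotient.mk L) = I.map (algebraMap A (S ⧸ L)) := by
    rw [Ideal.map_map, Ideal.map_map]
    rfl
  have hK : (((I.map (algebraMap A C)).map (algebraMap C S)).map (Ideal.Quotient.mk L)).map
      (algebraMap (S ⧸ L) (Ch ⧸ L.map (algebraMap S Ch))) = I.map (algebraMap A (Ch ⧸ L.map (algebraMap S Ch))) := by
    rw [hI, Ideal.map_map, ← IsScalarTower.algebraMap_eq]
  obtain ⟨e⟩ := GRingHens.exists_cplEquiv_of_trunc (S ⧸ L) (Ch ⧸ L.map (algebraMap S Ch)) _ _ hK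
    (PairUP.quotientMap_pow_bijective h1)
  rw [hI] at e
  exact ⟨S ⧸ L, inferInstance, inferInstance, inferInstance, ⟨e.restrictScalars A⟩⟩

end Groth.Agent.S8801
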