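import Groth.Statements.S8802
import Groth.Agent.H2.CanExt.Stalk
import Groth.Agent.H2.CanExt.ModQuasi

set_option autoImplicit false
universe u
open CategoryTheory AlgebraicGeometry Opposite
open Algz

namespace Groth.Agent.S8802

/-- Let A be a Noetherian ring, I ⊆ 𝔞 ideals, U the complement of V(𝔞) in Spec A, and (F_n) an object of
Coh(U, IO_U), indexed here from 0. Assume: (1) there are f_1, …, f_d ∈ I such that for every point y
of U lying in V(I) the ideal IO_{U,y} is generated by the images of f_1, …, f_d and f_1, …, f_d form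
a regular sequence on the completed stalk F^∧_y over the completed local ring; (2) writing F_0 for
the first term of the system, both cohomology groups H^1(U, F_0) and H^0(U, F_0) are finitely
generated over A. Under these hypotheses the system (F_n) admits a canonical extension to all of
Spec A. -/
theorem result (A : Type u) [CommRing A] [IsNoetherianRing A] (I 𝔞 : Ideal A) (hI𝔞 : I ≤ 𝔞) (G : ℕᵒᵖ ⥤ (↑(LocCoh.puncturedOpen A 𝔞) : Scheme.{u}).Modules) (hG : Formal.IsCohFormal I G) (d : ℕ) (f : Fin d → A) (hfI : ∀ j, f j ∈ I) (h1 : ∀ (y : (↑(LocCoh.puncturedOpen A 𝔞) : Scheme.{u})), (LocCoh.puncturedOpen A 𝔞).ι.base y ∈ PrimeSpectrum.zeroLocus (R := A) I → Algz.stalkIdeal I y = Ideal.span (Set.range (fun j => Algz.toStalk A (↑(LocCoh.puncturedOpen A 𝔞) : Scheme.{u}) y (f j))) ∧ RingTheory.Sequence.IsRegular ↥(Algz.hatStalk I G y) (List.ofFn (fun j => algebraMap ((↑(LocCoh.puncturedOpen A 𝔞) : Scheme.{u}).presheaf.stalk y) (Algz.hatRing I y) (Algz.toStalk A (↑(LocCoh.puncturedOpen A 𝔞)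 : Scheme.{u}) y (f j))))) (h2 : Module.Finite A (Coh.HH (↑(LocCoh.puncturedOpen A 𝔞) : Scheme.{u}) (G.obj (op 0)) 0) ∧ Module.Finite A (Coh.HH (↑(LocCoh.puncturedOpen A 𝔞) : Scheme.{u}) (G.obj (op 0)) 1)) : Algz.CanonicallyExtends A I (LocCoh.puncturedOpen A 𝔞) G := by
  classical
  refine H2.CanExt.Crit.canonicallyExtends hG (fun n => ?_) h2.1 h2.2
  let S : Finset (Fin d →₀ ℕ) := Finset.finsuppAntidiag Finset.univ (n + 1)
  have hw : ∀ e : Fin d →₀ ℕ, Finsupp.weight (1 : Fin d → ℕ) e = ∑ j, e j := fun e => by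
    rw [Finsupp.weight_apply, Finsupp.sum_fintype _ _ (by simp)]
    simp
  have hdeg : ∀ e ∈ S, Finsupp.weight (1 : Fin d → ℕ) e = n + 1 := fun e he =>
    (hw e).trans (Finset.mem_finsuppAntidiag.1 he).1
  have hmem : ∀ e : Fin d →₀ ℕ, Finsupp.weight (1 : Fin d → ℕ) e = n + 1 → e ∈ S := fun e he =>
    Finset.mem_finsuppAntidiag.2 ⟨(hw e).symm.trans he, fun _ _ => Finset.mem_univ _⟩
  let E : Fin (Fintype.card S) → (Fin d →₀ ℕ) := fun i => ((Fintype.equivFin S).symm i).1
  have hE : ∀ i, Finsupp.weight (1 : Fin d → ℕ) (E i) = n + 1 := fun i => hdeg _ ((Fintype.equivFin S).symm i).2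
  let b : Fin (Fintype.card S) → A := fun i => (E i).prod fun j k => f j ^ k
  have hb : ∀ i, b i ∈ I ^ (n + 1) := fun i => by
    have h : b i ∈ ∏ j ∈ (E i).support, I ^ E i j :=
      Ideal.prod_mem_prod fun j _ => Ideal.pow_mem_pow (hfI j) _
    rw [Finset.prod_pow_eq_pow_sum] at h
    convert h using 2
    rw [← hE i, Finsupp.weight_apply]
    exact Finset.sum_congr rfl fun j _ => by simp
  refine ⟨_, b, hb, H2.CanExt.Stalk.isIso_desc hG b hb (fun y => ?_) (fun y x hx => ?_)⟩
  · by_cases hy : (LocCoh.puncturedOpen A 𝔞).ι.base y ∈ PrimeSpectrum.zeroLocus (R := A) I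
    · refine le_sup_of_le_left ?_
      rw [(h1 y hy).1]
      refine (H2.CanExt.ModQuasi.span_pow_le _ (n + 1)).trans (Ideal.span_mono ?_)
      rintro _ ⟨⟨e, he⟩, rfl⟩
      refine ⟨Fintype.equivFin S ⟨e, hmem e he⟩, ?_⟩
      show Algz.toStalk A _ y (b _) = _
      simp only [b, E, Equiv.symm_apply_apply, map_finsuppProd, map_pow]
    · rw [H2.CanExt.Stalk.stalkIdeal_eq_top y hy, Ideal.top_pow, Ideal.top_pow, sup_top_eq]
  · by_cases hy : (LocCoh.puncturedOpen A 𝔞).ι.base y ∈ PrimeSpectrum.zeroLocus (R := A) I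
    · obtain ⟨hJ, hreg⟩ := h1 y hy
      let O := ((↑(LocCoh.puncturedOpen A 𝔞) : Scheme.{u}).presheaf.stalk y)
      let α : O →+* Algz.hatRing I y := algebraMap O (Algz.hatRing I y)
      let τ := Algz.toStalk A (↑(LocCoh.puncturedOpen A 𝔞) : Scheme.{u}) y
      let f' : Fin d → Algz.hatRing I y := fun j => α (τ (f j))
      have hmap : (Algz.stalkIdeal I y).map α = Ideal.span (Set.range f') := by
        refine (congrArg (Ideal.map α) hJ).trans ?_
        rw [Ideal.map_span, ← Set.range_comp]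
        rfl
      have hx' : ∑ i, ((E i).prod fun j k => f' j ^ k) • x i ∈
          Ideal.span (Set.range f') ^ (n + 2) • (⊤ : Submodule (Algz.hatRing I y) ↥(Algz.hatStalk I G y)) := by
        have e : ∀ i, ((E i).prod fun j k => f' j ^ k) • x i = τ (b i) • x i := fun i => by
          rw [← algebraMap_smul (Algz.hatRing I y) (τ (b i)) (x i)]
          simp only [f', b, map_finsuppProd, map_pow]
          rfl
        simp only [e]
        refine Submodule.smul_induction_on hx (fun r hr z _ => ?_) fun _ _ ha hb => add_mem ha hb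
        rw [← algebraMap_smul (Algz.hatRing I y) r z, ← hmap, ← Ideal.map_pow]
        exact Submodule.smul_mem_smul (Ideal.mem_map_of_mem _ hr) trivial
      intro i
      have hi := H2.CanExt.ModQuasi.coeff_mem f' hreg.toIsWeaklyRegular (n + 1) E
        (Subtype.val_injective.comp (Fintype.equivFin S).symm.injective) hE x hx' i
      refine Submodule.smul_induction_on hi (fun r hr z _ => ?_) fun _ _ ha hb => add_mem ha hb
      obtain ⟨c, rfl⟩ := (Submodule.mem_span_range_iff_exists_fun _).1 hr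
      rw [Finset.sum_smul]
      refine Submodule.sum_mem _ fun j _ => ?_
      rw [smul_eq_mul, mul_comm, mul_smul, algebraMap_smul]
      refine Submodule.smul_mem_smul ?_ trivial
      rw [hJ]
      exact Ideal.subset_span ⟨j, rfl⟩
    · intro i
      have h : (1 : (↑(LocCoh.puncturedOpen A 𝔞) : Scheme.{u}).presheaf.stalk y) ∈ Algz.stalkIdeal I y :=
        (H2.CanExt.Stalk.stalkIdeal_eq_top y hy).ge trivial
      exact (one_smul ((↑(LocCoh.puncturedOpen A 𝔞) : Scheme.{u}).presheaf.stalk y) (x i)) ▸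
        Submodule.smul_mem_smul h trivial

end Groth.Agent.S8802
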