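import Groth.Statements.S8803
import Groth.Agent.Lib.LCFin.Artinian
import Mathlib.Algebra.Category.ModuleCat.Subobject
-- import your own Groth.Agent.* helpers here

set_option autoImplicit false
universe u
open CategoryTheory
open LocCoh

namespace Groth.Agent.S8803

/-- Let (A, m) be a Noetherian local ring and (M_n) an inverse system of finite A-modules. Then for
every i the inverse system H^i_m(M_n) of local cohomology modules satisfies the Mittag-Leffler
condition. -/
theorem result (A : Type u) [CommRing A] [IsNoetherianRing A] [IsLocalRing A] (Msys : ℕᵒᵖ ⥤ ModuleCat.{u} A) (hfin : ∀ n : ℕᵒᵖ, Module.Finite A (Msys.obj n)) (i : ℕ) : ARSys.IsML (Msys ⋙ localCohomology (IsLocalRing.maximalIdeal A) i) := by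
  intro n
  have hart : IsArtinian A ((Msys ⋙ localCohomology (IsLocalRing.maximalIdeal A) i).obj (Opposite.op n)) := by
    have := hfin (Opposite.op n)
    exact Lib.LCFin.Artinian.isArtinian_H (R := A) i (Msys.obj (Opposite.op n))
  set X := Msys ⋙ localCohomology (IsLocalRing.maximalIdeal A) i
  let r : ℕ → Submodule A (X.obj (Opposite.op n)) := fun s => LinearMap.range (ARSys.shiftMap X s n).hom
  have hanti : Antitone r := by
    intro s t hst
    rintro _ ⟨z, rfl⟩
    refine ⟨(X.map (homOfLE (show n + s ≤ n + t by omega)).op).hom z, ?_⟩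
    show (X.map _ ≫ X.map _).hom z = _
    exact LinearMap.congr_fun (congrArg ModuleCat.Hom.hom (X.map_comp _ _).symm) z
  obtain ⟨r₀, hr₀⟩ := monotone_stabilizes_iff_artinian.2 hart
    ⟨fun s => OrderDual.toDual (r s), fun s t h => hanti h⟩
  refine ⟨r₀, fun s hs => ?_⟩
  have h : r r₀ = r s := congrArg OrderDual.ofDual (hr₀ s hs)
  apply (ModuleCat.subobjectModule _).injective
  have key : ∀ {M N : ModuleCat.{u} A} (g : M ⟶ N),
      ModuleCat.subobjectModule N (CategoryTheory.Limits.imageSubobject g) = LinearMap.range g.hom := by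
    intro M N g
    show LinearMap.range (CategoryTheory.Limits.imageSubobject g).arrow.hom = _
    conv_rhs => rw [← CategoryTheory.Limits.imageSubobject_arrow_comp g, ModuleCat.hom_comp, LinearMap.range_comp]
    rw [LinearMap.range_eq_top.2 ((ModuleCat.epi_iff_surjective (CategoryTheory.Limits.factorThruImageSubobject g)).1 inferInstance), Submodule.map_top]
  rw [key, key]
  exact h.symm


end Groth.Agent.S8803
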