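import Groth.Statements.S8804
import Groth.Agent.Lib.Adic.RigClosed
import Mathlib.Tactic.TFAE

set_option autoImplicit false
universe u
open AdicRing

namespace Groth.Agent.S8804

/-- Let A be a Noetherian ring which is complete for the adic topology of an ideal I, and let q be a
prime ideal of A. The following are equivalent: (1) I ⊄ q and q is maximal among the primes not
containing I; (5) dim(A/q) = 1 and I ⊄ q; (8) A/q is a one-dimensional complete local ring whose
maximal ideal is the radical of the image of I (stated as: the Krull dimension of A/q is 1, every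
maximal ideal of A/q equals the radical of I(A/q), and A/q is adically complete for that radical).
(The other equivalent forms, for other ideals of definition or for the induced topology, are not
stated.) -/
theorem result (A : Type u) [CommRing A] [IsNoetherianRing A] (I : Ideal A) [IsAdicComplete I A] (q : PrimeSpectrum A) : List.TFAE [¬ I ≤ q.asIdeal ∧ ∀ q' : PrimeSpectrum A, q ≤ q' → ¬ I ≤ q'.asIdeal → q' = q, ringKrullDim (A ⧸ q.asIdeal) = 1 ∧ ¬ I ≤ q.asIdeal, ringKrullDim (A ⧸ q.asIdeal) = 1 ∧ (∀ m : Ideal (A ⧸ q.asIdeal), m.IsMaximal → m = (I.map (Ideal.Quotient.mk q.asIdeal)).radical) ∧ IsAdicComplete (I.map (Ideal.Quotient.mk q.asIdeal)).radical (A ⧸ q.asIdeal)] := by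
  tfae_have 1 → 2 := fun h => ⟨Lib.Adic.RigClosed.ringKrullDim_quotient_eq_one I h, h.1⟩
  tfae_have 2 → 3 := by
    rintro ⟨hd, hI⟩
    haveI := Lib.Adic.Complete.isAdicComplete_quotient (I := I) q.asIdeal
    haveI : Ring.KrullDimLE 1 (A ⧸ q.asIdeal) := Ring.krullDimLE_iff.2 hd.le
    refine ⟨hd, fun m hm => Lib.Adic.RigClosed.maximal_eq_radical
      ((Lib.Adic.RigClosed.map_ne_bot_iff I q).2 hI) hm, ?_⟩
    obtain ⟨N, hN⟩ := (I.map (Ideal.Quotient.mk q.asIdeal)).exists_radical_pow_le_of_fg
      ((isNoetherianRing_iff_ideal_fg _).1 inferInstance _)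
    exact Lib.Adic.Transfer.isAdicComplete_of_le Ideal.le_radical hN
  tfae_have 3 → 1 := by
    rintro ⟨hd, hm, -⟩
    refine Lib.Adic.RigClosed.of_ringKrullDim_eq_one I q hd fun hI => ?_
    have h0 : I.map (Ideal.Quotient.mk q.asIdeal) = ⊥ := by
      rw [Ideal.map_eq_bot_iff_le_ker, Ideal.mk_ker]; exact hI
    obtain ⟨m, hmax⟩ := Ideal.exists_maximal (A ⧸ q.asIdeal)
    have := hm m hmax
    rw [h0, Ideal.radical_bot_of_noZeroDivisors] at this
    subst this
    have hz : ringKrullDim (A ⧸ q.asIdeal) = 0 :=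
      ringKrullDimZero_iff_ringKrullDim_eq_zero.1
        (Ring.KrullDimLE.mk₀ fun P hP => (hmax.eq_of_le hP.ne_top bot_le) ▸ hmax)
    rw [hd] at hz
    exact one_ne_zero hz
  tfae_finish

end Groth.Agent.S8804
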