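import Groth.Statements.S8806
import Groth.Agent.H54.NLPerfect
import Groth.Agent.Lib.DR.TwoTerm
import Mathlib.LinearAlgebra.Matrix.NonsingularInverse

set_option autoImplicit false
universe u
open CategoryTheory
attribute [local instance] HasDerivedCategory.standard
open LCI

namespace Groth.Agent.S8806

open CategoryTheory CategoryTheory.Limits Groth.Agent.H54.NLPerfect

/-- A homotopy `h` with `h ∘ f = g` kills every morphism into a shifted module. -/
theorem smul_eq_zero_of_contraction {B : Type u} [CommRing B] {X Y : ModuleCat.{u} B} (f : X ⟶ Y)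
    [Module.Projective B Y] (g : B) (h : Y ⟶ X) (hh : f ≫ h = g • 𝟙 X) (Z : Dual.D B)
    (hZ : Z.IsLE (-1)) (φ : DerivedCategory.Q.obj (two f) ⟶ Z) : g • φ = 0 := by
  let O : ModuleCat.{u} B := ModuleCat.of B PUnit.{u+1}
  let z : O ⟶ Y := 0
  have hO : IsZero O := ModuleCat.isZero_of_subsingleton _
  let r : Y ⟶ Y := g • 𝟙 Y - h ≫ f
  have hr : f ≫ r = 0 := by simp [r, reassoc_of% hh]
  obtain ⟨H⟩ := nonempty_homotopy f f (g • 𝟙 X) 0 (g • 𝟙 Y) r (by simp) (by simp [hr]) h
    (by simp [hh]) (by simp [r])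
  have h1 : twoMap f f (g • 𝟙 X) (g • 𝟙 Y) (by simp) = g • 𝟙 (two f) := by
    apply HomologicalComplex.from_double_hom_ext <;> simp [twoMap]
  have h2 : twoMap f f 0 r (by simp [hr]) =
      twoMap f z 0 r (by simp [hr, z]) ≫ twoMap z f 0 (𝟙 Y) (by simp [z]) := by
    apply HomologicalComplex.from_double_hom_ext <;> simp [twoMap]
  have h3 : DerivedCategory.Q.map (g • 𝟙 (two f)) =
      DerivedCategory.Q.map (twoMap f z 0 r (by simp [hr, z]) ≫ twoMap z f 0 (𝟙 Y) (by simp [z])) := by
    rw [← h1, ← h2]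
    have h0 := HomotopyCategory.eq_of_homotopy _ _ H
    rw [← cancel_epi ((DerivedCategory.quotientCompQhIso (ModuleCat.{u} B)).hom.app (two f)),
      ← DerivedCategory.quotientCompQhIso_hom_naturality,
      ← DerivedCategory.quotientCompQhIso_hom_naturality, h0]
  haveI : (Lib.DR.TwoTerm.two z).IsKProjective :=
    Lib.DR.TwoTerm.isKProjective_two z (Lib.DR.PseudoCoherent.good_proj.zero hO) ‹_›
  have hz : ∀ i : ℤ, i < 0 → IsZero ((Lib.DR.TwoTerm.two z).X i) := fun i hi => by
    by_cases h1 : i = -1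
    · subst h1
      exact hO.of_iso (Lib.DR.TwoTerm.twoXIso₀ z)
    · exact Lib.DR.TwoTerm.isZero_two z i (Or.inl (by lia))
  have h4 : DerivedCategory.Q.map (twoMap z f 0 (𝟙 Y) (by simp [z])) ≫ φ = 0 :=
    Lib.DR.Basic.hom_eq_zero_of_isKProjective (E := Lib.DR.TwoTerm.two z) hz (by simpa using hZ) _
  calc g • φ = (g • 𝟙 _) ≫ φ := by rw [Linear.smul_comp, Category.id_comp]
    _ = DerivedCategory.Q.map (g • 𝟙 (two f)) ≫ φ := by rw [Functor.map_smul, CategoryTheory.Functor.map_id]
    _ = 0 := by rw [h3, Functor.map_comp, Category.assoc, h4, comp_zero]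

/-- A two-sided homotopy shows that `g` is zero in the derived category. -/
theorem smul_id_eq_zero {B : Type u} [CommRing B] {X Y : ModuleCat.{u} B} (f : X ⟶ Y)
    (g : B) (h : Y ⟶ X) (hh : f ≫ h = g • 𝟙 X) (hh' : h ≫ f = g • 𝟙 Y) :
    g • 𝟙 (DerivedCategory.Q.obj (two f)) = 0 := by
  obtain ⟨H⟩ := nonempty_homotopy f f (g • 𝟙 X) 0 (g • 𝟙 Y) 0 (by simp) (by simp) h
    (by simp [hh]) (by simp [hh'])
  have h1 : twoMap f f (g • 𝟙 X) (g • 𝟙 Y) (by simp) = g • 𝟙 (two f) := by
    apply HomologicalComplex.from_double_hom_ext <;> simp [twoMap]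
  have h2 : twoMap f f (0 : X ⟶ X) (0 : Y ⟶ Y) (by simp) = 0 := by
    apply HomologicalComplex.from_double_hom_ext <;> simp [twoMap]
  have h3 : DerivedCategory.Q.map (twoMap f f (g • 𝟙 X) (g • 𝟙 Y) (by simp)) =
      DerivedCategory.Q.map (twoMap f f (0 : X ⟶ X) (0 : Y ⟶ Y) (by simp)) := by
    have h0 := HomotopyCategory.eq_of_homotopy _ _ H
    rw [← cancel_epi ((DerivedCategory.quotientCompQhIso (ModuleCat.{u} B)).hom.app (two f)),
      ← DerivedCategory.quotientCompQhIso_hom_naturality,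
      ← DerivedCategory.quotientCompQhIso_hom_naturality, h0]
  rw [h1, h2, Functor.map_smul, CategoryTheory.Functor.map_id, Functor.map_zero] at h3
  exact h3

theorem smul_eq_zero_of_iso {B : Type u} [CommRing B] {X Y Z : Dual.D B} (e : X ≅ Y) (g : B) (φ : Y ⟶ Z)
    (h : g • (e.hom ≫ φ) = 0) : g • φ = 0 := by
  rw [← cancel_epi e.hom, Linear.comp_smul, h, comp_zero]

theorem smul_id_of_iso {B : Type u} [CommRing B] {X Y : Dual.D B} (e : X ≅ Y) (g : B)
    (h : g • 𝟙 X = 0) : g • 𝟙 Y = 0 := by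
  refine smul_eq_zero_of_iso e g _ ?_
  rw [Category.comp_id, ← Category.id_comp e.hom, ← Linear.smul_comp, h, zero_comp]

/-- The adjugate of the Jacobian matrix inverts the cotangent complex up to the determinant. -/
theorem exists_contraction {B C V : Type u} [CommRing B] [AddCommGroup C] [Module B C]
    [AddCommGroup V] [Module B V] (d : C →ₗ[B] V) {n m : ℕ} (hmn : m ≤ n)
    (b : Module.Basis (Fin n) B V) (c : Fin m → C) (hc : Submodule.span B (Set.range c) = ⊤)
    (D : Fin n → Fin m → B) (hd : ∀ l, d (c l) = ∑ k, D k l • b k) :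
    ∃ h : V →ₗ[B] C,
      h ∘ₗ d = (Matrix.of fun i j => D (Fin.castLE hmn i) j).det • LinearMap.id ∧
      (n = m → d ∘ₗ h = (Matrix.of fun i j => D (Fin.castLE hmn i) j).det • LinearMap.id) := by
  classical
  let M : Matrix (Fin m) (Fin m) B := Matrix.of fun i j => D (Fin.castLE hmn i) j
  let w : Fin n → C := fun k => if hk : k.1 < m then ∑ j, M.adjugate j ⟨k.1, hk⟩ • c j else 0
  let h : V →ₗ[B] C := b.constr B w
  have hb : ∀ k, h (b k) = w k := fun k => b.constr_basis B w k
  have hwc : ∀ i, w (Fin.castLE hmn i) = ∑ j, M.adjugate j i • c j := fun i => by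
    simp [w]
  refine ⟨h, LinearMap.ext_on hc ?_, ?_⟩
  · rintro _ ⟨l, rfl⟩
    rw [LinearMap.comp_apply, hd, map_sum, LinearMap.smul_apply, LinearMap.id_apply]
    simp only [map_smul, hb]
    rw [← Fintype.sum_of_injective (Fin.castLE hmn) (Fin.castLE_injective hmn)
      (fun i => D (Fin.castLE hmn i) l • w (Fin.castLE hmn i)) (fun k => D k l • w k)
      (fun k hk => by
        have : w k = 0 := dif_neg fun hkm => hk ⟨⟨k.1, hkm⟩, Fin.ext rfl⟩
        rw [this, smul_zero]) (fun i => rfl)]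
    simp only [hwc, Finset.smul_sum, smul_smul]
    rw [Finset.sum_comm]
    simp only [← Finset.sum_smul]
    have : ∀ j, ∑ i, D (Fin.castLE hmn i) l * M.adjugate j i = (M.det • (1 : Matrix _ _ B)) j l := fun j => by
      rw [← Matrix.adjugate_mul, Matrix.mul_apply]
      exact Finset.sum_congr rfl fun i _ => mul_comm _ _
    simp [this, Matrix.one_apply, M, ite_smul]
  · rintro rfl
    refine b.ext fun k => ?_
    obtain ⟨k, rfl⟩ : ∃ k', Fin.castLE hmn k' = k := ⟨k, Fin.ext rfl⟩
    rw [LinearMap.comp_apply, hb, hwc, map_sum, LinearMap.smul_apply, LinearMap.id_apply]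
    simp only [map_smul, hd, Finset.smul_sum, smul_smul]
    rw [Finset.sum_comm]
    simp only [← Finset.sum_smul]
    have : ∀ i, ∑ j, M.adjugate j k * D i j = (M.det • (1 : Matrix _ _ B)) i k := fun i => by
      rw [← Matrix.mul_adjugate, Matrix.mul_apply]
      exact Finset.sum_congr rfl fun j _ => mul_comm _ _
    simp only [this]
    simp [Matrix.one_apply, M, ite_smul]

/-- Let A be a ring, m ≤ n, f_1, …, f_m ∈ A[x_1, …, x_n], B = A[x_1, …, x_n]/(f_1, …, f_m), and g ∈ B
the image of the determinant of the m × m matrix of partial derivatives ∂f_j/∂x_i with i, j ≤ m (the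
first m variables). Then: (1) for every B-module N, g annihilates Ext^1_B(NL_{B/A}, N), i.e. every
morphism NL_{B/A} → N[1] in D(B) is killed by g; (2) if n = m then multiplication by g on NL_{B/A}
is the zero endomorphism in D(B). -/
theorem result (A : Type u) [CommRing A] (n m : ℕ) (hmn : m ≤ n) (f : Fin m → MvPolynomial (Fin n) A) : (∀ (N : Type u) [AddCommGroup N] [Module (MvPolynomial (Fin n) A ⧸ Ideal.span (Set.range f)) N] (φ : LCI.NL A (MvPolynomial (Fin n) A ⧸ Ideal.span (Set.range f)) ⟶ (Dual.inD (MvPolynomial (Fin n) A ⧸ Ideal.span (Set.range f)) N)⟦(1 : ℤ)⟧), (Ideal.Quotient.mk (Ideal.span (Set.range f)) (Matrix.det (Matrix.of (fun i j : Fin m => MvPolynomial.pderiv (Fin.castLE hmn i) (f j))))) • φ = 0) ∧ (n = m → (Ideal.Quotient.mk (Ideal.span (Set.range f)) (Matrix.det (Matrix.of (fun i j : Fin m => MvPolynomial.pderiv (Fin.castLE hmn i) (f j))))) • 𝟙 (LCI.NL A (MvPolynomial (Fin n) A ⧸ Ideal.span (Set.range f))) = 0) := by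
  classical
  let s : MvPolynomial (Fin n) A ⧸ Ideal.span (Set.range f) → MvPolynomial (Fin n) A :=
    Function.surjInv Ideal.Quotient.mk_surjective
  let G : Algebra.Generators A (MvPolynomial (Fin n) A ⧸ Ideal.span (Set.range f)) (Fin n) :=
    Algebra.Generators.naive s (fun x => Function.surjInv_eq Ideal.Quotient.mk_surjective x)
  let P := G.toExtension
  have hker : G.ker = Ideal.span (Set.range f) := Algebra.Generators.ker_naive s _
  have hmem : ∀ j, f j ∈ P.ker := fun j => hker.ge (Ideal.subset_span ⟨j, rfl⟩)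
  let c : Fin m → P.Cotangent := fun j => Algebra.Extension.Cotangent.mk ⟨f j, hmem j⟩
  have hc : Submodule.span (MvPolynomial (Fin n) A ⧸ Ideal.span (Set.range f)) (Set.range c) = ⊤ := by
    rw [eq_top_iff]
    rintro x -
    obtain ⟨⟨y, hy⟩, rfl⟩ := Algebra.Extension.Cotangent.mk_surjective x
    obtain ⟨a, ha⟩ := Ideal.mem_span_range_iff_exists_fun.1 (hker.le hy)
    have : (⟨y, hy⟩ : P.ker) = ∑ j, (show P.Ring from a j) • (⟨f j, hmem j⟩ : P.ker) :=
      Subtype.ext (by rw [Submodule.coe_sum]; exact ha.symm)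
    rw [this, map_sum]
    refine Submodule.sum_mem _ fun j _ => ?_
    rw [map_smul, ← algebraMap_smul (MvPolynomial (Fin n) A ⧸ Ideal.span (Set.range f))]
    exact Submodule.smul_mem _ _ (Submodule.subset_span ⟨j, rfl⟩)
  have hd : ∀ l, P.cotangentComplex (c l) = ∑ k, Ideal.Quotient.mk (Ideal.span (Set.range f))
      (MvPolynomial.pderiv k (f l)) • G.cotangentSpaceBasis k := fun l => by
    refine G.cotangentSpaceBasis.repr.injective (Finsupp.ext fun k => ?_)
    rw [Module.Basis.repr_sum_self, Algebra.Extension.cotangentComplex_mk,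
      G.cotangentSpaceBasis_repr_one_tmul, ← G.algebraMap_apply]
    rfl
  obtain ⟨h, hh, hh'⟩ := exists_contraction P.cotangentComplex hmn G.cotangentSpaceBasis c hc
    (fun k l => Ideal.Quotient.mk (Ideal.span (Set.range f)) (MvPolynomial.pderiv k (f l))) hd
  have hdet : (Matrix.of fun i j : Fin m => Ideal.Quotient.mk (Ideal.span (Set.range f))
      (MvPolynomial.pderiv (Fin.castLE hmn i) (f j))).det = Ideal.Quotient.mk (Ideal.span (Set.range f))
      (Matrix.det (Matrix.of (fun i j : Fin m => MvPolynomial.pderiv (Fin.castLE hmn i) (f j)))) := by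
    rw [RingHom.map_det]
    rfl
  rw [hdet] at hh hh'
  generalize Ideal.Quotient.mk (Ideal.span (Set.range f))
      (Matrix.det (Matrix.of (fun i j : Fin m => MvPolynomial.pderiv (Fin.castLE hmn i) (f j)))) = g at hh hh' ⊢
  have hX : ModuleCat.ofHom P.cotangentComplex ≫ ModuleCat.ofHom h = g • 𝟙 _ :=
    ModuleCat.hom_ext hh
  haveI : Module.Projective (MvPolynomial (Fin n) A ⧸ Ideal.span (Set.range f)) P.CotangentSpace :=
    Module.Projective.of_basis G.cotangentSpaceBasis
  obtain ⟨e⟩ := nonempty_iso_presentations P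
    (Algebra.Generators.self A (MvPolynomial (Fin n) A ⧸ Ideal.span (Set.range f))).toExtension
    (G.defaultHom (Algebra.Generators.self A _)).toExtensionHom
    ((Algebra.Generators.self A _).defaultHom G).toExtensionHom
  refine ⟨fun N _ _ φ => ?_, fun hnm => ?_⟩
  · have hN : DerivedCategory.IsLE ((Dual.inD (MvPolynomial (Fin n) A ⧸ Ideal.span (Set.range f)) N)⟦(1 : ℤ)⟧) (-1) :=
      (Lib.DR.Basic.isLE_shift_iff' _ 1 0 (-1) (by lia)).2 inferInstance
    have key := smul_eq_zero_of_contraction (ModuleCat.ofHom P.cotangentComplex) g (ModuleCat.ofHom h) hX _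
      hN (e.hom ≫ φ)
    exact smul_eq_zero_of_iso e g φ key
  · have key := smul_id_eq_zero (ModuleCat.ofHom P.cotangentComplex) g (ModuleCat.ofHom h) hX
      (ModuleCat.hom_ext (hh' hnm))
    exact smul_id_of_iso e g key

end Groth.Agent.S8806
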