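import Groth.Statements.S8808
import Groth.Agent.Lib.RGamma.ComplMain
import Groth.Agent.Lib.RGamma.CompletionKillDepth
import Groth.Agent.Lib.RGamma.CompletionKillBound
import Groth.Agent.Lib.LocalCoh.Height
import Groth.Agent.Lib.DMod.DimDegree

set_option autoImplicit false
universe u
open CategoryTheory
attribute [local instance] HasDerivedCategory.standard
open LocCoh

namespace Groth.Agent.S8808

open Groth.Agent.Lib
open scoped Pointwise

set_option backward.isDefEq.respectTransparency false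

section

variable {A : Type u} [CommRing A] [IsNoetherianRing A]

/-- `depth M_p` as notation. -/
noncomputable abbrev dep (p : PrimeSpectrum A) (M : Type u) [AddCommGroup M] [Module A M] : ℕ∞ :=
  LocCoh.depth (Localization.AtPrime p.asIdeal) (LocalizedModule p.asIdeal.primeCompl M)

/-- `dim M_p` as notation. -/
noncomputable abbrev sdim (p : PrimeSpectrum A) (M : Type u) [AddCommGroup M] [Module A M] :
    WithBot ℕ∞ :=
  Module.supportDim (Localization.AtPrime p.asIdeal) (LocalizedModule p.asIdeal.primeCompl M)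

variable (I J : Ideal A) (d : ℕ) (T : Set (PrimeSpectrum A)) (δ : PrimeSpectrum A → ℤ)

/-- Condition (4). -/
def Cond4 (s : ℕ) (M : Type u) [AddCommGroup M] [Module A M] : Prop :=
  ∀ p : PrimeSpectrum A, ¬ I ≤ p.asIdeal → p ∉ T → ∀ q : PrimeSpectrum A, p ≤ q → J ≤ q.asIdeal →
    I ≤ q.asIdeal → (s : ℕ∞) ≤ dep p M ∨ (((d + s : ℕ) : ℕ∞) : WithBot ℕ∞) <
      ((dep p M : ℕ∞) : WithBot ℕ∞) + Formal2.dimBetween A p.asIdeal q.asIdeal

/-- Condition (5). -/
def Cond5 (s : ℕ) (M : Type u) [AddCommGroup M] [Module A M] : Prop :=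
  ∀ p : PrimeSpectrum A, ¬ I ≤ p.asIdeal → p ∉ T →
    (∃ q : PrimeSpectrum A, p ≤ q ∧ J ≤ q.asIdeal ∧ I ≤ q.asIdeal) → dep p M < (s : ℕ∞) →
      sdim p M < ((s + 2 : ℕ) : WithBot ℕ∞) ∨
      (∀ q' : PrimeSpectrum A, J ≤ q'.asIdeal → I ≤ q'.asIdeal → (d : ℤ) + δ q' - 1 < δ p) ∨
      (∀ q : PrimeSpectrum A, p ≤ q → J ≤ q.asIdeal → I ≤ q.asIdeal → ∀ q₁ q₂ : PrimeSpectrum A,
        J ≤ q₁.asIdeal → I ≤ q₁.asIdeal → J ≤ q₂.asIdeal → I ≤ q₂.asIdeal → ∀ k : ℕ,
          (k : ℤ) = (d : ℤ) + s + (δ q₁ - δ q₂) - 2 → ((k : ℕ∞) : WithBot ℕ∞) <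
            ((dep p M : ℕ∞) : WithBot ℕ∞) + Formal2.dimBetween A p.asIdeal q.asIdeal)

variable {δ} in
/-- Dimension functions differ from the degree by a constant along specializations. -/
theorem δ_sub {ω : Dual.D A} (hω : Dual.IsDualizing A ω)
    (hδ : ∀ p q : PrimeSpectrum A, p ⋖ q → δ p = δ q + 1) (p q : PrimeSpectrum A) (h : p ≤ q) :
    δ p - δ q = DMod.Degree.deg hω q - DMod.Degree.deg hω p := by
  have key : ∀ (n : ℕ) (p : PrimeSpectrum A), p ≤ q →
      DMod.Degree.deg hω q = DMod.Degree.deg hω p + n → δ p - δ q = n := by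
    intro n
    induction n with
    | zero =>
      intro p hp hn
      rcases hp.eq_or_lt with e | e
      · subst e; simp
      · have := DMod.Degree.deg_lt hω e; omega
    | succ n ih =>
      intro p hp hn
      rcases hp.eq_or_lt with e | e
      · subst e; omega
      · obtain ⟨r, hpr, hrq, hr⟩ := DMod.DimDegree.exists_next hω e
        have hcov : p ⋖ r := ⟨hpr, fun s h₁ h₂ => by
          have := DMod.Degree.deg_lt hω h₁
          have := DMod.Degree.deg_lt hω h₂
          omega⟩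
        have := hδ p r hcov
        have := ih r hrq (by omega)
        omega
  have := DMod.Degree.deg_le hω h
  have := key (DMod.Degree.deg hω q - DMod.Degree.deg hω p).toNat p h (by omega)
  omega

variable {I} in
/-- Primes meeting `V(I)` minimally have small coheight. -/
theorem exists_close (hI : I ≤ (⊥ : Ideal A).jacobson) (hcd : LocCoh.CdLE A I d) {ω : Dual.D A}
    (hω : Dual.IsDualizing A ω) (p : PrimeSpectrum A) :
    ∃ q : PrimeSpectrum A, p ≤ q ∧ I ≤ q.asIdeal ∧
      DMod.Degree.deg hω q - DMod.Degree.deg hω p ≤ d := by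
  obtain ⟨m, hm, hpm⟩ := Ideal.exists_le_maximal _ p.isPrime.ne_top
  have hIm : I ≤ m := hI.trans (sInf_le ⟨bot_le, hm⟩)
  obtain ⟨Q, hQ, -⟩ := Ideal.exists_minimalPrimes_le (sup_le hpm hIm)
  have := hQ.1.1
  refine ⟨⟨Q, this⟩, le_sup_left.trans hQ.1.2, le_sup_right.trans hQ.1.2, ?_⟩
  let B := A ⧸ p.asIdeal
  let π := Ideal.Quotient.mk p.asIdeal
  have hB : LocCoh.CdLE B (I.map (algebraMap A B)) d := LCFin.Cd.cdLE_map hcd
  have hpQ : p.asIdeal ≤ Q := le_sup_left.trans hQ.1.2
  let Q' : Ideal B := Q.map π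
  have hQ'p : Q'.IsPrime := Ideal.isPrime_map_quotientMk_of_isPrime hpQ
  have hker : ∀ R : Ideal A, p.asIdeal ≤ R → (R.map π).comap π = R := fun R hR => by
    rw [Ideal.comap_map_of_surjective _ Ideal.Quotient.mk_surjective, ← RingHom.ker_eq_comap_bot,
      Ideal.mk_ker, sup_eq_left]
    exact hR
  have hmin : Q' ∈ (I.map (algebraMap A B)).minimalPrimes := by
    refine ⟨⟨hQ'p, Ideal.map_mono (le_sup_right.trans hQ.1.2)⟩, fun P hP hPQ => ?_⟩
    have := hP.1
    have h1 : Q ≤ P.comap π := hQ.2 ⟨Ideal.IsPrime.comap _, sup_le (fun x hx => by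
        show π x ∈ P
        rw [Ideal.Quotient.eq_zero_iff_mem.2 hx]
        exact P.zero_mem) (Ideal.map_le_iff_le_comap.1 hP.2)⟩
      ((Ideal.comap_mono hPQ).trans (hker Q hpQ).le)
    exact (Ideal.map_mono h1).trans Ideal.map_comap_le
  have h1 := LocalCoh.Height.height_le_of_cdLE _ d hB _ hmin
  obtain ⟨c, hc, hc₁, hc₂⟩ := DMod.DimDegree.exists_series hω
    (DMod.Degree.deg hω (⟨Q, this⟩ : PrimeSpectrum A) - DMod.Degree.deg hω p).toNat p ⟨Q, this⟩ hpQ
    (by have := DMod.Degree.deg_le hω (show p ≤ ⟨Q, this⟩ from hpQ); omega)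
  have hle : ∀ i, p.asIdeal ≤ (c i).asIdeal := fun i => by
    have := c.head_le i
    rw [hc₁] at this
    exact this
  let c' : LTSeries (PrimeSpectrum B) := LTSeries.mk c.length
    (fun i => ⟨(c i).asIdeal.map π, Ideal.isPrime_map_quotientMk_of_isPrime (hle i)⟩)
    (fun i j hij => lt_of_le_not_ge (Ideal.map_mono (c.strictMono hij).le) fun h => by
      have h' : ((c j).asIdeal.map π).comap π ≤ ((c i).asIdeal.map π).comap π := Ideal.comap_mono h
      rw [hker _ (hle i), hker _ (hle j)] at h'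
      exact absurd (c.strictMono hij) (not_lt_of_ge h'))
  have hlast : RelSeries.last c' = ⟨Q', hQ'p⟩ := PrimeSpectrum.ext (by
    show (c (Fin.last _)).asIdeal.map π = Q.map π
    rw [show c (Fin.last _) = ⟨Q, this⟩ from hc₂])
  have h2 : (c'.length : ℕ∞) ≤ Q'.height := by
    rw [show Q'.height = Order.height (⟨Q', hQ'p⟩ : PrimeSpectrum B) from
      PrimeSpectrum.height_eq_orderHeight ⟨Q', hQ'p⟩]
    exact Order.length_le_height hlast.le
  have h3 : c'.length ≤ d := by exact_mod_cast h2.trans h1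
  have h4 : c'.length = c.length := rfl
  omega

variable {I J d T δ} in
theorem not_bad (hT : ∀ p : PrimeSpectrum A, p ∈ T ↔ RGamma.ComplMain.InT I J p)
    {p q : PrimeSpectrum A} (hp : ¬ I ≤ p.asIdeal) (hpT : p ∉ T) (hpq : p ≤ q) (hJ : J ≤ q.asIdeal)
    (hI : I ≤ q.asIdeal) : ¬ RGamma.ComplMain.Bad I J p := by
  rintro (h | h | h)
  exacts [hp h, hpT ((hT p).2 h), h q hpq hI hJ]

variable {I J d T δ}

theorem cond4_quot {ω : Dual.D A} (hω : Dual.IsDualizing A ω) (s : ℕ) (M : Type u) [AddCommGroup M]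
    [Module A M] [Module.Finite A M] {f : A} (hf : IsSMulRegular M f)
    (h : Cond4 I J d T (s + 1) M) : Cond4 I J d T s (QuotSMulTop f M) := by
  intro p hp hpT q hpq hJ hI
  have h' := h p hp hpT q hpq hJ hI
  have hle : dep p M ≤ dep p (QuotSMulTop f M) + 1 := RGamma.ComplModule.depth_le_quot M hf p
  rw [LCFin.Bootstrap.dimBetween_eq hω p q hpq] at h' ⊢
  generalize dep p (QuotSMulTop f M) = D' at hle ⊢
  generalize dep p M = D at hle h'
  induction D' with
  | top => exact Or.inl le_top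
  | coe b =>
    induction D with
    | top => simp at hle
    | coe a =>
      have hab : a ≤ b + 1 := by exact_mod_cast hle
      rcases h' with h' | h'
      · have : s + 1 ≤ a := by exact_mod_cast h'
        exact Or.inl (by exact_mod_cast (show s ≤ b by omega))
      · have : d + (s + 1) < a + (DMod.Degree.deg hω q - DMod.Degree.deg hω p).toNat := by
          exact_mod_cast h'
        exact Or.inr (by exact_mod_cast
          (show d + s < b + (DMod.Degree.deg hω q - DMod.Degree.deg hω p).toNat by omega))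

theorem cond5_quot {ω : Dual.D A} (hω : Dual.IsDualizing A ω) (s : ℕ) (M : Type u) [AddCommGroup M]
    [Module A M] [Module.Finite A M] {f : A} (hf : IsSMulRegular M f)
    (h : Cond5 I J d T δ (s + 1) M) : Cond5 I J d T δ s (QuotSMulTop f M) := by
  intro p hp hpT hex hlt
  have hle : dep p M ≤ dep p (QuotSMulTop f M) + 1 := RGamma.ComplModule.depth_le_quot M hf p
  obtain ⟨b, hb⟩ : ∃ b : ℕ, dep p (QuotSMulTop f M) = b :=
    ⟨_, (ENat.natCast_toNat hlt.ne_top).symm⟩
  rw [hb] at hle hlt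
  obtain ⟨a, ha⟩ : ∃ a : ℕ, dep p M = a :=
    ⟨_, (ENat.natCast_toNat (ne_top_of_le_ne_top (by simp) hle)).symm⟩
  have hbs : b < s := by exact_mod_cast hlt
  rw [ha] at hle
  have hab : a ≤ b + 1 := by exact_mod_cast hle
  rcases h p hp hpT hex (by rw [ha]; exact_mod_cast (show a < s + 1 by omega)) with h' | h' | h'
  · left
    by_cases hfp : f ∈ p.asIdeal
    · let R := Localization.AtPrime p.asIdeal
      let ψ := LocalizedModule.mkLinearMap p.asIdeal.primeCompl M
      have hfp' : algebraMap A R f ∈ IsLocalRing.maximalIdeal R :=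
        (IsLocalization.AtPrime.to_map_mem_maximal_iff R p.asIdeal f).mpr hfp
      have := Module.Finite.of_isLocalizedModule p.asIdeal.primeCompl (Rₚ := R) ψ
      have hfr : IsSMulRegular (LocalizedModule p.asIdeal.primeCompl M) (algebraMap A R f) := by
        simpa using RingTheory.Sequence.IsWeaklyRegular.of_isLocalizedModule R p.asIdeal.primeCompl ψ
          ((RingTheory.Sequence.isWeaklyRegular_singleton_iff M f).mpr hf)
      have e := Module.supportDim_quotSMulTop_succ_eq_supportDim hfr hfp'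
      rw [← Module.supportDim_eq_of_equiv (Depth.CM.quotSMulTopLocalizedEquiv p.asIdeal M f)] at e
      change sdim p (QuotSMulTop f M) + 1 = sdim p M at e
      generalize sdim p (QuotSMulTop f M) = D' at e ⊢
      generalize sdim p M = D at e h'
      subst e
      induction D' with
      | bot => exact WithBot.bot_lt_coe _
      | coe D' =>
        change ((D' + 1 : ℕ∞) : WithBot ℕ∞) < (((s + 1 + 2 : ℕ) : ℕ∞) : WithBot ℕ∞) at h'
        change ((D' : ℕ∞) : WithBot ℕ∞) < (((s + 2 : ℕ) : ℕ∞) : WithBot ℕ∞)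
        rw [WithBot.coe_lt_coe] at h' ⊢
        induction D' with
        | top => simp at h'
        | coe c =>
          have : c + 1 < s + 1 + 2 := by exact_mod_cast h'
          exact_mod_cast (show c < s + 2 by omega)
    · exfalso
      have : Subsingleton (LocalizedModule p.asIdeal.primeCompl (QuotSMulTop f M)) := by
        refine Module.notMem_support_iff.1 fun h => hfp ?_
        rw [Module.support_quotSMulTop] at h
        simpa using h.2
      rw [dep, LocCoh.depth, Depth.Basic.idealDepth_subsingleton] at hb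
      exact ENat.natCast_ne_top b hb.symm
  · exact Or.inr (Or.inl h')
  · refine Or.inr (Or.inr fun q hpq hJ hI q₁ q₂ h₁ h₂ h₃ h₄ k hk => ?_)
    have := h' q hpq hJ hI q₁ q₂ h₁ h₂ h₃ h₄ (k + 1) (by push_cast; omega)
    rw [ha, LCFin.Bootstrap.dimBetween_eq hω p q hpq] at this
    rw [hb, LCFin.Bootstrap.dimBetween_eq hω p q hpq]
    have h'' : k + 1 < a + (DMod.Degree.deg hω q - DMod.Degree.deg hω p).toNat := by
      exact_mod_cast this
    exact_mod_cast (show k < b + (DMod.Degree.deg hω q - DMod.Degree.deg hω p).toNat by omega)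

/-- At an associated prime outside the bad set, the completion is killed in low degrees. -/
theorem kill {ω : Dual.D A} (hω : Dual.IsDualizing A ω)
    (hδ : ∀ p q : PrimeSpectrum A, p ⋖ q → δ p = δ q + 1)
    (hT : ∀ p : PrimeSpectrum A, p ∈ T ↔ RGamma.ComplMain.InT I J p)
    [DRing.HasDerivedCompletion I] [DRing.HasRgammaI J] (hcd : LocCoh.CdLE A I d)
    (s : ℕ) (M : Type u) [AddCommGroup M] [Module A M] [Module.Finite A M]
    (h₄ : Cond4 I J d T (s + 1) M) (h₅ : Cond5 I J d T δ (s + 1) M) (p : PrimeSpectrum A)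
    (hass : p.asIdeal ∈ associatedPrimes A M) (hbad : ¬ RGamma.ComplMain.Bad I J p) :
    ∃ f : A, f ∉ p.asIdeal ∧ ∀ i : ℤ, i ≤ (s + 1 : ℕ) → ∀ x : Dual.HD A
      ((DRing.derivedCompletion I).obj ((DRing.RgammaI J).obj (Dual.inD A M))).obj i, f • x = 0 := by
  obtain ⟨q₀, hpq₀, hI₀, hJ₀⟩ : ∃ q₀ : PrimeSpectrum A, p ≤ q₀ ∧ I ≤ q₀.asIdeal ∧ J ≤ q₀.asIdeal := by
    by_contra hc
    push Not at hc
    exact hbad (Or.inr (Or.inr hc))
  have hsub : ∀ r : PrimeSpectrum A, r ≤ p → ¬ I ≤ r.asIdeal ∧ r ∉ T := fun r hr =>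
    ⟨fun h => hbad (RGamma.ComplMain.bad_mono hr (Or.inl h)),
      fun h => hbad (RGamma.ComplMain.bad_mono hr (Or.inr (Or.inl ((hT r).1 h))))⟩
  have hp0 : dep p M = 0 := by
    have hm := Module.associatedPrimes.mem_associatedPrimes_atPrime_of_mem_associatedPrimes hass
    have : Nontrivial (LocalizedModule p.asIdeal.primeCompl M) := by
      obtain ⟨-, z, hz⟩ := isAssociatedPrime_iff.1 hm
      by_contra hc
      rw [not_nontrivial_iff_subsingleton] at hc
      apply (IsLocalRing.maximalIdeal.isMaximal (Localization.AtPrime p.asIdeal)).ne_top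
      rw [hz, eq_top_iff]
      intro a _
      rw [Submodule.mem_colon_singleton]
      simp [Subsingleton.elim z 0]
    have := Module.Finite.of_isLocalizedModule p.asIdeal.primeCompl (Rₚ := Localization.AtPrime p.asIdeal)
      (LocalizedModule.mkLinearMap p.asIdeal.primeCompl M)
    exact (Depth.Assoc.depth_eq_zero_iff _).2 hm
  refine RGamma.CompletionKill.exists_notMem_kill hω M I J p (s + 1) d hcd
    fun p' q hp' hq hJ hI j hj g => RGamma.CompletionKill.hom_kill_of_lt_depth hω M p' j (fun k hk => ?_) g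
  have hg := DMod.Degree.deg_le hω hq
  by_cases hsupp : p' ∈ Module.support A M
  swap
  · have : Subsingleton (LocalizedModule p'.asIdeal.primeCompl M) := Module.notMem_support_iff.1 hsupp
    rw [LocCoh.depth, Depth.Basic.idealDepth_subsingleton]
    exact ENat.natCast_lt_top k
  have hb := h₄ p' (hsub p' hp').1 (hsub p' hp').2 q hq hJ hI
  rw [LCFin.Bootstrap.dimBetween_eq hω p' q hq] at hb
  by_cases htop : dep p' M = ⊤
  · exact lt_of_lt_of_le (ENat.natCast_lt_top k) htop.ge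
  obtain ⟨n, hn⟩ : ∃ n : ℕ, dep p' M = n := ⟨_, (ENat.natCast_toNat htop).symm⟩
  change (k : ℕ∞) < dep p' M
  rw [hn] at hb ⊢
  suffices hkn : k < n by exact_mod_cast hkn
  push_cast at hj
  rcases hb with hb | hb
  swap
  · have : d + (s + 1) < n + (DMod.Degree.deg hω q - DMod.Degree.deg hω p').toNat := by
      exact_mod_cast hb
    omega
  have hns : s + 1 ≤ n := by exact_mod_cast hb
  suffices (d : ℤ) < DMod.Degree.deg hω q - DMod.Degree.deg hω p' by omega
  have hlt : p' < p := lt_of_le_of_ne hp' fun e => by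
    rw [e, hp0] at hn
    have : (0 : ℕ) = n := by exact_mod_cast hn
    omega
  have hdp := DMod.Degree.deg_lt hω hlt
  have hδp := δ_sub hω hδ p' q hq
  have hδp' := δ_sub hω hδ p' p hp'
  rcases h₅ p (hsub p le_rfl).1 (hsub p le_rfl).2 ⟨q₀, hpq₀, hJ₀, hI₀⟩
    (by rw [hp0]; exact_mod_cast Nat.succ_pos s) with ha | hb' | hc
  · obtain ⟨r, hrp', hr, hrmin⟩ := DMod.DimDegree.exists_min_deg hω p' M hsupp
    obtain ⟨r₀, hr₀p, hr₀, hr₀min⟩ := DMod.DimDegree.exists_min_deg hω p M
      (Module.mem_support_mono hp' hsupp)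
    have e := DMod.DimDegree.supportDim_localized_eq hω p r₀ M hr₀p hr₀ hr₀min
    rw [sdim, e] at ha
    have ha' : (DMod.Degree.deg hω p - DMod.Degree.deg hω r₀).toNat < s + 1 + 2 := by exact_mod_cast ha
    have h1 := hr₀min r hr (hrp'.trans hp')
    have hr0 : dep r M = 0 := by
      have e' := DMod.DimDegree.supportDim_localized_eq hω r r M le_rfl hr
        fun t ht htr => hrmin t ht (htr.trans hrp')
      have hfin := Module.Finite.of_isLocalizedModule r.asIdeal.primeCompl (Rₚ := Localization.AtPrime r.asIdeal)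
        (LocalizedModule.mkLinearMap r.asIdeal.primeCompl M)
      have : Nontrivial (LocalizedModule r.asIdeal.primeCompl M) := Module.mem_support_iff.1 hr
      have h2 := Depth.Assoc.depth_le_supportDim (R := Localization.AtPrime r.asIdeal)
        (LocalizedModule r.asIdeal.primeCompl M)
      rw [e', sub_self, Int.toNat_zero] at h2
      exact nonpos_iff_eq_zero.1 (by exact_mod_cast h2)
    have hr4 := h₄ r (hsub r (hrp'.trans hp')).1 (hsub r (hrp'.trans hp')).2 q (hrp'.trans hq) hJ hI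
    rw [hr0, LCFin.Bootstrap.dimBetween_eq hω r q (hrp'.trans hq)] at hr4
    rcases hr4 with h | h
    · have : s + 1 ≤ 0 := by exact_mod_cast h
      omega
    · have h' : d + (s + 1) < 0 + (DMod.Degree.deg hω q - DMod.Degree.deg hω r).toNat := by
        exact_mod_cast h
      have h5 := DMod.Degree.deg_le hω hrp'
      omega
  · have := hb' q hJ hI
    omega
  · have hp4 := h₄ p (hsub p le_rfl).1 (hsub p le_rfl).2 q₀ hpq₀ hJ₀ hI₀
    rw [hp0, LCFin.Bootstrap.dimBetween_eq hω p q₀ hpq₀] at hp4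
    have hδ₀ := δ_sub hω hδ p q₀ hpq₀
    have hd₀ := DMod.Degree.deg_le hω hpq₀
    rcases hp4 with h | h
    · have : s + 1 ≤ 0 := by exact_mod_cast h
      omega
    have h0 : d + (s + 1) < 0 + (DMod.Degree.deg hω q₀ - DMod.Degree.deg hω p).toNat := by
      exact_mod_cast h
    by_cases hk0 : 0 ≤ (d : ℤ) + (s + 1 : ℕ) + (δ q - δ q₀) - 2
    · have h := hc q₀ hpq₀ hJ₀ hI₀ q q₀ hJ hI hJ₀ hI₀ _ (Int.toNat_of_nonneg hk0)
      rw [hp0, LCFin.Bootstrap.dimBetween_eq hω p q₀ hpq₀] at h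
      have h' : ((d : ℤ) + (s + 1 : ℕ) + (δ q - δ q₀) - 2).toNat <
          0 + (DMod.Degree.deg hω q₀ - DMod.Degree.deg hω p).toNat := by exact_mod_cast h
      omega
    · omega

end

/-- Let A be a Noetherian ring which is I-adically complete for an ideal I and has a dualizing complex;
let J be an ideal, M a finite A-module, s a natural, d a natural with cd(A, I) ≤ d, T the set of
primes p with V(p) ∩ V(I) ⊆ V(J), and δ a dimension function on Spec A (δ(p) = δ(q) + 1 when q is an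
immediate specialization of p). Assume: (4) every prime p ∉ V(I) not in T has depth(M_p) ≥ s or
depth(M_p) + dim((A/p)_q) > d + s for all q ∈ V(p) ∩ V(J) ∩ V(I); (5) every prime p ∉ V(I) not in T
with V(p) ∩ V(J) ∩ V(I) nonempty and depth(M_p) < s satisfies one of: (a) the support of M_p has
dimension < s + 2; (b) δ(p) > d + δ(q') − 1 for every q' ∈ V(J) ∩ V(I); (c) depth(M_p) +
dim((A/p)_q) > d + s + (δ(q₁) − δ(q₂)) − 2 for all q ∈ V(p) ∩ V(J) ∩ V(I) and all q₁, q₂ ∈ V(J) ∩
V(I). Assume derived I-adic completion (left adjoint to the inclusion of derived complete objects)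
exists on D(A). Then there is an ideal J₀ ⊆ J with V(J₀) ∩ V(I) = V(J) ∩ V(I) such that for every J'
⊆ J₀ with V(J') ∩ V(I) = V(J) ∩ V(I) whose total right derived functor RΓ_{J'} exists, the canonical
map from RΓ_{J'}(M) to its derived I-adic completion induces a bijection on cohomology in every
degree i ≤ s. (The derived completions of RΓ_{J'}(M) and RΓ_J(M) agree canonically; that
identification is not part of this statement. The maximum and minimum of δ on V(J) ∩ V(I) in (b),
(c) are unfolded into quantifiers.) -/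
theorem result (A : Type u) [CommRing A] [IsNoetherianRing A] (I : Ideal A) [IsAdicComplete I A] (hdc : ∃ ω : Dual.D A, Dual.IsDualizing A ω) [DRing.HasDerivedCompletion I] (J : Ideal A) (M : Type u) [AddCommGroup M] [Module A M] [Module.Finite A M] (s d : ℕ) (h3 : LocCoh.CdLE A I d) (T : Set (PrimeSpectrum A)) (hT : ∀ p : PrimeSpectrum A, p ∈ T ↔ ∀ q : PrimeSpectrum A, p ≤ q → I ≤ q.asIdeal → J ≤ q.asIdeal) (h4 : ∀ p : PrimeSpectrum A, ¬ I ≤ p.asIdeal → p ∉ T → ∀ q : PrimeSpectrum A, p ≤ q → J ≤ q.asIdeal → I ≤ q.asIdeal → (s : ℕ∞) ≤ LocCoh.depth (Localization.AtPrime p.asIdeal) (LocalizedModule p.asIdeal.primeCompl M) ∨ (((d + s : ℕ) : ℕ∞) : WithBot ℕ∞) < ((LocCoh.depth (Localization.AtPrime p.asIdeal) (LocalizedModule p.asIdeal.primeCompl M) : ℕ∞) : WithBot ℕ∞) + Formal2.dimBetween A p.asIdeal q.asIdeal) (δ : PrimeSpectrum A → ℤ) (hδ : ∀ p q : PrimeSpectrum A, p ⋖ q → δ p = δ q + 1) (h5 : ∀ p : PrimeSpectrum A, ¬ I ≤ p.asIdeal → p ∉ T → (∃ q : PrimeSpectrum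 A, p ≤ q ∧ J ≤ q.asIdeal ∧ I ≤ q.asIdeal) → LocCoh.depth (Localization.AtPrime p.asIdeal) (LocalizedModule p.asIdeal.primeCompl M) < (s : ℕ∞) → Module.supportDim (Localization.AtPrime p.asIdeal) (LocalizedModule p.asIdeal.primeCompl M) < ((s + 2 : ℕ) : WithBot ℕ∞) ∨ (∀ q' : PrimeSpectrum A, J ≤ q'.asIdeal → I ≤ q'.asIdeal → (d : ℤ) + δ q' - 1 < δ p) ∨ (∀ q : PrimeSpectrum A, p ≤ q → J ≤ q.asIdeal → I ≤ q.asIdeal → ∀ q₁ q₂ : PrimeSpectrum A, J ≤ q₁.asIdeal → I ≤ q₁.asIdeal → J ≤ q₂.asIdeal → I ≤ q₂.asIdeal → ∀ k : ℕ, (k : ℤ) = (d : ℤ) + s + (δ q₁ - δ q₂) - 2 → ((k : ℕ∞) : WithBot ℕ∞) < ((LocCoh.depth (Localization.AtPrime p.asIdeal) (LocalizedModule p.asIdeal.primeCompl M) : ℕ∞) : WithBot ℕ∞) + Formal2.dimBetween A p.asIdeal q.asIdeal)) : ∃ J₀ : Ideal A, J₀ ≤ J ∧ PrimeSpectrum.zeroLocus ((J₀ : Ideal A) : Set A) ∩ PrimeSpectrum.zeroLocus ((I : Ideal A) : Set A) = PrimeSpectrum.zeroLocus ((J : Ideal A) : Set A) ∩ PrimeSpectrum.zeroLocus ((I : Ideal A) : Set A)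 ∧ ∀ (J' : Ideal A) [DRing.HasRgammaI J'], J' ≤ J₀ → PrimeSpectrum.zeroLocus ((J' : Ideal A) : Set A) ∩ PrimeSpectrum.zeroLocus ((I : Ideal A) : Set A) = PrimeSpectrum.zeroLocus ((J : Ideal A) : Set A) ∩ PrimeSpectrum.zeroLocus ((I : Ideal A) : Set A) → ∀ i : ℤ, i ≤ s → Function.Bijective ((DerivedCategory.homologyFunctor (ModuleCat.{u} A) i).map (DRing.toDerivedCompletion I ((DRing.RgammaI J').obj (Dual.inD A M)))).hom := by
  obtain ⟨ω, hω⟩ := hdc
  obtain ⟨J₀, hle, hJ₀, h⟩ := RGamma.ComplMain.main (I := I) (J := J) ⟨ω, hω⟩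
    (fun s M _ _ _ => Cond4 I J d T s M ∧ Cond5 I J d T δ s M)
    (fun s M M' _ _ _ _ _ _ he h => ⟨fun p hp hpT q hpq hJ hI => by
        obtain ⟨e⟩ := he p (not_bad hT hp hpT hpq hJ hI)
        rw [dep, ← Depth.Basic.depth_congr e]
        exact h.1 p hp hpT q hpq hJ hI,
      fun p hp hpT hex => by
        obtain ⟨q, hpq, hJ, hI⟩ := hex
        obtain ⟨e⟩ := he p (not_bad hT hp hpT hpq hJ hI)
        rw [dep, sdim, ← Depth.Basic.depth_congr e, ← Module.supportDim_eq_of_equiv e]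
        exact h.2 p hp hpT ⟨q, hpq, hJ, hI⟩⟩)
    (fun s M _ _ _ f hf h => ⟨cond4_quot hω s M hf h.1, cond5_quot hω s M hf h.2⟩)
    (fun s M _ _ _ h => by
      obtain ⟨J₀, -, hJ₀, hc⟩ := LCFin.Algebraize.exists_ideal M (s + 1) hω I J d T hT
        (fun p hp hpT => by
          obtain ⟨q, hpq, hIq, hd⟩ := exists_close d (IsAdicComplete.le_jacobson_bot I) h3 hω p
          refine ⟨q, hpq, (hT p).1 hpT q hpq hIq, hIq, ?_⟩
          rw [LCFin.Bootstrap.dimBetween_eq hω p q hpq]
          exact_mod_cast (show (DMod.Degree.deg hω q - DMod.Degree.deg hω p).toNat ≤ d by omega))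
        h.1
      exact ⟨J₀, hJ₀, hc⟩)
    (fun s M _ _ _ h p hass hbad => by
      intro _
      exact kill hω hδ hT h3 s M h.1 h.2 p hass hbad) s M ⟨h4, h5⟩
  exact ⟨J₀, hle, hJ₀, fun J' _ hle' hJ' i hi => h J' hle' hJ' i hi⟩

end Groth.Agent.S8808
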