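import Groth.Statements.S8813
import Groth.Agent.H78.DeltaZ
import Mathlib.AlgebraicGeometry.Morphisms.Preimmersion

set_option autoImplicit false
universe u
open CategoryTheory AlgebraicGeometry
open Algz

namespace Groth.Agent.S8813

/-- Let Y be a Noetherian scheme, Z ⊆ Y a closed subset, y a point of Y and z a point of Z lying in the
closure of y. Then δ_Z(y) is at most the dimension of the local ring at z of the closure of y with
its reduced structure, that is, the Krull dimension of O_{Y,z}/𝔭 where 𝔭 is the prime ideal of the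
local ring O_{Y,z} given by the point of Spec O_{Y,z} that maps to y. -/
theorem result (Y : Scheme.{u}) [IsNoetherian Y] (Z : Set Y) (hZ : IsClosed Z) (y z : Y) (h : y ⤳ z) (hz : z ∈ Z) (P : PrimeSpectrum (Y.presheaf.stalk z)) (hP : (Y.fromSpecStalk z).base P = y) : ((Algz.deltaZ Z y : ℕ∞) : WithBot ℕ∞) ≤ ringKrullDim (↥(Y.presheaf.stalk z) ⧸ P.asIdeal) := by
  classical
  let S : Algz.DSystem Z y 0 :=
    { v := fun _ => z
      w := fun _ => y
      spec := fun _ => h
      spec_succ := fun i => i.elim0
      start_mem := hz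
      last_eq := rfl }
  have hS : S.delta = Algz.codimPt y z h := by
    simp [Algz.DSystem.delta, Algz.DSystem.c]
    rfl
  refine le_trans (WithBot.coe_le_coe.mpr ((Groth.Agent.H78.DeltaZ.deltaZ_le S).trans_eq hS)) ?_
  -- points between `z` and `y` are primes of the local ring containing `P`
  have hemb := (Y.fromSpecStalk z).isEmbedding
  have hlift : ∀ a : Set.Ici (Specialization.toEquiv z),
      ∃ Q : PrimeSpectrum (Y.presheaf.stalk z), (Y.fromSpecStalk z).base Q = Specialization.ofEquiv a.1 :=
    fun a => by
      have : Specialization.ofEquiv a.1 ∈ Set.range (Y.fromSpecStalk z) := by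
        rw [Scheme.range_fromSpecStalk]; exact a.2
      exact this
  choose g hg using hlift
  have hle : ∀ a b : Set.Ici (Specialization.toEquiv z), a ≤ b ↔ (g b) ≤ (g a) := fun a b => by
    change Specialization.ofEquiv b.1 ⤳ Specialization.ofEquiv a.1 ↔ _
    rw [← hg a, ← hg b, PrimeSpectrum.le_iff_specializes]
    exact hemb.isInducing.specializes_iff
  rw [ringKrullDim_quotient]
  have hy : g ⟨Specialization.toEquiv y, h⟩ = P := hemb.injective ((hg _).trans hP.symm)
  let F : Set.Iic (⟨Specialization.toEquiv y, h⟩ : Set.Ici (Specialization.toEquiv z)) →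
      (PrimeSpectrum.zeroLocus (P.asIdeal : Set (Y.presheaf.stalk z)))ᵒᵈ := fun a =>
    OrderDual.toDual ⟨g a.1, by
      have := (hle _ _).mp (a.2 : a.1 ≤ _)
      rw [hy] at this
      exact this⟩
  have hF : StrictMono F := fun a b hab => by
    refine lt_iff_le_not_ge.mpr ⟨(hle _ _).mp hab.le, fun h' => ?_⟩
    exact hab.not_ge ((hle _ _).mpr h')
  calc ((Algz.codimPt y z h : ℕ∞) : WithBot ℕ∞)
      ≤ Order.krullDim (Set.Iic (⟨Specialization.toEquiv y, h⟩ : Set.Ici (Specialization.toEquiv z))) :=
        (Order.height_eq_krullDim_Iic _).le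
    _ ≤ Order.krullDim (PrimeSpectrum.zeroLocus (P.asIdeal : Set (Y.presheaf.stalk z)))ᵒᵈ :=
        Order.krullDim_le_of_strictMono F hF
    _ = _ := Order.krullDim_orderDual

end Groth.Agent.S8813
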