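import Groth.Statements.S8815
import Groth.Agent.H78.DeltaZ
import Groth.Agent.Lib.Excellent.CatenaryDim

set_option autoImplicit false
universe u
open CategoryTheory AlgebraicGeometry
open Algz

namespace Groth.Agent.S8815

/-- Let A be a catenary Noetherian local ring, Y = Spec A and Z the closed point. Then δ_Z(y) equals the
dimension of the closure of y, i.e. dim(A/p_y), for every point y. -/
theorem result (A : Type u) [CommRing A] [IsNoetherianRing A] [IsLocalRing A] (hA : CAlg.IsCatenary A) (y : Spec (CommRingCat.of A)) : ((Algz.deltaZ ({IsLocalRing.closedPoint A} : Set (Spec (CommRingCat.of A))) y : ℕ∞) : WithBot ℕ∞) = ringKrullDim (A ⧸ y.asIdeal) := by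
  classical
  let φ : ↥(Spec (CommRingCat.of A)) → PrimeSpectrum A := fun p => p
  let δ : ↥(Spec (CommRingCat.of A)) → ℤ := fun p => ((Order.coheight (φ p)).toNat : ℤ)
  have hne := Groth.Agent.Lib.Excellent.CatenaryDim.coheight_ne_top (A := A)
  have hle : ∀ {a b : ↥(Spec (CommRingCat.of A))}, a ⤳ b ↔ φ a ≤ φ b := fun {a b} =>
    (PrimeSpectrum.le_iff_specializes (φ a) (φ b)).symm
  have hδ : Cyc.IsDimFun (Spec (CommRingCat.of A)) δ := by
    intro a b hab hne'
    have hlt : φ a < φ b := lt_of_le_of_ne (hle.mp hab) hne'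
    refine ⟨?_, fun himm => ?_⟩
    · have h1 : Order.coheight (φ b) < Order.coheight (φ a) :=
        Order.coheight_strictAnti hlt (lt_top_iff_ne_top.mpr (hne (φ b)))
      change ((Order.coheight (φ b)).toNat : ℤ) < ((Order.coheight (φ a)).toNat : ℤ)
      obtain ⟨na, ha⟩ := WithTop.ne_top_iff_exists.mp (hne (φ a))
      obtain ⟨nb, hb⟩ := WithTop.ne_top_iff_exists.mp (hne (φ b))
      rw [← ha, ← hb] at h1 ⊢
      change (nb : ℤ) < (na : ℤ)
      exact Int.ofNat_lt.mpr (ENat.coe_lt_coe.mp h1)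
    · have hcov : φ a ⋖ φ b := ⟨hlt, fun c hac hcb => by
        rcases himm c (hle.mpr hac.le) (hle.mpr hcb.le) with h | h
        · exact hac.ne h.symm
        · exact hcb.ne h⟩
      change ((Order.coheight (φ a)).toNat : ℤ) = ((Order.coheight (φ b)).toNat : ℤ) + 1
      obtain ⟨nb, hb⟩ := WithTop.ne_top_iff_exists.mp (hne (φ b))
      rw [Groth.Agent.Lib.Excellent.CatenaryDim.coheight_covBy hA hcov, ← hb]
      rfl
  have hm : φ (IsLocalRing.closedPoint A) = IsLocalRing.closedPoint A := rfl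
  have hm0 : δ (IsLocalRing.closedPoint A) = 0 := by
    change ((Order.coheight (φ (IsLocalRing.closedPoint A))).toNat : ℤ) = 0
    rw [hm, Order.coheight_eq_zero.mpr (show IsMax (IsLocalRing.closedPoint A) from
      fun q _ => IsLocalRing.le_maximalIdeal q.isPrime.ne_top)]
    rfl
  have hym : y ⤳ (IsLocalRing.closedPoint A : ↥(Spec (CommRingCat.of A))) :=
    hle.mpr (IsLocalRing.le_maximalIdeal (φ y).isPrime.ne_top)
  let S : Algz.DSystem ({IsLocalRing.closedPoint A} : Set (Spec (CommRingCat.of A))) y 0 :=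
    { v := fun _ => IsLocalRing.closedPoint A
      w := fun _ => y
      spec := fun _ => hym
      spec_succ := fun i => i.elim0
      start_mem := rfl
      last_eq := rfl }
  have hS : S.delta = Algz.codimPt y (IsLocalRing.closedPoint A) hym := by
    simp [Algz.DSystem.delta, Algz.DSystem.c]
    rfl
  have hup := (Groth.Agent.H78.DeltaZ.deltaZ_le S).trans_eq
    (hS.trans (Groth.Agent.H78.DeltaZ.codimPt_eq hδ hym))
  rw [hm0, sub_zero] at hup
  obtain ⟨n, hn⟩ := WithTop.ne_top_iff_exists.mp (ne_top_of_le_ne_top (ENat.coe_ne_top _) hup)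
  obtain ⟨z, hz, hzy⟩ := Groth.Agent.H78.DeltaZ.exists_dimFun_le hδ y n hn.symm
  have hz' : z = IsLocalRing.closedPoint A := hz
  rw [hz', hm0, add_zero] at hzy
  obtain ⟨ny, hy⟩ := WithTop.ne_top_iff_exists.mp (hne (φ y))
  have hδy : δ y = ny := by
    change ((Order.coheight (φ y)).toNat : ℤ) = ny
    rw [← hy]
    rfl
  rw [← hn] at hup ⊢
  have h2 : n ≤ ny := by
    rw [hδy, Int.toNat_natCast] at hup
    exact ENat.coe_le_coe.mp hup
  have h3 : n = ny := by omega
  refine Eq.trans ?_ (Groth.Agent.Lib.Excellent.CatenaryDim.ringKrullDim_quotient_eq_coheight (φ y)).symm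
  rw [← hy, h3]

end Groth.Agent.S8815
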