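import Groth.Statements.S8819
import Mathlib.RingTheory.MvPolynomial.Homogeneous
-- import your own Groth.Agent.* helpers here

set_option autoImplicit false
universe u
open scoped BigOperators
open LocCoh

namespace Groth.Agent.S8819

/-- Let A be a Noetherian ring, f_1, …, f_r ∈ A and I = (f_1, …, f_r) with cd(A, I) = 1; let c ≥ 1 and
let φ_j : I^c → A be A-linear maps with x = Σ_j f_j φ_j(x) for all x ∈ I^c. Under these assumptions,
exactly one homomorphism of graded A-algebras, from ⊕_{n ≥ 0} I^{nc} into the polynomial ring A[T_1,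
…, T_r], exists that sends each g ∈ I^c to Σ_j φ_j(g) T_j; call it Φ. Here Φ is encoded by functions
Φ_n : A → A[T_1, …, T_r] whose values on I^{nc} are A-linear, homogeneous of degree n,
multiplicative (Φ_{n+m}(gh) = Φ_n(g)Φ_m(h)), with Φ_0 the structure map and Φ_1 as prescribed;
uniqueness is asserted for the values on the I^{nc}. Moreover substituting T_j ↦ f_j in Φ_n(g) gives
back g for every g ∈ I^{nc}. -/
theorem result (A : Type u) [CommRing A] [IsNoetherianRing A] (r : ℕ) (f : Fin r → A) (I : Ideal A) (hI : I = Ideal.span (Set.range f)) (h1 : LocCoh.CdLE A I 1) (h0 : ¬ LocCoh.CdLE A I 0) (c : ℕ) (hc : 1 ≤ c) (φ : Fin r → (↥(I ^ c) →ₗ[A] A)) (hφ : ∀ x : ↥(I ^ c), (x : A) = ∑ j, f j * φ j x) : ∃ Φ : ℕ → A → MvPolynomial (Fin r) A, (((∀ n : ℕ, ∀ g ∈ I ^ (n * c), ∀ h ∈ I ^ (n * c), Φ n (g + h) = Φ n g + Φ n h) ∧ (∀ (n : ℕ) (a : A), ∀ g ∈ I ^ (n * c), Φ n (a * g) = a • Φ n g) ∧ (∀ n : ℕ, ∀ g ∈ I ^ (n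 * c), (Φ n g).IsHomogeneous n) ∧ (∀ n m : ℕ, ∀ g ∈ I ^ (n * c), ∀ h ∈ I ^ (m * c), Φ (n + m) (g * h) = Φ n g * Φ m h) ∧ (∀ a : A, Φ 0 a = MvPolynomial.C a) ∧ (∀ (g : A) (hg : g ∈ I ^ c), Φ 1 g = ∑ j, MvPolynomial.C (φ j ⟨g, hg⟩) * MvPolynomial.X j)) ∧ ∀ n : ℕ, ∀ g ∈ I ^ (n * c), MvPolynomial.aeval f (Φ n g) = g) ∧ ∀ Ψ : ℕ → A → MvPolynomial (Fin r) A, ((∀ n : ℕ, ∀ g ∈ I ^ (n * c), ∀ h ∈ I ^ (n * c), Ψ n (g + h) = Ψ n g + Ψ n h) ∧ (∀ (n : ℕ) (a : A), ∀ g ∈ I ^ (n * c), Ψ n (a * g) = a • Ψ n g) ∧ (∀ n : ℕ, ∀ g ∈ I ^ (n * c), (Ψ n g).IsHomogeneous n) ∧ (∀ n m : ℕ, ∀ g ∈ I ^ (n * c), ∀ h ∈ I ^ (m * c), Ψ (n + m) (g * h) = Ψ n g * Ψ m h) ∧ (∀ a : A, Ψ 0 a = MvPolynomial.C a) ∧ (∀ (g : A) (hg : g ∈ I ^ c), Ψ 1 g = ∑ j, MvPolynomial.C (φ j ⟨g, hg⟩) * MvPolynomial.X j)) → ∀ n : ℕ, ∀ g ∈ I ^ (n * c), Ψ n g = Φ n g := by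
  classical
  -- the recursively defined maps
  let φ' : Fin r → A → A := fun j g => if hg : g ∈ I ^ c then φ j ⟨g, hg⟩ else 0
  let Φ : ℕ → A → MvPolynomial (Fin r) A := fun n =>
    Nat.rec (motive := fun _ => A → MvPolynomial (Fin r) A) (fun a => MvPolynomial.C a)
      (fun _ P g => ∑ j, MvPolynomial.X j * P (φ' j g)) n
  have hφ' : ∀ (j : Fin r) (g : A) (hg : g ∈ I ^ c), φ' j g = φ j ⟨g, hg⟩ := fun j g hg => dif_pos hg
  have hmul : ∀ (j : Fin r) (g h : A), g ∈ I ^ c → φ' j (g * h) = h * φ' j g := fun j g h hg => by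
    rw [hφ' j g hg, hφ' j (g * h) (Ideal.mul_mem_right h _ hg)]
    rw [show (⟨g * h, Ideal.mul_mem_right h _ hg⟩ : ↥(I ^ c)) = h • ⟨g, hg⟩ from
      Subtype.ext (mul_comm g h), map_smul, smul_eq_mul]
  have hdown : ∀ (n : ℕ) (g : A), g ∈ I ^ ((n + 1) * c) → g ∈ I ^ c := fun n g hg =>
    Ideal.pow_le_pow_right (Nat.le_mul_of_pos_left c n.succ_pos) hg
  have hstep : ∀ (n : ℕ) (j : Fin r) (g : A), g ∈ I ^ ((n + 1) * c) → φ' j g ∈ I ^ (n * c) := by
    intro n j g hg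
    rw [add_mul, one_mul, pow_add, mul_comm (I ^ (n * c))] at hg
    have hlin : ∀ a b : A, a ∈ I ^ c → b ∈ I ^ c → φ' j (a + b) = φ' j a + φ' j b := fun a b ha hb => by
      rw [hφ' j a ha, hφ' j b hb, hφ' j _ (add_mem ha hb), ← map_add]
      rfl
    suffices h : φ' j g ∈ I ^ (n * c) ∧ g ∈ I ^ c from h.1
    induction hg using Submodule.mul_induction_on' with
    | mem_mul_mem a ha b hb => exact ⟨hmul j a b ha ▸ Ideal.mul_mem_right _ _ hb, Ideal.mul_mem_right b _ ha⟩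
    | add x _ y _ hx hy => exact ⟨hlin x y hx.2 hy.2 ▸ add_mem hx.1 hy.1, add_mem hx.2 hy.2⟩
  have hΦs : ∀ (n : ℕ) (g : A), Φ (n + 1) g = ∑ j, MvPolynomial.X j * Φ n (φ' j g) := fun _ _ => rfl
  have hadd : ∀ n : ℕ, ∀ g ∈ I ^ (n * c), ∀ h ∈ I ^ (n * c), Φ n (g + h) = Φ n g + Φ n h := by
    intro n
    induction n with
    | zero => intro g _ h _; exact map_add MvPolynomial.C g h
    | succ n ih =>
      intro g hg h hh
      simp only [hΦs, ← Finset.sum_add_distrib]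
      refine Finset.sum_congr rfl fun j _ => ?_
      rw [← mul_add, ← ih _ (hstep n j g hg) _ (hstep n j h hh), hφ' j g (hdown n g hg),
        hφ' j h (hdown n h hh), hφ' j (g + h) (add_mem (hdown n g hg) (hdown n h hh)), ← map_add]
      rfl
  have hsmul : ∀ (n : ℕ) (a : A), ∀ g ∈ I ^ (n * c), Φ n (a * g) = a • Φ n g := by
    intro n
    induction n with
    | zero => intro a g _; rw [MvPolynomial.smul_eq_C_mul]; exact map_mul MvPolynomial.C a g
    | succ n ih =>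
      intro a g hg
      simp only [hΦs, Finset.smul_sum]
      refine Finset.sum_congr rfl fun j _ => ?_
      rw [mul_comm a g, hmul j g a (hdown n g hg), ih a _ (hstep n j g hg), mul_smul_comm]
  have hhom : ∀ n : ℕ, ∀ g ∈ I ^ (n * c), (Φ n g).IsHomogeneous n := by
    intro n
    induction n with
    | zero => exact fun g _ => MvPolynomial.isHomogeneous_C _ g
    | succ n ih =>
      intro g hg
      rw [hΦs, add_comm n 1]
      exact MvPolynomial.IsHomogeneous.sum _ _ _ fun j _ =>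
        (MvPolynomial.isHomogeneous_X A j).mul (ih _ (hstep n j g hg))
  have hprod : ∀ n m : ℕ, ∀ g ∈ I ^ (n * c), ∀ h ∈ I ^ (m * c), Φ (n + m) (g * h) = Φ n g * Φ m h := by
    intro n
    induction n with
    | zero =>
      intro m g _ h hh
      rw [zero_add, hsmul m g h hh, MvPolynomial.smul_eq_C_mul]
      rfl
    | succ n ih =>
      intro m g hg h hh
      rw [show n + 1 + m = n + m + 1 by omega, hΦs, hΦs n, Finset.sum_mul]
      refine Finset.sum_congr rfl fun j _ => ?_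
      rw [hmul j g h (hdown n g hg), mul_comm h (φ' j g), ih m _ (hstep n j g hg) h hh, mul_assoc]
  have hone : ∀ (g : A) (hg : g ∈ I ^ c), Φ 1 g = ∑ j, MvPolynomial.C (φ j ⟨g, hg⟩) * MvPolynomial.X j := by
    intro g hg
    rw [show (1 : ℕ) = 0 + 1 from rfl, hΦs]
    refine Finset.sum_congr rfl fun j _ => ?_
    rw [hφ' j g hg, mul_comm]
    rfl
  have heval : ∀ n : ℕ, ∀ g ∈ I ^ (n * c), MvPolynomial.aeval f (Φ n g) = g := by
    intro n
    induction n with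
    | zero => intro g _; exact MvPolynomial.aeval_C f g
    | succ n ih =>
      intro g hg
      rw [hΦs, map_sum]
      refine Eq.trans ?_ (hφ ⟨g, hdown n g hg⟩).symm
      refine Finset.sum_congr rfl fun j _ => ?_
      rw [map_mul, MvPolynomial.aeval_X, ih _ (hstep n j g hg), hφ' j g (hdown n g hg)]
  refine ⟨Φ, ⟨⟨hadd, hsmul, hhom, hprod, fun a => rfl, hone⟩, heval⟩, ?_⟩
  rintro Ψ ⟨hΨadd, -, -, hΨprod, hΨ0, hΨ1⟩ n
  induction n with
  | zero => exact fun g _ => hΨ0 g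
  | succ n ih =>
    intro g hg
    rw [add_mul, one_mul, pow_add, mul_comm (I ^ (n * c))] at hg
    have hup : ∀ a ∈ I ^ c, ∀ b ∈ I ^ (n * c), a * b ∈ I ^ ((n + 1) * c) := fun a ha b hb => by
      rw [add_mul, one_mul, pow_add, mul_comm a b]; exact Ideal.mul_mem_mul hb ha
    suffices h : Ψ (n + 1) g = Φ (n + 1) g ∧ g ∈ I ^ ((n + 1) * c) from h.1
    induction hg using Submodule.mul_induction_on' with
    | mem_mul_mem a ha b hb =>
      refine ⟨?_, hup a ha b hb⟩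
      rw [show n + 1 = 1 + n by omega, hΨprod 1 n a (by rwa [one_mul]) b hb,
        hprod 1 n a (by rwa [one_mul]) b hb, hΨ1 a ha, hone a ha, ih b hb]
    | add x _ y _ hx hy =>
      exact ⟨by rw [hΨadd _ x hx.2 y hy.2, hadd _ x hx.2 y hy.2, hx.1, hy.1], add_mem hx.2 hy.2⟩


end Groth.Agent.S8819
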