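import Groth.Statements.S8820
import Groth.Agent.Lib.DeltaFT.Basic

set_option autoImplicit false
universe u
open CategoryTheory AlgebraicGeometry Limits
open Algz

namespace Groth.Agent.S8820

/-- Let Y be a universally catenary Noetherian scheme (every local ring universally catenary), Z ⊆ Y a
closed subset, f : Y' → Y a morphism of finite type from a Noetherian scheme all of whose fibres
have dimension at most e, and Z' = f⁻¹(Z). Then for every point y' of Y' with image y, if the
residue field extension κ(y')/κ(y) has transcendence degree t, one has δ_Z(y) + t ≤ δ_{Z'}(y') + e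
(equivalently δ_Z(y) ≤ δ_{Z'}(y') + e − t; written without subtraction). -/
theorem result (Y Y' : Scheme.{u}) [IsNoetherian Y] [IsNoetherian Y'] (hY : ∀ y : Y, CAlg.IsUniversallyCatenary (Y.presheaf.stalk y)) (Z : Set Y) (hZ : IsClosed Z) (f : Y' ⟶ Y) [LocallyOfFiniteType f] (e : ℕ) (hfib : ∀ y : Y, topologicalKrullDim ↑(pullback f (Y.fromSpecResidueField y)) ≤ (e : WithBot ℕ∞)) (y' : Y') (t : ℕ) (ht : @Algebra.trdeg (Y.residueField (f.base y')) (Y'.residueField y') _ _ (f.residueFieldMap y').hom.toAlgebra = t) : Algz.deltaZ Z (f.base y') + t ≤ Algz.deltaZ (f.base ⁻¹' Z) y' + e := by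
  have h := Groth.Agent.Lib.DeltaFT.deltaZ_le_preimage f hY Z e hfib y'
  have e1 : Groth.Agent.H46.FibreTrdeg.trd f y' = t := by
    unfold Groth.Agent.H46.FibreTrdeg.trd
    rw [show Groth.Agent.Lib.Cyc.Residue.trdegAt f y' = (t : Cardinal) from ht, Cardinal.toNat_natCast]
  rw [e1] at h
  exact h

end Groth.Agent.S8820
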