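import Groth.Statements.S8823
import Groth.Agent.Lib.Henselian.ApproxCompletion
import Groth.Agent.S0599

set_option autoImplicit false
universe u
open AdicRing

namespace Groth.Agent.S8823

set_option linter.style.haveILetI false


/-- Let A be a Noetherian G-ring and I an ideal of A. Let B and C be A-algebras of finite type, φ an
A-algebra map from the IB-adic completion of B to the IC-adic completion of C, and N ≥ 1. Then one
can find an etale C-algebra C' for which the induced map C/IC → C'/IC' is a bijection, together with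
a homomorphism of A-algebras ψ : B → C' that approximates φ to order N: given any b ∈ B, some c ∈ C
satisfies ψ(b) − c ∈ I^N C', while the image of φ(b) in C/I^N C (the N-th truncation of the
completion) coincides with the class of c. -/
theorem result (A : Type u) [CommRing A] (hA : CAlg.IsGRing A) (I : Ideal A) (B C : Type u) [CommRing B] [Algebra A B] [Algebra.FiniteType A B] [CommRing C] [Algebra A C] [Algebra.FiniteType A C] (φ : (AdicCompletion (I.map (algebraMap A B)) B) →ₐ[A] (AdicCompletion (I.map (algebraMap A C)) C)) (N : ℕ) (hN : 1 ≤ N) : ∃ (C' : Type u) (_ : CommRing C') (_ : Algebra C C') (_ : Algebra A C') (_ : IsScalarTower A C C') (_ : Algebra.Etale C C') (ψ : B →ₐ[A] C'), ((∀ c' : C', ∃ c : C, algebraMap C C' c - c' ∈ I.map (algebraMap A C')) ∧ ∀ c : C, algebraMap C C' c ∈ I.map (algebraMap A C') → c ∈ I.map (algebraMap A C)) ∧ ∀ b : B, ∃ c : C, ψ b - algebraMap C C' c ∈ (I.map (algebraMap A C')) ^ N ∧ AdicCompletion.eval (I.map (algebraMap A C)) C N (φ (AdicCompletion.of (I.map (algebraMap A B)) B b)) = Submodule.Quotient.mk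 c := by
  haveI := hA.1
  have hC : CAlg.IsGRing C := Groth.Agent.S0599.result A hA C
  let σ : B →ₐ[A] AdicCompletion (I.map (algebraMap A C)) C :=
    φ.comp (IsScalarTower.toAlgHom A B (AdicCompletion (I.map (algebraMap A B)) B))
  obtain ⟨S, _, _, _, _, hE, hS, ψ, hψ⟩ :=
    Groth.Agent.Lib.Henselian.ApproxCompletion.exists_nbhd_approx hC (I.map (algebraMap A C)) B σ N
  have hmap : (I.map (algebraMap A C)).map (algebraMap C S) = I.map (algebraMap A S) := by
    rw [Ideal.map_map, ← IsScalarTower.algebraMap_eq]
  refine ⟨S, inferInstance, inferInstance, inferInstance, inferInstance, hE, ψ, ⟨fun s => ?_, fun c hc => ?_⟩,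
    fun b => ?_⟩
  · obtain ⟨c, hc⟩ := Groth.Agent.Lib.Henselian.PairHenselization.exists_sub_mem_of_isNbhd hS s
    rw [hmap] at hc
    exact ⟨c, by rw [← Ideal.neg_mem_iff, neg_sub]; exact hc⟩
  · rw [← hmap] at hc
    refine Ideal.Quotient.eq_zero_iff_mem.1 (hS.1 ?_)
    rw [map_zero, Ideal.quotientMap_mk, Ideal.Quotient.eq_zero_iff_mem]
    exact hc
  · obtain ⟨z, hz⟩ := AdicCompletion.mk_surjective (I.map (algebraMap A C)) C (σ b)
    refine ⟨z N, ?_, ?_⟩
    · rw [← hmap, ← Ideal.map_pow]
      exact hψ b (z N) (by rw [← hz, AdicCompletion.evalₐ_mk])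
    · show AdicCompletion.eval (I.map (algebraMap A C)) C N (σ b) = _
      rw [← hz]
      rfl

end Groth.Agent.S8823
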