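import Groth.Statements.S8825
import Groth.Agent.Lib.GRing.Poly
import Groth.Agent.Lib.Adic.RigClosed

set_option autoImplicit false
set_option linter.style.haveILetI false
universe u
open AdicRing

namespace Groth.Agent.S8825

/-- Let A be a Noetherian ring which is complete for the adic topology of an ideal I, let p be a
rig-closed prime of A (I ⊄ p and p is maximal among the primes not containing I), and let n ≥ 1.
Then the ring map from A/p to the restricted power series ring (A/p){x_1, …, x_n}, i.e. the I-adic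
completion of the polynomial ring (A/p)[x_1, …, x_n], is a regular ring map (flat, with Noetherian
and geometrically regular fibres). (The consequence for the fibre over the fraction field is not
stated.) -/
theorem result (A : Type u) [CommRing A] [IsNoetherianRing A] (I : Ideal A) [IsAdicComplete I A] (p : PrimeSpectrum A) (hp : ¬ I ≤ p.asIdeal ∧ ∀ q : PrimeSpectrum A, p ≤ q → ¬ I ≤ q.asIdeal → q = p) (n : ℕ) (hn : 1 ≤ n) : CAlg.IsRegularHom (A ⧸ p.asIdeal) (AdicCompletion (I.map (algebraMap A (MvPolynomial (Fin n) (A ⧸ p.asIdeal)))) (MvPolynomial (Fin n) (A ⧸ p.asIdeal))) := by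
  classical
  set J := I.map (Ideal.Quotient.mk p.asIdeal) with hJdef
  have hJ : J ≠ ⊥ := (Groth.Agent.Lib.Adic.RigClosed.map_ne_bot_iff I p).2 hp.1
  haveI : IsAdicComplete J (A ⧸ p.asIdeal) :=
    Groth.Agent.Lib.Adic.Complete.isAdicComplete_quotient (I := I) p.asIdeal
  haveI : Ring.KrullDimLE 1 (A ⧸ p.asIdeal) := Groth.Agent.Lib.Adic.RigClosed.krullDimLE_one I hp
  haveI : IsLocalRing (A ⧸ p.asIdeal) := by
    refine IsLocalRing.of_unique_max_ideal ?_
    obtain ⟨m, hm⟩ := Ideal.exists_maximal (A ⧸ p.asIdeal)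
    exact ⟨m, hm, fun m' hm' => (Groth.Agent.Lib.Adic.RigClosed.maximal_eq_radical hJ hm').trans
      (Groth.Agent.Lib.Adic.RigClosed.maximal_eq_radical hJ hm).symm⟩
  have hrad : IsLocalRing.maximalIdeal (A ⧸ p.asIdeal) = J.radical :=
    Groth.Agent.Lib.Adic.RigClosed.maximal_eq_radical hJ inferInstance
  obtain ⟨N, hN⟩ := Ideal.exists_radical_pow_le_of_fg J (IsNoetherian.noetherian _)
  haveI : IsAdicComplete (IsLocalRing.maximalIdeal (A ⧸ p.asIdeal)) (A ⧸ p.asIdeal) :=
    Groth.Agent.Lib.Adic.Transfer.isAdicComplete_of_le (I := J) (hrad ▸ Ideal.le_radical) (N := N)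
      (hrad ▸ hN)
  exact Groth.Agent.Lib.GRing.Poly.isRegularHom_adic (A ⧸ p.asIdeal)
    (Groth.Agent.S0598.result (A ⧸ p.asIdeal)) _ _

end Groth.Agent.S8825
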