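import Groth.Statements.S8826
import Groth.Agent.Lib.Henselian.ElkikPair
import Groth.Agent.Lib.Henselian.SectionUnique
import Groth.Agent.H48.PairNoeth

set_option autoImplicit false
universe u
open AdicRing

namespace Groth.Agent.S8826

open TensorProduct
set_option linter.style.haveILetI false


/-- Let A be a Noetherian ring and I an ideal. Let B be an A-algebra of finite type such that Spec B →
Spec A is etale over the complement of V(I) (B_a etale over A for every a ∈ I), let C be a
Noetherian A-algebra with a henselization Cʰ of the pair (C, IC), and let φ be an A-algebra map from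
the IB-adic completion of B to the IC-adic completion of C. Then there is exactly one A-algebra map
ψ : B → Cʰ which induces φ on completions, in the sense that for every n and every b ∈ B there is c
∈ C with ψ(b) − c ∈ I^n Cʰ and with the n-th truncation of φ(b) in C/I^n C equal to the class of c
(recall C/I^n C = Cʰ/I^n Cʰ). (The second assertion, that such maps factor through an etale
neighbourhood, is not stated.) -/
theorem result (A : Type u) [CommRing A] [IsNoetherianRing A] (I : Ideal A) (B : Type u) [CommRing B] [Algebra A B] [Algebra.FiniteType A B] (hB : ∀ a ∈ I, Algebra.Etale A (Localization.Away (algebraMap A B a))) (C : Type u) [CommRing C] [Algebra A C] [IsNoetherianRing C] (Ch : Type u) [CommRing Ch] [Algebra C Ch] [Algebra A Ch] [IsScalarTower A C Ch] (hCh : Hens2.IsPairHenselization C (I.map (algebraMap A C)) Ch) (φ : (AdicCompletion (I.map (algebraMap A B)) B) →ₐ[A] (AdicCompletion (I.map (algebraMap A C)) C)) : ∃! ψ : B →ₐ[A] Ch, ∀ (n : ℕ) (b : B), ∃ c : C, ψ b - algebraMap C Ch c ∈ (I.map (algebraMap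 A Ch)) ^ n ∧ AdicCompletion.eval (I.map (algebraMap A C)) C n (φ (AdicCompletion.of (I.map (algebraMap A B)) B b)) = Submodule.Quotient.mk c := by
  classical
  obtain ⟨r, a, hI⟩ := Submodule.fg_iff_exists_fin_generating_family.1 (IsNoetherian.noetherian I)
  have ha : ∀ i, a i ∈ I := fun i => hI ▸ Ideal.subset_span ⟨i, rfl⟩
  haveI : IsNoetherianRing Ch := Groth.Agent.H48.PairNoeth.isNoetherianRing hCh
  have hJ : (I.map (algebraMap A C)).map (algebraMap C Ch) = I.map (algebraMap A Ch) := by
    rw [Ideal.map_map, ← IsScalarTower.algebraMap_eq]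
  haveI hhens : HenselianRing Ch (I.map (algebraMap A Ch)) := hJ ▸ hCh.1
  have hle : ∀ n, (I.map (algebraMap A C)) ^ n ≤
      ((I.map (algebraMap A Ch)) ^ n).comap (IsScalarTower.toAlgHom A C Ch).toRingHom := fun n =>
    Ideal.map_le_iff_le_comap.1 (le_of_eq (by rw [Ideal.map_pow, ← hJ]; rfl))
  -- the truncations
  let σ : ∀ n, B →ₐ[A] Ch ⧸ (I.map (algebraMap A Ch)) ^ n := fun n =>
    (Ideal.quotientMapₐ _ (IsScalarTower.toAlgHom A C Ch) (hle n)).comp
      (((AdicCompletion.evalₐ (I.map (algebraMap A C)) n).restrictScalars A).comp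
        (φ.comp (IsScalarTower.toAlgHom A B (AdicCompletion (I.map (algebraMap A B)) B))))
  have hσ : ∀ (n : ℕ) (b : B) (c : C),
      AdicCompletion.evalₐ (I.map (algebraMap A C)) n (φ (AdicCompletion.of (I.map (algebraMap A B)) B b)) =
        Ideal.Quotient.mk _ c → σ n b = Ideal.Quotient.mk _ (algebraMap C Ch c) := fun n b c hc => by
    show Ideal.quotientMapₐ _ (IsScalarTower.toAlgHom A C Ch) (hle n)
      (AdicCompletion.evalₐ (I.map (algebraMap A C)) n (φ (algebraMap B (AdicCompletion (I.map (algebraMap A B)) B) b))) = _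
    rw [show algebraMap B (AdicCompletion (I.map (algebraMap A B)) B) b = AdicCompletion.of (I.map (algebraMap A B)) B b
      from rfl, hc]
    rfl
  have heval : ∀ (n : ℕ) (z : AdicCompletion (I.map (algebraMap A C)) C) (c : C),
      AdicCompletion.eval (I.map (algebraMap A C)) C n z = Submodule.Quotient.mk c ↔
        AdicCompletion.evalₐ (I.map (algebraMap A C)) n z = Ideal.Quotient.mk _ c := fun n z c => by
    obtain ⟨s, rfl⟩ := AdicCompletion.mk_surjective _ C z
    rw [AdicCompletion.evalₐ_mk, Ideal.Quotient.eq]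
    show Submodule.Quotient.mk (s n) = Submodule.Quotient.mk c ↔ _
    rw [Submodule.Quotient.eq]
    simp
  have hrep : ∀ (n : ℕ) (b : B), ∃ c : C,
      AdicCompletion.evalₐ (I.map (algebraMap A C)) n (φ (AdicCompletion.of (I.map (algebraMap A B)) B b)) =
        Ideal.Quotient.mk _ c := fun n b => ⟨_, (Ideal.Quotient.mk_surjective _).choose_spec.symm⟩
  have hcompat : ∀ (k l : ℕ) (h : k ≤ l) (b : B),
      Ideal.Quotient.factor (Ideal.pow_le_pow_right h) (σ l b) = σ k b := fun k l h b => by
    obtain ⟨s, hs⟩ := AdicCompletion.mk_surjective (I.map (algebraMap A C)) C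
      (φ (AdicCompletion.of (I.map (algebraMap A B)) B b))
    rw [hσ l b (s l) (by rw [← hs, AdicCompletion.evalₐ_mk]), hσ k b (s k) (by rw [← hs, AdicCompletion.evalₐ_mk]),
      Ideal.Quotient.factor_mk, Ideal.Quotient.eq, ← map_sub]
    refine hle k ?_
    have := s.property h
    rw [SModEq.sub_mem] at this
    rw [← Ideal.neg_mem_iff, neg_sub]
    simpa using this
  -- approximations over the henselization
  have happrox : ∀ n, ∃ τ : B →ₐ[A] Ch, ∀ b, Ideal.Quotient.mk _ (τ b) = σ n b := by
    intro n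
    let B' := TensorProduct A Ch B
    have hJ' : Ideal.span (Set.range fun i => algebraMap A Ch (a i)) = I.map (algebraMap A Ch) := by
      rw [← hI, Ideal.submodule_span_eq, Ideal.map_span, ← Set.range_comp]; rfl
    have hsm : ∀ i, Algebra.Smooth Ch (Localization.Away (algebraMap Ch B' (algebraMap A Ch (a i)))) := fun i => by
      haveI := hB (a i) (ha i)
      let Ba := Localization.Away (algebraMap A B (a i))
      letI : Algebra B' (TensorProduct A Ch Ba) :=
        (Algebra.TensorProduct.map (AlgHom.id A Ch) (IsScalarTower.toAlgHom A B Ba)).toRingHom.toAlgebra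
      haveI : IsScalarTower Ch B' (TensorProduct A Ch Ba) :=
        IsScalarTower.of_algebraMap_eq (R := Ch) (S := B') (A := TensorProduct A Ch Ba) fun x => by
          show x ⊗ₜ[A] (1 : Ba) = Algebra.TensorProduct.map (AlgHom.id A Ch) (IsScalarTower.toAlgHom A B Ba) (x ⊗ₜ[A] (1 : B))
          rw [Algebra.TensorProduct.map_tmul, map_one]
          rfl
      have hloc := IsLocalization.tensorProduct_tensorProduct_right A Ch
        (Submonoid.powers (algebraMap A B (a i))) Ba (by ext; simp [RingHom.algebraMap_toAlgebra])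
      rw [Submonoid.map_powers, show (Algebra.TensorProduct.includeRight : B →ₐ[A] B') (algebraMap A B (a i)) =
        algebraMap Ch B' (algebraMap A Ch (a i)) by
          rw [AlgHom.commutes, IsScalarTower.algebraMap_apply A Ch B']] at hloc
      haveI : IsLocalization.Away (algebraMap Ch B' (algebraMap A Ch (a i))) (TensorProduct A Ch Ba) := hloc
      exact Algebra.Smooth.of_equiv ((IsLocalization.algEquiv
        (Submonoid.powers (algebraMap Ch B' (algebraMap A Ch (a i)))) (TensorProduct A Ch Ba)
          (Localization.Away (algebraMap Ch B' (algebraMap A Ch (a i))))).restrictScalars Ch)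
    let σ' : ∀ k, B' →ₐ[Ch] Ch ⧸ (⊥ ⊔ Ideal.span (Set.range fun i => algebraMap A Ch (a i)) ^ k) := fun k =>
      Algebra.TensorProduct.lift (Algebra.ofId Ch _)
        ((Ideal.Quotient.factorₐ A (by rw [hJ']; exact le_sup_right)).comp (σ k)) fun _ _ => Commute.all _ _
    have hσ'1 : ∀ k b, σ' k ((1 : Ch) ⊗ₜ b) = Ideal.Quotient.factor (by rw [hJ']; exact le_sup_right) (σ k b) :=
      fun k b => by
        show Algebra.TensorProduct.lift (Algebra.ofId Ch _) _ _ ((1 : Ch) ⊗ₜ b) = _
        rw [Algebra.TensorProduct.lift_tmul, map_one, one_mul]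
        rfl
    obtain ⟨τ, hτ⟩ := Groth.Agent.Lib.Henselian.ElkikPair.exists_approx_fin B' r
      (fun i => algebraMap A Ch (a i)) (hJ' ▸ hhens) hsm ⊥ σ' (fun k l h x => by
        have : ((Ideal.Quotient.factorₐ Ch (sup_le_sup_left (Ideal.pow_le_pow_right h) ⊥)).comp (σ' l)) = σ' k := by
          refine Algebra.TensorProduct.ext (Subsingleton.elim _ _) (AlgHom.ext fun b => ?_)
          show Ideal.Quotient.factor (sup_le_sup_left (Ideal.pow_le_pow_right h) ⊥) (σ' l ((1 : Ch) ⊗ₜ b)) = σ' k ((1 : Ch) ⊗ₜ b)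
          rw [hσ'1, hσ'1]
          obtain ⟨z, hz⟩ := Ideal.Quotient.mk_surjective (σ l b)
          rw [← hcompat k l h b, ← hz]
          rfl
        exact DFunLike.congr_fun this x) n
    refine ⟨((AlgEquiv.quotientBot Ch Ch).toAlgHom.comp τ).restrictScalars A |>.comp
      Algebra.TensorProduct.includeRight, fun b => ?_⟩
    obtain ⟨x, hx⟩ := Ideal.Quotient.mk_surjective (τ ((1 : Ch) ⊗ₜ b))
    obtain ⟨x', hx'⟩ := Ideal.Quotient.mk_surjective (σ n b)
    have h := hτ ((1 : Ch) ⊗ₜ b) x x' hx.symm (by rw [hσ'1, ← hx']; rfl)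
    rw [bot_sup_eq, hJ'] at h
    show Ideal.Quotient.mk _ ((AlgEquiv.quotientBot Ch Ch) (τ ((1 : Ch) ⊗ₜ b))) = _
    rw [← hx, ← hx', show (AlgEquiv.quotientBot Ch Ch) (Ideal.Quotient.mk ⊥ x) = x from rfl]
    exact Ideal.Quotient.eq.2 h
  obtain ⟨m, hm⟩ := Groth.Agent.Lib.Henselian.SectionUnique.exists_bound (B := B) a
    (fun i => by haveI := hB (a i) (ha i); infer_instance) Ch
    (by rw [show Ideal.span (Set.range a) = I from hI]; exact hhens.jac)
  rw [show Ideal.span (Set.range a) = I from hI] at hm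
  choose τ hτ using happrox
  have hsame : ∀ n, m ≤ n → τ n = τ m := fun n hn => hm _ _ fun b => by
    rw [← Ideal.Quotient.eq, hτ m b, ← hcompat m n hn b, ← hτ n b]
    rfl
  have hψ : ∀ n b, Ideal.Quotient.mk _ (τ m b) = σ n b := fun n b => by
    rw [← hsame (max n m) (le_max_right _ _), ← hcompat n (max n m) (le_max_left _ _) b, ← hτ (max n m) b]
    rfl
  refine ⟨τ m, fun n b => ?_, fun ψ hψ' => hm _ _ fun b => ?_⟩
  · obtain ⟨c, hc⟩ := hrep n b
    refine ⟨c, ?_, (heval n _ c).2 hc⟩
    rw [← Ideal.Quotient.eq, hψ n b, hσ n b c hc]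
  · obtain ⟨c, hc, hc'⟩ := hψ' m b
    have h1 := hψ m b
    rw [hσ m b c ((heval m _ c).1 hc'), Ideal.Quotient.eq] at h1
    have := sub_mem hc h1
    rwa [sub_sub_sub_cancel_right] at this

end Groth.Agent.S8826
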