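import Groth.Statements.S8831
import Groth.Agent.Lib.LCFin.PuncturedArt
-- import your own Groth.Agent.* helpers here

set_option autoImplicit false
universe u
open CategoryTheory AlgebraicGeometry Opposite
open LocCoh

namespace Groth.Agent.S8831

/-- Let (A, m) be a Noetherian local ring and U = Spec A ∖ {m} the punctured spectrum. Suppose we are
given a system (F_n), indexed inversely by n, of coherent modules on U. In each positive degree i,
the cohomology groups H^i(U, F_n) then form a Mittag-Leffler system; concretely, given any n one can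
find r ≥ n such that for all s ≥ r the image of H^i(U, F_s) → H^i(U, F_n) equals the image of H^i(U,
F_r) → H^i(U, F_n). -/
theorem result (A : Type u) [CommRing A] [IsNoetherianRing A] [IsLocalRing A] (G : ℕᵒᵖ ⥤ (↑(LocCoh.puncturedOpen A (IsLocalRing.maximalIdeal A)) : Scheme.{u}).Modules) (hG : ∀ n : ℕᵒᵖ, Coh.IsCoh (G.obj n)) (i : ℕ) (hi : 0 < i) (n : ℕ) : ∃ (r : ℕ) (hnr : n ≤ r), ∀ (s : ℕ) (hrs : r ≤ s), Set.range (Sheaf.H.map ((SheafOfModules.toSheaf _).map (G.map (homOfLE (hnr.trans hrs : n ≤ s)).op)) i) = Set.range (Sheaf.H.map ((SheafOfModules.toSheaf _).map (G.map (homOfLE (hnr : n ≤ r)).op)) i) := by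
  haveI := Groth.Agent.Lib.LCFin.PuncturedArt.isArtinian_coh (G.obj (op n)) (hG _) i hi
  let U := LocCoh.puncturedOpen A (IsLocalRing.maximalIdeal A)
  let L : ℕ → Submodule A (Coh.HH (U : Scheme.{u}) (G.obj (op n)) i) := fun k =>
    LinearMap.range (Groth.Agent.Lib.Curves.LES.mapK A
      (G.map (homOfLE (Nat.le_add_right n k)).op) i)
  have hanti : Antitone L := antitone_nat_of_succ_le fun k => by
    show LinearMap.range _ ≤ LinearMap.range _
    rw [show (homOfLE (Nat.le_add_right n (k + 1))).op =
      (homOfLE (show n + k ≤ n + (k + 1) by omega)).op ≫ (homOfLE (Nat.le_add_right n k)).op from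
      Subsingleton.elim _ _, G.map_comp, Groth.Agent.Lib.Curves.LES.mapK_comp]
    exact LinearMap.range_comp_le_range _ _
  obtain ⟨k, hk⟩ := IsArtinian.monotone_stabilizes ⟨fun k => OrderDual.toDual (L k), hanti⟩
  refine ⟨n + k, Nat.le_add_right n k, fun s hs => ?_⟩
  obtain ⟨j, rfl⟩ : ∃ j, s = n + j := ⟨s - n, by omega⟩
  have h : L k = L j := hk j (show k ≤ j by omega)
  exact congrArg (fun S : Submodule A (Coh.HH (U : Scheme.{u}) (G.obj (op n)) i) =>
    (S : Set (Coh.HH (U : Scheme.{u}) (G.obj (op n)) i))) h.symm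


end Groth.Agent.S8831
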