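import Groth.Statements.S8833
import Groth.Agent.Lib.LocalCoh.Torsion
import Mathlib.RingTheory.Filtration
import Mathlib.RingTheory.Polynomial.Basic
import Mathlib.LinearAlgebra.DirectSum.Finsupp
import Mathlib.RingTheory.MvPolynomial.Basic
-- import your own Groth.Agent.* helpers here

set_option autoImplicit false
universe u
open scoped BigOperators TensorProduct
open LocCoh

namespace Groth.Agent.S8833

set_option maxHeartbeats 1000000 in
/-- Let A be a Noetherian ring, f_1, …, f_r ∈ A and I = (f_1, …, f_r) with cd(A, I) = 1; let c ≥ 1 and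
φ_j : I^c → A be A-linear maps with x = Σ_j f_j φ_j(x) for all x ∈ I^c. Let B be a Noetherian
A-algebra and N a finite B-module. Then there is c' ≥ c with the following property. Write φ_j again
for the restrictions of the φ_j to I^{c'} and let Φ be a graded A-algebra homomorphism from ⊕_{n ≥
0} I^{nc'} to A[T_1, …, T_r] with Φ(g) = Σ_j φ_j(g) T_j for g ∈ I^{c'} (there is exactly one; it is
encoded by functions Φ_n : A → A[T_1, …, T_r] whose values on I^{nc'} are additive, A-homogeneous,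
homogeneous of degree n and multiplicative across degrees, with Φ_0 the structure map and Φ_1 as
prescribed). Then for every n there is a unique B-linear map Ψ_n from the submodule I^{nc'}N of N to
N[T_1, …, T_r] = B[T_1, …, T_r] ⊗_B N with Ψ_n(g x) = Φ_n(g) ⊗ x for g ∈ I^{nc'} and x ∈ N; that is,
the Ψ_n form the unique graded B-module map from ⊕_n I^{nc'}N to N[T_1, …, T_r] with this property.
Moreover substituting T_j ↦ f_j after Ψ_n gives back the inclusion of I^{nc'}N into N. -/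
theorem result (A : Type u) [CommRing A] [IsNoetherianRing A] (r : ℕ) (f : Fin r → A) (I : Ideal A) (hI : I = Ideal.span (Set.range f)) (h1 : LocCoh.CdLE A I 1) (h0 : ¬ LocCoh.CdLE A I 0) (c : ℕ) (hc : 1 ≤ c) (φ : Fin r → (↥(I ^ c) →ₗ[A] A)) (hφ : ∀ x : ↥(I ^ c), (x : A) = ∑ j, f j * φ j x) (B : Type u) [CommRing B] [Algebra A B] [IsNoetherianRing B] (N : Type u) [AddCommGroup N] [Module B N] [Module.Finite B N] : ∃ c' : ℕ, ∃ hcc' : c ≤ c', ∀ Φ : ℕ → A → MvPolynomial (Fin r) A, ((∀ n : ℕ, ∀ g ∈ I ^ (n * c'), ∀ h ∈ I ^ (n * c'), Φ n (g + h) = Φ n g + Φ n h) ∧ (∀ (n : ℕ) (a : A), ∀ g ∈ I ^ (n * c'), Φ n (a * g) = a • Φ n g) ∧ (∀ n : ℕ, ∀ g ∈ I ^ (n * c'), (Φ n g).IsHomogeneous n) ∧ (∀ n m : ℕ, ∀ g ∈ I ^ (n * c'), ∀ h ∈ I ^ (m * c'), Φ (n + m) (g * h) = Φ n g * Φ m h) ∧ (∀ a : A, Φ 0 a = MvPolynomial.C a) ∧ (∀ (g : A) (hg : g ∈ I ^ c'), Φ 1 g = ∑ j, MvPolynomial.C (φ j ⟨g, Ideal.pow_le_pow_right hcc' hg⟩) * MvPolynomial.X j)) → ∀ n : ℕ, ∃ Ψ : ↥(Submodule.span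 B {y : N | ∃ g ∈ I ^ (n * c'), ∃ x : N, y = algebraMap A B g • x}) →ₗ[B] (MvPolynomial (Fin r) B ⊗[B] N), (∀ (g : A) (hg : g ∈ I ^ (n * c')) (x : N), Ψ ⟨algebraMap A B g • x, Submodule.subset_span ⟨g, hg, x, rfl⟩⟩ = MvPolynomial.map (algebraMap A B) (Φ n g) ⊗ₜ[B] x) ∧ (∀ y : ↥(Submodule.span B {y : N | ∃ g ∈ I ^ (n * c'), ∃ x : N, y = algebraMap A B g • x}), TensorProduct.lift ((LinearMap.lsmul B N).comp (MvPolynomial.aeval (fun j ↦ algebraMap A B (f j))).toLinearMap) (Ψ y) = (y : N)) ∧ (∀ Ψ' : ↥(Submodule.span B {y : N | ∃ g ∈ I ^ (n * c'), ∃ x : N, y = algebraMap A B g • x}) →ₗ[B] (MvPolynomial (Fin r) B ⊗[B] N), (∀ (g : A) (hg : g ∈ I ^ (n * c')) (x : N), Ψ' ⟨algebraMap A B g • x, Submodule.subset_span ⟨g, hg, x, rfl⟩⟩ = MvPolynomial.map (algebraMap A B) (Φ n g) ⊗ₜ[B] x) → Ψ' = Ψ) := by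
  classical
  -- Artin–Rees for the torsion of `N`
  set IB := I.map (algebraMap A B) with hIB
  set T := DRing.torsionSub IB N with hT
  obtain ⟨t, ht⟩ := Groth.Agent.Lib.LocalCoh.exists_pow_smul_eq_zero IB T.subtype fun x => x.2
  obtain ⟨k₀, hk₀⟩ := Ideal.exists_pow_inf_eq_pow_smul IB T
  set k := k₀ + t with hk
  have hAR : ∀ z : N, z ∈ IB ^ k • (⊤ : Submodule B N) → z ∈ T → z = 0 := fun z hz hzT => by
    have h1 : z ∈ IB ^ (k - k₀) • (IB ^ k₀ • (⊤ : Submodule B N) ⊓ T) := by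
      rw [← hk₀ k (Nat.le_add_right _ _)]; exact ⟨hz, hzT⟩
    rw [hk, Nat.add_sub_cancel_left] at h1
    have h2 : IB ^ t • (IB ^ k₀ • (⊤ : Submodule B N) ⊓ T) ≤ ⊥ := Submodule.smul_le.2 fun a ha v hv => by
      rw [Submodule.mem_bot]; exact ht a ha ⟨v, hv.2⟩
    exact (Submodule.mem_bot B).1 (h2 h1)
  have hφmem : ∀ (j : Fin r) (a : A), a ∈ I ^ c * I ^ k → ∀ hac : a ∈ I ^ c, φ j ⟨a, hac⟩ ∈ I ^ k := by
    intro j a ha
    suffices h : a ∈ I ^ c ∧ ∀ hac : a ∈ I ^ c, φ j ⟨a, hac⟩ ∈ I ^ k from h.2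
    refine Submodule.mul_induction_on ha (fun x hx y hy => ⟨Ideal.mul_mem_right y _ hx, fun hac => ?_⟩)
      (fun x y ihx ihy => ⟨add_mem ihx.1 ihy.1, fun hac => ?_⟩)
    · rw [show (⟨x * y, hac⟩ : ↥(I ^ c)) = y • ⟨x, hx⟩ from Subtype.ext (mul_comm x y), map_smul, smul_eq_mul]
      exact Ideal.mul_mem_right _ _ hy
    · have e := map_add (φ j) ⟨x, ihx.1⟩ ⟨y, ihy.1⟩
      have h3 := add_mem (ihx.2 ihx.1) (ihy.2 ihy.1)
      rw [← e] at h3
      exact h3
  refine ⟨c + k, Nat.le_add_right c k, fun Φ hΦ n => ?_⟩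
  obtain ⟨hΦadd, hΦsmul, hΦhom, hΦmul, hΦ0, hΦ1⟩ := hΦ
  set c' := c + k with hc'
  -- the coefficients of the given maps
  have hcoeff : ∀ (n : ℕ) (g : A), g ∈ I ^ (n * c') →
      Φ n g ∈ (I ^ (n * k)).map (MvPolynomial.C : A →+* MvPolynomial (Fin r) A) ∧
        MvPolynomial.aeval f (Φ n g) = g := by
    intro n
    induction n with
    | zero =>
      intro g _
      rw [hΦ0]
      refine ⟨?_, MvPolynomial.aeval_C f g⟩
      rw [zero_mul, pow_zero, Ideal.one_eq_top, Ideal.map_top]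
      trivial
    | succ n ih =>
      have hone : ∀ a ∈ I ^ c', Φ 1 a ∈ (I ^ k).map (MvPolynomial.C : A →+* MvPolynomial (Fin r) A) ∧
          MvPolynomial.aeval f (Φ 1 a) = a := by
        intro a ha
        rw [hΦ1 a ha]
        refine ⟨Ideal.sum_mem _ fun j _ => Ideal.mul_mem_right _ _ (Ideal.mem_map_of_mem _ ?_), ?_⟩
        · rw [hc', pow_add] at ha
          exact hφmem j a ha _
        · rw [map_sum]
          refine Eq.trans ?_ (hφ ⟨a, Ideal.pow_le_pow_right (Nat.le_add_right c k) ha⟩).symm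
          exact Finset.sum_congr rfl fun j _ => by
            rw [map_mul, MvPolynomial.aeval_C, MvPolynomial.aeval_X, mul_comm]; rfl
      intro g hg
      rw [add_mul, one_mul, pow_add, mul_comm (I ^ (n * c'))] at hg
      suffices h : (Φ (n + 1) g ∈ (I ^ ((n + 1) * k)).map (MvPolynomial.C : A →+* MvPolynomial (Fin r) A) ∧
          MvPolynomial.aeval f (Φ (n + 1) g) = g) ∧ g ∈ I ^ ((n + 1) * c') from h.1
      induction hg using Submodule.mul_induction_on' with
      | mem_mul_mem a ha b hb =>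
        refine ⟨?_, by rw [add_mul, one_mul, pow_add, mul_comm a b]; exact Ideal.mul_mem_mul hb ha⟩
        rw [show n + 1 = 1 + n by omega, hΦmul 1 n a (by rwa [one_mul]) b hb]
        refine ⟨?_, by rw [map_mul, (hone a ha).2, (ih b hb).2]⟩
        rw [add_mul, one_mul, pow_add, Ideal.map_mul]
        exact Ideal.mul_mem_mul (hone a ha).1 (ih b hb).1
      | add x _ y _ hx hy =>
        refine ⟨⟨?_, ?_⟩, add_mem hx.2 hy.2⟩
        · rw [hΦadd _ x hx.2 y hy.2]; exact add_mem hx.1.1 hy.1.1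
        · rw [hΦadd _ x hx.2 y hy.2, map_add, hx.1.2, hy.1.2]
  -- the free presentation
  let S : Set N := {y : N | ∃ g ∈ I ^ (n * c'), ∃ x : N, y = algebraMap A B g • x}
  let ev : ((↥(I ^ (n * c')) × N) →₀ B) →ₗ[B] N := Finsupp.linearCombination B fun p => algebraMap A B p.1.1 • p.2
  let ω : ((↥(I ^ (n * c')) × N) →₀ B) →ₗ[B] (MvPolynomial (Fin r) B ⊗[B] N) :=
    Finsupp.linearCombination B fun p => MvPolynomial.map (algebraMap A B) (Φ n p.1.1) ⊗ₜ[B] p.2
  let E : (MvPolynomial (Fin r) B ⊗[B] N) ≃ₗ[B] ((Fin r →₀ ℕ) →₀ N) :=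
    (LinearEquiv.rTensor N (MvPolynomial.basisMonomials (Fin r) B).repr) ≪≫ₗ
      TensorProduct.finsuppScalarLeft B N (Fin r →₀ ℕ)
  have hE : ∀ (p : MvPolynomial (Fin r) B) (x : N) (m : Fin r →₀ ℕ),
      E (p ⊗ₜ[B] x) m = MvPolynomial.coeff m p • x := fun p x m => by
    simp [E]
    rfl
  have hker : LinearMap.ker ev ≤ LinearMap.ker ω := by
    intro w hw
    rw [LinearMap.mem_ker] at hw ⊢
    refine E.injective ?_
    rw [map_zero]
    ext m
    rw [Finsupp.zero_apply]
    let θ : ↥(I ^ (n * c')) → A := fun g => MvPolynomial.coeff m (Φ n g.1)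
    have hz : E (ω w) m = Finsupp.linearCombination B (fun p : ↥(I ^ (n * c')) × N => algebraMap A B (θ p.1) • p.2) w := by
      show E ((Finsupp.linearCombination B _) w) m = _
      simp only [Finsupp.linearCombination_apply, Finsupp.sum, map_sum, Finsupp.finsetSum_apply, map_smul,
        Finsupp.smul_apply, hE, MvPolynomial.coeff_map]
      rfl
    rw [hz]
    rcases Nat.eq_zero_or_pos n with hn | hn
    · subst hn
      have hlin : ∀ p : ↥(I ^ (0 * c')) × N, algebraMap A B (θ p.1) • p.2 =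
          algebraMap A B (MvPolynomial.coeff m (1 : MvPolynomial (Fin r) A)) • (algebraMap A B p.1.1 • p.2) := by
        intro p
        rw [smul_smul, ← map_mul]
        congr 2
        show MvPolynomial.coeff m (Φ 0 p.1.1) = _
        refine (congrArg (MvPolynomial.coeff m) (hΦ0 p.1.1)).trans ?_
        refine Eq.trans ?_ (mul_comm _ _)
        refine Eq.trans ?_ (MvPolynomial.coeff_C_mul m p.1.1 1)
        rw [mul_one]
      rw [Finsupp.linearCombination_apply, Finsupp.sum,
        Finset.sum_congr rfl fun p _ => by rw [hlin p, smul_comm], ← Finset.smul_sum]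
      exact (congrArg _ hw).trans (smul_zero _)
    · refine hAR _ ?_ ⟨n * c', fun a ha => ?_⟩
      · rw [Finsupp.linearCombination_apply]
        refine Submodule.sum_mem _ fun p _ => Submodule.smul_mem _ _ (Submodule.smul_mem_smul ?_ trivial)
        rw [hIB, ← Ideal.map_pow]
        refine Ideal.mem_map_of_mem _ (Ideal.pow_le_pow_right (Nat.le_mul_of_pos_left k hn) ?_)
        exact MvPolynomial.mem_map_C_iff.1 (hcoeff n p.1.1 p.1.2).1 m
      · rw [hIB, ← Ideal.map_pow] at ha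
        suffices h : (I ^ (n * c')).map (algebraMap A B) ≤
            LinearMap.ker (LinearMap.toSpanSingleton B N
              (Finsupp.linearCombination B (fun p : ↥(I ^ (n * c')) × N => algebraMap A B (θ p.1) • p.2) w)) by
          exact h ha
        refine Ideal.map_le_iff_le_comap.2 fun h hh => ?_
        rw [Ideal.mem_comap, LinearMap.mem_ker, LinearMap.toSpanSingleton_apply]
        have hsym : ∀ p : ↥(I ^ (n * c')) × N, algebraMap A B h • (algebraMap A B (θ p.1) • p.2) =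
            algebraMap A B (θ ⟨h, hh⟩) • (algebraMap A B p.1.1 • p.2) := by
          intro p
          rw [smul_smul, smul_smul, ← map_mul, ← map_mul]
          congr 2
          have e : h • Φ n p.1.1 = p.1.1 • Φ n h := by
            rw [← hΦsmul n h p.1.1 p.1.2, ← hΦsmul n p.1.1 h hh, mul_comm]
          have e' := congrArg (MvPolynomial.coeff m) e
          rw [MvPolynomial.coeff_smul, MvPolynomial.coeff_smul, smul_eq_mul, smul_eq_mul] at e'
          rw [mul_comm (θ ⟨h, hh⟩)]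
          exact e'
        rw [Finsupp.linearCombination_apply, Finsupp.sum, Finset.smul_sum,
          Finset.sum_congr rfl fun p _ => by rw [smul_comm, hsym p, smul_comm], ← Finset.smul_sum]
        exact (congrArg _ hw).trans (smul_zero _)
  have hrange : LinearMap.range ev = Submodule.span B S := by
    rw [Finsupp.range_linearCombination]
    congr 1
    ext y
    exact ⟨fun ⟨p, hp⟩ => ⟨p.1.1, p.1.2, p.2, hp.symm⟩, fun ⟨g, hg, x, hy⟩ => ⟨(⟨g, hg⟩, x), hy.symm⟩⟩
  let ev' : ((↥(I ^ (n * c')) × N) →₀ B) →ₗ[B] ↥(Submodule.span B S) := ev.codRestrict _ fun w => hrange ▸ LinearMap.mem_range_self ev w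
  have hev' : Function.Surjective ev' := fun y => by
    obtain ⟨w, hw⟩ : (y : N) ∈ LinearMap.range ev := hrange.ge y.2
    exact ⟨w, Subtype.ext hw⟩
  let Ψ : ↥(Submodule.span B S) →ₗ[B] (MvPolynomial (Fin r) B ⊗[B] N) :=
    ((LinearMap.ker ev').liftQ ω (by rw [LinearMap.ker_codRestrict]; exact hker)) ∘ₗ
      (ev'.quotKerEquivOfSurjective hev').symm.toLinearMap
  have hΨ : ∀ w, Ψ (ev' w) = ω w := fun w => by
    simp only [Ψ, LinearMap.comp_apply, LinearEquiv.coe_coe]
    rw [show (ev'.quotKerEquivOfSurjective hev').symm (ev' w) = Submodule.Quotient.mk w from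
      (LinearEquiv.symm_apply_eq _).2 rfl, Submodule.liftQ_apply]
  have hgen : ∀ (g : A) (hg : g ∈ I ^ (n * c')) (x : N) (hm),
      Ψ ⟨algebraMap A B g • x, hm⟩ = MvPolynomial.map (algebraMap A B) (Φ n g) ⊗ₜ[B] x := by
    intro g hg x hm
    have : (⟨algebraMap A B g • x, hm⟩ : ↥(Submodule.span B S)) = ev' (Finsupp.single (⟨g, hg⟩, x) 1) :=
      Subtype.ext (by simp [ev', ev])
    rw [this, hΨ]
    simp [ω]
  refine ⟨Ψ, fun g hg x => hgen g hg x _, ?_, ?_⟩
  · intro y
    obtain ⟨w, rfl⟩ := hev' y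
    rw [hΨ]
    show _ = ev w
    simp only [ω, ev, Finsupp.linearCombination_apply, Finsupp.sum, map_sum, map_smul]
    refine Finset.sum_congr rfl fun p _ => ?_
    congr 1
    rw [TensorProduct.lift.tmul]
    show MvPolynomial.aeval (fun j => algebraMap A B (f j)) (MvPolynomial.map (algebraMap A B) (Φ n p.1.1)) • p.2 = _
    congr 1
    have key : ∀ P : MvPolynomial (Fin r) A, MvPolynomial.aeval (fun j => algebraMap A B (f j))
        (MvPolynomial.map (algebraMap A B) P) = algebraMap A B (MvPolynomial.aeval f P) := by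
      intro P
      induction P using MvPolynomial.induction_on with
      | C a => simp
      | add u v hu hv => simp only [map_add, hu, hv]
      | mul_X u i hu => simp only [map_mul, hu, MvPolynomial.map_X, MvPolynomial.aeval_X]
    rw [key, (hcoeff n p.1.1 p.1.2).2]
  · intro Ψ' hΨ'
    refine LinearMap.ext fun y => ?_
    obtain ⟨w, rfl⟩ := hev' y
    rw [hΨ]
    induction w using Finsupp.induction_linear with
    | zero => simp
    | add u v hu hv => rw [map_add ev', map_add Ψ', map_add ω, hu, hv]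
    | single p b =>
      have : ev' (Finsupp.single p b) = b • (⟨algebraMap A B p.1.1 • p.2,
          Submodule.subset_span ⟨p.1.1, p.1.2, p.2, rfl⟩⟩ : ↥(Submodule.span B S)) :=
        Subtype.ext (by simp [ev', ev])
      rw [this, map_smul, hΨ' p.1.1 p.1.2 p.2]
      simp [ω]


end Groth.Agent.S8833
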