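import Groth.Statements.S8834
import Groth.Agent.Lib.Adic.Restricted

set_option autoImplicit false
universe u
open AdicRing

namespace Groth.Agent.S8834

/-- Let A be a Noetherian ring complete for the adic topology of an ideal I and B a Noetherian ring
complete for the adic topology of an ideal J, with an algebra map A → B sending I into the radical
of J (a continuous homomorphism of adic Noetherian topological rings; the radicals of I and J are
the ideals of topologically nilpotent elements). Assume B/√J is of finite type over A, equivalently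
over A/√I. Then B is topologically of finite type over A: there are b_1, …, b_s ∈ B such that the
A-algebra map A[x_1, …, x_s] → B with x_i ↦ b_i has dense image for the J-adic topology, that is,
for every y ∈ B and every n there is a polynomial whose value at b differs from y by an element of
J^n. -/
theorem result (A : Type u) [CommRing A] [IsNoetherianRing A] (I : Ideal A) [IsAdicComplete I A] (B : Type u) [CommRing B] [Algebra A B] [IsNoetherianRing B] (J : Ideal B) [IsAdicComplete J B] (hIJ : I.map (algebraMap A B) ≤ J.radical) (hft : Algebra.FiniteType A (B ⧸ J.radical)) : ∃ s : ℕ, ∃ b : Fin s → B, ∀ (y : B) (n : ℕ), ∃ p : MvPolynomial (Fin s) A, y - MvPolynomial.aeval b p ∈ J ^ n := by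
  classical
  obtain ⟨r, b, hb⟩ := Lib.Adic.Restricted.exists_aeval_of_finiteType hft
  obtain ⟨k, g, hg⟩ := Submodule.fg_iff_exists_fin_generating_family.1
    ((isNoetherianRing_iff_ideal_fg B).1 ‹_› J.radical)
  refine ⟨r + k, Fin.append b g, fun y n => ?_⟩
  let S : Subalgebra A B := (MvPolynomial.aeval (Fin.append b g) : MvPolynomial (Fin (r + k)) A →ₐ[A] B).range
  have hbS : ∀ p : MvPolynomial (Fin r) A, MvPolynomial.aeval b p ∈ S := fun p => by
    refine ⟨MvPolynomial.rename (Fin.castAdd k) p, ?_⟩
    change MvPolynomial.aeval (Fin.append b g) (MvPolynomial.rename (Fin.castAdd k) p) = _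
    rw [MvPolynomial.aeval_rename]
    congr 2
    funext i
    simp
  have hgS : ∀ i, g i ∈ S := fun i => ⟨MvPolynomial.X (Fin.natAdd r i), by simp⟩
  have hpow : ∀ t : ℕ, ∀ z ∈ J.radical ^ t, ∃ s ∈ S, z - s ∈ J.radical ^ (t + 1) := by
    intro t
    induction t with
    | zero =>
        intro z _
        obtain ⟨p, hp⟩ := hb z
        exact ⟨_, hbS p, by simpa using hp⟩
    | succ t ih =>
        intro z hz
        rw [pow_succ] at hz
        induction hz using Submodule.mul_induction_on' with
        | mem_mul_mem a ha c hc =>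
            rw [← hg] at hc
            obtain ⟨e, rfl⟩ := (Submodule.mem_span_range_iff_exists_fun B).1 hc
            choose s hs hs' using fun j => ih (e j * a) (Ideal.mul_mem_left _ _ ha)
            refine ⟨∑ j, s j * g j, S.sum_mem fun j _ => S.mul_mem (hs j) (hgS j), ?_⟩
            rw [Finset.mul_sum, ← Finset.sum_sub_distrib]
            refine Ideal.sum_mem _ fun j _ => ?_
            rw [smul_eq_mul, show a * (e j * g j) - s j * g j = (e j * a - s j) * g j by ring, pow_succ]
            exact Ideal.mul_mem_mul (hs' j) (hg ▸ Submodule.subset_span ⟨j, rfl⟩)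
        | add a _ c _ h₁ h₂ =>
            obtain ⟨s₁, hs₁, e₁⟩ := h₁
            obtain ⟨s₂, hs₂, e₂⟩ := h₂
            exact ⟨s₁ + s₂, S.add_mem hs₁ hs₂, by rw [add_sub_add_comm]; exact Ideal.add_mem _ e₁ e₂⟩
  have hall : ∀ t : ℕ, ∀ z : B, ∃ s ∈ S, z - s ∈ J.radical ^ t := by
    intro t
    induction t with
    | zero => exact fun z => ⟨0, S.zero_mem, by simp⟩
    | succ t ih =>
        intro z
        obtain ⟨s, hs, hz⟩ := ih z
        obtain ⟨s', hs', hz'⟩ := hpow t _ hz
        exact ⟨s + s', S.add_mem hs hs', by rwa [← sub_sub]⟩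
  obtain ⟨m, hm⟩ := J.exists_radical_pow_le_of_fg ((isNoetherianRing_iff_ideal_fg B).1 ‹_› J.radical)
  obtain ⟨s, ⟨p, rfl⟩, hs⟩ := hall (m * n) y
  refine ⟨p, ?_⟩
  rw [pow_mul] at hs
  exact Ideal.pow_right_mono hm n hs

end Groth.Agent.S8834
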