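import Groth.Statements.S8835
import Groth.Agent.Lib.Adic.RigClosed

set_option autoImplicit false
universe u
open AdicRing

namespace Groth.Agent.S8835

/-- Let A be a Noetherian ring complete for the adic topology of an ideal I, and B a Noetherian
A-algebra complete for the IB-adic topology with B/IB of finite type over A (an adic morphism,
topologically of finite type, of adic Noetherian topological rings). Let q be a prime of B which is
rig-closed (IB ⊄ q and q maximal among the primes not containing IB). If A/I is a Jacobson ring,
then the inverse image p of q in A is rig-closed: I ⊄ p and p is maximal among the primes of A not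
containing I. -/
theorem result (A : Type u) [CommRing A] [IsNoetherianRing A] (I : Ideal A) [IsAdicComplete I A] (B : Type u) [CommRing B] [Algebra A B] [IsNoetherianRing B] [IsAdicComplete (I.map (algebraMap A B)) B] (hft : Algebra.FiniteType A (B ⧸ (I.map (algebraMap A B)))) (q : PrimeSpectrum B) (hq : (¬ (I.map (algebraMap A B)) ≤ q.asIdeal ∧ ∀ y : PrimeSpectrum B, q ≤ y → ¬ (I.map (algebraMap A B)) ≤ y.asIdeal → y = q)) (hJ : IsJacobsonRing (A ⧸ I)) : (¬ I ≤ (PrimeSpectrum.comap (algebraMap A B) q).asIdeal ∧ ∀ y : PrimeSpectrum A, (PrimeSpectrum.comap (algebraMap A B) q) ≤ y → ¬ I ≤ y.asIdeal → y = (PrimeSpectrum.comap (algebraMap A B) q)) := by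
  refine Lib.Adic.RigClosed.comap_rigClosed hq (Lib.Adic.RigClosed.finite_quotient hq fun m hm hqm => ?_)
  exact Lib.Adic.RigClosed.residue_finite hft hq (K := I)
    (Ideal.map_le_iff_le_comap.1 le_sup_right) hm hqm

end Groth.Agent.S8835
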