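import Groth.Statements.S8836
import Groth.Agent.Lib.Adic.RigClosed
import Mathlib.RingTheory.Ideal.GoingDown

set_option autoImplicit false
universe u
open AdicRing

namespace Groth.Agent.S8836

/-- Let A be a Noetherian ring complete for the adic topology of an ideal I, and B a Noetherian
A-algebra complete for the IB-adic topology, flat over A, with B/IB of finite type over A (a flat
adic morphism, topologically of finite type, of adic Noetherian topological rings). Let p be a prime
of A which is rig-closed (I ⊄ p and p maximal among the primes not containing I). The following are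
equivalent: (1) the maximal ideal of the local ring A/p lies in the image of Spec(B/√(IB)) →
Spec(A/√I), stated as: some prime Q of B containing IB lies over a maximal ideal of A containing p;
(2) there is a rig-closed prime q of B (IB ⊄ q, q maximal among the primes not containing IB) whose
inverse image in A is p. (The published statement adds that, when these hold, A/p ⊆ B/q is a finite
extension of rings and the residue field of the local ring B/q is finite over A/√I; this is not
restated here.) -/
theorem result (A : Type u) [CommRing A] [IsNoetherianRing A] (I : Ideal A) [IsAdicComplete I A] (B : Type u) [CommRing B] [Algebra A B] [IsNoetherianRing B] [IsAdicComplete (I.map (algebraMap A B)) B] (hft : Algebra.FiniteType A (B ⧸ (I.map (algebraMap A B)))) [Module.Flat A B] (p : PrimeSpectrum A) (hp : (¬ I ≤ p.asIdeal ∧ ∀ y : PrimeSpectrum A, p ≤ y → ¬ I ≤ y.asIdeal → y = p)) : (∃ Q : PrimeSpectrum B, (I.map (algebraMap A B)) ≤ Q.asIdeal ∧ p.asIdeal ≤ (PrimeSpectrum.comap (algebraMap A B) Q).asIdeal ∧ (PrimeSpectrum.comap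 (algebraMap A B) Q).asIdeal.IsMaximal) ↔ (∃ q : PrimeSpectrum B, (¬ (I.map (algebraMap A B)) ≤ q.asIdeal ∧ ∀ y : PrimeSpectrum B, q ≤ y → ¬ (I.map (algebraMap A B)) ≤ y.asIdeal → y = q) ∧ PrimeSpectrum.comap (algebraMap A B) q = p) := by
  constructor
  · rintro ⟨Q, hIQ, hpQ, hQmax⟩
    obtain ⟨q', hq'Q, hq', hq'p⟩ := Q.asIdeal.exists_ideal_le_liesOver_of_le (R := A) (S := B)
      (p := p.asIdeal) (q := Q.asIdeal.under A) hpQ
    have hq'c : Ideal.comap (algebraMap A B) q' = p.asIdeal := hq'p.over.symm
    have hne : ({y : Ideal B | y.IsPrime ∧ q' ≤ y ∧ ¬ I.map (algebraMap A B) ≤ y}).Nonempty :=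
      ⟨q', hq', le_rfl, fun h => hp.1 (hq'c ▸ (Ideal.map_le_iff_le_comap.1 h))⟩
    obtain ⟨y, ⟨hy, hqy, hIy⟩, hmax⟩ := set_has_maximal_iff_noetherian.2 inferInstance _ hne
    refine ⟨⟨y, hy⟩, ⟨hIy, fun z hz hIz => ?_⟩, ?_⟩
    · refine PrimeSpectrum.ext (le_antisymm ?_ hz)
      by_contra h
      exact hmax z.asIdeal ⟨z.isPrime, hqy.trans hz, hIz⟩ (lt_of_le_not_ge hz h)
    · refine hp.2 _ ?_ fun h => hIy (Ideal.map_le_iff_le_comap.2 h)
      change p.asIdeal ≤ Ideal.comap (algebraMap A B) y
      exact hq'c ▸ Ideal.comap_mono hqy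
  · rintro ⟨q, hq, rfl⟩
    obtain ⟨m, hm, hqm⟩ := Ideal.exists_le_maximal q.asIdeal q.isPrime.ne_top
    have hIm : I.map (algebraMap A B) ≤ m :=
      (IsAdicComplete.le_jacobson_bot _).trans (sInf_le ⟨bot_le, hm⟩)
    refine ⟨⟨m, hm.isPrime⟩, hIm, Ideal.comap_mono hqm, ?_⟩
    exact Lib.Adic.RigClosed.isMaximal_of_lt I hp (hm.isPrime.comap _) (Ideal.comap_mono hqm)
      (Ideal.map_le_iff_le_comap.1 hIm)

end Groth.Agent.S8836
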