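import Groth.Statements.S8838
import Groth.Agent.Lib.Adic.EtaleRig
import Mathlib.RingTheory.Unramified.Basic
import Mathlib.RingTheory.Etale.Basic

set_option autoImplicit false
universe u
open AdicRing

namespace Groth.Agent.S8838

/-- The extended prime fills the maximal ideal of a localisation of a finite unramified quotient. -/
theorem maximalIdeal_le {A B : Type u} [CommRing A] [CommRing B] [Algebra A B] (P : Ideal A) [P.IsPrime]
    (q : Ideal B) [q.IsPrime] (hPq : q.comap (algebraMap A B) = P)
    [Module.Finite A (B ⧸ P.map (algebraMap A B))]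
    [Algebra.FormallyUnramified A (B ⧸ P.map (algebraMap A B))] :
    IsLocalRing.maximalIdeal (Localization.AtPrime q) ≤
      (P.map (algebraMap A B)).map (algebraMap B (Localization.AtPrime q)) := by
  let K := P.map (algebraMap A B)
  have hKq : K ≤ q := Ideal.map_le_iff_le_comap.2 hPq.ge
  let Q : Ideal (B ⧸ K) := q.map (Ideal.Quotient.mk K)
  have hQc : Q.comap (Ideal.Quotient.mk K) = q := Ideal.comap_map_mk hKq
  haveI : Q.IsPrime := Ideal.map_isPrime_of_surjective Ideal.Quotient.mk_surjective (by rw [Ideal.mk_ker]; exact hKq)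
  haveI : Q.LiesOver P := ⟨by
    show P = Q.comap (algebraMap A (B ⧸ K))
    rw [IsScalarTower.algebraMap_eq A B (B ⧸ K), ← Ideal.comap_comap, Ideal.Quotient.algebraMap_eq, hQc, hPq]⟩
  haveI : Algebra.IsUnramifiedAt A Q := inferInstance
  letI := Localization.AtPrime.algebraOfLiesOver P Q
  have h0 := ((Algebra.isUnramifiedAt_iff_map_eq A P Q).1 inferInstance).2
  have hPK : P.map (algebraMap A (Localization.AtPrime Q)) = ⊥ := by
    rw [IsScalarTower.algebraMap_eq A (B ⧸ K) (Localization.AtPrime Q), ← Ideal.map_map,
      IsScalarTower.algebraMap_eq A B (B ⧸ K), ← Ideal.map_map, Ideal.Quotient.algebraMap_eq,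
      Ideal.map_quotient_self, Ideal.map_bot]
  rw [← Localization.AtPrime.map_eq_maximalIdeal, Ideal.map_le_iff_le_comap]
  intro x hx
  have hz : algebraMap (B ⧸ K) (Localization.AtPrime Q) (Ideal.Quotient.mk K x) ∈
      P.map (algebraMap A (Localization.AtPrime Q)) := by
    rw [h0, ← Localization.AtPrime.map_eq_maximalIdeal]
    exact Ideal.mem_map_of_mem _ (Ideal.mem_map_of_mem _ hx)
  rw [hPK, Ideal.mem_bot, IsLocalization.map_eq_zero_iff Q.primeCompl] at hz
  obtain ⟨⟨s, hs⟩, hsx⟩ := hz
  obtain ⟨s, rfl⟩ := Ideal.Quotient.mk_surjective s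
  change Ideal.Quotient.mk K s * Ideal.Quotient.mk K x = 0 at hsx
  rw [← map_mul, Ideal.Quotient.eq_zero_iff_mem] at hsx
  have hsq : s ∈ q.primeCompl := fun h => hs (Ideal.mem_map_of_mem _ h)
  rw [Ideal.mem_comap, IsLocalization.algebraMap_mem_map_algebraMap_iff q.primeCompl]
  exact ⟨s, hsq, hsx⟩

/-- Suppose A is a Noetherian ring that is I-adically complete for an ideal I, and B is a Noetherian
A-algebra that is complete with respect to the IB-adic topology, with B/IB of finite type over A (so
A → B is an adic morphism of adic Noetherian topological rings that is topologically of finite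
type). Assume further that A → B is flat and that the induced map A/I → B/IB is étale (with I as the
chosen ideal of definition). Consider a prime q of B that is rig-closed (q does not contain IB, and
q is maximal among primes of B not containing IB), and suppose its preimage p in A is rig-closed as
well (p does not contain I, and p is maximal among primes of A not containing I). Then the extension
of p to the localization B_q equals its maximal ideal, that is, p B_q = q B_q. -/
theorem result (A : Type u) [CommRing A] [IsNoetherianRing A] (I : Ideal A) [IsAdicComplete I A] (B : Type u) [CommRing B] [Algebra A B] [IsNoetherianRing B] [IsAdicComplete (I.map (algebraMap A B)) B] (hft : Algebra.FiniteType A (B ⧸ (I.map (algebraMap A B)))) [Module.Flat A B] [Algebra.Etale (A ⧸ I) (B ⧸ (I.map (algebraMap A B)))] (q : PrimeSpectrum B) (hq : (¬ (I.map (algebraMap A B)) ≤ q.asIdeal ∧ ∀ y : PrimeSpectrum B, q ≤ y → ¬ (I.map (algebraMap A B)) ≤ y.asIdeal → y = q)) (hp : (¬ I ≤ (PrimeSpectrum.comap (algebraMap A B) q).asIdeal ∧ ∀ y : PrimeSpectrum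 A, (PrimeSpectrum.comap (algebraMap A B) q) ≤ y → ¬ I ≤ y.asIdeal → y = (PrimeSpectrum.comap (algebraMap A B) q))) : ((PrimeSpectrum.comap (algebraMap A B) q).asIdeal.map (algebraMap A B)).map (algebraMap B (Localization.AtPrime q.asIdeal)) = IsLocalRing.maximalIdeal (Localization.AtPrime q.asIdeal) := by
  let p := PrimeSpectrum.comap (algebraMap A B) q
  have hrc : Lib.Adic.RigClosed.IsRigClosed I p := hp
  let K := p.asIdeal.map (algebraMap A B)
  let E := B ⧸ K
  haveI hc : IsAdicComplete (I.map (algebraMap A E)) E := by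
    rw [IsScalarTower.algebraMap_eq A B E, ← Ideal.map_map]
    exact Lib.Adic.Complete.isAdicComplete_quotient K
  haveI : IsArtinianRing (A ⧸ I ⊔ p.asIdeal) := by
    refine isArtinianRing_iff_isNoetherianRing_krullDimLE_zero.2 ⟨inferInstance, ?_⟩
    refine Ring.KrullDimLE.mk₀ fun P hP => ?_
    have hle := Lib.Adic.RigClosed.le_comap_mk (I ⊔ p.asIdeal) P
    have hmax := Lib.Adic.RigClosed.isMaximal_of_lt (I := I) hrc
      (hP.comap (Ideal.Quotient.mk (I ⊔ p.asIdeal))) (le_sup_right.trans hle) (le_sup_left.trans hle)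
    rw [← Ideal.map_comap_of_surjective _ Ideal.Quotient.mk_surjective P]
    refine Ideal.IsMaximal.map_of_surjective_of_ker_le Ideal.Quotient.mk_surjective ?_
    rw [Ideal.mk_ker]
    exact hle
  haveI : Algebra.FormallyUnramified A (A ⧸ I) :=
    Algebra.FormallyUnramified.of_surjective (Algebra.ofId A (A ⧸ I)) Ideal.Quotient.mk_surjective
  haveI : Algebra.FormallyUnramified A (B ⧸ I.map (algebraMap A B)) :=
    Algebra.FormallyUnramified.comp A (A ⧸ I) _
  have hle : I.map (algebraMap A B) ≤ (I.map (algebraMap A E)).comap (Ideal.Quotient.mkₐ A K) := by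
    rw [Ideal.map_le_iff_le_comap]
    intro a ha
    exact Ideal.mem_map_of_mem (algebraMap A E) ha
  let φ : (B ⧸ I.map (algebraMap A B)) →ₐ[A] E ⧸ I.map (algebraMap A E) :=
    Ideal.quotientMapₐ _ (Ideal.Quotient.mkₐ A K) hle
  have hφ : Function.Surjective φ := Ideal.quotientMap_surjective (H := hle) Ideal.Quotient.mk_surjective
  haveI : Algebra.FiniteType A (E ⧸ I.map (algebraMap A E)) := hft.of_surjective φ hφ
  haveI : Algebra.FormallyUnramified A (E ⧸ I.map (algebraMap A E)) :=
    Algebra.FormallyUnramified.of_surjective φ hφ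
  have hbot : p.asIdeal.map (algebraMap A E) = ⊥ := by
    rw [IsScalarTower.algebraMap_eq A B E, ← Ideal.map_map, Ideal.Quotient.algebraMap_eq, Ideal.map_quotient_self]
  haveI : Module.Finite A E := Lib.Adic.EtaleRig.finite_of_unramified_mod I p.asIdeal hbot
  haveI : Algebra.FormallyUnramified A E :=
    Lib.Adic.EtaleRig.formallyUnramified_of_mod I (IsAdicComplete.le_jacobson_bot _)
  refine le_antisymm ?_ (maximalIdeal_le p.asIdeal q.asIdeal rfl)
  rw [← Localization.AtPrime.map_eq_maximalIdeal]
  exact Ideal.map_mono (Ideal.map_le_iff_le_comap.2 le_rfl)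

end Groth.Agent.S8838
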