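import Groth.Statements.S8839
import Groth.Agent.Lib.Adic.RigPoints
import Groth.Agent.S8829
import Mathlib.RingTheory.Polynomial.Basic

set_option autoImplicit false
universe u
open AdicRing

namespace Groth.Agent.S8839

/-- Rig-closed primes of the completion of a finite type algebra over rig-closed primes. -/
theorem main {A : Type u} [CommRing A] [IsNoetherianRing A] (I : Ideal A) [IsAdicComplete I A]
    {R : Type u} [CommRing R] [IsNoetherianRing R] [Algebra A R] [Algebra.FiniteType A R]
    (q : PrimeSpectrum (AdicCompletion (I.map (algebraMap A R)) R))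
    (hq : Lib.Adic.RigClosed.IsRigClosed (I.map (algebraMap A (AdicCompletion (I.map (algebraMap A R)) R))) q)
    (hp : Lib.Adic.RigClosed.IsRigClosed I
      (PrimeSpectrum.comap (algebraMap A (AdicCompletion (I.map (algebraMap A R)) R)) q)) (m : ℕ) :
    (∀ x, Localization.localRingHom (PrimeSpectrum.comap (algebraMap R _) q).asIdeal q.asIdeal
        (algebraMap R (AdicCompletion (I.map (algebraMap A R)) R)) rfl x ∈
        IsLocalRing.maximalIdeal (Localization.AtPrime q.asIdeal) ^ m →
      x ∈ IsLocalRing.maximalIdeal (Localization.AtPrime (PrimeSpectrum.comap (algebraMap R _) q).asIdeal) ^ m) ∧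
    ∀ y, ∃ x, y - Localization.localRingHom (PrimeSpectrum.comap (algebraMap R _) q).asIdeal q.asIdeal
        (algebraMap R (AdicCompletion (I.map (algebraMap A R)) R)) rfl x ∈
      IsLocalRing.maximalIdeal (Localization.AtPrime q.asIdeal) ^ m := by
  haveI := Lib.Adic.RigPoints.isAdicComplete_completion I (R := R)
  haveI : Module.Finite A (AdicCompletion (I.map (algebraMap A R)) R ⧸ q.asIdeal) :=
    ((S8829.result A I (AdicCompletion (I.map (algebraMap A R)) R)
      (Lib.Adic.RigPoints.finiteType_quotient I) q hq).out 1 2).1 hp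
  obtain ⟨hsub, -, hmap⟩ := Lib.Adic.RigPoints.of_finite I q.asIdeal
  exact Lib.Adic.RigPoints.quotient_pow_bijective _ q.asIdeal rfl hmap hsub m

/-- Let A be a Noetherian ring complete for the adic topology of an ideal I, n a natural number, and
A{x_1, …, x_n} the restricted power series ring, i.e. the I-adic completion of the polynomial ring
A[x_1, …, x_n]. Let q be a prime ideal of A{x_1, …, x_n}, q' its inverse image in A[x_1, …, x_n] and
p its inverse image in A. Assume q is rig-closed (the extension of I is not contained in q and q is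
maximal among such primes) and p is rig-closed in A (I ⊄ p, p maximal among the primes not
containing I). Then the local homomorphism A[x_1, …, x_n]_{q'} → A{x_1, …, x_n}_q induces an
isomorphism on completions with respect to the maximal ideals; stated as: for every m ≥ 1 the
induced map on quotients by the m-th powers of the maximal ideals is injective and surjective. -/
theorem result (A : Type u) [CommRing A] [IsNoetherianRing A] (I : Ideal A) [IsAdicComplete I A] (n : ℕ) (q : PrimeSpectrum (AdicCompletion (I.map (algebraMap A (MvPolynomial (Fin n) A))) (MvPolynomial (Fin n) A))) (hq : (¬ (I.map (algebraMap A (AdicCompletion (I.map (algebraMap A (MvPolynomial (Fin n) A))) (MvPolynomial (Fin n) A)))) ≤ q.asIdeal ∧ ∀ y : PrimeSpectrum (AdicCompletion (I.map (algebraMap A (MvPolynomial (Fin n) A))) (MvPolynomial (Fin n) A)), q ≤ y → ¬ (I.map (algebraMap A (AdicCompletion (I.map (algebraMap A (MvPolynomial (Fin n) A))) (MvPolynomial (Fin n) A)))) ≤ y.asIdeal → y = q)) (hp : (¬ I ≤ (PrimeSpectrum.comap (algebraMap A (AdicCompletion (I.map (algebraMap A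 (MvPolynomial (Fin n) A))) (MvPolynomial (Fin n) A))) q).asIdeal ∧ ∀ y : PrimeSpectrum A, (PrimeSpectrum.comap (algebraMap A (AdicCompletion (I.map (algebraMap A (MvPolynomial (Fin n) A))) (MvPolynomial (Fin n) A))) q) ≤ y → ¬ I ≤ y.asIdeal → y = (PrimeSpectrum.comap (algebraMap A (AdicCompletion (I.map (algebraMap A (MvPolynomial (Fin n) A))) (MvPolynomial (Fin n) A))) q))) (m : ℕ) (hm : 1 ≤ m) : (∀ x : (Localization.AtPrime (PrimeSpectrum.comap (algebraMap (MvPolynomial (Fin n) A) (AdicCompletion (I.map (algebraMap A (MvPolynomial (Fin n) A))) (MvPolynomial (Fin n) A))) q).asIdeal), (Localization.localRingHom (PrimeSpectrum.comap (algebraMap (MvPolynomial (Fin n) A) (AdicCompletion (I.map (algebraMap A (MvPolynomial (Fin n) A))) (MvPolynomial (Fin n) A))) q).asIdeal q.asIdeal (algebraMap (MvPolynomial (Fin n) A) (AdicCompletion (I.map (algebraMap A (MvPolynomial (Fin n) A))) (MvPolynomial (Fin n) A))) rfl) x ∈ (IsLocalRing.maximalIdeal (Localization.AtPrime q.asIdeal)) ^ m → x ∈ (IsLocalRing.maximalIdeal (Localization.AtPrime (PrimeSpectrum.comap (algebraMap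 (MvPolynomial (Fin n) A) (AdicCompletion (I.map (algebraMap A (MvPolynomial (Fin n) A))) (MvPolynomial (Fin n) A))) q).asIdeal)) ^ m) ∧ (∀ y : (Localization.AtPrime q.asIdeal), ∃ x : (Localization.AtPrime (PrimeSpectrum.comap (algebraMap (MvPolynomial (Fin n) A) (AdicCompletion (I.map (algebraMap A (MvPolynomial (Fin n) A))) (MvPolynomial (Fin n) A))) q).asIdeal), y - (Localization.localRingHom (PrimeSpectrum.comap (algebraMap (MvPolynomial (Fin n) A) (AdicCompletion (I.map (algebraMap A (MvPolynomial (Fin n) A))) (MvPolynomial (Fin n) A))) q).asIdeal q.asIdeal (algebraMap (MvPolynomial (Fin n) A) (AdicCompletion (I.map (algebraMap A (MvPolynomial (Fin n) A))) (MvPolynomial (Fin n) A))) rfl) x ∈ (IsLocalRing.maximalIdeal (Localization.AtPrime q.asIdeal)) ^ m) := by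
  exact main I q hq hp m

end Groth.Agent.S8839
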