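import Groth.Statements.S8841
import Groth.Agent.Lib.Adic.RigFlat
import Groth.Agent.S8835
import Mathlib.RingTheory.Jacobson.Ring
import Mathlib.RingTheory.Localization.InvSubmonoid
import Mathlib.RingTheory.Localization.Submodule

set_option autoImplicit false
universe u
open AdicRing

namespace Groth.Agent.S8841

open Lib.Adic.RigClosed in
/-- Rig-closed primes with finite residue extensions have finite quotients. -/
theorem finite_of_jacobson {A : Type u} [CommRing A] [IsNoetherianRing A] {I : Ideal A} [IsAdicComplete I A]
    {B : Type u} [CommRing B] [Algebra A B] [IsNoetherianRing B]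
    [IsAdicComplete (I.map (algebraMap A B)) B] {q : PrimeSpectrum B}
    (hft : Algebra.FiniteType A (B ⧸ I.map (algebraMap A B)))
    (hq : IsRigClosed (I.map (algebraMap A B)) q) [IsJacobsonRing (A ⧸ I)] :
    Module.Finite A (B ⧸ q.asIdeal) :=
  finite_quotient hq fun m hm hqm =>
    residue_finite hft hq (K := I) (Ideal.map_le_iff_le_comap.1 le_sup_right) hm hqm

open Lib.Adic.RigClosed in
theorem main {A : Type u} [CommRing A] [IsNoetherianRing A] (I : Ideal A) [IsAdicComplete I A]
    {B : Type u} [CommRing B] [Algebra A B] [IsNoetherianRing B] [IsAdicComplete (I.map (algebraMap A B)) B]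
    (hft : Algebra.FiniteType A (B ⧸ I.map (algebraMap A B))) [IsJacobsonRing (A ⧸ I)]
    (hnaive : ∀ q : PrimeSpectrum B, IsRigClosed (I.map (algebraMap A B)) q →
      Module.Flat A (Localization.AtPrime q.asIdeal))
    (f : A) (Af : Type u) [CommRing Af] [Algebra A Af] [IsLocalization.Away f Af] [IsNoetherianRing Af]
    [Algebra.FiniteType A Af] (Bf : Type u) [CommRing Bf] [IsNoetherianRing Bf] [Algebra B Bf] [Module.Flat B Bf]
    [Algebra.FiniteType B Bf] [Algebra A Bf] [IsScalarTower A B Bf]
    (ψ : AdicCompletion (I.map (algebraMap A Af)) Af →+*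
      AdicCompletion ((I.map (algebraMap A B)).map (algebraMap B Bf)) Bf)
    (h : ∀ a, ψ (algebraMap A _ a) = algebraMap B _ (algebraMap A B a))
    (q' : PrimeSpectrum (AdicCompletion ((I.map (algebraMap A B)).map (algebraMap B Bf)) Bf))
    (hq' : IsRigClosed (((I.map (algebraMap A B)).map (algebraMap B Bf)).map (algebraMap Bf _)) q') :
    ((algebraMap _ (Localization.AtPrime q'.asIdeal)).comp ψ).Flat := by
  let J := I.map (algebraMap A B)
  let TA := AdicCompletion (I.map (algebraMap A Af)) Af
  let TB := AdicCompletion (J.map (algebraMap B Bf)) Bf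
  have hJ' : (J.map (algebraMap B Bf)).map (algebraMap Bf TB) = J.map (algebraMap B TB) := by
    exact (Ideal.map_map _ _).trans (congrArg (fun g => J.map g) (IsScalarTower.algebraMap_eq B Bf TB).symm)
  rw [hJ'] at hq'
  haveI : IsAdicComplete (J.map (algebraMap B TB)) TB := Lib.Adic.RigPoints.isAdicComplete_completion J
  have hftB : Algebra.FiniteType B (TB ⧸ J.map (algebraMap B TB)) := Lib.Adic.RigPoints.finiteType_quotient J
  haveI : IsJacobsonRing (B ⧸ J) := by
    haveI := hft
    haveI : Algebra.FiniteType (A ⧸ I) (B ⧸ J) := Algebra.FiniteType.of_restrictScalars_finiteType A _ _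
    exact isJacobsonRing_of_finiteType (A := A ⧸ I)
  let q : PrimeSpectrum B := PrimeSpectrum.comap (algebraMap B TB) q'
  have hq : IsRigClosed J q := S8835.result B J TB hftB q' hq' inferInstance
  haveI : Module.Finite A (B ⧸ q.asIdeal) := finite_of_jacobson hft hq
  haveI : Module.Finite B (TB ⧸ q'.asIdeal) := finite_of_jacobson hftB hq'
  haveI : Module.Finite A (TB ⧸ q'.asIdeal) := by
    letI : Algebra (B ⧸ q.asIdeal) (TB ⧸ q'.asIdeal) :=
      (Ideal.quotientMap q'.asIdeal (algebraMap B TB) le_rfl).toAlgebra
    haveI : IsScalarTower B (B ⧸ q.asIdeal) (TB ⧸ q'.asIdeal) :=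
      IsScalarTower.of_algebraMap_eq (R := B) (S := B ⧸ q.asIdeal) (A := TB ⧸ q'.asIdeal) fun _ => rfl
    haveI : IsScalarTower A (B ⧸ q.asIdeal) (TB ⧸ q'.asIdeal) :=
      IsScalarTower.of_algebraMap_eq (R := A) (S := B ⧸ q.asIdeal) (A := TB ⧸ q'.asIdeal) fun a => by
        change _ = algebraMap B (TB ⧸ q'.asIdeal) (algebraMap A B a)
        rw [← IsScalarTower.algebraMap_apply]
    haveI : Module.Finite (B ⧸ q.asIdeal) (TB ⧸ q'.asIdeal) :=
      Module.Finite.of_restrictScalars_finite B _ _
    exact Module.Finite.trans (B ⧸ q.asIdeal) (TB ⧸ q'.asIdeal)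
  letI : Algebra TA TB := ψ.toAlgebra
  haveI : IsScalarTower A TA TB := IsScalarTower.of_algebraMap_eq (R := A) (S := TA) (A := TB) fun a =>
    ((h a).trans (IsScalarTower.algebraMap_apply A B TB a).symm).symm
  let p' : Ideal TA := q'.asIdeal.comap (algebraMap TA TB)
  haveI : Module.Finite A (TA ⧸ p') := by
    let φ : (TA ⧸ p') →ₐ[A] TB ⧸ q'.asIdeal :=
      Ideal.quotientMapₐ q'.asIdeal (IsScalarTower.toAlgHom A TA TB) le_rfl
    exact Module.Finite.of_injective φ.toLinearMap (Ideal.quotientMap_injective (I := q'.asIdeal))
  obtain ⟨hres, -, hmap⟩ := Lib.Adic.RigPoints.of_finite I p'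
  -- the local ring of `TB` is flat over `A`
  let S := Localization.AtPrime q'.asIdeal
  haveI : Module.Flat TB S := IsLocalization.flat _ q'.asIdeal.primeCompl
  haveI : Module.Flat Bf TB := AdicCompletion.flat_of_isNoetherian _
  haveI : Module.Flat B TB := Module.Flat.trans B Bf TB
  haveI : Module.Flat B S := Module.Flat.trans B TB S
  have hunit : ∀ y : q.asIdeal.primeCompl, IsUnit (algebraMap B S y) := fun y => by
    rw [IsScalarTower.algebraMap_apply B TB S]
    exact IsLocalization.map_units S (⟨algebraMap B TB y, y.2⟩ : q'.asIdeal.primeCompl)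
  letI : Algebra (Localization.AtPrime q.asIdeal) S := (IsLocalization.lift hunit).toAlgebra
  haveI : IsScalarTower B (Localization.AtPrime q.asIdeal) S :=
    IsScalarTower.of_algebraMap_eq (R := B) (S := Localization.AtPrime q.asIdeal) (A := S) fun x =>
      (IsLocalization.lift_eq hunit x).symm
  haveI : IsScalarTower A (Localization.AtPrime q.asIdeal) S :=
    IsScalarTower.of_algebraMap_eq (R := A) (S := Localization.AtPrime q.asIdeal) (A := S) fun x => by
      rw [IsScalarTower.algebraMap_apply A B (Localization.AtPrime q.asIdeal),
        ← IsScalarTower.algebraMap_apply B (Localization.AtPrime q.asIdeal) S,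
        IsScalarTower.algebraMap_apply B TB S, ← IsScalarTower.algebraMap_apply A B TB,
        ← IsScalarTower.algebraMap_apply]
  haveI : Module.Flat (Localization.AtPrime q.asIdeal) S :=
    (Module.flat_iff_of_isLocalization (Localization.AtPrime q.asIdeal) q.asIdeal.primeCompl S).2 ‹_›
  haveI := hnaive q hq
  haveI : Module.Flat A S := Module.Flat.trans A (Localization.AtPrime q.asIdeal) S
  -- and so over the completion
  letI : Algebra Af TB := (ψ.comp (algebraMap Af TA)).toAlgebra
  haveI : IsScalarTower Af TA TB := IsScalarTower.of_algebraMap_eq (R := Af) (S := TA) (A := TB) fun _ => rfl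
  haveI : IsScalarTower A Af TB := IsScalarTower.of_algebraMap_eq (R := A) (S := Af) (A := TB) fun a => by
    change _ = ψ (algebraMap Af TA (algebraMap A Af a))
    rw [← IsScalarTower.algebraMap_apply A Af TA, h, ← IsScalarTower.algebraMap_apply]
  haveI : IsScalarTower Af TA S := IsScalarTower.of_algebraMap_eq (R := Af) (S := TA) (A := S) fun x => by
    rw [IsScalarTower.algebraMap_apply Af TB S, IsScalarTower.algebraMap_apply TA TB S,
      ← IsScalarTower.algebraMap_apply Af TA TB]
  haveI : IsScalarTower A Af S := IsScalarTower.of_algebraMap_eq (R := A) (S := Af) (A := S) fun x => by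
    rw [IsScalarTower.algebraMap_apply A TB S, IsScalarTower.algebraMap_apply Af TB S,
      ← IsScalarTower.algebraMap_apply A Af TB]
  haveI : Module.Flat Af S :=
    (Module.flat_iff_of_isLocalization Af (Submonoid.powers f) S).2 ‹_›
  haveI : Module.Flat Af TA := AdicCompletion.flat_of_isNoetherian _
  haveI : IsNoetherianRing S := IsLocalization.isNoetherianRing q'.asIdeal.primeCompl _ inferInstance
  have hQ : (IsLocalRing.maximalIdeal S).comap (algebraMap TA S) = p' := by
    ext x
    exact IsLocalization.AtPrime.to_map_mem_maximal_iff S q'.asIdeal (ψ x)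
  haveI : p'.IsPrime := Ideal.IsPrime.comap _
  exact RingHom.flat_algebraMap_iff.2 (Lib.Adic.RigFlat.flat_of_point p' hQ hmap hres)

/-- Let A be a Noetherian ring complete for the adic topology of an ideal I, and B a Noetherian
A-algebra complete for the IB-adic topology with B/IB of finite type over A (an adic morphism,
topologically of finite type, of adic Noetherian topological rings), and assume A/I is a Jacobson
ring. Suppose A → B is naively rig-flat: whenever q is a rig-closed prime of B (IB ⊄ q and q maximal
among the primes not containing IB), the localization B_q is an A-flat ring. Then A → B is rig-flat: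
for every f ∈ A, letting A_{f} and B_{f} be the completed principal localizations (the I-adic
completions of A_f and B_f) and ψ : A_{f} → B_{f} the canonical map, characterised here as any ring
map compatible with A_f → B_f (there is exactly one), the local ring (B_{f})_{q'} is flat over A_{f}
via ψ for every rig-closed prime q' of B_{f} (I B_{f} ⊄ q' and q' maximal among the primes not
containing I B_{f}). (That A_{f} → B_{f} is again adic and topologically of finite type is not
restated.) -/
theorem result (A : Type u) [CommRing A] [IsNoetherianRing A] (I : Ideal A) [IsAdicComplete I A] (B : Type u) [CommRing B] [Algebra A B] [IsNoetherianRing B] [IsAdicComplete (I.map (algebraMap A B)) B] (hft : Algebra.FiniteType A (B ⧸ (I.map (algebraMap A B)))) (hJ : IsJacobsonRing (A ⧸ I)) (hnaive : ∀ q : PrimeSpectrum B, (¬ (I.map (algebraMap A B)) ≤ q.asIdeal ∧ ∀ y : PrimeSpectrum B, q ≤ y → ¬ (I.map (algebraMap A B)) ≤ y.asIdeal → y = q) → (algebraMap A (Localization.AtPrime q.asIdeal)).Flat) (f : A) (ψ : (AdicCompletion (I.map (algebraMap A (Localization.Away f))) (Localization.Away f)) →+*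 (AdicCompletion ((I.map (algebraMap A B)).map (algebraMap B (Localization.Away (algebraMap A B f)))) (Localization.Away (algebraMap A B f)))) (hψ : ψ.comp (algebraMap (Localization.Away f) (AdicCompletion (I.map (algebraMap A (Localization.Away f))) (Localization.Away f))) = (algebraMap (Localization.Away (algebraMap A B f)) (AdicCompletion ((I.map (algebraMap A B)).map (algebraMap B (Localization.Away (algebraMap A B f)))) (Localization.Away (algebraMap A B f)))).comp (Localization.awayMap (algebraMap A B) f)) (q' : PrimeSpectrum (AdicCompletion ((I.map (algebraMap A B)).map (algebraMap B (Localization.Away (algebraMap A B f)))) (Localization.Away (algebraMap A B f)))) (hq' : (¬ ((((I.map (algebraMap A B))).map (algebraMap B (Localization.Away (algebraMap A B f)))).map (algebraMap (Localization.Away (algebraMap A B f)) (AdicCompletion ((I.map (algebraMap A B)).map (algebraMap B (Localization.Away (algebraMap A B f)))) (Localization.Away (algebraMap A B f))))) ≤ q'.asIdeal ∧ ∀ y : PrimeSpectrum (AdicCompletion ((I.map (algebraMap A B)).map (algebraMap B (Localization.Away (algebraMap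 A B f)))) (Localization.Away (algebraMap A B f))), q' ≤ y → ¬ ((((I.map (algebraMap A B))).map (algebraMap B (Localization.Away (algebraMap A B f)))).map (algebraMap (Localization.Away (algebraMap A B f)) (AdicCompletion ((I.map (algebraMap A B)).map (algebraMap B (Localization.Away (algebraMap A B f)))) (Localization.Away (algebraMap A B f))))) ≤ y.asIdeal → y = q')) : ((algebraMap (AdicCompletion ((I.map (algebraMap A B)).map (algebraMap B (Localization.Away (algebraMap A B f)))) (Localization.Away (algebraMap A B f))) (Localization.AtPrime q'.asIdeal)).comp ψ).Flat := by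
  haveI := hJ
  haveI : IsNoetherianRing (Localization.Away f) :=
    IsLocalization.isNoetherianRing (Submonoid.powers f) _ inferInstance
  haveI : IsNoetherianRing (Localization.Away (algebraMap A B f)) :=
    IsLocalization.isNoetherianRing (Submonoid.powers (algebraMap A B f)) _ inferInstance
  haveI : Algebra.FiniteType A (Localization.Away f) :=
    IsLocalization.finiteType_of_monoid_fg (Submonoid.powers f) _
  haveI : Algebra.FiniteType B (Localization.Away (algebraMap A B f)) :=
    IsLocalization.finiteType_of_monoid_fg (Submonoid.powers (algebraMap A B f)) _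
  haveI : Module.Flat B (Localization.Away (algebraMap A B f)) :=
    IsLocalization.flat _ (Submonoid.powers (algebraMap A B f))
  refine main I hft (fun q hq => RingHom.flat_algebraMap_iff.1 (hnaive q hq)) f (Localization.Away f)
    (Localization.Away (algebraMap A B f)) ψ (fun a => ?_) q' hq'
  have := RingHom.congr_fun hψ (algebraMap A (Localization.Away f) a)
  rw [RingHom.comp_apply, RingHom.comp_apply, ← IsScalarTower.algebraMap_apply] at this
  rw [this]
  unfold Localization.awayMap IsLocalization.Away.map
  rw [IsLocalization.map_eq]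
  exact (IsScalarTower.algebraMap_apply B (Localization.Away (algebraMap A B f)) _ (algebraMap A B a)).symm

end Groth.Agent.S8841
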