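import Groth.Statements.S8842
import Groth.Agent.H2.FormalLimit.PowMap
import Groth.Agent.H2.FormalLimit.Coeff
import Mathlib.RingTheory.MvPolynomial.Homogeneous
import Mathlib.RingTheory.Polynomial.Basic

set_option autoImplicit false
universe u
open scoped BigOperators
attribute [local instance] CategoryTheory.Abelian.hasFiniteBiproducts
open Formal2

namespace Groth.Agent.S8842

open MvPolynomial

/-- The value at `f` of a homogeneous polynomial as a sum over the exponents of its degree. -/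
theorem sum_antidiagonal_eq_eval {A : Type u} [CommRing A] {r n : ℕ} (f : Fin r → A)
    (P : MvPolynomial (Fin r) A) (hP : P.IsHomogeneous n) :
    ∑ e : ↥(Finset.Nat.antidiagonalTuple r n),
      coeff (Finsupp.equivFunOnFinite.symm e.1) P * ∏ j, f j ^ e.1 j = eval f P := by
  classical
  rw [MvPolynomial.eval_eq',
    Finset.sum_coe_sort (Finset.Nat.antidiagonalTuple r n)
      (fun e => coeff (Finsupp.equivFunOnFinite.symm e) P * ∏ j, f j ^ e j)]
  let S : Finset (Fin r →₀ ℕ) :=
    (Finset.Nat.antidiagonalTuple r n).map Finsupp.equivFunOnFinite.symm.toEmbedding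
  rw [show ∑ e ∈ Finset.Nat.antidiagonalTuple r n,
      coeff (Finsupp.equivFunOnFinite.symm e) P * ∏ j, f j ^ e j =
      ∑ d ∈ S, coeff d P * ∏ j, f j ^ d j by simp [S, Finset.sum_map]]
  refine (Finset.sum_subset (fun d hd => ?_) fun d _ hd => ?_).symm
  · refine Finset.mem_map.2 ⟨⇑d, Finset.Nat.mem_antidiagonalTuple.2 ?_, by simp⟩
    rw [← Finsupp.degree_eq_sum]
    rw [Finsupp.degree_eq_weight_one]
    exact hP (MvPolynomial.mem_support_iff.1 hd)
  · rw [MvPolynomial.notMem_support_iff.1 hd, zero_mul]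

end Groth.Agent.S8842

namespace Groth.Agent.S8842

open CategoryTheory CategoryTheory.Limits AlgebraicGeometry Opposite in
/-- Let A be a Noetherian ring, f_1, …, f_r ∈ A and I = (f_1, …, f_r) with cd(A, I) = 1; let c ≥ 1 and
φ_j : I^c → A be A-linear with x = Σ_j f_j φ_j(x) for x ∈ I^c. Let X be a Noetherian scheme over
Spec A, (F_n) a coherent formal module for I on X (coherent O_X-modules with F_n = F_{n+1}/I^n
F_{n+1}; indices shifted by one) and F = lim F_n, the limit in O_X-modules. Then there is c' ≥ c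
with the following property. Write φ_j again for the restrictions to I^{c'} and let Φ be a graded
A-algebra homomorphism from ⊕_{n ≥ 0} I^{nc'} to A[T_1, …, T_r] with Φ(g) = Σ_j φ_j(g) T_j on I^{c'}
(there is exactly one; encoded by functions Φ_n : A → A[T_1, …, T_r] additive and A-homogeneous on
I^{nc'}, with values homogeneous of degree n, multiplicative across degrees, Φ_0 the structure map,
Φ_1 as prescribed). Then for every n there is a unique map of O_X-modules Φ_{F,n} from the submodule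
I^{nc'}F to F[T_1, …, T_r]_n = ⊕_{|e| = n} F (one copy of F for each exponent tuple e of total
degree n) such that Φ_{F,n}(g s) = Φ_n(g) s for g ∈ I^{nc'} and local sections s of F, i.e.
precomposed with multiplication by g, F → I^{nc'}F, it is the map whose component at T^e is
multiplication by the coefficient of T^e in Φ_n(g); moreover composing Φ_{F,n} with the map
⊕_{|e|=n} F → F which is multiplication by f^e = ∏ f_j^{e_j} on the copy at T^e gives the inclusion
I^{nc'}F → F. -/
theorem result (A : Type u) [CommRing A] [IsNoetherianRing A] (r : ℕ) (f : Fin r → A) (I : Ideal A) (hI : I = Ideal.span (Set.range f)) (h1 : LocCoh.CdLE A I 1) (h0 : ¬ LocCoh.CdLE A I 0) (c : ℕ) (hc : 1 ≤ c) (φ : Fin r → (↥(I ^ c) →ₗ[A] A)) (hφ : ∀ x : ↥(I ^ c), (x : A) = ∑ j, f j * φ j x) (X : Scheme.{u}) [X.Over (Spec (CommRingCat.of A))] [IsNoetherian X] (G : ℕᵒᵖ ⥤ X.Modules) (hG : Formal.IsCohFormal I G) : ∃ c' : ℕ, ∃ hcc' : c ≤ c', ∀ Φ : ℕ → A → MvPolynomial (Fin r) A, ((∀ n : ℕ, ∀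 g ∈ I ^ (n * c'), ∀ h ∈ I ^ (n * c'), Φ n (g + h) = Φ n g + Φ n h) ∧ (∀ (n : ℕ) (a : A), ∀ g ∈ I ^ (n * c'), Φ n (a * g) = a • Φ n g) ∧ (∀ n : ℕ, ∀ g ∈ I ^ (n * c'), (Φ n g).IsHomogeneous n) ∧ (∀ n m : ℕ, ∀ g ∈ I ^ (n * c'), ∀ h ∈ I ^ (m * c'), Φ (n + m) (g * h) = Φ n g * Φ m h) ∧ (∀ a : A, Φ 0 a = MvPolynomial.C a) ∧ (∀ (g : A) (hg : g ∈ I ^ c'), Φ 1 g = ∑ j, MvPolynomial.C (φ j ⟨g, Ideal.pow_le_pow_right hcc' hg⟩) * MvPolynomial.X j)) → ∀ n : ℕ, ∃ ΦF : (Formal2.idealPowMod I (n * c') (limit G)) ⟶ ⨁ (fun _ : ↥(Finset.Nat.antidiagonalTuple r n) ↦ (limit G)), (∀ g ∈ I ^ (n * c'), ∀ γ : (limit G) ⟶ (Formal2.idealPowMod I (n * c') (limit G)), γ ≫ Formal2.idealPowModι I (n * c') (limit G) = Formal.smulMod A (limit G) g → γ ≫ ΦF = biproduct.lift (fun e : ↥(Finset.Nat.antidiagonalTuple r n) ↦ Formal.smulMod A (limit G) (MvPolynomial.coeff (Finsupp.equivFunOnFinite.symm e.1) (Φ n g)))) ∧ ΦF ≫ biproduct.desc (fun e : ↥(Finset.Nat.antidiagonalTuple r n) ↦ Formal.smulMod A (limit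 G) (∏ j, f j ^ (e.1 j))) = Formal2.idealPowModι I (n * c') (limit G) ∧ (∀ ΦF' : (Formal2.idealPowMod I (n * c') (limit G)) ⟶ ⨁ (fun _ : ↥(Finset.Nat.antidiagonalTuple r n) ↦ (limit G)), (∀ g ∈ I ^ (n * c'), ∀ γ : (limit G) ⟶ (Formal2.idealPowMod I (n * c') (limit G)), γ ≫ Formal2.idealPowModι I (n * c') (limit G) = Formal.smulMod A (limit G) g → γ ≫ ΦF' = biproduct.lift (fun e : ↥(Finset.Nat.antidiagonalTuple r n) ↦ Formal.smulMod A (limit G) (MvPolynomial.coeff (Finsupp.equivFunOnFinite.symm e.1) (Φ n g)))) → ΦF' = ΦF) := by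
  obtain ⟨k, hTF⟩ := Groth.Agent.H2.FormalLimit.PowMap.exists_TF hG
  refine ⟨c + k, Nat.le_add_right c k, fun Φ hΦ n => ?_⟩
  obtain ⟨hadd, hsmul, hhom, hmul, hzero, hone⟩ := hΦ
  classical
  -- first degree
  have hone_eval : ∀ g ∈ I ^ (c + k), MvPolynomial.eval f (Φ 1 g) = g := fun g hg => by
    rw [hone g hg, map_sum]
    simp only [map_mul, MvPolynomial.eval_C, MvPolynomial.eval_X]
    refine Eq.trans (Finset.sum_congr rfl fun j _ => mul_comm _ _) ?_
    exact (hφ ⟨g, Ideal.pow_le_pow_right (Nat.le_add_right c k) hg⟩).symm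
  have hone_coeff : ∀ g ∈ I ^ (c + k), Φ 1 g ∈ Ideal.map MvPolynomial.C (I ^ k) := fun g hg => by
    rw [hone g hg]
    refine Ideal.sum_mem _ fun j _ => Ideal.mul_mem_right _ _ (Ideal.mem_map_of_mem _ ?_)
    exact Groth.Agent.H2.FormalLimit.Coeff.apply_mem (φ j) k (by rwa [add_comm]) _
  -- all degrees
  have heval := Groth.Agent.H2.FormalLimit.Coeff.eval_eq_self hadd hmul hzero hone_eval
  have hcoeff := Groth.Agent.H2.FormalLimit.Coeff.coeff_mem hadd hmul hone_coeff
  let C : ↥(Finset.Nat.antidiagonalTuple r n) → A → A := fun e g =>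
    MvPolynomial.coeff (Finsupp.equivFunOnFinite.symm e.1) (Φ n g)
  have hψ := fun e => Groth.Agent.H2.FormalLimit.PowMap.exists_component (n := n * (c + k)) hTF (C e)
    (fun g hg h hh => by
      have h1 := hsmul n h g hg
      have h2 := hsmul n g h hh
      rw [mul_comm g h, h1] at h2
      simpa [C] using congrArg (MvPolynomial.coeff (Finsupp.equivFunOnFinite.symm e.1)) h2)
    (by
      rcases Nat.eq_zero_or_pos n with hn | hn
      · right
        intro g _
        have he : e.1 = 0 := by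
          have h := Finset.Nat.mem_antidiagonalTuple.1 e.2
          replace h := h.trans hn
          funext j
          exact Finset.sum_eq_zero_iff.1 h j (Finset.mem_univ j)
        simp only [C, he]
        subst hn
        rw [hzero, show Finsupp.equivFunOnFinite.symm (0 : Fin r → ℕ) = 0 from Finsupp.ext fun _ => rfl,
          MvPolynomial.coeff_zero_C]
      · left
        obtain ⟨m, rfl⟩ := Nat.exists_eq_add_of_le' hn
        intro g hg
        exact hcoeff m g hg _)
  choose ψ hψ using hψ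
  refine ⟨biproduct.lift ψ, fun g hg γ hγ => ?_, ?_, fun ΦF' h' => ?_⟩
  · obtain rfl : γ = Sigma.ι (fun _ : ↥(I ^ (n * (c + k))) => limit G) ⟨g, hg⟩ ≫
        Groth.Agent.H2.FormalLimit.PowMap.gens I (n * (c + k)) (limit G) := by
      rw [← cancel_mono (Formal2.idealPowModι I (n * (c + k)) (limit G)), hγ,
        Groth.Agent.H2.FormalLimit.PowMap.ι_gens]
    refine biproduct.hom_ext _ _ fun e => ?_
    rw [Category.assoc, biproduct.lift_π, biproduct.lift_π]
    exact hψ e ⟨g, hg⟩
  · refine Groth.Agent.H2.FormalLimit.PowMap.hom_ext_gens fun g => ?_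
    rw [biproduct.lift_desc, Preadditive.comp_sum, Groth.Agent.H2.FormalLimit.PowMap.ι_gens]
    conv_rhs => rw [← heval n g g.2, ← sum_antidiagonal_eq_eval f _ (hhom n g g.2),
      Groth.Agent.H2.FormalLimit.PowMap.smulMod_sum]
    refine Finset.sum_congr rfl fun e _ => ?_
    rw [← Category.assoc, hψ e g, Groth.Agent.H78.Formal.Principal.smulMod_mul]
  · refine Groth.Agent.H2.FormalLimit.PowMap.hom_ext_gens fun g => ?_
    rw [h' g g.2 _ (Groth.Agent.H2.FormalLimit.PowMap.ι_gens I _ (limit G) g)]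
    refine biproduct.hom_ext _ _ fun e => ?_
    rw [Category.assoc, biproduct.lift_π, biproduct.lift_π]
    exact (hψ e g).symm

end Groth.Agent.S8842
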