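import Groth.Statements.S8843
import Groth.Agent.Lib.Adic.RigFunct

set_option autoImplicit false
universe u
open AdicRing

namespace Groth.Agent.S8843

open Lib.Adic.RigClosed Lib.Adic.RigFunct

theorem main {A : Type u} [CommRing A] [IsNoetherianRing A] (I : Ideal A) [IsAdicComplete I A]
    {B : Type u} [CommRing B] [Algebra A B] [IsNoetherianRing B]
    {C : Type u} [CommRing C] [Algebra A C] [Algebra B C] [IsScalarTower A B C] [IsNoetherianRing C]
    (hftC : Algebra.FiniteType A (C ⧸ I.map (algebraMap A C)))
    (hAB : ∀ (f : A) (ψ : CL I f →+* CL (I.map (algebraMap A B)) (algebraMap A B f)),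
      (∀ a, ψ (algebraMap A _ a) = algebraMap B _ (algebraMap A B a)) →
      ∀ q : PrimeSpectrum (CL (I.map (algebraMap A B)) (algebraMap A B f)),
        IsRigClosed (I.map (algebraMap A (CL (I.map (algebraMap A B)) (algebraMap A B f)))) q →
        ((algebraMap _ (Localization.AtPrime q.asIdeal)).comp ψ).Flat)
    (hBC : ∀ (g : B) (JC : Ideal C) (gC : C), JC = I.map (algebraMap A C) → gC = algebraMap B C g →
      ∀ ψ : CL (I.map (algebraMap A B)) g →+* CL JC gC,
      (∀ b, ψ (algebraMap B _ b) = algebraMap C _ (algebraMap B C b)) →
      ∀ q : PrimeSpectrum (CL JC gC), IsRigClosed (JC.map (algebraMap C (CL JC gC))) q →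
        ((algebraMap _ (Localization.AtPrime q.asIdeal)).comp ψ).Flat)
    (e : A) (ψe : CL I e →+* CL (I.map (algebraMap A C)) (algebraMap A C e))
    (hψe : ∀ a, ψe (algebraMap A _ a) = algebraMap C _ (algebraMap A C a))
    (q : PrimeSpectrum (CL (I.map (algebraMap A C)) (algebraMap A C e)))
    (hq : IsRigClosed (I.map (algebraMap A (CL (I.map (algebraMap A C)) (algebraMap A C e)))) q) :
    ((algebraMap _ (Localization.AtPrime q.asIdeal)).comp ψe).Flat := by
  let JB := I.map (algebraMap A B)
  let JC := I.map (algebraMap A C)
  have hI : I.FG := IsNoetherian.noetherian _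
  obtain ⟨f, hf, href⟩ := exists_refinement hftC (algebraMap A C e) hq
  let h := e * f
  let Ah := CL I h
  let Bh := CL JB (algebraMap A B h)
  let Ch := CL JC (algebraMap A C h)
  have hAh : IsUnit (algebraMap A Ah e) ∧ IsUnit (algebraMap A Ah f) := by
    rw [← IsUnit.mul_iff, ← map_mul]
    exact isUnit_ι I h
  have hBh : IsUnit (algebraMap B Bh (algebraMap A B h)) := isUnit_ι JB _
  have hCh : IsUnit (algebraMap C Ch (algebraMap A C h)) := isUnit_ι JC _
  haveI : IsAdicComplete (I.map (algebraMap A Ah)) Ah := isAdicComplete_CL I hI h
  haveI : IsAdicComplete (I.map (algebraMap A Bh)) Bh := isAdicComplete_CL' I hI _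
  haveI : IsAdicComplete (I.map (algebraMap A Ch)) Ch := isAdicComplete_CL' I hI _
  obtain ⟨ψAB, hψAB⟩ := exists_map I hI h JB (hI.map _) (algebraMap A B h) (algebraMap A B) hBh le_rfl
  obtain ⟨ψBC, hψBC⟩ := exists_map JB (hI.map _) (algebraMap A B h) JC (hI.map _) (algebraMap A C h)
    (algebraMap B C) (by rw [← IsScalarTower.algebraMap_apply A B C]; exact hCh)
    (by rw [Ideal.map_map, ← IsScalarTower.algebraMap_eq])
  letI : Algebra Ah Bh := ψAB.toAlgebra
  letI : Algebra Bh Ch := ψBC.toAlgebra
  letI : Algebra Ah Ch := (ψBC.comp ψAB).toAlgebra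
  haveI : IsScalarTower Ah Bh Ch := IsScalarTower.of_algebraMap_eq (R := Ah) (S := Bh) (A := Ch) fun _ => rfl
  haveI : IsScalarTower A Bh Ch := IsScalarTower.of_algebraMap_eq (R := A) (S := Bh) (A := Ch) fun a => by
    change _ = ψBC (algebraMap A Bh a)
    rw [IsScalarTower.algebraMap_apply A B Bh, hψBC, ← IsScalarTower.algebraMap_apply A B C,
      ← IsScalarTower.algebraMap_apply]
  have hψ : ∀ a, ψBC (ψAB (algebraMap A Ah a)) = algebraMap C Ch (algebraMap A C a) := fun a => by
    rw [hψAB, hψBC, ← IsScalarTower.algebraMap_apply A B C]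
  haveI : IsScalarTower A Ah Ch := IsScalarTower.of_algebraMap_eq (R := A) (S := Ah) (A := Ch) fun a => by
    change _ = ψBC (ψAB (algebraMap A Ah a))
    rw [hψ, ← IsScalarTower.algebraMap_apply]
  obtain ⟨φ, hφ⟩ := exists_map JC (hI.map _) (algebraMap A C e) JC (hI.map _) (algebraMap A C h)
    (RingHom.id C) (isUnit_of_mul_isUnit_left (y := algebraMap C Ch (algebraMap A C f))
      (by rw [RingHom.id_apply, ← map_mul, ← map_mul]; exact hCh))
    (by rw [Ideal.map_id])
  obtain ⟨a, ha⟩ := exists_map I hI e I hI h (RingHom.id A) hAh.1 (by rw [Ideal.map_id])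
  obtain ⟨q', hqq', hq', hfin⟩ := href (algebraMap A C h) (by
      rw [← IsScalarTower.algebraMap_apply A C (CL (I.map (algebraMap A C)) (algebraMap A C e)), map_mul,
        map_mul]
      refine IsUnit.mul ?_ hf
      rw [IsScalarTower.algebraMap_apply A C (CL (I.map (algebraMap A C)) (algebraMap A C e))]
      exact (isUnit_ι JC _).map _) φ hφ Ah hAh.2
  obtain ⟨hqB, -⟩ := of_chain_base (A' := Ah) (R := Bh) hq' hfin
  have h1 := hAB h ψAB hψAB _ hqB
  have h2 := hBC (algebraMap A B h) JC (algebraMap A C h) rfl (IsScalarTower.algebraMap_apply A B C h)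
    ψBC hψBC q' (by rwa [map_ι, map_CL])
  let θ := Localization.localRingHom (PrimeSpectrum.comap ψBC q').asIdeal q'.asIdeal ψBC rfl
  have hθ : θ.Flat := by
    letI : Algebra (Localization.AtPrime (PrimeSpectrum.comap ψBC q').asIdeal)
      (Localization.AtPrime q'.asIdeal) := θ.toAlgebra
    haveI : IsScalarTower Bh (Localization.AtPrime (PrimeSpectrum.comap ψBC q').asIdeal)
        (Localization.AtPrime q'.asIdeal) :=
      IsScalarTower.of_algebraMap_eq (R := Bh) (S := Localization.AtPrime (PrimeSpectrum.comap ψBC q').asIdeal)
        (A := Localization.AtPrime q'.asIdeal) fun x =>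
          (IsScalarTower.algebraMap_apply Bh Ch (Localization.AtPrime q'.asIdeal) x).trans
            (Localization.localRingHom_to_map (PrimeSpectrum.comap ψBC q').asIdeal q'.asIdeal ψBC rfl x).symm
    haveI : Module.Flat Bh (Localization.AtPrime q'.asIdeal) := RingHom.flat_algebraMap_iff.1 (by
      rw [IsScalarTower.algebraMap_eq Bh Ch (Localization.AtPrime q'.asIdeal)]
      exact h2)
    exact (Module.flat_iff_of_isLocalization _ (PrimeSpectrum.comap ψBC q').asIdeal.primeCompl _).2 ‹_›
  refine flat_descend a ψe (ψBC.comp ψAB) φ ?_ (flat_map I e I h _ (RingHom.Flat.id A) (by rw [Ideal.map_id]) a ha)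
    (flat_map JC _ JC _ _ (RingHom.Flat.id C) (by rw [Ideal.map_id]) φ hφ) q'.asIdeal q.asIdeal hqq' ?_
  · have hcomp : ∀ x, φ (ψe (algebraMap A _ x)) = algebraMap A Ch x := fun x => by
      rw [hψe, hφ, RingHom.id_apply, ← IsScalarTower.algebraMap_apply]
    refine ext_CL I hI e (I.map (algebraMap A Ch)) (Ideal.map_le_iff_le_comap.2 fun x hx => ?_)
      (RingHom.ext fun x => ?_)
    · rw [Ideal.mem_comap, RingHom.comp_apply, RingHom.comp_apply, hcomp]
      exact Ideal.mem_map_of_mem _ hx
    · simp only [RingHom.comp_apply]
      rw [hcomp, ha, RingHom.id_apply, hψ, ← IsScalarTower.algebraMap_apply]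
  have : ((algebraMap Ch (Localization.AtPrime q'.asIdeal)).comp (ψBC.comp ψAB)) =
      θ.comp ((algebraMap Bh (Localization.AtPrime (PrimeSpectrum.comap ψBC q').asIdeal)).comp ψAB) :=
    RingHom.ext fun x => (Localization.localRingHom_to_map (PrimeSpectrum.comap ψBC q').asIdeal q'.asIdeal ψBC rfl (ψAB x)).symm
  rw [this]
  exact h1.comp hθ

/-- Let A be a Noetherian ring complete for the adic topology of an ideal I, B a Noetherian A-algebra
complete for the IB-adic topology with B/IB of finite type over A, and C a Noetherian B-algebra,
compatibly an A-algebra, complete for the IC-adic topology with C/IC of finite type over B (so A → B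
→ C are adic morphisms of adic Noetherian topological rings, topologically of finite type). Assume A
→ B and B → C are rig-flat, in the following form: for every f ∈ A and the canonical map ψ : A_{f} →
B_{f} of completed principal localizations (the I-adic completions of A_f → B_f; ψ is characterised
as any ring map compatible with A_f → B_f, and there is exactly one), the local ring (B_{f})_q is
flat over A_{f} via ψ for every rig-closed prime q of B_{f} (I B_{f} ⊄ q and q maximal among the
primes not containing I B_{f}); and likewise for B → C with g ∈ B and rig-closed primes of C_{g}.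
Then A → C is rig-flat in the same form: for every f ∈ A, every ring map A_{f} → C_{f} compatible
with A_f → C_f, and every rig-closed prime q of C_{f}, the local ring (C_{f})_q is flat over A_{f}.
(That A → C is again adic and topologically of finite type is not restated.) -/
theorem result (A : Type u) [CommRing A] [IsNoetherianRing A] (I : Ideal A) [IsAdicComplete I A] (B : Type u) [CommRing B] [Algebra A B] [IsNoetherianRing B] [IsAdicComplete (I.map (algebraMap A B)) B] (hftB : Algebra.FiniteType A (B ⧸ (I.map (algebraMap A B)))) (C : Type u) [CommRing C] [Algebra A C] [Algebra B C] [IsScalarTower A B C] [IsNoetherianRing C] [IsAdicComplete (I.map (algebraMap A C)) C] (hftC : Algebra.FiniteType B (C ⧸ (I.map (algebraMap A C)))) (hAB : (∀ f : A, ∀ ψf : (AdicCompletion (I.map (algebraMap A (Localization.Away f))) (Localization.Away f)) →+* (AdicCompletion ((I.map (algebraMap A B)).map (algebraMap B (Localization.Away (algebraMap A B f)))) (Localization.Away (algebraMap A B f))), ψf.comp (algebraMap (Localization.Away f) (AdicCompletion (I.map (algebraMap A (Localization.Away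 f))) (Localization.Away f))) = (algebraMap (Localization.Away (algebraMap A B f)) (AdicCompletion ((I.map (algebraMap A B)).map (algebraMap B (Localization.Away (algebraMap A B f)))) (Localization.Away (algebraMap A B f)))).comp (Localization.awayMap (algebraMap A B) f) → ∀ qf : PrimeSpectrum (AdicCompletion ((I.map (algebraMap A B)).map (algebraMap B (Localization.Away (algebraMap A B f)))) (Localization.Away (algebraMap A B f))), (¬ (((I.map (algebraMap A B)).map (algebraMap B (Localization.Away (algebraMap A B f)))).map (algebraMap (Localization.Away (algebraMap A B f)) (AdicCompletion ((I.map (algebraMap A B)).map (algebraMap B (Localization.Away (algebraMap A B f)))) (Localization.Away (algebraMap A B f))))) ≤ qf.asIdeal ∧ ∀ y : PrimeSpectrum (AdicCompletion ((I.map (algebraMap A B)).map (algebraMap B (Localization.Away (algebraMap A B f)))) (Localization.Away (algebraMap A B f))), qf ≤ y → ¬ (((I.map (algebraMap A B)).map (algebraMap B (Localization.Away (algebraMap A B f)))).map (algebraMap (Localization.Away (algebraMap A B f)) (AdicCompletion ((I.map (algebraMap A B)).map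 (algebraMap B (Localization.Away (algebraMap A B f)))) (Localization.Away (algebraMap A B f))))) ≤ y.asIdeal → y = qf) → ((algebraMap (AdicCompletion ((I.map (algebraMap A B)).map (algebraMap B (Localization.Away (algebraMap A B f)))) (Localization.Away (algebraMap A B f))) (Localization.AtPrime qf.asIdeal)).comp ψf).Flat)) (hBC : (∀ g : B, ∀ ψg : (AdicCompletion ((I.map (algebraMap A B)).map (algebraMap B (Localization.Away g))) (Localization.Away g)) →+* (AdicCompletion (((I.map (algebraMap A B)).map (algebraMap B C)).map (algebraMap C (Localization.Away (algebraMap B C g)))) (Localization.Away (algebraMap B C g))), ψg.comp (algebraMap (Localization.Away g) (AdicCompletion ((I.map (algebraMap A B)).map (algebraMap B (Localization.Away g))) (Localization.Away g))) = (algebraMap (Localization.Away (algebraMap B C g)) (AdicCompletion (((I.map (algebraMap A B)).map (algebraMap B C)).map (algebraMap C (Localization.Away (algebraMap B C g)))) (Localization.Away (algebraMap B C g)))).comp (Localization.awayMap (algebraMap B C) g) → ∀ qg : PrimeSpectrum (AdicCompletion (((I.map (algebraMap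 A B)).map (algebraMap B C)).map (algebraMap C (Localization.Away (algebraMap B C g)))) (Localization.Away (algebraMap B C g))), (¬ ((((I.map (algebraMap A B)).map (algebraMap B C)).map (algebraMap C (Localization.Away (algebraMap B C g)))).map (algebraMap (Localization.Away (algebraMap B C g)) (AdicCompletion (((I.map (algebraMap A B)).map (algebraMap B C)).map (algebraMap C (Localization.Away (algebraMap B C g)))) (Localization.Away (algebraMap B C g))))) ≤ qg.asIdeal ∧ ∀ y : PrimeSpectrum (AdicCompletion (((I.map (algebraMap A B)).map (algebraMap B C)).map (algebraMap C (Localization.Away (algebraMap B C g)))) (Localization.Away (algebraMap B C g))), qg ≤ y → ¬ ((((I.map (algebraMap A B)).map (algebraMap B C)).map (algebraMap C (Localization.Away (algebraMap B C g)))).map (algebraMap (Localization.Away (algebraMap B C g)) (AdicCompletion (((I.map (algebraMap A B)).map (algebraMap B C)).map (algebraMap C (Localization.Away (algebraMap B C g)))) (Localization.Away (algebraMap B C g))))) ≤ y.asIdeal → y = qg) → ((algebraMap (AdicCompletion (((I.map (algebraMap A B)).map (algebraMap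 B C)).map (algebraMap C (Localization.Away (algebraMap B C g)))) (Localization.Away (algebraMap B C g))) (Localization.AtPrime qg.asIdeal)).comp ψg).Flat)) : (∀ e : A, ∀ ψe : (AdicCompletion (I.map (algebraMap A (Localization.Away e))) (Localization.Away e)) →+* (AdicCompletion ((I.map (algebraMap A C)).map (algebraMap C (Localization.Away (algebraMap A C e)))) (Localization.Away (algebraMap A C e))), ψe.comp (algebraMap (Localization.Away e) (AdicCompletion (I.map (algebraMap A (Localization.Away e))) (Localization.Away e))) = (algebraMap (Localization.Away (algebraMap A C e)) (AdicCompletion ((I.map (algebraMap A C)).map (algebraMap C (Localization.Away (algebraMap A C e)))) (Localization.Away (algebraMap A C e)))).comp (Localization.awayMap (algebraMap A C) e) → ∀ qe : PrimeSpectrum (AdicCompletion ((I.map (algebraMap A C)).map (algebraMap C (Localization.Away (algebraMap A C e)))) (Localization.Away (algebraMap A C e))), (¬ (((I.map (algebraMap A C)).map (algebraMap C (Localization.Away (algebraMap A C e)))).map (algebraMap (Localization.Away (algebraMap A C e)) (AdicCompletion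 ((I.map (algebraMap A C)).map (algebraMap C (Localization.Away (algebraMap A C e)))) (Localization.Away (algebraMap A C e))))) ≤ qe.asIdeal ∧ ∀ y : PrimeSpectrum (AdicCompletion ((I.map (algebraMap A C)).map (algebraMap C (Localization.Away (algebraMap A C e)))) (Localization.Away (algebraMap A C e))), qe ≤ y → ¬ (((I.map (algebraMap A C)).map (algebraMap C (Localization.Away (algebraMap A C e)))).map (algebraMap (Localization.Away (algebraMap A C e)) (AdicCompletion ((I.map (algebraMap A C)).map (algebraMap C (Localization.Away (algebraMap A C e)))) (Localization.Away (algebraMap A C e))))) ≤ y.asIdeal → y = qe) → ((algebraMap (AdicCompletion ((I.map (algebraMap A C)).map (algebraMap C (Localization.Away (algebraMap A C e)))) (Localization.Away (algebraMap A C e))) (Localization.AtPrime qe.asIdeal)).comp ψe).Flat) := by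
  have hft : Algebra.FiniteType A (C ⧸ I.map (algebraMap A C)) := by
    have hle : I.map (algebraMap A B) ≤ (I.map (algebraMap A C)).comap (algebraMap B C) := by
      rw [← Ideal.map_le_iff_le_comap, Ideal.map_map, ← IsScalarTower.algebraMap_eq]
    letI : Algebra (B ⧸ I.map (algebraMap A B)) (C ⧸ I.map (algebraMap A C)) :=
      (Ideal.quotientMap _ (algebraMap B C) hle).toAlgebra
    haveI : IsScalarTower B (B ⧸ I.map (algebraMap A B)) (C ⧸ I.map (algebraMap A C)) :=
      IsScalarTower.of_algebraMap_eq (R := B) (S := B ⧸ I.map (algebraMap A B))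
        (A := C ⧸ I.map (algebraMap A C)) fun _ => rfl
    haveI : IsScalarTower A (B ⧸ I.map (algebraMap A B)) (C ⧸ I.map (algebraMap A C)) :=
      IsScalarTower.of_algebraMap_eq (R := A) (S := B ⧸ I.map (algebraMap A B))
        (A := C ⧸ I.map (algebraMap A C)) fun a => by
          change _ = algebraMap B (C ⧸ I.map (algebraMap A C)) (algebraMap A B a)
          rw [← IsScalarTower.algebraMap_apply]
    haveI := hftC
    exact Algebra.FiniteType.trans (S := B ⧸ I.map (algebraMap A B)) hftB
      (Algebra.FiniteType.of_restrictScalars_finiteType B _ _)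
  have eJ : (I.map (algebraMap A B)).map (algebraMap B C) = I.map (algebraMap A C) := by
    rw [Ideal.map_map, ← IsScalarTower.algebraMap_eq A B C]
  intro e ψe hψe qe hqe
  refine main (B := B) I hft (fun f ψ hψ q hq => ?_) (fun g JC gC hJ hg ψ hψ q hq => ?_) e ψe
    ((Lib.Adic.RigFunct.compat_iff _ _ _ e ψe).1 hψe) qe ?_
  · refine hAB f ψ ((Lib.Adic.RigFunct.compat_iff _ _ _ f ψ).2 hψ) q ?_
    rw [Lib.Adic.RigFunct.map_CL]
    exact hq
  · rw [← eJ] at hJ
    subst hJ hg
    refine hBC g ψ ((Lib.Adic.RigFunct.compat_iff _ _ _ g ψ).2 hψ) q ?_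
    rw [← Lib.Adic.RigFunct.map_ι]
    exact hq
  · rw [← Lib.Adic.RigFunct.map_CL]
    exact hqe

end Groth.Agent.S8843
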