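import Groth.Statements.S8844
import Groth.Agent.Lib.Adic.RigFunct
import Groth.Agent.S8836
import Mathlib.RingTheory.Flat.FaithfullyFlat.Algebra

set_option autoImplicit false
universe u
open AdicRing

namespace Groth.Agent.S8844

open Lib.Adic.RigClosed Lib.Adic.RigFunct

/-- A prime of a completed localisation containing the ideal of definition is determined by its
contraction. -/
theorem le_of_comap_le {R : Type u} [CommRing R] (J : Ideal R) (hJ : J.FG) (g : R) (Q₁ Q₂ : Ideal (CL J g))
    [Q₁.IsPrime] [Q₂.IsPrime] (h₁ : J.map (algebraMap R (CL J g)) ≤ Q₁)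
    (h₂ : J.map (algebraMap R (CL J g)) ≤ Q₂)
    (h : Q₁.comap (algebraMap R (CL J g)) ≤ Q₂.comap (algebraMap R (CL J g))) : Q₁ ≤ Q₂ := by
  intro t ht
  obtain ⟨l, hl⟩ := exists_sub_mem_pow (J.map (algebraMap R (Localization.Away g))) (hJ.map _) 1 t
  rw [pow_one, ← map_ι] at hl
  obtain ⟨n, a, ha⟩ := IsLocalization.Away.surj g l
  have hl1 : algebraMap (Localization.Away g) (CL J g) l ∈ Q₁ := by
    simpa using sub_mem ht (h₁ hl)
  have ha' : algebraMap R (CL J g) a =
      algebraMap (Localization.Away g) (CL J g) l * algebraMap R (CL J g) g ^ n := by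
    rw [IsScalarTower.algebraMap_apply R (Localization.Away g) (CL J g), ← ha, map_mul, map_pow,
      IsScalarTower.algebraMap_apply R (Localization.Away g) (CL J g)]
  have h3 : algebraMap R (CL J g) a ∈ Q₂ := h (show algebraMap R (CL J g) a ∈ Q₁ from
    ha' ▸ Q₁.mul_mem_right _ hl1)
  rw [ha', Ideal.mul_unit_mem_iff_mem _ ((isUnit_ι J g).pow n)] at h3
  simpa using add_mem (h₂ hl) h3

theorem main {A : Type u} [CommRing A] [IsNoetherianRing A] (I : Ideal A) [IsAdicComplete I A]
    {B : Type u} [CommRing B] [Algebra A B] [IsNoetherianRing B]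
    {A' : Type u} [CommRing A'] [Algebra A A'] [IsNoetherianRing A'] [Module.Flat A A']
    {B' : Type u} [CommRing B'] [Algebra A B'] [Algebra B B'] [Algebra A' B'] [IsScalarTower A B B']
    [IsScalarTower A A' B'] [IsNoetherianRing B'] [Module.FaithfullyFlat B B']
    (hftB' : Algebra.FiniteType A (B' ⧸ I.map (algebraMap A B'))) (f : A)
    (hA'B' : ∀ ψ : CL (I.map (algebraMap A A')) (algebraMap A A' f) →+*
        CL (I.map (algebraMap A B')) (algebraMap A B' f),
      (∀ a, ψ (algebraMap A' _ a) = algebraMap B' _ (algebraMap A' B' a)) →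
      ∀ q : PrimeSpectrum (CL (I.map (algebraMap A B')) (algebraMap A B' f)),
        IsRigClosed (I.map (algebraMap A (CL (I.map (algebraMap A B')) (algebraMap A B' f)))) q →
        ((algebraMap _ (Localization.AtPrime q.asIdeal)).comp ψ).Flat)
    (ψf : CL I f →+* CL (I.map (algebraMap A B)) (algebraMap A B f))
    (hψf : ∀ a, ψf (algebraMap A _ a) = algebraMap B _ (algebraMap A B a))
    (q : PrimeSpectrum (CL (I.map (algebraMap A B)) (algebraMap A B f)))
    (hq : IsRigClosed (I.map (algebraMap A (CL (I.map (algebraMap A B)) (algebraMap A B f)))) q) :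
    ((algebraMap _ (Localization.AtPrime q.asIdeal)).comp ψf).Flat := by
  let JB := I.map (algebraMap A B)
  let JA' := I.map (algebraMap A A')
  let JB' := I.map (algebraMap A B')
  have hI : I.FG := IsNoetherian.noetherian _
  let T := CL JB (algebraMap A B f)
  let T' := CL JB' (algebraMap A B' f)
  haveI : IsAdicComplete (I.map (algebraMap A T)) T := isAdicComplete_CL' I hI _
  haveI : IsAdicComplete (I.map (algebraMap A T')) T' := isAdicComplete_CL' I hI _
  obtain ⟨φ, hφ⟩ := exists_map JB (hI.map _) (algebraMap A B f) JB' (hI.map _) (algebraMap A B' f)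
    (algebraMap B B') (by rw [← IsScalarTower.algebraMap_apply A B B']; exact isUnit_ι JB' _)
    (by rw [Ideal.map_map, ← IsScalarTower.algebraMap_eq A B B'])
  obtain ⟨a, ha⟩ := exists_map I hI f JA' (hI.map _) (algebraMap A A' f) (algebraMap A A')
    (isUnit_ι JA' _) le_rfl
  obtain ⟨ψ', hψ'⟩ := exists_map JA' (hI.map _) (algebraMap A A' f) JB' (hI.map _) (algebraMap A B' f)
    (algebraMap A' B') (by rw [← IsScalarTower.algebraMap_apply A A' B']; exact isUnit_ι JB' _)
    (by rw [Ideal.map_map, ← IsScalarTower.algebraMap_eq A A' B'])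
  have hφflat : φ.Flat := flat_map JB _ JB' _ (algebraMap B B') (RingHom.flat_algebraMap_iff.2 inferInstance)
    (by rw [Ideal.map_map, ← IsScalarTower.algebraMap_eq A B B']) φ hφ
  letI : Algebra T T' := φ.toAlgebra
  haveI : IsScalarTower A T T' := IsScalarTower.of_algebraMap_eq (R := A) (S := T) (A := T') fun x => by
    change _ = φ (algebraMap A T x)
    rw [IsScalarTower.algebraMap_apply A B T, hφ, ← IsScalarTower.algebraMap_apply A B B',
      ← IsScalarTower.algebraMap_apply]
  have hJ : I.map (algebraMap A T') = (I.map (algebraMap A T)).map (algebraMap T T') :=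
    (congrArg (fun θ => I.map θ) (IsScalarTower.algebraMap_eq A T T')).trans (Ideal.map_map _ _).symm
  haveI : IsAdicComplete ((I.map (algebraMap A T)).map (algebraMap T T')) T' := hJ ▸ ‹_›
  have hft : Algebra.FiniteType T (T' ⧸ (I.map (algebraMap A T)).map (algebraMap T T')) := by
    rw [← hJ]
    haveI := finiteType_CL I (algebraMap A B' f) hftB'
    exact Algebra.FiniteType.of_restrictScalars_finiteType A _ _
  haveI : Module.Flat T T' := hφflat
  obtain ⟨q', hq', hqq'⟩ := (S8836.result T (I.map (algebraMap A T)) T' hft q hq).1 (by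
    obtain ⟨m, hm, hqm⟩ := Ideal.exists_le_maximal q.asIdeal q.isPrime.ne_top
    have hJm : I.map (algebraMap A T) ≤ m :=
      (IsAdicComplete.le_jacobson_bot _).trans (sInf_le ⟨bot_le, hm⟩)
    have hJTm : JB.map (algebraMap B T) ≤ m := by
      rwa [map_ι, map_CL]
    let P : PrimeSpectrum B := ⟨m.comap (algebraMap B T), hm.isPrime.comap _⟩
    obtain ⟨P', hP'⟩ := PrimeSpectrum.comap_surjective_of_faithfullyFlat (A := B) (B := B') P
    let K := P'.asIdeal.ResidueField
    let ρ : B' →+* K := algebraMap B' K
    have hker : ∀ b, ρ (algebraMap B B' b) = 0 ↔ b ∈ P.asIdeal := fun b => by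
      rw [← hP']
      exact Ideal.algebraMap_residueField_eq_zero
    have hunit : IsUnit (ρ (algebraMap A B' f)) := by
      rw [IsScalarTower.algebraMap_apply A B B', isUnit_iff_ne_zero, ne_eq, hker]
      intro h
      exact hm.ne_top (Ideal.eq_top_of_isUnit_mem _ h (isUnit_ι JB _))
    obtain ⟨χ, hχ⟩ := exists_lift_CL JB' (hI.map _) (algebraMap A B' f) (⊥ : Ideal K) ρ hunit (by
      rw [Ideal.map_map, Ideal.map_le_iff_le_comap]
      intro x hx
      rw [Ideal.mem_comap, RingHom.comp_apply, IsScalarTower.algebraMap_apply A B B', Ideal.mem_bot, hker]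
      exact hJTm (Ideal.mem_map_of_mem _ (Ideal.mem_map_of_mem _ hx)))
    let Q : PrimeSpectrum T' := ⟨RingHom.ker χ, RingHom.ker_isPrime χ⟩
    have hJQ : I.map (algebraMap A T') ≤ Q.asIdeal := by
      rw [Ideal.map_le_iff_le_comap]
      intro x hx
      rw [Ideal.mem_comap, IsScalarTower.algebraMap_apply A B' T', RingHom.mem_ker, hχ,
        IsScalarTower.algebraMap_apply A B B', hker]
      exact hJTm (Ideal.mem_map_of_mem _ (Ideal.mem_map_of_mem _ hx))
    haveI := hm.isPrime
    haveI := Q.isPrime
    haveI : (PrimeSpectrum.comap (algebraMap T T') Q).asIdeal.IsPrime := Ideal.IsPrime.comap _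
    have hQm : (PrimeSpectrum.comap (algebraMap T T') Q).asIdeal = m := by
      have h2 : JB.map (algebraMap B T) ≤ (PrimeSpectrum.comap (algebraMap T T') Q).asIdeal := by
        rw [map_ι, map_CL, PrimeSpectrum.comap_asIdeal, ← Ideal.map_le_iff_le_comap, ← hJ]
        exact hJQ
      have h3 : ∀ b, algebraMap B T b ∈ (PrimeSpectrum.comap (algebraMap T T') Q).asIdeal ↔
          b ∈ P.asIdeal := fun b => by
        change χ (φ (algebraMap B T b)) = 0 ↔ _
        rw [hφ, hχ, hker]
      exact le_antisymm (le_of_comap_le JB (hI.map _) _ _ _ h2 hJTm fun b hb => (h3 b).1 hb)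
        (le_of_comap_le JB (hI.map _) _ _ _ hJTm h2 fun b hb => (h3 b).2 hb)
    exact ⟨Q, hJ ▸ hJQ, hQm ▸ hqm, hQm.symm ▸ hm⟩)
  have h1 := hA'B' ψ' hψ' q' (hJ ▸ hq')
  refine flat_descend a ψf ψ' φ ?_ (flat_map I f JA' _ (algebraMap A A')
    (RingHom.flat_algebraMap_iff.2 inferInstance) le_rfl a ha) hφflat q'.asIdeal q.asIdeal
    (congrArg PrimeSpectrum.asIdeal hqq').symm h1
  have hcomp : ∀ x, φ (ψf (algebraMap A _ x)) = algebraMap A T' x := fun x => by
    rw [hψf, hφ, ← IsScalarTower.algebraMap_apply A B B', ← IsScalarTower.algebraMap_apply]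
  refine ext_CL I hI f (I.map (algebraMap A T')) (Ideal.map_le_iff_le_comap.2 fun x hx => ?_)
    (RingHom.ext fun x => ?_)
  · rw [Ideal.mem_comap, RingHom.comp_apply, RingHom.comp_apply, hcomp]
    exact Ideal.mem_map_of_mem _ hx
  · simp only [RingHom.comp_apply]
    rw [hcomp, ha, hψ', ← IsScalarTower.algebraMap_apply A A' B', ← IsScalarTower.algebraMap_apply]

/-- Consider a commutative square of adic Noetherian topological rings with all maps adic and
topologically of finite type: A a Noetherian ring complete for the adic topology of an ideal I; B,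
A' and B' Noetherian algebras complete for the IB-, IA'- and IB'-adic topologies, B' an algebra over
B and over A' compatibly with A, with B/IB and A'/IA' of finite type over A and B'/IB' of finite
type over B and over A'. Assume A → A' is flat and B → B' is faithfully flat. If A' → B' is rig-flat
— for every f' ∈ A', every ring map A'_{f'} → B'_{f'} of completed principal localizations
compatible with the map of ordinary localizations A'[1/f'] → B'[1/f'] (there is exactly one), and
every rig-closed prime q of B'_{f'} (I B'_{f'} ⊄ q and q maximal among the primes not containing I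
B'_{f'}), the local ring (B'_{f'})_q is flat over A'_{f'} — then A → B is rig-flat in the same form:
for every f ∈ A, every ring map A_{f} → B_{f} of completed principal localizations compatible with
the map of ordinary localizations A[1/f] → B[1/f], and every rig-closed prime q of B_{f}, the local
ring (B_{f})_q is flat over A_{f}. -/
theorem result (A : Type u) [CommRing A] [IsNoetherianRing A] (I : Ideal A) [IsAdicComplete I A] (B : Type u) [CommRing B] [Algebra A B] [IsNoetherianRing B] [IsAdicComplete (I.map (algebraMap A B)) B] (hftB : Algebra.FiniteType A (B ⧸ (I.map (algebraMap A B)))) (A' : Type u) [CommRing A'] [Algebra A A'] [IsNoetherianRing A'] [IsAdicComplete (I.map (algebraMap A A')) A'] (hftA' : Algebra.FiniteType A (A' ⧸ (I.map (algebraMap A A')))) (B' : Type u) [CommRing B'] [Algebra A B'] [Algebra B B'] [Algebra A' B'] [IsScalarTower A B B'] [IsScalarTower A A' B'] [IsNoetherianRing B'] [IsAdicComplete (I.map (algebraMap A B')) B'] (hftB'B : Algebra.FiniteType B (B' ⧸ (I.map (algebraMap A B')))) (hftB'A' : Algebra.FiniteType A' (B' ⧸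 (I.map (algebraMap A B')))) [Module.Flat A A'] [Module.FaithfullyFlat B B'] (hA'B' : (∀ f' : A', ∀ ψf' : (AdicCompletion ((I.map (algebraMap A A')).map (algebraMap A' (Localization.Away f'))) (Localization.Away f')) →+* (AdicCompletion (((I.map (algebraMap A A')).map (algebraMap A' B')).map (algebraMap B' (Localization.Away (algebraMap A' B' f')))) (Localization.Away (algebraMap A' B' f'))), ψf'.comp (algebraMap (Localization.Away f') (AdicCompletion ((I.map (algebraMap A A')).map (algebraMap A' (Localization.Away f'))) (Localization.Away f'))) = (algebraMap (Localization.Away (algebraMap A' B' f')) (AdicCompletion (((I.map (algebraMap A A')).map (algebraMap A' B')).map (algebraMap B' (Localization.Away (algebraMap A' B' f')))) (Localization.Away (algebraMap A' B' f')))).comp (Localization.awayMap (algebraMap A' B') f') → ∀ qf' : PrimeSpectrum (AdicCompletion (((I.map (algebraMap A A')).map (algebraMap A' B')).map (algebraMap B' (Localization.Away (algebraMap A' B' f')))) (Localization.Away (algebraMap A' B' f'))), (¬ ((((I.map (algebraMap A A')).map (algebraMap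 A' B')).map (algebraMap B' (Localization.Away (algebraMap A' B' f')))).map (algebraMap (Localization.Away (algebraMap A' B' f')) (AdicCompletion (((I.map (algebraMap A A')).map (algebraMap A' B')).map (algebraMap B' (Localization.Away (algebraMap A' B' f')))) (Localization.Away (algebraMap A' B' f'))))) ≤ qf'.asIdeal ∧ ∀ y : PrimeSpectrum (AdicCompletion (((I.map (algebraMap A A')).map (algebraMap A' B')).map (algebraMap B' (Localization.Away (algebraMap A' B' f')))) (Localization.Away (algebraMap A' B' f'))), qf' ≤ y → ¬ ((((I.map (algebraMap A A')).map (algebraMap A' B')).map (algebraMap B' (Localization.Away (algebraMap A' B' f')))).map (algebraMap (Localization.Away (algebraMap A' B' f')) (AdicCompletion (((I.map (algebraMap A A')).map (algebraMap A' B')).map (algebraMap B' (Localization.Away (algebraMap A' B' f')))) (Localization.Away (algebraMap A' B' f'))))) ≤ y.asIdeal → y = qf') → ((algebraMap (AdicCompletion (((I.map (algebraMap A A')).map (algebraMap A' B')).map (algebraMap B' (Localization.Away (algebraMap A' B' f')))) (Localization.Away (algebraMap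 A' B' f'))) (Localization.AtPrime qf'.asIdeal)).comp ψf').Flat)) : (∀ f : A, ∀ ψf : (AdicCompletion (I.map (algebraMap A (Localization.Away f))) (Localization.Away f)) →+* (AdicCompletion ((I.map (algebraMap A B)).map (algebraMap B (Localization.Away (algebraMap A B f)))) (Localization.Away (algebraMap A B f))), ψf.comp (algebraMap (Localization.Away f) (AdicCompletion (I.map (algebraMap A (Localization.Away f))) (Localization.Away f))) = (algebraMap (Localization.Away (algebraMap A B f)) (AdicCompletion ((I.map (algebraMap A B)).map (algebraMap B (Localization.Away (algebraMap A B f)))) (Localization.Away (algebraMap A B f)))).comp (Localization.awayMap (algebraMap A B) f) → ∀ qf : PrimeSpectrum (AdicCompletion ((I.map (algebraMap A B)).map (algebraMap B (Localization.Away (algebraMap A B f)))) (Localization.Away (algebraMap A B f))), (¬ (((I.map (algebraMap A B)).map (algebraMap B (Localization.Away (algebraMap A B f)))).map (algebraMap (Localization.Away (algebraMap A B f)) (AdicCompletion ((I.map (algebraMap A B)).map (algebraMap B (Localization.Away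 (algebraMap A B f)))) (Localization.Away (algebraMap A B f))))) ≤ qf.asIdeal ∧ ∀ y : PrimeSpectrum (AdicCompletion ((I.map (algebraMap A B)).map (algebraMap B (Localization.Away (algebraMap A B f)))) (Localization.Away (algebraMap A B f))), qf ≤ y → ¬ (((I.map (algebraMap A B)).map (algebraMap B (Localization.Away (algebraMap A B f)))).map (algebraMap (Localization.Away (algebraMap A B f)) (AdicCompletion ((I.map (algebraMap A B)).map (algebraMap B (Localization.Away (algebraMap A B f)))) (Localization.Away (algebraMap A B f))))) ≤ y.asIdeal → y = qf) → ((algebraMap (AdicCompletion ((I.map (algebraMap A B)).map (algebraMap B (Localization.Away (algebraMap A B f)))) (Localization.Away (algebraMap A B f))) (Localization.AtPrime qf.asIdeal)).comp ψf).Flat) := by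
  have hftB' : Algebra.FiniteType A (B' ⧸ I.map (algebraMap A B')) := by
    have hle : I.map (algebraMap A B) ≤ (I.map (algebraMap A B')).comap (algebraMap B B') := by
      rw [← Ideal.map_le_iff_le_comap, Ideal.map_map, ← IsScalarTower.algebraMap_eq]
    letI : Algebra (B ⧸ I.map (algebraMap A B)) (B' ⧸ I.map (algebraMap A B')) :=
      (Ideal.quotientMap _ (algebraMap B B') hle).toAlgebra
    haveI : IsScalarTower B (B ⧸ I.map (algebraMap A B)) (B' ⧸ I.map (algebraMap A B')) :=
      IsScalarTower.of_algebraMap_eq (R := B) (S := B ⧸ I.map (algebraMap A B))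
        (A := B' ⧸ I.map (algebraMap A B')) fun _ => rfl
    haveI : IsScalarTower A (B ⧸ I.map (algebraMap A B)) (B' ⧸ I.map (algebraMap A B')) :=
      IsScalarTower.of_algebraMap_eq (R := A) (S := B ⧸ I.map (algebraMap A B))
        (A := B' ⧸ I.map (algebraMap A B')) fun a => by
          change _ = algebraMap B (B' ⧸ I.map (algebraMap A B')) (algebraMap A B a)
          rw [← IsScalarTower.algebraMap_apply]
    haveI := hftB'B
    exact Algebra.FiniteType.trans (S := B ⧸ I.map (algebraMap A B)) hftB
      (Algebra.FiniteType.of_restrictScalars_finiteType B _ _)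
  have eJ : (I.map (algebraMap A A')).map (algebraMap A' B') = I.map (algebraMap A B') := by
    rw [Ideal.map_map, ← IsScalarTower.algebraMap_eq A A' B']
  have key : ∀ (f' : A') (J' : Ideal B') (g' : B'), J' = I.map (algebraMap A B') → g' = algebraMap A' B' f' →
      ∀ ψ : Lib.Adic.RigFunct.CL (I.map (algebraMap A A')) f' →+* Lib.Adic.RigFunct.CL J' g',
      (∀ a, ψ (algebraMap A' _ a) = algebraMap B' _ (algebraMap A' B' a)) →
      ∀ q : PrimeSpectrum (Lib.Adic.RigFunct.CL J' g'),
        Lib.Adic.RigClosed.IsRigClosed (J'.map (algebraMap B' (Lib.Adic.RigFunct.CL J' g'))) q →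
        ((algebraMap _ (Localization.AtPrime q.asIdeal)).comp ψ).Flat := by
    intro f' J' g' hJ hg ψ hψ q hq
    rw [← eJ] at hJ
    subst hJ hg
    refine hA'B' f' ψ ((Lib.Adic.RigFunct.compat_iff _ _ _ f' ψ).2 hψ) q ?_
    rw [← Lib.Adic.RigFunct.map_ι]
    exact hq
  intro f ψf hψf qf hqf
  refine main (A' := A') I hftB' f (fun ψ hψ q hq => key _ _ _ rfl
    (IsScalarTower.algebraMap_apply A A' B' f) ψ hψ q ?_) ψf
    ((Lib.Adic.RigFunct.compat_iff _ _ _ f ψf).1 hψf) qf ?_
  · rw [Lib.Adic.RigFunct.map_ι, Lib.Adic.RigFunct.map_CL]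
    exact hq
  · rw [← Lib.Adic.RigFunct.map_CL]
    exact hqf

end Groth.Agent.S8844
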