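import Groth.Statements.S8845
import Groth.Agent.Lib.Adic.RigFunct
import Groth.Agent.Lib.Adic.RigEtale
import Mathlib.RingTheory.Etale.Basic

set_option autoImplicit false
universe u
open AdicRing

namespace Groth.Agent.S8845

open Lib.Adic.RigClosed Lib.Adic.RigFunct

/-- The local rings at a rig-closed point of a map of completed localisations with flat comparison. -/
theorem flat_at {A₁ B₁ A₂ B₂ : Type u} [CommRing A₁] [CommRing B₁] [CommRing A₂] [CommRing B₂]
    [IsNoetherianRing A₂] [IsNoetherianRing B₂] [Algebra A₁ B₁] [Algebra A₁ A₂] [Algebra A₁ B₂]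
    [Algebra A₂ B₂] [Algebra B₁ B₂] [IsScalarTower A₁ B₁ B₂] [IsScalarTower A₁ A₂ B₂]
    [Module.Flat B₁ B₂] (q : Ideal B₂) [q.IsPrime]
    (hAB : Module.Flat A₁ (Localization.AtPrime (q.comap (algebraMap B₁ B₂))))
    (hmax : (((q.comap (algebraMap A₂ B₂)).comap (algebraMap A₁ A₂)).map (algebraMap A₁ A₂)).map
        (algebraMap A₂ (Localization.AtPrime (q.comap (algebraMap A₂ B₂)))) =
      IsLocalRing.maximalIdeal (Localization.AtPrime (q.comap (algebraMap A₂ B₂)))) :
    Module.Flat A₂ (Localization.AtPrime q) := by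
  let qB := q.comap (algebraMap B₁ B₂)
  let p := q.comap (algebraMap A₂ B₂)
  let S := Localization.AtPrime q
  let LB := Localization.AtPrime qB
  let L' := Localization.AtPrime p
  haveI : Module.Flat B₂ S := IsLocalization.flat _ q.primeCompl
  haveI : Module.Flat B₁ S := Module.Flat.trans B₁ B₂ S
  have hu : ∀ y : qB.primeCompl, IsUnit (algebraMap B₁ S y) := fun y => by
    rw [IsScalarTower.algebraMap_apply B₁ B₂ S]
    exact IsLocalization.map_units S (⟨algebraMap B₁ B₂ y, y.2⟩ : q.primeCompl)
  letI : Algebra LB S := (IsLocalization.lift hu).toAlgebra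
  haveI : IsScalarTower B₁ LB S := IsScalarTower.of_algebraMap_eq (R := B₁) (S := LB) (A := S) fun x =>
    (IsLocalization.lift_eq hu x).symm
  haveI : IsScalarTower A₁ LB S := IsScalarTower.of_algebraMap_eq (R := A₁) (S := LB) (A := S) fun x => by
    rw [IsScalarTower.algebraMap_apply A₁ B₁ LB, ← IsScalarTower.algebraMap_apply B₁ LB S,
      IsScalarTower.algebraMap_apply B₁ B₂ S, ← IsScalarTower.algebraMap_apply A₁ B₁ B₂,
      ← IsScalarTower.algebraMap_apply A₁ B₂ S]
  haveI : Module.Flat LB S := (Module.flat_iff_of_isLocalization LB qB.primeCompl S).2 ‹_›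
  haveI : Module.Flat A₁ LB := hAB
  haveI : Module.Flat A₁ S := Module.Flat.trans A₁ LB S
  let θ : L' →+* S := Localization.localRingHom p q (algebraMap A₂ B₂) rfl
  letI : Algebra L' S := θ.toAlgebra
  haveI : IsLocalHom (algebraMap L' S) := Localization.isLocalHom_localRingHom p q (algebraMap A₂ B₂) rfl
  haveI : IsScalarTower A₂ L' S := IsScalarTower.of_algebraMap_eq (R := A₂) (S := L') (A := S) fun x =>
    (IsScalarTower.algebraMap_apply A₂ B₂ S x).trans
      (Localization.localRingHom_to_map p q (algebraMap A₂ B₂) rfl x).symm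
  haveI : IsScalarTower A₁ L' S := IsScalarTower.of_algebraMap_eq (R := A₁) (S := L') (A := S) fun x => by
    rw [IsScalarTower.algebraMap_apply A₁ A₂ L', ← IsScalarTower.algebraMap_apply A₂ L' S,
      IsScalarTower.algebraMap_apply A₂ B₂ S, ← IsScalarTower.algebraMap_apply A₁ A₂ B₂,
      ← IsScalarTower.algebraMap_apply A₁ B₂ S]
  haveI : IsNoetherianRing L' := IsLocalization.isNoetherianRing p.primeCompl _ inferInstance
  haveI : IsNoetherianRing S := IsLocalization.isNoetherianRing q.primeCompl _ inferInstance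
  haveI : Module.Flat L' S := Lib.Adic.RigEtale.flat_of_unramified (p.comap (algebraMap A₁ A₂)) (by
    rw [← hmax, Ideal.map_map, ← IsScalarTower.algebraMap_eq])
  haveI : Module.Flat A₂ L' := IsLocalization.flat _ p.primeCompl
  exact Module.Flat.trans A₂ L' S

theorem main {A : Type u} [CommRing A] [IsNoetherianRing A] (I : Ideal A) [IsAdicComplete I A]
    {B : Type u} [CommRing B] [Algebra A B] [IsNoetherianRing B]
    {A' : Type u} [CommRing A'] [Algebra A A'] [IsNoetherianRing A'] [Module.Flat A A']
    (hftA' : Algebra.FiniteType A (A' ⧸ I.map (algebraMap A A')))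
    [Algebra.FormallyUnramified A (A' ⧸ I.map (algebraMap A A'))]
    {B' : Type u} [CommRing B'] [Algebra A B'] [Algebra B B'] [Algebra A' B'] [IsScalarTower A B B']
    [IsScalarTower A A' B'] [IsNoetherianRing B'] [Module.Flat B B']
    (hftB' : Algebra.FiniteType A (B' ⧸ I.map (algebraMap A B')))
    (hAB : ∀ (f : A) (ψ : CL I f →+* CL (I.map (algebraMap A B)) (algebraMap A B f)),
      (∀ a, ψ (algebraMap A _ a) = algebraMap B _ (algebraMap A B a)) →
      ∀ q : PrimeSpectrum (CL (I.map (algebraMap A B)) (algebraMap A B f)),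
        IsRigClosed (I.map (algebraMap A (CL (I.map (algebraMap A B)) (algebraMap A B f)))) q →
        ((algebraMap _ (Localization.AtPrime q.asIdeal)).comp ψ).Flat)
    (J' : Ideal B') (hJ' : J' = I.map (algebraMap A B')) (f' : A')
    (ψ₀ : CL (I.map (algebraMap A A')) f' →+* CL J' (algebraMap A' B' f'))
    (hψ₀ : ∀ a, ψ₀ (algebraMap A' _ a) = algebraMap B' _ (algebraMap A' B' a))
    (q : PrimeSpectrum (CL J' (algebraMap A' B' f')))
    (hq : IsRigClosed (J'.map (algebraMap B' (CL J' (algebraMap A' B' f')))) q) :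
    ((algebraMap _ (Localization.AtPrime q.asIdeal)).comp ψ₀).Flat := by
  subst hJ'
  rw [map_ι, map_CL] at hq
  let JB := I.map (algebraMap A B)
  let JA' := I.map (algebraMap A A')
  let JB' := I.map (algebraMap A B')
  have hI : I.FG := IsNoetherian.noetherian _
  obtain ⟨f, hf, href⟩ := exists_refinement hftB' (algebraMap A' B' f') hq
  let h := f' * algebraMap A A' f
  let A₁ := CL I f
  let B₁ := CL JB (algebraMap A B f)
  let A₂ := CL JA' h
  let B₂ := CL JB' (algebraMap A' B' h)
  have hA₂ : IsUnit (algebraMap A' A₂ f') ∧ IsUnit (algebraMap A' A₂ (algebraMap A A' f)) := by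
    rw [← IsUnit.mul_iff, ← map_mul]
    exact isUnit_ι JA' h
  have hB₂ : IsUnit (algebraMap B' B₂ (algebraMap A' B' f')) ∧
      IsUnit (algebraMap B' B₂ (algebraMap A B' f)) := by
    rw [← IsUnit.mul_iff, ← map_mul, IsScalarTower.algebraMap_apply A A' B', ← map_mul]
    exact isUnit_ι JB' _
  haveI : IsAdicComplete (I.map (algebraMap A A₁)) A₁ := isAdicComplete_CL I hI f
  haveI : IsAdicComplete (I.map (algebraMap A B₁)) B₁ := isAdicComplete_CL' I hI _
  haveI : IsAdicComplete (I.map (algebraMap A A₂)) A₂ := isAdicComplete_CL' I hI _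
  haveI : IsAdicComplete (I.map (algebraMap A B₂)) B₂ := isAdicComplete_CL' I hI _
  obtain ⟨e₁, he₁⟩ := exists_map I hI f JB (hI.map _) (algebraMap A B f) (algebraMap A B) (isUnit_ι JB _) le_rfl
  obtain ⟨e₂, he₂⟩ := exists_map I hI f JA' (hI.map _) h (algebraMap A A') hA₂.2 le_rfl
  obtain ⟨e₃, he₃⟩ := exists_map JB (hI.map _) (algebraMap A B f) JB' (hI.map _) (algebraMap A' B' h)
    (algebraMap B B') (by rw [← IsScalarTower.algebraMap_apply A B B']; exact hB₂.2)
    (by rw [Ideal.map_map, ← IsScalarTower.algebraMap_eq A B B'])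
  obtain ⟨e₄, he₄⟩ := exists_map JA' (hI.map _) h JB' (hI.map _) (algebraMap A' B' h)
    (algebraMap A' B') (isUnit_ι JB' _) (by rw [Ideal.map_map, ← IsScalarTower.algebraMap_eq A A' B'])
  have h₄₂ : ∀ a, e₄ (e₂ (algebraMap A A₁ a)) = algebraMap A B₂ a := fun a => by
    rw [he₂, he₄, ← IsScalarTower.algebraMap_apply A A' B', ← IsScalarTower.algebraMap_apply]
  have h₃₁ : ∀ a, e₃ (e₁ (algebraMap A A₁ a)) = algebraMap A B₂ a := fun a => by
    rw [he₁, he₃, ← IsScalarTower.algebraMap_apply A B B', ← IsScalarTower.algebraMap_apply]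
  have h₄₃ : e₄.comp e₂ = e₃.comp e₁ := by
    refine ext_CL I hI f (I.map (algebraMap A B₂)) (Ideal.map_le_iff_le_comap.2 fun x hx => ?_)
      (RingHom.ext fun x => ?_)
    · rw [Ideal.mem_comap, RingHom.comp_apply, RingHom.comp_apply, h₄₂]
      exact Ideal.mem_map_of_mem _ hx
    · simp only [RingHom.comp_apply]
      rw [h₄₂, h₃₁]
  letI : Algebra A₁ B₁ := e₁.toAlgebra
  letI : Algebra A₁ A₂ := e₂.toAlgebra
  letI : Algebra B₁ B₂ := e₃.toAlgebra
  letI : Algebra A₂ B₂ := e₄.toAlgebra
  letI : Algebra A₁ B₂ := (e₄.comp e₂).toAlgebra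
  haveI : IsScalarTower A₁ A₂ B₂ := IsScalarTower.of_algebraMap_eq (R := A₁) (S := A₂) (A := B₂) fun _ => rfl
  haveI : IsScalarTower A₁ B₁ B₂ := IsScalarTower.of_algebraMap_eq (R := A₁) (S := B₁) (A := B₂) fun x =>
    RingHom.congr_fun h₄₃ x
  haveI : IsScalarTower A A₁ B₂ := IsScalarTower.of_algebraMap_eq (R := A) (S := A₁) (A := B₂) fun a =>
    (h₄₂ a).symm
  haveI : IsScalarTower A A₁ A₂ := IsScalarTower.of_algebraMap_eq (R := A) (S := A₁) (A := A₂) fun a => by
    change _ = e₂ (algebraMap A A₁ a)
    rw [he₂, ← IsScalarTower.algebraMap_apply]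
  haveI : IsScalarTower A A₂ B₂ := IsScalarTower.of_algebraMap_eq (R := A) (S := A₂) (A := B₂) fun a => by
    change _ = e₄ (algebraMap A A₂ a)
    rw [IsScalarTower.algebraMap_apply A A' A₂, he₄, ← IsScalarTower.algebraMap_apply A A' B',
      ← IsScalarTower.algebraMap_apply]
  haveI : IsScalarTower A B₁ B₂ := IsScalarTower.of_algebraMap_eq (R := A) (S := B₁) (A := B₂) fun a => by
    change _ = e₃ (algebraMap A B₁ a)
    rw [IsScalarTower.algebraMap_apply A B B₁, he₃, ← IsScalarTower.algebraMap_apply A B B',
      ← IsScalarTower.algebraMap_apply]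
  obtain ⟨φ, hφ⟩ := exists_map JB' (hI.map _) (algebraMap A' B' f') JB' (hI.map _) (algebraMap A' B' h)
    (RingHom.id B') hB₂.1 (by rw [Ideal.map_id])
  obtain ⟨a, ha⟩ := exists_map JA' (hI.map _) f' JA' (hI.map _) h (RingHom.id A') hA₂.1 (by rw [Ideal.map_id])
  let T₀ := CL JB' (algebraMap A' B' f')
  obtain ⟨q', hqq', hq', hfin⟩ := href (algebraMap A' B' h) (by
      rw [map_mul, ← IsScalarTower.algebraMap_apply A A' B', map_mul, map_mul,
        ← IsScalarTower.algebraMap_apply A B' T₀]
      exact IsUnit.mul ((isUnit_ι JB' _).map _) hf) φ hφ A₁ (isUnit_ι I f)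
  obtain ⟨hqA, hfinA⟩ := of_chain_base (A' := A₁) (R := A₂) hq' hfin
  obtain ⟨hqB, -⟩ := of_chain_base (A' := A₁) (R := B₁) hq' hfin
  have hJA : I.map (algebraMap A A₂) = (I.map (algebraMap A A₁)).map (algebraMap A₁ A₂) :=
    (congrArg (fun θ => I.map θ) (IsScalarTower.algebraMap_eq A A₁ A₂)).trans (Ideal.map_map _ _).symm
  haveI : IsAdicComplete ((I.map (algebraMap A A₁)).map (algebraMap A₁ A₂)) A₂ := hJA ▸ ‹_›
  have hpA := comap_rigClosed (hJA ▸ hqA) hfinA
  haveI : Algebra.FormallyUnramified A (A₂ ⧸ I.map (algebraMap A A₂)) := by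
    let Q₀ := A' ⧸ I.map (algebraMap A A')
    let Q₂ := A₂ ⧸ I.map (algebraMap A A₂)
    let M := Localization.Away (Ideal.Quotient.mk (I.map (algebraMap A A')) h)
    have hle : I.map (algebraMap A A') ≤ (I.map (algebraMap A A₂)).comap (algebraMap A' A₂) := by
      rw [← map_CL, ← map_ι]
      exact Ideal.le_comap_map
    let σ : Q₀ →+* Q₂ := Ideal.quotientMap _ (algebraMap A' A₂) hle
    have hu : IsUnit (σ (Ideal.Quotient.mk _ h)) := by
      change IsUnit (Ideal.quotientMap _ (algebraMap A' A₂) hle (Ideal.Quotient.mk _ h))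
      rw [Ideal.quotientMap_mk]
      exact (isUnit_ι JA' h).map _
    let τ : M →ₐ[A] Q₂ :=
      { IsLocalization.Away.lift (Ideal.Quotient.mk (I.map (algebraMap A A')) h) hu with
        commutes' := fun x => by
          change IsLocalization.Away.lift (Ideal.Quotient.mk (I.map (algebraMap A A')) h) hu (algebraMap A M x) = _
          rw [IsScalarTower.algebraMap_apply A Q₀ M, IsLocalization.Away.lift_eq]
          exact congrArg (Ideal.Quotient.mk _) (IsScalarTower.algebraMap_apply A A' A₂ x).symm }
    haveI : Algebra.FormallyUnramified Q₀ M :=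
      Algebra.FormallyUnramified.of_isLocalization (Submonoid.powers (Ideal.Quotient.mk _ h))
    haveI : Algebra.FormallyUnramified A M := Algebra.FormallyUnramified.comp A Q₀ M
    refine Algebra.FormallyUnramified.of_surjective τ fun y => ?_
    obtain ⟨t, rfl⟩ := Ideal.Quotient.mk_surjective y
    obtain ⟨l, hl⟩ := exists_sub_mem_pow (JA'.map (algebraMap A' (Localization.Away h))) (IsNoetherian.noetherian _) 1 t
    rw [pow_one, map_CL] at hl
    obtain ⟨n, b, hb⟩ := IsLocalization.Away.surj h l
    refine ⟨IsLocalization.mk' M (Ideal.Quotient.mk _ b)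
      (⟨Ideal.Quotient.mk _ h ^ n, n, rfl⟩ : Submonoid.powers (Ideal.Quotient.mk (I.map (algebraMap A A')) h)), ?_⟩
    change IsLocalization.lift _ _ = _
    rw [IsLocalization.lift_mk'_spec]
    change σ (Ideal.Quotient.mk _ b) = σ (Ideal.Quotient.mk _ h ^ n) * _
    rw [map_pow, (Ideal.Quotient.eq.2 hl : Ideal.Quotient.mk (I.map (algebraMap A A₂)) t = _)]
    change Ideal.Quotient.mk _ (algebraMap A' A₂ b) = Ideal.Quotient.mk _ (algebraMap A' A₂ h) ^ n * _
    rw [← map_pow, ← map_mul, IsScalarTower.algebraMap_apply A' (Localization.Away h) A₂ b, ← hb, map_mul,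
      map_pow, ← IsScalarTower.algebraMap_apply, mul_comm]
  haveI : Algebra.FormallyUnramified A₁ (A₂ ⧸ I.map (algebraMap A A₂)) :=
    Algebra.FormallyUnramified.of_restrictScalars A A₁ _
  haveI : Algebra.FormallyUnramified A₁ (A₂ ⧸ (I.map (algebraMap A A₁)).map (algebraMap A₁ A₂)) := hJA ▸ ‹_›
  have hftA₂ : Algebra.FiniteType A₁ (A₂ ⧸ (I.map (algebraMap A A₁)).map (algebraMap A₁ A₂)) := by
    rw [← hJA]
    haveI := finiteType_CL I h hftA'
    exact Algebra.FiniteType.of_restrictScalars_finiteType A _ _
  have hmax := Lib.Adic.RigEtale.maximalIdeal_eq (I.map (algebraMap A A₁)) hftA₂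
    (PrimeSpectrum.comap (algebraMap A₂ B₂) q') hpA
  have h1 := hAB f e₁ he₁ _ hqB
  haveI : Module.Flat B₁ B₂ := flat_map JB _ JB' _ (algebraMap B B') (RingHom.flat_algebraMap_iff.2 inferInstance)
    (by rw [Ideal.map_map, ← IsScalarTower.algebraMap_eq A B B']) e₃ he₃
  have h2 : Module.Flat A₂ (Localization.AtPrime q'.asIdeal) := by
    refine flat_at (A₁ := A₁) (B₁ := B₁) q'.asIdeal (RingHom.flat_algebraMap_iff.1 ?_) hmax
    rw [IsScalarTower.algebraMap_eq A₁ B₁ (Localization.AtPrime (q'.asIdeal.comap (algebraMap B₁ B₂)))]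
    exact h1
  refine flat_descend a ψ₀ e₄ φ ?_ (flat_map JA' _ JA' _ _ (RingHom.Flat.id A') (by rw [Ideal.map_id]) a ha)
    (flat_map JB' _ JB' _ _ (RingHom.Flat.id B') (by rw [Ideal.map_id]) φ hφ) q'.asIdeal q.asIdeal hqq' ?_
  · have hcomp : ∀ x, φ (ψ₀ (algebraMap A' _ x)) = algebraMap B' B₂ (algebraMap A' B' x) := fun x => by
      rw [hψ₀, hφ, RingHom.id_apply]
    haveI : IsAdicComplete (JB'.map (algebraMap B' B₂)) B₂ := isAdicComplete_CL JB' (hI.map _) _
    refine ext_CL JA' (hI.map _) f' (JB'.map (algebraMap B' B₂))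
      (hK := Ideal.map_le_iff_le_comap.2 fun x hx => ?_) (h := RingHom.ext fun x => ?_)
    · rw [Ideal.mem_comap, RingHom.comp_apply, RingHom.comp_apply, hcomp]
      refine Ideal.mem_map_of_mem _ ?_
      have := Ideal.mem_map_of_mem (algebraMap A' B') hx
      rwa [Ideal.map_map, ← IsScalarTower.algebraMap_eq A A' B'] at this
    · simp only [RingHom.comp_apply]
      rw [hcomp, ha, he₄, RingHom.id_apply]
  · have := RingHom.flat_algebraMap_iff.2 h2
    rw [IsScalarTower.algebraMap_eq A₂ B₂ (Localization.AtPrime q'.asIdeal)] at this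
    exact this

/-- Consider a commutative square of adic Noetherian topological rings with all maps adic and
topologically of finite type: A a Noetherian ring complete for the adic topology of an ideal I (the
ideal of definition used below); B, A' and B' Noetherian algebras complete for the IB-, IA'- and
IB'-adic topologies, B' an algebra over B and over A' compatibly with A, with B/IB and A'/IA' of
finite type over A and B'/IB' of finite type over B and over A'. Assume A → A' and B → B' are flat
and A/I → A'/IA' is étale. If A → B is rig-flat — for every f ∈ A, every ring map ψ : A_{f} → B_{f}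
of completed principal localizations compatible with the map of ordinary localizations A[1/f] →
B[1/f] (there is exactly one), and every rig-closed prime q of B_{f} (I B_{f} ⊄ q and q maximal
among the primes not containing I B_{f}), the local ring (B_{f})_q is flat over A_{f} via ψ — then
A' → B' is rig-flat in the same form: for every f' ∈ A', every ring map A'_{f'} → B'_{f'} of
completed principal localizations compatible with the map of ordinary localizations A'[1/f'] →
B'[1/f'], and every rig-closed prime q' of B'_{f'}, the local ring (B'_{f'})_{q'} is flat over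
A'_{f'}. -/
theorem result (A : Type u) [CommRing A] [IsNoetherianRing A] (I : Ideal A) [IsAdicComplete I A] (B : Type u) [CommRing B] [Algebra A B] [IsNoetherianRing B] [IsAdicComplete (I.map (algebraMap A B)) B] (hftB : Algebra.FiniteType A (B ⧸ (I.map (algebraMap A B)))) (A' : Type u) [CommRing A'] [Algebra A A'] [IsNoetherianRing A'] [IsAdicComplete (I.map (algebraMap A A')) A'] (hftA' : Algebra.FiniteType A (A' ⧸ (I.map (algebraMap A A')))) (B' : Type u) [CommRing B'] [Algebra A B'] [Algebra B B'] [Algebra A' B'] [IsScalarTower A B B'] [IsScalarTower A A' B'] [IsNoetherianRing B'] [IsAdicComplete (I.map (algebraMap A B')) B'] (hftB'B : Algebra.FiniteType B (B' ⧸ (I.map (algebraMap A B')))) (hftB'A' : Algebra.FiniteType A' (B' ⧸ (I.map (algebraMap A B')))) [Module.Flat A A'] [Module.Flat B B'] [Algebra.Etale (A ⧸ I) (A' ⧸ (I.map (algebraMap A A')))] (hAB : (∀ f : A, ∀ ψf : (AdicCompletion (I.map (algebraMap A (Localization.Away f))) (Localization.Away f)) →+* (AdicCompletion ((I.map (algebraMap A B)).map (algebraMap B (Localization.Away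 (algebraMap A B f)))) (Localization.Away (algebraMap A B f))), ψf.comp (algebraMap (Localization.Away f) (AdicCompletion (I.map (algebraMap A (Localization.Away f))) (Localization.Away f))) = (algebraMap (Localization.Away (algebraMap A B f)) (AdicCompletion ((I.map (algebraMap A B)).map (algebraMap B (Localization.Away (algebraMap A B f)))) (Localization.Away (algebraMap A B f)))).comp (Localization.awayMap (algebraMap A B) f) → ∀ qf : PrimeSpectrum (AdicCompletion ((I.map (algebraMap A B)).map (algebraMap B (Localization.Away (algebraMap A B f)))) (Localization.Away (algebraMap A B f))), (¬ (((I.map (algebraMap A B)).map (algebraMap B (Localization.Away (algebraMap A B f)))).map (algebraMap (Localization.Away (algebraMap A B f)) (AdicCompletion ((I.map (algebraMap A B)).map (algebraMap B (Localization.Away (algebraMap A B f)))) (Localization.Away (algebraMap A B f))))) ≤ qf.asIdeal ∧ ∀ y : PrimeSpectrum (AdicCompletion ((I.map (algebraMap A B)).map (algebraMap B (Localization.Away (algebraMap A B f)))) (Localization.Away (algebraMap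 A B f))), qf ≤ y → ¬ (((I.map (algebraMap A B)).map (algebraMap B (Localization.Away (algebraMap A B f)))).map (algebraMap (Localization.Away (algebraMap A B f)) (AdicCompletion ((I.map (algebraMap A B)).map (algebraMap B (Localization.Away (algebraMap A B f)))) (Localization.Away (algebraMap A B f))))) ≤ y.asIdeal → y = qf) → ((algebraMap (AdicCompletion ((I.map (algebraMap A B)).map (algebraMap B (Localization.Away (algebraMap A B f)))) (Localization.Away (algebraMap A B f))) (Localization.AtPrime qf.asIdeal)).comp ψf).Flat)) : (∀ f' : A', ∀ ψf' : (AdicCompletion ((I.map (algebraMap A A')).map (algebraMap A' (Localization.Away f'))) (Localization.Away f')) →+* (AdicCompletion (((I.map (algebraMap A A')).map (algebraMap A' B')).map (algebraMap B' (Localization.Away (algebraMap A' B' f')))) (Localization.Away (algebraMap A' B' f'))), ψf'.comp (algebraMap (Localization.Away f') (AdicCompletion ((I.map (algebraMap A A')).map (algebraMap A' (Localization.Away f'))) (Localization.Away f'))) = (algebraMap (Localization.Away (algebraMap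 A' B' f')) (AdicCompletion (((I.map (algebraMap A A')).map (algebraMap A' B')).map (algebraMap B' (Localization.Away (algebraMap A' B' f')))) (Localization.Away (algebraMap A' B' f')))).comp (Localization.awayMap (algebraMap A' B') f') → ∀ qf' : PrimeSpectrum (AdicCompletion (((I.map (algebraMap A A')).map (algebraMap A' B')).map (algebraMap B' (Localization.Away (algebraMap A' B' f')))) (Localization.Away (algebraMap A' B' f'))), (¬ ((((I.map (algebraMap A A')).map (algebraMap A' B')).map (algebraMap B' (Localization.Away (algebraMap A' B' f')))).map (algebraMap (Localization.Away (algebraMap A' B' f')) (AdicCompletion (((I.map (algebraMap A A')).map (algebraMap A' B')).map (algebraMap B' (Localization.Away (algebraMap A' B' f')))) (Localization.Away (algebraMap A' B' f'))))) ≤ qf'.asIdeal ∧ ∀ y : PrimeSpectrum (AdicCompletion (((I.map (algebraMap A A')).map (algebraMap A' B')).map (algebraMap B' (Localization.Away (algebraMap A' B' f')))) (Localization.Away (algebraMap A' B' f'))), qf' ≤ y → ¬ ((((I.map (algebraMap A A')).map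 (algebraMap A' B')).map (algebraMap B' (Localization.Away (algebraMap A' B' f')))).map (algebraMap (Localization.Away (algebraMap A' B' f')) (AdicCompletion (((I.map (algebraMap A A')).map (algebraMap A' B')).map (algebraMap B' (Localization.Away (algebraMap A' B' f')))) (Localization.Away (algebraMap A' B' f'))))) ≤ y.asIdeal → y = qf') → ((algebraMap (AdicCompletion (((I.map (algebraMap A A')).map (algebraMap A' B')).map (algebraMap B' (Localization.Away (algebraMap A' B' f')))) (Localization.Away (algebraMap A' B' f'))) (Localization.AtPrime qf'.asIdeal)).comp ψf').Flat) := by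
  have hftB' : Algebra.FiniteType A (B' ⧸ I.map (algebraMap A B')) := by
    have hle : I.map (algebraMap A B) ≤ (I.map (algebraMap A B')).comap (algebraMap B B') := by
      rw [← Ideal.map_le_iff_le_comap, Ideal.map_map, ← IsScalarTower.algebraMap_eq]
    letI : Algebra (B ⧸ I.map (algebraMap A B)) (B' ⧸ I.map (algebraMap A B')) :=
      (Ideal.quotientMap _ (algebraMap B B') hle).toAlgebra
    haveI : IsScalarTower B (B ⧸ I.map (algebraMap A B)) (B' ⧸ I.map (algebraMap A B')) :=
      IsScalarTower.of_algebraMap_eq (R := B) (S := B ⧸ I.map (algebraMap A B))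
        (A := B' ⧸ I.map (algebraMap A B')) fun _ => rfl
    haveI : IsScalarTower A (B ⧸ I.map (algebraMap A B)) (B' ⧸ I.map (algebraMap A B')) :=
      IsScalarTower.of_algebraMap_eq (R := A) (S := B ⧸ I.map (algebraMap A B))
        (A := B' ⧸ I.map (algebraMap A B')) fun a => by
          change _ = algebraMap B (B' ⧸ I.map (algebraMap A B')) (algebraMap A B a)
          rw [← IsScalarTower.algebraMap_apply]
    haveI := hftB'B
    exact Algebra.FiniteType.trans (S := B ⧸ I.map (algebraMap A B)) hftB
      (Algebra.FiniteType.of_restrictScalars_finiteType B _ _)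
  haveI : Algebra.FormallyUnramified A (A ⧸ I) :=
    Algebra.FormallyUnramified.of_surjective (Algebra.ofId A (A ⧸ I)) Ideal.Quotient.mk_surjective
  haveI : Algebra.FormallyUnramified A (A' ⧸ I.map (algebraMap A A')) :=
    Algebra.FormallyUnramified.comp A (A ⧸ I) _
  have eJ : (I.map (algebraMap A A')).map (algebraMap A' B') = I.map (algebraMap A B') := by
    rw [Ideal.map_map, ← IsScalarTower.algebraMap_eq A A' B']
  intro f' ψf' hψf' qf' hqf'
  refine main (B := B) I hftA' hftB' (fun f ψ hψ q hq => ?_) _ eJ f' ψf'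
    ((Lib.Adic.RigFunct.compat_iff _ _ _ f' ψf').1 hψf') qf' ?_
  · refine hAB f ψ ((Lib.Adic.RigFunct.compat_iff _ _ _ f ψ).2 hψ) q ?_
    rw [Lib.Adic.RigFunct.map_CL]
    exact hq
  · rw [Lib.Adic.RigFunct.map_ι]
    exact hqf'

end Groth.Agent.S8845
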