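import Groth.Statements.S8846
import Groth.Agent.Lib.Adic.RigBaseChange

set_option autoImplicit false
universe u
open scoped TensorProduct
open AdicRing

namespace Groth.Agent.S8846

open Lib.Adic.RigClosed Lib.Adic.RigFunct Lib.Adic.RigBaseChange

theorem flat_fibre' {A₁ B₁ C₂ D₂ : Type u} [CommRing A₁] [IsNoetherianRing A₁] [CommRing B₁]
    [IsNoetherianRing B₁] [CommRing C₂] [IsNoetherianRing C₂] [CommRing D₂] [IsNoetherianRing D₂]
    (I : Ideal A₁) [Algebra A₁ B₁] [Algebra A₁ C₂] [Algebra A₁ D₂] [Algebra C₂ D₂] [Algebra B₁ D₂]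
    [IsScalarTower A₁ C₂ D₂] [IsScalarTower A₁ B₁ D₂]
    [IsAdicComplete (I.map (algebraMap A₁ B₁)) B₁] [IsAdicComplete (I.map (algebraMap A₁ D₂)) D₂]
    (hpush : IsPush I (IsScalarTower.toAlgHom A₁ C₂ D₂) (IsScalarTower.toAlgHom A₁ B₁ D₂))
    (q : PrimeSpectrum D₂)
    (hfin : Module.Finite A₁ (C₂ ⧸ (PrimeSpectrum.comap (algebraMap C₂ D₂) q).asIdeal))
    (hAB : ((algebraMap B₁ (Localization.AtPrime (PrimeSpectrum.comap (algebraMap B₁ D₂) q).asIdeal)).comp
      (algebraMap A₁ B₁)).Flat) :
    ((algebraMap D₂ (Localization.AtPrime q.asIdeal)).comp (algebraMap C₂ D₂)).Flat := by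
  rw [← IsScalarTower.algebraMap_eq] at hAB
  haveI : Module.Finite A₁ (C₂ ⧸ q.asIdeal.comap (IsScalarTower.toAlgHom A₁ C₂ D₂).toRingHom) := hfin
  exact flat_fibre I _ _ hpush q.asIdeal (RingHom.flat_algebraMap_iff.1 hAB)

set_option maxHeartbeats 1000000 in
theorem main {A : Type u} [CommRing A] [IsNoetherianRing A] (I : Ideal A) [IsAdicComplete I A]
    {B : Type u} [CommRing B] [Algebra A B] [IsNoetherianRing B]
    (hAB : ∀ (f : A) (ψ : CL I f →+* CL (I.map (algebraMap A B)) (algebraMap A B f)),
      (∀ a, ψ (algebraMap A _ a) = algebraMap B _ (algebraMap A B a)) →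
      ∀ q : PrimeSpectrum (CL (I.map (algebraMap A B)) (algebraMap A B f)),
        IsRigClosed (I.map (algebraMap A (CL (I.map (algebraMap A B)) (algebraMap A B f)))) q →
        ((algebraMap _ (Localization.AtPrime q.asIdeal)).comp ψ).Flat)
    {C : Type u} [CommRing C] [Algebra A C] [IsNoetherianRing C]
    {D : Type u} [CommRing D] [IsNoetherianRing D] [Algebra A D] [Algebra C D] [IsScalarTower A C D]
    (β : B →ₐ[A] D) (hpush : IsPush I (IsScalarTower.toAlgHom A C D) β)
    (hftD : Algebra.FiniteType A (D ⧸ I.map (algebraMap A D)))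
    (JD : Ideal D) (hJD : JD = I.map (algebraMap A D)) (h₀ : C)
    (ψ₀ : CL (I.map (algebraMap A C)) h₀ →+* CL JD (algebraMap C D h₀))
    (hψ₀ : ∀ c, ψ₀ (algebraMap C _ c) = algebraMap D _ (algebraMap C D c))
    (q : PrimeSpectrum (CL JD (algebraMap C D h₀)))
    (hq : IsRigClosed (JD.map (algebraMap D (CL JD (algebraMap C D h₀)))) q) :
    ((algebraMap _ (Localization.AtPrime q.asIdeal)).comp ψ₀).Flat := by
  subst hJD
  rw [map_ι, map_CL] at hq
  let JB := I.map (algebraMap A B)
  let JC := I.map (algebraMap A C)
  let JD := I.map (algebraMap A D)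
  have hI : I.FG := IsNoetherian.noetherian _
  obtain ⟨f, hf, href⟩ := exists_refinement hftD (algebraMap C D h₀) hq
  let h := h₀ * algebraMap A C f
  let A₁ := CL I f
  let B₁ := CL JB (algebraMap A B f)
  let C₂ := CL JC h
  let D₂ := CL JD (algebraMap C D h)
  have hC₂ : IsUnit (algebraMap C C₂ h₀) ∧ IsUnit (algebraMap C C₂ (algebraMap A C f)) := by
    rw [← IsUnit.mul_iff, ← map_mul]
    exact isUnit_ι JC h
  have hD₂ : IsUnit (algebraMap D D₂ (algebraMap C D h₀)) ∧ IsUnit (algebraMap D D₂ (algebraMap A D f)) := by
    rw [← IsUnit.mul_iff, ← map_mul, IsScalarTower.algebraMap_apply A C D, ← map_mul]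
    exact isUnit_ι JD _
  haveI : IsAdicComplete (I.map (algebraMap A A₁)) A₁ := isAdicComplete_CL I hI f
  haveI : IsAdicComplete (I.map (algebraMap A B₁)) B₁ := isAdicComplete_CL' I hI _
  haveI : IsAdicComplete (I.map (algebraMap A C₂)) C₂ := isAdicComplete_CL' I hI _
  haveI : IsAdicComplete (I.map (algebraMap A D₂)) D₂ := isAdicComplete_CL' I hI _
  obtain ⟨e₁, he₁⟩ := exists_map I hI f JB (hI.map _) (algebraMap A B f) (algebraMap A B) (isUnit_ι JB _) le_rfl
  obtain ⟨e₂, he₂⟩ := exists_map I hI f JC (hI.map _) h (algebraMap A C) hC₂.2 le_rfl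
  obtain ⟨e₃, he₃⟩ := exists_map JB (hI.map _) (algebraMap A B f) JD (hI.map _) (algebraMap C D h)
    β.toRingHom (by change IsUnit (algebraMap D D₂ (β (algebraMap A B f))); rw [β.commutes]; exact hD₂.2)
    (by rw [Ideal.map_map]; exact le_of_eq (congrArg (fun θ => I.map θ) (RingHom.ext β.commutes)))
  obtain ⟨e₄, he₄⟩ := exists_map JC (hI.map _) h JD (hI.map _) (algebraMap C D h)
    (algebraMap C D) (isUnit_ι JD _) (by rw [Ideal.map_map, ← IsScalarTower.algebraMap_eq A C D])
  have h₄₂ : ∀ a, e₄ (e₂ (algebraMap A A₁ a)) = algebraMap A D₂ a := fun a => by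
    rw [he₂, he₄, ← IsScalarTower.algebraMap_apply A C D, ← IsScalarTower.algebraMap_apply]
  have h₃₁ : ∀ a, e₃ (e₁ (algebraMap A A₁ a)) = algebraMap A D₂ a := fun a => by
    rw [he₁, he₃]
    change algebraMap D D₂ (β (algebraMap A B a)) = _
    rw [β.commutes, ← IsScalarTower.algebraMap_apply]
  have h₄₃ : e₄.comp e₂ = e₃.comp e₁ := by
    refine ext_CL I hI f (I.map (algebraMap A D₂)) (Ideal.map_le_iff_le_comap.2 fun x hx => ?_)
      (RingHom.ext fun x => ?_)
    · rw [Ideal.mem_comap, RingHom.comp_apply, RingHom.comp_apply, h₄₂]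
      exact Ideal.mem_map_of_mem _ hx
    · simp only [RingHom.comp_apply]
      rw [h₄₂, h₃₁]
  letI : Algebra A₁ B₁ := e₁.toAlgebra
  letI : Algebra A₁ C₂ := e₂.toAlgebra
  letI : Algebra B₁ D₂ := e₃.toAlgebra
  letI : Algebra C₂ D₂ := e₄.toAlgebra
  letI : Algebra A₁ D₂ := (e₄.comp e₂).toAlgebra
  haveI : IsScalarTower A₁ C₂ D₂ := IsScalarTower.of_algebraMap_eq (R := A₁) (S := C₂) (A := D₂) fun _ => rfl
  haveI : IsScalarTower A₁ B₁ D₂ := IsScalarTower.of_algebraMap_eq (R := A₁) (S := B₁) (A := D₂) fun x =>
    RingHom.congr_fun h₄₃ x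
  haveI : IsScalarTower A A₁ D₂ := IsScalarTower.of_algebraMap_eq (R := A) (S := A₁) (A := D₂) fun a =>
    (h₄₂ a).symm
  haveI : IsScalarTower A A₁ C₂ := IsScalarTower.of_algebraMap_eq (R := A) (S := A₁) (A := C₂) fun a => by
    change _ = e₂ (algebraMap A A₁ a)
    rw [he₂, ← IsScalarTower.algebraMap_apply]
  haveI : IsScalarTower A A₁ B₁ := IsScalarTower.of_algebraMap_eq (R := A) (S := A₁) (A := B₁) fun a => by
    change _ = e₁ (algebraMap A A₁ a)
    rw [he₁, ← IsScalarTower.algebraMap_apply]
  haveI : IsScalarTower A C₂ D₂ := IsScalarTower.of_algebraMap_eq (R := A) (S := C₂) (A := D₂) fun a => by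
    change _ = e₄ (algebraMap A C₂ a)
    rw [IsScalarTower.algebraMap_apply A C C₂, he₄, ← IsScalarTower.algebraMap_apply A C D,
      ← IsScalarTower.algebraMap_apply]
  haveI : IsScalarTower A B₁ D₂ := IsScalarTower.of_algebraMap_eq (R := A) (S := B₁) (A := D₂) fun a => by
    change _ = e₃ (algebraMap A B₁ a)
    rw [IsScalarTower.algebraMap_apply A B B₁, he₃]
    change _ = algebraMap D D₂ (β (algebraMap A B a))
    rw [β.commutes, ← IsScalarTower.algebraMap_apply]
  obtain ⟨φ, hφ⟩ := exists_map JD (hI.map _) (algebraMap C D h₀) JD (hI.map _) (algebraMap C D h)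
    (RingHom.id D) hD₂.1 (by rw [Ideal.map_id])
  obtain ⟨a, ha⟩ := exists_map JC (hI.map _) h₀ JC (hI.map _) h (RingHom.id C) hC₂.1 (by rw [Ideal.map_id])
  let T₀ := CL JD (algebraMap C D h₀)
  obtain ⟨q', hqq', hq', hfin⟩ := href (algebraMap C D h) (by
      rw [map_mul, ← IsScalarTower.algebraMap_apply A C D, map_mul, map_mul,
        ← IsScalarTower.algebraMap_apply A D T₀]
      exact IsUnit.mul ((isUnit_ι JD _).map _) hf) φ hφ A₁ (isUnit_ι I f)
  obtain ⟨-, hfinC⟩ := of_chain_base (A' := A₁) (R := C₂) hq' hfin
  obtain ⟨hqB, -⟩ := of_chain_base (A' := A₁) (R := B₁) hq' hfin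
  have hmapI : ∀ (X : Type u) [CommRing X] [Algebra A X] [Algebra A₁ X] [IsScalarTower A A₁ X],
      (I.map (algebraMap A A₁)).map (algebraMap A₁ X) = I.map (algebraMap A X) := fun X _ _ _ _ =>
    (Ideal.map_map _ _).trans (congrArg (fun θ => I.map θ) (IsScalarTower.algebraMap_eq A A₁ X).symm)
  let I₁ := I.map (algebraMap A A₁)
  have hpush₂ : IsPush I₁ (IsScalarTower.toAlgHom A₁ C₂ D₂) (IsScalarTower.toAlgHom A₁ B₁ D₂) := by
    refine ⟨fun X _ _ _ u v => ?_, fun X _ _ _ w w' hγ hβ => ?_⟩
    · letI : Algebra A X := ((algebraMap A₁ X).comp (algebraMap A A₁)).toAlgebra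
      haveI : IsScalarTower A A₁ X := IsScalarTower.of_algebraMap_eq (R := A) (S := A₁) (A := X) fun _ => rfl
      haveI : IsAdicComplete (I.map (algebraMap A X)) X := hmapI X ▸ ‹IsAdicComplete (I₁.map (algebraMap A₁ X)) X›
      let uC : C →ₐ[A] X := (u.restrictScalars A).comp (IsScalarTower.toAlgHom A C C₂)
      let vB : B →ₐ[A] X := (v.restrictScalars A).comp (IsScalarTower.toAlgHom A B B₁)
      obtain ⟨w, hwC, hwB⟩ := hpush.exists_hom X uC vB
      obtain ⟨W, hW⟩ := exists_lift_CL JD (hI.map _) (algebraMap C D h) (I.map (algebraMap A X)) w.toRingHom (by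
          change IsUnit (w (IsScalarTower.toAlgHom A C D h))
          rw [← AlgHom.comp_apply, hwC]
          exact (isUnit_ι JC h).map u) (by
          rw [Ideal.map_map]
          exact le_of_eq (congrArg (fun θ => I.map θ) (RingHom.ext w.commutes)))
      have hWC : W.comp e₄ = u.toRingHom := by
        refine ext_CL JC (hI.map _) h (I.map (algebraMap A X)) (hK := ?_) (h := ?_)
        · rw [Ideal.map_le_iff_le_comap, Ideal.map_le_iff_le_comap]
          intro x hx
          rw [Ideal.mem_comap, Ideal.mem_comap, RingHom.comp_apply, RingHom.comp_apply, he₄, hW,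
            ← IsScalarTower.algebraMap_apply A C D]
          change w (algebraMap A D x) ∈ _
          rw [w.commutes]
          exact Ideal.mem_map_of_mem _ hx
        · refine RingHom.ext fun c => ?_
          simp only [RingHom.comp_apply]
          rw [he₄, hW]
          exact AlgHom.congr_fun hwC c
      have hWB : W.comp e₃ = v.toRingHom := by
        refine ext_CL JB (hI.map _) (algebraMap A B f) (I.map (algebraMap A X)) (hK := ?_) (h := ?_)
        · rw [Ideal.map_le_iff_le_comap, Ideal.map_le_iff_le_comap]
          intro x hx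
          rw [Ideal.mem_comap, Ideal.mem_comap, RingHom.comp_apply, RingHom.comp_apply, he₃, hW]
          change w (β (algebraMap A B x)) ∈ _
          rw [β.commutes, w.commutes]
          exact Ideal.mem_map_of_mem _ hx
        · refine RingHom.ext fun c => ?_
          simp only [RingHom.comp_apply]
          rw [he₃, hW]
          exact AlgHom.congr_fun hwB c
      refine ⟨{ W with commutes' := fun x => ?_ }, AlgHom.ext fun c => RingHom.congr_fun hWC c,
        AlgHom.ext fun b => RingHom.congr_fun hWB b⟩
      change W (e₄ (e₂ x)) = algebraMap A₁ X x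
      exact (RingHom.congr_fun hWC (e₂ x)).trans (u.commutes x)
    · letI : Algebra A X := ((algebraMap A₁ X).comp (algebraMap A A₁)).toAlgebra
      haveI : IsScalarTower A A₁ X := IsScalarTower.of_algebraMap_eq (R := A) (S := A₁) (A := X) fun _ => rfl
      haveI : IsHausdorff (I.map (algebraMap A X)) X := hmapI X ▸ ‹IsHausdorff (I₁.map (algebraMap A₁ X)) X›
      have hD : (w.restrictScalars A).comp (IsScalarTower.toAlgHom A D D₂) =
          (w'.restrictScalars A).comp (IsScalarTower.toAlgHom A D D₂) := by
        refine hpush.ext X _ _ (AlgHom.ext fun c => ?_) (AlgHom.ext fun b => ?_)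
        · change w (algebraMap D D₂ (algebraMap C D c)) = w' (algebraMap D D₂ (algebraMap C D c))
          rw [← he₄]
          exact AlgHom.congr_fun hγ (algebraMap C C₂ c)
        · change w (algebraMap D D₂ (β.toRingHom b)) = w' (algebraMap D D₂ (β.toRingHom b))
          rw [← he₃]
          exact AlgHom.congr_fun hβ (algebraMap B B₁ b)
      refine AlgHom.coe_ringHom_injective (ext_CL JD (hI.map _) _ (I.map (algebraMap A X)) (hK := ?_)
        (h := RingHom.ext fun d => AlgHom.congr_fun hD d))
      rw [Ideal.map_le_iff_le_comap, Ideal.map_le_iff_le_comap]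
      intro x hx
      rw [Ideal.mem_comap, Ideal.mem_comap, RingHom.comp_apply, ← IsScalarTower.algebraMap_apply A D D₂]
      change w.restrictScalars A (algebraMap A D₂ x) ∈ _
      rw [AlgHom.commutes]
      exact Ideal.mem_map_of_mem _ hx
  haveI : IsAdicComplete (I₁.map (algebraMap A₁ B₁)) B₁ := (hmapI B₁).symm ▸ ‹IsAdicComplete (I.map (algebraMap A B₁)) B₁›
  haveI : IsAdicComplete (I₁.map (algebraMap A₁ D₂)) D₂ := (hmapI D₂).symm ▸ ‹IsAdicComplete (I.map (algebraMap A D₂)) D₂›
  have h2 := flat_fibre' I₁ hpush₂ q' hfinC (hAB f e₁ he₁ _ hqB)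
  refine flat_descend a ψ₀ e₄ φ ?_ (flat_map JC _ JC _ _ (RingHom.Flat.id C) (by rw [Ideal.map_id]) a ha)
    (flat_map JD _ JD _ _ (RingHom.Flat.id D) (by rw [Ideal.map_id]) φ hφ) q'.asIdeal q.asIdeal hqq' h2
  have hcomp : ∀ x, φ (ψ₀ (algebraMap C _ x)) = algebraMap D D₂ (algebraMap C D x) := fun x => by
    rw [hψ₀, hφ, RingHom.id_apply]
  refine ext_CL JC (hI.map _) h₀ (I.map (algebraMap A D₂)) (hK := ?_) (h := RingHom.ext fun x => ?_)
  · rw [Ideal.map_le_iff_le_comap, Ideal.map_le_iff_le_comap]
    intro x hx
    rw [Ideal.mem_comap, Ideal.mem_comap, RingHom.comp_apply, RingHom.comp_apply, hcomp,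
      ← IsScalarTower.algebraMap_apply A C D, ← IsScalarTower.algebraMap_apply]
    exact Ideal.mem_map_of_mem _ hx
  · simp only [RingHom.comp_apply]
    rw [hcomp, ha, he₄, RingHom.id_apply]

open TensorProduct in
/-- The completion of `C ⊗ B` has the pushout property. -/
theorem isPush_completion {A B C : Type u} [CommRing A] [CommRing B] [CommRing C] [Algebra A B] [Algebra A C]
    (I : Ideal A) (hI : I.FG) :
    IsPush I (IsScalarTower.toAlgHom A C (AdicCompletion ((I.map (algebraMap A C)).map (algebraMap C (C ⊗[A] B))) (C ⊗[A] B)))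
      ((IsScalarTower.toAlgHom A (C ⊗[A] B)
        (AdicCompletion ((I.map (algebraMap A C)).map (algebraMap C (C ⊗[A] B))) (C ⊗[A] B))).comp
          (Algebra.TensorProduct.includeRight : B →ₐ[A] C ⊗[A] B)) := by
  let R := C ⊗[A] B
  let J := (I.map (algebraMap A C)).map (algebraMap C R)
  let D := AdicCompletion J R
  have hJ : J.FG := (hI.map _).map _
  have hJA : J = I.map (algebraMap A R) := by
    rw [IsScalarTower.algebraMap_eq A C R]
    exact Ideal.map_map _ _
  refine ⟨fun X _ _ _ u v => ?_, fun X _ _ _ w w' hγ hβ => ?_⟩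
  · let t : R →ₐ[A] X := Algebra.TensorProduct.lift u v fun _ _ => Commute.all _ _
    obtain ⟨W, hW⟩ := exists_lift J hJ (I.map (algebraMap A X)) t.toRingHom (by
      rw [hJA, Ideal.map_map]
      exact le_of_eq (congrArg (fun θ => I.map θ) (RingHom.ext t.commutes)))
    refine ⟨{ W with commutes' := fun x => ?_ }, AlgHom.ext fun c => ?_, AlgHom.ext fun b => ?_⟩
    · change W (algebraMap A D x) = _
      rw [IsScalarTower.algebraMap_apply A R D, ← RingHom.comp_apply W, hW]
      exact t.commutes x
    · change W (algebraMap C D c) = _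
      rw [IsScalarTower.algebraMap_apply C R D, ← RingHom.comp_apply W, hW]
      exact (Algebra.TensorProduct.lift_tmul u v (fun _ _ => Commute.all _ _) c 1).trans (by rw [map_one, mul_one])
    · change W (algebraMap R D ((1 : C) ⊗ₜ[A] b)) = _
      rw [← RingHom.comp_apply W, hW]
      exact (Algebra.TensorProduct.lift_tmul u v (fun _ _ => Commute.all _ _) 1 b).trans (by rw [map_one, one_mul])
  · have hR : w.comp (IsScalarTower.toAlgHom A R D) = w'.comp (IsScalarTower.toAlgHom A R D) := by
      refine Algebra.TensorProduct.ext (AlgHom.ext fun c => ?_) (AlgHom.ext fun b => AlgHom.congr_fun hβ b)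
      have := AlgHom.congr_fun hγ c
      simp only [AlgHom.comp_apply, IsScalarTower.toAlgHom_apply, IsScalarTower.algebraMap_apply C R D] at this
      exact this
    refine AlgHom.coe_ringHom_injective (ringHom_ext J hJ (I.map (algebraMap A X)) (hK := ?_)
      (h := RingHom.ext fun d => AlgHom.congr_fun hR d))
    refine le_trans (le_of_eq (congrArg (fun M => Ideal.map _ M) hJA)) ?_
    rw [Ideal.map_le_iff_le_comap, Ideal.map_le_iff_le_comap]
    intro x hx
    rw [Ideal.mem_comap, Ideal.mem_comap, RingHom.comp_apply, ← IsScalarTower.algebraMap_apply A R D]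
    change w (algebraMap A D x) ∈ _
    rw [AlgHom.commutes]
    exact Ideal.mem_map_of_mem _ hx

open TensorProduct in
/-- The completed tensor product is topologically of finite type and Noetherian. -/
theorem completion_facts {A B C : Type u} [CommRing A] [IsNoetherianRing A] [CommRing B] [CommRing C]
    [Algebra A B] [Algebra A C] (I : Ideal A)
    (hftB : Algebra.FiniteType A (B ⧸ I.map (algebraMap A B)))
    (hftC : Algebra.FiniteType A (C ⧸ I.map (algebraMap A C)))
    (D : Type u) [CommRing D] [Algebra (C ⊗[A] B) D] [Algebra A D] [IsScalarTower A (C ⊗[A] B) D]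
    [IsAdicComplete (I.map (algebraMap A D)) D]
    (hD : ∀ y : D, ∃ r : C ⊗[A] B, y - algebraMap (C ⊗[A] B) D r ∈ I.map (algebraMap A D)) :
    IsNoetherianRing D ∧ Algebra.FiniteType A (D ⧸ I.map (algebraMap A D)) := by
  let K := I.map (algebraMap A D)
  let R := C ⊗[A] B
  let π : R →ₐ[A] D ⧸ K := (Ideal.Quotient.mkₐ A K).comp (IsScalarTower.toAlgHom A R D)
  let πC : C →ₐ[A] D ⧸ K := π.comp Algebra.TensorProduct.includeLeft
  let πB : B →ₐ[A] D ⧸ K := π.comp Algebra.TensorProduct.includeRight
  have hker : ∀ {Y : Type u} [CommRing Y] [Algebra A Y] (θ : Y →ₐ[A] D ⧸ K) (y : Y),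
      y ∈ I.map (algebraMap A Y) → θ y = 0 := fun {Y} _ _ θ y hy => by
    have := Ideal.mem_map_of_mem θ.toRingHom hy
    rw [Ideal.map_map, RingHom.ext θ.commutes (f := θ.toRingHom.comp (algebraMap A Y))] at this
    have h0 : I.map (algebraMap A (D ⧸ K)) = ⊥ := by
      rw [IsScalarTower.algebraMap_eq A D (D ⧸ K), ← Ideal.map_map, Ideal.Quotient.algebraMap_eq, Ideal.map_quotient_self]
    rw [h0] at this
    exact this
  let σ : (C ⧸ I.map (algebraMap A C)) ⊗[A] (B ⧸ I.map (algebraMap A B)) →ₐ[A] D ⧸ K :=
    Algebra.TensorProduct.lift (Ideal.Quotient.liftₐ _ πC (hker πC)) (Ideal.Quotient.liftₐ _ πB (hker πB))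
      fun _ _ => Commute.all _ _
  haveI := hftB
  haveI := hftC
  haveI hfin : Algebra.FiniteType A (D ⧸ K) := by
    haveI : Algebra.FiniteType A ((C ⧸ I.map (algebraMap A C)) ⊗[A] (B ⧸ I.map (algebraMap A B))) :=
      Algebra.FiniteType.trans (S := C ⧸ I.map (algebraMap A C)) hftC inferInstance
    refine (inferInstance : Algebra.FiniteType A ((C ⧸ I.map (algebraMap A C)) ⊗[A] (B ⧸ I.map (algebraMap A B)))).of_surjective σ fun y => ?_
    obtain ⟨y, rfl⟩ := Ideal.Quotient.mk_surjective y
    obtain ⟨r, hr⟩ := hD y
    refine ⟨Algebra.TensorProduct.map (Ideal.Quotient.mkₐ A _) (Ideal.Quotient.mkₐ A _) r, ?_⟩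
    rw [(Ideal.Quotient.eq.2 hr : Ideal.Quotient.mk K y = _)]
    change _ = π r
    rw [← AlgHom.comp_apply]
    refine AlgHom.congr_fun (Algebra.TensorProduct.ext' fun c b => ?_) r
    rw [AlgHom.comp_apply, Algebra.TensorProduct.map_tmul]
    refine (Algebra.TensorProduct.lift_tmul _ _ _ _ _).trans ?_
    change π (c ⊗ₜ 1) * π (1 ⊗ₜ b) = _
    rw [← map_mul, Algebra.TensorProduct.tmul_mul_tmul, mul_one, one_mul]
  exact ⟨Lib.Adic.Complete.isNoetherianRing_of_finiteType I hfin, hfin⟩

set_option maxHeartbeats 2000000 in
/-- Let A be a Noetherian ring complete for the adic topology of an ideal I, and B a Noetherian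
A-algebra complete for the IB-adic topology with B/IB of finite type over A (an adic morphism,
topologically of finite type, of adic Noetherian topological rings), and assume A → B is rig-flat in
the following form: for every f ∈ A, every ring map ψ : A_{f} → B_{f} of completed principal
localizations compatible with A_f → B_f (there is exactly one), and every rig-closed prime q of
B_{f} (I B_{f} ⊄ q and q maximal among the primes not containing I B_{f}), the local ring (B_{f})_q
is flat over A_{f} via ψ. Let C be a Noetherian A-algebra complete for the IC-adic topology with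
C/IC of finite type over A (A → C adic and topologically of finite type), and let D be the completed
tensor product B ⊗̂_A C, i.e. the I-adic completion of C ⊗_A B, viewed as a C-algebra. Then C → D is
rig-flat in the same form: for every h ∈ C, every ring map C_{h} → D_{h} compatible with C_h → D_h,
and every rig-closed prime q of D_{h}, the local ring (D_{h})_q is flat over C_{h}. (That D is
Noetherian and C → D adic and topologically of finite type is not restated.) -/
theorem result (A : Type u) [CommRing A] [IsNoetherianRing A] (I : Ideal A) [IsAdicComplete I A] (B : Type u) [CommRing B] [Algebra A B] [IsNoetherianRing B] [IsAdicComplete (I.map (algebraMap A B)) B] (hft : Algebra.FiniteType A (B ⧸ (I.map (algebraMap A B)))) (hAB : (∀ f : A, ∀ ψf : (AdicCompletion (I.map (algebraMap A (Localization.Away f))) (Localization.Away f)) →+* (AdicCompletion ((I.map (algebraMap A B)).map (algebraMap B (Localization.Away (algebraMap A B f)))) (Localization.Away (algebraMap A B f))), ψf.comp (algebraMap (Localization.Away f) (AdicCompletion (I.map (algebraMap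 A (Localization.Away f))) (Localization.Away f))) = (algebraMap (Localization.Away (algebraMap A B f)) (AdicCompletion ((I.map (algebraMap A B)).map (algebraMap B (Localization.Away (algebraMap A B f)))) (Localization.Away (algebraMap A B f)))).comp (Localization.awayMap (algebraMap A B) f) → ∀ qf : PrimeSpectrum (AdicCompletion ((I.map (algebraMap A B)).map (algebraMap B (Localization.Away (algebraMap A B f)))) (Localization.Away (algebraMap A B f))), (¬ (((I.map (algebraMap A B)).map (algebraMap B (Localization.Away (algebraMap A B f)))).map (algebraMap (Localization.Away (algebraMap A B f)) (AdicCompletion ((I.map (algebraMap A B)).map (algebraMap B (Localization.Away (algebraMap A B f)))) (Localization.Away (algebraMap A B f))))) ≤ qf.asIdeal ∧ ∀ y : PrimeSpectrum (AdicCompletion ((I.map (algebraMap A B)).map (algebraMap B (Localization.Away (algebraMap A B f)))) (Localization.Away (algebraMap A B f))), qf ≤ y → ¬ (((I.map (algebraMap A B)).map (algebraMap B (Localization.Away (algebraMap A B f)))).map (algebraMap (Localization.Away (algebraMap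 A B f)) (AdicCompletion ((I.map (algebraMap A B)).map (algebraMap B (Localization.Away (algebraMap A B f)))) (Localization.Away (algebraMap A B f))))) ≤ y.asIdeal → y = qf) → ((algebraMap (AdicCompletion ((I.map (algebraMap A B)).map (algebraMap B (Localization.Away (algebraMap A B f)))) (Localization.Away (algebraMap A B f))) (Localization.AtPrime qf.asIdeal)).comp ψf).Flat)) (C : Type u) [CommRing C] [Algebra A C] [IsNoetherianRing C] [IsAdicComplete (I.map (algebraMap A C)) C] (hftC : Algebra.FiniteType A (C ⧸ (I.map (algebraMap A C)))) : (∀ h : C, ∀ ψh : (AdicCompletion ((I.map (algebraMap A C)).map (algebraMap C (Localization.Away h))) (Localization.Away h)) →+* (AdicCompletion (((I.map (algebraMap A C)).map (algebraMap C (AdicCompletion ((I.map (algebraMap A C)).map (algebraMap C (TensorProduct A C B))) (TensorProduct A C B)))).map (algebraMap (AdicCompletion ((I.map (algebraMap A C)).map (algebraMap C (TensorProduct A C B))) (TensorProduct A C B)) (Localization.Away (algebraMap C (AdicCompletion ((I.map (algebraMap A C)).map (algebraMap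 C (TensorProduct A C B))) (TensorProduct A C B)) h)))) (Localization.Away (algebraMap C (AdicCompletion ((I.map (algebraMap A C)).map (algebraMap C (TensorProduct A C B))) (TensorProduct A C B)) h))), ψh.comp (algebraMap (Localization.Away h) (AdicCompletion ((I.map (algebraMap A C)).map (algebraMap C (Localization.Away h))) (Localization.Away h))) = (algebraMap (Localization.Away (algebraMap C (AdicCompletion ((I.map (algebraMap A C)).map (algebraMap C (TensorProduct A C B))) (TensorProduct A C B)) h)) (AdicCompletion (((I.map (algebraMap A C)).map (algebraMap C (AdicCompletion ((I.map (algebraMap A C)).map (algebraMap C (TensorProduct A C B))) (TensorProduct A C B)))).map (algebraMap (AdicCompletion ((I.map (algebraMap A C)).map (algebraMap C (TensorProduct A C B))) (TensorProduct A C B)) (Localization.Away (algebraMap C (AdicCompletion ((I.map (algebraMap A C)).map (algebraMap C (TensorProduct A C B))) (TensorProduct A C B)) h)))) (Localization.Away (algebraMap C (AdicCompletion ((I.map (algebraMap A C)).map (algebraMap C (TensorProduct A C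 B))) (TensorProduct A C B)) h)))).comp (Localization.awayMap (algebraMap C (AdicCompletion ((I.map (algebraMap A C)).map (algebraMap C (TensorProduct A C B))) (TensorProduct A C B))) h) → ∀ qh : PrimeSpectrum (AdicCompletion (((I.map (algebraMap A C)).map (algebraMap C (AdicCompletion ((I.map (algebraMap A C)).map (algebraMap C (TensorProduct A C B))) (TensorProduct A C B)))).map (algebraMap (AdicCompletion ((I.map (algebraMap A C)).map (algebraMap C (TensorProduct A C B))) (TensorProduct A C B)) (Localization.Away (algebraMap C (AdicCompletion ((I.map (algebraMap A C)).map (algebraMap C (TensorProduct A C B))) (TensorProduct A C B)) h)))) (Localization.Away (algebraMap C (AdicCompletion ((I.map (algebraMap A C)).map (algebraMap C (TensorProduct A C B))) (TensorProduct A C B)) h))), (¬ ((((I.map (algebraMap A C)).map (algebraMap C (AdicCompletion ((I.map (algebraMap A C)).map (algebraMap C (TensorProduct A C B))) (TensorProduct A C B)))).map (algebraMap (AdicCompletion ((I.map (algebraMap A C)).map (algebraMap C (TensorProduct A C B))) (TensorProduct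 A C B)) (Localization.Away (algebraMap C (AdicCompletion ((I.map (algebraMap A C)).map (algebraMap C (TensorProduct A C B))) (TensorProduct A C B)) h)))).map (algebraMap (Localization.Away (algebraMap C (AdicCompletion ((I.map (algebraMap A C)).map (algebraMap C (TensorProduct A C B))) (TensorProduct A C B)) h)) (AdicCompletion (((I.map (algebraMap A C)).map (algebraMap C (AdicCompletion ((I.map (algebraMap A C)).map (algebraMap C (TensorProduct A C B))) (TensorProduct A C B)))).map (algebraMap (AdicCompletion ((I.map (algebraMap A C)).map (algebraMap C (TensorProduct A C B))) (TensorProduct A C B)) (Localization.Away (algebraMap C (AdicCompletion ((I.map (algebraMap A C)).map (algebraMap C (TensorProduct A C B))) (TensorProduct A C B)) h)))) (Localization.Away (algebraMap C (AdicCompletion ((I.map (algebraMap A C)).map (algebraMap C (TensorProduct A C B))) (TensorProduct A C B)) h))))) ≤ qh.asIdeal ∧ ∀ y : PrimeSpectrum (AdicCompletion (((I.map (algebraMap A C)).map (algebraMap C (AdicCompletion ((I.map (algebraMap A C)).map (algebraMap C (TensorProduct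 A C B))) (TensorProduct A C B)))).map (algebraMap (AdicCompletion ((I.map (algebraMap A C)).map (algebraMap C (TensorProduct A C B))) (TensorProduct A C B)) (Localization.Away (algebraMap C (AdicCompletion ((I.map (algebraMap A C)).map (algebraMap C (TensorProduct A C B))) (TensorProduct A C B)) h)))) (Localization.Away (algebraMap C (AdicCompletion ((I.map (algebraMap A C)).map (algebraMap C (TensorProduct A C B))) (TensorProduct A C B)) h))), qh ≤ y → ¬ ((((I.map (algebraMap A C)).map (algebraMap C (AdicCompletion ((I.map (algebraMap A C)).map (algebraMap C (TensorProduct A C B))) (TensorProduct A C B)))).map (algebraMap (AdicCompletion ((I.map (algebraMap A C)).map (algebraMap C (TensorProduct A C B))) (TensorProduct A C B)) (Localization.Away (algebraMap C (AdicCompletion ((I.map (algebraMap A C)).map (algebraMap C (TensorProduct A C B))) (TensorProduct A C B)) h)))).map (algebraMap (Localization.Away (algebraMap C (AdicCompletion ((I.map (algebraMap A C)).map (algebraMap C (TensorProduct A C B))) (TensorProduct A C B)) h)) (AdicCompletion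 (((I.map (algebraMap A C)).map (algebraMap C (AdicCompletion ((I.map (algebraMap A C)).map (algebraMap C (TensorProduct A C B))) (TensorProduct A C B)))).map (algebraMap (AdicCompletion ((I.map (algebraMap A C)).map (algebraMap C (TensorProduct A C B))) (TensorProduct A C B)) (Localization.Away (algebraMap C (AdicCompletion ((I.map (algebraMap A C)).map (algebraMap C (TensorProduct A C B))) (TensorProduct A C B)) h)))) (Localization.Away (algebraMap C (AdicCompletion ((I.map (algebraMap A C)).map (algebraMap C (TensorProduct A C B))) (TensorProduct A C B)) h))))) ≤ y.asIdeal → y = qh) → ((algebraMap (AdicCompletion (((I.map (algebraMap A C)).map (algebraMap C (AdicCompletion ((I.map (algebraMap A C)).map (algebraMap C (TensorProduct A C B))) (TensorProduct A C B)))).map (algebraMap (AdicCompletion ((I.map (algebraMap A C)).map (algebraMap C (TensorProduct A C B))) (TensorProduct A C B)) (Localization.Away (algebraMap C (AdicCompletion ((I.map (algebraMap A C)).map (algebraMap C (TensorProduct A C B))) (TensorProduct A C B)) h)))) (Localization.Away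 (algebraMap C (AdicCompletion ((I.map (algebraMap A C)).map (algebraMap C (TensorProduct A C B))) (TensorProduct A C B)) h))) (Localization.AtPrime qh.asIdeal)).comp ψh).Flat) := by
  have hI : I.FG := IsNoetherian.noetherian _
  have eR : (I.map (algebraMap A C)).map (algebraMap C (TensorProduct A C B)) = I.map (algebraMap A (TensorProduct A C B)) :=
    (Ideal.map_map _ _).trans (congrArg (fun θ => I.map θ) (IsScalarTower.algebraMap_eq A C (TensorProduct A C B)).symm)
  have eD : (I.map (algebraMap A C)).map (algebraMap C (AdicCompletion ((I.map (algebraMap A C)).map (algebraMap C (TensorProduct A C B))) (TensorProduct A C B))) = I.map (algebraMap A (AdicCompletion ((I.map (algebraMap A C)).map (algebraMap C (TensorProduct A C B))) (TensorProduct A C B))) :=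
    (Ideal.map_map _ _).trans (congrArg (fun θ => I.map θ) (IsScalarTower.algebraMap_eq A C _).symm)
  have eDR : ((I.map (algebraMap A C)).map (algebraMap C (TensorProduct A C B))).map (algebraMap (TensorProduct A C B) (AdicCompletion ((I.map (algebraMap A C)).map (algebraMap C (TensorProduct A C B))) (TensorProduct A C B))) = I.map (algebraMap A (AdicCompletion ((I.map (algebraMap A C)).map (algebraMap C (TensorProduct A C B))) (TensorProduct A C B))) := by
    refine Eq.trans ?_ eD
    refine (Ideal.map_map _ _).trans ?_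
    exact congrArg (fun θ => (I.map (algebraMap A C)).map θ) (IsScalarTower.algebraMap_eq C (TensorProduct A C B) _).symm
  haveI : IsAdicComplete (I.map (algebraMap A (AdicCompletion ((I.map (algebraMap A C)).map (algebraMap C (TensorProduct A C B))) (TensorProduct A C B)))) (AdicCompletion ((I.map (algebraMap A C)).map (algebraMap C (TensorProduct A C B))) (TensorProduct A C B)) := by
    rw [← eDR, IsAdicComplete.map_algebraMap_iff]
    exact AdicCompletion.isAdicComplete ((hI.map _).map _)
  obtain ⟨hN, hftD⟩ := completion_facts (B := B) (C := C) I hft hftC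
    (AdicCompletion ((I.map (algebraMap A C)).map (algebraMap C (TensorProduct A C B))) (TensorProduct A C B)) (fun y => by
      obtain ⟨r, hr⟩ := Lib.Adic.RigFunct.exists_sub_mem_pow _ ((hI.map _).map _) 1 y
      rw [pow_one, eDR] at hr
      exact ⟨r, hr⟩)
  haveI := hN
  intro h ψh hψh qh hqh
  refine main I (fun f ψ hψ q hq => ?_) _ (isPush_completion (B := B) (C := C) I hI) hftD _ eD h ψh
    ((Lib.Adic.RigFunct.compat_iff _ _ _ h ψh).1 hψh) qh ?_
  · refine hAB f ψ ((Lib.Adic.RigFunct.compat_iff _ _ _ f ψ).2 hψ) q ?_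
    rw [Lib.Adic.RigFunct.map_CL]
    exact hq
  · rw [Lib.Adic.RigFunct.map_ι]
    exact hqh

end Groth.Agent.S8846
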