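import Groth.Statements.S8848
import Groth.Agent.Lib.CartierFibre.Basic

set_option autoImplicit false
universe u
open CategoryTheory CategoryTheory.Limits AlgebraicGeometry TopologicalSpace
open SDiv

namespace Groth.Agent.S8848

/-- Let φ : X ⟶ S be flat and locally of finite presentation and let 𝓘 be a quasi-coherent ideal sheaf
on X which is locally principal (generated by one section on some affine open neighbourhood of each
point of its support). If for every point s of S the inverse image ideal of 𝓘 on the
scheme-theoretic fibre X_s is the ideal sheaf of an effective Cartier divisor of X_s, then 𝓘 is the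
ideal sheaf of an effective Cartier divisor of X and its closed subscheme is flat over S (a relative
effective Cartier divisor). -/
theorem result {X S : Scheme.{u}} (φ : X ⟶ S) [Flat φ] [LocallyOfFinitePresentation φ]
    (𝓘 : X.IdealSheafData) (hZ : Curv2.IsLocPrincipal 𝓘)
    (hfib : ∀ s : ↥S, BlowUp.IsEffCartierIdeal (𝓘.comap (φ.fiberι s))) :
    BlowUp.IsEffCartierIdeal 𝓘 ∧ Flat (𝓘.subschemeι ≫ φ) := by
  refine Groth.Agent.Lib.CartierFibre.main φ 𝓘 (fun x => ?_) hfib
  by_cases hx : x ∈ 𝓘.support
  · exact hZ x hx
  · obtain ⟨U, hU, hxU, hle⟩ := exists_isAffineOpen_mem_and_subset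
      (show x ∈ 𝓘.support.compl from hx)
    refine ⟨⟨U, hU⟩, hxU, 1, ?_⟩
    rw [Ideal.span_singleton_one, ← PrimeSpectrum.zeroLocus_empty_iff_eq_top]
    refine Set.eq_empty_of_forall_notMem fun p hp => ?_
    have hp' : hU.fromSpec p ∈ U := hU.range_fromSpec.le (Set.mem_range_self p)
    refine hle hp' ?_
    refine Scheme.IdealSheafData.mem_support_iff_of_mem (U := ⟨U, hU⟩) hp' |>.2 ?_
    exact (hU.fromSpec_preimage_zeroLocus _).ge hp

end Groth.Agent.S8848
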