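import Groth.Statements.S8849
import Mathlib.RingTheory.Flat.Equalizer
import Mathlib.RingTheory.Flat.Tensor
import Mathlib.RingTheory.Localization.Away.Basic
import Mathlib.RingTheory.Localization.BaseChange
import Mathlib.AlgebraicGeometry.Morphisms.Flat
import Mathlib.AlgebraicGeometry.IdealSheaf.Subscheme

set_option autoImplicit false
open CategoryTheory AlgebraicGeometry TensorProduct
universe u

namespace Groth.Agent.S8849

/-- A ring is flat if it is so after inverting a regular element and modulo that element. -/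
theorem flat_of_regular_element {R S : Type u} [CommRing R] [CommRing S] [Algebra R S] (g : S)
    (hg : g ∈ nonZeroDivisors S) [Module.Flat R (S ⧸ Ideal.span {g})]
    (L : Type u) [CommRing L] [Algebra S L] [IsLocalization.Away g L] [Algebra R L] [IsScalarTower R S L]
    [Module.Flat R L] : Module.Flat R S := by
  rw [Module.Flat.iff_lTensor_injective']
  intro I
  let m : S →ₗ[R] S := LinearMap.mulLeft R g
  let q : S →ₗ[R] S ⧸ Ideal.span {g} := (Ideal.Quotient.mkₐ R (Ideal.span {g})).toLinearMap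
  have hex : Function.Exact m q := fun y => by
    refine (Ideal.Quotient.eq_zero_iff_mem (I := Ideal.span {g})).trans ?_
    rw [Ideal.mem_span_singleton', Set.mem_range]
    exact exists_congr fun c => by rw [mul_comm]; rfl
  have hm : Function.Injective m := fun a b h => sub_eq_zero.mp <|
    (mul_left_mem_nonZeroDivisors_eq_zero_iff hg).mp (by rw [mul_sub, sub_eq_zero]; exact h)
  have hmI : Function.Injective (m.lTensor I) :=
    LinearMap.lTensor_injective_of_exact_of_flat q Ideal.Quotient.mk_surjective m hm hex I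
  have hsm : ∀ x : S ⊗[R] I, g • x = TensorProduct.comm R _ _ (m.lTensor I (TensorProduct.comm R _ _ x)) := by
    intro x
    induction x using TensorProduct.induction_on with
    | zero => simp
    | add a b ha hb => simp only [smul_add, map_add, ha, hb]
    | tmul a b => simp [m, TensorProduct.smul_tmul']
  have hpow : ∀ (n : ℕ) (x : S ⊗[R] I), g ^ n • x = 0 → x = 0 := by
    intro n
    induction n with
    | zero => intro x h; simpa using h
    | succ n ih =>
      intro x h
      rw [pow_succ, mul_smul] at h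
      have h1 := ih _ h
      rw [hsm, LinearEquiv.map_eq_zero_iff] at h1
      exact (LinearEquiv.map_eq_zero_iff _).mp (hmI (h1.trans (map_zero _).symm))
  let ι : S →ₗ[S] L := Algebra.linearMap S L
  have hloc : IsLocalizedModule (Submonoid.powers g)
      (TensorProduct.AlgebraTensorModule.rTensor R I ι) := inferInstance
  rw [injective_iff_map_eq_zero]
  intro x hx
  have h2 : ((ι.restrictScalars R).rTensor I x) = 0 :=
    Module.Flat.lTensor_preserves_injective_linearMap (M := L) (Submodule.subtype I)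
      Subtype.val_injective (by
        rw [map_zero, ← LinearMap.comp_apply, LinearMap.lTensor_comp_rTensor,
          ← LinearMap.rTensor_comp_lTensor, LinearMap.comp_apply, hx, map_zero])
  obtain ⟨⟨_, n, rfl⟩, hn⟩ := (IsLocalizedModule.eq_zero_iff (Submonoid.powers g)
    (TensorProduct.AlgebraTensorModule.rTensor R I ι)).mp h2
  exact hpow n x hn

open BlowUp in
/-- Let f : X ⟶ S be a morphism of schemes and 𝓘 the ideal sheaf of an effective Cartier divisor D ⊆ X
with D flat over S (a relative effective Cartier divisor). If f is flat at every point of X not in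
D, then f is flat. -/
theorem result {X S : Scheme.{u}} (f : X ⟶ S) (𝓘 : X.IdealSheafData)
    (hD : BlowUp.IsEffCartierIdeal 𝓘 ∧ Flat (𝓘.subschemeι ≫ f))
    (hflat : ∀ x : ↥X, x ∉ 𝓘.support → (f.stalkMap x).hom.Flat) : Flat f := by
  rw [HasRingHomProperty.iff_exists_appLE (P := @Flat)
    (RingHom.Flat.stableUnderComposition.stableUnderCompositionWithLocalizationAway
      RingHom.Flat.holdsForLocalizationAway).left]
  intro x
  obtain ⟨V, hV, hxV, -⟩ := exists_isAffineOpen_mem_and_subset (x := f x) (U := ⊤) trivial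
  obtain ⟨U, hxU, g, hg, hgI⟩ := hD.1 x
  obtain ⟨h, hle, hxh⟩ := U.2.exists_basicOpen_le (V := f ⁻¹ᵁ V) ⟨x, hxV⟩ hxU
  let U' : X.affineOpens := X.affineBasicOpen h
  refine ⟨⟨V, hV⟩, U', hxh, hle, ?_⟩
  let e : (U'.1 : X.Opens) ≤ f ⁻¹ᵁ V := hle
  let ρ := (X.presheaf.map (homOfLE (X.basicOpen_le h)).op).hom
  let g' : Γ(X, U'.1) := ρ g
  have hg' : g' ∈ nonZeroDivisors Γ(X, U'.1) := by
    let _ : Algebra Γ(X, U.1) Γ(X, U'.1) := ρ.toAlgebra
    have : IsLocalization.Away h Γ(X, U'.1) := U.2.isLocalization_basicOpen h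
    exact IsLocalization.nonZeroDivisors_le_comap (Submonoid.powers h) Γ(X, U'.1) hg
  have hI' : 𝓘.ideal U' = Ideal.span {g'} := by
    have := 𝓘.map_ideal_basicOpen U h
    rw [hgI, Ideal.map_span, Set.image_singleton] at this
    exact this.symm
  let _ : Algebra Γ(S, V) Γ(X, U'.1) := (f.appLE V U'.1 e).hom.toAlgebra
  -- modulo the equation
  have : Flat (𝓘.subschemeι ≫ f) := hD.2
  have e' : 𝓘.subschemeι ⁻¹ᵁ U'.1 ≤ (𝓘.subschemeι ≫ f) ⁻¹ᵁ V := fun z hz => e hz
  have hq := (𝓘.subschemeι ≫ f).flat_appLE hV (U'.2.preimage 𝓘.subschemeι) e'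
  have heq : ((𝓘.subschemeι ≫ f).appLE V (𝓘.subschemeι ⁻¹ᵁ U'.1) e') ≫ (𝓘.subschemeObjIso U').hom =
      f.appLE V U'.1 e ≫ CommRingCat.ofHom (Ideal.Quotient.mk (𝓘.ideal U')) := by
    rw [← Scheme.Hom.appLE_comp_appLE 𝓘.subschemeι f V U'.1 (𝓘.subschemeι ⁻¹ᵁ U'.1) e le_rfl,
      ← Scheme.Hom.app_eq_appLE, Scheme.IdealSheafData.subschemeι_app, Category.assoc, Category.assoc,
      Iso.inv_hom_id, Category.comp_id]
  have hflatq : RingHom.Flat ((Ideal.Quotient.mk (𝓘.ideal U')).comp (f.appLE V U'.1 e).hom) := by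
    have := RingHom.Flat.respectsIso.left _ (𝓘.subschemeObjIso U').commRingCatIsoToRingEquiv hq
    exact (congrArg (fun m => RingHom.Flat m.hom) heq).mp this
  have : Module.Flat Γ(S, V) (Γ(X, U'.1) ⧸ Ideal.span {g'}) := by
    rw [← hI']
    exact hflatq
  -- away from the divisor
  let W := X.basicOpen g'
  have hWsupp : ∀ y ∈ W, y ∉ 𝓘.support := fun y hy hys => by
    have hmem : y ∈ (𝓘.support : Set X) ∩ U'.1 := ⟨hys, X.basicOpen_le g' hy⟩
    rw [𝓘.coe_support_inter, hI', Scheme.zeroLocus_span] at hmem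
    have := hmem.1
    rw [Scheme.mem_zeroLocus_iff] at this
    exact this g' rfl hy
  have hfW : Flat (W.ι ≫ f) := (Flat.iff_flat_stalkMap _).mpr fun y => by
    rw [Scheme.Hom.stalkMap_comp]
    exact (hflat _ (hWsupp _ y.2)).comp
      (RingHom.Flat.of_bijective (ConcreteCategory.bijective_of_isIso (W.ι.stalkMap y)))
  have eW : W ≤ f ⁻¹ᵁ V := (X.basicOpen_le g').trans e
  have hW : IsAffineOpen W := U'.2.basicOpen g'
  let _ : Algebra Γ(S, V) Γ(X, W) := (f.appLE V W eW).hom.toAlgebra
  have : IsScalarTower Γ(S, V) Γ(X, U'.1) Γ(X, W) := .of_algebraMap_eq fun r => by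
    show _ = X.presheaf.map _ (f.appLE V U'.1 e r)
    rw [← CommRingCat.comp_apply, Scheme.Hom.appLE_map]
    rfl
  have := U'.2.isLocalization_basicOpen g'
  have : Module.Flat Γ(S, V) Γ(X, W) := by
    have hW' : IsAffineOpen (⊤ : (W : Scheme.{u}).Opens) := by
      have : IsAffine (W : Scheme.{u}) := hW
      exact isAffineOpen_top _
    have h2 := (W.ι ≫ f).flat_appLE hV hW' (fun y _ => eW y.2)
    rw [← Scheme.Hom.appLE_comp_appLE W.ι f V W ⊤ eW (fun y _ => y.2), CommRingCat.hom_comp] at h2
    have hiso : Function.Bijective (W.ι.appLE W ⊤ (fun y _ => y.2)).hom := by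
      have : IsIso (W.ι.appLE W ⊤ (fun y _ => y.2)) := by
        refine (congrArg IsIso (Scheme.Opens.ι_appLE W W ⊤ _)).mpr ?_
        have hle' : W.ι ''ᵁ ⊤ = W := W.ι.image_top_eq_opensRange.trans W.opensRange_ι
        have : IsIso (homOfLE (X := X.Opens) hle'.le) := ⟨homOfLE hle'.ge, Subsingleton.elim _ _, Subsingleton.elim _ _⟩
        have : IsIso (homOfLE (X := X.Opens) hle'.le).op := inferInstance
        exact Functor.map_isIso X.presheaf (homOfLE (X := X.Opens) hle'.le).op
      exact ConcreteCategory.bijective_of_isIso _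
    have h6 := RingHom.Flat.respectsIso.left _ (RingEquiv.ofBijective _ hiso).symm h2
    exact (congrArg RingHom.Flat (RingHom.ext fun r => (RingEquiv.ofBijective _ hiso).symm_apply_apply _)).mp h6
  show RingHom.Flat (algebraMap Γ(S, V) Γ(X, U'.1))
  rw [RingHom.flat_algebraMap_iff]
  exact flat_of_regular_element g' hg' Γ(X, W)

end Groth.Agent.S8849
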