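import Groth.Statements.S8850
-- import your own Groth.Agent.* helpers here

set_option autoImplicit false
universe u
open CategoryTheory CategoryTheory.Limits AlgebraicGeometry TopologicalSpace
open SDiv

namespace Groth.Agent.S8850

/-- Let S be a scheme, X a Noetherian S-scheme, Y a proper S-scheme, U ⊆ X an open subscheme and f : U ⟶
Y a morphism compatible with the structure morphisms to S. Then there are a proper morphism p : X' ⟶
X restricting to an isomorphism over U and an S-morphism f' : X' ⟶ Y whose restriction to p⁻¹(U) is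
f composed with p. The published statement takes U dense, so that f is an S-rational map; this row
allows any open U, which its proof does not need. -/
theorem result {X Y S : Scheme.{u}} [IsNoetherian X] (a : X ⟶ S) (b : Y ⟶ S)
    [IsProper b] (U : X.Opens) (f : (U : Scheme.{u}) ⟶ Y) (hf : f ≫ b = U.ι ≫ a) :
    ∃ (X' : Scheme.{u}) (p : X' ⟶ X) (f' : X' ⟶ Y), IsProper p ∧ IsIso (p ∣_ U) ∧ f' ≫ b = p ≫ a ∧
      (p ⁻¹ᵁ U).ι ≫ f' = (p ∣_ U) ≫ f := by
  let j : (U : Scheme.{u}) ⟶ pullback a b := pullback.lift U.ι f hf.symm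
  have hj : j ≫ pullback.fst a b = U.ι := pullback.lift_fst _ _ _
  haveI : IsImmersion j := by
    haveI : IsImmersion (j ≫ pullback.fst a b) := hj ▸ inferInstance
    exact IsImmersion.of_comp j (pullback.fst a b)
  haveI : TopologicalSpace.NoetherianSpace (U : Scheme.{u}) :=
    U.ι.isOpenEmbedding.isInducing.noetherianSpace
  haveI : QuasiCompact j := ⟨fun _ _ _ => TopologicalSpace.NoetherianSpace.isCompact _⟩
  let p : j.image ⟶ X := j.imageι ≫ pullback.fst a b
  haveI : IsProper (pullback.fst a b) := inferInstance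
  have hp : IsProper p := inferInstanceAs (IsProper (j.imageι ≫ pullback.fst a b))
  have hs0 : j.toImage ≫ p = U.ι := by simp [p, hj]
  let W : (pullback a b).Opens := pullback.fst a b ⁻¹ᵁ U
  have hjW : Set.range j ⊆ Set.range W.ι := by
    rw [Scheme.Opens.range_ι]
    rintro _ ⟨x, rfl⟩
    show (j ≫ pullback.fst a b) x ∈ U
    rw [hj]; exact x.2
  haveI : IsClosedImmersion (IsOpenImmersion.lift W.ι j hjW) := by
    haveI : IsSeparated (pullback.fst a b ∣_ U) := inferInstance
    haveI : IsClosedImmersion (IsOpenImmersion.lift W.ι j hjW ≫ (pullback.fst a b ∣_ U)) := by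
      have e : IsOpenImmersion.lift W.ι j hjW ≫ (pullback.fst a b ∣_ U) = 𝟙 _ := by
        rw [← cancel_mono U.ι, Category.assoc, morphismRestrict_ι, IsOpenImmersion.lift_fac_assoc,
          hj, Category.id_comp]
      rw [e]; infer_instance
    exact IsClosedImmersion.of_comp _ (pullback.fst a b ∣_ U)
  have hrange : Set.range j.toImage = ((p ⁻¹ᵁ U : j.image.Opens) : Set j.image) := by
    apply Set.Subset.antisymm
    · rintro _ ⟨x, rfl⟩
      show (j.toImage ≫ p) x ∈ U
      rw [hs0]; exact x.2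
    · intro z hz
      have hh : W.ι ∘ (IsOpenImmersion.lift W.ι j hjW) = j := funext fun x =>
        congrArg (fun g : (U : Scheme.{u}) ⟶ pullback a b => g x) (IsOpenImmersion.lift_fac W.ι j hjW)
      let w : (W : Scheme.{u}) := ⟨j.imageι z, hz⟩
      have hw : w ∈ Set.range (IsOpenImmersion.lift W.ι j hjW) := by
        rw [← (IsOpenImmersion.lift W.ι j hjW).isClosedEmbedding.isClosed_range.closure_eq,
          W.ι.isOpenEmbedding.isInducing.closure_eq_preimage_closure_image, ← Set.range_comp, hh]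
        show j.imageι z ∈ closure (Set.range j)
        rw [← Scheme.Hom.support_ker]
        exact (Scheme.IdealSheafData.range_subschemeι _).le ⟨z, rfl⟩
      obtain ⟨x, hx⟩ := hw
      refine ⟨x, j.imageι.isEmbedding.injective ?_⟩
      have h2 := congrArg (fun g : (U : Scheme.{u}) ⟶ pullback a b => g x)
          (IsOpenImmersion.lift_fac W.ι j hjW)
      show (j.toImage ≫ j.imageι) x = _
      rw [j.toImage_imageι, ← h2]
      exact congrArg Subtype.val hx
  let s : (U : Scheme.{u}) ⟶ ↑(p ⁻¹ᵁ U) :=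
    IsOpenImmersion.lift (p ⁻¹ᵁ U).ι j.toImage (by rw [Scheme.Opens.range_ι, hrange])
  have hsι : s ≫ (p ⁻¹ᵁ U).ι = j.toImage := IsOpenImmersion.lift_fac _ _ _
  haveI : IsOpenImmersion (s ≫ (p ⁻¹ᵁ U).ι) := hsι ▸ inferInstance
  haveI : IsOpenImmersion s := IsOpenImmersion.of_comp s (p ⁻¹ᵁ U).ι
  haveI : Surjective s := ⟨fun z => by
    have hz : (p ⁻¹ᵁ U).ι z ∈ Set.range j.toImage := by rw [hrange]; exact z.2
    obtain ⟨x, hx⟩ := hz
    refine ⟨x, (p ⁻¹ᵁ U).ι.isOpenEmbedding.injective ?_⟩
    show (s ≫ (p ⁻¹ᵁ U).ι) x = _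
    rw [hsι, hx]⟩
  haveI : IsIso s := (isIso_iff_isOpenImmersion_and_epi_base s).2
    ⟨inferInstance, (TopCat.epi_iff_surjective _).2 s.surjective⟩
  have hsp : s ≫ (p ∣_ U) = 𝟙 _ := by
    rw [← cancel_mono U.ι, Category.assoc, morphismRestrict_ι, ← Category.assoc, hsι, hs0,
      Category.id_comp]
  have hiso : IsIso (p ∣_ U) := by
    haveI : IsIso (s ≫ (p ∣_ U)) := hsp ▸ inferInstance
    exact IsIso.of_isIso_comp_left s (p ∣_ U)
  refine ⟨j.image, p, j.imageι ≫ pullback.snd a b, hp, hiso, ?_, ?_⟩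
  · simp [p, pullback.condition]
  · rw [← cancel_epi s, ← Category.assoc, hsι, Scheme.Hom.toImage_imageι_assoc,
      pullback.lift_snd, ← Category.assoc, hsp, Category.id_comp]

end Groth.Agent.S8850
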