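import Groth.Statements.S8854
import Mathlib.RingTheory.UniqueFactorizationDomain.Ideal
import Mathlib.RingTheory.Ideal.Height
import Mathlib.RingTheory.Ideal.MinimalPrime.Noetherian
import Mathlib.RingTheory.Ideal.KrullsHeightTheorem

set_option autoImplicit false
universe u
open SDiv

namespace Groth.Agent.S8854

/-- Let R be a Noetherian unique factorisation domain and I ⊆ R an ideal such that every associated
prime of R/I is minimal over I (R/I has no embedded primes) and every prime minimal over I has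
height 1. Then I is principal: it is generated by one element. -/
theorem result (R : Type u) [CommRing R] [IsDomain R] [IsNoetherianRing R]
    [UniqueFactorizationMonoid R] (I : Ideal R)
    (h1 : ∀ p : Ideal R, p ∈ associatedPrimes R (R ⧸ I) → p ∈ I.minimalPrimes)
    (h2 : ∀ p : Ideal R, p ∈ I.minimalPrimes → p.height = 1) :
    ∃ f : R, I = Ideal.span {f} := by
  by_cases hI : I = ⊥
  · exact ⟨0, by rw [hI, Ideal.span_singleton_zero]⟩
  obtain ⟨i₀, hi₀, hi₀ne⟩ := Submodule.exists_mem_ne_zero_of_ne_bot hI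
  let S : Set R := {c | ∃ f, (∀ i ∈ I, f ∣ i) ∧ i₀ = f * c}
  obtain ⟨c, ⟨f, hf, hfc⟩, hmin⟩ :=
    wellFounded_dvdNotUnit.has_min S ⟨i₀, 1, fun i _ => one_dvd i, (one_mul _).symm⟩
  have hf0 : f ≠ 0 := fun h => hi₀ne (by rw [hfc, h, zero_mul])
  refine ⟨f, le_antisymm (fun i hi => Ideal.mem_span_singleton.mpr (hf i hi)) ?_⟩
  rw [Ideal.span_singleton_le_iff_mem]
  by_contra hfI
  haveI : Nontrivial (R ⧸ I.colon {f}) := Ideal.Quotient.nontrivial_iff.mpr fun h => hfI (by
    have h1 : (1 : R) ∈ I.colon {f} := by rw [h]; trivial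
    simpa [Submodule.mem_colon_singleton] using h1)
  obtain ⟨q, hq⟩ := associatedPrimes.nonempty R (R ⧸ I.colon {f})
  have hqI : q ∈ associatedPrimes R (R ⧸ I) := by
    let φ : (R ⧸ I.colon {f}) →ₗ[R] (R ⧸ I) :=
      Submodule.liftQ _ ((Submodule.mkQ I).comp (LinearMap.mulRight R f)) (fun r hr => by
        rw [Submodule.mem_colon_singleton] at hr
        simp only [LinearMap.mem_ker, LinearMap.comp_apply, Submodule.mkQ_apply,
          LinearMap.mulRight_apply, Submodule.Quotient.mk_eq_zero]
        exact hr)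
    have hφ : Function.Injective φ := by
      rw [injective_iff_map_eq_zero]
      intro z
      refine Submodule.Quotient.induction_on _ z fun r hr => ?_
      rw [Submodule.Quotient.mk_eq_zero, Submodule.mem_colon_singleton, smul_eq_mul]
      have hr' : Submodule.Quotient.mk (p := I) (r * f) = 0 := hr
      exact (Submodule.Quotient.mk_eq_zero I).mp hr'
    exact associatedPrimes.subset_of_injective hφ hq
  haveI : q.IsPrime := hq.1
  have hqmin := h1 q hqI
  have hqbot : q ≠ ⊥ := fun h => hI (le_bot_iff.mp (h ▸ hqmin.1.2))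
  obtain ⟨π, hπq, hπ⟩ := Ideal.IsPrime.exists_mem_prime_of_ne_bot ‹q.IsPrime› hqbot
  have hle : Ideal.span {π} ≤ q := (Ideal.span_singleton_le_iff_mem _).mpr hπq
  haveI : (Ideal.span {π}).IsPrime := (Ideal.span_singleton_prime hπ.ne_zero).mpr hπ
  have hqeq : q = Ideal.span {π} := by
    by_contra hne
    have hlt : Ideal.span {π} < q := lt_of_le_of_ne hle (Ne.symm hne)
    have h := Ideal.height_strict_mono_of_isPrime hlt
    rw [h2 q hqmin, Order.lt_one_iff, Ideal.height_eq_zero_iff,
      IsDomain.minimalPrimes_eq_singleton_bot, Set.mem_singleton_iff,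
      Ideal.span_singleton_eq_bot] at h
    exact hπ.ne_zero h
  have hann : (I.colon {f}) ≤ q := by
    refine le_trans (fun r hr => ?_) (IsAssociatedPrime.annihilator_le hq)
    rw [Submodule.mem_annihilator]
    intro z _
    refine Submodule.Quotient.induction_on _ z fun s => ?_
    rw [← Submodule.Quotient.mk_smul, Submodule.Quotient.mk_eq_zero, smul_eq_mul]
    exact Ideal.mul_mem_right _ _ hr
  have hdiv : ∀ i ∈ I, f * π ∣ i := by
    intro i hi
    obtain ⟨j, rfl⟩ := hf i hi
    refine mul_dvd_mul_left f ?_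
    rw [← Ideal.mem_span_singleton, ← hqeq]
    exact hann (Submodule.mem_colon_singleton.mpr (by rwa [smul_eq_mul, mul_comm]))
  obtain ⟨c', hc'⟩ := hdiv i₀ hi₀
  have hc'0 : c' ≠ 0 := fun h => hi₀ne (by rw [hc', h, mul_zero])
  refine hmin c' ⟨f * π, hdiv, hc'⟩ ⟨hc'0, π, hπ.not_unit, ?_⟩
  apply mul_left_cancel₀ hf0
  rw [← hfc, hc', mul_assoc, mul_comm π c']

end Groth.Agent.S8854
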