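import Groth.Statements.S8856
import Groth.Agent.Lib.Synt92.GenericRegular
import Groth.Agent.Lib.Synt92.KRDescentScheme
import Mathlib.RingTheory.Smooth.Basic

set_option autoImplicit false
universe u
open CategoryTheory CategoryTheory.Limits AlgebraicGeometry TopologicalSpace
open SDiv

namespace Groth.Agent.S8856

open Groth.Agent.Lib.Synt92

theorem exists_chart_data {Z X : Scheme.{u}} (i : Z ⟶ X) (hi : RegImm.IsRegularImmersion RegImm.Kind.koszul i) (z : Z) :
    ∃ (U : X.Opens) (hU : IsAffineOpen U) (σ : Type) (_ : Finite σ) (gs : List (MvPolynomial σ Γ(X, U))),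
      i z ∈ U ∧ IsClosedImmersion (i ∣_ U) ∧
      RingTheory.Sequence.IsWeaklyRegular (MvPolynomial σ Γ(X, U)) gs ∧
      Ideal.ofList gs = (RingHom.ker (i.app U).hom).map MvPolynomial.C := by
  obtain ⟨⟨U, hU⟩, hzU, hcl, rs, hrs, hker⟩ := hi.2 z
  obtain ⟨σ, hσ, gs, hgs, hgspan⟩ := GenericRegular.exists_generic rs.length rs.get
    (Groth.Agent.Lib.Wiebe.Bridge.acyc_of_isKoszulRegularSeq _ (by rwa [List.ofFn_get]))
  refine ⟨U, hU, σ, hσ, gs, hzU, hcl, hgs, ?_⟩
  rw [hgspan, KRLoc.span_range_eq_ofList, List.ofFn_get, hker]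

/-- For a Koszul-regular closed immersion i : Z ⟶ X, some surjective smooth morphism g : X' ⟶ X makes
the base change Z ×_X X' ⟶ X' of i along g a regular immersion. -/
theorem result {Z X : Scheme.{u}} (i : Z ⟶ X) [IsClosedImmersion i]
    (hi : RegImm.IsRegularImmersion RegImm.Kind.koszul i) :
    ∃ (X' : Scheme.{u}) (g : X' ⟶ X), Smooth g ∧ Surjective g ∧
      RegImm.IsRegularImmersion RegImm.Kind.regular (pullback.snd i g) := by
  choose U hU σ hσ gs hzU hcl hgs hgspan using exists_chart_data i hi
  let O : X.Opens := ⟨(Set.range i)ᶜ, i.isClosedEmbedding.isClosed_range.isOpen_compl⟩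
  let P : Option Z → Scheme.{u} := fun o => o.elim O.toScheme
    fun z => Spec (CommRingCat.of (MvPolynomial (σ z) Γ(X, U z)))
  let p : ∀ o, P o ⟶ X := fun o => match o with
    | none => O.ι
    | some z => Spec.map (CommRingCat.ofHom (MvPolynomial.C : Γ(X, U z) →+* _)) ≫ (hU z).fromSpec
  have hp : ∀ o, Smooth (p o) := fun o => match o with
    | none => inferInstanceAs (Smooth O.ι)
    | some z => by
      haveI : Smooth (Spec.map (CommRingCat.ofHom (MvPolynomial.C : Γ(X, U z) →+* MvPolynomial (σ z) Γ(X, U z)))) := by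
        rw [HasRingHomProperty.Spec_iff (P := @Smooth)]
        change RingHom.Smooth (algebraMap Γ(X, U z) (MvPolynomial (σ z) Γ(X, U z)))
        haveI := hσ z
        exact RingHom.smooth_algebraMap.2 ⟨inferInstance, inferInstance⟩
      change Smooth (Spec.map _ ≫ (hU z).fromSpec)
      infer_instance
  let g : ∐ P ⟶ X := Sigma.desc p
  haveI hgs' : Smooth g := IsZariskiLocalAtSource.sigmaDesc (P := @Smooth) hp
  refine ⟨∐ P, g, hgs', ⟨fun x => ?_⟩, inferInstance, fun w => ?_⟩
  · by_cases hx : x ∈ Set.range i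
    · obtain ⟨z, rfl⟩ := hx
      have hs : Function.Surjective (PrimeSpectrum.comap (MvPolynomial.C : Γ(X, U z) →+* MvPolynomial (σ z) Γ(X, U z))) := by
        intro q
        let ev := MvPolynomial.eval₂Hom (RingHom.id Γ(X, U z)) (fun _ : σ z => (0 : Γ(X, U z)))
        refine ⟨PrimeSpectrum.comap ev q, ?_⟩
        have he : ev.comp MvPolynomial.C = RingHom.id _ := RingHom.ext fun a => MvPolynomial.eval₂Hom_C _ _ a
        rw [← PrimeSpectrum.comap_comp_apply, he]
        rfl
      obtain ⟨t, ht⟩ : i z ∈ Set.range (hU z).fromSpec := by rw [(hU z).range_fromSpec]; exact hzU z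
      obtain ⟨q, rfl⟩ := hs t
      refine ⟨Sigma.ι P (some z) q, ?_⟩
      rw [← Scheme.Hom.comp_apply, Sigma.ι_desc]
      exact ht
    · refine ⟨Sigma.ι P none ⟨x, hx⟩, ?_⟩
      rw [← Scheme.Hom.comp_apply, Sigma.ι_desc]
      rfl
  · obtain ⟨o, q, hq⟩ := (sigmaOpenCover P).exists_eq (pullback.snd i g w)
    change Sigma.ι P o q = _ at hq
    cases o with
    | none =>
      exfalso
      have h1 : g (Sigma.ι P none q) = i (pullback.fst i g w) := by
        rw [hq, ← Scheme.Hom.comp_apply, ← pullback.condition, Scheme.Hom.comp_apply]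
      rw [← Scheme.Hom.comp_apply, Sigma.ι_desc] at h1
      exact (q : O.toScheme).2 ⟨_, h1.symm⟩
    | some z =>
      let j : Spec (CommRingCat.of (MvPolynomial (σ z) Γ(X, U z))) ⟶ ∐ P := Sigma.ι P (some z)
      haveI : IsOpenImmersion j := inferInstanceAs (IsOpenImmersion (Sigma.ι P (some z)))
      let V := j.opensRange
      have hV : IsAffineOpen V := isAffineOpen_opensRange j
      have hjg : j ≫ g = Spec.map (CommRingCat.ofHom (MvPolynomial.C : Γ(X, U z) →+* _)) ≫ (hU z).fromSpec :=
        Sigma.ι_desc _ _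
      have hle : V ≤ g ⁻¹ᵁ U z := by
        rintro _ ⟨q', rfl⟩
        change g (j q') ∈ U z
        rw [← Scheme.Hom.comp_apply, hjg]
        exact (hU z).range_fromSpec.le
          ⟨Spec.map (CommRingCat.ofHom (MvPolynomial.C : Γ(X, U z) →+* _)) q', rfl⟩
      have hr : Set.range hV.fromSpec ⊆ Set.range j := by rw [hV.range_fromSpec]; exact subset_rfl
      let e := IsOpenImmersion.lift j hV.fromSpec hr
      have he : e ≫ j = hV.fromSpec := IsOpenImmersion.lift_fac _ _ _
      haveI : IsIso e := by
        haveI : IsOpenImmersion (e ≫ j) := by rw [he]; infer_instance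
        haveI : IsOpenImmersion e := IsOpenImmersion.of_comp e j
        haveI : Surjective e := ⟨fun q' => by
          obtain ⟨t, ht⟩ : j q' ∈ Set.range hV.fromSpec := by rw [hV.range_fromSpec]; exact ⟨q', rfl⟩
          refine ⟨t, j.isOpenEmbedding.injective ?_⟩
          rw [← Scheme.Hom.comp_apply, he, ht]⟩
        exact (isIso_iff_isOpenImmersion_and_surjective _).2 ⟨inferInstance, inferInstance⟩
      let φ := Spec.preimage e
      haveI : IsIso φ := by
        refine ⟨⟨Spec.preimage (inv e), ?_, ?_⟩⟩ <;>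
          exact Spec.map_injective (by simp [φ])
      have happ : g.appLE (U z) V hle =
          CommRingCat.ofHom (MvPolynomial.C : Γ(X, U z) →+* MvPolynomial (σ z) Γ(X, U z)) ≫ φ := by
        apply Spec.map_injective
        rw [← cancel_mono (hU z).fromSpec, IsAffineOpen.SpecMap_appLE_fromSpec g (hU z) hV hle, Spec.map_comp,
          Spec.map_preimage, Category.assoc, ← hjg]
        exact (congrArg (· ≫ g) he).symm.trans (Category.assoc _ _ _)
      obtain ⟨hclV, hkerV⟩ := KRDescentScheme.ker_baseChange i g (pullback.snd i g) (pullback.fst i g)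
        (IsPullback.of_hasPullback i g) (hU z) (hcl z) hV hle
      have hwV : pullback.snd i g w ∈ V := ⟨q, hq⟩
      have hker : RingHom.ker ((pullback.snd i g).app V).hom = Ideal.ofList ((gs z).map φ.hom) := by
        rw [hkerV, happ, ← Ideal.map_ofList, hgspan, Ideal.map_map]
        rfl
      refine ⟨⟨V, hV⟩, hwV, hclV, (gs z).map φ.hom,
        ⟨GenericRegular.isWeaklyRegular_map _
          (RingHom.Flat.of_bijective (ConcreteCategory.bijective_of_isIso φ)) (hgs z), ?_⟩, hker⟩
      rw [smul_eq_mul, Ideal.mul_top, ← hker]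
      intro h
      haveI : Nontrivial Γ(pullback i g, (pullback.snd i g) ⁻¹ᵁ V) := by
        refine ⟨0, 1, fun h01 => ?_⟩
        have := congrArg ((pullback i g).presheaf.germ ((pullback.snd i g) ⁻¹ᵁ V) w hwV) h01
        rw [map_zero, map_one] at this
        exact zero_ne_one this
      exact RingHom.ker_ne_top ((pullback.snd i g).app V).hom h.symm

end Groth.Agent.S8856
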