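import Groth.Statements.S8860
import Groth.Agent.Lib.NormAmple.FinFreeMain
import Groth.Agent.Lib.NormAmple.Generic
import Mathlib.AlgebraicGeometry.QuasiAffine
-- import your own Groth.Agent.* helpers here

set_option autoImplicit false
universe u
open CategoryTheory CategoryTheory.Limits AlgebraicGeometry TopologicalSpace
open SDiv

namespace Groth.Agent.S8860


section Helpers

open Groth.Agent.Lib.NormAmple

/-- On a quasi-affine scheme a finite set inside an open is contained in an affine basic open inside it. -/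
theorem exists_basicOpen_finite {X : Scheme.{u}} [X.IsQuasiAffine] {F : Set X} (hF : F.Finite)
    (O : X.Opens) (hFO : F ⊆ O) :
    ∃ r : Γ(X, ⊤), IsAffineOpen (X.basicOpen r) ∧ F ⊆ X.basicOpen r ∧ X.basicOpen r ≤ O := by
  classical
  let S := Spec (CommRingCat.of Γ(X, ⊤))
  let W : Opens (PrimeSpectrum Γ(X, ⊤)) := X.toSpecΓ ''ᵁ O
  obtain ⟨T, hT⟩ := (PrimeSpectrum.isClosed_iff_zeroLocus _).1 W.isOpen.isClosed_compl
  let I : Ideal Γ(X, ⊤) := Ideal.span T
  have hmem : ∀ x ∈ F, ¬ I ≤ (show PrimeSpectrum Γ(X, ⊤) from X.toSpecΓ x).asIdeal := fun x hx hle => by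
    have h1 : (show PrimeSpectrum Γ(X, ⊤) from X.toSpecΓ x) ∈ (W : Set (PrimeSpectrum Γ(X, ⊤)))ᶜ := by
      rw [hT, PrimeSpectrum.mem_zeroLocus]
      exact fun a ha => hle (Ideal.subset_span ha)
    exact h1 ⟨x, hFO hx, rfl⟩
  obtain ⟨r, hrI, hr⟩ : ∃ r ∈ I, ∀ x ∈ F, r ∉ (show PrimeSpectrum Γ(X, ⊤) from X.toSpecΓ x).asIdeal := by
    by_contra hne
    push Not at hne
    have hsub : (I : Set Γ(X, ⊤)) ⊆
        ⋃ x ∈ (hF.toFinset : Set X), ((show PrimeSpectrum Γ(X, ⊤) from X.toSpecΓ x).asIdeal : Set Γ(X, ⊤)) :=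
      fun r hr => by
      obtain ⟨x, hx, hxr⟩ := hne r hr
      exact Set.mem_iUnion₂.2 ⟨x, hF.mem_toFinset.2 hx, hxr⟩
    rcases hF.toFinset.eq_empty_or_nonempty with he | ⟨a, ha⟩
    · rw [he] at hsub
      simpa using hsub (zero_mem I)
    obtain ⟨x, hx, hle⟩ := (Ideal.subset_union_prime a a fun i _ _ _ =>
      (show PrimeSpectrum Γ(X, ⊤) from X.toSpecΓ i).2).1 hsub
    exact hmem x (hF.mem_toFinset.1 hx) hle
  have hrW : (PrimeSpectrum.basicOpen r : Set (PrimeSpectrum Γ(X, ⊤))) ⊆ W := by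
    intro p hp
    by_contra hpW
    have : p ∈ (W : Set (PrimeSpectrum Γ(X, ⊤)))ᶜ := hpW
    rw [hT, PrimeSpectrum.mem_zeroLocus] at this
    exact hp ((Ideal.span_le (I := p.asIdeal)).2 this hrI)
  refine ⟨r, ?_, fun x hx => ?_, ?_⟩
  · rw [← X.toSpecΓ_preimage_basicOpen r, ← Scheme.Hom.isAffineOpen_iff_of_isOpenImmersion X.toSpecΓ]
    have e : X.toSpecΓ ''ᵁ (X.toSpecΓ ⁻¹ᵁ PrimeSpectrum.basicOpen r) = PrimeSpectrum.basicOpen r :=
      SetLike.coe_injective (Set.image_preimage_eq_of_subset (hrW.trans (Set.image_subset_range _ _)))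
    rw [e]
    exact IsAffineOpen.Spec_basicOpen r
  · rw [← X.toSpecΓ_preimage_basicOpen r]
    exact hr x hx
  · rw [← X.toSpecΓ_preimage_basicOpen r]
    intro x hx
    obtain ⟨z, hz, e⟩ := hrW hx
    rwa [← X.toSpecΓ.isEmbedding.injective e]

/-- Quasi-affineness descends along a finite surjection with a norm. -/
theorem isQuasiAffine_of_preNorm {X Y : Scheme.{u}} (π : X ⟶ Y) [IsFinite π] [Surjective π]
    [X.IsQuasiAffine] (N : Basic.PreNorm π) : Y.IsQuasiAffine := by
  haveI : CompactSpace Y := ⟨π.surjective.range_eq ▸ isCompact_range π.continuous⟩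
  refine Scheme.IsQuasiAffine.of_forall_exists_mem_basicOpen Y fun y => ?_
  obtain ⟨V, hV, hyV, -⟩ := exists_isAffineOpen_mem_and_subset (X := Y) (x := y) (U := ⊤) trivial
  obtain ⟨f, -, hfF, hfV⟩ := exists_basicOpen_finite (π.finite_preimage_singleton y) (π ⁻¹ᵁ V)
    (fun x hx => show π x ∈ V from (show π x = y from hx) ▸ hyV)
  let t : Γ(Y, ⊤) := N.nrm ⊤ f
  have hyt : y ∈ Y.basicOpen t :=
    Basic.mem_basicOpen_nrm N π.isClosedMap f (U := ⊤) trivial fun x hx => hfF hx
  have htV : Y.basicOpen t ≤ V := fun z hz => by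
    by_contra hzV
    exact N.mem ⊤ f z trivial (fun x hx hxf => hzV (hx ▸ (hfV hxf : π x ∈ V))) hz
  refine ⟨t, ?_, hyt⟩
  rw [← inf_eq_right.2 htV]
  have := hV.basicOpen (Y.presheaf.map (homOfLE (le_top : V ≤ ⊤)).op t)
  rwa [Scheme.basicOpen_res] at this

end Helpers

/-- Let π : X ⟶ Y be a finite surjective morphism of schemes with X quasi-affine. If either π is finite
locally free (finite, flat and locally of finite presentation), or Y is integral with all local
rings integrally closed domains (normal), then Y is quasi-affine. -/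
theorem result {X Y : Scheme.{u}} (π : X ⟶ Y) [IsFinite π] [Surjective π]
    (hX : X.IsQuasiAffine) (h : Mor2.IsFinLocFree π ∨ (IsIntegral Y ∧ Pi1.IsNormalScheme Y)) :
    Y.IsQuasiAffine := by
  haveI := hX
  rcases h with ⟨_, hflat, hlfp⟩ | ⟨hint, hnorm⟩
  · haveI : CompactSpace Y := ⟨π.surjective.range_eq ▸ isCompact_range π.continuous⟩
    haveI := hflat
    haveI := hlfp
    obtain ⟨d, ⟨N⟩⟩ := Groth.Agent.Lib.NormAmple.FinFreeMain.exists_norm (π := π)
      (Groth.Agent.H81.PushLocFree.isFinLocFree_push π) π.surjective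
    exact isQuasiAffine_of_preNorm π (Groth.Agent.Lib.NormAmple.Basic.ofNorm N π.surjective)
  · haveI := hint
    have hfin : Set.Finite {η : Y | Groth.Agent.Lib.NormAmple.GenStalk.IsMaxPt η} :=
      (Set.finite_singleton (genericPoint Y)).subset fun η hη =>
        (hη _ (genericPoint_specializes η)).symm
    obtain ⟨D⟩ := Groth.Agent.Lib.NormAmple.Generic.exists_data π hfin (fun y => Or.inl (hnorm y)) π.surjective
    exact isQuasiAffine_of_preNorm π (Groth.Agent.Lib.NormAmple.Generic.toPreNorm D)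

end Groth.Agent.S8860
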