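import Groth.Statements.S8862
import Groth.Agent.Lib.AssPt.Basic

set_option autoImplicit false
universe u
open CategoryTheory CategoryTheory.Limits AlgebraicGeometry TopologicalSpace
open SDiv

namespace Groth.Agent.S8862

open Groth.Agent.Lib.Ideal.EffCartier Groth.Agent.Lib.AssPt.Basic


/-- Let f : X ⟶ Y be a morphism of schemes with X reduced and 𝓘 the ideal sheaf of an effective Cartier
divisor D ⊆ Y. If f ξ ∉ D for every generic point ξ of an irreducible component of X (every point of
X with no proper generization), then the inverse image ideal sheaf of 𝓘 on X is the ideal of an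
effective Cartier divisor. -/
theorem result {X Y : Scheme.{u}} [IsReduced X] (f : X ⟶ Y) (𝓘 : Y.IdealSheafData)
    (hD : BlowUp.IsEffCartierIdeal 𝓘)
    (h : ∀ ξ : ↥X, (∀ y : ↥X, y ⤳ ξ → y = ξ) → f ξ ∉ 𝓘.support) :
    BlowUp.IsEffCartierIdeal (𝓘.comap f) := by
  refine isEffCartier_comap f hD fun U s hs he x hx =>
    (germ_nzd_iff_isUnit_maxAssoc (f.app U.1 s)).mpr (fun y hy hay => ?_) x hx
  refine (X.mem_basicOpen (f.app U.1 s) y hy).mp ?_
  rw [← Scheme.preimage_basicOpen]
  refine (Y.mem_basicOpen s (f y) hy).mpr ?_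
  by_contra hu
  refine h y ((maxAssoc_iff_maximalPoint y).mp hay)
    ((Scheme.IdealSheafData.mem_support_iff_of_mem hy).mpr ?_)
  rw [Scheme.mem_zeroLocus_iff, he]
  intro r hr hyr
  obtain ⟨c, rfl⟩ := Ideal.mem_span_singleton'.mp hr
  rw [Scheme.basicOpen_mul] at hyr
  exact hu ((Y.mem_basicOpen s (f y) hy).mp hyr.2)

end Groth.Agent.S8862
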