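import Groth.Statements.S8865
import Groth.Agent.Lib.MeroK.Basic

set_option autoImplicit false
universe u
open CategoryTheory CategoryTheory.Limits AlgebraicGeometry TopologicalSpace
open SDiv

namespace Groth.Agent.S8865

open Groth.Agent.Lib.Ideal.EffCartier Groth.Agent.Lib.AssPt.Basic Groth.Agent.Lib.MeroK.Basic


/-- Let X be a quasi-compact scheme, h a global section of O_X and f a global section of the sheaf of
meromorphic functions K_X whose restriction to the open X_h where h is invertible vanishes. Then h^n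
f = 0 in K_X(X) for some natural number n. -/
theorem result (X : Scheme.{u}) [CompactSpace ↥X] (h : Γ(X, ⊤))
    (f : Γ(Mero.kmod X, ⊤)) (hf : (Mero.kmod X).presheaf.map (homOfLE (le_top : X.basicOpen h ≤ ⊤)).op f = 0) :
    ∃ n : ℕ, Mero.toK X ⊤ h ^ n * f = 0 := by
  classical
  have hloc : ∀ x : X, ∃ W : X.Opens, x ∈ W ∧ ∃ n : ℕ, ∀ y (hy : y ∈ W),
      (Mero.toK X ⊤ h ^ n * f).1 ⟨y, trivial⟩ = 0 := by
    intro x
    obtain ⟨V, hV, hxV, a, b, hab⟩ := exists_rep f ⟨x, trivial⟩
    obtain ⟨W, hW, hxW, hle⟩ := exists_isAffineOpen_mem_and_subset hxV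
    have hWV : W ≤ V := fun z hz => hle hz
    set a' := X.presheaf.map (homOfLE hWV).op a with ha'
    set h' := X.presheaf.map (homOfLE (le_top : W ≤ ⊤)).op h with hh'
    haveI := hW.isLocalization_basicOpen h'
    have hz : algebraMap Γ(X, W) Γ(X, X.basicOpen h') a' = 0 := by
      change X.presheaf.map (homOfLE (X.basicOpen_le h')).op a' = 0
      refine section_eq_zero_of_germs _ fun y hy => ?_
      have hyW : y ∈ W := X.basicOpen_le h' hy
      rw [TopCat.Presheaf.germ_res_apply, TopCat.Presheaf.germ_res_apply]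
      refine Mero.algebraMap_KStalk_injective y ?_
      rw [map_zero, ← hab y (hWV hyW)]
      have hyh : y ∈ X.basicOpen h := by
        rw [hh', Scheme.basicOpen_res] at hy
        exact hy.2
      have h0 : f.1 ⟨y, trivial⟩ = 0 := by
        rw [← kmod_res_apply (le_top : X.basicOpen h ≤ ⊤) f y hyh, hf]
        rfl
      change f.1 ⟨y, trivial⟩ * _ = 0
      rw [h0, zero_mul]
    obtain ⟨⟨e, n, rfl⟩, hn⟩ := (IsLocalization.map_eq_zero_iff (Submonoid.powers h') _ a').mp hz
    refine ⟨W, hxW, n, fun y hy => ?_⟩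
    have hm := congrArg (X.presheaf.germ W y hy) hn
    simp only [map_mul, map_pow, map_zero, hh', ha', TopCat.Presheaf.germ_res_apply] at hm
    refine (mul_algebraMap_regStalk_eq_zero_iff
      (Mero.germ_mem_regStalk ⟨y, hWV hy⟩ b.2)).mp ?_
    change ((Mero.evalK X ⊤ ⟨y, trivial⟩) (Mero.toK X ⊤ h ^ n * f)) * _ = 0
    rw [map_mul, map_pow]
    change (Mero.toK X ⊤ h).1 ⟨y, trivial⟩ ^ n * f.1 ⟨y, trivial⟩ * _ = 0
    rw [mul_assoc]
    refine (congrArg _ (hab y (hWV hy))).trans ?_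
    rw [toK_eq_algebraMap, ← map_pow, ← map_mul, hm, map_zero]
  choose W hxW n hn using hloc
  obtain ⟨T, hT⟩ := isCompact_univ.elim_finite_subcover (fun x => (W x : Set X))
    (fun x => (W x).isOpen) (fun x _ => Set.mem_iUnion.mpr ⟨x, hxW x⟩)
  refine ⟨T.sup n, Subtype.ext (funext fun ⟨y, _⟩ => ?_)⟩
  obtain ⟨x, hxT, hyx⟩ := Set.mem_iUnion₂.mp (hT (Set.mem_univ y))
  obtain ⟨k, hk⟩ := Nat.le.dest (Finset.le_sup (f := n) hxT)
  rw [← hk, pow_add, mul_right_comm]
  rw [Mero.kmod_mul_apply, hn x y hyx, zero_mul]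
  rfl

end Groth.Agent.S8865
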