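import Groth.Statements.S8867
import Groth.Agent.Lib.MeroK.RegMero

set_option autoImplicit false
universe u
open CategoryTheory CategoryTheory.Limits AlgebraicGeometry TopologicalSpace
open SDiv

namespace Groth.Agent.S8867

open Groth.Agent.Lib.MeroK Groth.Agent.Lib.AssPt.Basic

/-- Let X be a locally Noetherian scheme with no embedded points, i.e. every associated point of O_X is
maximal among the associated points of O_X under specialization, and L an invertible O_X-module.
Then some meromorphic section of L is regular. -/
theorem result (X : Scheme.{u}) [IsLocallyNoetherian X]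
    (hne : ∀ x : ↥X, Curv2.IsAssPoint (Coh.structureModule X) x →
      ∀ y : ↥X, Curv2.IsAssPoint (Coh.structureModule X) y → y ⤳ x → y = x)
    (L : X.Modules) (hL : PicF.IsInvertible L) : Mero.HasRegularMero L := by
  refine RegMero.hasRegularMero_of_maximal hL (fun x hx y hyx => ?_) fun U hU => ?_
  · obtain ⟨z, hzy, hzmax⟩ : ∃ z, z ⤳ y ∧ ∀ w : X, w ⤳ z → w = z := by
      obtain ⟨U, hU, hyU, -⟩ := exists_isAffineOpen_mem_and_subset
        (show y ∈ (⊤ : X.Opens) from trivial)
      obtain ⟨q, hq, hqle⟩ := Ideal.exists_minimalPrimes_le (I := (⊥ : Ideal Γ(X, U)))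
        (J := (hU.primeIdealOf ⟨y, hyU⟩).asIdeal) bot_le
      haveI : q.IsPrime := hq.1.1
      obtain ⟨z, hz, rfl⟩ := exists_point_of_prime hU q
      exact ⟨z, (specializes_iff_primeIdealOf hU hyU hz).mpr hqle,
        (maximalPoint_iff_minimalPrime hU hz).mpr hq⟩
    have hzass : MaxAssoc (X.presheaf.stalk z) := by
      obtain ⟨U, hU, hzU, -⟩ := exists_isAffineOpen_mem_and_subset
        (show z ∈ (⊤ : X.Opens) from trivial)
      obtain ⟨w, -, hwz, hw, -⟩ := exists_maxAssoc_of_mul_eq_zero hU (a := 0)
        (zero_mul (1 : Γ(X, U))) hzU (by rw [map_one]; exact one_ne_zero)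
      obtain rfl := hzmax w hwz
      exact hw
    obtain rfl := hne x ((isAssPoint_structure_iff x).mpr hx) z
      ((isAssPoint_structure_iff z).mpr hzass) (hzy.trans hyx)
    exact hzmax y hyx
  · haveI : IsNoetherian (U : Scheme.{u}) := by
      haveI : CompactSpace ↥(U : Scheme.{u}) := isCompact_iff_compactSpace.mp hU.isCompact
      exact {}
    exact Affine.finite_maximalPoints hU TopologicalSpace.NoetherianSpace.finite_irreducibleComponents

end Groth.Agent.S8867
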