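import Groth.Statements.S8871
import Groth.Agent.Lib.StalkLoc.AssStalk
import Groth.Agent.Lib.Depth.Assoc
import Groth.Agent.Lib.RefHull.LocFree
import Mathlib.RingTheory.KrullDimension.Module
import Mathlib.RingTheory.Ideal.AssociatedPrime.Localization
-- import your own Groth.Agent.* helpers here

set_option autoImplicit false
universe u
open CategoryTheory CategoryTheory.Limits AlgebraicGeometry TopologicalSpace
open SDiv

namespace Groth.Agent.S8871

/-- Let X be a locally Noetherian scheme and F a coherent O_X-module. Then F has no embedded associated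
points (every associated point of F is maximal among the associated points of F under
specialization) if and only if F has property (S_1): for every point x, depth F_x ≥ min(1, dim Supp
F_x), where dim Supp F_x is the Krull dimension of the support of the O_{X,x}-module F_x (for F_x =
0 the depth is infinite and the support empty, so the condition holds). -/
theorem result (X : Scheme.{u}) [IsLocallyNoetherian X] (F : X.Modules) (hF : Coh.IsCoh F) :
    (∀ x : ↥X, Curv2.IsAssPoint F x → ∀ y : ↥X, Curv2.IsAssPoint F y → y ⤳ x → y = x) ↔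
      ∀ x : ↥X, min (1 : WithBot ℕ∞) (Module.supportDim ↑(X.presheaf.stalk x) ↑(F.presheaf.stalk x)) ≤
        ((LocCoh.depth (X.presheaf.stalk x) (F.presheaf.stalk x) : ℕ∞) : WithBot ℕ∞) := by
  open Groth.Agent.Lib in
  haveI := hF.1
  have hmax : ∀ x : X, Curv2.IsAssPoint F x ↔
      IsLocalRing.maximalIdeal (X.presheaf.stalk x) ∈ associatedPrimes (X.presheaf.stalk x) (F.presheaf.stalk x) :=
    fun x => Iff.rfl
  constructor
  · intro h x
    haveI := Groth.Agent.Lib.RefHull.LocFree.finite_stalk hF x
    rcases subsingleton_or_nontrivial (F.presheaf.stalk x) with hs | hs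
    · rw [Module.supportDim_eq_bot_of_subsingleton]
      simp
    by_cases hd : LocCoh.depth (X.presheaf.stalk x) (F.presheaf.stalk x) = 0
    · refine min_le_of_right_le ?_
      rw [hd]
      rw [Module.supportDim]
      refine Order.krullDim_nonpos_iff_forall_isMax.mpr fun p q hpq => ?_
      have hxa := (Groth.Agent.Lib.Depth.Assoc.depth_eq_zero_iff _).mp hd
      have hpm : p.1.asIdeal = IsLocalRing.maximalIdeal (X.presheaf.stalk x) := by
        by_contra hne
        obtain ⟨p0, hp0, hp0le⟩ := Ideal.exists_minimalPrimes_le (Module.mem_support_iff_of_finite.mp p.2)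
        have hass := Module.associatedPrimes.minimalPrimes_annihilator_subset_associatedPrimes _ _ hp0
        haveI : p0.IsPrime := hp0.1.1
        let q0 : Spec (X.presheaf.stalk x) := ⟨p0, inferInstance⟩
        have hy := (Groth.Agent.Lib.StalkLoc.AssStalk.mem_associatedPrimes_stalk_iff x q0).mp hass
        have hsp : X.fromSpecStalk x q0 ⤳ x := (Scheme.range_fromSpecStalk (X := X) (x := x)).le ⟨_, rfl⟩
        have := (Groth.Agent.Lib.StalkLoc.AssStalk.closedPoint_eq_iff q0).mp
          (h x ((hmax x).mpr hxa) _ hy hsp)
        exact hne (le_antisymm (IsLocalRing.le_maximalIdeal p.1.2.ne_top) (this.ge.trans hp0le))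
      show q.1.asIdeal ≤ p.1.asIdeal
      rw [hpm]
      exact IsLocalRing.le_maximalIdeal q.1.2.ne_top
    · refine min_le_of_left_le ?_
      exact WithBot.coe_le_coe.mpr (Order.one_le_iff_ne_zero.mpr hd)
  · intro h x hx y hy hyx
    by_contra hne
    haveI := Groth.Agent.Lib.RefHull.LocFree.finite_stalk hF x
    obtain ⟨q, hq⟩ : y ∈ Set.range (X.fromSpecStalk x) := by
      rw [Scheme.range_fromSpecStalk]; exact hyx
    have hqass := (Groth.Agent.Lib.StalkLoc.AssStalk.mem_associatedPrimes_stalk_iff x q).mpr (by rw [hq]; exact hy)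
    have hqm : q.asIdeal ≠ IsLocalRing.maximalIdeal (X.presheaf.stalk x) := fun e => hne (by
      rw [← hq]; exact (Groth.Agent.Lib.StalkLoc.AssStalk.closedPoint_eq_iff q).mpr e)
    haveI : Nontrivial (F.presheaf.stalk x) := by
      by_contra hn
      haveI := not_nontrivial_iff_subsingleton.mp hn
      exact Set.notMem_empty _ ((associatedPrimes.eq_empty_of_subsingleton (R := X.presheaf.stalk x) (M := F.presheaf.stalk x)) ▸ (hmax x).mp hx)
    have hd : LocCoh.depth (X.presheaf.stalk x) (F.presheaf.stalk x) = 0 :=
      (Groth.Agent.Lib.Depth.Assoc.depth_eq_zero_iff _).mpr hx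
    have h1 : (1 : WithBot ℕ∞) ≤ Module.supportDim (X.presheaf.stalk x) (F.presheaf.stalk x) := by
      suffices h0 : (0 : WithBot ℕ∞) < Module.supportDim (X.presheaf.stalk x) (F.presheaf.stalk x) by
        revert h0
        generalize Module.supportDim (X.presheaf.stalk x) (F.presheaf.stalk x) = d
        intro h0
        induction d with
        | bot => exact absurd h0 (by simp)
        | coe a => exact WithBot.coe_le_coe.mpr (Order.one_le_iff_pos.mpr (WithBot.coe_lt_coe.mp h0))
      rw [Module.supportDim, Order.krullDim_pos_iff]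
      have hqs : q ∈ Module.support (X.presheaf.stalk x) (F.presheaf.stalk x) :=
        Module.mem_support_iff_of_finite.mpr (Submodule.annihilator_top (R := X.presheaf.stalk x) (M := F.presheaf.stalk x) ▸ IsAssociatedPrime.annihilator_le hqass)
      have hms : IsLocalRing.closedPoint (X.presheaf.stalk x) ∈ Module.support (X.presheaf.stalk x) (F.presheaf.stalk x) :=
        Module.mem_support_iff_of_finite.mpr (Submodule.annihilator_top (R := X.presheaf.stalk x) (M := F.presheaf.stalk x) ▸ IsAssociatedPrime.annihilator_le hx)
      exact ⟨⟨q, hqs⟩, ⟨_, hms⟩, lt_of_le_of_ne (IsLocalRing.le_maximalIdeal q.2.ne_top)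
        fun e => hqm (congrArg PrimeSpectrum.asIdeal (congrArg Subtype.val e))⟩
    have h2 := h x
    rw [hd, min_eq_left h1] at h2
    exact absurd h2 (by decide)

end Groth.Agent.S8871
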