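import Groth.Statements.S8873
import Groth.Agent.Lib.FittSheaf.Basic
import Groth.Agent.Lib.Modules.AffineSections

set_option autoImplicit false
universe u
open CategoryTheory CategoryTheory.Limits AlgebraicGeometry TopologicalSpace
open SDiv

namespace Groth.Agent.S8873

/-- Let S be a scheme and F a finitely presented O_S-module. Then for every r the Fitting ideal sheaf
Fit_r(F) is of finite type: its ideal of sections over every affine open is finitely generated. -/
theorem result (S : Scheme.{u}) (F : S.Modules) (hF : CohB1.IsFP F) (r : ℕ) :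
    BlowUp.IsFiniteTypeIdeal (Fitt.sheafIdeal F r) := by
  haveI : F.IsQuasicoherent := by
    haveI : SheafOfModules.IsFinitePresentation (R := S.ringCatSheaf) F := hF
    infer_instance
  haveI : SheafOfModules.IsFiniteType (R := S.ringCatSheaf) F := by
    haveI : SheafOfModules.IsFinitePresentation (R := S.ringCatSheaf) F := hF
    infer_instance
  intro U
  haveI := Groth.Agent.Lib.Modules.AffineSections.finitePresentation_sections hF U.2
  rw [Groth.Agent.Lib.FittSheaf.ideal_sheafIdeal]
  obtain ⟨n, v, hv⟩ := Module.Finite.exists_fin (R := Γ(S, U.1)) (M := Γ(F, U.1))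
  obtain ⟨T, hT⟩ : (Groth.Agent.H25.Fitting.rel (R := Γ(S, U.1)) v).FG :=
    Module.FinitePresentation.fg_ker _ (LinearMap.range_eq_top.1
      ((Fintype.range_linearCombination Γ(S, U.1) v).trans hv))
  rw [Groth.Agent.H25.Fitting.ideal_eq_of_rel v hv _ hT.symm]
  exact Groth.Agent.H25.Fitting.Mn_fg T.finite_toSet _

end Groth.Agent.S8873
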