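import Groth.Statements.S8881
import Groth.Agent.Lib.NormAmple.Generic

set_option autoImplicit false
universe u
open CategoryTheory CategoryTheory.Limits AlgebraicGeometry TopologicalSpace
open SDiv

namespace Groth.Agent.S8881

/-- If π : X ⟶ Y is finite and surjective, X and Y are integral, and Y is normal, then π carries a norm
of some degree d ≥ 1. The published statement takes d to be the degree of the function field of X
over that of Y; this row asserts only that a norm of some degree exists. -/
theorem result {X Y : Scheme.{u}} (π : X ⟶ Y) [IsFinite π] [Surjective π]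
    [IsIntegral X] [IsIntegral Y] (hY : Pi1.IsNormalScheme Y) : ∃ d : ℕ, Nrm.HasNorm π d := by
  have hY' : ∀ y, Groth.Agent.Lib.NormAmple.Generic.Good π y := fun y => Or.inl (hY y)
  have huniq : ∀ η : Y, Groth.Agent.Lib.NormAmple.GenStalk.IsMaxPt η → η = genericPoint Y :=
    fun η hη => (hη _ (genericPoint_specializes η)).symm
  obtain ⟨D⟩ := Groth.Agent.Lib.NormAmple.Generic.exists_data π
    ((Set.finite_singleton (genericPoint Y)).subset fun η hη => huniq η hη) hY' π.surjective
  refine ⟨D.d, ⟨Groth.Agent.Lib.NormAmple.Generic.toNorm D fun x η hη _ =>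
    ⟨genericPoint X, genericPoint_specializes x, ?_⟩⟩⟩
  obtain ⟨ξ, rfl⟩ := π.surjective η
  exact hη _ ((genericPoint_specializes ξ).map π.continuous)

end Groth.Agent.S8881
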