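import Groth.Statements.S8885
import Groth.Agent.H20.RelAssBC

set_option autoImplicit false
universe u
open CategoryTheory CategoryTheory.Limits AlgebraicGeometry TopologicalSpace
open SDiv

namespace Groth.Agent.S8885

open Groth.Agent.H52.Ass.FlatTensorProd (ass_of_iso)

theorem isAssPoint_fibre_congr {X S : Scheme.{u}} (f : X ⟶ S) (F : X.Modules) (x : X) (s : S)
    (hs : f x = s) (b : f.fiber s) (hb : f.fiberι s b = x) :
    b ∈ AssSch.Ass ((Scheme.Modules.pullback (f.fiberι s)).obj F) ↔
      Curv2.IsAssPoint ((Scheme.Modules.pullback (f.fiberι (f x))).obj F) (f.asFiber x) := by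
  subst hs
  obtain rfl : b = f.asFiber x :=
    (f.fiberι (f x)).isEmbedding.injective (hb.trans (f.fiberι_asFiber x).symm)
  exact Iff.rfl

/-- Let f : X ⟶ S be locally of finite type, g : S' ⟶ S a morphism, X' = X ×_S S' with projections g' :
X' ⟶ X and f' : X' ⟶ S', F a quasi-coherent O_X-module and F' = g'^*F. For a point x' of X' with
images x in X and s' in S': x' lies in the relative assassin Ass_{X'/S'}(F') (x' is an associated
point of the pullback of F' to the fibre X'_{s'}) if and only if x lies in Ass_{X/S}(F) and x' is
maximal under generization among the points of X' mapping to x and to s' (that is, x' is the generic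
point of some irreducible component of Spec(κ(s') ⊗_{κ(s)} κ(x))). -/
theorem result {X S S' : Scheme.{u}} (f : X ⟶ S) [LocallyOfFiniteType f] (g : S' ⟶ S)
    (F : X.Modules) (hF : Coh.IsQCoh F) (x' : ↥(pullback f g)) :
    Curv2.IsAssPoint
        ((Scheme.Modules.pullback ((pullback.snd f g).fiberι ((pullback.snd f g) x'))).obj
          ((Scheme.Modules.pullback (pullback.fst f g)).obj F))
        ((pullback.snd f g).asFiber x') ↔
      Curv2.IsAssPoint ((Scheme.Modules.pullback (f.fiberι (f ((pullback.fst f g) x')))).obj F)
          (f.asFiber ((pullback.fst f g) x')) ∧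
        ∀ x'' : ↥(pullback f g), (pullback.snd f g) x'' = (pullback.snd f g) x' →
          (pullback.fst f g) x'' = (pullback.fst f g) x' → x'' ⤳ x' → x'' = x' := by
  have hsq := IsPullback.of_hasPullback f g
  let s' := pullback.snd f g x'
  let fY := f.fiberToSpecResidueField (g s')
  let fQ := (pullback.snd f g).fiberToSpecResidueField s'
  letI : Algebra (S.residueField (g s')) (S'.residueField s') := (g.residueFieldMap s').hom.toAlgebra
  have sq := isPullback_fiberToSpecResidueField_of_isPullback hsq s'
  let π : (pullback.snd f g).fiber s' ⟶ f.fiber (g s') :=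
    pullback.map (pullback.snd f g) (S'.fromSpecResidueField s') f (S.fromSpecResidueField (g s'))
      (pullback.fst f g) (Spec.map (g.residueFieldMap s')) g hsq.w.symm (by simp)
  haveI : LocallyOfFiniteType fY := inferInstanceAs (LocallyOfFiniteType (pullback.snd _ _))
  have key := Groth.Agent.H20.RelAssBC.ass_pullback_field (k := S.residueField (g s'))
    (K := S'.residueField s') fY π fQ sq ((Scheme.Modules.pullback (f.fiberι (g s'))).obj F)
    ((pullback.snd f g).asFiber x')
  have hc : π ≫ f.fiberι (g s') = (pullback.snd f g).fiberι s' ≫ pullback.fst f g :=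
    pullback.lift_fst _ _ _
  have hpt : ∀ a, f.fiberι (g s') (π a) = pullback.fst f g ((pullback.snd f g).fiberι s' a) := fun a => by
    exact (Scheme.Hom.comp_apply _ _ a).symm.trans
      ((congrArg (fun m : (pullback.snd f g).fiber s' ⟶ X => m a) hc).trans (Scheme.Hom.comp_apply _ _ a))
  haveI : IsLocallyNoetherian ((pullback.snd f g).fiber s') := by
    haveI : LocallyOfFiniteType fQ := inferInstanceAs (LocallyOfFiniteType (pullback.snd _ _))
    exact LocallyOfFiniteType.isLocallyNoetherian fQ
  have e : (Scheme.Modules.pullback π).obj ((Scheme.Modules.pullback (f.fiberι (g s'))).obj F) ≅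
      (Scheme.Modules.pullback ((pullback.snd f g).fiberι s')).obj
        ((Scheme.Modules.pullback (pullback.fst f g)).obj F) :=
    (Scheme.Modules.pullbackComp π (f.fiberι (g s'))).app F ≪≫ (Scheme.Modules.pullbackCongr hc).app F ≪≫
      ((Scheme.Modules.pullbackComp ((pullback.snd f g).fiberι s') (pullback.fst f g)).app F).symm
  refine (ass_of_iso e _).symm.trans (key.trans (and_congr ?_ ?_))
  · refine isAssPoint_fibre_congr f F (pullback.fst f g x') (g s') ?_ _ ?_
    · exact (Scheme.Hom.comp_apply _ _ _).symm.trans ((congrArg (fun m : pullback f g ⟶ S => m x') hsq.w).trans (Scheme.Hom.comp_apply _ _ _))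
    · exact (hpt _).trans (congrArg (pullback.fst f g) (Scheme.Hom.fiberι_asFiber _ _))
  · constructor
    · intro h x'' hsnd hfst hsp
      obtain ⟨a', ha'⟩ : x'' ∈ Set.range ((pullback.snd f g).fiberι s') := by
        rw [Scheme.Hom.range_fiberι]; exact hsnd
      subst ha'
      rw [h a' ((f.fiberι (g s')).isEmbedding.injective ((hpt a').trans (hfst.trans ((congrArg (pullback.fst f g) (Scheme.Hom.fiberι_asFiber _ _).symm).trans (hpt _).symm))))
        (((pullback.snd f g).fiberι s').isEmbedding.toIsInducing.specializes_iff.1 ((Scheme.Hom.fiberι_asFiber (pullback.snd f g) x').symm ▸ hsp)),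
        Scheme.Hom.fiberι_asFiber]
    · intro h a' ha' hsp
      refine ((pullback.snd f g).fiberι s').isEmbedding.injective ?_
      rw [Scheme.Hom.fiberι_asFiber]
      refine h _ ?_ ?_ ?_
      · have : (pullback.snd f g).fiberι s' a' ∈ (pullback.snd f g) ⁻¹' {s'} := by
          rw [← Scheme.Hom.range_fiberι]; exact ⟨a', rfl⟩
        exact this
      · exact (hpt a').symm.trans ((congrArg (f.fiberι (g s')) ha').trans ((hpt _).trans (congrArg (pullback.fst f g) (Scheme.Hom.fiberι_asFiber _ _))))
      · have := hsp.map ((pullback.snd f g).fiberι s').continuous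
        rwa [Scheme.Hom.fiberι_asFiber] at this

end Groth.Agent.S8885
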