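import Groth.Statements.S8886
import Groth.Agent.H46.FiberStalk
import Groth.Agent.Lib.AssPt.Basic
import Mathlib.AlgebraicGeometry.Morphisms.UniversallyOpen
import Mathlib.RingTheory.Flat.TorsionFree
-- import your own Groth.Agent.* helpers here

set_option autoImplicit false
universe u
open CategoryTheory CategoryTheory.Limits AlgebraicGeometry TopologicalSpace
open SDiv

namespace Groth.Agent.S8886

/-- Let f : X ⟶ Y be a flat morphism of schemes with Y integral. If the scheme-theoretic fibre of f over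
the generic point of Y is integral, then X is integral. -/
theorem result {X Y : Scheme.{u}} (f : X ⟶ Y) [Flat f] [IsIntegral Y]
    (h : IsIntegral (f.fiber (genericPoint ↥Y))) : IsIntegral X := by
  haveI := h
  set η := genericPoint ↥Y
  let ξ : X := f.fiberι η (genericPoint ↥(f.fiber η))
  have hspec : ∀ x : X, ξ ⤳ x := by
    intro x
    obtain ⟨x', hx', hfx'⟩ := (Flat.generalizingMap f) ((genericPoint_spec ↥Y).specializes (Set.mem_univ (f x)))
    obtain ⟨a, rfl⟩ : x' ∈ Set.range (f.fiberι η) := by rw [f.range_fiberι η]; exact hfx'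
    exact (((genericPoint_spec ↥(f.fiber η)).specializes (Set.mem_univ a)).map (f.fiberι η).continuous).trans hx'
  haveI : Nonempty X := ⟨ξ⟩
  haveI : IrreducibleSpace X := by
    rw [irreducibleSpace_def, Set.top_eq_univ]
    have hcl : closure ({ξ} : Set X) = Set.univ := Set.eq_univ_of_forall fun x =>
      specializes_iff_mem_closure.mp (hspec x)
    exact hcl ▸ isIrreducible_singleton.closure
  haveI hstalk : ∀ a : f.fiber η, _root_.IsReduced (X.presheaf.stalk (f.fiberι η a)) := by
    intro a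
    have hy : f (f.fiberι η a) = η := by
      have : f.fiberι η a ∈ f ⁻¹' {η} := by rw [← f.range_fiberι η]; exact ⟨a, rfl⟩
      exact this
    refine isReduced_of_injective ((f.fiberι η).stalkMap a).hom ((RingHom.injective_iff_ker_eq_bot _).mpr ?_)
    rw [H46.FiberStalk.ker_stalkMap_fiberι, Ideal.map_eq_bot_iff_le_ker]
    intro r hr
    have key : ∀ (y : Y), y = η → ∀ r : Y.presheaf.stalk y, ¬ IsUnit r → r = 0 := by
      rintro y rfl r hr'
      by_contra h0
      exact hr' (isUnit_iff_ne_zero.mpr (h0 : (r : Y.functionField) ≠ 0))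
    rw [RingHom.mem_ker, key _ hy r ((IsLocalRing.mem_maximalIdeal r).mp hr), map_zero]
  have haff : ∀ (V : Y.Opens) (U : X.Opens), IsAffineOpen V → IsAffineOpen U → U ≤ f ⁻¹ᵁ V →
      (U : Set X).Nonempty → _root_.IsReduced Γ(X, U) := by
    intro V U hV hU e hne
    obtain ⟨x₀, hx₀⟩ := hne
    haveI : IsDomain Γ(Y, V) := @IsIntegral.component_integral Y _ V ⟨⟨f x₀, e hx₀⟩⟩
    letI := (f.appLE V U e).hom.toAlgebra
    haveI : Module.Flat Γ(Y, V) Γ(X, U) :=
      HasRingHomProperty.appLE @Flat f inferInstance ⟨V, hV⟩ ⟨U, hU⟩ e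
    refine ⟨fun s hs => ?_⟩
    let J : Ideal Γ(X, U) := (⊥ : Ideal Γ(X, U)).colon {s}
    have hJ : ∀ b, b ∈ J ↔ b * s = 0 := fun b => by
      rw [Submodule.mem_colon_singleton, Submodule.mem_bot]; rfl
    have hmeet : ∃ r : Γ(Y, V), r ≠ 0 ∧ algebraMap Γ(Y, V) Γ(X, U) r * s = 0 := by
      by_contra hno
      push Not at hno
      obtain ⟨q, hq, hJq, hdisj⟩ := Ideal.exists_le_prime_disjoint J
        ((nonZeroDivisors Γ(Y, V)).map (algebraMap Γ(Y, V) Γ(X, U))) (by
          rw [Set.disjoint_left]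
          rintro b hb ⟨r, hr, rfl⟩
          exact hno r (nonZeroDivisors.ne_zero hr) ((hJ _).mp hb))
      obtain ⟨x, hxU, hxq⟩ := Lib.AssPt.Basic.exists_point_of_prime hU q
      have hfx : f x = η := by
        refine ((genericPoint_spec ↥Y).specializes (Set.mem_univ _)).antisymm ?_ |>.eq.symm
        have hηV : η ∈ V := ((genericPoint_spec ↥Y).specializes (Set.mem_univ (f x))).mem_open V.2 (e hxU)
        rw [Lib.AssPt.Basic.specializes_iff_primeIdealOf hV hηV (e hxU)]
        intro r hr
        by_contra hr'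
        have hr0 : r ≠ 0 := fun h0 => hr' (h0 ▸ Submodule.zero_mem _)
        refine Set.disjoint_left.mp hdisj ?_ ⟨r, mem_nonZeroDivisors_of_ne_zero hr0, rfl⟩
        rw [SetLike.mem_coe, ← hxq]
        have hc : (hU.primeIdealOf ⟨x, hxU⟩).asIdeal.comap (f.appLE V U e).hom =
            (hV.primeIdealOf ⟨f x, e hxU⟩).asIdeal :=
          congrArg PrimeSpectrum.asIdeal (IsAffineOpen.comap_primeIdealOf_appLE V hV U hU e hxU)
        rw [← hc] at hr
        exact hr
      obtain ⟨a, ha⟩ : x ∈ Set.range (f.fiberι η) := by rw [f.range_fiberι η]; exact hfx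
      subst ha
      letI := X.presheaf.algebra_section_stalk ⟨f.fiberι η a, hxU⟩
      haveI := hU.isLocalization_stalk ⟨f.fiberι η a, hxU⟩
      haveI := hstalk a
      have h0 : algebraMap Γ(X, U) (X.presheaf.stalk (f.fiberι η a)) s = 0 := (hs.map _).eq_zero
      obtain ⟨⟨t, ht⟩, hts⟩ := (IsLocalization.map_eq_zero_iff
        (hU.primeIdealOf ⟨f.fiberι η a, hxU⟩).asIdeal.primeCompl _ s).mp h0
      exact ht (hxq.symm ▸ hJq ((hJ t).mpr hts))
    obtain ⟨r, hr0, hr⟩ := hmeet
    have hreg : IsSMulRegular Γ(X, U) r := Module.Flat.isSMulRegular_of_nonZeroDivisors (mem_nonZeroDivisors_of_ne_zero hr0)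
    refine hreg ?_
    show r • s = r • 0
    rw [smul_zero, Algebra.smul_def]
    exact hr
  haveI : ∀ x : X, _root_.IsReduced (X.presheaf.stalk x) := fun x => by
    obtain ⟨V, hV, hfx, -⟩ := exists_isAffineOpen_mem_and_subset (x := f x) (U := ⊤) trivial
    obtain ⟨U, hU, hxU, hUV⟩ := exists_isAffineOpen_mem_and_subset (x := x) (U := f ⁻¹ᵁ V) hfx
    haveI := haff V U hV hU hUV ⟨x, hxU⟩
    letI := X.presheaf.algebra_section_stalk ⟨x, hxU⟩
    haveI := hU.isLocalization_stalk ⟨x, hxU⟩
    exact isReduced_localizationPreserves (hU.primeIdealOf ⟨x, hxU⟩).asIdeal.primeCompl (X.presheaf.stalk x) ‹_root_.IsReduced Γ(X, U)›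
  haveI : AlgebraicGeometry.IsReduced X := AlgebraicGeometry.isReduced_of_isReduced_stalk X
  exact isIntegral_of_irreducibleSpace_of_isReduced X

end Groth.Agent.S8886
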