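import Groth.Statements.S8887
import Groth.Agent.Lib.TensorMod.FPCrit
import Groth.Agent.Lib.Modules.ZeroLocus
import Groth.Agent.Lib.Modules.FreeStalk
import Groth.Agent.Lib.CohBasics.Affine
import Groth.Agent.Lib.StalkLoc.Basic
import Groth.Agent.Lib.DerivedOX.PullbackStalk
import Mathlib.AlgebraicGeometry.FunctionField

set_option autoImplicit false
universe u
open CategoryTheory CategoryTheory.Limits AlgebraicGeometry TopologicalSpace
open SDiv

namespace Groth.Agent.S8887

open Groth.Agent.Lib

/-- A finite module over a domain is free up to modules killed by some `s ≠ 0`. -/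
theorem exists_free_sub {A M : Type u} [CommRing A] [IsDomain A] [AddCommGroup M] [Module A M]
    [Module.Finite A M] : ∃ (r : ℕ) (f : (Fin r → A) →ₗ[A] M), Function.Injective f ∧
      ∃ s : A, s ≠ 0 ∧ ∀ v, s • v ∈ LinearMap.range f := by
  classical
  obtain ⟨n, v, hv⟩ := Module.Finite.exists_fin (R := A) (M := M)
  obtain ⟨S, hS, hmax⟩ := Finset.exists_max_image
    (Finset.univ.filter fun S : Finset (Fin n) => LinearIndepOn A v (S : Set (Fin n))) Finset.card
    ⟨∅, by simp⟩
  replace hS := (Finset.mem_filter.1 hS).2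
  let e := (Finset.equivFin S).symm
  let w : Fin S.card → M := fun i => v (e i)
  have hw : LinearIndependent A w := hS.comp _ e.injective
  have hrw : LinearMap.range (Fintype.linearCombination A w) = Submodule.span A (v '' (S : Set (Fin n))) := by
    rw [Fintype.range_linearCombination]
    congr 1
    ext m
    constructor
    · rintro ⟨i, rfl⟩; exact ⟨_, (e i).2, rfl⟩
    · rintro ⟨j, hj, rfl⟩; exact ⟨e.symm ⟨j, hj⟩, by simp [w]⟩
  refine ⟨_, Fintype.linearCombination A w, hw.fintypeLinearCombination_injective, ?_⟩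
  rw [hrw]
  have hj : ∀ j, ∃ c : A, c ≠ 0 ∧ c • v j ∈ Submodule.span A (v '' (S : Set (Fin n))) := by
    intro j
    by_cases hjS : j ∈ S
    · exact ⟨1, one_ne_zero, by rw [one_smul]; exact Submodule.subset_span ⟨j, hjS, rfl⟩⟩
    by_contra hc
    simp only [ne_eq, not_exists, not_and] at hc
    have := hmax (insert j S) (Finset.mem_filter.2 ⟨Finset.mem_univ _, ?_⟩)
    · rw [Finset.card_insert_of_notMem hjS] at this; lia
    rw [linearIndepOn_finset_iff]
    intro g hg i hi
    rw [Finset.sum_insert hjS] at hg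
    have hmem : g j • v j ∈ Submodule.span A (v '' (S : Set (Fin n))) := by
      rw [eq_neg_of_add_eq_zero_left hg]
      exact neg_mem (sum_mem fun k hk => Submodule.smul_mem _ _ (Submodule.subset_span ⟨k, hk, rfl⟩))
    have hgj : g j = 0 := by_contra fun h => hc (g j) h hmem
    rcases Finset.mem_insert.1 hi with rfl | hi
    · exact hgj
    · rw [hgj, zero_smul, zero_add] at hg
      exact linearIndepOn_finset_iff.1 hS g hg i hi
  choose c hc0 hc using hj
  refine ⟨∏ j, c j, Finset.prod_ne_zero_iff.2 fun j _ => hc0 j, fun m => ?_⟩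
  have hm : m ∈ Submodule.span A (Set.range v) := hv ▸ Submodule.mem_top
  induction hm using Submodule.span_induction with
  | mem _ h =>
    obtain ⟨j, rfl⟩ := h
    rw [← Finset.prod_erase_mul _ _ (Finset.mem_univ j), mul_smul]
    exact Submodule.smul_mem _ _ (hc j)
  | zero => simp
  | add _ _ _ _ h₁ h₂ => rw [smul_add]; exact add_mem h₁ h₂
  | smul a _ _ h => rw [smul_comm]; exact Submodule.smul_mem _ _ h

theorem exists_fp_basicOpen {X : Scheme.{u}} (F : X.Modules) [F.IsQuasicoherent] {U : X.Opens}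
    (hU : IsAffineOpen U) [IsDomain Γ(X, U)] [Module.Finite Γ(X, U) Γ(F, U)] :
    ∃ s : Γ(X, U), s ≠ 0 ∧
      Module.FinitePresentation Γ(X, X.basicOpen s) Γ(F, X.basicOpen s) := by
  obtain ⟨r, F₀, hF₀, s, hs0, hrange'⟩ := exists_free_sub (A := Γ(X, U)) (M := Γ(F, U))
  refine ⟨s, hs0, ?_⟩
  letI := Modules.ZeroLocus.modBasic s F
  letI := (X.presheaf.map (homOfLE (X.basicOpen_le s)).op).hom.toAlgebra
  haveI : IsLocalization.Away s Γ(X, X.basicOpen s) := hU.isLocalization_basicOpen s
  haveI : IsScalarTower Γ(X, U) Γ(X, X.basicOpen s) Γ(F, X.basicOpen s) :=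
    IsScalarTower.of_algebraMap_smul fun _ _ => rfl
  haveI := Modules.ZeroLocus.isLocalizedModule_resBasic hU s F
  let π := Modules.ZeroLocus.resBasic s F
  haveI : IsLocalizedModule (Submonoid.powers s) (π ∘ₗ F₀) := by
    refine ⟨IsLocalizedModule.map_units π, fun y => ?_, fun {a b} h => ?_⟩
    · obtain ⟨⟨m, t⟩, ht⟩ := IsLocalizedModule.surj (Submonoid.powers s) π y
      obtain ⟨a, ha⟩ := hrange' m
      refine ⟨⟨a, ⟨s, Submonoid.mem_powers s⟩ * t⟩, ?_⟩
      rw [LinearMap.comp_apply, ha, map_smul, mul_smul]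
      exact congrArg (s • ·) ht
    · obtain ⟨c, hc⟩ := IsLocalizedModule.exists_of_eq (S := Submonoid.powers s) (f := π) h
      exact ⟨c, hF₀ (by
        change F₀ ((c : Γ(X, U)) • a) = F₀ ((c : Γ(X, U)) • b)
        rw [map_smul, map_smul]; exact hc)⟩
  let b := (Pi.basisFun Γ(X, U) (Fin r)).ofIsLocalizedModule Γ(X, X.basicOpen s) (Submonoid.powers s) (π ∘ₗ F₀)
  haveI := Module.Free.of_basis b
  haveI := Module.Finite.of_basis b
  exact Module.finitePresentation_of_projective _ _

theorem finrank_freeMod_stalk {X : Scheme.{u}} {F : X.Modules} {W : X.Opens} {n : ℕ}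
    (i : F.restrict W.ι ≅ FlatMod.freeMod (↑W) n) {x : X} (hx : x ∈ W) :
    Module.finrank (X.presheaf.stalk x) (F.presheaf.stalk x) = n := by
  have h1 := (((Groth.Agent.Lib.Modules.StalkModule.stalkModFunctor (W : Scheme.{u}) ⟨x, hx⟩).mapIso i).toLinearEquiv).rank_eq
  have h2 : Module.rank (X.presheaf.stalk (W.ι ⟨x, hx⟩)) (F.presheaf.stalk (W.ι ⟨x, hx⟩)) = _ :=
    rank_eq_of_equiv_equiv (W.ι.stalkMap ⟨x, hx⟩)
    (Modules.StalkRestrict.restrictStalkAddEquiv W.ι F ⟨x, hx⟩).symm
    (ConcreteCategory.bijective_of_isIso _) fun r m => by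
      apply (Modules.StalkRestrict.restrictStalkAddEquiv W.ι F ⟨x, hx⟩).injective
      rw [AddEquiv.apply_symm_apply]
      refine Eq.trans ?_ (Modules.StalkRestrict.restrictStalkAddEquiv_smul W.ι F ⟨x, hx⟩ r _).symm
      rw [AddEquiv.apply_symm_apply]
  have h3 := rank_eq_card_basis (Modules.FreeStalk.stalkBasis (W : Scheme.{u}) n ⟨x, hx⟩)
  refine Module.finrank_eq_of_rank_eq (h2.trans (h1.trans ?_))
  exact h3.trans (by rw [Fintype.card_fin])

/-- Let X be an integral scheme and F a quasi-coherent O_X-module of finite type, of rank r (r being the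
finite dimension of the generic stalk of F as a vector space over the function field of X). Then one
can find an open subset U of X, not empty, on which the restriction of F is isomorphic to the free
module of rank r. -/
theorem result (X : Scheme.{u}) [IsIntegral X] (F : X.Modules) (hF : Coh.IsQCoh F)
    (hft : CohB1.IsFT F) :
    ∃ U : X.Opens, (U : Set ↥X).Nonempty ∧
      Nonempty (F.restrict U.ι ≅ FlatMod.freeMod (↑U)
        (Module.finrank ↑(X.presheaf.stalk (genericPoint ↥X)) ↑(F.presheaf.stalk (genericPoint ↥X)))) := by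
  haveI : F.IsQuasicoherent := hF
  haveI : SheafOfModules.IsFiniteType (R := X.ringCatSheaf) F := hft
  obtain ⟨U, hU, hηU, -⟩ := exists_isAffineOpen_mem_and_subset
    (show genericPoint X ∈ (⊤ : X.Opens) from trivial)
  haveI : Nonempty U := ⟨⟨_, hηU⟩⟩
  haveI : Module.Finite Γ(X, U) Γ(F, U) := CohBasics.Affine.finite_sections (M := F) hU
  obtain ⟨s, hs, hfp⟩ := exists_fp_basicOpen F hU
  have hηV : genericPoint X ∈ X.basicOpen s := by
    refine ((genericPoint_spec X).mem_open_set_iff (X.basicOpen s).isOpen).2 ?_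
    rw [Set.univ_inter]
    by_contra hc
    exact hs ((basicOpen_eq_bot_iff s).1 (SetLike.coe_injective (Set.not_nonempty_iff_eq_empty.1 hc)))
  haveI : Module.Finite (X.presheaf.stalk (genericPoint X)) (F.presheaf.stalk (genericPoint X)) := by
    letI := X.presheaf.algebra_section_stalk ⟨_, hηV⟩
    letI := StalkLoc.Basic.moduleSections F hηV
    haveI := StalkLoc.Basic.isScalarTower_sections F hηV
    haveI := (hU.basicOpen s).isLocalization_stalk ⟨_, hηV⟩
    haveI := StalkLoc.Basic.isLocalizedModule_germ (M := F) (hU.basicOpen s) hηV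
    exact Module.Finite.of_isLocalizedModule
      ((hU.basicOpen s).primeIdealOf ⟨_, hηV⟩).asIdeal.primeCompl (StalkLoc.Basic.germₗ F hηV)
  letI : Field (X.presheaf.stalk (genericPoint X)) := inferInstanceAs (Field X.functionField)
  obtain ⟨W, n, hW, ⟨i⟩⟩ := TensorMod.FPCrit.exists_free_nhd (M := F) (hU.basicOpen s) hηV
  refine ⟨W, ⟨_, hW⟩, ?_⟩
  rw [finrank_freeMod_stalk i hW]
  exact ⟨i⟩

end Groth.Agent.S8887
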