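import Groth.Statements.S8888
import Groth.Agent.Lib.DerivedOX.PullbackStalk
import Mathlib.AlgebraicGeometry.FunctionField

set_option autoImplicit false
universe u
open CategoryTheory CategoryTheory.Limits AlgebraicGeometry TopologicalSpace
open SDiv

namespace Groth.Agent.S8888

theorem rank_stalk_pullback {X Y : Scheme.{u}} (f : X ⟶ Y) (G : Y.Modules) (x : X) (y : Y)
    (hy : f x = y) [Module.Free (Y.presheaf.stalk y) (G.presheaf.stalk y)]
    [Nontrivial (Y.presheaf.stalk y)] :
    Module.rank (X.presheaf.stalk x) (((Scheme.Modules.pullback f).obj G).presheaf.stalk x) =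
      Module.rank (Y.presheaf.stalk y) (G.presheaf.stalk y) := by
  subst hy
  letI : Algebra (Y.presheaf.stalk (f x)) (X.presheaf.stalk x) := (f.stalkMap x).hom.toAlgebra
  let e := ((Groth.Agent.Lib.DerivedOX.PullbackStalk.pullbackStalkIso f x).app G).toLinearEquiv
  refine e.rank_eq.symm.trans ?_
  refine (Module.rank_baseChange (R := X.presheaf.stalk x) (S := Y.presheaf.stalk (f x))
    (M' := G.presheaf.stalk (f x))).trans ?_
  simp

/-- Let f : X ⟶ Y be a dominant morphism of integral schemes and G a quasi-coherent O_Y-module. Then the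
rank of f^*G on X, the dimension of its stalk at the generic point of X over the function field of
X, equals the rank of G on Y. -/
theorem result {X Y : Scheme.{u}} [IsIntegral X] [IsIntegral Y] (f : X ⟶ Y) [IsDominant f]
    (G : Y.Modules) (hG : Coh.IsQCoh G) :
    Module.rank ↑(X.presheaf.stalk (genericPoint ↥X)) ↑(((Scheme.Modules.pullback f).obj G).presheaf.stalk (genericPoint ↥X)) =
      Module.rank ↑(Y.presheaf.stalk (genericPoint ↥Y)) ↑(G.presheaf.stalk (genericPoint ↥Y)) := by
  refine rank_stalk_pullback f G _ _ ?_
  apply ((genericPoint_spec X).image f.continuous).eq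
  rw [Set.image_univ, f.denseRange.closure_range]
  exact genericPoint_spec Y

end Groth.Agent.S8888
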