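import Groth.Statements.S8891
import Groth.Agent.Lib.RefHull.DepthIso
-- import your own Groth.Agent.* helpers here

set_option autoImplicit false
universe u
open CategoryTheory CategoryTheory.Limits AlgebraicGeometry TopologicalSpace
open SDiv

namespace Groth.Agent.S8891

/-- Let X be an integral locally Noetherian scheme and φ : F ⟶ G a morphism of quasi-coherent
O_X-modules with F coherent and G torsion free. Assume that for every point x either the stalk map
F_x → G_x is an isomorphism, or depth(F_x) ≥ 2 and x is not the generic point of X. Then φ is an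
isomorphism. (The published statement allows the second alternative at the generic point as well;
since the zero module has infinite depth, F = 0 and G = O_X then satisfy every hypothesis while 0 →
O_X is not an isomorphism. The general criterion this is a special case of requires x not to be
associated to G, which for torsion-free G ≠ 0 fails exactly at the generic point; so the generic
point is excluded from the second alternative here.) -/
theorem result (X : Scheme.{u}) [IsIntegral X] [IsLocallyNoetherian X] {F G : X.Modules}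
    (φ : F ⟶ G) (hF : Coh.IsCoh F) (hG : Coh.IsQCoh G)
    (htf : ∀ x : ↥X, NoZeroSMulDivisors ↑(X.presheaf.stalk x) ↑(G.presheaf.stalk x))
    (h : ∀ x : ↥X, Function.Bijective ((TopCat.Presheaf.stalkFunctor AddCommGrpCat.{u} x).map (Scheme.Modules.Hom.mapPresheaf φ)) ∨
      ((2 : ℕ∞) ≤ LocCoh.depth (X.presheaf.stalk x) (F.presheaf.stalk x) ∧ x ≠ genericPoint ↥X)) :
    IsIso φ := by
  refine Groth.Agent.Lib.RefHull.DepthIso.isIso φ hF hG fun x => (h x).imp id fun ⟨h1, h2⟩ => ⟨h1, fun hass => h2 ?_⟩
  obtain ⟨hp, n, hn⟩ := hass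
  have hn0 : n ≠ 0 := fun e => hp.ne_top (by
    rw [hn, e]
    simp [Ideal.radical_top, Submodule.colon_eq_top_iff_subset])
  have hm : IsLocalRing.maximalIdeal (X.presheaf.stalk x) = ⊥ := by
    rw [hn, eq_bot_iff]
    rintro a ⟨k, ha⟩
    have e := (Submodule.mem_bot _).mp (Submodule.mem_colon_singleton.mp ha)
    haveI := htf x
    exact (Submodule.mem_bot _).mpr
      (eq_zero_of_pow_eq_zero ((eq_zero_or_eq_zero_of_smul_eq_zero e).resolve_right hn0))
  obtain ⟨V, hV, hxV, -⟩ := exists_isAffineOpen_mem_and_subset (X := X) (x := x) (U := ⊤) trivial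
  have hp0 : (hV.primeIdealOf ⟨x, hxV⟩).asIdeal = ⊥ := by
    rw [eq_bot_iff]
    intro r hr
    by_contra hr0
    refine (Groth.Agent.Lib.QCoh.Stalk.mem_primeIdealOf_compl_iff hV hxV r).mpr ?_ hr
    refine (X.mem_basicOpen r x hxV).mpr ?_
    by_contra hu
    have h0 : X.presheaf.germ V x hxV r ∈ IsLocalRing.maximalIdeal (X.presheaf.stalk x) := hu
    rw [hm, Ideal.mem_bot] at h0
    exact hr0 (germ_injective_of_isIntegral X x hxV (h0.trans (map_zero _).symm))
  haveI : Nonempty V := ⟨⟨x, hxV⟩⟩
  have hη : genericPoint ↥X ∈ V :=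
    ((genericPoint_spec ↥X).mem_open_set_iff V.isOpen).mpr ⟨x, trivial, hxV⟩
  have e1 := hV.fromSpec_primeIdealOf ⟨x, hxV⟩
  have e2 := hV.fromSpec_primeIdealOf ⟨genericPoint ↥X, hη⟩
  refine e1.symm.trans (Eq.trans (congrArg _ ?_) e2)
  rw [hV.primeIdealOf_genericPoint]
  refine PrimeSpectrum.ext (hp0.trans ?_)
  haveI : IsDomain Γ(X, V) := inferInstance
  rw [genericPoint_eq_bot_of_affine Γ(X, V)]
  rfl

end Groth.Agent.S8891
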