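import Groth.Statements.S8893
import Groth.Agent.H26.RelQuasi
import Groth.Agent.H26.RegImmKind


set_option autoImplicit false
universe u
open CategoryTheory CategoryTheory.Limits AlgebraicGeometry TopologicalSpace
open SDiv

namespace Groth.Agent.S8893

/-- Let f : X ⟶ S be a morphism of schemes and i : Z ⟶ X a relative quasi-regular immersion (a
quasi-regular immersion with Z flat over S). If z is a point of Z such that O_{X, i z} is
Noetherian, then f is flat at i z. -/
theorem result {Z X S : Scheme.{u}} (f : X ⟶ S) (i : Z ⟶ X)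
    (hi : RegImm.IsRelRegularImmersion RegImm.Kind.quasi f i) (z : ↥Z) [IsNoetherianRing ↑(X.presheaf.stalk (i z))] :
    (f.stalkMap (i z)).hom.Flat := by
  obtain ⟨⟨U, hU⟩, hzU, hcl, rs, hrs, hker⟩ := hi.1.2 z
  haveI : IsClosedImmersion (i ∣_ U) := hcl
  haveI := hi.2
  letI := TopCat.Presheaf.algebra_section_stalk X.presheaf (⟨i z, hzU⟩ : U)
  haveI hloc := hU.isLocalization_stalk ⟨i z, hzU⟩
  let L := X.presheaf.stalk (i z)
  let g : Fin rs.length → L := fun k => algebraMap Γ(X, U) L (rs.get k)
  have hspan : Ideal.span (Set.range g) = RingHom.ker (i.stalkMap z).hom := by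
    rw [Groth.Agent.H26.RegImmKind.ker_stalkMap i hU z hzU, hker]
    have e : Ideal.ofList rs = Ideal.span (Set.range rs.get) := by
      conv_lhs => rw [← List.ofFn_get rs]
      exact Groth.Agent.H26.Triv.ofList_ofFn _
    rw [e, Ideal.map_span, ← Set.range_comp]
    rfl
  have hm : ∀ k, g k ∈ IsLocalRing.maximalIdeal L := fun k =>
    IsLocalRing.le_maximalIdeal (RingHom.ker_ne_top _) (hspan.le (Ideal.subset_span ⟨k, rfl⟩))
  have hw := Groth.Agent.H26.RelQuasi.weaklyRegular_of_quasi g hm
    (Groth.Agent.H26.RegQuasi.quasi_localization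
      (hU.primeIdealOf ⟨i z, hzU⟩).asIdeal.primeCompl hrs)
  letI : Algebra (S.presheaf.stalk (f (i z))) L := (f.stalkMap (i z)).hom.toAlgebra
  refine Groth.Agent.H26.RelQuasi.flat_of_weaklyRegular (A := S.presheaf.stalk (f (i z))) L
    (List.ofFn g) hw (fun r hr => ?_) ?_
  · obtain ⟨k, rfl⟩ := List.mem_ofFn.mp hr
    exact hm k
  · rw [Groth.Agent.H26.Triv.ofList_ofFn, hspan, ← RingHom.flat_algebraMap_iff]
    haveI : IsImmersion i := hi.1.1
    let e := RingHom.quotientKerEquivOfSurjective (i.stalkMap_surjective z)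
    refine (RingHom.Flat.comp_iff_of_bijective_left (g := e.toRingHom) e.bijective).1 ?_
    have h2 := Flat.stalkMap (i ≫ f) z
    rw [Scheme.Hom.stalkMap_comp] at h2
    exact h2

end Groth.Agent.S8893
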