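import Groth.Statements.S8894
import Groth.Agent.H26.RelQuasiScheme


set_option autoImplicit false
universe u
open CategoryTheory CategoryTheory.Limits AlgebraicGeometry TopologicalSpace
open SDiv

namespace Groth.Agent.S8894

/-- Let f : X ⟶ S be flat and locally of finite presentation and i : Z ⟶ X a relative quasi-regular
immersion (quasi-regular immersion with Z flat over S). Then i is a regular immersion, and for every
g : S' ⟶ S the base change of i to X ×_S S' is a regular immersion. -/
theorem result {Z X S : Scheme.{u}} (f : X ⟶ S) [Flat f] [LocallyOfFinitePresentation f]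
    (i : Z ⟶ X) (hi : RegImm.IsRelRegularImmersion RegImm.Kind.quasi f i) :
    RegImm.IsRegularImmersion RegImm.Kind.regular i ∧
      ∀ (S' : Scheme.{u}) (g : S' ⟶ S), RegImm.IsRegularImmersion RegImm.Kind.regular (pullback.snd i (pullback.fst f g)) := by
  haveI : IsImmersion i := hi.1.1
  haveI := hi.2
  refine ⟨⟨inferInstance, fun z => Groth.Agent.H26.RelQuasiScheme.regularAt f i z (hi.1.2 z)⟩,
    fun S' g => ?_⟩
  have hX : IsPullback (pullback.fst f g) (pullback.snd f g) f g := IsPullback.of_hasPullback f g
  have hsq := IsPullback.of_hasPullback i (pullback.fst f g)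
  haveI : Flat (pullback.snd i (pullback.fst f g) ≫ pullback.snd f g) :=
    Groth.Agent.H26.RelQuasiScheme.flat_comp_baseChange f i g hX hsq
  haveI : Flat (pullback.snd f g) := MorphismProperty.pullback_snd f g inferInstance
  haveI : LocallyOfFinitePresentation (pullback.snd f g) := MorphismProperty.pullback_snd f g inferInstance
  haveI : IsImmersion (pullback.snd i (pullback.fst f g)) :=
    MorphismProperty.pullback_snd (P := @IsImmersion) _ _ inferInstance
  exact ⟨inferInstance, fun z => Groth.Agent.H26.RelQuasiScheme.regularAt (pullback.snd f g) _ z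
    (Groth.Agent.H26.RelQuasiScheme.quasiAt_baseChange f i g hX hsq z (hi.1.2 _))⟩

end Groth.Agent.S8894
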