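import Groth.Statements.S8896
import Groth.Agent.H26.RelQuasiScheme
import Groth.Agent.H26.RegImmFibre
import Groth.Agent.H26.RegKinds


set_option autoImplicit false
universe u
open CategoryTheory CategoryTheory.Limits AlgebraicGeometry TopologicalSpace
open SDiv

namespace Groth.Agent.S8896

/-- Let φ : X ⟶ S be flat and locally of finite presentation and 𝓘 a quasi-coherent ideal sheaf on X
whose closed subscheme T is flat and locally of finite presentation over S. If for every point s of
S the fibre T_s ⟶ X_s (base change of T ⟶ X to the scheme-theoretic fibre) is a quasi-regular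
immersion, then T ⟶ X is a relative quasi-regular immersion. -/
theorem result {X S : Scheme.{u}} (φ : X ⟶ S) [Flat φ] [LocallyOfFinitePresentation φ]
    (𝓘 : X.IdealSheafData) [Flat (𝓘.subschemeι ≫ φ)] [LocallyOfFinitePresentation (𝓘.subschemeι ≫ φ)]
    (hfib : ∀ s : ↥S, RegImm.IsRegularImmersion RegImm.Kind.quasi (pullback.snd 𝓘.subschemeι (φ.fiberι s))) :
    RegImm.IsRelRegularImmersion RegImm.Kind.quasi φ 𝓘.subschemeι := by
  haveI : Flat (𝓘.subschemeι ≫ φ) := inferInstance
  refine ⟨⟨inferInstance, fun z => ?_⟩, inferInstance⟩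
  set u := 𝓘.subschemeι
  have hreg : RegImm.IsRegularImmersionAt .regular u z := by
    let s := (u ≫ φ) z
    haveI := Groth.Agent.H26.RegImmFibre.isLocallyNoetherian_fiber φ s
    haveI := Groth.Agent.H26.RegImmFibre.isClosedImmersion_fiberMap u φ s
    obtain ⟨e, he, -⟩ := Groth.Agent.Lib.Flat55.FibreTransfer.exists_iso_fiberMap u φ s
    let a := (u ≫ φ).asFiber z
    have hr := Groth.Agent.H26.RegQuasi.regular_of_quasi (pullback.snd u (φ.fiberι s)) (e.inv a)
      ((hfib s).2 _)
    have hk := Groth.Agent.H26.RegImmKind.isRegularIdeal_ker hr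
    have hm : MoreMor.fiberMap u φ s = e.inv ≫ pullback.snd u (φ.fiberι s) := by
      rw [← he, Iso.inv_hom_id_assoc]
    have hk' : CInt.IsRegularIdeal (RingHom.ker ((MoreMor.fiberMap u φ s).stalkMap a).hom) := by
      have key : ∀ (m : (u ≫ φ).fiber s ⟶ φ.fiber s), m = e.inv ≫ pullback.snd u (φ.fiberι s) →
          CInt.IsRegularIdeal (RingHom.ker (m.stalkMap a).hom) := by
        rintro _ rfl
        rw [Scheme.Hom.stalkMap_comp]
        show CInt.IsRegularIdeal (RingHom.ker ((e.inv.stalkMap a).hom.comp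
          ((pullback.snd u (φ.fiberι s)).stalkMap (e.inv a)).hom))
        rw [← RingHom.comap_ker,
          (RingHom.injective_iff_ker_eq_bot _).mp (ConcreteCategory.bijective_of_isIso (e.inv.stalkMap a)).1,
          ← RingHom.ker_eq_comap_bot]
        exact hk
      exact key _ hm
    rw [Groth.Agent.H26.RegImmFibre.isRegularIdeal_fibre_iff u φ s a z ((u ≫ φ).fiberι_asFiber z)] at hk'
    obtain ⟨D, hD, hzD, rs, hw, hker⟩ := Groth.Agent.H26.RegImmFibre.regular_near u φ z
      (Flat.stalkMap φ (u z)) (Flat.stalkMap (u ≫ φ) z) hk'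
    exact Groth.Agent.H26.RelQuasiScheme.regularAt_of_weaklyRegular u z hD hzD inferInstance rs hw
      ((Scheme.Hom.ker_apply u ⟨D, hD⟩).symm.trans hker)
  obtain ⟨U, hzU, hcl, rs, hrs, hker⟩ := hreg
  exact ⟨U, hzU, hcl, rs, Groth.Agent.H26.H1Quasi.isQuasiRegular
    (Groth.Agent.H26.RegKinds.h1_of_koszul rs (Groth.Agent.H26.RegKinds.koszul_of_regular rs hrs)), hker⟩

end Groth.Agent.S8896
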