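import Groth.Statements.S8900
import Groth.Agent.H20.WeakAssField
import Groth.Agent.H52.FBase.StalkBC
import Groth.Agent.Lib.AssPt.Modules
import Groth.Agent.Lib.Modules.StalkModule

set_option autoImplicit false
universe u
open CategoryTheory CategoryTheory.Limits AlgebraicGeometry TopologicalSpace
open SDiv

namespace Groth.Agent.S8900

open TensorProduct Groth.Agent.Lib.EtMod.WeakAssAlg Groth.Agent.H20.WeakAssField
open Groth.Agent.H52.FBase

theorem isLocalization_atPrime_self {R : Type u} [CommRing R] [IsLocalRing R] :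
    IsLocalization.AtPrime R (IsLocalRing.maximalIdeal R) :=
  IsLocalization.of_le_isUnit fun _ hx => IsLocalRing.notMem_maximalIdeal.1 hx

theorem contracts_local {A P L R' : Type u} [CommRing A] [CommRing P] [CommRing L] [CommRing R']
    [IsLocalRing L] [IsLocalRing R'] [Algebra A P] [Algebra A L] [Algebra P R'] [Algebra A R']
    [IsScalarTower A P R'] [Algebra L R'] [IsScalarTower A L R'] (q : Ideal P) [q.IsPrime]
    [IsLocalization.AtPrime R' q] (p : Ideal A) [p.IsPrime] [IsLocalization.AtPrime L p]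
    (hp : q.comap (algebraMap A P) = p) (hC : Contracts A P) {N : Type u} [AddCommGroup N] [Module L N]
    (z : R' ⊗[L] N) (hz : (Ann (A := R') z).radical = IsLocalRing.maximalIdeal R') :
    ∃ n : N, (Ann (A := L) n).radical = IsLocalRing.maximalIdeal L := by
  letI : Module A N := Module.compHom N (algebraMap A L)
  haveI : IsScalarTower A L N := IsScalarTower.of_compHom A L N
  haveI : TensorProduct.CompatibleSMul A L R' N :=
    IsLocalization.tensorProduct_compatibleSMul p.primeCompl L R' N
  let e : R' ⊗[A] N ≃ₗ[R'] R' ⊗[L] N :=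
    TensorProduct.equivOfCompatibleSMul L A R' R' N
  haveI := isLocalization_atPrime_self (R := R')
  have hmin : IsLocalRing.maximalIdeal R' ∈ (Ann (A := R') (e.symm z)).minimalPrimes := by
    rw [ann_congr e.symm]
    exact (Groth.Agent.Lib.AssPt.Modules.radical_map_eq_maximalIdeal_iff (R := R') (S := R')
      (IsLocalRing.maximalIdeal R') (Ann (A := R') z)).1 (by rwa [Algebra.algebraMap_self, Ideal.map_id])
  have hT : Contracts A R' :=
    Groth.Agent.H20.WeakAssField.trans hC (of_isLocalization (A := P) (B := R') q.primeCompl)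
  obtain ⟨n, hn⟩ := hT N (IsLocalRing.maximalIdeal R') ⟨e.symm z, hmin⟩
  have hq : (IsLocalRing.maximalIdeal R').comap (algebraMap A R') = p := by
    rw [IsScalarTower.algebraMap_eq A P R', ← Ideal.comap_comap,
      ← Ideal.under_def P, IsLocalization.AtPrime.under_maximalIdeal R' q, hp]
  rw [hq] at hn
  have hA : Ann (A := A) n = (Ann (A := L) n).comap (algebraMap A L) :=
    Ideal.ext fun t => by rw [Ideal.mem_comap, mem_Ann, mem_Ann, algebraMap_smul]
  refine ⟨n, ?_⟩
  rw [← IsLocalization.map_under p.primeCompl L (Ann (A := L) n), Ideal.under_def, ← hA]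
  exact (Groth.Agent.Lib.AssPt.Modules.radical_map_eq_maximalIdeal_iff (S := L) p _).2 hn

theorem isWeakAssPoint_congr {X : Scheme.{u}} {M N : X.Modules} (e : M ≅ N) {x : X}
    (h : Curv2.IsWeakAssPoint M x) : Curv2.IsWeakAssPoint N x := by
  obtain ⟨m, hm⟩ := h
  exact ⟨Groth.Agent.Lib.Modules.StalkModule.stalkLinearEquiv e x m,
    (congrArg Ideal.radical (ann_congr (Groth.Agent.Lib.Modules.StalkModule.stalkLinearEquiv e x) m)).trans hm⟩

theorem isWeakAssPoint_pullback_iff {X S : Scheme.{u}} (f : X ⟶ S) (G : S.Modules) (x : X)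
    (hb : Function.Bijective (f.stalkMap x).hom) :
    Curv2.IsWeakAssPoint ((Scheme.Modules.pullback f).obj G) x ↔ Curv2.IsWeakAssPoint G (f x) := by
  letI : Algebra (S.presheaf.stalk (f x)) (X.presheaf.stalk x) := (f.stalkMap x).hom.toAlgebra
  haveI : IsLocalization (IsUnit.submonoid (S.presheaf.stalk (f x))) (X.presheaf.stalk x) :=
    IsLocalization.of_le_isUnit_of_bijective Algebra.algebraMapSubmonoid_isUnit_le_isUnit hb
  haveI : Module.Flat (S.presheaf.stalk (f x)) (X.presheaf.stalk x) :=
    IsLocalization.flat _ (IsUnit.submonoid (S.presheaf.stalk (f x)))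
  let e : TensorProduct (S.presheaf.stalk (f x)) (X.presheaf.stalk x) (G.presheaf.stalk (f x)) ≃ₗ[X.presheaf.stalk x]
      ((Scheme.Modules.pullback f).obj G).presheaf.stalk x :=
    ((Groth.Agent.Lib.DerivedOX.PullbackStalk.pullbackStalkIso f x).app G).toLinearEquiv
  have key : ∀ m : G.presheaf.stalk (f x),
      ((Ann (A := X.presheaf.stalk x) (e (1 ⊗ₜ m))).radical = IsLocalRing.maximalIdeal _ ↔
        (Ann (A := S.presheaf.stalk (f x)) m).radical = IsLocalRing.maximalIdeal _) := fun m => by
    rw [ann_congr e]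
    have hann : Ann (A := X.presheaf.stalk x) ((1 : X.presheaf.stalk x) ⊗ₜ[S.presheaf.stalk (f x)] m) =
        (Ann (A := S.presheaf.stalk (f x)) m).map (f.stalkMap x).hom :=
      Groth.Agent.S8899.ann_one_tmul (T := X.presheaf.stalk x) m
    rw [hann]
    have hc : (IsLocalRing.maximalIdeal (X.presheaf.stalk x)).comap (f.stalkMap x).hom =
        IsLocalRing.maximalIdeal _ := IsLocalRing.eq_maximalIdeal (Ideal.comap_isMaximal_of_surjective _ hb.2)
    constructor
    · intro h
      rw [← hc, ← h, Ideal.comap_radical, Ideal.comap_map_of_bijective _ hb]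
    · intro h
      refine Ideal.comap_injective_of_surjective _ hb.2 ?_
      rw [hc, Ideal.comap_radical, Ideal.comap_map_of_bijective _ hb, h]
  constructor
  · rintro ⟨t, ht⟩
    obtain ⟨w, rfl⟩ := e.surjective t
    haveI : IsLocalizedModule (IsUnit.submonoid (S.presheaf.stalk (f x)))
        (TensorProduct.mk (S.presheaf.stalk (f x)) (X.presheaf.stalk x) (G.presheaf.stalk (f x)) 1) :=
      (isLocalizedModule_iff_isBaseChange _ (X.presheaf.stalk x) _).2
        (TensorProduct.isBaseChange _ _ _)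
    obtain ⟨⟨m, s⟩, hms⟩ := IsLocalizedModule.surj (IsUnit.submonoid (S.presheaf.stalk (f x)))
      (TensorProduct.mk (S.presheaf.stalk (f x)) (X.presheaf.stalk x) (G.presheaf.stalk (f x)) 1) w
    refine ⟨m, (key m).1 ((congrArg Ideal.radical ?_).trans ht)⟩
    change Ann (e (1 ⊗ₜ m)) = Ann (e w)
    rw [ann_congr e, ann_congr e, show (1 : X.presheaf.stalk x) ⊗ₜ[S.presheaf.stalk (f x)] m = s • w
      from hms.symm, Submonoid.smul_def, ← algebraMap_smul (X.presheaf.stalk x) s.1 w]
    exact ann_unit_smul (IsLocalization.map_units (X.presheaf.stalk x) s) w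
  · rintro ⟨m, hm⟩
    exact ⟨e (1 ⊗ₜ m), (key m).2 hm⟩

theorem isWeakAssPoint_of_spec {A P : CommRingCat.{u}} (φ : A ⟶ P)
    (hC : @Contracts A P _ _ φ.hom.toAlgebra) (M : (Spec A).Modules) (q : Spec P)
    (h : Curv2.IsWeakAssPoint ((Scheme.Modules.pullback (Spec.map φ)).obj M) q) :
    Curv2.IsWeakAssPoint M (Spec.map φ q) := by
  obtain ⟨t, ht⟩ := h
  letI : Algebra A P := φ.hom.toAlgebra
  letI : Algebra A ((Spec A).presheaf.stalk (Spec.map φ q)) :=
    StructureSheaf.stalkAlgebra A (Spec.map φ q)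
  haveI : IsLocalization.AtPrime ((Spec A).presheaf.stalk (Spec.map φ q))
      (Spec.map φ q).asIdeal := StructureSheaf.IsLocalization.to_stalk A (Spec.map φ q)
  letI : Algebra P ((Spec P).presheaf.stalk q) := StructureSheaf.stalkAlgebra P q
  haveI : IsLocalization.AtPrime ((Spec P).presheaf.stalk q) q.asIdeal :=
    StructureSheaf.IsLocalization.to_stalk P q
  letI : Algebra ((Spec A).presheaf.stalk (Spec.map φ q)) ((Spec P).presheaf.stalk q) :=
    ((Spec.map φ).stalkMap q).hom.toAlgebra
  letI : Algebra A ((Spec P).presheaf.stalk q) :=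
    ((algebraMap P ((Spec P).presheaf.stalk q)).comp φ.hom).toAlgebra
  haveI : IsScalarTower A P ((Spec P).presheaf.stalk q) := IsScalarTower.of_algebraMap_eq' rfl
  haveI : IsScalarTower A ((Spec A).presheaf.stalk (Spec.map φ q)) ((Spec P).presheaf.stalk q) :=
    IsScalarTower.of_algebraMap_eq' (congrArg CommRingCat.Hom.hom (stalkMap_toStalk φ q)).symm
  let e := ((Groth.Agent.Lib.DerivedOX.PullbackStalk.pullbackStalkIso (Spec.map φ) q).app M).toLinearEquiv
  obtain ⟨z, rfl⟩ := e.surjective t
  exact contracts_local (A := A) (P := P) (L := (Spec A).presheaf.stalk (Spec.map φ q))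
    (R' := (Spec P).presheaf.stalk q) q.asIdeal (Spec.map φ q).asIdeal rfl hC z
    ((congrArg Ideal.radical (ann_congr e z)).symm.trans ht)

theorem main {k : Type u} [Field k] {X : Scheme.{u}} (f : X ⟶ Spec (CommRingCat.of k)) (x : X)
    (K : Type u) [Field K] [Algebra k K] (F : X.Modules)
    (q : Spec (CommRingCat.of (StalkBC.Ox f x ⊗[k] K)))
    (hy : Curv2.IsWeakAssPoint ((Scheme.Modules.pullback (_root_.FBase.bcπ f K)).obj F)
      (StalkBC.j f x K q)) :
    Curv2.IsWeakAssPoint F ((_root_.FBase.bcπ f K) (StalkBC.j f x K q)) := by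
  have h1 := (isWeakAssPoint_pullback_iff (StalkBC.j f x K)
    ((Scheme.Modules.pullback (_root_.FBase.bcπ f K)).obj F) q
    (StalkBC.bijective_stalkMap (StalkBC.j f x K) q)).2 hy
  have h2 := isWeakAssPoint_congr ((Scheme.Modules.pullbackComp (StalkBC.j f x K) (_root_.FBase.bcπ f K)).app F ≪≫
    (Scheme.Modules.pullbackCongr (StalkBC.j_π f x K)).app F ≪≫
    ((Scheme.Modules.pullbackComp (Spec.map (CommRingCat.ofHom (algebraMap (StalkBC.Ox f x)
      (StalkBC.Ox f x ⊗[k] K)))) (StalkBC.fromOx f x)).app F).symm) h1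
  have hC : @Contracts (StalkBC.Ox f x) (StalkBC.Ox f x ⊗[k] K) _ _
      (algebraMap (StalkBC.Ox f x) (StalkBC.Ox f x ⊗[k] K)).toAlgebra := by
    convert contracts_tensor (k := k) (StalkBC.Ox f x) K
    exact Algebra.algebra_ext _ _ fun _ => rfl
  have h3 := isWeakAssPoint_of_spec (A := CommRingCat.of (StalkBC.Ox f x))
    (P := CommRingCat.of (StalkBC.Ox f x ⊗[k] K)) _ hC _ q h2
  have h4 := (isWeakAssPoint_pullback_iff (StalkBC.fromOx f x) F _
    (StalkBC.bijective_stalkMap (StalkBC.fromOx f x) _)).1 h3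
  rw [StalkBC.j_π_apply]
  exact h4

/-- Let K/k be an extension of fields, X a scheme over k, F a quasi-coherent O_X-module, and y a point
of X_K = X ×_k Spec K with image x in X. If y is weakly associated to the pullback of F to X_K, then
x is weakly associated to F. -/
theorem result (k : Type u) [Field k] (K : Type u) [Field K] [Algebra k K] (X : Scheme.{u})
    [X.Over (Spec (CommRingCat.of k))] (F : X.Modules) (hF : Coh.IsQCoh F) (y : ↥(Curv2.bc k X K))
    (hy : Curv2.IsWeakAssPoint ((Scheme.Modules.pullback (Curv2.bcFst k X K)).obj F) y) :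
    Curv2.IsWeakAssPoint F (Curv2.bcFst k X K y) := by
  obtain ⟨q, hq⟩ := StalkBC.exists_j_eq (X ↘ Spec (CommRingCat.of k)) (Curv2.bcFst k X K y) K y
    (specializes_rfl (x := Curv2.bcFst k X K y))
  exact hq ▸ main (X ↘ Spec (CommRingCat.of k)) (Curv2.bcFst k X K y) K F q (hq.symm ▸ hy)

end Groth.Agent.S8900
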