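import Groth.Statements.S8903
import Groth.Agent.Lib.Cyc.C1Indep
import Groth.Agent.Lib.TensorMod.QCohInv
import Groth.Agent.Lib.QCoh.Stalk
-- import your own Groth.Agent.* helpers here

set_option autoImplicit false
universe u
open CategoryTheory CategoryTheory.Limits AlgebraicGeometry TopologicalSpace
open SDiv

namespace Groth.Agent.S8903

/-- Suppose X is a scheme, L is an O_X-module that is invertible, and s is a meromorphic section of L
which is regular. Then the ideal of denominators of s, U ↦ {f ∈ O_X(U) | f·s ∈ L(U)}, is a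
quasi-coherent ideal sheaf: there is a quasi-coherent ideal sheaf I whose ideal on every affine open
U is the ideal of denominators over U; and the closed subset of X cut out by I (the support of
O_X/I) is nowhere dense. The published statement also asserts that the cokernel of the map I → L
given by s is supported on a closed nowhere dense subset; this row does not state that part. -/
theorem result (X : Scheme.{u}) (L : X.Modules) (hL : PicF.IsInvertible L)
    (s : Γ(Mero.merMod L, ⊤)) (hs : Mero.IsRegularMero L s) :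
    ∃ I : X.IdealSheafData, (∀ U : X.affineOpens, I.ideal U = Mero.denomIdeal L s U.1) ∧
      interior (I.support : Set ↥X) = ∅ := by
  classical
  haveI : L.IsQuasicoherent := Groth.Agent.Lib.TensorMod.QCohInv.isQCoh_of_isInvertible hL
  have hι : ∀ (x : X) (v : L.presheaf.stalk x),
      LocalizedModule.mkLinearMap (Mero.regStalk X x) (L.presheaf.stalk x) v = 0 → v = 0 := by
    intro x v hv
    obtain ⟨c, hc⟩ := (IsLocalizedModule.eq_zero_iff (Mero.regStalk X x)
      (LocalizedModule.mkLinearMap (Mero.regStalk X x) (L.presheaf.stalk x))).mp hv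
    obtain ⟨t, ht, hfree⟩ := Groth.Agent.Lib.Cyc.C1Indep.exists_free_gen hL x
    obtain ⟨a, rfl⟩ := Submodule.mem_span_singleton.mp (show v ∈ Submodule.span (X.presheaf.stalk x) {t} by rw [ht]; trivial)
    have h0 : c.1 * a = 0 := hfree _ (by rw [mul_smul]; exact hc)
    rw [(mul_left_mem_nonZeroDivisors_eq_zero_iff (Mero.regStalk_le_nonZeroDivisors x c.2)).mp h0, zero_smul]
  have hrep : ∀ (O : X.Opens) (x : X), x ∈ O → ∃ (W : X.Opens) (_ : IsAffineOpen W) (_ : x ∈ W) (_ : W ≤ O)
      (m : Γ(L, W)) (b : Mero.regSub X W), ∀ (y : X) (hy : y ∈ W),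
        X.presheaf.germ W y hy b.1 • s.1 ⟨y, Opens.mem_top y⟩ =
          LocalizedModule.mkLinearMap (Mero.regStalk X y) _ (L.presheaf.germ W y hy m) := by
    intro O x hx
    obtain ⟨V, hxV, i, m, b, h⟩ := s.2 ⟨x, Opens.mem_top x⟩
    obtain ⟨W, hW, hxW, hle⟩ := exists_isAffineOpen_mem_and_subset (show x ∈ V ⊓ O from ⟨hxV, hx⟩)
    have hWV : W ≤ V := fun y hy => (hle hy).1
    refine ⟨W, hW, hxW, fun y hy => (hle hy).2, L.presheaf.map (homOfLE hWV).op m,
      ⟨X.presheaf.map (homOfLE hWV).op b.1, Mero.regSub_res _ b.2⟩, fun y hy => ?_⟩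
    have e := h ⟨y, hWV hy⟩
    dsimp only at e
    rw [TopCat.Presheaf.germ_res_apply, TopCat.Presheaf.germ_res_apply]
    change X.presheaf.germ V y (hWV hy) b.1 • s.1 (i ⟨y, hWV hy⟩) = _
    rw [e, LocalizedModule.mkLinearMap_apply, LocalizedModule.smul'_mk, LocalizedModule.mk_eq]
    exact ⟨1, by simp [Submonoid.smul_def]⟩
  have hsep : ∀ (U : X.affineOpens) (g f : Γ(X, U.1)) (m : Γ(L, U.1)),
      (∀ (y : X) (hy : y ∈ U.1), y ∈ X.basicOpen g → X.presheaf.germ U.1 y hy f • s.1 ⟨y, Opens.mem_top y⟩ =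
        LocalizedModule.mkLinearMap (Mero.regStalk X y) _ (L.presheaf.germ U.1 y hy m)) →
      ∃ k : ℕ, g ^ k * f ∈ Mero.denomIdeal L s U.1 := by
    intro U g f m h
    have hloc : ∀ x : U.1, ∃ (W : X.Opens) (_ : x.1 ∈ W) (k : ℕ), ∀ (y : X) (hy : y ∈ U.1), y ∈ W → ∀ j, k ≤ j →
        X.presheaf.germ U.1 y hy (g ^ j * f) • s.1 ⟨y, Opens.mem_top y⟩ =
          LocalizedModule.mkLinearMap (Mero.regStalk X y) _ (L.presheaf.germ U.1 y hy (g ^ j • m)) := by
      intro x
      obtain ⟨W, hW, hxW, hWU, m1, b, hb⟩ := hrep U.1 x.1 x.2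
      let f' := X.presheaf.map (homOfLE hWU).op f
      let g' := X.presheaf.map (homOfLE hWU).op g
      let v : Γ(L, W) := f' • m1 - b.1 • L.presheaf.map (homOfLE hWU).op m
      have hv : ∀ (y : X) (hy : y ∈ W), LocalizedModule.mkLinearMap (Mero.regStalk X y) _ (L.presheaf.germ W y hy v) =
          X.presheaf.germ W y hy b.1 • (X.presheaf.germ U.1 y (hWU hy) f • s.1 ⟨y, Opens.mem_top y⟩ -
            LocalizedModule.mkLinearMap (Mero.regStalk X y) _ (L.presheaf.germ U.1 y (hWU hy) m)) := by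
        intro y hy
        simp only [v, f']
        rw [map_sub, Mero.germ_smul, Mero.germ_smul, TopCat.Presheaf.germ_res_apply,
          TopCat.Presheaf.germ_res_apply, map_sub, map_smul, map_smul, ← hb y hy, smul_sub, smul_comm]
      have hv0 : Groth.Agent.Lib.QCoh.Localizing.res L (X.basicOpen_le g') v = 0 := by
        refine TopCat.Presheaf.section_ext ⟨L.presheaf, L.isSheaf⟩ _ _ _ fun y hy => ?_
        change L.presheaf.germ _ y hy (L.presheaf.map _ v) = L.presheaf.germ _ y hy 0
        rw [TopCat.Presheaf.germ_res_apply, map_zero]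
        have hyW : y ∈ W := X.basicOpen_le g' hy
        refine hι y _ ?_
        rw [hv y hyW, h y (hWU hyW) ?_, sub_self, smul_zero]
        simp only [g', Scheme.basicOpen_res] at hy
        exact hy.2
      obtain ⟨k, hk⟩ := (Groth.Agent.Lib.QCoh.Localizing.localizes_of_isAffineOpen L hW g').sep v hv0
      refine ⟨W, hxW, k, fun y hy hyW j hj => ?_⟩
      obtain ⟨i, rfl⟩ := Nat.exists_eq_add_of_le hj
      rw [map_mul, mul_smul, Mero.germ_smul, map_smul, ← sub_eq_zero, ← smul_sub]
      have hbu := IsLocalization.map_units (Mero.KStalk X y) (Mero.regGerm (⟨y, hyW⟩ : W) b)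
      refine hbu.smul_eq_zero.mp ?_
      rw [algebraMap_smul]
      change X.presheaf.germ W y hyW b.1 • _ = _
      rw [smul_comm, ← hv y hyW, ← map_smul]
      have e : X.presheaf.germ U.1 y hy (g ^ (k + i)) = X.presheaf.germ W y hyW (g' ^ i) * X.presheaf.germ W y hyW (g' ^ k) := by
        simp only [g', map_pow, TopCat.Presheaf.germ_res_apply, ← pow_add, add_comm i k]
      rw [e, mul_smul, ← Mero.germ_smul L W y hyW (g' ^ k) v, hk, map_zero, smul_zero, map_zero]
    choose W hxW k hk using hloc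
    obtain ⟨T, hT⟩ := U.2.isCompact.elim_finite_subcover (fun x : U.1 => (W x : Set X)) (fun x => (W x).isOpen)
      fun y hy => Set.mem_iUnion.mpr ⟨⟨y, hy⟩, hxW ⟨y, hy⟩⟩
    refine ⟨T.sup k, g ^ T.sup k • m, fun y => ?_⟩
    obtain ⟨x, hxT, hyx⟩ : ∃ x ∈ T, y.1 ∈ (W x : Set X) := by simpa using hT y.2
    exact hk x y.1 y.2 hyx _ (Finset.le_sup hxT)
  have hmap : ∀ (U : X.affineOpens) (g : Γ(X, U.1)),
      (Mero.denomIdeal L s U.1).map (X.presheaf.map (homOfLE <| X.basicOpen_le g).op).hom =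
        Mero.denomIdeal L s (X.basicOpen g) := by
    intro U g
    apply le_antisymm
    · rw [Ideal.map_le_iff_le_comap]
      rintro f ⟨m, hm⟩
      refine ⟨L.presheaf.map (homOfLE (X.basicOpen_le g)).op m, fun y => ?_⟩
      change X.presheaf.germ (X.basicOpen g) y.1 y.2 (X.presheaf.map _ f) • _ = LocalizedModule.mkLinearMap _ _ (L.presheaf.germ (X.basicOpen g) y.1 y.2 (L.presheaf.map _ m))
      rw [TopCat.Presheaf.germ_res_apply, TopCat.Presheaf.germ_res_apply]
      exact hm ⟨y.1, X.basicOpen_le g y.2⟩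
    · rintro r ⟨m, hm⟩
      letI := (X.presheaf.map (homOfLE (X.basicOpen_le g)).op).hom.toAlgebra
      haveI := U.2.isLocalization_basicOpen g
      obtain ⟨⟨f0, ⟨gn, n, rfl⟩⟩, hf0⟩ := IsLocalization.surj (Submonoid.powers g) (S := Γ(X, X.basicOpen g)) r
      obtain ⟨p, m0, hm0⟩ := (Groth.Agent.Lib.QCoh.Localizing.localizes_of_isAffineOpen L U.2 g).ext' m
      obtain ⟨k, hk⟩ := hsep U g (g ^ p * f0) (g ^ n • m0) fun y hy hyg => by
        have h1 : X.presheaf.germ U.1 y hy f0 = X.presheaf.germ (X.basicOpen g) y hyg r * X.presheaf.germ U.1 y hy (g ^ n) := by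
          have e := congrArg (X.presheaf.germ (X.basicOpen g) y hyg) hf0
          rw [map_mul] at e
          erw [TopCat.Presheaf.germ_res_apply, TopCat.Presheaf.germ_res_apply] at e
          exact e.symm
        have h2 : L.presheaf.germ U.1 y hy m0 = X.presheaf.germ U.1 y hy g ^ p • L.presheaf.germ (X.basicOpen g) y hyg m := by
          have e := congrArg (L.presheaf.germ (X.basicOpen g) y hyg) hm0
          erw [TopCat.Presheaf.germ_res_apply] at e
          rw [Mero.germ_smul, map_pow] at e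
          erw [TopCat.Presheaf.germ_res_apply] at e
          exact e
        have h3 : X.presheaf.germ (X.basicOpen g) y hyg r • s.1 ⟨y, Opens.mem_top y⟩ =
            LocalizedModule.mkLinearMap (Mero.regStalk X y) _ (L.presheaf.germ (X.basicOpen g) y hyg m) := hm ⟨y, hyg⟩
        rw [Mero.germ_smul, map_smul, h2, map_smul, map_mul, h1, ← h3, smul_smul, smul_smul, map_pow, map_pow]
        congr 1
        ring
      have hu := IsLocalization.map_units Γ(X, X.basicOpen g) (⟨g ^ (k + p + n), k + p + n, rfl⟩ : Submonoid.powers g)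
      refine (Ideal.mul_unit_mem_iff_mem _ hu).mp ?_
      have e : r * algebraMap Γ(X, U.1) Γ(X, X.basicOpen g) (g ^ (k + p + n)) =
          algebraMap Γ(X, U.1) Γ(X, X.basicOpen g) (g ^ k * (g ^ p * f0)) := by
        rw [pow_add, pow_add, map_mul, map_mul, map_mul, map_mul, ← hf0]
        ring
      show r * algebraMap Γ(X, U.1) Γ(X, X.basicOpen g) (g ^ (k + p + n)) ∈ _
      rw [e]
      exact Ideal.mem_map_of_mem _ hk
  let I : X.IdealSheafData :=
    { ideal := fun U => Mero.denomIdeal L s U.1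
      map_ideal_basicOpen := hmap }
  refine ⟨I, fun U => rfl, Set.eq_empty_iff_forall_notMem.mpr fun x hx => ?_⟩
  obtain ⟨O, hO, hOo, hxO⟩ := mem_interior.mp hx
  obtain ⟨W, hW, hxW, hWO, m, b, hb⟩ := hrep ⟨O, hOo⟩ x hxO
  have hmem : b.1 ∈ I.ideal ⟨W, hW⟩ := ⟨m, fun y => hb y.1 y.2⟩
  have hbot : X.basicOpen b.1 = ⊥ := le_bot_iff.mp fun y hy => by
    have hyW := X.basicOpen_le b.1 hy
    have h1 : y ∈ (I.support : Set X) ∩ W := ⟨hO (hWO hyW), hyW⟩
    have hyz := ((I.coe_support_inter ⟨W, hW⟩).le h1).1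
    exact ((X.mem_zeroLocus_iff _ y).mp hyz b.1 hmem hy).elim
  obtain ⟨n, hn⟩ := (Scheme.isNilpotent_iff_basicOpen_eq_bot_of_isCompact hW.isCompact b.1).mpr hbot
  have h0 := congrArg (X.presheaf.germ W x hxW) hn
  rw [map_pow, map_zero] at h0
  have h1 : (0 : X.presheaf.stalk x) ∈ nonZeroDivisors (X.presheaf.stalk x) :=
    h0 ▸ pow_mem (b.2 ⟨x, hxW⟩) n
  exact zero_notMem_nonZeroDivisors h1

end Groth.Agent.S8903
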