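import Groth.Statements.S8904
import Groth.Agent.Lib.MeroK.Affine

set_option autoImplicit false
universe u
open CategoryTheory CategoryTheory.Limits AlgebraicGeometry TopologicalSpace
open SDiv

namespace Groth.Agent.S8904

open Groth.Agent.Lib.MeroK Groth.Agent.Lib.AssPt.Basic

/-- Let X be a scheme such that (a) each weakly associated point of X (of O_X) has no proper
generization, i.e. is the generic point of some irreducible component, and (b) every quasi-compact
open of X has finitely many irreducible components. Then for every point x the monoid S_x of germs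
of regular sections is the set of all nonzerodivisors of O_{X,x} (so K_{X,x} is the total ring of
fractions of O_{X,x}), and for every affine open U the ring K_X(U) is the total ring of fractions of
O_X(U). -/
theorem result (X : Scheme.{u})
    (ha : ∀ x : ↥X, Curv2.IsWeakAssPoint (Coh.structureModule X) x → ∀ y : ↥X, y ⤳ x → y = x)
    (hb : ∀ U : X.Opens, IsCompact (U : Set ↥X) → (irreducibleComponents ↥(U : Scheme.{u})).Finite) :
    (∀ x : ↥X, Mero.regStalk X x = nonZeroDivisors ↑(X.presheaf.stalk x)) ∧
      ∀ U : X.affineOpens,
        @IsLocalization Γ(X, U.1) _ (nonZeroDivisors Γ(X, U.1)) Γ(Mero.kmod X, U.1) _ (Mero.toK X U.1).toAlgebra := by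
  have ha' : ∀ x : X, MaxAssoc (X.presheaf.stalk x) → ∀ y : X, y ⤳ x → y = x := fun x hx =>
    ha x ((isWeakAssPoint_structure_iff x).mpr hx)
  exact ⟨Affine.regStalk_eq_nonZeroDivisors_of_maximal ha' hb, fun U => Affine.isLocalization U.2
    ((Affine.finite_maximalPoints U.2 (hb U.1 U.2.isCompact)).subset
      fun y hy => ⟨hy.1, ha' y hy.2⟩)⟩

end Groth.Agent.S8904
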