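import Groth.Statements.S8908
import Groth.Agent.H2.MaxSupp.Basic
import Groth.Agent.Lib.Modules.Support
-- import your own Groth.Agent.* helpers here

set_option autoImplicit false
set_option linter.style.haveILetI false
universe u
open CategoryTheory CategoryTheory.Limits AlgebraicGeometry TopologicalSpace
open SDiv

namespace Groth.Agent.S8908

open Groth.Agent.Lib Groth.Agent.H2.MaxSupp

section
variable {X : Scheme.{u}} [IsLocallyNoetherian X] {F : X.Modules}

theorem isClosed_supp (hF : Coh.IsCoh F) : IsClosed (CohB1.support F) := by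
  have : SheafOfModules.IsFiniteType (R := X.ringCatSheaf) F := hF.2
  exact Modules.Support.isClosed_support F

theorem stalk_subsingleton_of_nowhereDense (hF : Coh.IsCoh F) {K' : X.Modules} (hK' : Coh.IsCoh K')
    (h : ∀ U : X.Opens, (U : Set ↥X) ∩ CohB1.support F ⊆ CohB1.support K' →
      (U : Set ↥X) ∩ CohB1.support F = ∅) {η : X} (hm : IsMax F η) :
    Subsingleton (K'.presheaf.stalk η) := by
  by_contra hns
  obtain ⟨U, hU, hηU, -⟩ := exists_isAffineOpen_mem_and_subset (x := η) (U := ⊤) trivial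
  let B : Set X := {η' | η' ∈ U ∧ IsMax F η'} \ {η}
  have hB : B.Finite := (finite_isMax hF hU).sdiff
  let C : Set X := ⋃ η' ∈ B, closure {η'}
  have hC : IsClosed C := hB.isClosed_biUnion fun _ _ => isClosed_closure
  let U₀ : X.Opens := U ⊓ ⟨Cᶜ, hC.isOpen_compl⟩
  have hηC : η ∉ C := by
    intro hc
    obtain ⟨η', hη', hs⟩ := Set.mem_iUnion₂.mp hc
    exact hη'.2 (hm.2 η' hη'.1.2.1 (specializes_iff_mem_closure.mpr hs))
  have hne := h U₀ (by
    rintro x ⟨⟨hxU, hxC⟩, hx⟩
    obtain ⟨η', hm', hs⟩ := exists_isMax F (isClosed_supp hF) hx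
    have he : η' = η := by
      by_contra hne
      exact hxC (Set.mem_iUnion₂.mpr ⟨η', ⟨⟨hs.mem_open U.2 hxU, hm'⟩, hne⟩,
        specializes_iff_mem_closure.mp hs⟩)
    subst he
    exact hs.mem_closed (isClosed_supp hK') hns)
  exact (Set.eq_empty_iff_forall_notMem.mp hne) η ⟨⟨hηU, hηC⟩, hm.1⟩

theorem stalk_π_injective {η : X} (h : IsMax F η) :
    Function.Injective (Modules.StalkModule.stalkMapₗ (cokernel.π (ι F)) η) := by
  refine (injective_iff_map_eq_zero _).mpr fun v hv => ?_
  have hex := (Modules.Stalk.exact_iff_stalk (ShortComplex.mk (ι F) (cokernel.π (ι F))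
    (cokernel.condition _))).mp (ShortComplex.exact_cokernel (ι F)) η
  rw [ShortComplex.ab_exact_iff] at hex
  obtain ⟨a, ha⟩ := hex v hv
  have hs : Subsingleton ((K F).presheaf.stalk η) := stalk_K_subsingleton h
  rw [show a = 0 from @Subsingleton.elim _ hs _ _] at ha
  exact ha.symm.trans (map_zero _)

theorem mem_support_coker (hF : Coh.IsCoh F) {x : X} (hx : x ∈ CohB1.support F) :
    x ∈ CohB1.support (cokernel (ι F)) := by
  obtain ⟨η, hm, hs⟩ := exists_isMax F (isClosed_supp hF) hx
  refine hs.mem_closed (isClosed_supp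
    (CohBasics.Closure.isCoh_cokernel (ι F) (isCoh_K hF).1 hF)) fun h => hm.1 ?_
  exact (stalk_π_injective hm).subsingleton

theorem isMax_of_isAssPoint (hF : Coh.IsCoh F) {x : X}
    (hx : Curv2.IsAssPoint (cokernel (ι F)) x) : IsMax F x := by
  haveI : F.IsQuasicoherent := hF.1
  have hsupp : x ∈ CohB1.support F :=
    Modules.Support.support_subset_of_epi (cokernel.π (ι F))
      (AssPt.Modules.nontrivial_stalk_of_assPoint hx)
  by_contra hnm
  obtain ⟨hprime, v, hv⟩ := hx
  obtain ⟨w, rfl⟩ := (Modules.StalkModule.epi_iff_stalkMapₗ_surjective (cokernel.π (ι F))).mp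
    inferInstance x v
  obtain ⟨U, hU, hxU, -⟩ := exists_isAffineOpen_mem_and_subset (x := x) (U := ⊤) trivial
  obtain ⟨a, t, hxa, hat⟩ := StalkLoc.Basic.exists_smul_eq_germ hU hxU w
  have ha : IsUnit (X.presheaf.germ U x hxU a) := (X.mem_basicOpen a x hxU).mp hxa
  rw [← AssPt.Modules.colon_smul_unit ha, ← map_smul, hat, Modules.StalkModule.stalkMapₗ_germ] at hv
  let B : Set X := {η | (η ∈ U ∧ IsMax F η) ∧ ¬ η ⤳ x}
  have hB : B.Finite := (finite_isMax hF hU).subset fun η h => h.1
  let C : Set X := ⋃ η ∈ B, closure {η}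
  have hC : IsClosed C := hB.isClosed_biUnion fun _ _ => isClosed_closure
  let W : X.Opens := U ⊓ ⟨Cᶜ, hC.isOpen_compl⟩
  have hWU : W ≤ U := inf_le_left
  have hxW : x ∈ W := by
    refine ⟨hxU, fun hc => ?_⟩
    obtain ⟨η, hη, hs⟩ := Set.mem_iUnion₂.mp hc
    exact hη.2 (specializes_iff_mem_closure.mpr hs)
  have hcond : Cond F (F.presheaf.map (homOfLE hWU).op t) := by
    intro η hη hm
    rw [TopCat.Presheaf.germ_res_apply]
    have hηU : η ∈ U := hWU hη
    have hs : η ⤳ x := by
      by_contra hns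
      exact hη.2 (Set.mem_iUnion₂.mpr ⟨η, ⟨⟨hηU, hm⟩, hns⟩, subset_closure rfl⟩)
    obtain ⟨r, hrx, hrη⟩ := SetLike.not_le_iff_exists.mp (fun hle => hnm <| by
      have := ((AssPt.Basic.specializes_iff_primeIdealOf hU hηU hxU).mpr hle).antisymm hs
      exact this.eq ▸ hm :
      ¬ (hU.primeIdealOf ⟨x, hxU⟩).asIdeal ≤ (hU.primeIdealOf ⟨η, hηU⟩).asIdeal)
    have hrm : X.presheaf.germ U x hxU r ∈ IsLocalRing.maximalIdeal _ := by
      by_contra hu
      rw [IsLocalRing.mem_maximalIdeal, mem_nonunits_iff, not_not] at hu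
      exact (Lib.Ideal.EffCartier.mem_basicOpen_iff_notMem_prime hU hxU r).mp
        ((X.mem_basicOpen r x hxU).mpr hu) hrx
    rw [hv] at hrm
    obtain ⟨N, hN⟩ := hrm
    rw [Submodule.mem_colon_singleton, Submodule.mem_bot, ← map_pow,
      ← Modules.StalkModule.germ_smul, ← Scheme.Modules.Hom.app_smul] at hN
    obtain ⟨V, hxV, i₁, i₂, hV⟩ := TopCat.Presheaf.germ_eq (cokernel (ι F)).presheaf x hxU hxU _ 0
      (hN.trans (map_zero _).symm)
    have h0 : (cokernel (ι F)).presheaf.germ U η hηU ((cokernel.π (ι F)).app U (r ^ N • t)) = 0 := by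
      rw [← TopCat.Presheaf.germ_res_apply (cokernel (ι F)).presheaf i₁ η (hs.mem_open V.2 hxV), hV,
        map_zero, map_zero]
    rw [← Modules.StalkModule.stalkMapₗ_germ] at h0
    have h1 := (injective_iff_map_eq_zero _).mp (stalk_π_injective hm) _ h0
    rw [Modules.StalkModule.germ_smul, map_pow] at h1
    exact (((X.mem_basicOpen r η hηU).mp
      ((Lib.Ideal.EffCartier.mem_basicOpen_iff_notMem_prime hU hηU r).mpr hrη)).pow N).smul_eq_zero.mp h1
  obtain ⟨t', ht'⟩ := exists_ι_app hcond
  have hzero : (cokernel (ι F)).presheaf.germ U x hxU ((cokernel.π (ι F)).app U t) = 0 := by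
    rw [← Modules.StalkModule.stalkMapₗ_germ, ← TopCat.Presheaf.germ_res_apply F.presheaf
      (homOfLE hWU) x hxW t, ← ht', ← Modules.StalkModule.stalkMapₗ_germ (ι F) hxW,
      ← LinearMap.comp_apply, ← Modules.StalkModule.stalkMapₗ_comp, cokernel.condition,
      Modules.StalkModule.stalkMapₗ_zero]
    rfl
  rw [hzero] at hv
  refine (IsLocalRing.maximalIdeal.isMaximal (X.presheaf.stalk x)).ne_top (hv.trans ?_)
  rw [Ideal.radical_eq_top, Submodule.eq_top_iff']
  intro r
  simp

theorem exists_factor {K' : X.Modules} (φ : K' ⟶ F)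
    (h : ∀ {η : X}, IsMax F η → Subsingleton (K'.presheaf.stalk η)) :
    ∃ ψ : K' ⟶ K F, ψ ≫ ι F = φ := by
  have hc : ∀ (W : X.Opens) (s : Γ(K', W)), Cond F (φ.app W s) := fun W s η hη hm => by
    haveI := h hm
    rw [← Modules.StalkModule.stalkMapₗ_germ φ hη, Subsingleton.elim (K'.presheaf.germ W η hη s) 0,
      map_zero]
  refine ⟨⟨PresheafOfModules.homMk
    { app := fun W => AddCommGrpCat.ofHom
        { toFun := fun s => (⟨φ.app W.unop s, hc W.unop s⟩ : (sub F).obj W)
          map_zero' := Subtype.ext (map_zero (φ.app W.unop).hom)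
          map_add' := fun a b => Subtype.ext (map_add (φ.app W.unop).hom a b) }
      naturality := fun W W' i => ?_ } ?_⟩, ?_⟩
  · refine AddCommGrpCat.ext fun s => Subtype.ext ?_
    exact ConcreteCategory.congr_hom (φ.mapPresheaf.naturality i) s
  · intro W r s
    exact Subtype.ext (Scheme.Modules.Hom.app_smul φ (U := W.unop) r s)
  · rfl

end

/-- Let X be a locally Noetherian scheme and F a coherent O_X-module. The coherent subsheaves K ⊆ F
whose support is nowhere dense in Supp(F) have a largest element K. Setting F' = F/K: (1) Supp(F') =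
Supp(F); (2) F' has no embedded associated points; (3) there is a dense open U ⊆ X with U ∩ Supp(F)
dense in Supp(F) over which the quotient map F → F' restricts to an isomorphism. -/
theorem result (X : Scheme.{u}) [IsLocallyNoetherian X] (F : X.Modules)
    (hF : Coh.IsCoh F) :
    ∃ K : Subobject F, Coh.IsCoh (K : X.Modules) ∧
      (∀ U : X.Opens, (U : Set ↥X) ∩ CohB1.support F ⊆ CohB1.support (K : X.Modules) → (U : Set ↥X) ∩ CohB1.support F = ∅) ∧
      (∀ K' : Subobject F, Coh.IsCoh (K' : X.Modules) →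
        (∀ U : X.Opens, (U : Set ↥X) ∩ CohB1.support F ⊆ CohB1.support (K' : X.Modules) → (U : Set ↥X) ∩ CohB1.support F = ∅) →
        K' ≤ K) ∧
      CohB1.support (cokernel K.arrow) = CohB1.support F ∧
      (∀ x : ↥X, Curv2.IsAssPoint (cokernel K.arrow) x → ∀ y : ↥X, Curv2.IsAssPoint (cokernel K.arrow) y → y ⤳ x → y = x) ∧
      ∃ U : X.Opens, Dense (U : Set ↥X) ∧ CohB1.support F ⊆ closure ((U : Set ↥X) ∩ CohB1.support F) ∧
        IsIso ((Scheme.Modules.restrictFunctor U.ι).map (cokernel.π K.arrow)) := by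
  haveI : F.IsQuasicoherent := hF.1
  let KS : Subobject F := Subobject.mk (ι F)
  let e : (KS : X.Modules) ≅ K F := Subobject.underlyingIso (ι F)
  have he : e.hom ≫ ι F = KS.arrow := Subobject.underlyingIso_hom_comp_eq_mk _
  have hsuppK : CohB1.support (KS : X.Modules) = CohB1.support (K F) := Modules.Support.support_congr e
  have hKC := isCoh_K hF
  have hnd : ∀ η, IsMax F η → η ∉ CohB1.support (K F) := fun η hm h => h (stalk_K_subsingleton hm)
  let π' : cokernel KS.arrow ≅ cokernel (ι F) :=
    cokernelIsoOfEq he.symm ≪≫ cokernelEpiComp e.hom (ι F)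
  have hπ' : cokernel.π KS.arrow ≫ π'.hom = cokernel.π (ι F) := by
    simp [π', cokernelEpiComp]
  have hsuppC : CohB1.support (cokernel KS.arrow) = CohB1.support F :=
    subset_antisymm (Modules.Support.support_subset_of_epi (cokernel.π _)) fun x hx => by
      rw [Modules.Support.support_congr π']
      exact mem_support_coker hF hx
  have hnd' : ∀ U : X.Opens, (U : Set ↥X) ∩ CohB1.support F ⊆ CohB1.support (K F) →
      (U : Set ↥X) ∩ CohB1.support F = ∅ := by
    intro U hU
    refine Set.eq_empty_iff_forall_notMem.mpr fun x hx => ?_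
    obtain ⟨η, hm, hs⟩ := exists_isMax F (isClosed_supp hF) hx.2
    exact hnd η hm (hU ⟨hs.mem_open U.2 hx.1, hm.1⟩)
  refine ⟨KS, CohBasics.Closure.isCoh_of_iso e.symm hKC, fun U hU => hnd' U (hsuppK ▸ hU),
    fun K' hK' h => ?_, hsuppC, fun x hx y hy hyx => ?_, ?_⟩
  · obtain ⟨ψ, hψ⟩ := exists_factor K'.arrow fun {η} hm => stalk_subsingleton_of_nowhereDense hF hK' h hm
    exact Subobject.le_of_comm (ψ ≫ e.inv) (by rw [Category.assoc, ← he, e.inv_hom_id_assoc, hψ])
  · have hass : ∀ z, Curv2.IsAssPoint (cokernel KS.arrow) z → IsMax F z := fun z hz =>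
      isMax_of_isAssPoint hF
        ((LinearEquiv.isAssociatedPrime_iff (Modules.StalkModule.stalkLinearEquiv π' z)).mp hz)
    exact (hass x hx).2 y (hass y hy).1 hyx
  · have hcl : IsClosed (CohB1.support (K F)) := isClosed_supp hKC
    let U : X.Opens := ⟨(CohB1.support (K F))ᶜ, hcl.isOpen_compl⟩
    refine ⟨U, ?_, fun x hx => ?_, ?_⟩
    · rw [TopologicalSpace.Opens.coe_mk, ← interior_eq_empty_iff_dense_compl]
      have h0 := hnd' ⟨interior (CohB1.support (K F)), isOpen_interior⟩
        fun x hx => interior_subset hx.1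
      refine Set.eq_empty_iff_forall_notMem.mpr fun x hx => Set.eq_empty_iff_forall_notMem.mp h0 x
        ⟨hx, Modules.Support.support_subset_of_mono (ι F) (interior_subset hx)⟩
    · obtain ⟨η, hm, hs⟩ := exists_isMax F (isClosed_supp hF) hx
      exact closure_mono (Set.singleton_subset_iff.mpr
        (show η ∈ (U : Set ↥X) ∩ CohB1.support F from ⟨hnd η hm, hm.1⟩))
        (specializes_iff_mem_closure.mp hs)
    · let R := Scheme.Modules.restrictFunctor U.ι
      have hS : (ShortComplex.mk KS.arrow (cokernel.π KS.arrow) (cokernel.condition _)).ShortExact :=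
        { exact := ShortComplex.exact_cokernel _ }
      have hR := hS.map_of_exact R
      have hz : IsZero (R.obj (KS : X.Modules)) := by
        refine Modules.Support.support_eq_empty_iff.mp ?_
        rw [show R.obj (KS : X.Modules) = (KS : X.Modules).restrict U.ι from rfl,
          Modules.Support.support_restrict, hsuppK]
        exact Set.eq_empty_iff_forall_notMem.mpr fun x hx => x.2 hx
      exact hR.isIso_g_iff.mpr hz

end Groth.Agent.S8908
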