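import Groth.Statements.S8909
import Groth.Agent.Lib.Ideal.Prime
import Mathlib.Data.Finsupp.Indicator
import Mathlib.RingTheory.Ideal.MinimalPrime.Noetherian
import Mathlib.Algebra.BigOperators.Finsupp.Basic

set_option autoImplicit false
universe u
open CategoryTheory CategoryTheory.Limits AlgebraicGeometry TopologicalSpace
open SDiv

namespace Groth.Agent.S8909

open Groth.Agent.Lib.Ideal Groth.Agent.Lib.Ideal.EffCartier Groth.Agent.Lib.Ideal.Prime
  Groth.Agent.Lib.AssPt.Basic


/-- Let X be a Noetherian scheme and Z ⊆ X a closed subscheme with ideal sheaf 𝓩. Suppose given a family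
of integral effective Cartier divisors D_i ⊆ X (ideal sheaves 𝓓_i, i ∈ I) and a closed subset Z' ⊆ X
whose irreducible components all have codimension at least 2 in X (the local ring of X at each
maximal point of Z' has dimension ≥ 2), such that Z ⊆ Z' ∪ ⋃ D_i set-theoretically. Then there are
integers a_i ≥ 0, almost all zero, such that the effective Cartier divisor D = Σ a_i D_i (with ideal
sheaf the product of the 𝓓_i^{a_i}) is contained in Z as a closed subscheme and the inclusion D → Z
is an isomorphism outside codimension 2: for some open U ⊆ X the ideal sheaves of D and Z agree on U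
and every irreducible component of Z ∖ U has codimension ≥ 2 in X. The published statement also
asserts that such D_i and Z' exist when Z is nowhere dense in X and either every local ring of X at
a point of Z is factorial or X is regular; this row does not. -/
theorem result (X : Scheme.{u}) [IsNoetherian X] (𝓩 : X.IdealSheafData)
    {I : Type u} (𝓓 : I → X.IdealSheafData) (hD : ∀ i, BlowUp.IsEffCartierIdeal (𝓓 i)) (hDint : ∀ i, IsIntegral (𝓓 i).subscheme)
    (Z' : Set ↥X) (hZ' : IsClosed Z')
    (hcodim : ∀ z ∈ Z', (∀ y ∈ Z', y ⤳ z → y = z) → (2 : WithBot ℕ∞) ≤ ringKrullDim ↑(X.presheaf.stalk z))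
    (hcover : (𝓩.support : Set ↥X) ⊆ Z' ∪ ⋃ i, ((𝓓 i).support : Set ↥X)) :
    ∃ a : I →₀ ℕ, 𝓩 ≤ a.prod (fun i n => 𝓓 i ^ n) ∧
      ∃ U : X.Opens, (a.prod (fun i n => 𝓓 i ^ n)).comap U.ι = 𝓩.comap U.ι ∧
        ∀ z ∈ (𝓩.support : Set ↥X) \ (U : Set ↥X), (∀ y ∈ (𝓩.support : Set ↥X) \ (U : Set ↥X), y ⤳ z → y = z) →
          (2 : WithBot ℕ∞) ≤ ringKrullDim ↑(X.presheaf.stalk z) := by
  classical
  haveI : ∀ i, IsIntegral (𝓓 i).subscheme := hDint
  -- generisations of a generic point of a divisor do not meet `Z`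
  have htwo : ∀ y ∈ Z', (2 : WithBot ℕ∞) ≤ ringKrullDim (X.presheaf.stalk y) := by
    intro y hy
    obtain ⟨z, hz, hzy, hmax⟩ := exists_maximal_generization hZ' hy
    exact (hcodim z hz hmax).trans (ringKrullDim_stalk_mono hzy)
  have hdim1 : ∀ i, ringKrullDim (X.presheaf.stalk (gen (𝓓 i))) = 1 := by
    intro i
    obtain ⟨U, hU, hgU, -⟩ := exists_isAffineOpen_mem_and_subset
      (show gen (𝓓 i) ∈ (⊤ : X.Opens) from trivial)
    rw [ringKrullDim_stalk_eq_height hU hgU, height_gen _ (hD i) hU hgU]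
    rfl
  have hgenoff : ∀ i y, y ⤳ gen (𝓓 i) → y ≠ gen (𝓓 i) → y ∉ 𝓩.support := by
    intro i y hy hne hyZ
    rcases hcover hyZ with h | h
    · have h2 := (htwo y h).trans ((ringKrullDim_stalk_mono hy).trans (hdim1 i).le)
      exact absurd h2 (by decide)
    · obtain ⟨j, hj⟩ := Set.mem_iUnion.mp h
      exact not_maximalPoint_of_mem_support (hD j) hj
        (maximalPoint_of_specializes_gen _ (hD i) hy hne)
  -- finitely many generic points inside `Z`
  have hfin : ((fun i => gen (𝓓 i)) '' {i | gen (𝓓 i) ∈ 𝓩.support}).Finite := by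
    obtain ⟨T, hT⟩ := isCompact_univ.elim_finite_subcover
      (fun U : X.affineOpens => (U.1 : Set X)) (fun U => U.1.isOpen) (fun x _ => by
        obtain ⟨U, hU, hxU, -⟩ := exists_isAffineOpen_mem_and_subset
          (show x ∈ (⊤ : X.Opens) from trivial)
        exact Set.mem_iUnion.mpr ⟨⟨U, hU⟩, hxU⟩)
    refine Set.Finite.subset (Set.Finite.biUnion T.finite_toSet fun U _ =>
      (?_ : {η | ∃ hη : η ∈ U.1, (U.2.primeIdealOf ⟨η, hη⟩).asIdeal ∈
        (𝓩.ideal U).minimalPrimes}.Finite)) ?_
    · haveI : IsNoetherianRing Γ(X, U.1) := IsLocallyNoetherian.component_noetherian U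
      refine (((𝓩.ideal U).finite_minimalPrimes_of_isNoetherianRing Γ(X, U.1)).biUnion
        fun q _ => (?_ : {η | ∃ hη : η ∈ U.1,
          (U.2.primeIdealOf ⟨η, hη⟩).asIdeal = q}.Finite)).subset ?_
      · refine Set.Subsingleton.finite ?_
        rintro a ⟨ha, rfl⟩ b ⟨hb, hb'⟩
        have := congrArg U.2.fromSpec (PrimeSpectrum.ext hb')
        rw [U.2.fromSpec_primeIdealOf, U.2.fromSpec_primeIdealOf] at this
        exact this.symm
      · rintro η ⟨hη, hmem⟩
        exact Set.mem_biUnion hmem ⟨hη, rfl⟩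
    · rintro _ ⟨i, hi, rfl⟩
      obtain ⟨U, hUT, hxU⟩ := Set.mem_iUnion₂.mp (hT (Set.mem_univ (gen (𝓓 i))))
      refine Set.mem_biUnion hUT ⟨hxU, ?_⟩
      refine ⟨⟨inferInstance, (mem_support_iff_le_prime 𝓩 U hxU).mp hi⟩, fun q hq hle => ?_⟩
      haveI := hq.1
      obtain ⟨y, hy, rfl⟩ := exists_point_of_prime U.2 q
      have hys := (specializes_iff_primeIdealOf U.2 hxU hy).mpr hle
      by_cases he : y = gen (𝓓 i)
      · subst he; exact le_rfl
      · exact absurd ((mem_support_iff_le_prime 𝓩 U hy).mpr hq.2) (hgenoff i y hys he)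
  choose rep hrep using fun η : hfin.toFinset => hfin.mem_toFinset.mp η.2
  simp only at hrep
  choose n hn using fun i => exists_stalkIdeal_eq_pow (𝓓 i) (hD i) 𝓩 (hgenoff i)
  set s : Finset I := hfin.toFinset.attach.image rep with hs
  have hs_mem : ∀ i ∈ s, gen (𝓓 i) ∈ 𝓩.support := by
    intro i hi
    obtain ⟨η, -, rfl⟩ := Finset.mem_image.mp hi
    exact (hrep η).1
  have hs_inj : ∀ i ∈ s, ∀ j ∈ s, gen (𝓓 i) = gen (𝓓 j) → i = j := by
    intro i hi j hj he
    obtain ⟨η, -, rfl⟩ := Finset.mem_image.mp hi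
    obtain ⟨θ, -, rfl⟩ := Finset.mem_image.mp hj
    rw [(hrep η).2, (hrep θ).2] at he
    rw [Subtype.ext he]
  have hs_cover : ∀ i, gen (𝓓 i) ∈ 𝓩.support → ∃ j ∈ s, gen (𝓓 j) = gen (𝓓 i) := fun i hi =>
    ⟨rep ⟨gen (𝓓 i), hfin.mem_toFinset.mpr ⟨i, hi, rfl⟩⟩,
      Finset.mem_image.mpr ⟨_, Finset.mem_attach _ _, rfl⟩, (hrep _).2⟩
  set a : I →₀ ℕ := Finsupp.indicator s (fun i _ => n i) with ha
  have hprod : a.prod (fun i k => 𝓓 i ^ k) = ∏ i ∈ s, 𝓓 i ^ n i := by
    rw [Finsupp.prod_of_support_subset a (Finsupp.support_indicator_subset s _) _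
      (fun i _ => pow_zero _)]
    refine Finset.prod_congr rfl fun i hi => ?_
    simp [ha, Finsupp.indicator_of_mem hi]
  have hideal : ∀ (U : X.affineOpens) (t : Finset I),
      (∏ i ∈ t, 𝓓 i ^ n i : X.IdealSheafData).ideal U = ∏ i ∈ t, (𝓓 i).ideal U ^ n i := by
    intro U t
    induction t using Finset.induction with
    | empty => simp
    | insert j t hj ih =>
      rw [Finset.prod_insert hj, Finset.prod_insert hj, Scheme.IdealSheafData.ideal_mul,
        Pi.mul_apply, Scheme.IdealSheafData.ideal_pow, Pi.pow_apply, ih]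
  have hle_all : 𝓩 ≤ a.prod (fun i k => 𝓓 i ^ k) := by
    -- `D` is contained in `Z`
    rw [hprod]
    let Cov := {U : X.affineOpens // ∀ i ∈ s, ∃ t : Γ(X, U.1),
      t ∈ nonZeroDivisors Γ(X, U.1) ∧ (𝓓 i).ideal U = Ideal.span {t}}
    refine Scheme.IdealSheafData.le_of_iSup_eq_top (fun U : Cov => U.1) ?_ ?_
    · refine eq_top_iff.mpr fun x _ => ?_
      have hex : ∀ t : Finset I, ∃ U : X.affineOpens, x ∈ U.1 ∧ ∀ i ∈ t, ∃ e : Γ(X, U.1),
          e ∈ nonZeroDivisors Γ(X, U.1) ∧ (𝓓 i).ideal U = Ideal.span {e} := by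
        intro t
        induction t using Finset.induction with
        | empty =>
          obtain ⟨U, hU, hxU, -⟩ := exists_isAffineOpen_mem_and_subset
            (show x ∈ (⊤ : X.Opens) from trivial)
          exact ⟨⟨U, hU⟩, hxU, by simp⟩
        | insert j t hj ih =>
          obtain ⟨U, hxU, hU⟩ := ih
          obtain ⟨V, hxV, hVU, e, he, hVe⟩ := exists_gen (hD j) x hxU
          refine ⟨V, hxV, fun i hi => ?_⟩
          rcases Finset.mem_insert.mp hi with rfl | hi
          · exact ⟨e, he, hVe⟩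
          · obtain ⟨e', he', hUe'⟩ := hU i hi
            exact ⟨_, res_mem_nonZeroDivisors U.2 hVU he', ideal_eq_span_of_le hVU hUe'⟩
      obtain ⟨U, hxU, hU⟩ := hex s
      exact Opens.mem_iSup.mpr ⟨⟨U, hU⟩, hxU⟩
    · rintro ⟨U, hU⟩
      simp only
      rw [hideal]
      have hU' := hU
      choose e he hUe using hU'
      suffices h : ∀ t : Finset I, (hts : t ⊆ s) →
          𝓩.ideal U ≤ ∏ i ∈ t, (𝓓 i).ideal U ^ n i from h s (Finset.Subset.refl s)
      intro t
      induction t using Finset.induction with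
      | empty => intro; simp
      | insert j t hj ih =>
        intro hts
        have hjs : j ∈ s := hts (Finset.mem_insert_self j t)
        have hts' : t ⊆ s := fun i hi => hts (Finset.mem_insert_of_mem hi)
        intro g hg
        have hgt := ih hts' hg
        rw [Finset.prod_insert hj]
        have hspan : ∏ i ∈ t, (𝓓 i).ideal U ^ n i =
            Ideal.span {∏ i ∈ t.attach, e i.1 (hts' i.2) ^ n i.1} := by
          rw [← Finset.prod_attach, ← Ideal.prod_span_singleton]
          refine Finset.prod_congr rfl fun i _ => ?_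
          rw [hUe i.1 (hts' i.2), Ideal.span_singleton_pow]
        set P := ∏ i ∈ t.attach, e i.1 (hts' i.2) ^ n i.1 with hP
        rw [hspan, Ideal.mem_span_singleton'] at hgt
        obtain ⟨g', rfl⟩ := hgt
        rw [hspan, hUe j hjs, Ideal.span_singleton_pow, Ideal.span_singleton_mul_span_singleton,
          Ideal.mem_span_singleton]
        refine mul_dvd_mul_right ?_ P
        by_cases hju : ∃ x ∈ (𝓓 j).support, x ∈ U.1
        · obtain ⟨x, hxD, hxU⟩ := hju
          have hgU : gen (𝓓 j) ∈ U.1 := (gen_specializes _ hxD).mem_open U.1.isOpen hxU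
          let alg := X.presheaf.algebra_section_stalk ⟨gen (𝓓 j), hgU⟩
          haveI := U.2.isLocalization_stalk ⟨gen (𝓓 j), hgU⟩
          set p := (U.2.primeIdealOf ⟨gen (𝓓 j), hgU⟩).asIdeal with hp
          have hpe : p = Ideal.span {e j hjs} := by rw [hp, primeIdealOf_gen _ U hgU, hUe j hjs]
          have hmem : algebraMap Γ(X, U.1) (X.presheaf.stalk (gen (𝓓 j))) (g' * P) ∈
              (Ideal.span {e j hjs ^ n j}).map
                (algebraMap Γ(X, U.1) (X.presheaf.stalk (gen (𝓓 j)))) := by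
            rw [← Ideal.span_singleton_pow, Ideal.map_pow, ← hUe j hjs]
            change _ ∈ (Ideal.map (X.presheaf.germ U.1 (gen (𝓓 j)) hgU).hom _) ^ n j
            rw [← stalkIdeal_eq (𝓓 j) U hgU, ← hn j, stalkIdeal_eq 𝓩 U hgU]
            exact Ideal.mem_map_of_mem _ hg
          obtain ⟨c, hc, hcg⟩ :=
            (IsLocalization.algebraMap_mem_map_algebraMap_iff p.primeCompl _ _ _).mp hmem
          have hPp : P ∉ p := by
            intro hPp
            obtain ⟨i, -, hi⟩ := (U.2.primeIdealOf ⟨gen (𝓓 j), hgU⟩).2.prod_mem_iff.mp hPp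
            have hi' := (U.2.primeIdealOf ⟨gen (𝓓 j), hgU⟩).2.mem_of_pow_mem _ hi
            have hsup : gen (𝓓 j) ∈ (𝓓 i.1).support := by
              rw [mem_support_iff_le_prime _ U hgU, hUe i.1 (hts' i.2),
                Ideal.span_singleton_le_iff_mem]
              exact hi'
            have := gen_eq_of_gen_mem (𝓓 j) (hD j) (hD i.1) hsup
            exact hj (hs_inj i.1 (hts' i.2) j hjs this ▸ i.2)
          have hdesc : ∀ (m : ℕ) (y d : Γ(X, U.1)), d ∉ p → e j hjs ^ m ∣ d * y →
              e j hjs ^ m ∣ y := by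
            intro m
            induction m with
            | zero => intro y d _ _; rw [pow_zero]; exact one_dvd y
            | succ m ihm =>
              intro y d hd hdy
              have hy : y ∈ p := ((U.2.primeIdealOf ⟨gen (𝓓 j), hgU⟩).2.mem_or_mem
                (show d * y ∈ p from hpe ▸ Ideal.mem_span_singleton.mpr
                  ((dvd_pow_self _ (Nat.succ_ne_zero m)).trans hdy))).resolve_left hd
              rw [hpe, Ideal.mem_span_singleton] at hy
              obtain ⟨y', rfl⟩ := hy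
              rw [pow_succ']
              refine mul_dvd_mul_left _ (ihm y' d hd ?_)
              obtain ⟨w, hw⟩ := hdy
              refine ⟨w, (mul_cancel_left_mem_nonZeroDivisors (he j hjs)).mp ?_⟩
              rw [pow_succ', mul_assoc] at hw
              rw [← mul_left_comm]
              exact hw
          rw [Ideal.mem_span_singleton, mul_comm g' P, ← mul_assoc] at hcg
          exact hdesc (n j) g' _ (fun h => ((U.2.primeIdealOf ⟨gen (𝓓 j), hgU⟩).2.mem_or_mem
            h).elim hc hPp) hcg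
        · push Not at hju
          have htop : (𝓓 j).ideal U = ⊤ := by
            by_contra hne
            obtain ⟨m, hm, hle⟩ := Ideal.exists_le_maximal _ hne
            haveI := hm.isPrime
            obtain ⟨y, hy, rfl⟩ := exists_point_of_prime U.2 m
            exact hju y ((mem_support_iff_le_prime _ U hy).mpr hle) hy
          rw [hUe j hjs, Ideal.span_singleton_eq_top] at htop
          exact (htop.pow _).dvd
  refine ⟨a, hle_all, ?_⟩
  set D := a.prod (fun i k => 𝓓 i ^ k) with hDdef
  let W : X.Opens := ⨆ U : {U : X.affineOpens // D.ideal U = 𝓩.ideal U}, U.1.1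
  refine ⟨W, ?_, ?_⟩
  · have hW : ∀ U : {U : X.affineOpens // D.ideal U = 𝓩.ideal U}, U.1.1 ≤ W := fun U =>
      le_iSup (fun U : {U : X.affineOpens // D.ideal U = 𝓩.ideal U} => U.1.1) U
    refine Scheme.IdealSheafData.ext_of_iSup_eq_top
      (fun U : {U : X.affineOpens // D.ideal U = 𝓩.ideal U} =>
        (⟨W.ι ⁻¹ᵁ U.1.1, U.1.2.preimage_of_isOpenImmersion W.ι (by
          rw [Scheme.Opens.opensRange_ι]; exact hW U)⟩ : (W : Scheme.{u}).affineOpens)) ?_ ?_
    · refine eq_top_iff.mpr fun x _ => ?_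
      obtain ⟨U, hU⟩ := Opens.mem_iSup.mp (show (W.ι x : X) ∈ W from x.2)
      exact Opens.mem_iSup.mpr ⟨U, hU⟩
    · intro U
      rw [Comap.ideal_comap W.ι D U.1 _ le_rfl, Comap.ideal_comap W.ι 𝓩 U.1 _ le_rfl, U.2]
  · rintro z ⟨hzZ, hzW⟩ -
    rcases hcover hzZ with h | h
    · exact htwo z h
    · obtain ⟨i, hi⟩ := Set.mem_iUnion.mp h
      refine two_le_dim_of_mem_support (𝓓 i) (hD i) hi fun hz => hzW ?_
      subst hz
      obtain ⟨j, hjs, hj⟩ := hs_cover i hzZ
      rw [← hj]
      let O : X.Opens := ⟨(⋃ k ∈ s.erase j, ((𝓓 k).support : Set X))ᶜ,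
        (Set.Finite.isClosed_biUnion (s.erase j).finite_toSet
          fun k _ => (𝓓 k).support.isClosed).isOpen_compl⟩
      have hjO : gen (𝓓 j) ∈ O := by
        simp only [O, Opens.mem_mk, Set.mem_compl_iff, Set.mem_iUnion, not_exists]
        intro k hk hks
        have := gen_eq_of_gen_mem (𝓓 j) (hD j) (hD k) hks
        exact (Finset.mem_erase.mp hk).1
          (hs_inj k (Finset.mem_of_mem_erase hk) j hjs this)
      obtain ⟨U, hxU, hUO, e, he, hUe⟩ := exists_gen (hD j) (gen (𝓓 j)) hjO
      have hDU : D.ideal U = Ideal.span {e ^ n j} := by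
        rw [hprod, hideal, ← Finset.prod_erase_mul _ _ hjs, hUe,
          Ideal.span_singleton_pow, Finset.prod_eq_one, one_mul]
        intro k hk
        suffices (𝓓 k).ideal U = ⊤ by rw [this, Ideal.top_pow, Ideal.one_eq_top]
        by_contra hne
        obtain ⟨m, hm, hle⟩ := Ideal.exists_le_maximal _ hne
        haveI := hm.isPrime
        obtain ⟨y, hy, rfl⟩ := exists_point_of_prime U.2 m
        exact hUO hy (Set.mem_biUnion hk ((mem_support_iff_le_prime _ U hy).mpr hle))
      let alg := X.presheaf.algebra_section_stalk ⟨gen (𝓓 j), hxU⟩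
      haveI := U.2.isLocalization_stalk ⟨gen (𝓓 j), hxU⟩
      have hmem : algebraMap Γ(X, U.1) (X.presheaf.stalk (gen (𝓓 j))) (e ^ n j) ∈
          (𝓩.ideal U).map (algebraMap Γ(X, U.1) (X.presheaf.stalk (gen (𝓓 j)))) := by
        change _ ∈ (𝓩.ideal U).map (X.presheaf.germ U.1 (gen (𝓓 j)) hxU).hom
        rw [← stalkIdeal_eq 𝓩 U hxU, hn j, stalkIdeal_eq (𝓓 j) U hxU, hUe, map_pow]
        exact Ideal.pow_mem_pow (Ideal.mem_map_of_mem _ (Ideal.mem_span_singleton_self e)) _
      obtain ⟨c, hc, hce⟩ := (IsLocalization.algebraMap_mem_map_algebraMap_iff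
        (U.2.primeIdealOf ⟨gen (𝓓 j), hxU⟩).asIdeal.primeCompl _ _ _).mp hmem
      let B : X.affineOpens := ⟨X.basicOpen c, U.2.basicOpen c⟩
      have hle : 𝓩 ≤ D := hle_all
      refine Opens.mem_iSup.mpr ⟨⟨B, le_antisymm ?_ (hle B)⟩,
        (mem_basicOpen_iff_notMem_prime U.2 hxU c).mpr hc⟩
      rw [← D.map_ideal (U := B) (V := U) (X.basicOpen_le c), hDU, Ideal.map_span,
        Set.image_singleton, Ideal.span_singleton_le_iff_mem]
      refine (Ideal.unit_mul_mem_iff_mem _
        (RingedSpace.isUnit_res_basicOpen X.toSheafedSpace c)).mp ?_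
      have hh := 𝓩.ideal_le_comap_ideal (U := B) (V := U) (X.basicOpen_le c) hce
      rw [Ideal.mem_comap, map_mul] at hh
      exact hh

end Groth.Agent.S8909
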