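import Groth.Statements.S8911
import Groth.Agent.H22.StrictTransform.Fitting

set_option autoImplicit false
universe u
open CategoryTheory CategoryTheory.Limits AlgebraicGeometry TopologicalSpace
open SDiv

namespace Groth.Agent.S8911

/-- Let S be a scheme, F a quasi-coherent O_S-module of finite type, k ≥ 0, b : S' ⟶ S a blowing up of S
in the closed subscheme Z_k cut out by Fit_k(F), and π : b^*F ⟶ G the strict transform of F along b.
Then G can locally be generated by at most k sections. -/
theorem result (S : Scheme.{u}) (F : S.Modules) (hF : Coh.IsQCoh F) (hft : CohB1.IsFT F)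
    (k : ℕ) {S' : Scheme.{u}} (b : S' ⟶ S) (hb : BlowUp.IsBlowUp b (Fitt.sheafIdeal F k)) (G : S'.Modules)
    (π : (Scheme.Modules.pullback b).obj F ⟶ G) (hG : BlowUp.IsStrictTransform b (Fitt.sheafIdeal F k) F G π) (s' : ↥S') :
    ∃ U : S'.Opens, s' ∈ U ∧ ∃ q : FlatMod.freeMod (↑U) k ⟶ G.restrict U.ι, Epi q := by
  haveI : F.IsQuasicoherent := hF
  haveI : SheafOfModules.IsFiniteType (R := S.ringCatSheaf) F := hft
  exact Groth.Agent.H22.StrictTransform.exists_epi_free hb.1 hG s'

end Groth.Agent.S8911
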