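import Groth.Statements.S8913
import Groth.Agent.H22.StrictTransform.Rank
import Groth.Agent.S8873
import Groth.Agent.S4887
import Groth.Agent.H46.FibreProf.PullFP
import Groth.Agent.H26.FreeCrit
import Groth.Agent.Lib.TensorMod.FPConv

set_option autoImplicit false
universe u
open CategoryTheory CategoryTheory.Limits AlgebraicGeometry TopologicalSpace
open SDiv

namespace Groth.Agent.S8913

/-- Let X be a scheme, F a finitely presented O_X-module and U ⊆ X an open subscheme which is
scheme-theoretically dense and over which F is locally free of constant finite rank r. Then: (1)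
Fit_r(F) is of finite type with support disjoint from U, so a blowing up b : X' ⟶ X of X in Fit_r(F)
is U-admissible; (2) the strict transform G of F along such b is locally free of rank r; (3) the
kernel of the surjection b^*F ⟶ G is finitely presented and restricts to zero over b⁻¹U. This row
does not assert that b^*F and the kernel are perfect of tor dimension at most one. -/
theorem result (X : Scheme.{u}) (F : X.Modules) (hF : CohB1.IsFP F)
    (U : X.Opens) (hU : CInt.IsSchematicallyDense U) (r : ℕ) (hfree : FlatMod.IsFinLocFreeOfRank r (F.restrict U.ι)) :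
    BlowUp.IsAdmissibleFor U (Fitt.sheafIdeal F r) ∧
      ∀ (X' : Scheme.{u}) (b : X' ⟶ X), BlowUp.IsBlowUp b (Fitt.sheafIdeal F r) →
        ∀ (G : X'.Modules) (π : (Scheme.Modules.pullback b).obj F ⟶ G), BlowUp.IsStrictTransform b (Fitt.sheafIdeal F r) F G π →
          FlatMod.IsFinLocFreeOfRank r G ∧ CohB1.IsFP (kernel π) ∧ IsZero ((kernel π).restrict (b ⁻¹ᵁ U).ι) := by
  haveI : F.IsQuasicoherent := Groth.Agent.H26.FreeCrit.isQuasicoherent_of_isFP hF
  haveI := hF
  haveI : SheafOfModules.IsFiniteType (R := X.ringCatSheaf) F := inferInstance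
  have hlt : ∀ j, j < r → Fitt.sheafIdeal F j = ⊥ := fun j hj =>
    Groth.Agent.H22.StrictTransform.fitt_eq_bot_of_dense U hU hfree hj
  have hdisj : Disjoint ((Fitt.sheafIdeal F r).support : Set X) (U : Set X) := by
    rw [Set.disjoint_right]
    intro x hx hs
    exact ((Groth.Agent.Lib.FittSheaf.not_mem_support_iff F x r).2
      ((Groth.Agent.H22.StrictTransform.fitt_stalk_of_free U hfree hx r).2 le_rfl)) hs
  refine ⟨⟨Groth.Agent.S8873.result X F hF r, hdisj⟩, fun X' b hb G π hG => ?_⟩
  haveI := hG.1
  haveI := Groth.Agent.Lib.QCoh.Pullback.isQCoh_pullback b F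
  haveI := Groth.Agent.H22.StrictTransform.isQCoh' π hb.1 hG.2
  have hlf : FlatMod.IsFinLocFreeOfRank r G := by
    refine Groth.Agent.H22.StrictTransform.isFinLocFreeOfRank hb.1 (fun j hj => ?_) hG
    rw [← Groth.Agent.Lib.FittSheaf.sheafIdeal_comap, hlt j (by omega), Scheme.IdealSheafData.comap_bot]
  have hlf' : FlatMod.IsFinLocFree G := fun y => by
    obtain ⟨V, hyV, hi⟩ := hlf y
    exact ⟨V, r, hyV, hi⟩
  have hflat : FlatMod.IsFlatOver (𝟙 X') G := fun x => by
    let R := X'.presheaf.stalk ((𝟙 X' : X' ⟶ X').base x)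
    let B := X'.presheaf.stalk x
    let P := G.presheaf.stalk x
    letI : Algebra R B := ((𝟙 X' : X' ⟶ X').stalkMap x).hom.toAlgebra
    haveI : Module.Flat R B := Flat.stalkMap (𝟙 X' : X' ⟶ X') x
    letI : Module R P := FlatMod.moduleStalkOver (𝟙 X') G x
    haveI : IsScalarTower R B P := IsScalarTower.of_algebraMap_smul fun _ _ => rfl
    haveI : Module.Flat B P := Groth.Agent.Lib.TensorMod.FPConv.isFlat_of_isFinLocFree hlf' x
    exact Module.Flat.trans R B P
  refine ⟨hlf, Groth.Agent.S4887.result (𝟙 X') _ G (Groth.Agent.H46.FibreProf.PullFP.isFP_pullback b F hF)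
    (Groth.Agent.Lib.TensorMod.FPConv.isFP_of_isFinLocFree hlf')
    hflat π, ?_⟩
  refine Groth.Agent.H22.StrictTransform.isZero_kernel_restrict π _ fun x hx => ?_
  refine Groth.Agent.H22.StrictTransform.stalkMap_injective_of_notMem π hb.1 hG.2 ?_
  rw [Scheme.IdealSheafData.support_comap]
  exact fun h => Set.disjoint_left.1 hdisj h hx

end Groth.Agent.S8913
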