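import Groth.Statements.S8915
import Groth.Agent.Lib.FittSheaf.Omega

set_option autoImplicit false
universe u
open CategoryTheory CategoryTheory.Limits AlgebraicGeometry TopologicalSpace
open SDiv

namespace Groth.Agent.S8915

/-- Let f : X ⟶ S be locally of finite type and quasi-separated. Then the closed subset of X defined by
the Fitting ideal Fit_0(Ω_{X/S}) is exactly the set of points at which f is not unramified, i.e.
which have no open neighbourhood on which f is formally unramified. The published statement does not
assume f quasi-separated; this row does, because the module Ω_{X/S} used here is defined for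
quasi-separated f. -/
theorem result {X S : Scheme.{u}} (f : X ⟶ S) [LocallyOfFiniteType f] [QuasiSeparated f]
    (x : ↥X) :
    x ∈ (Fitt.sheafIdeal (Omega.sheaf f) 0).support ↔ ¬ ∃ U : X.Opens, x ∈ U ∧ FormallyUnramified (U.ι ≫ f) := by
  exact Groth.Agent.Lib.FittSheaf.omega_support_zero f x

end Groth.Agent.S8915
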