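import Groth.Statements.S8920
import Groth.Agent.H2.SplitPerm.Imm
-- import your own Groth.Agent.* helpers here

set_option autoImplicit false
universe u
open CategoryTheory CategoryTheory.Limits AlgebraicGeometry TopologicalSpace
open SDiv

namespace Groth.Agent.S8920

/-- Let i : Z ⟶ Y and j : Y ⟶ X be quasi-compact immersions of schemes with j locally of finite
presentation, and let a : i^*C_{Y/X} ⟶ C_{Z/X}, b : C_{Z/X} ⟶ C_{Z/Y} be the canonical maps of
conormal sheaves. Assume the sequence 0 → i^*C_{Y/X} → C_{Z/X} → C_{Z/Y} → 0 is exact and locally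
split (every point of Z has an open neighbourhood over which b admits a section). Then: (1)
quasi-regularity of j ∘ i passes to i; (2) likewise for H_1-regularity; (3) if both j and j ∘ i are
Koszul-regular then i is Koszul-regular too. The published statement allows arbitrary immersions;
this row takes both immersions quasi-compact, the case in which the conormal sheaves used here are
those of the immersions. -/
theorem result {Z Y X : Scheme.{u}} (i : Z ⟶ Y) (j : Y ⟶ X) [IsImmersion i] [IsImmersion j]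
    [QuasiCompact i] [QuasiCompact j]
    (a : (Scheme.Modules.pullback i).obj (Omega.conormal j) ⟶ Omega.conormal (i ≫ j))
    (ha : OmegaSh.IsConormalMap (i ≫ j) j (𝟙 X) i a)
    (b : (Scheme.Modules.pullback (𝟙 Z)).obj (Omega.conormal (i ≫ j)) ⟶ Omega.conormal i)
    (hb : OmegaSh.IsConormalMap i (i ≫ j) j (𝟙 Z) b)
    [LocallyOfFinitePresentation j]
    (w : a ≫ ((Scheme.Modules.pullbackId Z).inv.app (Omega.conormal (i ≫ j)) ≫ b) = 0) (hex : (ShortComplex.mk a ((Scheme.Modules.pullbackId Z).inv.app (Omega.conormal (i ≫ j)) ≫ b) w).ShortExact)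
    (hsplit : ∀ z : ↥Z, ∃ U : Z.Opens, z ∈ U ∧
      ∃ r : (Scheme.Modules.restrictFunctor U.ι).obj (Omega.conormal i) ⟶
          (Scheme.Modules.restrictFunctor U.ι).obj (Omega.conormal (i ≫ j)),
        r ≫ (Scheme.Modules.restrictFunctor U.ι).map ((Scheme.Modules.pullbackId Z).inv.app (Omega.conormal (i ≫ j)) ≫ b) = 𝟙 _) :
    (RegImm.IsRegularImmersion RegImm.Kind.quasi (i ≫ j) → RegImm.IsRegularImmersion RegImm.Kind.quasi i) ∧
      (RegImm.IsRegularImmersion RegImm.Kind.h1 (i ≫ j) → RegImm.IsRegularImmersion RegImm.Kind.h1 i) ∧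
      (RegImm.IsRegularImmersion RegImm.Kind.koszul j → RegImm.IsRegularImmersion RegImm.Kind.koszul (i ≫ j) →
        RegImm.IsRegularImmersion RegImm.Kind.koszul i) := by
  haveI := hex.mono_f
  have hret : ∀ z : Z, ∃ (U : Z.Opens) (ρ : (Scheme.Modules.restrictFunctor U.ι).obj (Omega.conormal (i ≫ j)) ⟶
      (Scheme.Modules.restrictFunctor U.ι).obj ((Scheme.Modules.pullback i).obj (Omega.conormal j))),
      z ∈ U ∧ (Scheme.Modules.restrictFunctor U.ι).map a ≫ ρ = 𝟙 _ := by
    intro z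
    obtain ⟨U, hzU, r, hr⟩ := hsplit z
    have h := hex.map_of_exact (Scheme.Modules.restrictFunctor U.ι)
    let S := ShortComplex.Splitting.ofExactOfSection _ h.exact r hr h.mono_f
    exact ⟨U, S.r, hzU, S.f_r⟩
  refine ⟨fun h => ⟨inferInstance, fun z => ?_⟩, fun h => ⟨inferInstance, fun z => ?_⟩,
    fun hj h => ⟨inferInstance, fun z => ?_⟩⟩ <;> obtain ⟨U, ρ, hzU, hρ⟩ := hret z
  · obtain ⟨n, hn⟩ := (Groth.Agent.Lib.KindDesc.Imm.quasiAt_iff (i ≫ j) z).mp (h.2 z)
    exact (Groth.Agent.Lib.KindDesc.Imm.quasiAt_iff i z).mpr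
      (Groth.Agent.H2.SplitPerm.atN_of_retraction Groth.Agent.Lib.KindDesc.good_quasi
        Groth.Agent.H2.SplitPerm.quot_quasi ha z hn hzU ρ hρ)
  · obtain ⟨n, hn⟩ := (Groth.Agent.Lib.KindDesc.Imm.h1At_iff (i ≫ j) z).mp (h.2 z)
    exact (Groth.Agent.Lib.KindDesc.Imm.h1At_iff i z).mpr
      (Groth.Agent.H2.SplitPerm.atN_of_retraction Groth.Agent.Lib.KindDesc.good_h1
        Groth.Agent.H2.SplitPerm.quot_h1 ha z hn hzU ρ hρ)
  · obtain ⟨n, hn⟩ := (Groth.Agent.Lib.Synt92.KRImm.isRegularImmersionAt_iff j (i z)).mp (hj.2 (i z))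
    obtain ⟨m, hm⟩ := (Groth.Agent.Lib.Synt92.KRImm.isRegularImmersionAt_iff (i ≫ j) z).mp (h.2 z)
    exact (Groth.Agent.Lib.Synt92.KRImm.isRegularImmersionAt_iff i z).mpr
      (Groth.Agent.H2.SplitPerm.atN_koszul_of_retraction ha z hn hm hzU ρ hρ)

end Groth.Agent.S8920
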