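import Groth.Statements.S8921
import Groth.Agent.H2.SplitPerm.Noeth
-- import your own Groth.Agent.* helpers here

set_option autoImplicit false
set_option linter.style.haveILetI false
universe u
open CategoryTheory CategoryTheory.Limits AlgebraicGeometry TopologicalSpace
open SDiv

namespace Groth.Agent.S8921

/-- Let i : Z ⟶ Y and j : Y ⟶ X be immersions of schemes with X locally Noetherian, z a point of Z with
images y = i z and x, and a : i^*C_{Y/X} ⟶ C_{Z/X}, b : C_{Z/X} ⟶ C_{Z/Y} the canonical maps of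
conormal sheaves. The following are equivalent: (1) i is regular near z and j is regular near y; (2)
i and j ∘ i are regular near z; (3) j ∘ i is regular near z and the sequence 0 → i^*C_{Y/X} →
C_{Z/X} → C_{Z/Y} → 0 is split short exact over some open neighbourhood of z. Both immersions are
quasi-compact automatically, X being locally Noetherian; the quasi-compactness binders only make the
conormal sheaves available. -/
theorem result {Z Y X : Scheme.{u}} (i : Z ⟶ Y) (j : Y ⟶ X) [IsImmersion i] [IsImmersion j]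
    [QuasiCompact i] [QuasiCompact j]
    (a : (Scheme.Modules.pullback i).obj (Omega.conormal j) ⟶ Omega.conormal (i ≫ j))
    (ha : OmegaSh.IsConormalMap (i ≫ j) j (𝟙 X) i a)
    (b : (Scheme.Modules.pullback (𝟙 Z)).obj (Omega.conormal (i ≫ j)) ⟶ Omega.conormal i)
    (hb : OmegaSh.IsConormalMap i (i ≫ j) j (𝟙 Z) b)
    [IsLocallyNoetherian X] (z : ↥Z) :
    ((RegImm.IsRegularImmersionAt RegImm.Kind.regular i z ∧ RegImm.IsRegularImmersionAt RegImm.Kind.regular j (i z)) ↔
      (RegImm.IsRegularImmersionAt RegImm.Kind.regular i z ∧ RegImm.IsRegularImmersionAt RegImm.Kind.regular (i ≫ j) z)) ∧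
    ((RegImm.IsRegularImmersionAt RegImm.Kind.regular i z ∧ RegImm.IsRegularImmersionAt RegImm.Kind.regular (i ≫ j) z) ↔
      (RegImm.IsRegularImmersionAt RegImm.Kind.regular (i ≫ j) z ∧
        ∃ U : Z.Opens, z ∈ U ∧
          ∀ w : (Scheme.Modules.restrictFunctor U.ι).map a ≫ (Scheme.Modules.restrictFunctor U.ι).map ((Scheme.Modules.pullbackId Z).inv.app (Omega.conormal (i ≫ j)) ≫ b) = 0,
            Nonempty (ShortComplex.mk ((Scheme.Modules.restrictFunctor U.ι).map a) ((Scheme.Modules.restrictFunctor U.ι).map ((Scheme.Modules.pullbackId Z).inv.app (Omega.conormal (i ≫ j)) ≫ b)) w).Splitting)) := by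
  haveI : IsLocallyNoetherian Y := LocallyOfFiniteType.isLocallyNoetherian j
  haveI : LocallyOfFinitePresentation j := inferInstance
  have hc := Groth.Agent.Lib.Kaehler.ConormalTriple.zero ha hb
  obtain ⟨hepi, him⟩ := Groth.Agent.Lib.Kaehler.ConormalTriple.main ha hb
  haveI : Epi b := hepi
  let S := ShortComplex.mk a ((Scheme.Modules.pullbackId Z).inv.app (Omega.conormal (i ≫ j)) ≫ b) hc
  have hS : S.Exact := (ShortComplex.exact_iff_image_eq_kernel _).mpr him
  haveI : Epi S.g := epi_comp _ _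
  refine ⟨⟨fun h => ⟨h.1, Groth.Agent.H2.SplitPerm.regularAt_comp z h.1 h.2⟩,
    fun h => ⟨h.1, Groth.Agent.H2.SplitPerm.regularAt_outer z h.1 h.2⟩⟩, fun h => ⟨h.2, ?_⟩, fun h => ⟨?_, h.1⟩⟩
  · obtain ⟨U, ρ, hzU, hρ⟩ := Groth.Agent.H2.SplitPerm.exists_retraction_of_h1At ha z
      (Groth.Agent.H2.SplitPerm.h1At_of_regularAt h.1)
    refine ⟨U, hzU, fun w => ⟨?_⟩⟩
    exact ShortComplex.Splitting.ofExactOfRetraction _ (hS.map (Scheme.Modules.restrictFunctor U.ι)) ρ hρ
      (inferInstanceAs (Epi ((Scheme.Modules.restrictFunctor U.ι).map S.g)))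
  · obtain ⟨hij, U, hzU, hU⟩ := h
    obtain ⟨sp⟩ := hU (by rw [← Functor.map_comp, hc, Functor.map_zero])
    obtain ⟨n, hn⟩ := (Groth.Agent.Lib.KindDesc.Imm.h1At_iff (i ≫ j) z).1
      (Groth.Agent.H2.SplitPerm.h1At_of_regularAt hij)
    exact Groth.Agent.H2.SplitPerm.regularAt_of_h1At ((Groth.Agent.Lib.KindDesc.Imm.h1At_iff i z).2
      (Groth.Agent.H2.SplitPerm.atN_of_retraction Groth.Agent.Lib.KindDesc.good_h1
        Groth.Agent.H2.SplitPerm.quot_h1 ha z hn hzU sp.r sp.f_r))

end Groth.Agent.S8921
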