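import Groth.Statements.S8922
import Groth.Agent.Lib.StrictPush.Basic
import Groth.Agent.S0017
import Groth.Agent.Lib.Modules.LocalSections
import Groth.Agent.Lib.QCoh.Pushforward
import Groth.Agent.Lib.QCoh.Pullback

open Groth.Agent Groth.Agent.Lib Opposite
-- import your own Groth.Agent.* helpers here

set_option autoImplicit false
universe u
open CategoryTheory CategoryTheory.Limits AlgebraicGeometry TopologicalSpace
open SDiv

namespace Groth.Agent.S8922

/-- Let S be a scheme, 𝓘 a quasi-coherent ideal sheaf on S with closed subscheme Z, b : S' ⟶ S a blowing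
up of S in Z, g : X ⟶ Y an affine morphism of schemes over S, F a quasi-coherent O_X-module, and π :
pr_X^*F ⟶ F' a strict transform of F along b (on X ×_S S'). Write g' : X ×_S S' ⟶ Y ×_S S' for the
base change of g. Then g'_*F' is a strict transform of g_*F along b: there is an epimorphism
pr_Y^*(g_*F) ⟶ g'_*F' whose kernel consists, affine-locally, exactly of the sections annihilated by
a power of the inverse image of 𝓘. The published statement identifies g'_*F' with the strict
transform through the canonical base-change isomorphism; this row asserts only that some epimorphism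
from pr_Y^*(g_*F) onto g'_*F' has the strict-transform property. -/
theorem result {X Y S S' : Scheme.{u}} (hX : X ⟶ S) (hY : Y ⟶ S) (g : X ⟶ Y) [IsAffineHom g]
    (h : g ≫ hY = hX) (𝓘 : S.IdealSheafData) (b : S' ⟶ S) (hb : BlowUp.IsBlowUp b 𝓘) (F : X.Modules) (hF : Coh.IsQCoh F)
    (F' : (pullback hX b).Modules) (π : (Scheme.Modules.pullback (pullback.fst hX b)).obj F ⟶ F')
    (hπ : BlowUp.IsStrictTransform (pullback.fst hX b) (𝓘.comap hX) F F' π) :
    ∃ π' : (Scheme.Modules.pullback (pullback.fst hY b)).obj ((Scheme.Modules.pushforward g).obj F) ⟶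
        (Scheme.Modules.pushforward (pullback.map hX b hY b g (𝟙 S') (𝟙 S)
          ((Category.comp_id hX).trans h.symm) ((Category.comp_id b).trans (Category.id_comp b).symm))).obj F',
      BlowUp.IsStrictTransform (pullback.fst hY b) (𝓘.comap hY) ((Scheme.Modules.pushforward g).obj F)
        ((Scheme.Modules.pushforward (pullback.map hX b hY b g (𝟙 S') (𝟙 S)
          ((Category.comp_id hX).trans h.symm) ((Category.comp_id b).trans (Category.id_comp b).symm))).obj F') π' := by
  let g' := pullback.map hX b hY b g (𝟙 S') (𝟙 S)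
    ((Category.comp_id hX).trans h.symm) ((Category.comp_id b).trans (Category.id_comp b).symm)
  let p := pullback.fst hX b
  let q := pullback.fst hY b
  have hgq : g' ≫ q = p ≫ g := pullback.lift_fst _ _ _
  have hgs : g' ≫ pullback.snd hY b = pullback.snd hX b := (pullback.lift_snd _ _ _).trans (Category.comp_id _)
  have sq : IsPullback p g' g q := by
    refine IsPullback.of_bot ?_ hgq.symm (IsPullback.of_hasPullback hY b)
    rw [h, hgs]
    exact IsPullback.of_hasPullback hX b
  haveI : IsAffineHom g' := MorphismProperty.of_isPullback sq ‹IsAffineHom g›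
  haveI : F.IsQuasicoherent := hF
  obtain ⟨θ⟩ := S0017.result g q p g' sq F
  haveI : Epi π := hπ.1
  haveI : ((Scheme.Modules.pullback p).obj F).IsQuasicoherent := QCoh.Pullback.isQCoh_pullback p F
  have hE : ∀ z, ∃ W : (pullback hX b).affineOpens, z ∈ W.1 ∧
      ∃ t, ((𝓘.comap hX).comap p).ideal W = Ideal.span {t} := fun z => by
    rw [← Scheme.IdealSheafData.comap_comp, pullback.condition, Scheme.IdealSheafData.comap_comp]
    exact StrictPush.exists_principal_comap _ hb.1 z
  haveI : F'.IsQuasicoherent := StrictPush.isQCoh_of_principal π hE hπ.2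
  haveI : Epi ((Scheme.Modules.pushforward g').map π) := by
    refine Modules.LocalSections.epi_of_local fun U n x hx => ?_
    obtain ⟨V, hV, hxV, hle⟩ := exists_isAffineOpen_mem_and_subset hx
    obtain ⟨m, hm⟩ := QCoh.Closure.sections_surjective_of_epi π (hV.preimage g')
      (((Scheme.Modules.pushforward g').obj F').presheaf.map (homOfLE hle).op n)
    exact ⟨V, hle, m, hxV, hm⟩
  refine ⟨θ.hom ≫ (Scheme.Modules.pushforward g').map π, epi_comp _ _, fun V m => ?_⟩
  let V' : (pullback hX b).affineOpens := ⟨g' ⁻¹ᵁ V.1, V.2.preimage g'⟩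
  let m' : Γ((Scheme.Modules.pullback p).obj F, V'.1) := θ.hom.app V.1 m
  refine (hπ.2 V' m').trans (exists_congr fun n => ?_)
  have hideal : (BlowUp.exceptional p (𝓘.comap hX) ^ n).ideal V' =
      ((BlowUp.exceptional q (𝓘.comap hY) ^ n).ideal V).map (g'.app V.1).hom := by
    rw [show BlowUp.exceptional p (𝓘.comap hX) = (BlowUp.exceptional q (𝓘.comap hY)).comap g' by
      simp only [BlowUp.exceptional, ← Scheme.IdealSheafData.comap_comp]
      rw [reassoc_of% hgq, h], ← Ideal.Comap.comap_pow,
      Ideal.Comap.ideal_comap g' _ V V' le_rfl, Scheme.Hom.app_eq_appLE]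
  rw [hideal]
  constructor
  · intro hn a ha
    have h1 : θ.hom.app V.1 (a • m) = 0 :=
      (Scheme.Modules.Hom.app_smul θ.hom a m).trans (hn _ (Ideal.mem_map_of_mem _ ha))
    have hinj : Function.Injective (θ.hom.app V.1) := Modules.LocalSections.app_injective θ.hom V.1
    exact hinj (h1.trans (map_zero _).symm)
  · intro hn a ha
    induction ha using Submodule.span_induction with
    | mem a ha =>
      obtain ⟨c, hc, rfl⟩ := ha
      refine (Scheme.Modules.Hom.app_smul θ.hom c m).symm.trans ?_
      exact (congrArg (θ.hom.app V.1) (hn c hc)).trans (map_zero _)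
    | zero => exact zero_smul _ _
    | add a a' _ _ ih ih' => rw [add_smul, ih, ih', add_zero]
    | smul r a _ ih => rw [smul_eq_mul, mul_smul, ih, smul_zero]

end Groth.Agent.S8922
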