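import Groth.Statements.S8923
import Groth.Agent.Lib.RefHull.Divisor
import Groth.Agent.Lib.Cyc.C1Indep
import Groth.Agent.Lib.Cyc.Ord
-- import your own Groth.Agent.* helpers here

set_option autoImplicit false
universe u
open CategoryTheory CategoryTheory.Limits AlgebraicGeometry TopologicalSpace
open SDiv

namespace Groth.Agent.S8923

/-- Let X be an integral scheme that is locally Noetherian, L an invertible O_X-module and s a nonzero
rational (regular meromorphic) section of L, viewed as a nonzero element of the stalk of L at the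
generic point. Then the collection of prime divisors Z ⊆ X with ord_{Z,L}(s) ≠ 0, i.e. the closures
of the codimension-1 points x (dim O_{X,x} = 1) along which s has nonzero order, is locally finite
in X. -/
theorem result (X : Scheme.{u}) [IsIntegral X] [IsLocallyNoetherian X] (L : X.Modules)
    (hL : PicF.IsInvertible L) (s : Cyc.secFibre L (genericPoint ↥X)) (hs : s ≠ 0) :
    LocallyFinite (fun x : {x : ↥X // ringKrullDim ↑(X.presheaf.stalk x) = 1 ∧
        Cyc.secOrdAt L (genericPoint ↥X) x ((genericPoint_spec ↥X).specializes (Set.mem_univ x)) s ≠ 0} => closure ({x.1} : Set ↥X)) := by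
  intro x₀
  obtain ⟨U₁, e₁, hx₁, he₁⟩ := Lib.TensorMod.Gen.isInvertible_iff.1 hL x₀
  obtain ⟨U, hU, hxU, hle⟩ := exists_isAffineOpen_mem_and_subset (x := x₀) (U := U₁) hx₁
  let e := L.presheaf.map (homOfLE hle).op e₁
  have he : Lib.TensorMod.Gen.IsGen L U e := he₁.res hle
  have hη : (genericPoint ↥X) ∈ U := ((genericPoint_spec ↥X).specializes (Set.mem_univ x₀)).mem_open U.2 hxU
  have hgen : ∀ y (hy : y ∈ U), Submodule.span (X.presheaf.stalk y) {L.presheaf.germ U y hy e} = ⊤ := by
    intro y hy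
    refine eq_top_iff.mpr fun v _ => ?_
    obtain ⟨V, hyV, m, rfl⟩ := TopCat.Presheaf.exists_germ_eq L.presheaf v
    obtain ⟨a, ha⟩ := (he (V ⊓ U) inf_le_right).2 (L.presheaf.map (homOfLE inf_le_left).op m)
    refine Submodule.mem_span_singleton.mpr ⟨X.presheaf.germ (V ⊓ U) y ⟨hyV, hy⟩ a, ?_⟩
    rw [← TopCat.Presheaf.germ_res_apply L.presheaf (homOfLE (inf_le_left : V ⊓ U ≤ V)) y ⟨hyV, hy⟩ m,
      ← ha, Lib.Modules.StalkModule.germ_smul]
    congr 1
    exact (TopCat.Presheaf.germ_res_apply L.presheaf (homOfLE (inf_le_right : V ⊓ U ≤ U)) y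
      ⟨hyV, hy⟩ e).symm
  obtain ⟨v, hv⟩ := Submodule.Quotient.mk_surjective _ s
  obtain ⟨φ₀, hφ₀⟩ := Submodule.mem_span_singleton.mp
    (show v ∈ Submodule.span (X.presheaf.stalk (genericPoint ↥X)) {L.presheaf.germ U (genericPoint ↥X) hη e} by rw [hgen (genericPoint ↥X) hη]; trivial)
  have hs₀ : s =
      φ₀ • (Submodule.Quotient.mk (L.presheaf.germ U (genericPoint ↥X) hη e) : Cyc.secFibre L (genericPoint ↥X)) := by
    rw [← hv, ← hφ₀]; rfl
  have hu₀ : IsUnit φ₀ := by
    by_contra hu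
    exact Lib.Cyc.C1Indep.residue_ne_zero_of_smul hs hs₀
      ((IsLocalRing.residue_eq_zero_iff _).mpr ((IsLocalRing.mem_maximalIdeal _).mpr hu))
  obtain ⟨V, hV, g, hg⟩ := TopCat.Presheaf.exists_germ_eq X.presheaf φ₀
  have hgη : (genericPoint ↥X) ∈ X.basicOpen g := (X.mem_basicOpen g (genericPoint ↥X) hV).mpr (by rw [← hg] at hu₀; exact hu₀)
  have hfin := Lib.RefHull.Divisor.finite_not_mem hU hgη
  refine ⟨U, U.2.mem_nhds hxU, ?_⟩
  refine Set.Finite.of_finite_image (f := Subtype.val) (hfin.subset ?_) Subtype.val_injective.injOn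
  rintro _ ⟨⟨x, hx1, hx⟩, ⟨y, hy, hyU⟩, rfl⟩
  have hxU' : x ∈ U := (specializes_iff_mem_closure.mpr hy).mem_open U.2 hyU
  refine ⟨hxU', ?_, fun hxg => hx ?_⟩
  · have h := ringKrullDim_stalk_eq_coheight x
    rw [hx1] at h
    exact_mod_cast h.symm
  set hsp := (genericPoint_spec ↥X).specializes (Set.mem_univ x)
  have hxV : x ∈ V := X.basicOpen_le g hxg
  have hex : ∃ t : L.presheaf.stalk x, Submodule.span (X.presheaf.stalk x) {t} = ⊤ := ⟨_, hgen x hxU'⟩
  have ht₀ := Classical.choose_spec hex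
  obtain ⟨b, hb⟩ := Submodule.mem_span_singleton.mp
    (show Classical.choose hex ∈ Submodule.span (X.presheaf.stalk x) {L.presheaf.germ U x hxU' e} by
      rw [hgen x hxU']; trivial)
  obtain ⟨a, ha⟩ := Submodule.mem_span_singleton.mp
    (show L.presheaf.germ U x hxU' e ∈ Submodule.span (X.presheaf.stalk x) {Classical.choose hex} by
      rw [ht₀]; trivial)
  have hau : IsUnit a := by
    by_contra hau
    have h1 : (1 - b * a) • Classical.choose hex = 0 := by
      rw [sub_smul, one_smul, mul_smul, ha, hb, sub_self]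
    have h2 : IsUnit (1 - b * a) := IsLocalRing.isUnit_one_sub_self_of_mem_nonunits _
      ((IsLocalRing.mem_maximalIdeal _).mp (Ideal.mul_mem_left _ _ ((IsLocalRing.mem_maximalIdeal _).mpr hau)))
    refine Lib.Cyc.C1Indep.mk_ne_zero hL x ht₀ ?_
    rw [h2.smul_eq_zero.mp h1]
    rfl
  let c : X.presheaf.stalk x := X.presheaf.germ V x hxV g * a
  have hc : IsUnit c := ((X.mem_basicOpen g x hxV).mp hxg).mul hau
  have hspec : s = X.presheaf.stalkSpecializes hsp c •
      (Submodule.Quotient.mk (L.presheaf.stalkSpecializes hsp (Classical.choose hex)) : Cyc.secFibre L (genericPoint ↥X)) := by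
    rw [hs₀, map_mul, mul_smul, ← Submodule.Quotient.mk_smul, ← Submodule.Quotient.mk_smul,
      ← Submodule.Quotient.mk_smul, ← Lib.Cyc.C1.stalkSpecializes_smul, ha]
    congr 1
    congr 1
    · rw [← hg]
      exact (ConcreteCategory.congr_hom
        (TopCat.Presheaf.germ_stalkSpecializes X.presheaf hxV hsp) g).symm
    · exact (ConcreteCategory.congr_hom
        (TopCat.Presheaf.germ_stalkSpecializes L.presheaf hxU' hsp) e).symm
  have hex' : ∃ φ : X.presheaf.stalk (genericPoint ↥X), s =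
      φ • (Submodule.Quotient.mk (L.presheaf.stalkSpecializes hsp (Classical.choose hex)) : Cyc.secFibre L (genericPoint ↥X)) :=
    ⟨_, hspec⟩
  rw [Cyc.secOrdAt, dif_pos hex, dif_pos hex',
    Lib.Cyc.C1.residue_eq_of_smul_eq hs (Classical.choose_spec hex') hspec]
  show Cyc.ordAt x (genericPoint ↥X) hsp (Cyc.specMap x (genericPoint ↥X) hsp c) = 0
  rw [Cyc.ordAt, CycAlg.ordFrac]
  split_ifs with h
  · haveI := h.1; haveI := h.2.1; haveI := h.2.2.1; haveI := h.2.2.2
    rw [← Lib.Cyc.Ord.algebraMap_mk, Ring.ordFrac_of_isUnit (hc.map _)]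
    rfl
  · rfl

end Groth.Agent.S8923
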