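import Groth.Statements.S8924
-- import your own Groth.Agent.* helpers here

set_option autoImplicit false
universe u v
open InjHull

namespace Groth.Agent.S8924

/-- For a submodule M of an R-module N, the inclusion of M into N is an essential injection if and only
if every nonzero element x of N has a multiple f • x which is a nonzero element of M. -/
theorem result (R : Type u) [CommRing R] (N : Type v) [AddCommGroup N] [Module R N] (M : Submodule R N) : InjHull.IsEssentialInj M.subtype ↔ ∀ x : N, x ≠ 0 → ∃ f : R, f • x ∈ M ∧ f • x ≠ 0 := by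
  constructor
  · intro h x hx
    obtain ⟨hinj, hess⟩ := h
    have := hess (Submodule.span R {x}) (by simpa using hx)
    obtain ⟨y, ⟨hy1, hy2⟩, hy0⟩ := Submodule.exists_mem_ne_zero_of_ne_bot this
    obtain ⟨f, rfl⟩ := Submodule.mem_span_singleton.mp hy1
    exact ⟨f, by simpa using hy2, hy0⟩
  · intro h
    refine ⟨M.injective_subtype, fun N hN => ?_⟩
    obtain ⟨x, hx, hx0⟩ := Submodule.exists_mem_ne_zero_of_ne_bot hN
    obtain ⟨f, hf, hf0⟩ := h x hx0
    intro hb
    have : f • x ∈ N ⊓ LinearMap.range M.subtype := ⟨N.smul_mem f hx, by simpa using hf⟩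
    rw [hb] at this
    exact hf0 this


end Groth.Agent.S8924
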