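import Groth.Statements.S8925
import Mathlib.RingTheory.Flat.Basic
import Mathlib.RingTheory.TensorProduct.Basic
import Mathlib.RingTheory.IsTensorProduct
-- import your own Groth.Agent.* helpers here

set_option autoImplicit false
universe u
open InjHull

namespace Groth.Agent.S8925

/-- If S is a flat R-algebra and E is an injective S-module, then E, viewed as an R-module by
restriction of scalars, is an injective R-module. -/
theorem result (R S : Type u) [CommRing R] [CommRing S] [Algebra R S] [Module.Flat R S] (E : Type u) [AddCommGroup E] [Module S E] [Module R E] [IsScalarTower R S E] [Module.Injective S E] : Module.Injective R E := by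
  refine Module.Baer.injective fun J g => ?_
  have hJ : Function.Injective (LinearMap.lTensor S J.subtype) :=
    Module.Flat.lTensor_preserves_injective_linearMap _ J.injective_subtype
  let g' : TensorProduct R S J →ₗ[S] E := LinearMap.liftBaseChange S g
  let ι : TensorProduct R S J →ₗ[S] TensorProduct R S R := LinearMap.baseChange S J.subtype
  obtain ⟨h, hh⟩ := Module.Injective.out ι hJ g'
  refine ⟨(h.restrictScalars R) ∘ₗ TensorProduct.mk R S R 1, fun x hx => ?_⟩
  have := hh ((1 : S) ⊗ₜ[R] (⟨x, hx⟩ : J))
  simpa [ι, g'] using this


end Groth.Agent.S8925
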