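import Groth.Statements.S8926
import Mathlib.RingTheory.TensorProduct.Basic
import Mathlib.Algebra.Algebra.Epi
-- import your own Groth.Agent.* helpers here

set_option autoImplicit false
universe u
open InjHull

namespace Groth.Agent.S8926

/-- Suppose R → S is an epimorphism of rings and E is an S-module whose underlying R-module (via
restriction of scalars) is injective; then E is injective as an S-module as well. -/
theorem result (R S : Type u) [CommRing R] [CommRing S] [Algebra R S] [Algebra.IsEpi R S] (E : Type u) [AddCommGroup E] [Module S E] [Module R E] [IsScalarTower R S E] [Module.Injective R E] : Module.Injective S E := by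
  refine Module.Injective.mk fun X Y _ _ _ _ f hf g => ?_
  let _ : Module R X := Module.compHom X (algebraMap R S)
  let _ : Module R Y := Module.compHom Y (algebraMap R S)
  have : IsScalarTower R S X := IsScalarTower.of_algebraMap_smul fun _ _ => rfl
  have : IsScalarTower R S Y := IsScalarTower.of_algebraMap_smul fun _ _ => rfl
  obtain ⟨h, hh⟩ := Module.Injective.out (R := R) (f.restrictScalars R) hf (g.restrictScalars R)
  refine ⟨{ h with map_smul' := fun s y => ?_ }, hh⟩
  -- two maps out of `S ⊗ S ≅ S` agree
  let φ : TensorProduct R S S →ₗ[R] E :=
    TensorProduct.lift (LinearMap.mk₂ R (fun a b => a • h (b • y))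
      (fun a a' b => add_smul _ _ _) (fun r a b => smul_assoc _ _ _)
      (fun a b b' => by rw [add_smul, map_add, smul_add])
      (fun r a b => by rw [smul_assoc, map_smul, smul_comm]))
  have : (1 : S) ⊗ₜ[R] s = s ⊗ₜ[R] (1 : S) :=
    (Algebra.isEpi_iff_forall_one_tmul_eq R S).mp inferInstance s
  have := congrArg φ this
  simpa [φ] using this


end Groth.Agent.S8926
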