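import Groth.Statements.S8927
import Groth.Agent.Lib.Disc.FlatFrac
import Mathlib.RingTheory.Flat.TorsionFree

set_option autoImplicit false
universe u
open Disc

namespace Groth.Agent.S8927

/-- For a map A → B of Noetherian rings such that the localization B_q is flat over A for every
associated prime q of B, every nonzerodivisor of A maps to a nonzerodivisor of B. -/
theorem result (A B : Type u) [CommRing A] [CommRing B] [IsNoetherianRing A] [IsNoetherianRing B] [Algebra A B] (h3 : ∀ (q : Ideal B) [q.IsPrime], IsAssociatedPrime q B → Module.Flat A (Localization.AtPrime q)) : nonZeroDivisors A ≤ (nonZeroDivisors B).comap (algebraMap A B) := by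
  intro a ha
  show algebraMap A B a ∈ nonZeroDivisors B
  rw [mem_nonZeroDivisors_iff_right]
  intro b hb
  by_contra hb0
  obtain ⟨q, hq, hle⟩ := exists_le_isAssociatedPrime_of_isNoetherianRing B b hb0
  haveI := hq.isPrime
  haveI := h3 q hq
  have hz : algebraMap A (Localization.AtPrime q) a * algebraMap B (Localization.AtPrime q) b = 0 := by
    rw [IsScalarTower.algebraMap_apply A B (Localization.AtPrime q), ← map_mul, mul_comm, hb, map_zero]
  have hreg : Function.Injective (fun x : Localization.AtPrime q => a • x) := by
    have := Module.Flat.isSMulRegular_of_isRegular (isRegular_iff_mem_nonZeroDivisors.2 ha) (M := Localization.AtPrime q)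
    exact this
  have h0 : algebraMap B (Localization.AtPrime q) b = 0 := hreg (by
    show a • algebraMap B (Localization.AtPrime q) b = a • 0
    rw [smul_zero, Algebra.smul_def]
    exact hz)
  obtain ⟨⟨s, hs⟩, hsb⟩ := (IsLocalization.map_eq_zero_iff q.primeCompl _ _).1 h0
  refine hs (hle ?_)
  rw [Submodule.mem_colon_singleton, smul_eq_mul, hsb]
  exact Submodule.zero_mem _

end Groth.Agent.S8927
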