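import Groth.Statements.S8929
import Groth.Agent.Lib.Disc.FlatFrac
import Mathlib.RingTheory.Ideal.HasGoingUp

set_option autoImplicit false
universe u
open scoped TensorProduct
open Disc

namespace Groth.Agent.S8929

/-- Let A → B be a map of Noetherian rings with the going-up property. If B_q is flat over A for every
associated prime q of B and for every prime q of B lying over an associated prime of A, then Q(A)
⊗_A B is flat over the total ring of fractions Q(A). -/
theorem result (A B : Type u) [CommRing A] [CommRing B] [IsNoetherianRing A] [IsNoetherianRing B] [Algebra A B] [Algebra.HasGoingUp A B] (h3 : ∀ (q : Ideal B) [q.IsPrime], IsAssociatedPrime q B → Module.Flat A (Localization.AtPrime q)) (h4 : ∀ (q : Ideal B) [q.IsPrime], IsAssociatedPrime (q.comap (algebraMap A B)) A → Module.Flat A (Localization.AtPrime q)) : Module.Flat (FractionRing A) (FractionRing A ⊗[A] B) := by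
  rw [Groth.Agent.Lib.Disc.flat_fractionRing_tensor_iff]
  let T := Algebra.algebraMapSubmonoid B (nonZeroDivisors A)
  let L := Groth.Agent.Lib.Disc.NzdLoc A B
  refine Module.flat_of_isLocalized_maximal L L (fun P [P.IsMaximal] => Localization.AtPrime P)
    (fun P [P.IsMaximal] => Algebra.linearMap L (Localization.AtPrime P)) ?_
  intro P _
  let q : Ideal B := P.comap (algebraMap B L)
  haveI : q.IsPrime := Ideal.IsPrime.comap _
  haveI : IsLocalization q.primeCompl (Localization.AtPrime P) :=
    IsLocalization.isLocalization_isLocalization_atPrime_isLocalization T (Localization.AtPrime P) P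
  let p : Ideal A := q.comap (algebraMap A B)
  -- `p` consists of zero divisors, hence lies in an associated prime
  have hp : (p : Set A) ⊆ ⋃ m ∈ (associatedPrimes.finite A A).toFinset, (m : Set A) := by
    intro x hx
    have hx' : x ∈ (nonZeroDivisors A : Set A)ᶜ := by
      intro hnz
      refine Ideal.IsPrime.ne_top (I := P) inferInstance (P.eq_top_of_isUnit_mem hx ?_)
      exact IsLocalization.map_units L (⟨_, ⟨x, hnz, rfl⟩⟩ : T)
    rw [← biUnion_associatedPrimes_eq_compl_nonZeroDivisors A] at hx'
    simpa using hx'
  obtain ⟨m, hm, hpm⟩ := (Ideal.subset_union_prime (f := fun I : Ideal A => I) ⊥ ⊥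
    (fun I hI _ _ => IsAssociatedPrime.isPrime ((Set.Finite.mem_toFinset _).1 hI))).1 hp
  have hma : IsAssociatedPrime m A := (Set.Finite.mem_toFinset _).1 hm
  haveI := hma.isPrime
  haveI : q.LiesOver p := ⟨rfl⟩
  obtain ⟨q', hle, hq', hq'm⟩ := Ideal.exists_ideal_ge_liesOver_of_le q (show p ≤ m from hpm)
  haveI := hq'
  haveI : Module.Flat A (Localization.AtPrime q') := h4 q' (by
    rw [show q'.comap (algebraMap A B) = m from hq'm.over.symm]; exact hma)
  haveI : Module.Flat A (Localization.AtPrime q) :=
    Groth.Agent.Lib.Disc.flat_localization_of_le q'.primeCompl q.primeCompl (fun x hx h => hx (hle h))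
  exact Module.Flat.of_linearEquiv
    (((IsLocalization.algEquiv q.primeCompl (Localization.AtPrime P) (Localization.AtPrime q)).restrictScalars A).toLinearEquiv)

end Groth.Agent.S8929
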