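import Groth.Statements.S8930
import Mathlib

set_option autoImplicit false
set_option backward.isDefEq.respectTransparency false
universe u
open AlgebraicGeometry
open Disc

namespace Groth.Agent.S8930

open CategoryTheory Limits TensorProduct

theorem isOpenImmersion_of_subalgebra {R B : Type u} [CommRing R] [CommRing B] [Algebra R B] (C : Subalgebra R B)
    (h : IsOpenImmersion (Spec.map (CommRingCat.ofHom (algebraMap R B)))) :
    IsOpenImmersion (Spec.map (CommRingCat.ofHom C.val.toRingHom)) := by
  haveI hflat : Module.Flat R B := by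
    have h2 := (HasRingHomProperty.Spec_iff (P := @AlgebraicGeometry.Flat)).mp
      (inferInstance : AlgebraicGeometry.Flat (Spec.map (CommRingCat.ofHom (algebraMap R B))))
    rw [CommRingCat.hom_ofHom, RingHom.flat_algebraMap_iff] at h2
    exact h2
  haveI hepi : Algebra.IsEpi R B := by
    refine CommRingCat.epi_iff_epi.mp ⟨fun {W} g g' hgg => ?_⟩
    apply Spec.map_injective
    rw [← cancel_mono (Spec.map (CommRingCat.ofHom (algebraMap R B))), ← Spec.map_comp, ← Spec.map_comp, hgg]
  let μ : (↥C) ⊗[R] B →ₐ[R] B := Algebra.TensorProduct.productMap C.val (AlgHom.id R B)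
  have hμ : Function.Bijective μ := by
    refine ⟨?_, fun b => ⟨1 ⊗ₜ b, by simp [μ]⟩⟩
    have e : μ.toLinearMap = (LinearMap.mul' R B).comp (LinearMap.rTensor B C.val.toLinearMap) :=
      TensorProduct.ext' fun c b => by simp [μ]
    show Function.Injective μ.toLinearMap
    rw [e, LinearMap.coe_comp]
    exact Function.Injective.comp Algebra.IsEpi.injective_lift_mul
      (Module.Flat.rTensor_preserves_injective_linearMap _ Subtype.val_injective)
  have hfst : IsOpenImmersion (Spec.map (CommRingCat.ofHom
      (Algebra.TensorProduct.includeLeftRingHom : ↥C →+* (↥C) ⊗[R] B))) := by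
    rw [← pullbackSpecIso_inv_fst R (↥C) B]
    infer_instance
  let e : CommRingCat.of ((↥C) ⊗[R] B) ≅ CommRingCat.of B :=
    (RingEquiv.ofBijective μ.toRingHom hμ).toCommRingCatIso
  have hcomp : CommRingCat.ofHom C.val.toRingHom =
      CommRingCat.ofHom (Algebra.TensorProduct.includeLeftRingHom : ↥C →+* (↥C) ⊗[R] B) ≫ e.hom := by
    ext c
    show (c : B) = μ (c ⊗ₜ 1)
    simp [μ]
  rw [hcomp, Spec.map_comp]
  infer_instance

/-- Given two factorizations A → B' → B and A → B'' → B of a ring map with A → B' and A → B'' finite and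
Spec(B) → Spec(B'), Spec(B) → Spec(B'') open immersions, there is an A-subalgebra C of B which is
finite over A, contains the images of B' and B'', and is such that Spec(B) → Spec(C) is an open
immersion. (Such an A → B is quasi-finite; that hypothesis of the published statement is implied by
the factorizations and is not repeated.) -/
theorem result (A B B' B'' : Type u) [CommRing A] [CommRing B] [CommRing B'] [CommRing B''] [Algebra A B] [Algebra A B'] [Algebra A B''] [Algebra B' B] [Algebra B'' B] [IsScalarTower A B' B] [IsScalarTower A B'' B] [Module.Finite A B'] [Module.Finite A B''] (h' : IsOpenImmersion (Spec.map (CommRingCat.ofHom (algebraMap B' B)))) (h'' : IsOpenImmersion (Spec.map (CommRingCat.ofHom (algebraMap B'' B)))) : ∃ C : Subalgebra A B, Module.Finite A C ∧ Set.range (algebraMap B' B) ⊆ (C : Set B) ∧ Set.range (algebraMap B'' B) ⊆ (C : Set B) ∧ IsOpenImmersion (Spec.map (CommRingCat.ofHom C.val.toRingHom)) := by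
  let C : Subalgebra A B := (IsScalarTower.toAlgHom A B' B).range ⊔ (IsScalarTower.toAlgHom A B'' B).range
  have h1 : Set.range (algebraMap B' B) ⊆ (C : Set B) := by
    rintro _ ⟨x, rfl⟩
    exact (le_sup_left : (IsScalarTower.toAlgHom A B' B).range ≤ C) ⟨x, rfl⟩
  refine ⟨C, ?_, h1, ?_, ?_⟩
  · haveI : Module.Finite A (IsScalarTower.toAlgHom A B' B).range :=
      Module.Finite.of_surjective (IsScalarTower.toAlgHom A B' B).rangeRestrict.toLinearMap
        (IsScalarTower.toAlgHom A B' B).rangeRestrict_surjective
    haveI : Module.Finite A (IsScalarTower.toAlgHom A B'' B).range :=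
      Module.Finite.of_surjective (IsScalarTower.toAlgHom A B'' B).rangeRestrict.toLinearMap
        (IsScalarTower.toAlgHom A B'' B).rangeRestrict_surjective
    exact Subalgebra.finite_sup _ _
  · rintro _ ⟨x, rfl⟩
    exact (le_sup_right : (IsScalarTower.toAlgHom A B'' B).range ≤ C) ⟨x, rfl⟩
  · let C' : Subalgebra B' B :=
      { C.toSubsemiring with
        algebraMap_mem' := fun x => h1 ⟨x, rfl⟩ }
    exact isOpenImmersion_of_subalgebra C' h'

end Groth.Agent.S8930
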