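import Groth.Statements.S8931
import Groth.Agent.Lib.Disc.Kaehler

set_option autoImplicit false
universe u
open Disc

namespace Groth.Agent.S8931

/-- For a ring A, n ≥ 1 and f_1, …, f_n in A[x_1, …, x_n], with B = A[x_1, …, x_n]/(f_1, …, f_n), the
zeroth Fitting ideal of Ω_{B/A} (the Kähler different of B over A) is generated by the image in B of
the Jacobian determinant det(∂f_i/∂x_j). -/
theorem result (A : Type u) [CommRing A] (n : ℕ) (hn : 1 ≤ n) (f : Fin n → MvPolynomial (Fin n) A) : Fitt.ideal (MvPolynomial (Fin n) A ⧸ Ideal.span (Set.range f)) (KaehlerDifferential A (MvPolynomial (Fin n) A ⧸ Ideal.span (Set.range f))) 0 = Ideal.span {Ideal.Quotient.mk (Ideal.span (Set.range f)) (Matrix.det (Matrix.of fun i j : Fin n => MvPolynomial.pderiv j (f i)))} := by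
  exact Groth.Agent.Lib.Disc.Kaehler.fitting_eq (A := A)
    ⟨f, Ideal.Quotient.mkₐ A (Ideal.span (Set.range f)), Ideal.Quotient.mk_surjective, Ideal.Quotient.mkₐ_ker A _⟩

end Groth.Agent.S8931
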