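import Groth.Statements.S8932
import Groth.Agent.Lib.DMod.GorFibreApply

set_option autoImplicit false
universe u
open CategoryTheory
open scoped TensorProduct
attribute [local instance] HasDerivedCategory.standard
open Dual

namespace Groth.Agent.S8932

/-- For a field extension K/k, a finite type k-algebra A and a dualizing complex ω for A, the derived
base change of ω along A → K ⊗_k A is a dualizing complex for K ⊗_k A (the derived base change
functor being assumed to exist). -/
theorem result (k K : Type u) [Field k] [Field K] [Algebra k K] (A : Type u) [CommRing A] [Algebra k A] [Algebra.FiniteType k A] [DRing.HasLBaseChange (Algebra.TensorProduct.includeRight : A →ₐ[k] K ⊗[k] A).toRingHom] (ω : Dual.D A) (hω : Dual.IsDualizing A ω) : Dual.IsDualizing (K ⊗[k] A) ((DRing.LBaseChange (Algebra.TensorProduct.includeRight : A →ₐ[k] K ⊗[k] A).toRingHom).obj ω) := by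
  letI : Algebra A (K ⊗[k] A) := Algebra.TensorProduct.rightAlgebra
  have : IsNoetherianRing A := Algebra.FiniteType.isNoetherianRing k A
  have : IsNoetherianRing (K ⊗[k] A) := Algebra.FiniteType.isNoetherianRing K _
  let c : (A ⊗[k] K) ≃ₐ[A] (K ⊗[k] A) :=
    AlgEquiv.ofRingEquiv (f := (Algebra.TensorProduct.comm k A K).toRingEquiv) fun a => by
      simp [RingHom.algebraMap_toAlgebra]
  have : Module.Flat A (K ⊗[k] A) := Module.Flat.of_linearEquiv c.toLinearEquiv.symm
  exact Groth.Agent.Lib.DMod.LBC.isDualizing_of_iso
    ((Groth.Agent.Lib.DMod.FlatHom.isoLBaseChange A (K ⊗[k] A)).app ω).symm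
    (Groth.Agent.Lib.DMod.GorFibreGlobal.isDualizing_L_of_fibres
      (Groth.Agent.Lib.DMod.GorFibreApply.ringKrullDim_lt_top_of_field K _) (fun q =>
        have := Groth.Agent.Lib.DMod.GorFibreApply.gorenstein_fibre_fieldExtension k K A
          (q.asIdeal.comap (algebraMap A (K ⊗[k] A)))
        Groth.Agent.Lib.Goren.Rings.isGorensteinRing_of_ringEquiv
          (Algebra.TensorProduct.congr (AlgEquiv.refl (R := A)
            (A₁ := (q.asIdeal.comap (algebraMap A (K ⊗[k] A))).ResidueField)) c).toRingEquiv) hω)

end Groth.Agent.S8932
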