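import Groth.Statements.S8933
import Groth.Agent.Lib.RGamma.Derived
import Groth.Agent.Lib.DR.BaseChange

set_option autoImplicit false
universe u
open CategoryTheory CategoryTheory.Limits
attribute [local instance] HasDerivedCategory.standard
open LocCoh

namespace Groth.Agent.S8933

/-- For a ring A, a finitely generated ideal I and a complex K of A-modules such that multiplication by
some f ∈ I is bijective on every term of K, the object RΓ_I(K) of D(A) is zero; here RΓ_I is the
right derived functor of the I-power torsion functor, assumed to exist. -/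
theorem result (A : Type u) [CommRing A] (I : Ideal A) (hI : I.FG) [DRing.HasRgammaI I] (K : CochainComplex (ModuleCat.{u} A) ℤ) (f : A) (hf : f ∈ I) (hK : ∀ n : ℤ, Function.Bijective (fun x : K.X n => f • x)) : IsZero ((DRing.RgammaI I).obj (DerivedCategory.Q.obj K)) := by
  let X := (DRing.RgammaI I).obj (DerivedCategory.Q.obj K)
  have hX : ∀ q : ℤ, Subsingleton (Dual.HD A X q) := fun q => by
    obtain ⟨e⟩ := Groth.Agent.Lib.RGamma.nonempty_HD_RgammaI_equiv I (DerivedCategory.Q.obj K) q
    have hz : ∀ a : Dual2.HDI A I (DerivedCategory.Q.obj K) q, a = 0 := by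
      have hKiso : IsIso (f • 𝟙 (K⟦q⟧)) := by
        have : ∀ i, IsIso ((f • 𝟙 (K⟦q⟧)).f i) := fun i => by
          rw [ConcreteCategory.isIso_iff_bijective]
          exact hK _
        exact HomologicalComplex.Hom.isIso_of_components _
      have hD : IsIso (f • 𝟙 (DerivedCategory.Q.obj (K⟦q⟧))) := by
        rw [← DerivedCategory.Q.map_id, ← Functor.map_smul]
        infer_instance
      have hL : IsIso (f • 𝟙 ((DerivedCategory.Q.obj K)⟦q⟧)) := by
        have he : f • 𝟙 ((DerivedCategory.Q.obj K)⟦q⟧) =
            ((DerivedCategory.Q.commShiftIso q).app K).inv ≫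
              (f • 𝟙 (DerivedCategory.Q.obj (K⟦q⟧))) ≫
                ((DerivedCategory.Q.commShiftIso q).app K).hom := by
          rw [Linear.smul_comp, Linear.comp_smul]
          exact congrArg (f • ·) (((DerivedCategory.Q.commShiftIso q).app K).inv_hom_id.symm.trans
            (congrArg _ (Category.id_comp _).symm))
        rw [he]
        infer_instance
      intro a
      obtain ⟨j, g, rfl⟩ := Groth.Agent.Lib.RGamma.colimit_rep _ a
      suffices h : g = 0 by rw [h]; exact map_zero _
      have h0 : f ^ j.unop.unop • g = 0 := by
        have hM : f ^ j.unop.unop • 𝟙 (Groth.Agent.Lib.RGamma.quo I j.unop.unop) = 0 := by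
          refine Groth.Agent.Lib.RGamma.quo_hom_ext I ?_
          show f ^ j.unop.unop • (Ideal.Quotient.mk (I ^ j.unop.unop) 1) = 0
          rw [Algebra.smul_def, Ideal.Quotient.algebraMap_eq,
            Ideal.Quotient.eq_zero_iff_mem.2 (Ideal.pow_mem_pow hf _), zero_mul]
        have := congrArg (DerivedCategory.singleFunctor (ModuleCat.{u} A) 0).map hM
        rw [Functor.map_smul, CategoryTheory.Functor.map_id, Functor.map_zero] at this
        refine ((congrArg (f ^ j.unop.unop • ·) (Category.id_comp g).symm).trans
          (Linear.smul_comp ..).symm).trans ?_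
        exact (congrArg (· ≫ g) this).trans zero_comp
      have hinj : ∀ x : (DerivedCategory.singleFunctor (ModuleCat.{u} A) 0).obj
          (Groth.Agent.Lib.RGamma.quo I j.unop.unop) ⟶ (DerivedCategory.Q.obj K)⟦q⟧,
          f • x = 0 → x = 0 := fun x hx => by
        apply (cancel_mono (f • 𝟙 ((DerivedCategory.Q.obj K)⟦q⟧))).1
        rw [Linear.comp_smul, Category.comp_id, zero_comp, hx]
      have : ∀ n (x : (DerivedCategory.singleFunctor (ModuleCat.{u} A) 0).obj
          (Groth.Agent.Lib.RGamma.quo I j.unop.unop) ⟶ (DerivedCategory.Q.obj K)⟦q⟧),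
          f ^ n • x = 0 → x = 0 := fun n => by
        induction n with
        | zero => exact fun x hx => by rwa [pow_zero, one_smul] at hx
        | succ n ih =>
          intro x hx
          exact ih x (hinj _ (by rwa [smul_smul, ← pow_succ']))
      exact this _ g h0
    have : Subsingleton (Dual2.HDI A I (DerivedCategory.Q.obj K) q) :=
      subsingleton_of_forall_eq 0 hz
    exact e.toEquiv.subsingleton
  exact Groth.Agent.Lib.RGamma.isZero_of_subsingleton_HD hX

end Groth.Agent.S8933
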