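import Groth.Statements.S8936
import Groth.Agent.Lib.InjHull.Noeth
-- import your own Groth.Agent.* helpers here

set_option autoImplicit false
universe u v
open InjHull

namespace Groth.Agent.S8936

/-- For a directed system (E_i) of R-modules over a nonempty directed preorder and a compatible family
of essential injections M → E_i, the induced map from M to the direct limit of the E_i is an
essential injection. -/
theorem result (R : Type u) [CommRing R] (ι : Type v) [Preorder ι] [IsDirectedOrder ι] [DecidableEq ι] (i₀ : ι) (E : ι → Type v) [∀ i, AddCommGroup (E i)] [∀ i, Module R (E i)] (f : ∀ i j, i ≤ j → E i →ₗ[R] E j) [DirectedSystem E fun i j h => f i j h] (M : Type v) [AddCommGroup M] [Module R M] (g : ∀ i, M →ₗ[R] E i) (hg : ∀ i j (h : i ≤ j), f i j h ∘ₗ g i = g j) (he : ∀ i, InjHull.IsEssentialInj (g i)) : InjHull.IsEssentialInj (Module.DirectLimit.of R ι E f i₀ ∘ₗ g i₀) := by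
  obtain ⟨hinj, hess⟩ := (Groth.Agent.Lib.InjHull.Basic.isEssentialInj_iff (g i₀)).mp (he i₀)
  have : Nonempty ι := ⟨i₀⟩
  rw [Groth.Agent.Lib.InjHull.Basic.isEssentialInj_iff]
  refine ⟨(injective_iff_map_eq_zero _).mpr fun m hm => ?_, fun z hz => ?_⟩
  · obtain ⟨j, hij, hj⟩ := Module.DirectLimit.of.zero_exact (by simpa using hm)
    exact (he j).injective (by rw [← hg i₀ j hij, map_zero]; simpa using hj)
  · obtain ⟨i, x, rfl⟩ := Module.DirectLimit.exists_of z
    obtain ⟨j, hij, h0j⟩ := exists_ge_ge i i₀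
    rw [← Module.DirectLimit.of_f (hij := hij)] at hz ⊢
    obtain ⟨r, hr0, m, hm⟩ := ((Groth.Agent.Lib.InjHull.Basic.isEssentialInj_iff (g j)).mp (he j)).2
      (f i j hij x) (fun h => hz (by rw [h, map_zero]))
    have hzj : r • Module.DirectLimit.of R ι E f j (f i j hij x) =
        Module.DirectLimit.of R ι E f i₀ (g i₀ m) := by
      rw [← map_smul, ← hm, ← hg i₀ j h0j, LinearMap.comp_apply, Module.DirectLimit.of_f]
    refine ⟨r, fun h => hr0 ?_, m, hzj.symm⟩
    rw [h] at hzj
    obtain ⟨k, hk, hk'⟩ := Module.DirectLimit.of.zero_exact hzj.symm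
    have hm0 : m = 0 := (he k).injective (by
      rw [← hg i₀ k hk, map_zero]; simpa using hk')
    rw [← hm, hm0, map_zero]


end Groth.Agent.S8936
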