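import Groth.Statements.S8937
import Groth.Agent.Lib.Amp36.BlowUpCd

set_option autoImplicit false
universe u
open CategoryTheory AlgebraicGeometry
attribute [local instance] HasDerivedCategory.standard
open LocCoh

namespace Groth.Agent.S8937

/-- Let A be a Noetherian ring, I an ideal and b : X → Spec A a blowing up of Spec A in I. If the fibres
of b have dimension at most d, then cd(A, I) ≤ d + 1, i.e. H^i_I(M) = 0 for all A-modules M and all
i > d + 1. -/
theorem result (A : Type u) [CommRing A] [IsNoetherianRing A] (I : Ideal A) (X : Scheme.{u}) (b : X ⟶ Spec (CommRingCat.of A)) (hb : BlowUp.IsBlowUp b (Curv2.idealSheaf A I)) (d : ℕ) (hd : Dual3.FibreDimLE b d) : LocCoh.CdLE A I (d + 1) := by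
  intro M _ _ i hi
  obtain ⟨p, rfl⟩ : ∃ p, i = p + 1 + 1 := ⟨i - 2, by omega⟩
  obtain ⟨e⟩ := Groth.Agent.S0356.result A I M (p + 1) (by omega)
  have hU : LocCoh.puncturedOpen A I = Groth.Agent.Lib.Amp36.BlowUpCd.cpl (Curv2.idealSheaf A I) :=
    TopologicalSpace.Opens.ext (congrArg compl
      (Groth.Agent.Lib.Amp36.BlowUpCd.support_idealSheaf A I).symm)
  refine @Equiv.subsingleton _ _ e.symm.toEquiv ?_
  rw [hU]
  haveI : SheafOfModules.IsQuasicoherent (R := (Spec (CommRingCat.of A)).ringCatSheaf)
      (tilde (R := CommRingCat.of A) (ModuleCat.of A M)) := inferInstance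
  exact Groth.Agent.Lib.Amp36.BlowUpCd.subsingleton_HH_compl b hb d hd _ inferInstance p (by omega)

end Groth.Agent.S8937
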