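import Groth.Statements.S8938
import Groth.Agent.Lib.Tor.Chart

set_option autoImplicit false
universe u
open CategoryTheory
attribute [local instance] HasDerivedCategory.standard
open LocCoh

namespace Groth.Agent.S8938

/-- Let A be a Noetherian ring, I an ideal generated by t + 1 listed elements a_0, …, a_t, and B =
A[I/a_0] the affine blow-up algebra. Then for some integer c the ideal I^c annihilates Tor_i^A(B, M)
for all A-modules M and all i ≥ t + 1. -/
theorem result (A : Type u) [CommRing A] [IsNoetherianRing A] (t : ℕ) (a : Fin (t + 1) → A) : ∃ c : ℕ, ∀ (M : Type u) [AddCommGroup M] [Module A M] (i : ℕ), t + 1 ≤ i → ∀ x ∈ Ideal.span (Set.range a) ^ c, ∀ y : DRing.Tor A i (BlowUp.affineAlgebra A (Ideal.span (Set.range a)) (a 0)) M, x • y = 0 := by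
  let I := Ideal.span (Set.range a)
  let B := BlowUp.affineAlgebra A I (a 0)
  have ha : ∀ l, a l ∈ I := fun l => Ideal.subset_span ⟨l, rfl⟩
  let fr : A → (Localization.Away (a 0)) := fun x => IsLocalization.mk' (Localization.Away (a 0)) x ⟨a 0, Submonoid.mem_powers _⟩
  have hfr : ∀ x, fr x = IsLocalization.Away.invSelf (S := (Localization.Away (a 0))) (a 0) * algebraMap A (Localization.Away (a 0)) x := fun x => by
    simp only [fr, IsLocalization.mk'_eq_mul_mk'_one x, IsLocalization.Away.invSelf, mul_comm]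
  let v : Fin t ⊕ PEmpty.{u + 1} → B :=
    Sum.elim (fun l => ⟨fr (a l.succ), Algebra.subset_adjoin ⟨_, ha _, rfl⟩⟩) PEmpty.elim
  let π : MvPolynomial (Fin t ⊕ PEmpty.{u + 1}) A →ₐ[A] B := MvPolynomial.aeval v
  let g : Fin t → MvPolynomial PEmpty.{u + 1} A := fun l => MvPolynomial.C (a l.succ)
  have hsurj : Function.Surjective π := by
    have hle : B ≤ (B.val.comp π).range := by
      refine Algebra.adjoin_le ?_
      rintro _ ⟨x, hx, rfl⟩
      change fr x ∈ (B.val.comp π).range
      induction hx using Submodule.span_induction with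
      | mem y hy =>
        obtain ⟨j, rfl⟩ := hy
        induction j using Fin.cases with
        | zero =>
          refine ⟨1, ?_⟩
          simp [fr]
        | succ l => exact ⟨MvPolynomial.X (Sum.inl l), by simp [π, v]⟩
      | zero => simp only [hfr, map_zero, mul_zero]; exact zero_mem _
      | add y z _ _ hy hz => rw [hfr, map_add, mul_add, ← hfr, ← hfr]; exact add_mem hy hz
      | smul c y _ hy =>
        rw [hfr, smul_eq_mul, map_mul, mul_left_comm, ← hfr, ← Algebra.smul_def]
        exact Subalgebra.smul_mem _ hy c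
    intro x
    obtain ⟨p, hp⟩ := hle x.2
    exact ⟨p, Subtype.ext hp⟩
  have hrel : ∀ l, π (Groth.Agent.Lib.Tor.Chart.rel (a 0) g l) = 0 := fun l => by
    apply Subtype.ext
    simp [π, v, g, Groth.Agent.Lib.Tor.Chart.rel, hfr, ← mul_assoc]
  have hker : ∀ p, π p = 0 → Groth.Agent.Lib.Tor.Chart.elim (a 0) g t p = 0 := fun p hp => by
    have key : Groth.Agent.Lib.Tor.Chart.elim (a 0) g t =
        (MvPolynomial.C (σ := Fin t ⊕ PEmpty.{u + 1})).comp (B.val.comp π).toRingHom := by
      refine MvPolynomial.ringHom_ext (fun c => ?_) (fun w => ?_)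
      · simp [Groth.Agent.Lib.Tor.Chart.elim, π]
      · rcases w with l | ⟨⟨⟩⟩
        simp [Groth.Agent.Lib.Tor.Chart.elim, π, v, g, hfr]
    rw [key]
    simp [hp]
  obtain ⟨c, hc⟩ := Groth.Agent.Lib.Tor.Chart.kills_of_surjective (a 0) g π hsurj hrel hker
  refine ⟨c, fun M _ _ i hi x hx y => ?_⟩
  -- elements of `I^c` act on `B` through `a 0 ^ c`
  have hdiv : ∀ x ∈ I ^ c, ∃ z : B, algebraMap A B x = algebraMap A B (a 0 ^ c) * z := by
    have h1 : I.map (algebraMap A B) ≤ Ideal.span {algebraMap A B (a 0)} := by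
      rw [Ideal.map_le_iff_le_comap]
      intro x hx
      refine Ideal.mem_span_singleton.2 ⟨⟨fr x, Algebra.subset_adjoin ⟨x, hx, rfl⟩⟩, Subtype.ext ?_⟩
      change algebraMap A (Localization.Away (a 0)) x = algebraMap A (Localization.Away (a 0)) (a 0) * fr x
      rw [hfr, ← mul_assoc, IsLocalization.Away.mul_invSelf, one_mul]
    intro x hx
    have h2 := Ideal.pow_right_mono h1 c (Ideal.map_pow (algebraMap A B) I c ▸ Ideal.mem_map_of_mem _ hx)
    rw [Ideal.span_singleton_pow, Ideal.mem_span_singleton, ← map_pow] at h2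
    exact h2
  obtain ⟨z, hz⟩ := hdiv x hx
  have hkx : Groth.Agent.Lib.Tor.Annihilate.Kills x t B := fun P hf he j hj w hw => by
    obtain ⟨w', hw'⟩ := hc P hf he j hj (LinearMap.lTensor _ (LinearMap.mulLeft A z) w) (by
      rw [← LinearMap.comp_apply, LinearMap.rTensor_comp_lTensor, ← LinearMap.lTensor_comp_rTensor,
        LinearMap.comp_apply, hw, map_zero])
    refine ⟨w', hw'.trans ?_⟩
    have hlin : (a 0 ^ c) • LinearMap.mulLeft A z = x • (LinearMap.id : B →ₗ[A] B) := by
      refine LinearMap.ext fun b => ?_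
      rw [LinearMap.smul_apply, LinearMap.smul_apply, LinearMap.mulLeft_apply, LinearMap.id_apply,
        Algebra.smul_def, Algebra.smul_def, ← mul_assoc, ← hz]
    rw [← LinearMap.smul_apply, ← LinearMap.lTensor_smul, hlin, LinearMap.lTensor_smul,
      LinearMap.lTensor_id, LinearMap.smul_apply, LinearMap.id_apply]
  let e := (Groth.Agent.Lib.Tor.Balance.torFlipIso (ModuleCat.of A B) (ModuleCat.of A M) i).toLinearEquiv
  refine e.injective ?_
  rw [map_smul, map_zero]
  exact Groth.Agent.Lib.Tor.Annihilate.smul_tor_eq_zero hkx M i (by omega) (e y)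

end Groth.Agent.S8938
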