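import Groth.Statements.S8941
import Groth.Agent.Lib.DMod.FiniteRing
import Groth.Agent.Lib.DMod.Biduality
import Mathlib.Algebra.Homology.DerivedCategory.ShortExact

set_option autoImplicit false
universe u
open CategoryTheory CategoryTheory.Pretriangulated
attribute [local instance] HasDerivedCategory.standard
open Dual

namespace Groth.Agent.S8941
open Groth.Agent.Lib.DMod CategoryTheory.Limits Pretriangulated
/-- Let A be a Noetherian local ring with normalized dualizing complex ω, f a nonzerodivisor in the
maximal ideal and B = A/(f); with R right adjoint to restriction of scalars D(B) → D(A) (so that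
R(ω) is RHom_A(B, ω), a normalized dualizing complex for B), there is a distinguished triangle in
D(A) with vertices R(ω) viewed over A, ω, ω, whose middle morphism ω → ω is multiplication by f. -/
theorem result (A : Type u) [CommRing A] [IsLocalRing A] [IsNoetherianRing A] (ω : Dual.D A) (hω : Dual.IsDualizing A ω) (hn : Dual.IsNormalized A ω) (f : A) (hf : f ∈ IsLocalRing.maximalIdeal A) (hf' : f ∈ nonZeroDivisors A) (R : Dual.D A ⥤ Dual.D (A ⧸ Ideal.span {f})) (adj : DRing.restrictD (Ideal.Quotient.mk (Ideal.span {f})) ⊣ R) : ∃ (u : (DRing.restrictD (Ideal.Quotient.mk (Ideal.span {f}))).obj (R.obj ω) ⟶ ω) (w : ω ⟶ ((DRing.restrictD (Ideal.Quotient.mk (Ideal.span {f}))).obj (R.obj ω))⟦(1 : ℤ)⟧), Triangle.mk u (f • 𝟙 ω) w ∈ distinguishedTriangles := by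
  let B := A ⧸ Ideal.span {f}
  let π := Ideal.Quotient.mk (Ideal.span {f})
  obtain ⟨I, a, b, hI, hinj, ⟨e⟩⟩ := Biduality.exists_complex hω
  haveI := hinj
  obtain ⟨r⟩ := FiniteRing.nonempty_iso_coI_of_ge π (fun i hi => hI i (Or.inl hi)) adj
  let G := ModuleCat.restrictScalars.{u} π
  let X := (G.mapHomologicalComplex (.up ℤ)).obj (FiniteRing.coI π I)
  let κ : X ⟶ I := (FiniteRing.cxa π).counit.app I
  have hκ : ∀ n (g : X.X n), (κ.f n).hom g = (FiniteRing.resCoEquiv π (I.X n) g).hom (1 : B) := fun n g => rfl
  have hdiv : ∀ n, Function.Surjective fun x : I.X n => f • x := fun n x => by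
    have hinjf : Function.Injective (LinearMap.lsmul A A f) := fun s t h => by
      have h : f * s = f * t := h
      exact (mem_nonZeroDivisors_iff_right.1 hf' (s - t) (by rw [sub_mul, mul_comm s, mul_comm t, h, sub_self]) |> sub_eq_zero.1)
    obtain ⟨h, hh⟩ := (Module.injective_module_of_injective_object A (I.X n) (inj := hinj n)).out _ hinjf
      (LinearMap.toSpanSingleton A (I.X n) x)
    refine ⟨h 1, ?_⟩
    show f • h 1 = x
    rw [← map_smul, smul_eq_mul]
    exact (hh 1).trans (one_smul A x)
  let T : ShortComplex (DRing.Cx A) := ShortComplex.mk κ (f • 𝟙 I) (by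
    refine HomologicalComplex.hom_ext _ _ fun n => ModuleCat.hom_ext (LinearMap.ext fun g => ?_)
    show f • (κ.f n).hom g = 0
    rw [hκ, ← map_smul]
    refine (congrArg _ ?_).trans (map_zero _)
    show π f * (1 : B) = 0
    rw [mul_one]
    exact Ideal.Quotient.eq_zero_iff_mem.2 (Ideal.mem_span_singleton_self f))
  have hT : T.ShortExact := HomologicalComplex.shortExact_of_degreewise_shortExact T fun n => by
    refine
      { exact := (ShortComplex.ShortExact.moduleCat_exact_iff_function_exact _).2 fun (x : I.X n) => ?_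
        mono_f := (ModuleCat.mono_iff_injective _).2 fun g g' h => ?_
        epi_g := (ModuleCat.epi_iff_surjective _).2 (hdiv n) }
    · constructor
      · intro hx
        let l : B →ₗ[A] I.X n := Submodule.liftQ (Ideal.span {f}) (LinearMap.toSpanSingleton A (I.X n) x) (by
          rw [Ideal.span, Submodule.span_le, Set.singleton_subset_iff]
          exact hx)
        let l' : (G.obj (ModuleCat.of B B)) ⟶ I.X n :=
          ModuleCat.ofHom (X := G.obj (ModuleCat.of B B))
            { toFun := fun y => l (show B from y)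
              map_add' := fun y y' => map_add l _ _
              map_smul' := fun c y => by
                refine (congrArg l ?_).trans (map_smul l c (show B from y))
                show π c * (show B from y) = c • (show B from y)
                rw [Algebra.smul_def]
                rfl }
        refine ⟨(FiniteRing.resCoEquiv π (I.X n)).symm l', (hκ n _).trans ?_⟩
        rw [LinearEquiv.apply_symm_apply]
        show l (1 : B) = x
        exact one_smul A x
      · rintro ⟨g, rfl⟩
        exact congrArg (fun h : T.X₁ ⟶ T.X₃ => (h.f n).hom g) T.zero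
    · refine (FiniteRing.resCoEquiv π (I.X n)).injective (ModuleCat.hom_ext (LinearMap.ext fun y => ?_))
      obtain ⟨c, hc⟩ := Ideal.Quotient.mk_surjective (show B from y)
      have hy : y = c • (show G.obj (ModuleCat.of B B) from (1 : B)) := by
        show (show B from y) = π c * (1 : B)
        rw [mul_one]
        exact hc.symm
      rw [hy, map_smul, map_smul]
      exact congrArg (c • ·) (((hκ n g).symm.trans h).trans (hκ n g'))
  let e₁ : DerivedCategory.Q.obj X ≅ (DRing.restrictD π).obj (R.obj ω) :=
    (G.mapDerivedCategoryFactors.app _).symm ≪≫ (DRing.restrictD π).mapIso (r ≪≫ R.mapIso e)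
  let D₀ := DerivedCategory.triangleOfSES hT
  refine ⟨e₁.inv ≫ DerivedCategory.Q.map κ ≫ e.hom, e.inv ≫ D₀.mor₃ ≫ e₁.hom⟦(1 : ℤ)⟧', ?_⟩
  refine isomorphic_distinguished _ (DerivedCategory.triangleOfSES_distinguished hT) _
    (Triangle.isoMk _ _ e₁.symm e.symm e.symm ?_ ?_ ?_)
  · show (e₁.inv ≫ DerivedCategory.Q.map κ ≫ e.hom) ≫ e.inv = e₁.inv ≫ DerivedCategory.Q.map κ
    rw [Category.assoc, Category.assoc, Iso.hom_inv_id, Category.comp_id]
  · show (f • 𝟙 ω) ≫ e.inv = e.inv ≫ DerivedCategory.Q.map (f • 𝟙 I)
    rw [Functor.map_smul, CategoryTheory.Functor.map_id, Linear.smul_comp, Linear.comp_smul]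
    simp
  · show (e.inv ≫ D₀.mor₃ ≫ e₁.hom⟦(1 : ℤ)⟧') ≫ e₁.inv⟦(1 : ℤ)⟧' = e.inv ≫ D₀.mor₃
    rw [Category.assoc, Category.assoc]
    exact congrArg (fun z => e.inv ≫ z) ((congrArg (fun z => D₀.mor₃ ≫ z) (((CategoryTheory.shiftFunctor (Dual.D A) (1 : ℤ)).map_comp _ _).symm.trans
      ((congrArg (CategoryTheory.shiftFunctor (Dual.D A) (1 : ℤ)).map e₁.hom_inv_id).trans
        ((CategoryTheory.shiftFunctor (Dual.D A) (1 : ℤ)).map_id _)))).trans (Category.comp_id _))

end Groth.Agent.S8941
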