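import Groth.Statements.S8945
import Groth.Agent.Lib.DMod.FiniteRing
import Groth.Agent.Lib.DMod.DCHomology
import Groth.Agent.Lib.DMod.LocalDuality

set_option autoImplicit false
universe u
open CategoryTheory CategoryTheory.Pretriangulated
attribute [local instance] HasDerivedCategory.standard
open Dual

namespace Groth.Agent.S8945
open Groth.Agent.Lib.DMod CategoryTheory.Limits Pretriangulated
/-- Suppose A is a Noetherian local ring with maximal ideal m and residue field κ, and that ω is a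
normalized dualizing complex on A; take an ideal I ⊆ m of finite length, set B = A/I, and let E be
an injective hull of κ; with R right adjoint to restriction of scalars D(B) → D(A) (so that R(ω) =
RHom_A(B, ω) is a normalized dualizing complex for B), there is a distinguished triangle in D(A)
with vertices R(ω) viewed over A, ω, and the module Hom_A(I, E) placed in degree 0. -/
theorem result (A : Type u) [CommRing A] [IsLocalRing A] [IsNoetherianRing A] (ω : Dual.D A) (hω : Dual.IsDualizing A ω) (hn : Dual.IsNormalized A ω) (I : Ideal A) (hI : I ≤ IsLocalRing.maximalIdeal A) (hIl : IsFiniteLength A I) (E : Type u) [AddCommGroup E] [Module A E] (e : IsLocalRing.ResidueField A →ₗ[A] E) (he : InjHull.IsInjectiveHull e) (R : Dual.D A ⥤ Dual.D (A ⧸ I)) (adj : DRing.restrictD (Ideal.Quotient.mk I) ⊣ R) : ∃ (u : (DRing.restrictD (Ideal.Quotient.mk I)).obj (R.obj ω) ⟶ ω) (v : ω ⟶ Dual.inD A (I →ₗ[A] E)) (w : Dual.inD A (I →ₗ[A] E) ⟶ ((DRing.restrictD (Ideal.Quotient.mk I)).obj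 (R.obj ω))⟦(1 : ℤ)⟧), Triangle.mk u v w ∈ distinguishedTriangles := by
  let π := Ideal.Quotient.mk I
  obtain ⟨J, a, b, hJ, hinj, ⟨eJ⟩⟩ := Biduality.exists_complex hω
  haveI := hinj
  haveI : J.IsStrictlyGE a := (CochainComplex.isStrictlyGE_iff _ _).2 fun q hq => hJ q (Or.inl hq)
  haveI : J.IsKInjective := CochainComplex.isKInjective_of_injective J a
  obtain ⟨r⟩ := FiniteRing.nonempty_iso_coI_of_ge π (fun i hi => hJ i (Or.inl hi)) adj
  let G := ModuleCat.restrictScalars.{u} π
  let N := G.obj (ModuleCat.of (A ⧸ I) (A ⧸ I))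
  let g : ModuleCat.of A A ⟶ N := ModuleCat.ofHom
    { toFun := fun x => (show N from π x)
      map_add' := fun x y => map_add π x y
      map_smul' := fun c x => by rw [smul_eq_mul, map_mul]; rfl }
  let f : ModuleCat.of A I ⟶ ModuleCat.of A A := ModuleCat.ofHom I.subtype
  let S : ShortComplex (ModuleCat.{u} A) := ShortComplex.mk f g (by
    refine ModuleCat.hom_ext (LinearMap.ext fun x => ?_)
    exact Ideal.Quotient.eq_zero_iff_mem.2 x.2)
  have hS : S.ShortExact :=
    { exact := (ShortComplex.ShortExact.moduleCat_exact_iff_function_exact _).2 fun x =>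
        ⟨fun hx => ⟨⟨x, Ideal.Quotient.eq_zero_iff_mem.1 hx⟩, rfl⟩,
          fun h => h.elim fun (y : I) hy => (congrArg g.hom hy.symm).trans (Ideal.Quotient.eq_zero_iff_mem.2 y.2)⟩
      mono_f := (ModuleCat.mono_iff_injective _).2 Subtype.val_injective
      epi_g := (ModuleCat.epi_iff_surjective _).2 Ideal.Quotient.mk_surjective }
  obtain ⟨δ, hδ⟩ := Biduality.exists_triangle (I := J) hS
  let e₁ : Biduality.D J N ≅ (DRing.restrictD π).obj (R.obj ω) :=
    (DerivedCategory.Q.mapIso (FiniteRing.resCoI (φ := π) (I := J))).symm ≪≫ (G.mapDerivedCategoryFactors.app _).symm ≪≫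
      (DRing.restrictD π).mapIso (r ≪≫ R.mapIso eJ)
  let e₂ : Biduality.D J (ModuleCat.of A A) ≅ ω :=
    DerivedCategory.Q.mapIso (HomologicalComplex.Hom.isoOfComponents
      (fun n => ((LinearEquiv.ofLinear
        { toFun := fun φ => ((show ModuleCat.of A A ⟶ J.X n from φ).hom (1 : A))
          map_add' := fun _ _ => rfl
          map_smul' := fun _ _ => rfl }
        { toFun := fun x => (show (Biduality.DC J (ModuleCat.of A A)).X n from
            ModuleCat.ofHom (LinearMap.toSpanSingleton A (J.X n) x))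
          map_add' := fun x y => ModuleCat.hom_ext (LinearMap.ext_ring (by simp))
          map_smul' := fun c x => ModuleCat.hom_ext (LinearMap.ext_ring (by simp)) }
        (LinearMap.ext fun x => by simp)
        (LinearMap.ext fun φ => ModuleCat.hom_ext (LinearMap.ext_ring (by simp)))).toModuleIso :
          (Biduality.DC J (ModuleCat.of A A)).X n ≅ J.X n))
      (fun i j _ => rfl)) ≪≫ eJ
  obtain ⟨hvan, ⟨e0⟩⟩ := LocalDuality.finiteLength_duality hω hn he I hIl
  let K := Biduality.D J (ModuleCat.of A I)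
  have hK : ∀ i, Nonempty (Dual.HD A K i ≃ₗ[A] (Dual.inD A I ⟶ ω⟦i⟧)) := fun i => by
    obtain ⟨e'⟩ := DCHomology.nonempty_HD_DC (ModuleCat.of A I) J i
    exact ⟨e'.trans (Linear.homCongr A (Iso.refl _) ((CategoryTheory.shiftFunctor (Dual.D A) i).mapIso eJ))⟩
  have hz : ∀ i, i ≠ 0 → Subsingleton (Dual.HD A K i) := fun i hi => by
    have := hvan i hi
    exact (hK i).some.toEquiv.subsingleton
  haveI : K.IsGE 0 := (Basic.isGE_iff K 0).2 fun i hi => hz i (by lia)
  haveI : K.IsLE 0 := (Basic.isLE_iff K 0).2 fun i hi => hz i (by lia)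
  obtain ⟨Y, ⟨eY⟩⟩ := DerivedCategory.exists_iso_singleFunctor_obj_of_isGE_of_isLE K 0
  let eY' : Y ≅ ModuleCat.of A (I →ₗ[A] E) :=
    ((DerivedCategory.singleFunctorCompHomologyFunctorIso _ 0).app Y).symm ≪≫
      (DerivedCategory.homologyFunctor _ 0).mapIso eY.symm ≪≫
      ((hK 0).some.trans ((Linear.homCongr A (Iso.refl _)
        ((shiftFunctorZero (Dual.D A) ℤ).app ω)).trans e0)).toModuleIso
  let e₃ : K ≅ Dual.inD A (I →ₗ[A] E) := eY ≪≫ (DerivedCategory.singleFunctor _ 0).mapIso eY'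
  refine ⟨e₁.inv ≫ DerivedCategory.Q.map (Biduality.DCmap J g) ≫ e₂.hom,
    e₂.inv ≫ DerivedCategory.Q.map (Biduality.DCmap J f) ≫ e₃.hom,
    e₃.inv ≫ δ ≫ e₁.hom⟦(1 : ℤ)⟧', ?_⟩
  refine isomorphic_distinguished _ hδ _ (Triangle.isoMk _ _ e₁.symm e₂.symm e₃.symm ?_ ?_ ?_)
  · show (e₁.inv ≫ _ ≫ e₂.hom) ≫ e₂.inv = _
    rw [Category.assoc, Category.assoc, Iso.hom_inv_id, Category.comp_id]
    rfl
  · show (e₂.inv ≫ _ ≫ e₃.hom) ≫ e₃.inv = _
    rw [Category.assoc, Category.assoc, Iso.hom_inv_id, Category.comp_id]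
    rfl
  · show (e₃.inv ≫ δ ≫ e₁.hom⟦(1 : ℤ)⟧') ≫ e₁.inv⟦(1 : ℤ)⟧' = e₃.inv ≫ δ
    rw [Category.assoc, Category.assoc]
    exact congrArg (fun z => e₃.inv ≫ z) ((congrArg (fun z => δ ≫ z) (((CategoryTheory.shiftFunctor (Dual.D A) (1 : ℤ)).map_comp _ _).symm.trans
      ((congrArg (CategoryTheory.shiftFunctor (Dual.D A) (1 : ℤ)).map e₁.hom_inv_id).trans
        ((CategoryTheory.shiftFunctor (Dual.D A) (1 : ℤ)).map_id _)))).trans (Category.comp_id _))

end Groth.Agent.S8945
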