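import Groth.Statements.S8946
import Groth.Agent.Lib.ProZero.PointInj

set_option autoImplicit false
universe u
open CategoryTheory
open LocCoh

namespace Groth.Agent.S8946

/-- Let A be a Noetherian ring of finite dimension, T ⊆ Spec A a specialization-stable subset, (M_n) an
inverse system of A-modules and i ≥ 0. Suppose m′(m) ≥ m is such that for every p ∈ T: the maps
H^{i-1}_{pA_p}(M_{k,p}) → H^{i-1}_{pA_p}(M_{m,p}) vanish for k ≥ m′(m) (no condition when i = 0),
and the maps H^i_{pA_p}(M_{k,p}) → H^i_{pA_p}(M_{m,p}) have the same image for all k ≥ m′(m), this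
image mapping injectively into H^i_{pA_p}(M_{0,p}). Then there is m₀ such that for every m ≥ m₀
there is m″ ≥ m such that for k ≥ m″ the image of H^i_T(M_k) → H^i_T(M_m) maps injectively into
H^i_T(M_{m₀}). -/
theorem result (A : Type u) [CommRing A] [IsNoetherianRing A] (hA : ringKrullDim A < ⊤) (T : Set (PrimeSpectrum A)) (hT : StableUnderSpecialization T) (M : ℕ → Type u) [∀ n, AddCommGroup (M n)] [∀ n, Module A (M n)] (φ : ∀ k m : ℕ, m ≤ k → (M k →ₗ[A] M m)) (hφ : ∀ (k l m : ℕ) (h₁ : m ≤ l) (h₂ : l ≤ k), φ k m (h₁.trans h₂) = φ l m h₁ ∘ₗ φ k l h₂) (i : ℕ) (m' : ℕ → ℕ) (hm' : ∀ m, m ≤ m' m) (h1 : 0 < i → ∀ (p : PrimeSpectrum A), p ∈ T → ∀ (m k : ℕ) (h : m ≤ k), m' m ≤ k → (localCohomology (IsLocalRing.maximalIdeal (Localization.AtPrime p.asIdeal)) (i - 1)).map (ModuleCat.ofHom (LocalizedModule.map p.asIdeal.primeCompl (φ k m h))) = 0) (h2 : ∀ (p : PrimeSpectrum A), p ∈ T → ∀ (m k : ℕ) (h : m ≤ k), m' m ≤ k → LinearMap.range ((localCohomology (IsLocalRing.maximalIdeal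 (Localization.AtPrime p.asIdeal)) i).map (ModuleCat.ofHom (LocalizedModule.map p.asIdeal.primeCompl (φ k m h)))).hom = LinearMap.range ((localCohomology (IsLocalRing.maximalIdeal (Localization.AtPrime p.asIdeal)) i).map (ModuleCat.ofHom (LocalizedModule.map p.asIdeal.primeCompl (φ (m' m) m (hm' m))))).hom) (h3 : ∀ (p : PrimeSpectrum A), p ∈ T → ∀ (m : ℕ) (x : ↑((localCohomology (IsLocalRing.maximalIdeal (Localization.AtPrime p.asIdeal)) i).obj (ModuleCat.of (Localization.AtPrime p.asIdeal) (LocalizedModule p.asIdeal.primeCompl (M m))))), x ∈ LinearMap.range ((localCohomology (IsLocalRing.maximalIdeal (Localization.AtPrime p.asIdeal)) i).map (ModuleCat.ofHom (LocalizedModule.map p.asIdeal.primeCompl (φ (m' m) m (hm' m))))).hom → ((localCohomology (IsLocalRing.maximalIdeal (Localization.AtPrime p.asIdeal)) i).map (ModuleCat.ofHom (LocalizedModule.map p.asIdeal.primeCompl (φ m 0 (Nat.zero_le m))))).hom x = 0 → x = 0) : ∃ m₀ : ℕ, ∀ m : ℕ, ∀ (hm : m₀ ≤ m),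 ∃ m'' : ℕ, m ≤ m'' ∧ ∀ (k : ℕ) (h : m ≤ k), m'' ≤ k → ∀ x : ↑((localCohomology.ofDiagram (Dual2.idealsInDiagram T) i).obj (ModuleCat.of A (M m))), x ∈ LinearMap.range ((localCohomology.ofDiagram (Dual2.idealsInDiagram T) i).map (ModuleCat.ofHom (φ k m h))).hom → ((localCohomology.ofDiagram (Dual2.idealsInDiagram T) i).map (ModuleCat.ofHom (φ m m₀ hm))).hom x = 0 → x = 0 := by
  classical
  obtain ⟨d, hd⟩ : ∃ d : ℕ, ringKrullDim A ≤ (d : WithBot ℕ∞) := by
    revert hA
    generalize ringKrullDim A = D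
    induction D with
    | bot => exact fun _ => ⟨0, bot_le⟩
    | coe D =>
      induction D with
      | top => exact fun h => absurd h (lt_irrefl _)
      | coe D => exact fun _ => ⟨D, le_rfl⟩
  have hlen : ∀ s : LTSeries T, s.length < d + 1 := fun s => by
    have h := (Order.LTSeries.length_le_krullDim
      (s.map (fun p => (p : PrimeSpectrum A)) fun _ _ hab => hab)).trans hd
    have h' : s.length ≤ d := by exact_mod_cast h
    omega
  obtain ⟨m₀, hm₀⟩ := Groth.Agent.Lib.ProZero.PointInj.main M φ hφ i m' hm' (d + 1) T hT hlen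
    (fun j hj p hp m k h hk v => by
      subst hj
      exact Groth.Agent.Lib.ProZero.PointInj.lcqMap_eq_zero p _ (h1 j.succ_pos p hp m k h hk) v)
    (fun p hp m k h hk v => by
      obtain ⟨x, rfl⟩ : ∃ x, (Groth.Agent.Lib.ProZero.PointInj.transfer p i (M k)).hom.hom x = v :=
        ⟨(Groth.Agent.Lib.ProZero.PointInj.transfer p i (M k)).inv.hom v, Iso.inv_hom_id_apply _ _⟩
      obtain ⟨y, hy⟩ := (h2 p hp m k h hk).le ⟨x, rfl⟩
      refine ⟨(Groth.Agent.Lib.ProZero.PointInj.transfer p i (M (m' m))).hom.hom y, ?_⟩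
      rw [Groth.Agent.Lib.ProZero.PointInj.transfer_natural,
        Groth.Agent.Lib.ProZero.PointInj.transfer_natural]
      exact congrArg _ hy)
    (fun p hp m v hv hv0 => by
      obtain ⟨w, rfl⟩ := hv
      obtain ⟨x, rfl⟩ :
          ∃ x, (Groth.Agent.Lib.ProZero.PointInj.transfer p i (M (m' m))).hom.hom x = w :=
        ⟨(Groth.Agent.Lib.ProZero.PointInj.transfer p i (M (m' m))).inv.hom w,
          Iso.inv_hom_id_apply _ _⟩
      rw [Groth.Agent.Lib.ProZero.PointInj.transfer_natural] at hv0 ⊢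
      rw [Groth.Agent.Lib.ProZero.PointInj.transfer_natural] at hv0
      rw [h3 p hp m _ ⟨x, rfl⟩ ((ModuleCat.mono_iff_injective
        (Groth.Agent.Lib.ProZero.PointInj.transfer p i (M 0)).hom).1 inferInstance
          (hv0.trans (map_zero _).symm))]
      exact map_zero _)
  refine ⟨m₀, fun m hm => ?_⟩
  obtain ⟨m'', h'', H⟩ := hm₀ m hm
  refine ⟨m'', h'', fun k h hk x hx hx0 => ?_⟩
  refine Groth.Agent.Lib.ProZero.PointInj.eq_zero_of_dies (φ k m h) (φ m m₀ hm)
    (fun J hJ ξ hd' => H k h hk J hJ ξ ?_) x hx hx0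
  rw [hφ k m m₀ hm h]
  exact hd'

end Groth.Agent.S8946
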