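import Groth.Statements.S8949
import Groth.Agent.H26.FibreLocal
import Groth.Agent.Lib.Goren.Flat


set_option autoImplicit false
universe u
open scoped TensorProduct
open Goren

namespace Groth.Agent.S8949

/-- Gorenstein fibres are preserved by composing with a regular map. For flat maps A → B → C of
Noetherian rings, if the fibres of A → B are Gorenstein rings and B → C is regular, then the fibres
of A → C are Gorenstein rings. -/
theorem result (A B C : Type u) [CommRing A] [CommRing B] [CommRing C] [IsNoetherianRing A] [IsNoetherianRing B] [IsNoetherianRing C] [Algebra A B] [Algebra B C] [Algebra A C] [IsScalarTower A B C] [Module.Flat A B] [Module.Flat B C] (hAB : ∀ (q : Ideal A) [q.IsPrime], LocCoh.IsGorensteinRing (q.Fiber B)) (hBC : CAlg.IsRegularHom B C) : ∀ (q : Ideal A) [q.IsPrime], LocCoh.IsGorensteinRing (q.Fiber C) := by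
  intro q _
  haveI : IsNoetherianRing (C ⊗[A] q.ResidueField) := Algebra.EssFiniteType.isNoetherianRing C _
  haveI : IsNoetherianRing (q.Fiber C) :=
    isNoetherianRing_of_ringEquiv (C ⊗[A] q.ResidueField) (Algebra.TensorProduct.comm A C q.ResidueField).toRingEquiv
  refine { isGorensteinLocalRing_localization := fun P _ => ?_ }
  exact Groth.Agent.H26.FibreLocal.comp (Q := fun T _ => LocCoh.IsGorensteinLocalRing T)
    (fun T T' _ _ e hT => @Groth.Agent.Lib.Goren.Flat.isGorensteinLocalRing_ringEquiv T T' _ _ e hT)
    (fun R S _ _ _ _ _ _ _ _ _ _ hR =>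
      (Groth.Agent.Lib.Goren.Flat.isGorensteinLocalRing_flat_iff R S).mpr
        ⟨hR, Groth.Agent.Lib.Goren.Basic.isGorensteinLocalRing_of_isRegular _⟩)
    A B C (fun q _ P _ => (hAB q).isGorensteinLocalRing_localization P) hBC q P

end Groth.Agent.S8949
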