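import Groth.Statements.S8950
import Groth.Agent.H26.CICompose
import Groth.Agent.H26.CICongr
import Groth.Agent.H26.CIQuotient
import Groth.Agent.Lib.Synt92.LocalQuot
import Mathlib.FieldTheory.IntermediateField.Adjoin.Basic


set_option autoImplicit false
universe u
open scoped TensorProduct
open CInt

namespace Groth.Agent.S8950

open MvPolynomial in
/-- Localisations of polynomial rings over rings with complete intersection local rings. -/
theorem ci_mvPolynomial {R : Type u} [CommRing R] [IsNoetherianRing R]
    (hR : ∀ (p : Ideal R) [p.IsPrime], Pi1.IsCompleteIntersection (Localization.AtPrime p)) {n : ℕ}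
    (q : Ideal (MvPolynomial (Fin n) R)) [q.IsPrime] :
    Pi1.IsCompleteIntersection (Localization.AtPrime q) := by
  let p := q.comap (C : R →+* MvPolynomial (Fin n) R)
  haveI : p.IsPrime := Ideal.IsPrime.comap _
  let A := Localization.AtPrime p
  letI : Algebra (MvPolynomial (Fin n) R) (MvPolynomial (Fin n) A) :=
    MvPolynomial.algebraMvPolynomial (R := R) (σ := Fin n) (S := A)
  haveI hloc : IsLocalization (p.primeCompl.map (C : R →+* MvPolynomial (Fin n) R))
      (MvPolynomial (Fin n) A) := MvPolynomial.isLocalization p.primeCompl A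
  have hd : Disjoint (p.primeCompl.map (C : R →+* MvPolynomial (Fin n) R) :
      Set (MvPolynomial (Fin n) R)) (q : Set (MvPolynomial (Fin n) R)) := by
    rw [Set.disjoint_left]
    rintro _ ⟨r, hr, rfl⟩ hm
    exact hr hm
  let q' := q.map (algebraMap (MvPolynomial (Fin n) R) (MvPolynomial (Fin n) A))
  haveI hq' : q'.IsPrime := IsLocalization.isPrime_of_isPrime_disjoint _ _ q inferInstance hd
  have hc : q'.comap (algebraMap (MvPolynomial (Fin n) R) (MvPolynomial (Fin n) A)) = q :=
    IsLocalization.under_map_of_isPrime_disjoint _ _ inferInstance hd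
  have hq'C : q'.comap (C : A →+* MvPolynomial (Fin n) A) = IsLocalRing.maximalIdeal A := by
    refine ((IsLocalRing.maximalIdeal.isMaximal A).eq_of_le
      (Ideal.IsPrime.ne_top (Ideal.IsPrime.comap _)) ?_).symm
    rw [← Localization.AtPrime.map_eq_maximalIdeal, Ideal.map_le_iff_le_comap]
    intro r hr
    show C (algebraMap R A r) ∈ q'
    have := Ideal.mem_map_of_mem (algebraMap (MvPolynomial (Fin n) R) (MvPolynomial (Fin n) A))
      (show C r ∈ q from hr)
    rwa [show algebraMap (MvPolynomial (Fin n) R) (MvPolynomial (Fin n) A) (C r) = C (algebraMap R A r) from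
      MvPolynomial.map_C _ r] at this
  haveI : IsLocalization.AtPrime (Localization.AtPrime q') q := by
    have := IsLocalization.isLocalization_isLocalization_atPrime_isLocalization
      (p.primeCompl.map (C : R →+* MvPolynomial (Fin n) R)) (Localization.AtPrime q') q'
    convert this using 2
    exact hc.symm
  let e : Localization.AtPrime q ≃ₐ[MvPolynomial (Fin n) R] Localization.AtPrime q' :=
    IsLocalization.algEquiv q.primeCompl _ _
  haveI : IsNoetherianRing (Localization.AtPrime q) :=
    IsLocalization.isNoetherianRing q.primeCompl _ inferInstance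
  exact (Groth.Agent.H26.CICongr.iff e.toRingEquiv).mp
    (Groth.Agent.H26.CICompose.ci_poly (hR p) n q' hq'C)

open MvPolynomial in
/-- The local rings of `R ⊗ k[x]_P`. -/
theorem ci_tensor_local {k R : Type u} [Field k] [CommRing R] [Algebra k R] [IsNoetherianRing R]
    (hR : ∀ (p : Ideal R) [p.IsPrime], Pi1.IsCompleteIntersection (Localization.AtPrime p)) {n : ℕ}
    (P₀ : Ideal (MvPolynomial (Fin n) k)) [P₀.IsPrime] :
    IsNoetherianRing (R ⊗[k] Localization.AtPrime P₀) ∧
      ∀ (Q : Ideal (R ⊗[k] Localization.AtPrime P₀)) [Q.IsPrime],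
        Pi1.IsCompleteIntersection (Localization.AtPrime Q) := by
  let e : R ⊗[k] MvPolynomial (Fin n) k ≃ₐ[R] MvPolynomial (Fin n) R :=
    MvPolynomial.algebraTensorAlgEquiv k R
  let L₀ := Localization.AtPrime P₀
  let i : MvPolynomial (Fin n) k →ₐ[k] L₀ := IsScalarTower.toAlgHom k _ _
  let ψ₀ : R ⊗[k] MvPolynomial (Fin n) k →ₐ[R] R ⊗[k] L₀ := Algebra.TensorProduct.map (AlgHom.id R R) i
  letI : Algebra (MvPolynomial (Fin n) R) (R ⊗[k] L₀) := (ψ₀.comp e.symm.toAlgHom).toRingHom.toAlgebra
  have halg : ∀ x, algebraMap (MvPolynomial (Fin n) R) (R ⊗[k] L₀) x = ψ₀ (e.symm x) := fun x => rfl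
  have hmap : ∀ f, algebraMap (MvPolynomial (Fin n) R) (R ⊗[k] L₀)
      (MvPolynomial.map (algebraMap k R) f) = (1 : R) ⊗ₜ[k] algebraMap (MvPolynomial (Fin n) k) L₀ f := fun f => by
    rw [halg, show e.symm (MvPolynomial.map (algebraMap k R) f) = (1 : R) ⊗ₜ[k] f from
      MvPolynomial.algebraTensorAlgEquiv_symm_map k R f]
    rfl
  let M : Submonoid (MvPolynomial (Fin n) R) :=
    P₀.primeCompl.map (MvPolynomial.map (algebraMap k R)).toMonoidHom
  have hinj : Function.Injective (algebraMap (MvPolynomial (Fin n) R) (R ⊗[k] L₀)) := by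
    have hi : Function.Injective i :=
      IsLocalization.injective L₀ (P₀.primeCompl_le_nonZeroDivisors)
    have : Function.Injective ψ₀ :=
      Module.Flat.lTensor_preserves_injective_linearMap (M := R) i.toLinearMap hi
    exact this.comp e.symm.injective
  haveI hloc : IsLocalization M (R ⊗[k] L₀) := by
    refine ⟨fun ⟨_, f, hf, rfl⟩ => ?_, fun t => ?_, fun {x y} h => ⟨1, by rw [hinj h]⟩⟩
    · show IsUnit (algebraMap (MvPolynomial (Fin n) R) (R ⊗[k] L₀) (MvPolynomial.map (algebraMap k R) f))
      rw [hmap]
      exact (IsLocalization.map_units L₀ (⟨f, hf⟩ : P₀.primeCompl)).map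
        (Algebra.TensorProduct.includeRight (R := k) (A := R) (B := L₀))
    · induction t using TensorProduct.induction_on with
      | zero => exact ⟨(0, 1), by simp⟩
      | tmul r z =>
        obtain ⟨⟨a, s⟩, hz⟩ := IsLocalization.surj P₀.primeCompl z
        refine ⟨(C r * MvPolynomial.map (algebraMap k R) a,
          ⟨_, s.1, s.2, rfl⟩), ?_⟩
        show r ⊗ₜ[k] z * algebraMap _ _ (MvPolynomial.map (algebraMap k R) s.1) = algebraMap _ _ _
        rw [map_mul, hmap, hmap, halg,
          show e.symm (C r) = r ⊗ₜ[k] (1 : MvPolynomial (Fin n) k) from e.symm.commutes r]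
        show _ = (r ⊗ₜ[k] i 1) * _
        rw [map_one, Algebra.TensorProduct.tmul_mul_tmul, Algebra.TensorProduct.tmul_mul_tmul, hz,
          mul_one, one_mul]
      | add x y hx hy =>
        obtain ⟨⟨a, s⟩, hx⟩ := hx
        obtain ⟨⟨b, t⟩, hy⟩ := hy
        refine ⟨(a * t + b * s, s * t), ?_⟩
        simp only [Submonoid.coe_mul, map_mul, map_add] at hx hy ⊢
        rw [← hx, ← hy]
        ring
  refine ⟨IsLocalization.isNoetherianRing M _ inferInstance, fun Q _ => ?_⟩
  let q := Q.comap (algebraMap (MvPolynomial (Fin n) R) (R ⊗[k] L₀))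
  haveI : q.IsPrime := Ideal.IsPrime.comap _
  haveI : IsLocalization.AtPrime (Localization.AtPrime Q) q :=
    IsLocalization.isLocalization_isLocalization_atPrime_isLocalization M (Localization.AtPrime Q) Q
  haveI : IsNoetherianRing (Localization.AtPrime q) :=
    IsLocalization.isNoetherianRing q.primeCompl _ inferInstance
  exact (Groth.Agent.H26.CICongr.iff (A := Localization.AtPrime q) (A' := Localization.AtPrime Q)
    (IsLocalization.algEquiv q.primeCompl (Localization.AtPrime q) (Localization.AtPrime Q)).toRingEquiv).mpr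
      (ci_mvPolynomial hR q)

open MvPolynomial in
theorem exists_surjective {k K : Type u} [Field k] [Field K] [Algebra k K]
    (hK : ∃ s : Finset K, IntermediateField.adjoin k (s : Set K) = ⊤) :
    ∃ (n : ℕ) (P₀ : Ideal (MvPolynomial (Fin n) k)) (_ : P₀.IsPrime)
      (φ : Localization.AtPrime P₀ →ₐ[k] K), Function.Surjective φ := by
  obtain ⟨s, hs⟩ := hK
  let v : Fin s.card → K := fun i => (s.equivFin.symm i : K)
  let f : MvPolynomial (Fin s.card) k →ₐ[k] K := MvPolynomial.aeval v
  let P₀ := RingHom.ker f
  haveI : P₀.IsPrime := RingHom.ker_isPrime f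
  let φ : Localization.AtPrime P₀ →ₐ[k] K :=
    IsLocalization.liftAlgHom (M := P₀.primeCompl) (f := f) fun y =>
      isUnit_iff_ne_zero.mpr fun h => y.2 (RingHom.mem_ker.mpr h)
  refine ⟨s.card, P₀, inferInstance, φ, fun z => ?_⟩
  let F : IntermediateField k K :=
    { φ.range with
      inv_mem' := by
        rintro _ ⟨x, rfl⟩
        by_cases h : φ x = 0
        · exact ⟨0, by rw [map_zero]; show (0 : K) = (φ x)⁻¹; rw [h, inv_zero]⟩
        · obtain ⟨⟨a, t⟩, e⟩ := IsLocalization.surj P₀.primeCompl x
          have hlift : ∀ b, φ (algebraMap _ (Localization.AtPrime P₀) b) = f b := IsLocalization.lift_eq _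
          have ht : IsUnit (algebraMap (MvPolynomial (Fin s.card) k) (Localization.AtPrime P₀) t) :=
            IsLocalization.map_units _ t
          have hx : IsUnit x := by
            refine isUnit_of_mul_isUnit_left (y := algebraMap (MvPolynomial (Fin s.card) k) (Localization.AtPrime P₀) (t : MvPolynomial (Fin s.card) k)) ?_
            rw [e]
            refine IsLocalization.map_units _ (⟨a, fun ha => h ?_⟩ : P₀.primeCompl)
            have h1 := congrArg φ e
            rw [map_mul, hlift, hlift, show f a = 0 from ha, mul_eq_zero] at h1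
            exact h1.resolve_right fun h2 => t.2 h2
          obtain ⟨w, rfl⟩ := hx
          exact ⟨(↑w⁻¹ : Localization.AtPrime P₀), eq_inv_of_mul_eq_one_left (by
            show φ ↑w⁻¹ * φ ↑w = 1
            rw [← map_mul, Units.inv_mul, map_one])⟩ }
  have hF : IntermediateField.adjoin k (s : Set K) ≤ F := by
    rw [IntermediateField.adjoin_le_iff]
    intro x hx
    refine ⟨algebraMap (MvPolynomial (Fin s.card) k) (Localization.AtPrime P₀) (X (s.equivFin ⟨x, hx⟩)), ?_⟩
    show φ _ = x
    refine (IsLocalization.lift_eq _ _).trans ?_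
    show f (X _) = x
    simp [f, v]
  rw [hs] at hF
  exact hF (show z ∈ (⊤ : IntermediateField k K) from trivial)

/-- A quotient by a regular sequence is a complete intersection. -/
theorem ci_of_surjective {T S : Type u} [CommRing T] [CommRing S] [IsLocalRing T] [IsLocalRing S]
    [IsNoetherianRing T] (hT : Pi1.IsCompleteIntersection T) (π : T →+* S) (hπ : Function.Surjective π)
    (fs : List T) (hw : RingTheory.Sequence.IsWeaklyRegular T fs) (hspan : Ideal.ofList fs = RingHom.ker π) :
    Pi1.IsCompleteIntersection S := by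
  let eπ := (Ideal.quotEquivOfEq hspan).trans (RingHom.quotientKerEquivOfSurjective hπ)
  haveI := eπ.symm.isLocalRing
  exact (Groth.Agent.H26.CICongr.iff (A := T ⧸ Ideal.ofList fs) (A' := S) eπ).mpr
    (Groth.Agent.H26.CICompose.ci_quotient hT fs hw fun r hr =>
      IsLocalRing.le_maximalIdeal (RingHom.ker_ne_top π) (hspan.le (Ideal.subset_span hr)))

/-- Base change of the local complete intersection property along finitely generated field extensions.
Suppose R is a Noetherian k-algebra, k a field, with every local ring of R a complete intersection,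
and suppose K is finitely generated as a field over k; then the tensor product K ⊗_k R is again a
Noetherian ring, and every localization of it at a prime is a complete intersection. -/
theorem result (k K R : Type u) [Field k] [Field K] [Algebra k K] (hK : ∃ s : Finset K, IntermediateField.adjoin k (s : Set K) = ⊤) [CommRing R] [Algebra k R] [IsNoetherianRing R] (hR : ∀ (p : Ideal R) [p.IsPrime], Pi1.IsCompleteIntersection (Localization.AtPrime p)) : IsNoetherianRing (K ⊗[k] R) ∧ ∀ (P : Ideal (K ⊗[k] R)) [P.IsPrime], Pi1.IsCompleteIntersection (Localization.AtPrime P) := by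
  classical
  obtain ⟨n, P₀, hP₀, φ, hφ⟩ := exists_surjective hK
  obtain ⟨hN, hCI⟩ := ci_tensor_local hR P₀
  let L₀ := Localization.AtPrime P₀
  haveI : IsRegularLocalRing L₀ := inferInstance
  haveI : IsRegularLocalRing K := inferInstance
  letI : Algebra L₀ K := φ.toRingHom.toAlgebra
  obtain ⟨rs, hrs, hrsI⟩ := (Groth.Agent.H26.CIQuotient.isCompleteIntersection_iff_of_surjective
    (R := L₀) (A := K) hφ).1.mp (Groth.Agent.H26.CIQuotient.isCompleteIntersection_of_regular K)
  let φT : R ⊗[k] L₀ →ₐ[k] K ⊗[k] R :=
    (Algebra.TensorProduct.comm k R K).toAlgHom.comp (Algebra.TensorProduct.map (AlgHom.id k R) φ)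
  let fT : R ⊗[k] L₀ →ₐ[k] R ⊗[k] K := Algebra.TensorProduct.map (AlgHom.id k R) φ
  have hfT : Function.Surjective fT := fun t => by
    induction t using TensorProduct.induction_on with
    | zero => exact ⟨0, map_zero _⟩
    | tmul x y => obtain ⟨z, rfl⟩ := hφ y; exact ⟨x ⊗ₜ[k] z, rfl⟩
    | add x y hx hy =>
      obtain ⟨x', rfl⟩ := hx
      obtain ⟨y', rfl⟩ := hy
      exact ⟨x' + y', map_add _ _ _⟩
  have hφT : Function.Surjective φT := (Algebra.TensorProduct.comm k R K).surjective.comp hfT
  have hkerf := Algebra.TensorProduct.lTensor_ker (A := R) φ hφ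
  have hker : RingHom.ker φT.toRingHom = (RingHom.ker φ.toRingHom).map
      (Algebra.TensorProduct.includeRight (R := k) (A := R) (B := L₀)).toRingHom := by
    refine Eq.trans ?_ hkerf
    ext t
    show (Algebra.TensorProduct.comm k R K) (fT t) = 0 ↔ fT t = 0
    rw [map_eq_zero_iff _ (Algebra.TensorProduct.comm k R K).injective]
  refine ⟨isNoetherianRing_of_surjective _ _ φT.toRingHom hφT, fun P _ => ?_⟩
  obtain ⟨π, hπ, hk, -⟩ := Groth.Agent.Lib.Synt92.LocalQuot.exists_hom φT hφT P (Localization.AtPrime P)
  let Q : Ideal (R ⊗[k] L₀) := P.comap φT.toRingHom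
  haveI : IsNoetherianRing (Localization.AtPrime Q) :=
    IsLocalization.isNoetherianRing Q.primeCompl _ hN
  let j : L₀ →+* Localization.AtPrime Q := (algebraMap (R ⊗[k] L₀) (Localization.AtPrime Q)).comp
    (Algebra.TensorProduct.includeRight (R := k) (A := R) (B := L₀)).toRingHom
  haveI : Module.Flat (R ⊗[k] L₀) (Localization.AtPrime Q) := IsLocalization.flat _ Q.primeCompl
  have hw1 : RingTheory.Sequence.IsWeaklyRegular (L₀ ⊗[k] R) (rs.map (algebraMap L₀ (L₀ ⊗[k] R))) :=
    RingTheory.Sequence.IsWeaklyRegular.of_flat hrs.toIsWeaklyRegular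
  let cm := Algebra.TensorProduct.comm k L₀ R
  have hw2 : RingTheory.Sequence.IsWeaklyRegular (R ⊗[k] L₀)
      (rs.map (Algebra.TensorProduct.includeRight (R := k) (A := R) (B := L₀))) :=
    (AddEquiv.isWeaklyRegular_congr (e := cm.toAddEquiv) (as := rs.map (algebraMap L₀ (L₀ ⊗[k] R)))
      (bs := rs.map (Algebra.TensorProduct.includeRight (R := k) (A := R) (B := L₀)))
      (by
        rw [List.forall₂_map_left_iff, List.forall₂_map_right_iff, List.forall₂_same]
        intro r _ x
        exact map_mul cm _ x)).mp hw1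
  have hw : RingTheory.Sequence.IsWeaklyRegular (Localization.AtPrime Q) (rs.map j) := by
    have h3 := RingTheory.Sequence.IsWeaklyRegular.of_flat (S := Localization.AtPrime Q) hw2
    rwa [List.map_map] at h3
  have hspan : Ideal.ofList (rs.map j) = RingHom.ker π.toRingHom := by
    rw [hk, hker, Ideal.map_map, ← Ideal.map_ofList, hrsI]
    rfl
  exact ci_of_surjective (hCI Q) π.toRingHom hπ _ hw hspan

end Groth.Agent.S8950
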