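import Groth.Statements.S8951
import Groth.Agent.H26.CIDefect
import Groth.Agent.H26.FibreLocal
import Groth.Agent.H26.CICongr


set_option autoImplicit false
universe u
open scoped TensorProduct
open CInt

namespace Groth.Agent.S8951

/-- Complete intersection fibres are preserved by composing with a regular map. For flat maps A → B → C
of Noetherian rings, if all local rings of the fibres of A → B are complete intersections and B → C
is regular, then all local rings of the fibres of A → C are complete intersections. -/
theorem result (A B C : Type u) [CommRing A] [CommRing B] [CommRing C] [IsNoetherianRing A] [IsNoetherianRing B] [IsNoetherianRing C] [Algebra A B] [Algebra B C] [Algebra A C] [IsScalarTower A B C] [Module.Flat A B] [Module.Flat B C] (hAB : ∀ (q : Ideal A) [q.IsPrime] (P : Ideal (q.Fiber B)) [P.IsPrime], Pi1.IsCompleteIntersection (Localization.AtPrime P)) (hBC : CAlg.IsRegularHom B C) : ∀ (q : Ideal A) [q.IsPrime] (P : Ideal (q.Fiber C)) [P.IsPrime], Pi1.IsCompleteIntersection (Localization.AtPrime P) := by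
  intro q _ P _
  obtain ⟨_, h⟩ := Groth.Agent.H26.FibreLocal.comp
    (Q := fun T _ => IsNoetherianRing T ∧ ∃ h : IsLocalRing T, @Pi1.IsCompleteIntersection T _ h)
    (fun T T' _ _ e hT => by
      obtain ⟨_, _, hc⟩ := hT
      haveI := e.isLocalRing
      exact ⟨isNoetherianRing_of_ringEquiv T e, inferInstance,
        (Groth.Agent.H26.CICongr.iff e).mpr hc⟩)
    (fun R S _ _ _ _ _ _ _ _ _ _ hR => by
      obtain ⟨_, h, hc⟩ := hR
      exact ⟨inferInstance, inferInstance, Groth.Agent.H26.CIDefect.ci_iff_of_regular_fibre.mpr hc⟩)
    A B C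
    (fun q _ P _ => by
      haveI : IsNoetherianRing (B ⊗[A] q.ResidueField) := Algebra.EssFiniteType.isNoetherianRing B _
      haveI : IsNoetherianRing (q.Fiber B) :=
        isNoetherianRing_of_ringEquiv (B ⊗[A] q.ResidueField) (Algebra.TensorProduct.comm A B q.ResidueField).toRingEquiv
      exact ⟨IsLocalization.isNoetherianRing P.primeCompl _ inferInstance, inferInstance, hAB q P⟩) hBC q P
  obtain ⟨_, hc⟩ := h
  exact hc

end Groth.Agent.S8951
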