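import Groth.Statements.S8956
import Groth.Agent.Lib.DMod.ShriekDual
import Groth.Agent.Lib.DMod.LBC

set_option autoImplicit false
universe u
open CategoryTheory
attribute [local instance] HasDerivedCategory.standard
open Dual2

namespace Groth.Agent.S8956
open Groth.Agent.Lib.DR Groth.Agent.Lib.DMod Groth.Agent.Lib.DMod.RelDual CategoryTheory.Limits
/-- Let φ : A → B be a finite type map of Noetherian rings, ω_A a dualizing complex for A and ω_B =
φ^!(ω_A), with φ^! computed through a presentation ψ : A[x_1, …, x_n] → B (derived base change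
assumed to exist, RHom_P(B, −) a right adjoint of restriction of scalars); write D_A = RHom_A(−,
ω_A) and D_B = RHom_B(−, ω_B). For every complex K of A-modules with finite cohomology modules
(RHom_A(K, −) assumed to exist) and every complex E of B-modules representing D_A(K) ⊗^L_A B
(RHom_B(E, −) assumed to exist), φ^!(K) is isomorphic in D(B) to RHom_B(E, ω_B) = D_B(D_A(K) ⊗^L_A
B). -/
theorem result (A B : Type u) [CommRing A] [CommRing B] [IsNoetherianRing A] [IsNoetherianRing B] [Algebra A B] (n : ℕ) (ψ : MvPolynomial (Fin n) A →ₐ[A] B) (hψ : Function.Surjective ψ) [DRing.HasLBaseChange (algebraMap A (MvPolynomial (Fin n) A))] (Rψ : Dual.D (MvPolynomial (Fin n) A) ⥤ Dual.D B) (adj : DRing.restrictD ψ.toRingHom ⊣ Rψ) [DRing.HasLBaseChange (algebraMap A B)] (ω : Dual.D A) (hω : Dual.IsDualizing A ω) (K : DRing.Cx A) [DRing.HasRHomCx K] (hK : ∀ i : ℤ, Module.Finite A (Dual.HD A (DRing.toD K) i)) (E : DRing.Cx B) [DRing.HasRHomCx E] (hE : Nonempty (DRing.toD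 E ≅ (DRing.LBaseChange (algebraMap A B)).obj ((DRing.RHomCx K).obj ω))) : Nonempty (Dual2.shriekVia n Rψ (DRing.toD K) ≅ (DRing.RHomCx E).obj (Dual2.shriekVia n Rψ ω)) := by
  let P := MvPolynomial (Fin n) A
  let i := algebraMap A P
  have hflat : i.Flat := RingHom.flat_algebraMap_iff.2 inferInstance
  have hφ : ∀ r, algebraMap A B r = ψ.toRingHom (i r) := fun r => (ψ.commutes r).symm
  obtain ⟨I, a, b, hI, hIinj, ⟨eI⟩⟩ := Biduality.exists_complex hω
  haveI := hIinj
  haveI : I.IsStrictlyGE a := (CochainComplex.isStrictlyGE_iff _ _).2 fun q hq => hI q (Or.inl hq)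
  haveI : I.IsKInjective := CochainComplex.isKInjective_of_injective I a
  have hωP := ShriekVia.isDualizing_L_mvPolynomial n hω
  obtain ⟨J, a', b', hJ, hJinj, ⟨eJ⟩⟩ := Biduality.exists_complex hωP
  haveI := hJinj
  haveI : J.IsStrictlyGE a' := (CochainComplex.isStrictlyGE_iff _ _).2 fun q hq => hJ q (Or.inl hq)
  haveI : J.IsKInjective := CochainComplex.isKInjective_of_injective J a'
  have hJd : Dual.IsDualizing P (DerivedCategory.Q.obj J) := LBC.isDualizing_of_iso eJ.symm hωP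
  let lc : ∀ X : DRing.Cx A, (FlatHom.L A P).obj (DerivedCategory.Q.obj X) ≅
      DerivedCategory.Q.obj ((DTen.extCx i).obj X) := fun X =>
    (FlatHom.E A P).mapDerivedCategoryFactors.app X
  obtain ⟨q, hq⟩ := EvalHom.exists_Q_map_eq_injective (E := (DTen.extCx i).obj I) (K := J)
    ((lc I).symm ≪≫ (FlatHom.L A P).mapIso eI ≪≫ eJ.symm).hom
  haveI : QuasiIso q := by
    rw [← DerivedCategory.isIso_Q_map_iff_quasiIso, hq]
    infer_instance
  obtain ⟨rK⟩ := BidualityCx.nonempty_RHomCx_kinj K I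
  let F := (KProjRes.res A).obj (DRing.homCx K I)
  let r : F ⟶ DRing.homCx K I := (KProjRes.aug A).app (DRing.homCx K I)
  haveI : QuasiIso r := KProjRes.quasiIso_aug A _
  haveI : F.IsKProjective := KProjRes.isKProjective_res A _
  haveI : CochainComplex.IsKProjective ((DTen.extCx (algebraMap A B)).obj F) := BaseChangeU.isKProjective_ext _ F
  obtain ⟨eE⟩ := hE
  let e₁ : DerivedCategory.Q.obj ((DTen.extCx (algebraMap A B)).obj F) ≅ DRing.toD E :=
    (BaseChange.bc (algebraMap A B) F).symm ≪≫ (DRing.LBaseChange (algebraMap A B)).mapIso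
      (asIso (DerivedCategory.Q.map r) ≪≫ rK.symm ≪≫ (DRing.RHomCx K).mapIso eI) ≪≫ eE.symm
  obtain ⟨g, hg⟩ := Basic.exists_Q_map_eq (E := (DTen.extCx (algebraMap A B)).obj F) e₁.hom
  haveI : QuasiIso g := by
    rw [← DerivedCategory.isIso_Q_map_iff_quasiIso, hg]
    infer_instance
  let Y := FiniteRing.coI ψ.toRingHom J
  haveI : Y.IsKInjective := Rep.isKInjective_coI _ J
  obtain ⟨rY⟩ := Rep.Represents.unique ⟨_, Rep.isRep_eps ψ.toRingHom J⟩
    (Rep.represents_adj adj (DerivedCategory.Q.obj J))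
  let H := DRing.homCx ((DTen.extCx i).obj F) J
  haveI : CochainComplex.IsKProjective ((DTen.extCx i).obj F) := BaseChangeU.isKProjective_ext i F
  haveI := Extend.isKInjective_homCx ((DTen.extCx i).obj F) J (KFlat.isKFlat_of_isKProjective _)
  obtain ⟨rH⟩ := Rep.Represents.unique ⟨_, Rep.isRep_eps ψ.toRingHom H⟩
    (Rep.represents_adj adj (DerivedCategory.Q.obj H))
  haveI : QuasiIso ((DTen.extCx i).map r) := ⟨fun j => ShriekDual.quasiIso_ext_map i hflat r j⟩
  haveI : QuasiIso (ShriekDual.m i q K) := ⟨fun j => ShriekDual.quasiIsoAt_m i hflat hI hJ q K hK j⟩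
  let g₂ := (DTen.extCx i).map r ≫ ShriekDual.m i q K
  haveI : QuasiIso g₂ := Duality.qis_comp _ _ inferInstance inferInstance
  have hfin : ∀ j, Module.Finite P (Dual.HD P (DerivedCategory.Q.obj ((DTen.extCx i).obj K)) j) := fun j => by
    haveI : Module.Finite A (Dual.HD A (DerivedCategory.Q.obj K) j) := hK j
    exact Module.Finite.equiv ((FlatHom.HDL P (DerivedCategory.Q.obj K) j).trans
      ((DerivedCategory.homologyFunctor (ModuleCat.{u} P) j).mapIso (lc K)).toLinearEquiv)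
  have hbd := (DerivedCategory.isIso_Q_map_iff_quasiIso _ _).2
    (BidualityCx.quasiIso_bd J hJ hJd ((DTen.extCx i).obj K) hfin)
  have hg₂ := RHomRes.isIso_precomp g₂ J
  let eH : DerivedCategory.Q.obj H ≅ (DRing.LBaseChange (algebraMap A P)).obj (DRing.toD K) :=
    (@asIso _ _ _ _ _ hg₂).symm ≪≫ (@asIso _ _ _ _ _ hbd).symm ≪≫ (lc K).symm ≪≫
      ((FlatHom.isoLBaseChange A P).app _).symm
  let eJ' : DerivedCategory.Q.obj J ≅ (DRing.LBaseChange (algebraMap A P)).obj ω :=
    eJ ≪≫ ((FlatHom.isoLBaseChange A P).app _).symm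
  let N : ℤ := n
  obtain ⟨rE⟩ := BidualityCx.nonempty_RHomCx_kinj E (Y⟦N⟧)
  have hg₁ := RHomRes.isIso_precomp g (Y⟦N⟧)
  let sh := CategoryTheory.shiftFunctor (Dual.D B) N
  exact ⟨(sh.mapIso (Rψ.mapIso eH)).symm ≪≫ (sh.mapIso rH).symm ≪≫
    sh.mapIso (DerivedCategory.Q.mapIso (CoextExt.C i ψ.toRingHom (algebraMap A B) hφ F J)) ≪≫
    ((DerivedCategory.Q.commShiftIso N).app _).symm ≪≫
    (DerivedCategory.Q.mapIso (Main.homCxShift _ Y N)).symm ≪≫
    (@asIso _ _ _ _ _ hg₁).symm ≪≫ rE.symm ≪≫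
    (DRing.RHomCx E).mapIso ((DerivedCategory.Q.commShiftIso N).app Y ≪≫
      sh.mapIso (rY ≪≫ Rψ.mapIso eJ'))⟩

end Groth.Agent.S8956
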