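import Groth.Statements.S8958
import Groth.Agent.Lib.QFDual.FlatBase

set_option autoImplicit false
universe u
open TensorProduct
open QFDual

namespace Groth.Agent.S8958

/-- Flat base change of the relative dualizing module. Let A be a Noetherian ring, A → B' a finite ring
map, A → A₁ a flat ring map with A₁ Noetherian, and B'₁ a ring making A → A₁, B' → B'₁ a cocartesian
square (so B'₁ = B' ⊗_A A₁). For every B'₁-algebra B₁ the base-change map B₁ ⊗_{B'} Hom_A(B', A) →
B₁ ⊗_{B'₁} Hom_{A₁}(B'₁, A₁), sending b₁ ⊗ φ to b₁ ⊗ φ₁ where φ₁(b' a₁) = φ(b') a₁, is bijective.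
(The published statement is the case in which A → B' → B, with Spec B → Spec B' an open immersion,
computes the relative dualizing module ω_{B/A} of a quasi-finite map A → B and B₁ = B ⊗_A A₁, where
the map reads ω_{B/A} ⊗_B B₁ → ω_{B₁/A₁}; the version for an arbitrary B'₁-algebra B₁ is what the
printed argument gives, and with A₁ = A_f, B₁ = B it also yields ω_{B/A} = ω_{B/A_f} when A → B
factors through A_f.) -/
theorem result (A B' A₁ B'₁ B₁ : Type u) [CommRing A] [CommRing B'] [CommRing A₁] [CommRing B'₁] [CommRing B₁] [IsNoetherianRing A] [IsNoetherianRing A₁] [Algebra A B'] [Module.Finite A B'] [Algebra A A₁] [Module.Flat A A₁] [Algebra B' B'₁] [Algebra A₁ B'₁] [Algebra A B'₁] [IsScalarTower A A₁ B'₁] [IsScalarTower A B' B'₁] (h : Algebra.IsPushout A A₁ B' B'₁) [Algebra B'₁ B₁] [Algebra B' B₁] [IsScalarTower B' B'₁ B₁] : Function.Bijective (QFDual.omegaBC (B₁ := B₁) h) := by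
  have : Module.FinitePresentation A B' := Module.finitePresentation_of_finite A B'
  exact Groth.Agent.Lib.QFDual.FlatBase.omegaBC_bijective h B₁

end Groth.Agent.S8958
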