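import Groth.Statements.S8959
import Groth.Agent.Lib.Disc.QFBC

set_option autoImplicit false
universe u
open TensorProduct
open QFDual

namespace Groth.Agent.S8959

/-- For a flat quasi-finite map, formation of the relative dualizing module commutes with arbitrary base
change. Let A → B be a flat homomorphism of Noetherian rings that factors through a ring B' as A →
B' → B, with B' finite over A and the induced map Spec B → Spec B' an open immersion, so that
ω_{B/A} = B ⊗_{B'} Hom_A(B', A). Let A → A₁ be a ring map with A₁ Noetherian, and let B'₁ and B₁ be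
rings making the squares A → A₁, B' → B'₁ and A → A₁, B → B₁ cocartesian (B'₁ = B' ⊗_A A₁ and B₁ = B
⊗_A A₁), B₁ being a B'₁-algebra compatibly with the maps from B', B and A₁. Then the base-change map
ω_{B/A} ⊗_B B₁ = B₁ ⊗_{B'} Hom_A(B', A) → B₁ ⊗_{B'₁} Hom_{A₁}(B'₁, A₁) = ω_{B₁/A₁} is bijective. -/
theorem result (A B' B A₁ B'₁ B₁ : Type u) [CommRing A] [CommRing B'] [CommRing B] [CommRing A₁] [CommRing B'₁] [CommRing B₁] [IsNoetherianRing A] [IsNoetherianRing B] [IsNoetherianRing A₁] [Algebra A B'] [Algebra B' B] [Algebra A B] [IsScalarTower A B' B] [Module.Flat A B] (hf : QFDual.IsQFFactor A B' B) [Algebra A A₁] [Algebra B' B'₁] [Algebra A₁ B'₁] [Algebra A B'₁] [IsScalarTower A A₁ B'₁] [IsScalarTower A B' B'₁] (h : Algebra.IsPushout A A₁ B' B'₁) [Algebra B B₁] [Algebra A₁ B₁] [Algebra A B₁] [IsScalarTower A A₁ B₁] [IsScalarTower A B B₁] (hB : Algebra.IsPushout A A₁ B B₁) [Algebra B'₁ B₁] [Algebra B' B₁] [IsScalarTower B' B'₁ B₁] [IsScalarTower B' B B₁] [IsScalarTower A₁ B'₁ B₁] : Function.Bijective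 (QFDual.omegaBC (B₁ := B₁) h) := by
  haveI := hf.finite
  exact Groth.Agent.Lib.Disc.QFBC.omegaBC_bijective hf.isOpenImmersion h hB

end Groth.Agent.S8959
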