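import Groth.Statements.S8961
import Mathlib.FieldTheory.IsAlgClosed.Spectrum
import Mathlib.LinearAlgebra.Matrix.Charpoly.Eigs
import Mathlib.RingTheory.Trace.Defs

set_option autoImplicit false
universe u
open QFDual

namespace Groth.Agent.S8961

/-- A trace of a matrix killed by a monic polynomial over `R` is integral over `R`. -/
theorem isIntegral_matrix_trace {R F n : Type*} [CommRing R] [Field F] [Algebra R F] [Fintype n]
    [DecidableEq n] (M : Matrix n n F) (P : Polynomial R) (hP : P.Monic)
    (hM : Polynomial.aeval M P = 0) : IsIntegral R M.trace := by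
  let Fb := AlgebraicClosure F
  suffices IsIntegral R (algebraMap F Fb M.trace) from
    (isIntegral_algebraMap_iff (algebraMap F Fb).injective).1 this
  rcases isEmpty_or_nonempty n with hn | hn
  · simp [Matrix.trace, isIntegral_zero]
  let N : Matrix n n Fb := M.map (algebraMap F Fb)
  have hN : Polynomial.aeval N P = 0 := by
    have := Polynomial.aeval_algHom_apply ((IsScalarTower.toAlgHom R F Fb).mapMatrix) M P
    rw [hM, map_zero] at this
    exact this
  have htr : algebraMap F Fb M.trace = N.trace := by simp [N, Matrix.trace]
  rw [htr, Matrix.trace_eq_sum_roots_charpoly]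
  refine IsIntegral.multiset_sum fun μ hμ => ⟨P, hP, ?_⟩
  have hroot : μ ∈ spectrum Fb N :=
    Matrix.mem_spectrum_iff_isRoot_charpoly.2 (Polynomial.isRoot_of_mem_roots hμ)
  have h2 := spectrum.subset_polynomial_aeval N (P.map (algebraMap R Fb)) ⟨μ, hroot, rfl⟩
  rw [Polynomial.aeval_map_algebraMap, hN, spectrum.zero_eq, Set.mem_singleton_iff] at h2
  simpa [Polynomial.eval_map] using h2

/-- Suppose the Dedekind different of A → B is defined: A is Noetherian, B is a finite A-algebra,
nonzerodivisors of A are nonzerodivisors on B, and with K = Q(A) and L = B ⊗_A K the map K → L is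
étale (here with L finite free over K). If A is a normal ring, i.e. every localization A_p at a
prime is an integrally closed domain, then Trace_{L/K}(b) lies in A for every b ∈ B; equivalently 1
∈ 𝓛_{B/A}. -/
theorem result (A K B L : Type u) [CommRing A] [CommRing K] [CommRing B] [CommRing L] [Algebra A K] [Algebra A B] [Algebra B L] [Algebra K L] [Algebra A L] [IsScalarTower A K L] [IsScalarTower A B L] (h : QFDual.IsDedekindDefined A K B L) (hA : EGA4.IsNormalRing A) : (1 : L) ∈ QFDual.complementary A K B L := by
  classical
  have := h.isFractionRing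
  have := h.finite
  have := h.free
  have := h.finiteKL
  intro b
  rw [one_mul]
  let x := Algebra.trace K L (algebraMap B L b)
  show x ∈ (algebraMap A K).range
  obtain ⟨⟨c, d⟩, hcd⟩ := IsLocalization.surj (nonZeroDivisors A) x
  let D : Ideal A :=
    { carrier := {a | algebraMap A K a * x ∈ (algebraMap A K).range}
      zero_mem' := by simp
      add_mem' := fun {p q} hp hq => by
        show algebraMap A K (p + q) * x ∈ (algebraMap A K).range
        rw [map_add, add_mul]; exact Subring.add_mem _ hp hq
      smul_mem' := fun p q hq => by
        show algebraMap A K (p * q) * x ∈ (algebraMap A K).range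
        rw [map_mul, mul_assoc]; exact Subring.mul_mem _ ⟨p, rfl⟩ hq }
  suffices (1 : A) ∈ D by simpa [D] using this
  rw [← Ideal.eq_top_iff_one]
  by_contra hD
  obtain ⟨p, hp, hDp⟩ := Ideal.exists_le_maximal D hD
  let Ap := Localization.AtPrime p
  obtain ⟨hdom, hic⟩ := hA p
  let F := FractionRing Ap
  have hnz : ∀ s : nonZeroDivisors A, IsUnit (algebraMap A F s) := by
    intro s
    refine Ne.isUnit fun h0 => ?_
    rw [IsScalarTower.algebraMap_apply A Ap F,
      map_eq_zero_iff _ (IsFractionRing.injective Ap F)] at h0
    obtain ⟨m, hm⟩ := (IsLocalization.map_eq_zero_iff p.primeCompl Ap _).1 h0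
    have h00 : (m : A) = 0 := (mem_nonZeroDivisors_iff.1 s.2).2 _ hm
    exact m.2 (h00 ▸ p.zero_mem)
  let g : K →+* F := IsLocalization.lift (g := algebraMap A F) hnz
  have hg : g.comp (algebraMap A K) = algebraMap A F := IsLocalization.lift_comp hnz
  letI : Algebra K F := g.toAlgebra
  have : IsScalarTower A K F := IsScalarTower.of_algebraMap_eq fun a => (RingHom.congr_fun hg a).symm
  obtain ⟨P, hP, hPb⟩ := Algebra.IsIntegral.isIntegral (R := A) b
  let bas := Module.Free.chooseBasis K L
  let M := Algebra.leftMulMatrix bas (algebraMap B L b)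
  have hM : Polynomial.aeval M P = 0 := by
    have h1 : Polynomial.aeval (algebraMap B L b) P = 0 := by
      rw [Polynomial.aeval_algebraMap_apply]
      rw [← Polynomial.aeval_def] at hPb
      rw [hPb, map_zero]
    have := Polynomial.aeval_algHom_apply ((Algebra.leftMulMatrix bas).restrictScalars A)
      (algebraMap B L b) P
    rw [h1, map_zero] at this
    exact this
  have hM' : Polynomial.aeval (M.map g) P = 0 := by
    have := Polynomial.aeval_algHom_apply ((IsScalarTower.toAlgHom A K F).mapMatrix) M P
    rw [hM, map_zero] at this
    exact this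
  have hint : IsIntegral A (g x) := by
    have e : g x = (M.map g).trace := by
      show g (Algebra.trace K L (algebraMap B L b)) = _
      rw [Algebra.trace_eq_matrix_trace bas]
      simp [M, Matrix.trace]
    rw [e]
    exact isIntegral_matrix_trace _ P hP hM'
  obtain ⟨y, hy⟩ := (IsIntegrallyClosed.isIntegral_iff (R := Ap)).1 (hint.tower_top (A := Ap))
  obtain ⟨⟨a, s⟩, has⟩ := IsLocalization.surj p.primeCompl y
  have key : algebraMap A Ap (c * s) = algebraMap A Ap (a * d) := by
    apply IsFractionRing.injective Ap F
    rw [← IsScalarTower.algebraMap_apply, ← IsScalarTower.algebraMap_apply, map_mul, map_mul]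
    have e1 : algebraMap A F c = g x * algebraMap A F d := by
      rw [← RingHom.congr_fun hg c, ← RingHom.congr_fun hg d]
      simp only [RingHom.comp_apply, ← map_mul, hcd]
    have e2 : algebraMap A F a = g x * algebraMap A F s := by
      rw [IsScalarTower.algebraMap_apply A Ap F, IsScalarTower.algebraMap_apply A Ap F (s : A), ← hy,
        ← map_mul, has]
    rw [e1, e2]; ring
  obtain ⟨t, ht⟩ := (IsLocalization.eq_iff_exists p.primeCompl Ap).1 key
  have hmem : (t : A) * s ∈ D := by
    refine ⟨t * a, ?_⟩
    apply (IsLocalization.map_units K d).mul_left_cancel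
    calc algebraMap A K d * algebraMap A K (t * a) = algebraMap A K (t * (a * d)) := by
          simp only [map_mul]; ring
      _ = algebraMap A K (t * (c * s)) := by rw [ht]
      _ = algebraMap A K (t * s) * (x * algebraMap A K d) := by rw [hcd]; simp only [map_mul]; ring
      _ = algebraMap A K d * (algebraMap A K (t * s) * x) := by ring
  exact (t * s).2 (hDp hmem)

end Groth.Agent.S8961
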