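import Groth.Statements.S8964
import Groth.Agent.Lib.Disc.QFOmega

set_option autoImplicit false
universe u
open TensorProduct
open QFDual

namespace Groth.Agent.S8964

attribute [local instance] Algebra.TensorProduct.rightAlgebra

/-- A quasi-finite syntomic map has an invertible relative dualizing module. Let A be a Noetherian ring
and A → B a syntomic ring map (flat, of finite presentation, with fibres local complete
intersections), and suppose it factors through an intermediate ring B', with A → B' a finite map and
the induced morphism Spec B → Spec B' an open immersion, so that A → B is quasi-finite and ω_{B/A} =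
B ⊗_{B'} Hom_A(B', A). Then ω_{B/A} is an invertible B-module. (The published statement is for a
locally quasi-finite syntomic morphism of locally Noetherian schemes and the sheaf ω_{Y/X}; this row
is its form over a pair of affine opens.) -/
theorem result (A B' B : Type u) [CommRing A] [CommRing B'] [CommRing B] [IsNoetherianRing A] [Algebra A B'] [Algebra B' B] [Algebra A B] [IsScalarTower A B' B] (hf : QFDual.IsQFFactor A B' B) (hs : Synt.IsSyntomic A B) : Module.Invertible B (QFDual.omega A B' B) := by
  classical
  haveI := hf.finite
  haveI : Module.Flat A B := hs.1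
  haveI : Algebra.FinitePresentation A B := hs.2.1
  haveI : Algebra.FiniteType A B := inferInstance
  haveI : IsNoetherianRing B := Algebra.FiniteType.isNoetherianRing A B
  haveI : Module.Finite B' (Disc.Omega A B') := Groth.Agent.Lib.Disc.QFOmega.finite_omega A B'
  haveI : Module.Finite B (QFDual.omega A B' B) := Module.Finite.base_change B' B _
  haveI : Module.FinitePresentation B (QFDual.omega A B' B) := Module.finitePresentation_of_finite _ _
  refine Groth.Agent.Lib.Disc.Cover.invertible_of_cover fun q hq => ?_
  haveI := hq.isPrime
  obtain ⟨A₁, _, _, _, _, _, e, he, hfin, hne⟩ :=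
    Groth.Agent.Lib.Disc.QFChart.exists_chart (A := A) hf.isOpenImmersion q
  haveI := hfin
  haveI := Groth.Agent.Lib.Disc.QFChart.flat_CC_base (A := A) (B := B) A₁ e he
  haveI : Module.Free A₁ (Groth.Agent.Lib.Disc.QFChart.CC A₁ e) := Module.free_of_flat_of_isLocalRing
  obtain ⟨Ψ⟩ := Groth.Agent.Lib.Disc.QFChart.omega_equiv (A := A) (B' := B') A₁ e hf.isOpenImmersion he
  obtain ⟨n, ⟨P⟩⟩ := Groth.Agent.Lib.Disc.QFChart.isSquare_CC A₁ e he
    (Groth.Agent.Lib.Disc.QFChart.fiber_square (B' := B') hf.isOpenImmersion hs.2.2 _)
  obtain ⟨ε, -⟩ := Groth.Agent.Lib.Disc.Jacobian.exists_equiv P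
  exact ⟨Groth.Agent.Lib.Disc.QFChart.CC A₁ e, inferInstance, inferInstance,
    Groth.Agent.Lib.Disc.QFChart.flat_CC A₁ e he, hne, ⟨Ψ.trans ε.symm⟩⟩

end Groth.Agent.S8964
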