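import Groth.Statements.S8970
import Groth.Agent.Lib.DMod.FiniteRing
import Mathlib.Algebra.Module.LocalizedModule.Basic

set_option autoImplicit false
universe u
open CategoryTheory
attribute [local instance] HasDerivedCategory.standard
open Dual

namespace Groth.Agent.S8970
open Groth.Agent.Lib.DMod
/-- For a Noetherian ring A with a dualizing complex ω, δ(p) denotes the integer such that the
localization at p of Hom(A/p, ω[i]) is nonzero exactly for i = −δ(p); this δ is the dimension
function of ω. Suppose A is a Noetherian ring equipped with a dualizing complex ω, fix a surjective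
ring homomorphism A → B, and take R : D(A) → D(B) to be the right adjoint of restriction of scalars;
then ω_B = R(ω) = RHom_A(B, ω) is a dualizing complex for B. Then δ_{ω_B} is the restriction of δ_ω
to Spec B: for every prime q of B, with p its preimage in A, and every integer i, the localization
at q of the B-module of maps B/q → ω_B[i] in D(B) is nonzero if and only if the localization at p of
the A-module of maps A/p → ω[i] in D(A) is nonzero. -/
theorem result (A B : Type u) [CommRing A] [CommRing B] [IsNoetherianRing A] [IsNoetherianRing B] [Algebra A B] (hs : Function.Surjective (algebraMap A B)) (R : Dual.D A ⥤ Dual.D B) (adj : DRing.restrictD (algebraMap A B) ⊣ R) (ω : Dual.D A) (hω : Dual.IsDualizing A ω) (q : PrimeSpectrum B) (i : ℤ) : Nontrivial (LocalizedModule q.asIdeal.primeCompl (Dual.inD B (B ⧸ q.asIdeal) ⟶ (R.obj ω)⟦i⟧)) ↔ Nontrivial (LocalizedModule (q.asIdeal.comap (algebraMap A B)).primeCompl (Dual.inD A (A ⧸ q.asIdeal.comap (algebraMap A B)) ⟶ ω⟦i⟧)) := by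
  let p := q.asIdeal.comap (algebraMap A B)
  let N := (ModuleCat.restrictScalars.{u} (algebraMap A B)).obj (ModuleCat.of B (B ⧸ q.asIdeal))
  let l : (A ⧸ p) →ₗ[A] N := Submodule.liftQ p
    { toFun := fun a => (show N from Ideal.Quotient.mk q.asIdeal (algebraMap A B a))
      map_add' := fun x y => by rw [map_add, map_add]; rfl
      map_smul' := fun a x => by rw [smul_eq_mul, map_mul, map_mul]; rfl }
    fun a ha => Ideal.Quotient.eq_zero_iff_mem.2 ha
  have hl : Function.Bijective l := by
    refine ⟨(injective_iff_map_eq_zero l).2 fun x hx => ?_, fun y => ?_⟩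
    · obtain ⟨x, rfl⟩ := Submodule.Quotient.mk_surjective _ x
      exact (Submodule.Quotient.mk_eq_zero _).2 (Ideal.Quotient.eq_zero_iff_mem.1 hx :)
    · obtain ⟨b, hb⟩ := Ideal.Quotient.mk_surjective (show B ⧸ q.asIdeal from y)
      obtain ⟨a, rfl⟩ := hs b
      exact ⟨Submodule.Quotient.mk a, hb⟩
  let eA := Linear.homCongr A ((FiniteRing.resSingle (φ := algebraMap A B) (ModuleCat.of B (B ⧸ q.asIdeal))) ≪≫
    (DerivedCategory.singleFunctor (ModuleCat.{u} A) 0).mapIso (LinearEquiv.ofBijective l hl).toModuleIso.symm)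
    (Iso.refl (ω⟦i⟧))
  let e : (Dual.inD B (B ⧸ q.asIdeal) ⟶ (R.obj ω)⟦i⟧) ≃+ (Dual.inD A (A ⧸ p) ⟶ ω⟦i⟧) :=
    (FiniteRing.adjEquiv (FiniteRing.isRep_counit adj ω) (Dual.inD B (B ⧸ q.asIdeal)) i).trans eA.toAddEquiv
  have he : ∀ (a : A) g, e (algebraMap A B a • g) = a • e g := fun a g =>
    (congrArg eA (FiniteRing.adjEquiv_smul (FiniteRing.isRep_counit adj ω) _ i a g)).trans (map_smul eA a _)
  rw [← not_iff_not, not_nontrivial_iff_subsingleton, not_nontrivial_iff_subsingleton,
    LocalizedModule.subsingleton_iff, LocalizedModule.subsingleton_iff]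
  refine ⟨fun h m => ?_, fun h g => ?_⟩
  · obtain ⟨b, hb, hbm⟩ := h (e.symm m)
    obtain ⟨a, rfl⟩ := hs b
    refine ⟨a, hb, ?_⟩
    rw [← e.apply_symm_apply m, ← he, hbm, map_zero]
  · obtain ⟨a, ha, ham⟩ := h (e g)
    exact ⟨algebraMap A B a, ha, e.injective (by rw [he, ham, map_zero])⟩

end Groth.Agent.S8970
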