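import Groth.Statements.S8971
import Groth.Agent.Lib.Disc.AssOmega
import Groth.Agent.Lib.Disc.QFOmega

set_option autoImplicit false
universe u
open TensorProduct
open QFDual

namespace Groth.Agent.S8971

/-- Let A → B be a quasi-finite homomorphism of Noetherian rings, presented by writing it as a composite
A → B' → B, where the map A → B' is finite and the induced morphism Spec B → Spec B' is an open
immersion, so that ω_{B/A} = B ⊗_{B'} Hom_A(B', A) (B' acting on Hom_A(B', A) through the argument).
Then Ass_B(ω_{B/A}) is the set of primes of B whose preimage in A is an associated prime of A. -/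
theorem result (A B' B : Type u) [CommRing A] [CommRing B'] [CommRing B] [IsNoetherianRing A] [IsNoetherianRing B] [Algebra A B'] [Algebra B' B] [Algebra A B] [IsScalarTower A B' B] (hf : QFDual.IsQFFactor A B' B) : associatedPrimes B (QFDual.omega A B' B) = {q : Ideal B | q.IsPrime ∧ q.comap (algebraMap A B) ∈ associatedPrimes A A} := by
  haveI := hf.finite
  haveI : IsNoetherianRing B' := IsNoetherianRing.of_finite A B'
  haveI : Module.Flat B' B :=
    RingHom.flat_algebraMap_iff.1 (Groth.Agent.Lib.Disc.QFChart.flat hf.isOpenImmersion)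
  haveI : Module.Finite B' (Disc.Omega A B') := Groth.Agent.Lib.Disc.QFOmega.finite_omega A B'
  have hinj : ∀ q₀ q₁ : Ideal B, q₀.IsPrime → q₁.IsPrime →
      q₀.comap (algebraMap B' B) = q₁.comap (algebraMap B' B) → q₀ = q₁ := fun q₀ q₁ h₀ h₁ h =>
    congrArg PrimeSpectrum.asIdeal (@AlgebraicGeometry.Scheme.Hom.isOpenEmbedding _ _
      (AlgebraicGeometry.Spec.map (CommRingCat.ofHom (algebraMap B' B))) hf.isOpenImmersion |>.injective
      (a₁ := ⟨q₀, h₀⟩) (a₂ := ⟨q₁, h₁⟩) (PrimeSpectrum.ext h))
  rw [Groth.Agent.Lib.Disc.AssOmega.associatedPrimes_tensor hinj,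
    Groth.Agent.Lib.Disc.AssOmega.associatedPrimes_omega]
  ext q
  simp only [Set.mem_setOf_eq]
  refine and_congr_right fun hq => ?_
  haveI := hq
  rw [Ideal.comap_comap, ← IsScalarTower.algebraMap_eq A B' B]
  exact and_iff_right (Ideal.IsPrime.comap _)

end Groth.Agent.S8971
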