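import Groth.Statements.S8974

set_option autoImplicit false
universe u
open Synt

namespace Groth.Agent.S8974

/-- Let R be a ring, n, d ≥ 1 and g_1, …, g_n ∈ R[y_1, …, y_n] of total degree at most d. Then there is
a ring map φ : A = ℤ[a_{i,E}] → R (E running over exponent vectors with |E| ≤ d) such that applying
φ to the coefficients of the universal polynomial f_i = Σ_E a_{i,E} x^E gives g_i for each i. (The
published statement is for a locally quasi-finite syntomic morphism of schemes and asserts, locally,
a cartesian square with the universal family; this row is its affine core: the coefficient map.) -/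
theorem result (R : Type u) [CommRing R] (n d : ℕ) (hn : 1 ≤ n) (hd : 1 ≤ d) (g : Fin n → MvPolynomial (Fin n) R) (hg : ∀ i, (g i).totalDegree ≤ d) : ∃ φ : Synt.UnivBase n d →+* R, ∀ i, MvPolynomial.map φ (Synt.univPoly n d i) = g i := by
  classical
  refine ⟨MvPolynomial.eval₂Hom (Int.castRingHom R) fun p => MvPolynomial.coeff p.2.exponent (g p.1), fun i => ?_⟩
  ext e
  simp only [Synt.univPoly, map_sum, MvPolynomial.map_monomial, MvPolynomial.eval₂Hom_X', MvPolynomial.coeff_sum,
    MvPolynomial.coeff_monomial]
  by_cases h : ∑ l, e l ≤ d
  · let E : Synt.UnivIdx n d := ⟨fun l => ⟨e l, Nat.lt_succ_of_le ((Finset.single_le_sum (fun _ _ => Nat.zero_le _) (Finset.mem_univ l)).trans h)⟩, h⟩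
    have hE : E.exponent = e := by ext l; simp [E, Synt.UnivIdx.exponent]
    rw [Finset.sum_eq_single E, if_pos hE, hE]
    · intro b _ hb
      refine if_neg fun hbe => hb (Subtype.ext (funext fun l => Fin.ext ?_))
      simpa [E, Synt.UnivIdx.exponent] using DFunLike.congr_fun hbe l
    · simp
  · rw [Finset.sum_eq_zero]
    · by_contra hc
      refine h (le_trans ?_ (hg i))
      have := MvPolynomial.le_totalDegree (MvPolynomial.mem_support_iff.2 (Ne.symm hc))
      rwa [Finsupp.sum_fintype _ _ (fun _ => rfl)] at this
    · intro E _
      refine if_neg fun he => h ?_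
      rw [← he]
      simpa [Synt.UnivIdx.exponent] using E.2

end Groth.Agent.S8974
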