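import Groth.Statements.S8975


set_option autoImplicit false
universe u
open TensorProduct
open QFDual

namespace Groth.Agent.S8975

/-- The relative dualizing module of a product. Suppose A, B, C are Noetherian rings and the ring maps A
→ B, A → C are quasi-finite, presented by factorizations A → B' → B and A → C' → C with A → B', A →
C' finite and Spec B → Spec B', Spec C → Spec C' open immersions, and let B × C carry the product
algebra structure over B' × C' (so that A → B' × C' → B × C is a factorization of the same kind).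
Then ω_{(B × C)/A} = (B × C) ⊗_{B' × C'} Hom_A(B' × C', A) is identified with ω_{B/A} × ω_{C/A}:
there is an A-linear isomorphism sending (b, c) ⊗ φ to (b ⊗ φ∘ι_{B'}, c ⊗ φ∘ι_{C'}), where ι_{B'},
ι_{C'} are the inclusions of the factors; this formula determines the isomorphism and makes it (B ×
C)-linear. -/
theorem result (A B' B C' C : Type u) [CommRing A] [CommRing B'] [CommRing B] [CommRing C'] [CommRing C] [IsNoetherianRing A] [IsNoetherianRing B] [IsNoetherianRing C] [Algebra A B'] [Algebra B' B] [Algebra A B] [IsScalarTower A B' B] [Algebra A C'] [Algebra C' C] [Algebra A C] [IsScalarTower A C' C] (hB : QFDual.IsQFFactor A B' B) (hC : QFDual.IsQFFactor A C' C) [Algebra (B' × C') (B × C)] [IsScalarTower A (B' × C') (B × C)] (halg : algebraMap (B' × C') (B × C) = (algebraMap B' B).prodMap (algebraMap C' C)) : ∃ e : QFDual.omega A (B' × C') (B × C) ≃ₗ[A] QFDual.omega A B' B × QFDual.omega A C' C, ∀ (b : B) (c : C) (φ : Disc.Omega A (B' × C')), e ((b, c) ⊗ₜ[B' × C'] φ) = (b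 ⊗ₜ[B'] Disc.Omega.mk (φ.toLinearMap ∘ₗ LinearMap.inl A B' C'), c ⊗ₜ[C'] Disc.Omega.mk (φ.toLinearMap ∘ₗ LinearMap.inr A B' C')) := by
  classical
  let iB : Disc.Omega A (B' × C') → Disc.Omega A B' := fun φ =>
    Disc.Omega.mk (φ.toLinearMap ∘ₗ LinearMap.inl A B' C')
  let iC : Disc.Omega A (B' × C') → Disc.Omega A C' := fun φ =>
    Disc.Omega.mk (φ.toLinearMap ∘ₗ LinearMap.inr A B' C')
  let pB : Disc.Omega A B' → Disc.Omega A (B' × C') := fun φ =>
    Disc.Omega.mk (φ.toLinearMap ∘ₗ LinearMap.fst A B' C')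
  let pC : Disc.Omega A C' → Disc.Omega A (B' × C') := fun φ =>
    Disc.Omega.mk (φ.toLinearMap ∘ₗ LinearMap.snd A B' C')
  have hsmul : ∀ (r : B' × C') (m : B × C), r • m =
      (algebraMap B' B r.1 * m.1, algebraMap C' C r.2 * m.2) := by
    intro r m
    rw [Algebra.smul_def, halg]
    rfl
  have hiB : ∀ (r : B' × C') φ, iB (r • φ) = r.1 • iB φ := fun r φ =>
    Disc.Omega.ext (LinearMap.ext fun p => congrArg φ.toLinearMap (Prod.ext rfl (mul_zero r.2)))
  have hiC : ∀ (r : B' × C') φ, iC (r • φ) = r.2 • iC φ := fun r φ =>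
    Disc.Omega.ext (LinearMap.ext fun p => congrArg φ.toLinearMap (Prod.ext (mul_zero r.1) rfl))
  let f : (B × C) →+ Disc.Omega A (B' × C') →+ QFDual.omega A B' B × QFDual.omega A C' C :=
    AddMonoidHom.mk' (fun m => AddMonoidHom.mk' (fun φ => (m.1 ⊗ₜ iB φ, m.2 ⊗ₜ iC φ))
        (fun φ ψ => by
          refine Prod.ext ?_ ?_
          · show m.1 ⊗ₜ[B'] iB (φ + ψ) = m.1 ⊗ₜ iB φ + m.1 ⊗ₜ iB ψ
            rw [← TensorProduct.tmul_add]; rfl
          · show m.2 ⊗ₜ[C'] iC (φ + ψ) = m.2 ⊗ₜ iC φ + m.2 ⊗ₜ iC ψ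
            rw [← TensorProduct.tmul_add]; rfl))
      (fun m n => AddMonoidHom.ext fun φ =>
        Prod.ext (TensorProduct.add_tmul m.1 n.1 _) (TensorProduct.add_tmul m.2 n.2 _))
  let F : QFDual.omega A (B' × C') (B × C) →+ QFDual.omega A B' B × QFDual.omega A C' C :=
    TensorProduct.liftAddHom f fun r m φ => by
      show (((r • m).1) ⊗ₜ[B'] iB φ, ((r • m).2) ⊗ₜ[C'] iC φ) = (m.1 ⊗ₜ iB (r • φ), m.2 ⊗ₜ iC (r • φ))
      rw [hiB, hiC, hsmul, ← TensorProduct.smul_tmul, ← TensorProduct.smul_tmul, Algebra.smul_def,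
        Algebra.smul_def]
  have hF : ∀ (m : B × C) φ, F (m ⊗ₜ φ) = (m.1 ⊗ₜ iB φ, m.2 ⊗ₜ iC φ) := fun m φ => rfl
  let g1 : B →+ Disc.Omega A B' →+ QFDual.omega A (B' × C') (B × C) :=
    AddMonoidHom.mk' (fun b => AddMonoidHom.mk' (fun φ => ((b, 0) : B × C) ⊗ₜ pB φ)
        (fun φ ψ => by rw [← TensorProduct.tmul_add]; rfl))
      (fun b c => AddMonoidHom.ext fun φ => by
        show ((b + c, (0 : C)) : B × C) ⊗ₜ[B' × C'] pB φ = _
        rw [AddMonoidHom.add_apply]
        show _ = ((b, (0 : C)) : B × C) ⊗ₜ[B' × C'] pB φ + ((c, (0 : C)) : B × C) ⊗ₜ[B' × C'] pB φ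
        rw [← TensorProduct.add_tmul, Prod.mk_add_mk, add_zero])
  let G1 : QFDual.omega A B' B →+ QFDual.omega A (B' × C') (B × C) :=
    TensorProduct.liftAddHom g1 fun x b φ => by
      show ((x • b, (0 : C)) : B × C) ⊗ₜ[B' × C'] pB φ = ((b, (0 : C)) : B × C) ⊗ₜ[B' × C'] pB (x • φ)
      have e1 : pB (x • φ) = ((x, 0) : B' × C') • pB φ :=
        Disc.Omega.ext (LinearMap.ext fun p => rfl)
      rw [e1, ← TensorProduct.smul_tmul, hsmul, mul_zero, Algebra.smul_def]
  let g2 : C →+ Disc.Omega A C' →+ QFDual.omega A (B' × C') (B × C) :=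
    AddMonoidHom.mk' (fun b => AddMonoidHom.mk' (fun φ => ((0, b) : B × C) ⊗ₜ pC φ)
        (fun φ ψ => by rw [← TensorProduct.tmul_add]; rfl))
      (fun b c => AddMonoidHom.ext fun φ => by
        show (((0 : B), b + c) : B × C) ⊗ₜ[B' × C'] pC φ = _
        rw [AddMonoidHom.add_apply]
        show _ = (((0 : B), b) : B × C) ⊗ₜ[B' × C'] pC φ + (((0 : B), c) : B × C) ⊗ₜ[B' × C'] pC φ
        rw [← TensorProduct.add_tmul, Prod.mk_add_mk, add_zero])
  let G2 : QFDual.omega A C' C →+ QFDual.omega A (B' × C') (B × C) :=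
    TensorProduct.liftAddHom g2 fun x b φ => by
      show (((0 : B), x • b) : B × C) ⊗ₜ[B' × C'] pC φ = (((0 : B), b) : B × C) ⊗ₜ[B' × C'] pC (x • φ)
      have e1 : pC (x • φ) = ((0, x) : B' × C') • pC φ :=
        Disc.Omega.ext (LinearMap.ext fun p => rfl)
      rw [e1, ← TensorProduct.smul_tmul, hsmul, mul_zero, Algebra.smul_def]
  have hG : ∀ z, G1 (F z).1 + G2 (F z).2 = z := by
    intro z
    induction z using TensorProduct.induction_on with
    | zero => simp
    | add p q hp hq => rw [map_add, Prod.fst_add, Prod.snd_add, map_add, map_add, add_add_add_comm, hp, hq]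
    | tmul m φ =>
      rw [hF]
      show ((m.1, (0 : C)) : B × C) ⊗ₜ[B' × C'] pB (iB φ) + (((0 : B), m.2) : B × C) ⊗ₜ[B' × C'] pC (iC φ) = _
      have e1 : pB (iB φ) = ((1, 0) : B' × C') • φ :=
        Disc.Omega.ext (LinearMap.ext fun p => congrArg φ.toLinearMap
          (Prod.ext (one_mul p.1).symm (zero_mul p.2).symm))
      have e2 : pC (iC φ) = ((0, 1) : B' × C') • φ :=
        Disc.Omega.ext (LinearMap.ext fun p => congrArg φ.toLinearMap
          (Prod.ext (zero_mul p.1).symm (one_mul p.2).symm))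
      rw [e1, e2, ← TensorProduct.smul_tmul, ← TensorProduct.smul_tmul, ← TensorProduct.add_tmul, hsmul, hsmul]
      simp
  have hFG1 : ∀ z, F (G1 z) = (z, 0) := by
    intro z
    induction z using TensorProduct.induction_on with
    | zero => simp only [map_zero]; rfl
    | add p q hp hq => rw [map_add, map_add, hp, hq, Prod.mk_add_mk, add_zero]
    | tmul b φ =>
      show (b ⊗ₜ[B'] iB (pB φ), (0 : C) ⊗ₜ[C'] iC (pB φ)) = _
      rw [TensorProduct.zero_tmul]
      rfl
  have hFG2 : ∀ z, F (G2 z) = (0, z) := by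
    intro z
    induction z using TensorProduct.induction_on with
    | zero => simp only [map_zero]; rfl
    | add p q hp hq => rw [map_add, map_add, hp, hq, Prod.mk_add_mk, add_zero]
    | tmul c φ =>
      show ((0 : B) ⊗ₜ[B'] iB (pC φ), c ⊗ₜ[C'] iC (pC φ)) = _
      rw [TensorProduct.zero_tmul]
      rfl
  have hlin : ∀ (a : A) z, F (a • z) = a • F z := by
    intro a z
    induction z using TensorProduct.induction_on with
    | zero => simp
    | add p q hp hq => simp only [smul_add, map_add, hp, hq]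
    | tmul m φ =>
      rw [TensorProduct.smul_tmul', hF, hF]
      exact Prod.ext (TensorProduct.smul_tmul' a m.1 (iB φ)).symm (TensorProduct.smul_tmul' a m.2 (iC φ)).symm
  exact ⟨{ toFun := F
           map_add' := map_add F
           map_smul' := hlin
           invFun := fun p => G1 p.1 + G2 p.2
           left_inv := hG
           right_inv := fun p => by
             show F (G1 p.1 + G2 p.2) = p
             rw [map_add, hFG1, hFG2, Prod.mk_add_mk, add_zero, zero_add] },
    fun b c φ => rfl⟩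

end Groth.Agent.S8975
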