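import Groth.Statements.S8978
import Groth.Agent.Lib.HTopSheaf.ModelAffine

set_option autoImplicit false
universe w u
open HTop

namespace Groth.Agent.S8978

open CategoryTheory CategoryTheory.Limits AlgebraicGeometry in
/-- Given an h covering of an affine scheme X, one can find a proper surjective Y → X that is of finite
presentation, together with finitely many affine opens covering Y, such that each of these opens,
composed into X, factors through some member of the given family. -/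
theorem result {X : Scheme.{u}} [IsAffine X] (E : PreZeroHypercover.{w} X) (hE : HTop.IsHCover E) : ∃ (Y : Scheme.{u}) (g : Y ⟶ X) (n : ℕ) (V : Fin n → Y.Opens), IsProper g ∧ Surjective g ∧ LocallyOfFinitePresentation g ∧ (∀ j, IsAffineOpen (V j)) ∧ ⨆ j, V j = ⊤ ∧ ∀ j, ∃ (i : E.I₀) (h : ((V j : Y.Opens) : Scheme.{u}) ⟶ E.X i), h ≫ E.f i = (V j).ι ≫ g := by
  classical
  obtain ⟨Y, g, hg, hgs, hgl, hloc⟩ :=
    Groth.Agent.Lib.HTopSheaf.ModelAffine.exists_model E hE
  have hz : ∀ y : Y, ∃ O : Y.Opens, IsAffineOpen O ∧ y ∈ O ∧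
      ∃ (i : E.I₀) (k : (O : Scheme.{u}) ⟶ E.X i), k ≫ E.f i = O.ι ≫ g := fun y => by
    obtain ⟨U, hyU, i, k, hk⟩ := hloc y
    obtain ⟨O, hO, hyO, hle⟩ := exists_isAffineOpen_mem_and_subset (x := y) (U := U) hyU
    exact ⟨O, hO, hyO, i, Y.homOfLE hle ≫ k, by rw [Category.assoc, hk, Scheme.homOfLE_ι_assoc]⟩
  choose O hO hy i k hk using hz
  have : CompactSpace Y := QuasiCompact.compactSpace_of_compactSpace g
  obtain ⟨s, hs⟩ := isCompact_univ.elim_finite_subcover (fun y => (O y : Set Y))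
    (fun y => (O y).2) fun y _ => Set.mem_iUnion.mpr ⟨y, hy y⟩
  refine ⟨Y, g, s.card, fun a => O (s.equivFin.symm a).1, hg, hgs, hgl, fun a => hO _,
    eq_top_iff.mpr fun y _ => ?_, fun a => ⟨_, _, hk _⟩⟩
  obtain ⟨z, hz, hyz⟩ := Set.mem_iUnion₂.mp (hs (Set.mem_univ y))
  refine TopologicalSpace.Opens.mem_iSup.mpr ⟨s.equivFin ⟨z, hz⟩, ?_⟩
  show y ∈ O (s.equivFin.symm (s.equivFin ⟨z, hz⟩)).1
  rw [Equiv.symm_apply_apply]
  exact hyz

end Groth.Agent.S8978
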