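import Groth.Statements.S8982
import Groth.Agent.Lib.AlmostBlowUp.Basic

set_option autoImplicit false
universe u
open HTop

namespace Groth.Agent.S8982

open CategoryTheory CategoryTheory.Limits AlgebraicGeometry in
/-- The base change of an almost blow up square along an arbitrary morphism Y → X is an almost blow up
square over Y. The base-changed corners are introduced through fibre-product squares; the morphism
from the new exceptional corner to the new centre is the one compatible with them. -/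
theorem result {E Z X' X Y E₁ Z₁ X₁ : Scheme.{u}} {e : E ⟶ X'} {π : E ⟶ Z} {b : X' ⟶ X} {i : Z ⟶ X} (h : HTop.IsAlmostBlowUpSquare e π b i) (g : Y ⟶ X) {b₁ : X₁ ⟶ Y} {gX : X₁ ⟶ X'} (hX : IsPullback gX b₁ b g) {i₁ : Z₁ ⟶ Y} {gZ : Z₁ ⟶ Z} (hZ : IsPullback gZ i₁ i g) {e₁ : E₁ ⟶ X₁} {gE : E₁ ⟶ E} (hE : IsPullback gE e₁ e gX) {π₁ : E₁ ⟶ Z₁} (hπ : π₁ ≫ i₁ = e₁ ≫ b₁) : HTop.IsAlmostBlowUpSquare e₁ π₁ b₁ i₁ := by
  have := h.isClosedImmersion
  have := h.isProper
  have := h.finitePresentation
  have := h.finitePresentation_base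
  have hi₁ : IsClosedImmersion i₁ := MorphismProperty.of_isPullback (P := @IsClosedImmersion) hZ h.isClosedImmersion
  have hb₁ : IsProper b₁ := MorphismProperty.of_isPullback (P := @IsProper) hX h.isProper
  have hker := Groth.Agent.Lib.AlmostBlowUp.Basic.ker_of_isPullback hZ
  have hprin : HTop.IsLocPrincipal (i₁.ker.comap b₁) := by
    rw [hker, ← Scheme.IdealSheafData.comap_comp, ← hX.w, Scheme.IdealSheafData.comap_comp]
    exact Groth.Agent.Lib.AlmostBlowUp.Basic.isLocPrincipal_comap gX h.locPrincipal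
  refine ⟨hi₁, MorphismProperty.of_isPullback (P := @LocallyOfFinitePresentation) hZ h.finitePresentation_base,
    ?_, hprin, hb₁,
    MorphismProperty.of_isPullback (P := @LocallyOfFinitePresentation) hX h.finitePresentation,
    (Groth.Agent.Lib.AlmostBlowUp.Basic.isBlowUp_supportedOn_iff hprin).mpr fun W t ht => ?_⟩
  · have hEZ : π₁ ≫ gZ = gE ≫ π := by
      rw [← cancel_mono i, Category.assoc, Category.assoc, hZ.w, reassoc_of% hπ, ← hX.w,
        ← reassoc_of% hE.w, ← h.isPullback.w]
    refine IsPullback.of_bot ?_ hπ.symm hZ.flip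
    rw [hEZ, ← hX.w]
    exact hE.flip.paste_vert h.isPullback
  · rw [hker, ← Scheme.IdealSheafData.comap_comp] at ht
    obtain ⟨k, hk, huniq⟩ :=
      (Groth.Agent.Lib.AlmostBlowUp.Basic.isBlowUp_supportedOn_iff h.locPrincipal).mp h.isBlowUp W (t ≫ g) ht
    refine ⟨hX.lift k t hk, hX.lift_snd _ _ _, fun l hl => hX.hom_ext ?_ ?_⟩
    · rw [hX.lift_fst]
      refine huniq _ ?_
      show (l ≫ gX) ≫ b = t ≫ g
      rw [Category.assoc, hX.w, reassoc_of% hl]
    · rw [hX.lift_snd]
      exact hl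

end Groth.Agent.S8982
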