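import Groth.Statements.S8983
import Groth.Agent.Lib.AlmostBlowUp.Basic

set_option autoImplicit false
universe u
open HTop

namespace Groth.Agent.S8983

open CategoryTheory CategoryTheory.Limits AlgebraicGeometry in
/-- Given an almost blow up square with top right corner X' and a closed immersion W → X' of finite
presentation, the ideal of W lies inside the ideal of sections of the structure sheaf of X'
supported on the exceptional locus E (this single condition expresses both that X' minus E is
scheme-theoretically contained in W and that the blow up of X in Z is, the two being the same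
containment of ideal sheaves here) if and only if replacing X' by W and E by the scheme-theoretic
intersection of E and W gives again an almost blow up square. -/
theorem result {E Z X' X W EW : Scheme.{u}} {e : E ⟶ X'} {π : E ⟶ Z} {b : X' ⟶ X} {i : Z ⟶ X} (h : HTop.IsAlmostBlowUpSquare e π b i) (w : W ⟶ X') [IsClosedImmersion w] [LocallyOfFinitePresentation w] {eW : EW ⟶ W} {gE : EW ⟶ E} (hEW : IsPullback gE eW e w) : w.ker ≤ HTop.supportedOn (i.ker.comap b) ↔ HTop.IsAlmostBlowUpSquare eW (gE ≫ π) (w ≫ b) i := by
  have := h.isClosedImmersion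
  have := h.isProper
  have := h.finitePresentation
  have hprin : HTop.IsLocPrincipal (i.ker.comap (w ≫ b)) := by
    rw [Scheme.IdealSheafData.comap_comp]
    exact Groth.Agent.Lib.AlmostBlowUp.Basic.isLocPrincipal_comap w h.locPrincipal
  have hU := (Groth.Agent.Lib.AlmostBlowUp.Basic.isBlowUp_supportedOn_iff h.locPrincipal).mp h.isBlowUp
  constructor
  · intro hle
    refine ⟨h.isClosedImmersion, h.finitePresentation_base,
      hEW.flip.paste_vert h.isPullback, hprin, inferInstance, inferInstance,
      (Groth.Agent.Lib.AlmostBlowUp.Basic.isBlowUp_supportedOn_iff hprin).mpr fun Y g hg => ?_⟩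
    obtain ⟨k, hk, huniq⟩ := hU Y g hg
    have hker : w.ker ≤ k.ker := hle.trans
      (Groth.Agent.Lib.AlmostBlowUp.Basic.supportedOn_le_ker_of_comp b _ hk hg)
    refine ⟨IsClosedImmersion.lift w k hker,
      (IsClosedImmersion.lift_fac_assoc w k hker b).trans hk, fun l hl => ?_⟩
    rw [← cancel_mono w, IsClosedImmersion.lift_fac]
    exact huniq _ ((Category.assoc _ _ _).trans hl)
  · intro hW
    let ι := (HTop.supportedOn (i.ker.comap b)).subschemeι
    have hC : BlowUp.IsEffCartierIdeal (i.ker.comap (ι ≫ b)) := h.isBlowUp.1
    obtain ⟨k, hk, -⟩ :=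
      (Groth.Agent.Lib.AlmostBlowUp.Basic.isBlowUp_supportedOn_iff hprin).mp hW.isBlowUp _ _ hC
    obtain ⟨k₀, -, huniq⟩ := hU _ _ hC
    have he : k ≫ w = ι := (huniq _ ((Category.assoc _ _ _).trans hk)).trans (huniq _ rfl).symm
    calc w.ker ≤ (k ≫ w).ker := Scheme.Hom.le_ker_comp _ _
      _ = HTop.supportedOn (i.ker.comap b) := by
        rw [he, Scheme.IdealSheafData.ker_subschemeι]

end Groth.Agent.S8983
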