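import Groth.Statements.S8984
import Groth.Agent.S8982
import Groth.Agent.Lib.AlmostBlowUp.Basic
import Groth.Agent.Lib.BlowUpExists.Exists
import Groth.Agent.Lib.BlowUpExists.Proper
import Groth.Agent.Lib.DvrCrit.Curve
import Groth.Agent.Lib.Lim.FPDescend
import Groth.Agent.Lib.Lim.Props
import Groth.Agent.Lib.Lim.Approx.Main

set_option autoImplicit false
universe u
open HTop

namespace Groth.Agent.S8984

open CategoryTheory CategoryTheory.Limits AlgebraicGeometry in
/-- Over a quasi-compact quasi-separated scheme, every closed subscheme cut out by a finite type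
quasi-coherent ideal is the centre of some almost blow up square. -/
theorem result {Z X : Scheme.{u}} [CompactSpace X] [QuasiSeparatedSpace X] (i : Z ⟶ X) [IsClosedImmersion i] [LocallyOfFinitePresentation i] : ∃ (E X' : Scheme.{u}) (e : E ⟶ X') (π : E ⟶ Z) (b : X' ⟶ X), HTop.IsAlmostBlowUpSquare e π b i := by
  have : CompactSpace Z := QuasiCompact.compactSpace_of_compactSpace i
  have : QuasiSeparatedSpace Z := quasiSeparatedSpace_of_quasiSeparated i
  obtain ⟨AS⟩ := Groth.Agent.Lib.Lim.Approx.Main.exists_approx (S := X)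
  have haff : ∀ {p q} (g : p ⟶ q), IsAffineHom (AS.D.map g) := fun g => AS.affine g
  obtain ⟨a₀, Z₀, f₀, g₀, hZ₀, hZ₀', hf₀, hsq₀⟩ := Groth.Agent.Lib.Lim.FPDescend.exists_descent
    (c := AS.cone) AS.isLimit i
  have : LocallyOfFiniteType f₀ := inferInstance
  obtain ⟨a₁, φ, hcl⟩ := Groth.Agent.Lib.Lim.Props.isClosedImmersion_descends AS.D AS.cone AS.isLimit
    (fun _ _ g => AS.affine g) a₀ inferInstance inferInstance f₀ hZ₀ hZ₀' inferInstance i g₀ hsq₀
    inferInstance
  let i₁ := pullback.snd f₀ (AS.D.map φ)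
  have : IsClosedImmersion i₁ := hcl
  have hsq := Groth.Agent.Lib.Lim.FPDescend.move (c := AS.cone) hsq₀ φ
  have : IsNoetherian (AS.D.obj a₁) := { }
  have hFG : ∀ U, (i₁.ker.ideal U).FG := fun U => by
    have := IsLocallyNoetherian.component_noetherian U
    exact IsNoetherian.noetherian _
  obtain ⟨B, b₀, hb₀⟩ := Groth.Agent.Lib.BlowUpExists.exists_isBlowUp (AS.D.obj a₁) i₁.ker
  have : IsProper b₀ := Groth.Agent.Lib.BlowUpExists.isProper_of_isBlowUp hb₀ hFG
  have hprin : HTop.IsLocPrincipal (i₁.ker.comap b₀) := fun x => by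
    obtain ⟨U, hx, f, -, hf⟩ := hb₀.1 x
    exact ⟨U, hx, f, hf⟩
  have hsquare : HTop.IsAlmostBlowUpSquare (pullback.fst b₀ i₁) (pullback.snd b₀ i₁) b₀ i₁ :=
    ⟨inferInstance, Groth.Agent.Lib.DvrCrit.lfp_of_lft i₁, IsPullback.of_hasPullback _ _, hprin,
      inferInstance, Groth.Agent.Lib.DvrCrit.lfp_of_lft b₀,
      (Groth.Agent.Lib.AlmostBlowUp.Basic.isBlowUp_supportedOn_iff hprin).mpr hb₀.2⟩
  let g : X ⟶ AS.D.obj a₁ := AS.cone.π.app a₁
  let gX := pullback.fst b₀ g
  let b := pullback.snd b₀ g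
  let e := pullback.snd (pullback.fst b₀ i₁) gX
  let gZ := pullback.lift (f := f₀) (g := AS.D.map φ) g₀ (i ≫ g)
    (by rw [Category.assoc, AS.cone.w, hsq₀.w])
  have hZ : IsPullback gZ i i₁ g := hsq
  let gE := pullback.fst (pullback.fst b₀ i₁) gX
  let π : pullback (pullback.fst b₀ i₁) gX ⟶ Z := hZ.lift (gE ≫ pullback.snd b₀ i₁) (e ≫ b) (by
    simp only [gE, e, b, Category.assoc, ← pullback.condition]
    rw [pullback.condition_assoc])
  exact ⟨_, _, e, π, b, Groth.Agent.S8982.result hsquare g (IsPullback.of_hasPullback _ _) hZ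
    (IsPullback.of_hasPullback _ _) (hZ.lift_snd _ _ _)⟩

end Groth.Agent.S8984
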