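import Groth.Statements.S8985
import Groth.Agent.S8983
import Groth.Agent.Lib.AlmostBlowUp.Basic
import Groth.Agent.Lib.Lim.IdealFP
import Groth.Agent.Lib.Lim.Eventual

set_option autoImplicit false
universe u
open HTop

namespace Groth.Agent.S8985

open CategoryTheory CategoryTheory.Limits AlgebraicGeometry in
/-- Two almost blow up squares with the same centre Z → X (X quasi-compact and quasi-separated, Z of
finite presentation) are dominated by a third one whose top right corner embeds as a closed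
subscheme, over X, into each of theirs. -/
theorem result {Z X E₁ X₁ E₂ X₂ : Scheme.{u}} [CompactSpace X] [QuasiSeparatedSpace X] (i : Z ⟶ X) [IsClosedImmersion i] [LocallyOfFinitePresentation i] {e₁ : E₁ ⟶ X₁} {π₁ : E₁ ⟶ Z} {b₁ : X₁ ⟶ X} (h₁ : HTop.IsAlmostBlowUpSquare e₁ π₁ b₁ i) {e₂ : E₂ ⟶ X₂} {π₂ : E₂ ⟶ Z} {b₂ : X₂ ⟶ X} (h₂ : HTop.IsAlmostBlowUpSquare e₂ π₂ b₂ i) : ∃ (E X' : Scheme.{u}) (e : E ⟶ X') (π : E ⟶ Z) (b : X' ⟶ X) (j₁ : X' ⟶ X₁) (j₂ : X' ⟶ X₂), HTop.IsAlmostBlowUpSquare e π b i ∧ IsClosedImmersion j₁ ∧ IsClosedImmersion j₂ ∧ j₁ ≫ b₁ = b ∧ j₂ ≫ b₂ = b := by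
  have := h₁.isProper
  have := h₂.isProper
  have := h₁.finitePresentation
  have := h₂.finitePresentation
  have : CompactSpace X₁ := QuasiCompact.compactSpace_of_compactSpace b₁
  have : CompactSpace X₂ := QuasiCompact.compactSpace_of_compactSpace b₂
  have : QuasiSeparatedSpace X₁ := quasiSeparatedSpace_of_quasiSeparated b₁
  have : QuasiSeparatedSpace X₂ := quasiSeparatedSpace_of_quasiSeparated b₂
  let p₁ := pullback.fst b₁ b₂
  let p₂ := pullback.snd b₁ b₂
  have : CompactSpace (pullback b₁ b₂ : Scheme.{u}) := QuasiCompact.compactSpace_of_compactSpace p₁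
  have : QuasiSeparatedSpace (pullback b₁ b₂ : Scheme.{u}) := quasiSeparatedSpace_of_quasiSeparated p₁
  let ι₁ := (HTop.supportedOn (i.ker.comap b₁)).subschemeι
  let ι₂ := (HTop.supportedOn (i.ker.comap b₂)).subschemeι
  obtain ⟨k, hk, -⟩ := h₂.isBlowUp.2 _ _ h₁.isBlowUp.1
  obtain ⟨k', hk', -⟩ := h₁.isBlowUp.2 _ _ h₂.isBlowUp.1
  have : IsIso k := ⟨k', (h₁.isBlowUp.2 _ _ h₁.isBlowUp.1).unique
      (by rw [Category.assoc, hk', hk]) (Category.id_comp _),
    (h₂.isBlowUp.2 _ _ h₂.isBlowUp.1).unique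
      (by rw [Category.assoc, hk, hk']) (Category.id_comp _)⟩
  let q := pullback.lift (f := b₁) (g := b₂) ι₁ (k ≫ ι₂) ((Category.assoc _ _ _).trans hk).symm
  have : IsClosedImmersion (q ≫ p₁) := by rw [pullback.lift_fst]; infer_instance
  have : IsClosedImmersion q := IsClosedImmersion.of_comp q p₁
  let I := q.ker
  have he : ∀ {Y : Scheme.{u}} (p : pullback b₁ b₂ ⟶ Y), IsClosedImmersion (q ≫ p) →
      IsClosedImmersion (I.subschemeι ≫ p) := fun p hp => by
    have : I.subschemeι ≫ p = inv q.toImage ≫ q ≫ p := by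
      rw [IsIso.eq_inv_comp]
      exact (q.toImage_imageι_assoc p)
    rw [this]
    infer_instance
  let D := Groth.Agent.Lib.Lim.IdealExt.subDiagram I
  let c := Groth.Agent.Lib.Lim.IdealExt.subCone I
  have hc := Groth.Agent.Lib.Lim.IdealExt.isLimitSubCone I
  have hD : ∀ a b (g : a ⟶ b), IsClosedImmersion (D.map g) := fun a b g =>
    Groth.Agent.Lib.Lim.IdealExt.isClosedImmersion_map I g
  have hcs : ∀ a, CompactSpace (D.obj a) := fun a =>
    QuasiCompact.compactSpace_of_compactSpace a.unop.1.subschemeι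
  have hqs : ∀ a, QuasiSeparatedSpace (D.obj a) := fun a =>
    quasiSeparatedSpace_of_quasiSeparated a.unop.1.subschemeι
  have key : ∀ {Y : Scheme.{u}} [CompactSpace Y] [QuasiSeparatedSpace Y] (p : pullback b₁ b₂ ⟶ Y)
      [LocallyOfFiniteType p], IsClosedImmersion (q ≫ p) →
      ∃ a₁, ∀ (a : (Groth.Agent.Lib.Lim.IdealExt.FGSub I)ᵒᵖ) (_ : a ⟶ a₁), IsClosedImmersion (a.unop.1.subschemeι ≫ p) := fun {Y} _ _ p _ hp => by
    let t : D ⟶ (Functor.const _).obj Y :=
      Groth.Agent.Lib.Lim.IdealExt.subDiagramι I ≫ (Functor.const _).map p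
    have : ∀ a, LocallyOfFiniteType (t.app a) := fun a =>
      inferInstanceAs (LocallyOfFiniteType (a.unop.1.subschemeι ≫ p))
    let a₀ : (Groth.Agent.Lib.Lim.IdealExt.FGSub I)ᵒᵖ :=
      ⟨⟨⊥, bot_le, Groth.Agent.Lib.Lim.IdealExt.isFG_bot⟩⟩
    have : IsClosedImmersion (c.π.app a₀ ≫ t.app a₀) := by
      have : c.π.app a₀ ≫ t.app a₀ = I.subschemeι ≫ p := by
        show Scheme.IdealSheafData.inclusion _ ≫ _ ≫ p = _
        rw [← Category.assoc]
        congr 1
        exact Scheme.IdealSheafData.inclusion_subschemeι _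
      rw [this]
      exact he p hp
    exact Groth.Agent.Lib.Lim.Eventual.exists_isClosedImmersion t hc a₀
  obtain ⟨a₁, ha₁⟩ := key p₁ inferInstance
  obtain ⟨a₂, ha₂⟩ := key p₂ (by
    rw [show q ≫ p₂ = k ≫ ι₂ from pullback.lift_snd _ _ _]
    infer_instance)
  let a := IsCofiltered.min a₁ a₂
  have hw₁ : IsClosedImmersion (a.unop.1.subschemeι ≫ p₁) := ha₁ a (IsCofiltered.minToLeft _ _)
  have hw₂ : IsClosedImmersion (a.unop.1.subschemeι ≫ p₂) := ha₂ a (IsCofiltered.minToRight _ _)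
  have := Groth.Agent.Lib.Lim.IdealFP.lfp_subschemeι a.unop.1 a.unop.2.2
  let w := a.unop.1.subschemeι ≫ p₁
  have hle : w.ker ≤ HTop.supportedOn (i.ker.comap b₁) := by
    calc w.ker ≤ ((q.toImage ≫ Scheme.IdealSheafData.inclusion a.unop.2.1) ≫ w).ker :=
        Scheme.Hom.le_ker_comp _ _
      _ = ι₁.ker := by
        congr 1
        rw [Category.assoc]
        show _ ≫ Scheme.IdealSheafData.inclusion _ ≫ _ ≫ p₁ = _
        rw [Scheme.IdealSheafData.inclusion_subschemeι_assoc]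
        exact (q.toImage_imageι_assoc p₁).trans (pullback.lift_fst _ _ _)
      _ = _ := Scheme.IdealSheafData.ker_subschemeι _
  have hsq := (Groth.Agent.S8983.result h₁ w (IsPullback.of_hasPullback e₁ w)).mp hle
  exact ⟨_, _, _, _, _, w, a.unop.1.subschemeι ≫ p₂, hsq, hw₁, hw₂, rfl, by
    show (a.unop.1.subschemeι ≫ p₂) ≫ b₂ = (a.unop.1.subschemeι ≫ p₁) ≫ b₁
    rw [Category.assoc, Category.assoc, pullback.condition]⟩

end Groth.Agent.S8985
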