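import Groth.Statements.S8987
import Groth.Agent.Lib.HTopSheaf.BlowUpSquare

set_option autoImplicit false
universe u
open HTop

namespace Groth.Agent.S8987

open CategoryTheory CategoryTheory.Limits AlgebraicGeometry Opposite in
/-- An h sheaf on schemes over S turns every almost blow up square of S-schemes into a cartesian square
of sets of sections. -/
theorem result (S : Scheme.{u}) (F : HTop.ShH S) {E Z X' X : Over S} (e : E ⟶ X') (π : E ⟶ Z) (b : X' ⟶ X) (i : Z ⟶ X) (h : HTop.IsAlmostBlowUpSquare e.left π.left b.left i.left) (t : F.obj.obj (op Z)) (s' : F.obj.obj (op X')) (hts : F.obj.map π.op t = F.obj.map e.op s') : ∃! s : F.obj.obj (op X), F.obj.map i.op s = t ∧ F.obj.map b.op s = s' := by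
  have := h.isClosedImmersion
  have := h.finitePresentation_base
  have := h.finitePresentation
  have := h.isProper
  exact Groth.Agent.Lib.HTopSheaf.BlowUpSquare.existsUnique_section _ _
    Groth.Agent.Lib.HTopSheaf.BlowUpSquare.pairsCover_h F e π b i
    ((Groth.Agent.Lib.AlmostBlowUp.Basic.isBlowUp_supportedOn_iff h.locPrincipal).mp h.isBlowUp)
    h.isPullback inferInstance inferInstance
    (Groth.Agent.Lib.HTopSheaf.BlowUpSquare.lfp_diagonal b.left)
    (Groth.Agent.Lib.HTopSheaf.BlowUpSquare.lfp_map h.isPullback) t s' hts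

end Groth.Agent.S8987
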