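import Groth.Statements.S8988
import Groth.Agent.H95.HThick.Basic

set_option autoImplicit false
universe u
open HTop

namespace Groth.Agent.S8988

open CategoryTheory CategoryTheory.Limits AlgebraicGeometry Opposite in
/-- An h sheaf on schemes over S takes the same sections on an S-scheme and on any thickening of it of
finite presentation. -/
theorem result (S : Scheme.{u}) (F : HTop.ShH S) {X X' : Over S} (f : X ⟶ X') (hf : MoreMor.IsThickening f.left) [LocallyOfFinitePresentation f.left] : Function.Bijective (F.obj.map f.op) := by
  exact H95.HThick.h_bijective S F f hf

end Groth.Agent.S8988
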