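import Groth.Statements.S8990
import Groth.Agent.Lib.HTopSheaf.BlowUpSquare
import Groth.Agent.Lib.BlowUpExists.Proper

set_option autoImplicit false
universe u
open HTop

namespace Groth.Agent.S8990

open CategoryTheory CategoryTheory.Limits AlgebraicGeometry Opposite in
/-- A ph sheaf on schemes over S turns every blow up square (centre a closed subscheme of finite
presentation, X' → X the blowing up, E the inverse image of the centre) into a cartesian square of
sets of sections. -/
theorem result (S : Scheme.{u}) (F : HTop.ShPh S) {E Z X' X : Over S} (e : E ⟶ X') (π : E ⟶ Z) (b : X' ⟶ X) (i : Z ⟶ X) [IsClosedImmersion i.left] [LocallyOfFinitePresentation i.left] (hb : BlowUp.IsBlowUp b.left i.left.ker) (hE : IsPullback e.left π.left b.left i.left) (t : F.obj.obj (op Z)) (s' : F.obj.obj (op X')) (hts : F.obj.map π.op t = F.obj.map e.op s') : ∃! s : F.obj.obj (op X), F.obj.map i.op s = t ∧ F.obj.map b.op s = s' := by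
  have hFG : ∀ U, (i.left.ker.ideal U).FG := fun U => by
    rw [Scheme.Hom.ker_apply]
    have : IsAffine (U.1 : Scheme.{u}) := U.2
    have hfp : (i.left.app U.1).hom.FinitePresentation := by
      rw [Scheme.Hom.app_eq_appLE]
      exact i.left.finitePresentation_appLE U.2 (U.2.preimage i.left) le_rfl
    algebraize [(i.left.app U.1).hom]
    exact Algebra.FinitePresentation.ker_fG_of_surjective
      (Algebra.ofId Γ(X.left, U.1) Γ(Z.left, i.left ⁻¹ᵁ U.1)) (i.left.app_surjective U.1 U.2)
  have := Groth.Agent.Lib.BlowUpExists.isProper_of_isBlowUp hb hFG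
  exact Groth.Agent.Lib.HTopSheaf.BlowUpSquare.existsUnique_section _ _
    Groth.Agent.Lib.HTopSheaf.BlowUpSquare.pairsCover_ph F e π b i hb.2 hE trivial trivial trivial
    trivial t s' hts

end Groth.Agent.S8990
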