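import Groth.Statements.S8992
import Groth.Agent.Lib.Seminormal.Basic
import Mathlib.Algebra.Field.ZMod

set_option autoImplicit false
universe u
open HTop

namespace Groth.Agent.S8992

/-- An algebra over the prime field with p elements is absolutely weakly normal if and only if its p-th
power map is bijective (the algebra is perfect). -/
theorem result (p : ℕ) [Fact p.Prime] (A : Type u) [CommRing A] [Algebra (ZMod p) A] : HTop.IsAWNRing A ↔ PerfectRing A p := by
  have hp : p.Prime := Fact.out
  have hp0 : (p : A) = 0 := by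
    rw [← map_natCast (algebraMap (ZMod p) A), ZMod.natCast_self, map_zero]
  constructor
  · intro h
    refine ⟨⟨fun a b hab => ?_, fun x => ?_⟩⟩
    · obtain ⟨c, -, hc⟩ := h.2 p hp (a ^ p) 0 (by simp [hp0, zero_pow hp.ne_zero])
      rw [hc a ⟨rfl, by simp [hp0]⟩, hc b ⟨hab, by simp [hp0]⟩]
    · obtain ⟨c, ⟨hc, -⟩, -⟩ := h.2 p hp x 0 (by simp [hp0, zero_pow hp.ne_zero])
      exact ⟨c, hc.symm⟩
  · intro h
    have hinj : ∀ a b : A, a ^ p = b ^ p → a = b := fun a b hab => h.bijective_frobenius.1 hab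
    have hsurj : ∀ x : A, ∃ a, a ^ p = x := h.bijective_frobenius.2
    have hkill : ∀ a : A, a ^ p = 0 → a = 0 := fun a ha => hinj a 0 (by rw [ha, zero_pow hp.ne_zero])
    have : _root_.IsReduced A := (isReduced_iff_pow_one_lt p hp.one_lt).mpr hkill
    have hsn : HTop.IsSeminormalRing A := by
      refine Groth.Agent.Lib.Seminormal.Basic.isSeminormalRing_of_exists fun x y hxy => ?_
      rcases hp.eq_two_or_odd with rfl | hodd
      · obtain ⟨a, ha⟩ := hsurj x
        refine ⟨a, ha.symm, hinj _ _ ?_⟩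
        rw [← hxy, ← ha]
        ring
      · obtain ⟨k, rfl⟩ : ∃ k, p = 2 * k + 3 := ⟨(p - 3) / 2, by have := hp.two_le; omega⟩
        obtain ⟨a, ha⟩ := hsurj (y * x ^ k)
        refine ⟨a, hinj _ _ ?_, hinj _ _ ?_⟩
        · rw [pow_right_comm a 2, ha]
          linear_combination (x ^ (2 * k)) * hxy
        · rw [pow_right_comm a 3, ha, pow_add, pow_mul, ← hxy]
          ring
    refine Groth.Agent.Lib.Seminormal.Basic.isAWNRing_of_exists hsn fun q hq x y hxy => ?_
    by_cases hqp : q = p
    · subst hqp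
      obtain ⟨a, ha⟩ := hsurj x
      refine ⟨a, ha.symm, ?_⟩
      rw [hp0, zero_mul]
      refine hkill y ?_
      rw [← hxy, hp0, zero_pow hq.ne_zero, zero_mul]
    · have : Fact p.Prime := ⟨hp⟩
      have hq0 : ((q : ℕ) : ZMod p) ≠ 0 := by
        rw [Ne, ZMod.natCast_eq_zero_iff]
        exact fun hd => hqp ((Nat.prime_dvd_prime_iff_eq hp hq).mp hd).symm
      have hu : IsUnit (q : A) := by
        rw [← map_natCast (algebraMap (ZMod p) A)]
        exact hq0.isUnit.map _
      obtain ⟨v, hv⟩ := hu.exists_right_inv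
      refine ⟨v * y, ?_, by rw [← mul_assoc, hv, one_mul]⟩
      rw [mul_pow, ← hxy, ← mul_assoc, ← mul_pow, mul_comm v, hv, one_pow, one_mul]

end Groth.Agent.S8992
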