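import Groth.Statements.S8993
import Groth.Agent.Lib.WeakNormal.AbsChar
import Groth.Agent.S8992
import Mathlib.FieldTheory.PerfectClosure
import Mathlib.Algebra.Algebra.ZMod

set_option autoImplicit false
universe u
open HTop

namespace Groth.Agent.S8993

/-- For a ring A of prime characteristic p, the map from A to the direct limit of A along Frobenius (the
perfect closure) is an absolute weak normalization of A. (The published statement also identifies,
over a base of characteristic p, the h sheafification of the structure sheaf on quasi-compact
quasi-separated objects with this colimit; that part is not stated here.) -/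
theorem result (p : ℕ) [Fact p.Prime] (A : Type u) [CommRing A] [CharP A p] : HTop.IsRingAWN (PerfectClosure.of A p) := by
  have hp : p.Prime := Fact.out
  let := (PerfectClosure.of A p).toAlgebra
  have hpow : ∀ z : PerfectClosure A p, ∃ (n : ℕ) (a : A),
      z ^ p ^ n = PerfectClosure.of A p a := fun z => by
    obtain ⟨⟨n, a⟩, rfl⟩ := PerfectClosure.mk_surjective A p z
    refine ⟨n, a, ?_⟩
    have := PerfectClosure.iterate_frobenius_mk (K := A) (p := p) n a
    rwa [← coe_iterateFrobenius, iterateFrobenius_def] at this
  have hu : FlatMor.IsUnivHomeo (AlgebraicGeometry.Spec.map (CommRingCat.ofHom (PerfectClosure.of A p))) := by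
    refine Groth.Agent.Lib.WeakNormal.AbsExists.isUnivHomeo_iff.mpr ⟨⟨fun z => ?_⟩,
      Groth.Agent.Lib.WeakNormal.AbsExists.universallyInjective_of_algHom_ext fun K _ φ ψ e => ?_,
      fun P => ?_⟩
    · obtain ⟨n, a, ha⟩ := hpow z
      refine IsIntegral.of_pow (pow_pos hp.pos n) ?_
      rw [ha]
      exact isIntegral_algebraMap
    · have hK : CharP K p := (CharP.charP_iff_prime_eq_zero hp).mpr (by
        rw [← map_natCast φ, CharP.cast_eq_zero, map_zero])
      refine RingHom.ext fun z => ?_
      obtain ⟨n, a, ha⟩ := hpow z
      refine iterateFrobenius_inj K p n ?_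
      rw [iterateFrobenius_def, iterateFrobenius_def, ← map_pow, ← map_pow, ha]
      exact DFunLike.congr_fun e a
    · have hK : CharP P.asIdeal.ResidueField p := (CharP.charP_iff_prime_eq_zero hp).mpr (by
        rw [← map_natCast (algebraMap A P.asIdeal.ResidueField), CharP.cast_eq_zero, map_zero])
      have : CharP (AlgebraicClosure P.asIdeal.ResidueField) p :=
        charP_of_injective_algebraMap (algebraMap P.asIdeal.ResidueField _).injective p
      let f : A →+* AlgebraicClosure P.asIdeal.ResidueField :=
        (algebraMap P.asIdeal.ResidueField _).comp (algebraMap A _)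
      let g := PerfectClosure.lift A p (AlgebraicClosure P.asIdeal.ResidueField) f
      have hg : g.comp (PerfectClosure.of A p) = f :=
        (PerfectClosure.lift A p _).symm_apply_apply f
      refine ⟨⟨RingHom.ker g, RingHom.ker_isPrime g⟩, PrimeSpectrum.ext (Ideal.ext fun a => ?_)⟩
      show g (PerfectClosure.of A p a) = 0 ↔ a ∈ P.asIdeal
      rw [← RingHom.comp_apply, hg, RingHom.comp_apply, map_eq_zero,
        Ideal.algebraMap_residueField_eq_zero]
  refine Groth.Agent.Lib.WeakNormal.AbsChar.isRingAWN_of_isAWNRing _ hu ?_
  let := ZMod.algebra (PerfectClosure A p) p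
  exact (Groth.Agent.S8992.result p (PerfectClosure A p)).mpr inferInstance

end Groth.Agent.S8993
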