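import Groth.Statements.S8997
import Groth.Agent.Lib.RG.UIMain
import Groth.Agent.Lib.RG57.HenselML
import Groth.Agent.Lib.RG.DevChain
-- import your own Groth.Agent.* helpers here

set_option autoImplicit false
universe u
open FlatMor

namespace Groth.Agent.S8997

open IsLocalRing TensorProduct in
/-- For a local homomorphism A → B of local rings essentially of finite type, a B-linear map from a
finite B-module N to an A-flat B-module M which is injective modulo the maximal ideal of A is
A-universally injective, and N is then finitely presented over B and flat over A. -/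
theorem result {A B : Type u} [CommRing A] [IsLocalRing A] [CommRing B] [IsLocalRing B] [Algebra A B] [IsLocalHom (algebraMap A B)] [Algebra.EssFiniteType A B] {N M : Type u} [AddCommGroup N] [Module B N] [Module A N] [IsScalarTower A B N] [Module.Finite B N] [AddCommGroup M] [Module B M] [Module A M] [IsScalarTower A B M] [Module.Flat A M] (u : N →ₗ[B] M) (hu : Function.Injective ((u.restrictScalars A).lTensor (ResidueField A))) : FlatCA.UnivInj A (u.restrictScalars A) ∧ Module.FinitePresentation B N ∧ Module.Flat A N := by
  let S₀ := Algebra.EssFiniteType.subalgebra A B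
  obtain ⟨n, π, hπ⟩ := Algebra.FiniteType.iff_quotient_mvPolynomial''.1 (inferInstance : Algebra.FiniteType A S₀)
  let P := MvPolynomial (Fin n) A
  letI : Algebra P B := (S₀.val.comp π).toRingHom.toAlgebra
  haveI : IsScalarTower A P B := IsScalarTower.of_algebraMap_eq fun a => ((S₀.val.comp π).commutes a).symm
  let q : Ideal P := (maximalIdeal B).comap (algebraMap P B)
  have hunit : ∀ s, s ∉ q → IsUnit (algebraMap P B s) := fun s hs => by
    by_contra hu
    exact hs ((mem_maximalIdeal _).2 hu)
  haveI : q.LiesOver (maximalIdeal A) := ⟨Ideal.ext fun a => by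
    show _ ↔ algebraMap P B (algebraMap A P a) ∈ maximalIdeal B
    rw [← IsScalarTower.algebraMap_apply, mem_maximalIdeal, mem_maximalIdeal,
      mem_nonunits_iff, mem_nonunits_iff, isUnit_map_iff]⟩
  have hfracB : ∀ b : B, ∃ s ∉ q, ∃ c, algebraMap P B s * b = algebraMap P B c := fun b => by
    obtain ⟨⟨x, ⟨y, hy⟩⟩, hxy⟩ := IsLocalization.surj (Algebra.EssFiniteType.submonoid A B) b
    obtain ⟨s, rfl⟩ := hπ y
    obtain ⟨c, rfl⟩ := hπ x
    exact ⟨s, fun hs => (mem_maximalIdeal _).1 hs hy, c, (mul_comm _ _).trans hxy⟩
  letI : Module P N := Module.compHom N (algebraMap P B)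
  haveI : IsScalarTower P B N := IsScalarTower.of_algebraMap_smul fun _ _ => rfl
  haveI : IsScalarTower A P N := IsScalarTower.of_algebraMap_smul fun a x => by
    rw [← algebraMap_smul B (algebraMap A P a) x, ← IsScalarTower.algebraMap_apply, algebraMap_smul]
  letI : Module P M := Module.compHom M (algebraMap P B)
  haveI : IsScalarTower P B M := IsScalarTower.of_algebraMap_smul fun _ _ => rfl
  haveI : IsScalarTower A P M := IsScalarTower.of_algebraMap_smul fun a x => by
    rw [← algebraMap_smul B (algebraMap A P a) x, ← IsScalarTower.algebraMap_apply, algebraMap_smul]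
  obtain ⟨N₁, hN₁, hloc⟩ := Lib.RG57.HenselML.exists_finite_sub q hunit hfracB N
  haveI := hN₁
  haveI := hloc
  let m := maximalIdeal A
  let e : ResidueField A ≃ₗ[A] m.ResidueField :=
    (AlgEquiv.ofBijective (IsScalarTower.toAlgHom A (A ⧸ m) m.ResidueField)
      m.bijective_algebraMap_quotient_residueField).toLinearEquiv
  let uP : N →ₗ[P] M := u.restrictScalars P
  have hu' : Function.Injective ((uP.restrictScalars A).rTensor m.ResidueField) := by
    refine (LinearMap.lTensor_inj_iff_rTensor_inj _ _).1 ?_
    let eN := LinearEquiv.rTensor N e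
    let eM := LinearEquiv.rTensor M e
    intro a b hab
    obtain ⟨a', rfl⟩ := eN.surjective a
    obtain ⟨b', rfl⟩ := eN.surjective b
    have hc : ∀ w, (uP.restrictScalars A).lTensor m.ResidueField (eN w) =
        eM ((u.restrictScalars A).lTensor (ResidueField A) w) := fun w => by
      induction w using TensorProduct.induction_on with
      | zero => simp
      | add a b ha hb => simp only [map_add, ha, hb]
      | tmul c x => rfl
    rw [hc, hc] at hab
    rw [hu (eM.injective hab)]
  obtain ⟨hui, hflat, hfp⟩ := Lib.RG.UIMain.main q N₁.subtype uP hu'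
  refine ⟨fun Q _ _ => (LinearMap.lTensor_inj_iff_rTensor_inj _ _).2 (hui Q), ?_, hflat⟩
  haveI := Lib.RG.DevTools.finitePresentation_of_fpAt q hfp
  letI : Algebra (Localization.AtPrime q) B := (IsLocalization.lift (M := q.primeCompl) (g := algebraMap P B)
    fun s => hunit s s.2).toAlgebra
  haveI : IsScalarTower P (Localization.AtPrime q) B := IsScalarTower.of_algebraMap_eq fun c =>
    (IsLocalization.lift_eq _ c).symm
  have hsurj : Function.Surjective (algebraMap (Localization.AtPrime q) B) := fun b => by
    obtain ⟨s, hs, c, hc⟩ := hfracB b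
    refine ⟨IsLocalization.mk' _ c (⟨s, hs⟩ : q.primeCompl), ?_⟩
    rw [RingHom.algebraMap_toAlgebra, IsLocalization.lift_mk'_spec]
    exact hc.symm
  haveI : Module.Finite (Localization.AtPrime q) B :=
    Module.Finite.of_surjective (Algebra.linearMap (Localization.AtPrime q) B) hsurj
  letI : Module (Localization.AtPrime q) N := Module.compHom N (algebraMap (Localization.AtPrime q) B)
  haveI : IsScalarTower (Localization.AtPrime q) B N := IsScalarTower.of_algebraMap_smul fun _ _ => rfl
  haveI : IsScalarTower P (Localization.AtPrime q) N := IsScalarTower.of_algebraMap_smul fun c x => by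
    rw [← algebraMap_smul B (algebraMap P (Localization.AtPrime q) c) x, ← IsScalarTower.algebraMap_apply,
      algebraMap_smul]
  haveI : Module.FinitePresentation (Localization.AtPrime q) N :=
    Module.FinitePresentation.of_equiv (M := LocalizedModule q.primeCompl N₁) (R := Localization.AtPrime q)
    (LinearEquiv.ofBijective ((IsLocalizedModule.iso q.primeCompl N₁.subtype).toLinearMap.extendScalarsOfIsLocalization
      q.primeCompl (Localization.AtPrime q)) (IsLocalizedModule.iso q.primeCompl N₁.subtype).bijective)
  exact Lib.RG.DevChain.finitePresentation_up (B := Localization.AtPrime q)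

end Groth.Agent.S8997
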