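import Groth.Statements.S8998
-- import your own Groth.Agent.* helpers here
import Groth.Agent.Lib.FlatCA.ImpurityReduce
import Groth.Agent.S1246

set_option autoImplicit false
universe u
open FlatMor

namespace Groth.Agent.S8998

/-- An isolated point of its fibre is quasi-finite. -/
theorem quasiFiniteAt_of_isolated {A X : Type u} [CommRing A] [CommRing X] [Algebra A X] [Algebra.FiniteType A X]
    (p : Ideal A) [p.IsPrime] (v : Ideal X) [v.IsPrime] [v.LiesOver p] (V : Ideal (p.Fiber X)) [hpT : V.IsPrime]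
    (hcT : V.comap Algebra.TensorProduct.includeRight.toRingHom = v)
    (huniq : ∀ Q : Ideal (p.Fiber X), Q.IsPrime → (Q ≤ V ∨ V ≤ Q) → Q = V) : Algebra.QuasiFiniteAt A v := by
  haveI : IsNoetherianRing (p.Fiber X) := Algebra.FiniteType.isNoetherianRing p.ResidueField _
  haveI : IsJacobsonRing (p.Fiber X) := isJacobsonRing_of_finiteType (A := p.ResidueField)
  let x : PrimeSpectrum (p.Fiber X) := ⟨V, hpT⟩
  have hopen : IsOpen ({x} : Set (PrimeSpectrum (p.Fiber X))) := by
    refine ((PrimeSpectrum.isOpen_singleton_tfae_of_isNoetherian_of_isJacobsonRing x).out 0 2 rfl rfl).2 ⟨?_, ?_⟩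
    · rw [PrimeSpectrum.isClosed_singleton_iff_isMaximal]
      obtain ⟨m, hm, hle⟩ := Ideal.exists_le_maximal _ hpT.ne_top
      show (V).IsMaximal
      rw [← huniq m hm.isPrime (Or.inr hle)]
      exact hm
    · intro z w hzw hz
      rw [Set.mem_singleton_iff] at hz ⊢
      subst hz
      exact PrimeSpectrum.ext (huniq _ w.2 (Or.inl ((PrimeSpectrum.le_iff_specializes _ _).2 hzw)))
  haveI : Algebra.QuasiFiniteAt p.ResidueField (V) :=
    Algebra.QuasiFiniteAt.of_isOpen_singleton x hopen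
  exact Algebra.QuasiFiniteAt.of_quasiFiniteAt_residueField p v (V) hcT


open TensorProduct

attribute [local instance] Algebra.TensorProduct.rightAlgebra

section

variable {A B : Type u} [CommRing A] [CommRing B] [Algebra A B] [Algebra.FiniteType A B]
  {N : Type u} [AddCommGroup N] [Module B N] {p : Ideal A} [p.IsPrime]

/-- An impurity descends to an intermediate base ring, keeping the points. -/
theorem down_exact (R' : Type u) [CommRing R'] [Algebra A R']
    {A'' B'' N'' : Type u} [CommRing A''] [CommRing B''] [Algebra A A''] [Algebra R' A''] [IsScalarTower A R' A'']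
    [Algebra B B''] [Algebra A'' B'']
    [Algebra A B''] [IsScalarTower A B B''] [IsScalarTower A A'' B''] [AddCommGroup N''] [Module B'' N''] [Module B N'']
    [IsScalarTower B B'' N''] [Module A'' N''] [IsScalarTower A'' B'' N''] {f : N →ₗ[B] N''} {t'' u : Ideal A''}
    [t''.IsPrime] [u.IsPrime] {P : Ideal B''} [P.IsPrime]
    (himp : FlatCA.IsImpurity A B N p A'' B'' N'' f t'' u P)
    (ψ : R' ⊗[A] B →+* B'') (hψ₁ : ∀ r : R', ψ (r ⊗ₜ 1) = algebraMap A'' B'' (algebraMap R' A'' r))
    (hψ₂ : ∀ b : B, ψ ((1 : R') ⊗ₜ b) = algebraMap B B'' b)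
    (u₀ : Ideal R') [u₀.IsPrime] (hu : u.comap (algebraMap R' A'') = u₀)
    (hno : ∀ (P₁ : Ideal (R' ⊗[A] B)) [P₁.IsPrime], P.comap ψ ≤ P₁ →
      ¬ P₁.LiesOver (u.comap (algebraMap R' A''))) :
    FlatCA.IsImpurity A B N p R' (R' ⊗[A] B) ((R' ⊗[A] B) ⊗[B] N) (TensorProduct.mk B (R' ⊗[A] B) N 1)
      (t''.comap (algebraMap R' A'')) u₀ (P.comap ψ) := by
  subst hu
  obtain ⟨hpo, hf, hle, htp, hPt, hass, -⟩ := himp
  haveI := htp
  haveI := hPt
  let BR := R' ⊗[A] B
  letI : Algebra BR B'' := ψ.toAlgebra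
  letI : Algebra R' B'' := ((algebraMap A'' B'').comp (algebraMap R' A'')).toAlgebra
  haveI : IsScalarTower R' A'' B'' := .of_algebraMap_eq' rfl
  haveI : IsScalarTower R' BR B'' := IsScalarTower.of_algebraMap_eq fun r => (hψ₁ r).symm
  haveI : IsScalarTower B BR B'' := IsScalarTower.of_algebraMap_eq fun b => (hψ₂ b).symm
  haveI : IsScalarTower A BR B'' := IsScalarTower.of_algebraMap_eq fun a => by
    rw [IsScalarTower.algebraMap_apply A R' BR, ← IsScalarTower.algebraMap_apply R' BR B'',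
      IsScalarTower.algebraMap_apply A A'' B'', IsScalarTower.algebraMap_apply A R' A'',
      ← IsScalarTower.algebraMap_apply R' A'' B'']
  haveI : Algebra.IsPushout A A'' B B'' := hpo.symm
  have hpoR : Algebra.IsPushout R' BR A'' B'' :=
    ((Algebra.IsPushout.comp_iff A R' B BR (T := A'')).1 ‹_›).symm
  let NR := BR ⊗[B] N
  letI : Module BR N'' := Module.compHom N'' (algebraMap BR B'')
  haveI : IsScalarTower BR B'' N'' := IsScalarTower.of_algebraMap_smul fun _ _ => rfl
  haveI : IsScalarTower B BR N'' := IsScalarTower.of_algebraMap_smul fun b n => by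
    show algebraMap BR B'' (algebraMap B BR b) • n = b • n
    rw [← IsScalarTower.algebraMap_apply B BR B'', algebraMap_smul]
  let fR : N →ₗ[B] NR := TensorProduct.mk B BR N 1
  have hfR : IsBaseChange BR fR := TensorProduct.isBaseChange B N BR
  have hg : IsBaseChange B'' (hfR.lift f) := (IsBaseChange.comp_iff hfR).1 (by rw [hfR.lift_comp]; exact hf)
  haveI : Algebra.FiniteType R' BR := Algebra.FiniteType.baseChange R' (A := B)
  let tR := t''.comap (algebraMap R' A'')
  haveI : t''.LiesOver tR := ⟨rfl⟩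
  obtain ⟨hlR, hassR⟩ := Lib.FlatCA.FibreDescend.assoc_comap hpoR (hfR.lift f) hg tR t'' P hass
  exact
    ⟨inferInstance, hfR, Ideal.comap_mono hle, ⟨htp.over.trans (by
      rw [Ideal.under_def, Ideal.under_def, Ideal.comap_comap, ← IsScalarTower.algebraMap_eq])⟩,
      hlR, hassR, fun P₁ _ hP₁ => hno P₁ hP₁⟩

/-- Over a point with noetherian local ring impurities occur over quasi-finite base changes. -/
theorem hasImpurity_quasiFiniteAt [Module.Finite B N] [IsNoetherianRing (Localization.AtPrime p)]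
    (h : FlatCA.HasImpurity A B N p (fun _ _ _ _ => True)) :
    FlatCA.HasImpurity A B N p (fun A' _ _ t => ∃ _ : t.IsPrime, Algebra.FiniteType A A' ∧ Algebra.QuasiFiniteAt A t) := by
  letI : Module A N := Module.compHom N (algebraMap A B)
  haveI : IsScalarTower A B N := IsScalarTower.of_algebraMap_smul fun _ _ => rfl
  obtain ⟨A', B', N', _, _, _, _, _, _, _, _, _, _, _, _, _, _, f, t', t, _, _, P, _, himp, -, hfp, hmax⟩ :=
    Lib.FlatCA.ImpurityReduce.exists_fp_closed h
  have htp' : ¬ t'.LiesOver p := Lib.FlatCA.ImpurityReduce.not_liesOver himp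
  haveI := himp.2.2.2.1
  haveI : Algebra.FiniteType A A' := .of_finitePresentation
  have hclosed : ∀ w : Ideal A', w.IsPrime → w.LiesOver p → t ≤ w → w = t := fun w hw hwl htw => by
    obtain ⟨hp1, hc1⟩ := Lib.FlatCA.WeakAss.fiberIdeal_prime p w
    obtain ⟨hp2, hc2⟩ := Lib.FlatCA.WeakAss.fiberIdeal_prime p t
    rw [← hc1, ← hc2, hmax.eq_of_le hp1.ne_top (Ideal.map_mono htw)]
  -- pass to the domain `A' / t'`
  let R := A' ⧸ t'
  let mk := Ideal.Quotient.mk t'
  haveI : (t.map mk).IsPrime :=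
    Ideal.map_isPrime_of_surjective Ideal.Quotient.mk_surjective (by rw [Ideal.mk_ker]; exact himp.2.2.1)
  have htc : (t.map mk).comap mk = t := by
    rw [Ideal.comap_map_of_surjective _ Ideal.Quotient.mk_surjective, ← RingHom.ker_eq_comap_bot, Ideal.mk_ker]
    exact sup_eq_left.2 himp.2.2.1
  haveI : (t.map mk).LiesOver t := ⟨htc.symm⟩
  haveI : (⊥ : Ideal R).IsPrime := Ideal.isPrime_bot
  haveI : (⊥ : Ideal R).LiesOver t' := ⟨by rw [Ideal.under_def, Ideal.Quotient.algebraMap_eq, ← RingHom.ker_eq_comap_bot, Ideal.mk_ker]⟩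
  obtain ⟨B₁, N₁, _, _, _, _, _, _, _, _, _, _, _, _, f₁, P₁, _, himp₁⟩ :=
    Lib.FlatCA.ImpurityReduce.up_exact himp R (⊥ : Ideal R) (t.map mk) bot_le
  obtain ⟨hpo₁, hf₁, -, htp₁, hPl₁, hass₁, hno₁⟩ := himp₁
  haveI := htp₁
  haveI := hPl₁
  haveI : Algebra.FiniteType A R := .of_surjective (Ideal.Quotient.mkₐ A t') Ideal.Quotient.mk_surjective
  let M := Algebra.algebraMapSubmonoid R p.primeCompl
  have hM : Disjoint (M : Set R) ↑(t.map mk) := by
    rw [Set.disjoint_left]
    rintro _ ⟨s, hs, rfl⟩ hsu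
    exact hs ((Ideal.mem_of_liesOver (t.map mk) p s).2 hsu)
  have hM0 : Disjoint (M : Set R) ↑(⊥ : Ideal R) :=
    hM.mono_right fun x hx => (bot_le : (⊥ : Ideal R) ≤ t.map mk) hx
  let RS := Localization M
  haveI := IsLocalization.isPrime_of_isPrime_disjoint M RS (t.map mk) inferInstance hM
  haveI := IsLocalization.liesOver_map_of_isPrime_disjoint M RS (I := t.map mk) hM
  haveI := IsLocalization.isPrime_of_isPrime_disjoint M RS (⊥ : Ideal R) inferInstance hM0
  haveI := IsLocalization.liesOver_map_of_isPrime_disjoint M RS (I := (⊥ : Ideal R)) hM0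
  let uS := (t.map mk).map (algebraMap R RS)
  haveI : IsNoetherianRing RS := by
    let l : Localization.AtPrime p →ₐ[A] RS :=
      IsLocalization.liftAlgHom (M := p.primeCompl) (f := Algebra.ofId A RS) fun s => by
        show IsUnit (algebraMap A RS s.1)
        rw [IsScalarTower.algebraMap_apply A R RS]
        exact IsLocalization.map_units _ (⟨_, s.1, s.2, rfl⟩ : M)
    let χ : Localization.AtPrime p ⊗[A] R →ₐ[A] RS :=
      Algebra.TensorProduct.lift l (IsScalarTower.toAlgHom A R RS) fun _ _ => Commute.all _ _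
    haveI : IsNoetherianRing (Localization.AtPrime p ⊗[A] R) :=
      Algebra.FiniteType.isNoetherianRing (Localization.AtPrime p) _
    refine isNoetherianRing_of_surjective _ _ χ.toRingHom fun z => ?_
    obtain ⟨r, ⟨_, s, hs, rfl⟩, rfl⟩ := IsLocalization.exists_mk'_eq M z
    refine ⟨IsLocalization.mk' _ (1 : A) (⟨s, hs⟩ : p.primeCompl) ⊗ₜ r, ?_⟩
    show χ _ = _
    rw [Algebra.TensorProduct.lift_tmul, eq_comm, IsLocalization.mk'_eq_iff_eq_mul]
    have hl : l (IsLocalization.mk' _ (1 : A) (⟨s, hs⟩ : p.primeCompl)) * algebraMap A RS s = 1 := by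
      rw [← l.commutes, ← map_mul, IsLocalization.mk'_spec, map_one, map_one]
    show algebraMap R RS r = _ * algebraMap R RS r * algebraMap R RS (algebraMap A R s)
    rw [← IsScalarTower.algebraMap_apply, mul_right_comm, hl, one_mul]
  have himp₁' : FlatCA.IsImpurity A B N p R B₁ N₁ f₁ (⊥ : Ideal R) (t.map mk) P₁ :=
    ⟨hpo₁, hf₁, bot_le, htp₁, hPl₁, hass₁, hno₁⟩
  obtain ⟨B₂, N₂, _, _, _, _, _, _, _, _, _, _, _, _, fS, PS, _, hpoS, hfS, -, htpS, hPlS, hassS, hnoS⟩ :=
    Lib.FlatCA.ImpurityReduce.up_exact himp₁' RS ((⊥ : Ideal R).map (algebraMap R RS)) uS (Ideal.map_mono bot_le)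
  have hbot : (⊥ : Ideal R).map (algebraMap R RS) = ⊥ := Ideal.map_bot
  haveI : IsDomain RS := IsLocalization.isDomain_localization fun x hx => by
    refine mem_nonZeroDivisors_of_ne_zero fun h0 => Set.disjoint_left.1 hM0 hx ?_
    rw [h0]; exact zero_mem _
  haveI : (⊥ : Ideal RS).IsPrime := Ideal.isPrime_bot
  haveI : PS.LiesOver (⊥ : Ideal RS) := ⟨hbot.symm.trans hPlS.over⟩
  haveI : Algebra.IsPushout A RS B B₂ := hpoS.symm
  haveI : Algebra.FiniteType RS B₂ :=
    .equiv (Algebra.FiniteType.baseChange RS (A := B)) (Algebra.IsPushout.equiv A RS B B₂)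
  haveI : Module.Finite B₂ N₂ := Module.Finite.equiv hfS.equiv
  have hassS' : FlatCA.fiberIdeal (⊥ : Ideal RS) PS ∈
      associatedPrimes ((⊥ : Ideal RS).Fiber B₂) (FlatCA.fiberMod (⊥ : Ideal RS) B₂ N₂) := by
    have key : ∀ (I : Ideal RS) [I.IsPrime], I = ⊥ →
        FlatCA.fiberIdeal I PS ∈ associatedPrimes (I.Fiber B₂) (FlatCA.fiberMod I B₂ N₂) →
        FlatCA.fiberIdeal (⊥ : Ideal RS) PS ∈
          associatedPrimes ((⊥ : Ideal RS).Fiber B₂) (FlatCA.fiberMod (⊥ : Ideal RS) B₂ N₂) := by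
      intro I _ h h'
      subst h
      exact h'
    exact key _ hbot hassS
  obtain ⟨f₀, hf₀, hgen⟩ := Lib.FlatCA.ImpurityReduce.exists_generic PS hassS'
  obtain ⟨a, hap, ha⟩ : ∃ a ∈ p, algebraMap A R a ≠ 0 := by
    by_contra hcon
    push Not at hcon
    refine htp' ⟨le_antisymm (fun a ha => ?_) fun a ha => ?_⟩
    · rw [Ideal.under_def, Ideal.mem_comap, ← Ideal.Quotient.eq_zero_iff_mem]
      exact hcon a ha
    · exact (Ideal.mem_of_liesOver t p a).2 (himp.2.2.1 ha)
  haveI := htpS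
  have hinjS : Function.Injective (algebraMap R RS) := IsLocalization.injective RS fun x hx =>
    mem_nonZeroDivisors_of_ne_zero fun h0 => Set.disjoint_left.1 hM0 hx (by rw [h0]; exact zero_mem _)
  have haS : algebraMap A RS a ≠ 0 := fun h => ha (hinjS (by rwa [map_zero, ← IsScalarTower.algebraMap_apply]))
  obtain ⟨qS, hqS, hquS, hfqS, hbtwS⟩ := Lib.FlatCA.ImpurityReduce.exists_prime_avoiding uS
    (mul_ne_zero hf₀ haS) (Ideal.mul_mem_left _ _ ((Ideal.mem_of_liesOver uS p a).1 hap))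
  haveI := hqS
  obtain ⟨P₃, hP₃, hle₃, hl₃, hass₃⟩ := hgen qS fun h => hfqS (qS.mul_mem_right _ h)
  haveI := hl₃
  have himp₃ : FlatCA.IsImpurity A B N p RS B₂ N₂ fS qS uS P₃ :=
    ⟨hpoS, hfS, hquS, htpS, hl₃, hass₃, fun P' _ hP' => hnoS P' (hle₃.trans hP')⟩
  -- go back down to `R`
  let q := qS.comap (algebraMap R RS)
  have hq : q.IsPrime := Ideal.IsPrime.comap _
  haveI := hq
  have huc : uS.comap (algebraMap R RS) = t.map mk := IsLocalization.under_map_of_isPrime_disjoint M RS inferInstance hM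
  have hqu : q ≤ t.map mk := (Ideal.comap_mono hquS).trans huc.le
  have haq : algebraMap A R a ∉ q := fun h => hfqS (qS.mul_mem_left _ (by
    rw [Ideal.mem_comap, ← IsScalarTower.algebraMap_apply] at h
    exact h))
  have hbtw : ∀ w : Ideal R, w.IsPrime → q < w → w ≤ t.map mk → w = t.map mk := fun w hw hqw hwu => by
    have hd : Disjoint (M : Set R) ↑w := hM.mono_right hwu
    have hc : (w.map (algebraMap R RS)).comap (algebraMap R RS) = w :=
      IsLocalization.under_map_of_isPrime_disjoint M RS hw hd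
    rw [← hc, hbtwS (w.map (algebraMap R RS)) (IsLocalization.isPrime_of_isPrime_disjoint M RS w hw hd)
      (lt_of_le_of_ne ?_ fun h => hqw.ne ?_) (Ideal.map_mono hwu), huc]
    · rw [← IsLocalization.map_comap M RS qS]
      exact Ideal.map_mono hqw.le
    · rw [← hc, ← h]
  obtain ⟨ψ, hψ₁, hψ₂⟩ : ∃ ψ : R ⊗[A] B →ₐ[A] B₂,
      (∀ r : R, ψ (r ⊗ₜ 1) = algebraMap RS B₂ (algebraMap R RS r)) ∧
      ∀ b : B, ψ ((1 : R) ⊗ₜ b) = algebraMap B B₂ b := Lib.FlatCA.ImpurityMove.exists_hom R
  letI := ψ.toRingHom.toAlgebra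
  letI : Algebra R B₂ := ((algebraMap RS B₂).comp (algebraMap R RS)).toAlgebra
  haveI : IsScalarTower R RS B₂ := IsScalarTower.of_algebraMap_eq (R := R) (S := RS) (A := B₂) fun r => rfl
  haveI : IsScalarTower R (R ⊗[A] B) B₂ :=
    IsScalarTower.of_algebraMap_eq (R := R) (S := R ⊗[A] B) (A := B₂) fun r => (hψ₁ r).symm
  haveI : IsScalarTower B (R ⊗[A] B) B₂ :=
    IsScalarTower.of_algebraMap_eq (R := B) (S := R ⊗[A] B) (A := B₂) fun b => (hψ₂ b).symm
  haveI : IsScalarTower A (R ⊗[A] B) B₂ :=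
    IsScalarTower.of_algebraMap_eq (R := A) (S := R ⊗[A] B) (A := B₂) fun x => (ψ.commutes x).symm
  haveI : Algebra.IsPushout R (R ⊗[A] B) RS B₂ :=
    ((Algebra.IsPushout.comp_iff A R B (R ⊗[A] B) (T := RS)).1 hpoS.symm).symm
  haveI : IsLocalization (Algebra.algebraMapSubmonoid (R ⊗[A] B) M) B₂ :=
    (Algebra.isLocalization_iff_isPushout M RS).2 inferInstance
  have hnoR : ∀ (Q : Ideal (R ⊗[A] B)) [Q.IsPrime], P₃.comap ψ.toRingHom ≤ Q →
      ¬ Q.LiesOver (uS.comap (algebraMap R RS)) := fun Q _ hQ hl => by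
    have hd : Disjoint (Algebra.algebraMapSubmonoid (R ⊗[A] B) M : Set (R ⊗[A] B)) ↑Q := by
      rw [Set.disjoint_left]
      rintro _ ⟨s, hs, rfl⟩ hsQ
      exact Set.disjoint_left.1 hM hs (huc.le (hl.over.ge hsQ))
    haveI := IsLocalization.isPrime_of_isPrime_disjoint _ B₂ Q inferInstance hd
    refine hnoS (Q.map (algebraMap (R ⊗[A] B) B₂)) (hle₃.trans ?_) ⟨?_⟩
    · rw [← IsLocalization.map_comap (Algebra.algebraMapSubmonoid (R ⊗[A] B) M) B₂ P₃]
      exact Ideal.map_mono hQ
    · refine (IsLocalization.map_comap M RS uS).symm.trans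
        (Eq.trans ?_ (IsLocalization.map_comap M RS _))
      simp only [Ideal.under_def]
      rw [hl.over, Ideal.under_def, Ideal.comap_comap, ← IsScalarTower.algebraMap_eq,
        IsScalarTower.algebraMap_eq R (R ⊗[A] B) B₂, ← Ideal.comap_comap,
        show Ideal.comap (algebraMap (R ⊗[A] B) B₂) (Q.map (algebraMap (R ⊗[A] B) B₂)) = Q from
          IsLocalization.under_map_of_isPrime_disjoint (Algebra.algebraMapSubmonoid (R ⊗[A] B) M) B₂ inferInstance hd]
  have himp₂ : FlatCA.IsImpurity A B N p R (R ⊗[A] B) ((R ⊗[A] B) ⊗[B] N)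
      (TensorProduct.mk B (R ⊗[A] B) N 1) q (t.map mk) (P₃.comap ψ.toRingHom) :=
    down_exact R himp₃ ψ.toRingHom hψ₁ hψ₂ (t.map mk) huc hnoR
  -- pass to `R / q`
  let X := R ⧸ q
  let mk₂ := Ideal.Quotient.mk q
  let v := (t.map mk).map mk₂
  haveI : v.IsPrime :=
    Ideal.map_isPrime_of_surjective Ideal.Quotient.mk_surjective (by rw [Ideal.mk_ker]; exact hqu)
  have hvc : v.comap mk₂ = t.map mk := by
    rw [Ideal.comap_map_of_surjective _ Ideal.Quotient.mk_surjective, ← RingHom.ker_eq_comap_bot, Ideal.mk_ker]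
    exact sup_eq_left.2 hqu
  haveI : v.LiesOver (t.map mk) := ⟨hvc.symm⟩
  haveI : v.LiesOver p := .trans _ (t.map mk) _
  haveI : (⊥ : Ideal X).IsPrime := Ideal.isPrime_bot
  haveI : (⊥ : Ideal X).LiesOver q := ⟨by rw [Ideal.under_def, Ideal.Quotient.algebraMap_eq, ← RingHom.ker_eq_comap_bot, Ideal.mk_ker]⟩
  haveI : Algebra.FiniteType A X := .of_surjective (Ideal.Quotient.mkₐ A q) Ideal.Quotient.mk_surjective
  refine Lib.FlatCA.ImpurityMove.up himp₂ X (⊥ : Ideal X) v bot_le _ ⟨inferInstance, inferInstance, ?_⟩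
  -- `v` is isolated in its fibre
  obtain ⟨hpT, hcT⟩ := Lib.FlatCA.WeakAss.fiberIdeal_prime p v
  haveI := hpT
  haveI : IsNoetherianRing (p.Fiber X) := Algebra.FiniteType.isNoetherianRing p.ResidueField (p.Fiber X)
  haveI : IsJacobsonRing (p.Fiber X) := isJacobsonRing_of_finiteType (A := p.ResidueField)
  have huniq : ∀ Q : Ideal (p.Fiber X), Q.IsPrime →
      (Q ≤ FlatCA.fiberIdeal p v ∨ FlatCA.fiberIdeal p v ≤ Q) → Q = FlatCA.fiberIdeal p v := fun Q hQ hQv => by
    haveI := hQ
    let w := Q.comap (Lib.FlatCA.Impurity.incl p)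
    haveI : w.LiesOver p := Lib.FlatCA.FibreAss.liesOver_comap p Q
    suffices w = v by
      rw [← Lib.FlatCA.WeakAss.map_comap_incl p Q]
      exact congrArg (Ideal.map _) this
    rcases hQv with hQv | hQv
    · have hwv : w ≤ v := (Ideal.comap_mono hQv).trans hcT.le
      have hqw : q < w.comap mk₂ := lt_of_le_of_ne (fun x hx => by
          rw [Ideal.mem_comap, Ideal.Quotient.eq_zero_iff_mem.2 hx]; exact zero_mem _) fun h =>
        haq (h ▸ (by
          show algebraMap A X a ∈ w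
          exact (Ideal.mem_of_liesOver w p a).1 hap))
      refine Ideal.comap_injective_of_surjective mk₂ Ideal.Quotient.mk_surjective (Eq.trans ?_ hvc.symm)
      exact hbtw _ (Ideal.IsPrime.comap _) hqw ((Ideal.comap_mono hwv).trans hvc.le)
    · have hvw : v ≤ w := hcT.ge.trans (Ideal.comap_mono hQv)
      have htw : (w.comap mk₂).comap mk = t := by
        refine hclosed _ (Ideal.IsPrime.comap _) ⟨?_⟩ ?_
        · rw [Ideal.under_def, Ideal.comap_comap, Ideal.comap_comap]
          exact Ideal.LiesOver.over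
        · rw [← htc, ← hvc]
          exact Ideal.comap_mono (Ideal.comap_mono hvw)
      refine Ideal.comap_injective_of_surjective mk₂ Ideal.Quotient.mk_surjective
        (Ideal.comap_injective_of_surjective mk Ideal.Quotient.mk_surjective ?_)
      rw [htw, hvc, htc]
  exact quasiFiniteAt_of_isolated p v (FlatCA.fiberIdeal p v) hcT huniq

end

/-- For an affine finite type morphism Spec B → Spec A: if the local ring of A at the prime p is
Noetherian, then a finite B-module is pure along the fibre over p if and only if it is universally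
pure along it. -/
theorem result {A B : Type u} [CommRing A] [CommRing B] [Algebra A B] [Algebra.FiniteType A B] (N : Type u) [AddCommGroup N] [Module B N] [Module.Finite B N] (p : Ideal A) [p.IsPrime] [IsNoetherianRing (Localization.AtPrime p)] : FlatCA.IsPureAlong A B N p ↔ FlatCA.IsUnivPureAlong A B N p := by
  constructor
  · intro h A' B' N' _ _ _ _ _ _ _ _ _ _ _ _ _ _ f t' t _ _ P _ himp
    obtain ⟨A₂, B₂, N₂, _, _, _, _, _, _, _, _, _, _, _, _, _, _, f₂, t₂', t₂, _, _, P₂, _, himp₂, _, hn⟩ :=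
      Groth.Agent.S1246.result N p (hasImpurity_quasiFiniteAt
        ⟨A', B', N', inferInstance, inferInstance, inferInstance, inferInstance, inferInstance, inferInstance,
          inferInstance, inferInstance, inferInstance, inferInstance, inferInstance, inferInstance, inferInstance,
          inferInstance, f, t', t, inferInstance, inferInstance, P, inferInstance, himp, trivial⟩)
    exact h A₂ B₂ N₂ f₂ t₂' t₂ P₂ hn himp₂
  · intro h A' B' N' _ _ _ _ _ _ _ _ _ _ _ _ _ _ f t' t _ _ P _ _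
    exact h A' B' N' f t' t P

end Groth.Agent.S8998
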