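import Groth.Statements.S8999
import Groth.Agent.Lib.FlatCA.FibreAss

set_option autoImplicit false
universe u
open FlatMor

namespace Groth.Agent.S8999

open TensorProduct

attribute [local instance] Algebra.TensorProduct.rightAlgebra

/-- Associated points of fibres see only the image of the acting ring. -/
theorem assoc_iff_of_surjective {A' B' C' : Type u} [CommRing A'] [CommRing B'] [CommRing C'] [Algebra A' B'] [Algebra A' C']
    [Algebra B' C'] [IsScalarTower A' B' C'] (hs : Function.Surjective (algebraMap B' C'))
    {N N' : Type u} [AddCommGroup N] [Module B' N] [AddCommGroup N'] [Module C' N'] [Module B' N'] [IsScalarTower B' C' N']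
    (e : N ≃ₗ[B'] N') (t : Ideal A') [t.IsPrime] (P : Ideal B') (R : Ideal C') [P.IsPrime] [R.IsPrime] [P.LiesOver t]
    [R.LiesOver t] (hPR : R.comap (algebraMap B' C') = P) :
    _root_.FlatCA.fiberIdeal t P ∈ associatedPrimes (t.Fiber B') (_root_.FlatCA.fiberMod t B' N) ↔
      _root_.FlatCA.fiberIdeal t R ∈ associatedPrimes (t.Fiber C') (_root_.FlatCA.fiberMod t C' N') := by
  rw [Lib.FlatCA.FibreAss.assoc_iff, Lib.FlatCA.FibreAss.assoc_iff]
  letI : Module A' N := Module.compHom N (algebraMap A' B')
  haveI : IsScalarTower A' B' N := IsScalarTower.of_algebraMap_smul fun _ _ => rfl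
  letI : Module A' N' := Module.compHom N' (algebraMap A' C')
  haveI : IsScalarTower A' C' N' := IsScalarTower.of_algebraMap_smul fun _ _ => rfl
  haveI : IsScalarTower A' B' N' := IsScalarTower.of_algebraMap_smul fun a n => by
    rw [← algebraMap_smul C' (algebraMap A' B' a) n, ← IsScalarTower.algebraMap_apply]
    rfl
  let e₁ := Lib.FlatCA.FiberMod.fiberModEquiv t B' N
  let e₂ := Lib.FlatCA.FiberMod.fiberModEquiv t C' N'
  let g : N ⊗[A'] t.ResidueField ≃ₗ[B'] N' ⊗[A'] t.ResidueField :=
    TensorProduct.AlgebraTensorModule.congr e (LinearEquiv.refl A' _)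
  let d : _root_.FlatCA.fiberMod t B' N ≃ _root_.FlatCA.fiberMod t C' N' :=
    (e₁.trans g).toEquiv.trans e₂.symm.toEquiv
  have hcol : ∀ x, Submodule.colon (⊥ : Submodule B' (_root_.FlatCA.fiberMod t B' N)) {x} =
      (Submodule.colon (⊥ : Submodule C' (_root_.FlatCA.fiberMod t C' N')) {d x}).comap (algebraMap B' C') := fun x => by
    ext b
    rw [Ideal.mem_comap, Submodule.mem_colon_singleton, Submodule.mem_bot, Submodule.mem_colon_singleton,
      Submodule.mem_bot, show algebraMap B' C' b • d x = e₂.symm (algebraMap B' C' b • (e₁.trans g) x) from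
        (map_smul e₂.symm _ _).symm, LinearEquiv.map_eq_zero_iff, algebraMap_smul, ← map_smul,
      LinearEquiv.map_eq_zero_iff]
  constructor
  · rintro ⟨-, x, hx⟩
    refine ⟨inferInstance, d x, Ideal.comap_injective_of_surjective _ hs ?_⟩
    rw [hPR, Ideal.comap_radical, ← hcol]
    exact hx
  · rintro ⟨-, y, hy⟩
    refine ⟨inferInstance, d.symm y, ?_⟩
    rw [hcol, d.apply_symm_apply, ← Ideal.comap_radical, ← hy, hPR]

/-- A base change along the algebra of a closed immersion is a base change of the ambient algebra. -/
theorem isBaseChange_of_isPushout {A B C A' B' C' : Type u} [CommRing A] [CommRing B] [CommRing C] [Algebra A B]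
    [Algebra B C] [Algebra A C] [IsScalarTower A B C] [CommRing A'] [CommRing B'] [CommRing C'] [Algebra A A']
    [Algebra B B'] [Algebra C C'] [Algebra A' B'] [Algebra A' C'] [Algebra A B'] [Algebra A C'] [Algebra B' C'] [Algebra B C']
    [IsScalarTower A B B'] [IsScalarTower A A' B'] [IsScalarTower A C C'] [IsScalarTower A A' C']
    [IsScalarTower B B' C'] [IsScalarTower B C C'] [IsScalarTower A' B' C'] [IsScalarTower A B' C']
    [Algebra.IsPushout A B A' B'] [Algebra.IsPushout B C B' C']
    {N N' : Type u} [AddCommGroup N] [Module C N] [Module B N] [IsScalarTower B C N] [AddCommGroup N']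
    [Module C' N'] [Module C N'] [IsScalarTower C C' N'] [Module B' N'] [IsScalarTower B' C' N'] [Module B N']
    [IsScalarTower B B' N'] [IsScalarTower B C N']
    (f : N →ₗ[C] N') (hf : IsBaseChange C' f) : IsBaseChange B' (f.restrictScalars B) := by
  haveI : Algebra.IsPushout B B' C C' := Algebra.IsPushout.symm inferInstance
  refine IsBaseChange.of_equiv ((Algebra.IsPushout.cancelBaseChange B B' C C' N).symm.trans (hf.equiv.restrictScalars B'))
    fun n => ?_
  show hf.equiv ((Algebra.IsPushout.cancelBaseChange B B' C C' N).symm ((1 : B') ⊗ₜ[B] n)) = f n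
  rw [Algebra.IsPushout.cancelBaseChange_symm_tmul, map_one, hf.equiv_tmul, one_smul]

/-- Impurities transfer along closed immersions. -/
theorem transfer {A B C : Type u} [CommRing A] [CommRing B] [CommRing C] [Algebra A B] [Algebra B C] [Algebra A C]
    [IsScalarTower A B C] (hBC : Function.Surjective (algebraMap B C)) {N : Type u} [AddCommGroup N] [Module C N] [Module B N]
    [IsScalarTower B C N] (p : Ideal A) [p.IsPrime] (Q : ∀ (A' : Type u) [CommRing A'] [Algebra A A'], Ideal A' → Prop) :
    _root_.FlatCA.HasImpurity A C N p Q ↔ _root_.FlatCA.HasImpurity A B N p Q := by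
  constructor
  · rintro ⟨A', C', N', _, _, _, _, _, _, _, _, _, _, _, _, _, _, f, t', t, _, _, R, _, ⟨hpo, hf, hle, htp, hRt, hass, hno⟩, hQ⟩
    haveI := hRt
    let B' := A' ⊗[A] B
    haveI : Algebra.IsPushout A B A' B' := Algebra.IsPushout.symm inferInstance
    haveI : Algebra.IsPushout A A' B B' := Algebra.IsPushout.symm inferInstance
    haveI : Algebra.IsPushout A C A' C' := hpo
    let fA : A' →ₐ[A] C' := IsScalarTower.toAlgHom A A' C'
    let fB : B →ₐ[A] C' := (IsScalarTower.toAlgHom A C C').comp (IsScalarTower.toAlgHom A B C)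
    letI : Algebra B C' := fB.toRingHom.toAlgebra
    haveI : IsScalarTower B C C' := IsScalarTower.of_algebraMap_eq fun _ => rfl
    let π : B' →ₐ[A] C' := Algebra.TensorProduct.lift fA fB fun _ _ => Commute.all _ _
    letI : Algebra B' C' := π.toRingHom.toAlgebra
    haveI : IsScalarTower A' B' C' := IsScalarTower.of_algebraMap_eq fun a => by
      show fA a = π (a ⊗ₜ[A] (1 : B))
      rw [Algebra.TensorProduct.lift_tmul, map_one, mul_one]
    haveI : IsScalarTower B B' C' := IsScalarTower.of_algebraMap_eq fun b => by
      show fB b = π ((1 : A') ⊗ₜ[A] b)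
      rw [Algebra.TensorProduct.lift_tmul, map_one, one_mul]
    haveI : IsScalarTower A B C' := IsScalarTower.of_algebraMap_eq fun a => (fB.commutes a).symm
    haveI : IsScalarTower A B' C' := IsScalarTower.of_algebraMap_eq fun a => (π.commutes a).symm
    haveI hBC' : Algebra.IsPushout B C B' C' :=
      (Algebra.IsPushout.comp_iff A B A' B' (T := C) (T' := C')).1 hpo
    letI : Module B' N' := Module.compHom N' (algebraMap B' C')
    haveI : IsScalarTower B' C' N' := IsScalarTower.of_algebraMap_smul fun _ _ => rfl
    letI : Module B N' := Module.compHom N' (algebraMap B C)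
    haveI : IsScalarTower B C N' := IsScalarTower.of_algebraMap_smul fun _ _ => rfl
    haveI : IsScalarTower B B' N' := IsScalarTower.of_algebraMap_smul fun b n => by
      show algebraMap B' C' (algebraMap B B' b) • n = algebraMap B C b • n
      rw [← IsScalarTower.algebraMap_apply, IsScalarTower.algebraMap_apply B C C', algebraMap_smul]
    haveI : IsScalarTower A' B' N' := IsScalarTower.of_algebraMap_smul fun a n => by
      show algebraMap B' C' (algebraMap A' B' a) • n = _
      rw [← IsScalarTower.algebraMap_apply, algebraMap_smul]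
    have hs : Function.Surjective (algebraMap B' C') := fun c => by
      induction c using hBC'.symm.out.inductionOn with
      | zero => exact ⟨0, map_zero _⟩
      | tmul c =>
        obtain ⟨b, rfl⟩ := hBC c
        exact ⟨algebraMap B B' b, by rw [← IsScalarTower.algebraMap_apply, IsScalarTower.algebraMap_apply B C C']; rfl⟩
      | smul x c hc =>
        obtain ⟨y, rfl⟩ := hc
        exact ⟨x * y, by rw [map_mul, Algebra.smul_def]⟩
      | add x y hx hy =>
        obtain ⟨x, rfl⟩ := hx
        obtain ⟨y, rfl⟩ := hy
        exact ⟨x + y, map_add _ _ _⟩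
    haveI : (R.comap (algebraMap B' C')).LiesOver t' := ⟨by
      rw [Ideal.under_def, Ideal.comap_comap, ← IsScalarTower.algebraMap_eq]
      exact hRt.over⟩
    refine ⟨A', B', N', inferInstance, inferInstance, inferInstance, inferInstance, inferInstance, inferInstance,
      inferInstance, inferInstance, inferInstance, inferInstance, inferInstance, inferInstance, inferInstance, inferInstance,
      f.restrictScalars B, t', t, inferInstance, inferInstance, R.comap (algebraMap B' C'), inferInstance,
      ⟨inferInstance, isBaseChange_of_isPushout (A := A) (A' := A') f hf, hle, htp, inferInstance,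
        (assoc_iff_of_surjective hs (LinearEquiv.refl B' N') t' _ R rfl).2 hass, fun P' _ hP' hP't => ?_⟩, hQ⟩
    have hker : RingHom.ker (algebraMap B' C') ≤ P' := le_trans (Ideal.comap_mono bot_le) hP'
    haveI := Ideal.map_isPrime_of_surjective hs hker
    have hc : (P'.map (algebraMap B' C')).comap (algebraMap B' C') = P' := by
      rw [Ideal.comap_map_of_surjective _ hs, ← RingHom.ker_eq_comap_bot, sup_eq_left.2 hker]
    refine hno (P'.map (algebraMap B' C')) ?_ ⟨?_⟩
    · rw [← Ideal.map_comap_of_surjective _ hs R]
      exact Ideal.map_mono hP'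
    · rw [Ideal.under_def, IsScalarTower.algebraMap_eq A' B' C', ← Ideal.comap_comap, hc]
      exact hP't.over
  · rintro ⟨A', B', N', _, _, _, _, _, _, _, _, _, _, _, _, _, _, f, t', t, _, _, P, _, ⟨hpo, hf, hle, htp, hPt, hass, hno⟩, hQ⟩
    haveI := hPt
    haveI : Algebra.IsPushout A B A' B' := hpo
    let C' := B' ⊗[B] C
    haveI hBB' : ∀ b : B, algebraMap B' C' (algebraMap B B' b) = algebraMap C C' (algebraMap B C b) := fun b =>
      (IsScalarTower.algebraMap_apply B B' C' b).symm.trans (IsScalarTower.algebraMap_apply B C C' b)
    haveI : IsScalarTower A C C' := IsScalarTower.of_algebraMap_eq fun a => by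
      show algebraMap B' C' (algebraMap A B' a) = algebraMap C C' (algebraMap A C a)
      rw [IsScalarTower.algebraMap_apply A B B', hBB', ← IsScalarTower.algebraMap_apply A B C]
    haveI : IsScalarTower A A' C' := IsScalarTower.of_algebraMap_eq fun a => by
      show algebraMap B' C' (algebraMap A B' a) = algebraMap B' C' (algebraMap A' B' (algebraMap A A' a))
      rw [← IsScalarTower.algebraMap_apply A A' B']
    haveI hBC' : Algebra.IsPushout B C B' C' := Algebra.IsPushout.symm inferInstance
    haveI : IsScalarTower A B C' := IsScalarTower.of_algebraMap_eq fun a => by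
      rw [IsScalarTower.algebraMap_apply B C C', ← IsScalarTower.algebraMap_apply A B C,
        ← IsScalarTower.algebraMap_apply A C C']
    have hpo' : Algebra.IsPushout A C A' C' :=
      (Algebra.IsPushout.comp_iff A B A' B' (T := C) (T' := C')).2 hBC'
    let N₁ := C' ⊗[C] N
    let g : N →ₗ[C] N₁ := TensorProduct.mk C C' N 1
    have hg : IsBaseChange C' g := TensorProduct.isBaseChange C N C'
    haveI : IsScalarTower B C N₁ := IsScalarTower.of_algebraMap_smul fun b n => by
      induction n using TensorProduct.induction_on with
      | zero => simp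
      | add x y hx hy => rw [smul_add, smul_add, hx, hy]
      | tmul x y => rw [TensorProduct.smul_tmul', TensorProduct.smul_tmul', algebraMap_smul]
    have hg' : IsBaseChange B' (g.restrictScalars B) := isBaseChange_of_isPushout (A := A) (A' := A') g hg
    let e : N' ≃ₗ[B'] N₁ := hf.equiv.symm.trans hg'.equiv
    have hs : Function.Surjective (algebraMap B' C') := fun c => by
      induction c using hBC'.symm.out.inductionOn with
      | zero => exact ⟨0, map_zero _⟩
      | tmul c =>
        obtain ⟨b, rfl⟩ := hBC c
        exact ⟨algebraMap B B' b, (hBB' b).trans rfl⟩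
      | smul x c hc =>
        obtain ⟨y, rfl⟩ := hc
        exact ⟨x * y, by rw [map_mul, Algebra.smul_def]⟩
      | add x y hx hy =>
        obtain ⟨x, rfl⟩ := hx
        obtain ⟨y, rfl⟩ := hy
        exact ⟨x + y, map_add _ _ _⟩
    have hker : RingHom.ker (algebraMap B' C') ≤ P := by
      obtain ⟨-, x, hx⟩ := (Lib.FlatCA.FibreAss.assoc_iff N' t' P).1 hass
      intro b hb
      rw [hx]
      refine Ideal.le_radical ?_
      rw [Submodule.mem_colon_singleton, Submodule.mem_bot]
      have h0 : ∀ n : N', b • n = 0 := fun n => e.injective <| by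
        rw [map_smul, map_zero, ← algebraMap_smul C' b (e n), RingHom.mem_ker.1 hb, zero_smul]
      letI : Module A' N' := Module.compHom N' (algebraMap A' B')
      haveI : IsScalarTower A' B' N' := IsScalarTower.of_algebraMap_smul fun _ _ => rfl
      apply (Lib.FlatCA.FiberMod.fiberModEquiv t' B' N').injective
      rw [map_smul, map_zero, Lib.FlatCA.FiberMod.smul_eq_rTensor,
        show (LinearMap.lsmul B' N' b).restrictScalars A' = 0 from LinearMap.ext h0, LinearMap.rTensor_zero,
        LinearMap.zero_apply]
    haveI hR : (P.map (algebraMap B' C')).IsPrime := Ideal.map_isPrime_of_surjective hs hker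
    have hc : (P.map (algebraMap B' C')).comap (algebraMap B' C') = P := by
      rw [Ideal.comap_map_of_surjective _ hs, ← RingHom.ker_eq_comap_bot, sup_eq_left.2 hker]
    haveI : (P.map (algebraMap B' C')).LiesOver t' := ⟨by
      rw [Ideal.under_def, IsScalarTower.algebraMap_eq A' B' C', ← Ideal.comap_comap, hc]
      exact hPt.over⟩
    refine ⟨A', C', N₁, inferInstance, inferInstance, inferInstance, inferInstance, inferInstance, inferInstance,
      inferInstance, inferInstance, inferInstance, inferInstance, inferInstance, inferInstance, inferInstance, inferInstance,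
      g, t', t, inferInstance, inferInstance, P.map (algebraMap B' C'), inferInstance,
      ⟨hpo', hg, hle, htp, inferInstance, (assoc_iff_of_surjective hs e t' P _ hc).1 hass, fun R _ hR' hRt => ?_⟩, hQ⟩
    refine hno (R.comap (algebraMap B' C')) (hc.ge.trans (Ideal.comap_mono hR')) ⟨?_⟩
    rw [Ideal.under_def, Ideal.comap_comap, ← IsScalarTower.algebraMap_eq]
    exact hRt.over

/-- For affine finite type schemes over Spec A: purity and universal purity along a fibre of a finite
module are unchanged when the module is pushed forward along a closed immersion Spec C → Spec B (a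
surjective algebra map B → C). -/
theorem result {A B C : Type u} [CommRing A] [CommRing B] [CommRing C] [Algebra A B] [Algebra B C] [Algebra A C] [IsScalarTower A B C] [Algebra.FiniteType A B] (hBC : Function.Surjective (algebraMap B C)) (N : Type u) [AddCommGroup N] [Module C N] [Module B N] [IsScalarTower B C N] [Module.Finite C N] (p : Ideal A) [p.IsPrime] : (FlatCA.IsPureAlong A C N p ↔ FlatCA.IsPureAlong A B N p) ∧ (FlatCA.IsUnivPureAlong A C N p ↔ FlatCA.IsUnivPureAlong A B N p) := by
  have h1 := transfer hBC (N := N) p (fun _ _ _ _ => True)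
  have h2 := transfer hBC (N := N) p (fun A' _ _ t => ∃ _ : t.IsPrime, FlatCA.IsEtaleNhd A A' p t)
  constructor <;> constructor
  · intro h A' B' N' _ _ _ _ _ _ _ _ _ _ _ _ _ _ f t' t _ _ P _ het himp
    obtain ⟨A2, B2, N2, _, _, _, _, _, _, _, _, _, _, _, _, _, _, g, T', T, _, _, P2, _, himp2, _, het2⟩ :=
      h2.2 ⟨A', B', N', inferInstance, inferInstance, inferInstance, inferInstance, inferInstance, inferInstance,
        inferInstance, inferInstance, inferInstance, inferInstance, inferInstance, inferInstance, inferInstance, inferInstance,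
        f, t', t, inferInstance, inferInstance, P, inferInstance, himp, inferInstance, het⟩
    exact h A2 B2 N2 g T' T P2 het2 himp2
  · intro h A' B' N' _ _ _ _ _ _ _ _ _ _ _ _ _ _ f t' t _ _ P _ het himp
    obtain ⟨A2, B2, N2, _, _, _, _, _, _, _, _, _, _, _, _, _, _, g, T', T, _, _, P2, _, himp2, _, het2⟩ :=
      h2.1 ⟨A', B', N', inferInstance, inferInstance, inferInstance, inferInstance, inferInstance, inferInstance,
        inferInstance, inferInstance, inferInstance, inferInstance, inferInstance, inferInstance, inferInstance, inferInstance,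
        f, t', t, inferInstance, inferInstance, P, inferInstance, himp, inferInstance, het⟩
    exact h A2 B2 N2 g T' T P2 het2 himp2
  · intro h A' B' N' _ _ _ _ _ _ _ _ _ _ _ _ _ _ f t' t _ _ P _ himp
    obtain ⟨A2, B2, N2, _, _, _, _, _, _, _, _, _, _, _, _, _, _, g, T', T, _, _, P2, _, himp2, -⟩ :=
      h1.2 ⟨A', B', N', inferInstance, inferInstance, inferInstance, inferInstance, inferInstance, inferInstance,
        inferInstance, inferInstance, inferInstance, inferInstance, inferInstance, inferInstance, inferInstance, inferInstance,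
        f, t', t, inferInstance, inferInstance, P, inferInstance, himp, trivial⟩
    exact h A2 B2 N2 g T' T P2 himp2
  · intro h A' B' N' _ _ _ _ _ _ _ _ _ _ _ _ _ _ f t' t _ _ P _ himp
    obtain ⟨A2, B2, N2, _, _, _, _, _, _, _, _, _, _, _, _, _, _, g, T', T, _, _, P2, _, himp2, -⟩ :=
      h1.1 ⟨A', B', N', inferInstance, inferInstance, inferInstance, inferInstance, inferInstance, inferInstance,
        inferInstance, inferInstance, inferInstance, inferInstance, inferInstance, inferInstance, inferInstance, inferInstance,
        f, t', t, inferInstance, inferInstance, P, inferInstance, himp, trivial⟩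
    exact h A2 B2 N2 g T' T P2 himp2

end Groth.Agent.S8999
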