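import Groth.Statements.S9000
-- import your own Groth.Agent.* helpers here
import Groth.Agent.Lib.FlatCA.ImpurityMove
import Groth.Agent.Lib.Henselian.Henselization

set_option autoImplicit false
universe u
open FlatMor

namespace Groth.Agent.S9000

open TensorProduct

open IsLocalRing in
/-- For Spec B → Spec A of finite type, a finite B-module N and a prime p of A, an impurity of N above p
over an elementary etale neighbourhood of (A, p) yields an impurity of N above p over the
henselization of the local ring of A at p, based at its closed point. (The other implications of the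
published equivalence are separate results: from the henselization to an elementary etale
neighbourhood, and between elementary etale neighbourhoods and base rings quasi-finite at the
point.) -/
theorem result {A B : Type u} [CommRing A] [CommRing B] [Algebra A B] [Algebra.FiniteType A B] (N : Type u) [AddCommGroup N] [Module B N] [Module.Finite B N] (p : Ideal A) [p.IsPrime] (h : FlatCA.HasImpurity A B N p (fun A' _ _ t => ∃ _ : t.IsPrime, FlatCA.IsEtaleNhd A A' p t)) : FlatCA.HasImpurity A B N p (fun A' _ _ t => ∃ (_ : IsLocalRing A') (_ : Algebra (Localization.AtPrime p) A') (_ : IsScalarTower A (Localization.AtPrime p) A') (_ : IsLocalHom (algebraMap (Localization.AtPrime p) A')), Hensel.IsHenselization (Localization.AtPrime p) A' ∧ t = maximalIdeal A') := by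
  classical
  obtain ⟨A', B', N', _, _, _, _, _, _, _, _, _, _, _, _, _, _, f, t', t, _, _, P, _, himp, _, het, hl, hbij⟩ := h
  haveI := het
  haveI := hl
  let Ap := Localization.AtPrime p
  let κ := IsLocalRing.ResidueField Ap
  let H := Lib.Henselian.Henselization.Henselization Ap
  letI : Algebra A H := ((algebraMap Ap H).comp (algebraMap A Ap)).toAlgebra
  haveI : IsScalarTower A Ap H := .of_algebraMap_eq' rfl
  haveI : Module.Flat A Ap := IsLocalization.flat Ap p.primeCompl
  haveI : Module.Flat Ap H := inferInstance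
  haveI : Module.Flat A H := Module.Flat.trans A Ap H
  let ek : p.ResidueField ≃ₐ[A] t.ResidueField :=
    AlgEquiv.ofBijective (Ideal.ResidueField.mapₐ p t (Algebra.ofId A A') hl.over) hbij
  let ε : A' →ₐ[A] p.ResidueField := ek.symm.toAlgHom.comp (IsScalarTower.toAlgHom A A' t.ResidueField)
  have hε : ∀ a, ε a = 0 ↔ a ∈ t := fun a => by
    show ek.symm (algebraMap A' t.ResidueField a) = 0 ↔ _
    rw [map_eq_zero_iff _ ek.symm.injective, Ideal.algebraMap_residueField_eq_zero]
  let γ : Ap ⊗[A] A' →ₐ[Ap] κ := Algebra.TensorProduct.lift (Algebra.ofId Ap κ) ε fun _ _ => Commute.all _ _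
  obtain ⟨φ', hφ', -⟩ := Lib.Henselian.Pointed.Lim.existsUnique_map (A := Ap) (Ω := κ) (Ap ⊗[A] A') γ
  let φ : A' →ₐ[A] H := (φ'.restrictScalars A).comp Algebra.TensorProduct.includeRight
  have hsurj := Lib.Henselian.Henselization.α_surjective
    (Lib.Henselian.Henselization.algebraMap_residueField_surjective Ap)
  let m := IsLocalRing.maximalIdeal H
  have hm : RingHom.ker (Lib.Henselian.Pointed.Lim.α Ap κ : H →+* κ) = m := IsLocalRing.ker_eq_maximalIdeal _ hsurj
  have hφm : m.comap φ.toRingHom = t := by
    ext a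
    rw [Ideal.mem_comap, ← hm, RingHom.mem_ker, ← hε]
    show Lib.Henselian.Pointed.Lim.α Ap κ (φ' ((1 : Ap) ⊗ₜ a)) = 0 ↔ _
    rw [show Lib.Henselian.Pointed.Lim.α Ap κ (φ' ((1 : Ap) ⊗ₜ a)) = γ ((1 : Ap) ⊗ₜ a) from AlgHom.congr_fun hφ' _]
    show Algebra.TensorProduct.lift (Algebra.ofId Ap κ) ε _ ((1 : Ap) ⊗ₜ a) = 0 ↔ _
    rw [Algebra.TensorProduct.lift_tmul, map_one, one_mul]
  let σ : H ⊗[A] A' →ₐ[H] H := Algebra.TensorProduct.lift (Algebra.ofId H H) φ fun _ _ => Commute.all _ _
  have hσr : ∀ a : A', σ ((1 : H) ⊗ₜ a) = φ a := fun a => by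
    show Algebra.TensorProduct.lift (Algebra.ofId H H) φ _ ((1 : H) ⊗ₜ a) = _
    rw [Algebra.TensorProduct.lift_tmul, map_one, one_mul]
  have hσs : Function.Surjective σ.toRingHom := fun x => ⟨algebraMap H _ x, σ.commutes x⟩
  letI : Algebra A' (H ⊗[A] A') := Algebra.TensorProduct.rightAlgebra
  haveI : Algebra.IsPushout A H A' (H ⊗[A] A') := inferInstance
  haveI : Algebra.IsPushout A A' H (H ⊗[A] A') := Algebra.IsPushout.symm inferInstance
  haveI : Module.Flat A' (H ⊗[A] A') :=
    Module.Flat.isBaseChange A A' H (H ⊗[A] A') (Algebra.IsPushout.out (R := A) (S := A') (R' := H))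
  let T : Ideal (H ⊗[A] A') := m.comap σ.toRingHom
  haveI : T.LiesOver t := ⟨by
    rw [Ideal.under_def, Ideal.comap_comap, ← hφm]
    exact congrArg (fun g => m.comap g) (RingHom.ext fun a => (hσr a).symm)⟩
  obtain ⟨T', hle, hT', hT'l⟩ := T.exists_ideal_le_liesOver_of_le (p := t') (q := t) himp.2.2.1
  haveI := hT'
  have hker : RingHom.ker σ.toRingHom ≤ T' := fun x hx => by
    obtain ⟨s, hs, hsx⟩ := Lib.Henselian.Pointed.exists_mul_mem_map (A := H) (Ω := H) Function.surjective_id σ hx
    rw [show RingHom.ker (algebraMap H H) = ⊥ from (RingHom.injective_iff_ker_eq_bot _).1 Function.injective_id,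
      Ideal.map_bot, Submodule.mem_bot] at hsx
    refine (hT'.mem_or_mem (hsx ▸ zero_mem _)).resolve_left fun hsT => ?_
    have h1 : σ s ∈ m := hle hsT
    rw [hs] at h1
    exact (IsLocalRing.maximalIdeal.isMaximal H).ne_top ((Ideal.eq_top_iff_one _).2 h1)
  let t'' := T'.map σ.toRingHom
  haveI : t''.IsPrime := Ideal.map_isPrime_of_surjective hσs hker
  letI : Algebra A' H := φ.toRingHom.toAlgebra
  haveI : IsScalarTower A A' H := IsScalarTower.of_algebraMap_eq (R := A) (S := A') (A := H) fun a => (φ.commutes a).symm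
  haveI : t''.LiesOver t' := ⟨by
    rw [hT'l.over, Ideal.under_def, Ideal.under_def]
    conv_lhs => rw [← sup_eq_left.2 hker, RingHom.ker_eq_comap_bot, ← Ideal.comap_map_of_surjective _ hσs,
      Ideal.comap_comap]
    exact congrArg (fun g => t''.comap g) (RingHom.ext hσr)⟩
  haveI : m.LiesOver t := ⟨hφm.symm⟩
  have hle' : t'' ≤ m := (Ideal.map_mono hle).trans Ideal.map_comap_le
  exact Lib.FlatCA.ImpurityMove.up himp H t'' m hle' _
    ⟨inferInstance, inferInstance, inferInstance, inferInstance,
      Lib.Henselian.Henselization.isHenselization Ap, rfl⟩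

end Groth.Agent.S9000
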