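import Groth.Statements.S9001
import Groth.Agent.H80.MLSummand
import Mathlib

set_option autoImplicit false
set_option backward.isDefEq.respectTransparency false
universe u
open FlatMor

namespace Groth.Agent.S9001

open IsLocalRing TensorProduct in
/-- Over a henselian local ring R with maximal ideal m, for an R-algebra S and an S-module N which is
countably generated and Mittag-Leffler as an R-module, every associated prime q of the S-module N
⊗_R M (M any R-module) satisfies q + mS ≠ S. (Associated primes are taken here in the sense of
primes equal to the radical of the annihilator of some element, a larger set than the annihilators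
of elements used in the published statement; the published argument goes through once the chosen
element of q is replaced by a suitable power of it, so the row states this slightly stronger form.) -/
theorem result {R S : Type u} [CommRing R] [HenselianLocalRing R] [CommRing S] [Algebra R S] (N : Type u) [AddCommGroup N] [Module S N] [Module R N] [IsScalarTower R S N] (hcg : CAlg.IsCountablyGenerated R N) (hML : CAlg.IsMittagLeffler R N) (M : Type u) [AddCommGroup M] [Module R M] (q : Ideal S) [q.IsPrime] (hq : q ∈ associatedPrimes S (N ⊗[R] M)) : q ⊔ (maximalIdeal R).map (algebraMap R S) ≠ ⊤ := by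
  classical
  intro htop
  obtain ⟨f, hf, g, hg, hfg⟩ := Submodule.mem_sup.mp ((Ideal.eq_top_iff_one _).mp htop)
  obtain ⟨-, z, hz⟩ := (hq : IsAssociatedPrime q (N ⊗[R] M))
  have hfz : f ∈ (Submodule.colon (⊥ : Submodule S (N ⊗[R] M)) {z}).radical := hz ▸ hf
  obtain ⟨k, hk⟩ := hfz
  rw [Submodule.mem_colon_singleton, Submodule.mem_bot] at hk
  set g' : S := 1 - f ^ k with hg'
  have hg'm : g' ∈ (maximalIdeal R).map (algebraMap R S) := by
    have h1 : f = 1 - g := by rw [← hfg]; ring
    obtain ⟨d, hd⟩ := sub_dvd_pow_sub_pow (1 : S) f k
    rw [one_pow] at hd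
    rw [hg', hd, show (1 : S) - f = g by rw [h1]; ring]
    exact Ideal.mul_mem_right _ _ hg
  let G : N →ₗ[R] N := Algebra.lsmul R R N g'
  have hGm : ∀ s : S, s ∈ (maximalIdeal R).map (algebraMap R S) → ∀ y : N, s • y ∈ (maximalIdeal R) • (⊤ : Submodule R N) := by
    intro s hs
    induction hs using Submodule.span_induction with
    | mem a ha =>
      obtain ⟨r, hr, rfl⟩ := ha
      intro y
      rw [algebraMap_smul]
      exact Submodule.smul_mem_smul hr trivial
    | zero => intro y; simp
    | add a b _ _ ha hb => intro y; rw [add_smul]; exact add_mem (ha y) (hb y)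
    | smul c a _ ha => intro y; rw [smul_eq_mul, mul_comm, mul_smul]; exact ha (c • y)
  have hGz : LinearMap.rTensor M G z = z := by
    have h1 : ∀ (s : S) (w : N ⊗[R] M), LinearMap.rTensor M (Algebra.lsmul R R N s : N →ₗ[R] N) w = s • w := by
      intro s w
      induction w using TensorProduct.induction_on with
      | zero => simp
      | tmul a b => rw [LinearMap.rTensor_tmul, TensorProduct.smul_tmul']; rfl
      | add a b ha hb => rw [map_add, ha, hb, smul_add]
    rw [h1, hg', sub_smul, one_smul, hk, sub_zero]
  obtain ⟨S', hS'⟩ := TensorProduct.exists_finset z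
  obtain ⟨p, hp, hpf, hfp⟩ := Groth.Agent.H80.MLSummand.exists_projector_comp hcg hML
    (Fintype.linearCombination R (fun i : S' => i.1.1))
  have hpz : LinearMap.rTensor M p z = z := by
    rw [hS', map_sum]
    refine Finset.sum_congr rfl fun i hi => ?_
    rw [LinearMap.rTensor_tmul]
    congr 1
    simpa [Fintype.linearCombination_apply, Pi.single_apply] using
      LinearMap.congr_fun hpf (Pi.single (⟨i, hi⟩ : S') 1)
  let P := LinearMap.range p
  haveI := hfp
  let π : N →ₗ[R] P := p.rangeRestrict
  let h : P →ₗ[R] P := π ∘ₗ G ∘ₗ P.subtype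
  have hh : ∀ y, h y ∈ (maximalIdeal R) • (⊤ : Submodule R P) := fun y => by
    have h1 := Submodule.mem_map_of_mem (f := π) (hGm g' hg'm (y : N))
    rw [Submodule.map_smul''] at h1
    exact Submodule.smul_mono le_rfl le_top h1
  have hsurj : Function.Surjective (1 - h : Module.End R P) := by
    rw [← LinearMap.range_eq_top, eq_top_iff]
    refine Submodule.le_of_le_smul_of_le_jacobson_bot Module.Finite.fg_top
      (IsLocalRing.maximalIdeal_le_jacobson _) ?_
    intro y _
    exact Submodule.mem_sup.mpr ⟨(1 - h : Module.End R P) y, ⟨y, rfl⟩, h y, hh y, by simp⟩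
  have hinj : Function.Injective (1 - h : Module.End R P) := OrzechProperty.injective_of_surjective_endomorphism _ hsurj
  set e := LinearEquiv.ofBijective (1 - h : Module.End R P) ⟨hinj, hsurj⟩ with he
  set z' := LinearMap.rTensor M π z with hz'
  have hz'z : LinearMap.rTensor M P.subtype z' = z := by
    rw [hz', ← LinearMap.comp_apply, ← LinearMap.rTensor_comp]; exact hpz
  have hhz : LinearMap.rTensor M h z' = z' := by
    rw [LinearMap.rTensor_comp, LinearMap.rTensor_comp, LinearMap.comp_apply, LinearMap.comp_apply, hz'z, hGz]
  have hzero : z' = 0 := by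
    refine (LinearEquiv.rTensor M e).injective ?_
    rw [map_zero]
    show LinearMap.rTensor M ((1 - h : Module.End R P) : P →ₗ[R] P) z' = 0
    rw [LinearMap.rTensor_sub, LinearMap.sub_apply, hhz, show ((1 : Module.End R P) : P →ₗ[R] P) = LinearMap.id from rfl,
      LinearMap.rTensor_id, LinearMap.id_apply, sub_self]
  have hz0 : z = 0 := by rw [← hz'z, hzero, map_zero]
  refine (‹q.IsPrime›).ne_top ?_
  rw [hz, hz0]
  simp

end Groth.Agent.S9001
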