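import Groth.Statements.S9002
import Groth.Agent.S1201
import Groth.Agent.Lib.RelAss.Affine
import Groth.Agent.H19.FlatLocus.Scheme
import Groth.Agent.Lib.FlatCA.FibreAss

set_option autoImplicit false
set_option linter.style.haveILetI false
universe u
open FlatMor

namespace Groth.Agent.S9002

open CategoryTheory CategoryTheory.Limits AlgebraicGeometry in
/-- Over the spectrum of a local ring, a finite type quasi-coherent module on a scheme locally of finite
type, all of whose relative associated points specialize into the closed fibre and which is flat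
over the base at every point of the closed fibre, is flat over the base. -/
theorem result {R : Type u} [CommRing R] [IsLocalRing R] {X : Scheme.{u}} (f : X ⟶ Spec (CommRingCat.of R)) [LocallyOfFiniteType f] (F : X.Modules) [Coh.IsQCoh F] (hF : CohB1.IsFT F) (h₁ : ∀ x ∈ MoreMor.relAss f F, ∃ x' : X, x ⤳ x' ∧ f.base x' = IsLocalRing.closedPoint R) (h₂ : ∀ x : X, f.base x = IsLocalRing.closedPoint R → FlatMod.IsFlatOverAt f F x) : FlatMod.IsFlatOver f F := by
  haveI : F.IsQuasicoherent := ‹Coh.IsQCoh F›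
  haveI : SheafOfModules.IsFiniteType (R := X.ringCatSheaf) F := hF
  intro z
  have hW := isAffineOpen_top (Spec (CommRingCat.of R))
  obtain ⟨V, hV, hzV, -⟩ := exists_isAffineOpen_mem_and_subset (U := (⊤ : X.Opens)) (x := z) trivial
  have e : V ≤ f ⁻¹ᵁ ⊤ := le_top
  let _ := (f.appLE ⊤ V e).hom.toAlgebra
  haveI : Algebra.FiniteType Γ(Spec (CommRingCat.of R), ⊤) Γ(X, V) := f.finiteType_appLE hW hV e
  letI : Module Γ(Spec (CommRingCat.of R), ⊤) Γ(F, V) := Module.compHom Γ(F, V) (f.appLE ⊤ V e).hom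
  haveI : IsScalarTower Γ(Spec (CommRingCat.of R), ⊤) Γ(X, V) Γ(F, V) :=
    IsScalarTower.of_algebraMap_smul fun _ _ => rfl
  haveI : Module.Finite Γ(X, V) Γ(F, V) := Lib.CohBasics.Affine.finite_sections hV
  haveI := Lib.RelAss.Affine.liesOver_primeIdealOf f hW hV e hzV
  refine (H19.FlatLocus.Scheme.isFlatOverAt_iff f F hW hV e hzV).2
    ((S1201.result Γ(F, V) (hW.primeIdealOf ⟨f z, e hzV⟩).asIdeal (hV.primeIdealOf ⟨z, hzV⟩).asIdeal).2
      fun q' hq' hle hlie hass => ?_)
  haveI := hlie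
  -- the prime is a relative associated point, hence it specializes into the closed fibre
  obtain ⟨y, hy, hyz, rfl⟩ := Lib.RelAss.Affine.exists_point f hW hV e (e hzV) q' hlie
  have hyA : y ∈ MoreMor.relAss f F := by
    refine (Lib.RelAss.Affine.mem_relAss_iff f hW hV e F hy).2 ?_
    have hp : (⟨f y, e hy⟩ : (⊤ : (Spec (CommRingCat.of R)).Opens)) = ⟨f z, e hzV⟩ := Subtype.ext hyz
    rw [hp]
    exact (Lib.FlatCA.FibreAss.assoc_iff Γ(F, V) _ _).1 hass
  obtain ⟨x', hyx', hx'⟩ := h₁ y hyA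
  obtain ⟨V', hV', hxV', -⟩ := exists_isAffineOpen_mem_and_subset (U := (⊤ : X.Opens)) (x := x') trivial
  have e' : V' ≤ f ⁻¹ᵁ ⊤ := le_top
  have hyV' : y ∈ V' := hyx'.mem_open V'.isOpen hxV'
  have hfl : FlatMod.IsFlatOverAt f F y := by
    let _ := (f.appLE ⊤ V' e').hom.toAlgebra
    haveI : Algebra.FiniteType Γ(Spec (CommRingCat.of R), ⊤) Γ(X, V') := f.finiteType_appLE hW hV' e'
    letI : Module Γ(Spec (CommRingCat.of R), ⊤) Γ(F, V') := Module.compHom Γ(F, V') (f.appLE ⊤ V' e').hom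
    haveI : IsScalarTower Γ(Spec (CommRingCat.of R), ⊤) Γ(X, V') Γ(F, V') :=
      IsScalarTower.of_algebraMap_smul fun _ _ => rfl
    exact (H19.FlatLocus.Scheme.isFlatOverAt_iff f F hW hV' e' hyV').2
      (Lib.RG.FlatStep.flat_of_le ((Lib.RelAss.Affine.specializes_iff hV' hyV' hxV').1 hyx')
        ((H19.FlatLocus.Scheme.isFlatOverAt_iff f F hW hV' e' hxV').1 (h₂ x' hx')))
  exact (H19.FlatLocus.Scheme.isFlatOverAt_iff f F hW hV e hy).1 hfl

end Groth.Agent.S9002
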