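import Groth.Statements.S9007
import Mathlib.AlgebraicGeometry.Morphisms.Proper

set_option autoImplicit false
universe u
open FlatMor

namespace Groth.Agent.S9007

open CategoryTheory CategoryTheory.Limits AlgebraicGeometry in
/-- For a morphism f of compactifications of X over a quasi-compact quasi-separated S whose source
contains X as a dense open, the preimage under f of the image of X in the target is the image of X
in the source. -/
theorem result {X S : Scheme.{u}} [CompactSpace S] [QuasiSeparatedSpace S] (p : X ⟶ S) [IsSeparated p] [QuasiCompact p] [LocallyOfFiniteType p] {Y Y' : Scheme.{u}} (j : X ⟶ Y) (q : Y ⟶ S) [IsOpenImmersion j] [IsProper q] (h : j ≫ q = p) (j' : X ⟶ Y') (q' : Y' ⟶ S) [IsOpenImmersion j'] [IsProper q'] (h' : j' ≫ q' = p) (f : Y' ⟶ Y) (hf : f ≫ q = q') (hfj : j' ≫ f = j) (hd : Dense (Set.range j'.base)) : f ⁻¹ᵁ j.opensRange = j'.opensRange := by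
  have : IsSeparated (f ≫ q) := by rw [hf]; infer_instance
  have : IsSeparated f := IsSeparated.of_comp f q
  let s : X ⟶ pullback f j := pullback.lift j' (𝟙 X) (by rw [hfj, Category.id_comp])
  have : IsClosedImmersion (s ≫ pullback.snd f j) := by
    rw [pullback.lift_snd]; infer_instance
  have : IsClosedImmersion s := IsClosedImmersion.of_comp s (pullback.snd f j)
  have hrange : Set.range (pullback.fst f j) = f ⁻¹' Set.range j := by
    exact IsOpenImmersion.range_pullbackFst j f
  have hdense : Dense (Set.range s) := by
    have e : j' = s ≫ pullback.fst f j := (pullback.lift_fst _ _ _).symm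
    have hfst : Topology.IsOpenEmbedding (pullback.fst f j) :=
      (pullback.fst f j).isOpenEmbedding
    have : Set.range s = pullback.fst f j ⁻¹' Set.range j' := by
      rw [e, Scheme.Hom.comp_base, TopCat.coe_comp, Set.range_comp,
        hfst.injective.preimage_image]
    rw [this]
    exact hd.preimage hfst.isOpenMap
  have hsurj : Set.range s = Set.univ := by
    rw [← hdense.closure_eq, s.isClosedEmbedding.isClosed_range.closure_eq]
  ext y
  show f y ∈ Set.range j ↔ y ∈ Set.range j'
  constructor
  · intro hy
    have hy' : y ∈ Set.range (pullback.fst f j) := by rw [hrange]; exact hy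
    obtain ⟨z, rfl⟩ := hy'
    obtain ⟨x, rfl⟩ := Set.range_eq_univ.mp hsurj z
    exact ⟨x, by rw [← Scheme.Hom.comp_apply, pullback.lift_fst]⟩
  · rintro ⟨x, rfl⟩
    exact ⟨x, by rw [← Scheme.Hom.comp_apply, hfj]⟩

end Groth.Agent.S9007
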