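import Groth.Statements.S9008
import Groth.Agent.Lib.FlatCA.Impurity

set_option autoImplicit false
universe u
open FlatMor

namespace Groth.Agent.S9008

/-- For Spec B → Spec A affine of finite type: a finite B-module is universally pure along the fibre
over a prime p of A exactly when every base change of it along a ring map A → A' is pure along the
fibre over every prime of A' above p. -/
theorem result {A B : Type u} [CommRing A] [CommRing B] [Algebra A B] [Algebra.FiniteType A B] (N : Type u) [AddCommGroup N] [Module B N] [Module.Finite B N] (p : Ideal A) [p.IsPrime] : FlatCA.IsUnivPureAlong A B N p ↔ ∀ (A' B' N' : Type u) [CommRing A'] [CommRing B'] [Algebra A A'] [Algebra B B'] [Algebra A' B'] [Algebra A B'] [IsScalarTower A B B'] [IsScalarTower A A' B'] [Algebra.IsPushout A B A' B'] [AddCommGroup N'] [Module B' N'] [Module B N'] [IsScalarTower B B' N'] (g : N →ₗ[B] N'), IsBaseChange B' g → ∀ (p' : Ideal A') [p'.IsPrime], p'.LiesOver p → FlatCA.IsPureAlong A' B' N' p' := by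
  constructor
  · intro h A' B' N' _ _ _ _ _ _ _ _ _ _ _ _ _ g hg p' _ hp' A'' B'' N'' _ _ _ _ _ _ _ _ _ _ _ _ _ _ f t' t _ _ P _ _ himp
    obtain ⟨hpo, hf, hle, htp, hPt, hass, hno⟩ := himp
    letI : Algebra A A'' := ((algebraMap A' A'').comp (algebraMap A A')).toAlgebra
    haveI : IsScalarTower A A' A'' := IsScalarTower.of_algebraMap_eq fun _ => rfl
    letI : Algebra B B'' := ((algebraMap B' B'').comp (algebraMap B B')).toAlgebra
    haveI : IsScalarTower B B' B'' := IsScalarTower.of_algebraMap_eq fun _ => rfl
    letI : Algebra A B'' := ((algebraMap B' B'').comp (algebraMap A B')).toAlgebra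
    haveI : IsScalarTower A B' B'' := IsScalarTower.of_algebraMap_eq fun _ => rfl
    haveI : IsScalarTower A B B'' := IsScalarTower.of_algebraMap_eq fun a => by
      show algebraMap B' B'' (algebraMap A B' a) = algebraMap B' B'' (algebraMap B B' (algebraMap A B a))
      rw [← IsScalarTower.algebraMap_apply A B B']
    haveI : IsScalarTower A A' B'' := IsScalarTower.of_algebraMap_eq fun a =>
      (congrArg (algebraMap B' B'') (IsScalarTower.algebraMap_apply A A' B' a)).trans
        (IsScalarTower.algebraMap_apply A' B' B'' _).symm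
    haveI : IsScalarTower A A'' B'' := IsScalarTower.of_algebraMap_eq fun a =>
      (IsScalarTower.algebraMap_apply A A' B'' a).trans (IsScalarTower.algebraMap_apply A' A'' B'' _)
    haveI : Algebra.IsPushout A A' B B' := Algebra.IsPushout.symm inferInstance
    have hpo' : Algebra.IsPushout A B A'' B'' :=
      ((Algebra.IsPushout.comp_iff A A' B B' (T := A'') (T' := B'')).2 hpo.symm).symm
    letI : Module B N'' := Module.compHom N'' (algebraMap B B'')
    haveI : IsScalarTower B B'' N'' := IsScalarTower.of_algebraMap_smul fun _ _ => rfl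
    haveI : IsScalarTower B B' N'' := IsScalarTower.of_algebraMap_smul fun b n => by
      show algebraMap B B' b • n = algebraMap B' B'' (algebraMap B B' b) • n
      exact (algebraMap_smul B'' (algebraMap B B' b) n).symm
    haveI : t.LiesOver p := Ideal.LiesOver.trans t p' p
    exact h A'' B'' N'' ((f.restrictScalars B).comp g) t' t P
      ⟨hpo', IsBaseChange.comp hg hf, hle, inferInstance, hPt, hass, hno⟩
  · intro h A' B' N' _ _ _ _ _ _ _ _ _ _ _ _ _ _ f t' t _ _ P _ himp
    obtain ⟨hpo, hf, hle, htp, hPt, hass, hno⟩ := himp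
    haveI := hpo
    refine h A' B' N' f hf t htp A' B' N' LinearMap.id t' t P ⟨inferInstance, ⟨rfl⟩, ?_⟩
      ⟨(inferInstance : Algebra.IsPushout A' A' B' B').symm, IsBaseChange.ofEquiv (LinearEquiv.refl B' N'), hle, ⟨rfl⟩, hPt, hass, hno⟩
    refine ⟨RingHom.injective _, fun z => ⟨z, ?_⟩⟩
    exact RingHom.congr_fun (Ideal.ResidueField.ringHom_ext (RingHom.ext fun a => AlgHom.commutes (Ideal.ResidueField.mapₐ t t (Algebra.ofId A' A') rfl) a) :
      (Ideal.ResidueField.mapₐ t t (Algebra.ofId A' A') rfl).toRingHom = RingHom.id _) z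

end Groth.Agent.S9008
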