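import Groth.Statements.S9009
import Groth.Agent.Lib.RG57.NonFlatDim

set_option autoImplicit false
universe u
open FlatMor

namespace Groth.Agent.S9009

open CategoryTheory CategoryTheory.Limits AlgebraicGeometry in
/-- For f : X → S locally of finite type and a finite type quasi-coherent O_X-module F, the non-flat
locus of F in every fibre has dimension less than n if and only if every point where F is not flat
over S has residue field of transcendence degree less than n over the residue field of its image.
(The non-flat locus of the fibre over s is taken with the subspace topology from X, which is that of
the fibre. The published statement adds that when these conditions hold they continue to hold after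
any base change S' → S; this row states only the equivalence.) -/
theorem result {X S : Scheme.{u}} (f : X ⟶ S) [LocallyOfFiniteType f] (F : X.Modules) [Coh.IsQCoh F] (hF : CohB1.IsFT F) (n : ℕ) : (∀ s : S, topologicalKrullDim {x : X // f.base x = s ∧ ¬ FlatMod.IsFlatOverAt f F x} < n) ↔ ∀ x : X, ¬ FlatMod.IsFlatOverAt f F x → ∀ [Algebra (S.residueField (f.base x)) (X.residueField x)], algebraMap (S.residueField (f.base x)) (X.residueField x) = (f.residueFieldMap x).hom → Algebra.trdeg (S.residueField (f.base x)) (X.residueField x) < n := by
  haveI : SheafOfModules.IsFiniteType (R := X.ringCatSheaf) F := hF
  refine (Lib.RG57.NonFlatDim.dim_lt_iff f F n).trans (forall_congr' fun x => imp_congr_right fun _ => ⟨fun h inst hinst => ?_, fun h => ?_⟩)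
  · obtain rfl : inst = (f.residueFieldMap x).hom.toAlgebra := Algebra.algebra_ext _ _ fun r => DFunLike.congr_fun hinst r
    exact h
  · exact @h (f.residueFieldMap x).hom.toAlgebra rfl

end Groth.Agent.S9009
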