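import Groth.Statements.S9011
import Groth.Agent.Lib.FlatCA.NzdFiber

set_option autoImplicit false
universe u
open FlatMor

namespace Groth.Agent.S9011

open IsLocalRing in
/-- For a local ring R with maximal ideal m, an R-algebra S with S/mS Noetherian and an S-module N with
N/mN finite over S/mS which is projective as an R-module, every element of S that is a
nonzerodivisor on N/mN acts R-universally injectively on N, and the map from N to its localization
at all such elements is R-universally injective. -/
theorem result {R S : Type u} [CommRing R] [IsLocalRing R] [CommRing S] [Algebra R S] (N : Type u) [AddCommGroup N] [Module S N] [Module R N] [IsScalarTower R S N] [IsNoetherianRing ((maximalIdeal R).Fiber S)] [Module.Finite ((maximalIdeal R).Fiber S) (FlatCA.fiberMod (maximalIdeal R) S N)] [Module.Projective R N] : (∀ s ∈ FlatCA.nzdFiber R S N, FlatCA.UnivInj R ((LinearMap.lsmul S N s).restrictScalars R)) ∧ FlatCA.UnivInj R ((LocalizedModule.mkLinearMap (FlatCA.nzdFiber R S N) N).restrictScalars R) := by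
  open Groth.Agent.Lib.FlatCA in
  refine ⟨fun s hs Q _ _ => (LinearMap.lTensor_inj_iff_rTensor_inj _ _).2
    (NzdFiber.univInj_lsmul_of_projective hs Q), fun Q _ _ => ?_⟩
  exact (LinearMap.lTensor_inj_iff_rTensor_inj _ _).2
    (NzdFiber.rTensor_mk_injective _ Q fun s hs => NzdFiber.univInj_lsmul_of_projective hs Q)


end Groth.Agent.S9011
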