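import Groth.Statements.S9015
import Groth.Agent.Lib.Flat55.FlatFunSheaf

set_option autoImplicit false
universe u
open FlatMor

namespace Groth.Agent.S9015

open CategoryTheory CategoryTheory.Limits AlgebraicGeometry Opposite in
/-- For f : X → S and a homomorphism u : F → G of quasi-coherent O_X-modules, the functor on schemes
over S with one point on T when the base change u_T on X_T = X ×_S T is surjective (an epimorphism
in the abelian category of O-modules) and empty otherwise, written as the subfunctor of the final
functor generated by that condition, satisfies the sheaf condition for the fpqc topology. -/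
theorem result {X S : Scheme.{u}} (f : X ⟶ S) {F G : X.Modules} [Coh.IsQCoh F] [Coh.IsQCoh G] (u : F ⟶ G) :
    Presheaf.IsSheaf (QuotSh.J Scheme.fpqcPrecoverage S)
      (FlatFun.genPSp S (fun T => Epi ((Scheme.Modules.pullback (pullback.fst f T.hom)).map u))) := by
  refine Groth.Agent.Lib.Flat55.FlatFunSheaf.isSheaf_genPSp _ (fun T T₀ g h => ?_) fun T ι Ti g hfl hsurj h => ?_
  · exact (Groth.Agent.Lib.Flat55.FlatFunSheaf.prop_map_map_iff f (Q := MorphismProperty.epimorphisms _) u g).1 (Functor.map_epi _ _)
  · exact Groth.Agent.Lib.Flat55.FlatFunSheaf.epi_of_pullback (fun i => PicF.XTmap f (g i))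
      (fun i => have := hfl i; Groth.Agent.Lib.Flat55.FlatFunSheaf.flat_XTmap f (g i)) (Groth.Agent.Lib.Flat55.FlatFunSheaf.exists_XTmap_eq f g hsurj) _
      fun i => (Groth.Agent.Lib.Flat55.FlatFunSheaf.prop_map_map_iff f (Q := MorphismProperty.epimorphisms _) u (g i)).2 (h i)

end Groth.Agent.S9015
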