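import Groth.Statements.S9021
import Groth.Agent.Lib.Flat55.FreeLocusRep
import Mathlib.AlgebraicGeometry.Sites.Fpqc
import Mathlib.CategoryTheory.Sites.SubcanonicalOver

set_option autoImplicit false
universe u
open FlatMor

namespace Groth.Agent.S9021

open CategoryTheory CategoryTheory.Limits AlgebraicGeometry Opposite in
/-- For f : X → S smooth with geometrically irreducible fibres, F a quasi-coherent O_X-module of finite
type and an integer p ≥ 0, the functor H_p on schemes over S (one point on T when, for every point t
of T, the base change F_T is free of rank p on some neighbourhood of the generic point of the fibre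
of X_T = X ×_S T over t; empty otherwise; written as the subfunctor of the final functor generated
by that condition) satisfies the sheaf condition for the fpqc topology. -/
theorem result {X S : Scheme.{u}} (f : X ⟶ S) [Smooth f] [GeometricallyIrreducible f] (F : X.Modules) [Coh.IsQCoh F]
    (hF : CohB1.IsFT F) (p : ℕ) :
    Presheaf.IsSheaf (QuotSh.J Scheme.fpqcPrecoverage S) (FlatFun.genPSp S (fun T => FlatFun.FreeAtGenericPts (PicF.XTproj f T) (FGA.ET f F T) p)) := by
  have : F.IsQuasicoherent := ‹Coh.IsQCoh F›
  obtain ⟨Z, -, ⟨r⟩, -⟩ :=
    Groth.Agent.Lib.Flat55.FreeLocusRep.exists_representableBy f (p := p) hF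
  have : Scheme.fpqcPrecoverage.toGrothendieck.Subcanonical :=
    inferInstanceAs Scheme.fpqcTopology.Subcanonical
  have : (QuotSh.J Scheme.fpqcPrecoverage S).Subcanonical :=
    inferInstanceAs ((Scheme.fpqcPrecoverage.toGrothendieck.over S).Subcanonical)
  let e : uliftYoneda.{u + 1}.obj Z ≅ FlatFun.genPSp S
      (fun T => FlatFun.FreeAtGenericPts (PicF.XTproj f T) (FGA.ET f F T) p) :=
    NatIso.ofComponents (fun T => (Equiv.ulift.trans r.homEquiv).toIso) (fun {T T'} g => by
      ext x
      exact Subsingleton.elim (α := (FlatFun.genPSp S _).obj T') _ _)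
  exact (Presheaf.isSheaf_of_iso_iff e).1
    (((QuotSh.J Scheme.fpqcPrecoverage S).uliftYoneda.{u + 1}.obj Z).property)

end Groth.Agent.S9021
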