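import Groth.Statements.S9022
import Groth.Agent.Lib.Flat55.FreeLocusRep
import Groth.Agent.Lib.Flat55.FlatFunLimit
import Mathlib.AlgebraicGeometry.AffineTransitionLimit

set_option autoImplicit false
universe u
open FlatMor

namespace Groth.Agent.S9022

open CategoryTheory CategoryTheory.Limits AlgebraicGeometry Opposite in
/-- For f : X → S smooth with geometrically irreducible fibres, F a quasi-coherent O_X-module of finite
presentation and p ≥ 0, the functor H_p on schemes over S (one point on T when F_T is free of rank p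
near the generic point of every fibre of X ×_S T → T, empty otherwise; the subfunctor of the final
functor generated by that condition) is limit preserving. -/
theorem result {X S : Scheme.{u}} (f : X ⟶ S) [Smooth f] [GeometricallyIrreducible f] (F : X.Modules) [Coh.IsQCoh F]
    (hF : CohB1.IsFP F) (p : ℕ) :
    AlgSp.IsLimitPreserving (FlatFun.genPSp S (fun T => FlatFun.FreeAtGenericPts (PicF.XTproj f T) (FGA.ET f F T) p)) := by
  have : F.IsQuasicoherent := ‹Coh.IsQCoh F›
  have hFT : CohB1.IsFT F := by
    have : SheafOfModules.IsFinitePresentation (R := X.ringCatSheaf) F := hF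
    infer_instance
  obtain ⟨Z, -, hiff, hfp⟩ := Groth.Agent.Lib.Flat55.FreeLocusRep.exists_rep f (p := p) hFT
  obtain ⟨hlfp, -, -⟩ := hfp hF
  refine Groth.Agent.Lib.Flat55.FlatFunLimit.isLimitPreserving_genPSp _
    (fun _ _ g h => Groth.Agent.Lib.Flat55.GenericPtFibre.cond_of_hom f F p g h) ?_
  intro I _ _ D c hc hD hT h
  obtain ⟨a⟩ := (hiff c.pt).1 h
  have hDaff : ∀ i, IsAffine ((D ⋙ Over.forget S).obj i) := hD
  let t : D ⋙ Over.forget S ⟶ (Functor.const I).obj S :=
    { app := fun i => (D.obj i).hom
      naturality := fun i j g => by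
        show (D.map g).left ≫ (D.obj j).hom = (D.obj i).hom ≫ 𝟙 S
        rw [Over.w, Category.comp_id] }
  obtain ⟨i, g, -, hg⟩ := Scheme.exists_π_app_comp_eq_of_locallyOfFinitePresentation
    (D := D ⋙ Over.forget S) (t := t) (f := Z.hom) (c := (Over.forget S).mapCone c) (hc := hc)
    (a := a.left) (by
      ext i
      show (c.π.app i).left ≫ (D.obj i).hom = a.left ≫ Z.hom
      rw [Over.w, Over.w]
      rfl)
  exact ⟨i, (hiff _).2 ⟨Over.homMk g hg⟩⟩

end Groth.Agent.S9022
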