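import Groth.Statements.S9023
import Groth.Agent.Lib.Flat55.FlatFunSheaf
import Groth.Agent.Lib.Flat55.ResTrdegBC

set_option autoImplicit false
universe u
open FlatMor

namespace Groth.Agent.S9023

open CategoryTheory CategoryTheory.Limits AlgebraicGeometry Opposite in
/-- For f : X → S locally of finite type, F a quasi-coherent O_X-module of finite type and n ≥ 0, the
functor F_n on schemes over S (one point on T when the base change F_T on X_T = X ×_S T is flat over
T in dimensions ≥ n, that is every point of X_T at which F_T is not flat over T has residue field of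
transcendence degree less than n over the residue field of its image in T; empty otherwise; written
as the subfunctor of the final functor generated by that condition) satisfies the sheaf condition
for the fpqc topology. -/
theorem result {X S : Scheme.{u}} (f : X ⟶ S) [LocallyOfFiniteType f] (F : X.Modules) [Coh.IsQCoh F] (hF : CohB1.IsFT F)
    (n : ℕ) :
    Presheaf.IsSheaf (QuotSh.J Scheme.fpqcPrecoverage S)
      (FlatFun.genPSp S (fun T => FlatFun.DimFibresLT n (PicF.XTproj f T)
        {x | ¬ FlatMod.IsFlatOverAt (PicF.XTproj f T) (FGA.ET f F T) x})) := by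
  refine Groth.Agent.Lib.Flat55.FlatFunSheaf.isSheaf_genPSp _ (fun T T₀ g h x' hx' => ?_)
    fun T ι Ti g hfl hsurj h x hx => ?_
  · have sq := Groth.Agent.Lib.Flat55.FlatFunSheaf.isPullback_XTmap f g
    have hx : ¬ FlatMod.IsFlatOverAt (PicF.XTproj f T₀) (FGA.ET f F T₀) (PicF.XTmap f g x') := fun hx =>
      hx' (Groth.Agent.Lib.Flat55.FlatOverAt.of_iso _ (FGA.ETiso f F g) x'
        (Groth.Agent.Lib.Flat55.FlatOverAt.isFlatOverAt_baseChange _ _ _ _ sq _ x' hx))
    exact (Groth.Agent.Lib.Flat55.ResTrdegBC.trdegAt_le sq x').trans_lt (h _ hx)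
  · obtain ⟨i, t', ht⟩ := hsurj (PicF.XTproj f T x)
    have := hfl i
    obtain ⟨x', hx', ht', hle⟩ := Groth.Agent.Lib.Flat55.ResTrdegBC.exists_trdegAt_ge
      (Groth.Agent.Lib.Flat55.FlatFunSheaf.isPullback_XTmap f (g i)) x t' ht.symm
    have hnot : ¬ FlatMod.IsFlatOverAt (PicF.XTproj f (Ti i)) (FGA.ET f F (Ti i)) x' := fun h' =>
      hx (hx' ▸ Groth.Agent.Lib.Flat55.FlatFunSheaf.isFlatOverAt_of_cover f F (g i) x' h')
    exact hle.trans_lt (h i x' hnot)

end Groth.Agent.S9023
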