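import Groth.Statements.S9026
import Groth.Agent.Lib.Flat55.FreeLocusRep

set_option autoImplicit false
universe u
open FlatMor

namespace Groth.Agent.S9026

open CategoryTheory CategoryTheory.Limits AlgebraicGeometry Opposite in
/-- For f : X → S smooth with geometrically irreducible fibres, F a quasi-coherent O_X-module of finite
type and p ≥ 0, the functor H_p on schemes over S (one point on T when the base change F_T is free
of rank p on a neighbourhood of the generic point of every fibre of X ×_S T → T, empty otherwise;
the subfunctor of the final functor generated by that condition) is representable by a scheme S_p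
over S whose structure morphism S_p → S is an immersion (a locally closed immersion). When the
module F is finitely presented, the morphism S_p → S is likewise finitely presented, i.e. locally of
finite presentation, quasi-compact and quasi-separated. -/
theorem result {X S : Scheme.{u}} (f : X ⟶ S) [Smooth f] [GeometricallyIrreducible f] (F : X.Modules) [Coh.IsQCoh F]
    (hF : CohB1.IsFT F) (p : ℕ) :
    ∃ Z : Over S, IsImmersion Z.hom ∧
      Nonempty ((FlatFun.genPSp S (fun T => FlatFun.FreeAtGenericPts (PicF.XTproj f T) (FGA.ET f F T) p)).RepresentableBy Z) ∧
      (CohB1.IsFP F → LocallyOfFinitePresentation Z.hom ∧ QuasiCompact Z.hom ∧ QuasiSeparated Z.hom) := by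
  have : F.IsQuasicoherent := ‹Coh.IsQCoh F›
  exact Groth.Agent.Lib.Flat55.FreeLocusRep.exists_representableBy f (p := p) hF

end Groth.Agent.S9026
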