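import Groth.Statements.S9029
import Groth.Agent.Lib.Flat55.FreeLocusFlat
import Groth.Agent.Lib.Flat55.GenericPtFibre

set_option autoImplicit false
universe u
open FlatMor

namespace Groth.Agent.S9029

open CategoryTheory CategoryTheory.Limits AlgebraicGeometry Opposite
open Groth.Agent.Lib Groth.Agent.Lib.Flat55

open CategoryTheory CategoryTheory.Limits AlgebraicGeometry Opposite in
/-- Let X → S be a morphism of affine schemes which is smooth of relative dimension d with geometrically
irreducible fibres, and F a quasi-coherent O_X-module of finite presentation. Then the functor F_d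
(F_T flat over T in dimensions ≥ d) is the disjoint union, as a sheaf, of the functors H_p for p =
0, …, c for some c ≥ 0: there is c such that for every scheme T over S, the base change F_T on X ×_S
T is flat over T in dimensions ≥ d (every point where it is not flat over T has residue field of
transcendence degree less than d over that of its image) if and only if every point of T has an open
neighbourhood V in T and an integer p ≤ c such that F_V is free of rank p on a neighbourhood of the
generic point of every fibre of X ×_S V → V. -/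
theorem result {X S : Scheme.{u}} [IsAffine X] [IsAffine S] (f : X ⟶ S) (d : ℕ) [SmoothOfRelativeDimension d f]
    [GeometricallyIrreducible f] (F : X.Modules) [Coh.IsQCoh F] (hF : CohB1.IsFP F) :
    ∃ c : ℕ, ∀ T : Over S,
      (FlatFun.DimFibresLT d (PicF.XTproj f T)
        {x | ¬ FlatMod.IsFlatOverAt (PicF.XTproj f T) (FGA.ET f F T) x}) ↔
      ∀ t : T.left, ∃ (V : T.left.Opens) (p : ℕ), t ∈ V ∧ p ≤ c ∧
        FlatFun.FreeAtGenericPts (PicF.XTproj f (Over.mk (V.ι ≫ T.hom)))
          (FGA.ET f F (Over.mk (V.ι ≫ T.hom))) p := by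
  classical
  have : F.IsQuasicoherent := ‹Coh.IsQCoh F›
  have : Smooth f := SmoothOfRelativeDimension.smooth d f
  have hFT : SheafOfModules.IsFiniteType (R := X.ringCatSheaf) F := by
    have : SheafOfModules.IsFinitePresentation (R := X.ringCatSheaf) F := hF
    infer_instance
  have : Module.Finite Γ(X, ⊤) Γ(F, ⊤) := CohBasics.Affine.finite_sections (isAffineOpen_top X)
  obtain ⟨c, v, hv⟩ := Module.Finite.exists_fin (R := Γ(X, ⊤)) (M := Γ(F, ⊤))
  have hsmd : ∀ T : Over S, SmoothOfRelativeDimension d (PicF.XTproj f T) := fun T =>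
    have := smoothOfRelativeDimension_isStableUnderBaseChange (n := d)
    MorphismProperty.pullback_snd (P := @SmoothOfRelativeDimension d) f T.hom ‹_›
  have hsm : ∀ T : Over S, Smooth (PicF.XTproj f T) := fun T =>
    inferInstanceAs (Smooth (pullback.snd f T.hom))
  refine ⟨c, fun T => ⟨fun hflat t => ?_, fun hloc x hx => ?_⟩⟩
  · -- flat at the generic point, hence free near it
    obtain ⟨O, hO, htO, -⟩ := exists_isAffineOpen_mem_and_subset (U := ⊤) (x := t) trivial
    let T₀ : Over S := Over.mk (O.ι ≫ T.hom)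
    have : IsAffine T₀.left := hO
    let g : T₀ ⟶ T := Over.homMk O.ι
    have sq := FlatFunSheaf.isPullback_XTmap f g
    have := hsm T
    have := hsm T₀
    have := hsmd T
    obtain ⟨η₀, hη₀, hgen₀⟩ := GenericPtFibre.exists_genericPt (PicF.XTproj f T₀) (⟨t, htO⟩ : O.toScheme)
    have hgen := GenericPtFibre.isGenericPt_map sq hgen₀
    have hfl : FlatMod.IsFlatOverAt (PicF.XTproj f T) (FGA.ET f F T) (PicF.XTmap f g η₀) := by
      by_contra hn
      have h1 := hflat _ hn
      have h2 := (FreeLocusFlat.trdegAt_genericPt (PicF.XTproj f T) d hgen).1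
      exact (lt_irrefl _ (h2 ▸ h1 : (d : Cardinal.{u}) < d))
    have hfl₀ := FlatOverAt.of_iso _ (FGA.ETiso f F g) η₀
      (FlatOverAt.isFlatOverAt_baseChange _ _ _ _ sq _ η₀ hfl)
    obtain ⟨p, Ω, hηΩ, hiso⟩ := FreeLocusFlat.exists_free_near (PicF.XTproj f T₀) (FGA.ET f F T₀)
      (FlatDimLimit.isFP_ET f F hF T₀) hgen₀ hfl₀
    let V₀ : O.toScheme.Opens :=
      ⟨PicF.XTproj f T₀ '' Ω, (PicF.XTproj f T₀).isOpenMap _ Ω.2⟩
    refine ⟨O.ι ''ᵁ V₀, p, ⟨⟨t, htO⟩, ⟨η₀, hηΩ, hη₀⟩, rfl⟩, ?_, ?_⟩
    · exact FreeLocusFlat.rank_le (pullback.fst f T₀.hom) F v hv ⟨Ω, hηΩ, hiso⟩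
    · intro w
      let TV : Over S := Over.mk ((O.ι ''ᵁ V₀).ι ≫ T.hom)
      have hr : Set.range (O.ι ''ᵁ V₀).ι ⊆ Set.range O.ι := by
        rw [Scheme.Opens.range_ι]
        rintro _ ⟨y, -, rfl⟩
        exact ⟨y, rfl⟩
      let h : TV ⟶ T₀ := Over.homMk (IsOpenImmersion.lift O.ι (O.ι ''ᵁ V₀).ι hr) (by
        show IsOpenImmersion.lift O.ι (O.ι ''ᵁ V₀).ι hr ≫ O.ι ≫ T.hom = (O.ι ''ᵁ V₀).ι ≫ T.hom
        rw [IsOpenImmersion.lift_fac_assoc])
      have hw : h.left w ∈ V₀ := by
        obtain ⟨y, hy, hy'⟩ := w.2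
        have h1 : O.ι (h.left w) = O.ι y :=
          (congrArg (fun φ => (φ : _ ⟶ T.left) w) (IsOpenImmersion.lift_fac O.ι (O.ι ''ᵁ V₀).ι hr)).trans hy'.symm
        rw [O.ι.isOpenEmbedding.injective h1]
        exact hy
      obtain ⟨z, hz, hzw⟩ := hw
      obtain ⟨ηw, hηw, hgenw⟩ := GenericPtFibre.exists_genericPt (PicF.XTproj f TV) w
      have sqw := FlatFunSheaf.isPullback_XTmap f h
      have hmem : PicF.XTmap f h ηw ∈ Ω := GenericPtFibre.genericPt_mem
        (GenericPtFibre.isGenericPt_map sqw hgenw) (x := z) (by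
          rw [← Scheme.Hom.comp_apply, sqw.w, Scheme.Hom.comp_apply, hηw]
          exact hzw) hz
      exact ⟨ηw, hηw, hgenw, GenericPtFibre.isFreeOfRankNear_of_iso (FGA.ETiso f F h)
        (GenericPtFibre.isFreeOfRankNear_pullback _ _ ⟨Ω, hmem, hiso⟩)⟩
  · -- points where the module is not flat are not generic in their fibre
    have := hsm T
    have := hsmd T
    obtain ⟨V, p, htV, -, hfree⟩ := hloc (PicF.XTproj f T x)
    let g : Over.mk (V.ι ≫ T.hom) ⟶ T := Over.homMk V.ι
    obtain ⟨η, hη, hgen, hfreeη⟩ := hfree (⟨_, htV⟩ : V.toScheme)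
    have sq := FlatFunSheaf.isPullback_XTmap f g
    have : IsOpenImmersion g.left := inferInstanceAs (IsOpenImmersion V.ι)
    have : IsOpenImmersion (PicF.XTmap f g) := MorphismProperty.of_isPullback sq.flip ‹_›
    have hfree' := GenericPtFibre.isFreeOfRankNear_of_openImmersion (PicF.XTmap f g) (FGA.ET f F T)
      (GenericPtFibre.isFreeOfRankNear_of_iso (FGA.ETiso f F g).symm hfreeη)
    have he : PicF.XTproj f T (PicF.XTmap f g η) = PicF.XTproj f T x := by
      rw [← Scheme.Hom.comp_apply, sq.w, Scheme.Hom.comp_apply]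
      exact congrArg V.ι hη
    have hne : x ≠ PicF.XTmap f g η := fun h =>
      hx (h ▸ FreeLocusFlat.isFlatOverAt_of_free _ _ hfree')
    exact (FreeLocusFlat.trdegAt_genericPt (PicF.XTproj f T) d
      (GenericPtFibre.isGenericPt_map sq hgen)).2 x he.symm hne

end Groth.Agent.S9029
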