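import Groth.Statements.S9030
import Groth.Agent.Lib.RG.DimRank
import Groth.Agent.Lib.RG.StrataScheme
-- import your own Groth.Agent.* helpers here

set_option autoImplicit false
universe u
open FlatMor

namespace Groth.Agent.S9030

open Groth.Agent.Lib.RG Groth.Agent.Lib
open scoped TensorProduct

attribute [local instance] Algebra.TensorProduct.rightAlgebra
attribute [local instance] FlatCA.CompleteDevissage.mAM FlatCA.CompleteDevissage.mBM

open CategoryTheory AlgebraicGeometry in
theorem smoothRelDim_baseChange {A B A' : Type u} [CommRing A] [CommRing B] [CommRing A'] [Algebra A B] [Algebra A A']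
    (n : ℕ) (h : FlatCA.SmoothRelDim n A B) : FlatCA.SmoothRelDim n A' (A' ⊗[A] B) := by
  haveI := AlgebraicGeometry.smoothOfRelativeDimension_isStableUnderBaseChange.{u} n
  exact MorphismProperty.of_isPullback (P := @SmoothOfRelativeDimension n)
    (H21.Devissage.BaseChange.spec_isPullback A A' B (A' ⊗[A] B)) h

/-- In the top dimension flatness is flatness at the generic points of the fibres. -/
theorem phi_top {A B : Type u} [CommRing A] [CommRing B] [Algebra A B] [Algebra.Smooth A B]
    (hB : FlatCA.GeomIrredFibres A B) {M : Type u} [AddCommGroup M] [Module B M] {d e : ℕ}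
    (he : FlatCA.SmoothRelDim e A B) (hed : e = d) (A' : Type u) [CommRing A'] [Algebra A A'] (g : A)
    (hg : IsUnit (algebraMap A A' g)) :
    DimChain.Phi A' d g B M ↔ ∀ (t : Ideal A') [t.IsPrime] [(t.map (algebraMap A' (A' ⊗[A] B))).IsPrime],
      Module.Flat A' (LocalizedModule (t.map (algebraMap A' (A' ⊗[A] B))).primeCompl ((A' ⊗[A] B) ⊗[B] M)) := by
  subst hed
  haveI : Algebra.Smooth A' (A' ⊗[A] B) := inferInstance
  have hgeom := RG57.DevissageProj.geomIrredFibres_baseChange (A := A') hB
  have hD := Fibres.gif_of_smooth_of_geomIrred hgeom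
  have hrel := smoothRelDim_baseChange (A' := A') e he
  constructor
  · intro h t _ _
    haveI := (DimChain.liesOver_gen hgeom t).2
    refine h _ (fun hm => Ideal.IsPrime.ne_top inferInstance (Ideal.eq_top_of_isUnit_mem _ hm (hg.map _))) ?_
    rw [← DimFlat.tdeg_congr (Ideal.over_def (t.map (algebraMap A' (A' ⊗[A] B))) t) _ inferInstance ⟨rfl⟩]
    exact (DimFlat.tdeg_fibre hrel hD t _).2.2 le_rfl
  · intro h Q _ _ hn
    let t := Q.comap (algebraMap A' (A' ⊗[A] B))
    haveI : Q.LiesOver t := ⟨rfl⟩
    haveI := (DimChain.liesOver_gen hgeom t).1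
    have hle := (DimFlat.tdeg_fibre hrel hD t Q).2.1 hn
    have key : ∀ (P : Ideal (A' ⊗[A] B)) [P.IsPrime], P = t.map (algebraMap A' (A' ⊗[A] B)) →
        Module.Flat A' (LocalizedModule P.primeCompl ((A' ⊗[A] B) ⊗[B] M)) := fun P _ hP => by
      subst hP
      exact h t
    exact key Q (le_antisymm hle (Ideal.map_le_iff_le_comap.2 le_rfl))

section Chain

variable {A B : Type u} [CommRing A] [CommRing B] [Algebra A B] {N : Type u} [AddCommGroup N] [Module B N]
  [Module A N] [IsScalarTower A B N] [Algebra.FinitePresentation A B] [Module.FinitePresentation B N] {s : Ideal A} [s.IsPrime]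
  (D : FlatCA.CompleteDevissage A B N s) {d : ℕ} (hflat : FlatCA.FlatInDimGE (d + 1) A B N)

include hflat

theorem step (i : ℕ) (hi : i < D.n) (e : ℕ) (he : FlatCA.SmoothRelDim e A (D.B i)) (hde : d < e) (g : A) (hg : g ∉ s)
    (h : ∀ g' : A, g ∣ g' → ∀ (A' : Type u) [CommRing A'] [Algebra A A'] (m : ℕ),
      DimChain.Phi A' m g' B N ↔ DimChain.Phi A' m g' (D.B i) (D.M i)) :
    ∃ g₁ : A, g₁ ∉ s ∧ ∀ g' : A, g₁ ∣ g' → ∀ (A' : Type u) [CommRing A'] [Algebra A A'] (m : ℕ),
      DimChain.Phi A' m g' B N ↔ DimChain.Phi A' m g' (D.B i) (D.M i ⧸ LinearMap.range (D.α i)) := by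
  haveI := D.smooth i hi
  haveI := RG57.DevissageProj.finitePresentation_M D i hi
  have hB := D.geomIrred i hi
  have h1 : DimChain.FlatGE (d + 1) g (D.B i) (D.M i) :=
    DimChain.phi_self.2 ((h g dvd_rfl A (d + 1)).1 (DimChain.phi_self.1 (DimChain.flatGE_of_flatInDimGE hflat)))
  have hover := (DimChain.liesOver_gen hB s).2
  have hP : Module.Flat A (LocalizedModule (s.map (algebraMap A (D.B i))).primeCompl (D.M i)) := by
    haveI := hover
    refine h1 _ (fun hm => hg ?_) ?_
    · rw [Ideal.over_def (s.map (algebraMap A (D.B i))) s]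
      exact hm
    · rw [← DimFlat.tdeg_congr hover.over _ hover ⟨rfl⟩]
      exact le_trans (by exact_mod_cast hde)
        ((DimFlat.tdeg_fibre he (Fibres.gif_of_smooth_of_geomIrred hB) s _).2.2 le_rfl)
  obtain ⟨g₂, hg₂, h₂⟩ := DimChain.exists_step hB s hP (D.α i) (D.fibreIso i hi)
  refine ⟨g * g₂, fun hm => (Ideal.IsPrime.mem_or_mem inferInstance hm).elim hg hg₂, fun g' hg' A' _ _ m => ?_⟩
  exact (h g' ((dvd_mul_right g g₂).trans hg') A' m).trans (h₂ g' ((dvd_mul_left g₂ g).trans hg') A' m)

theorem chain : ∀ i, i < D.n → (∀ j < i, ∃ e, d < e ∧ FlatCA.SmoothRelDim e A (D.B j)) →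
    ∃ g : A, g ∉ s ∧ ∀ g' : A, g ∣ g' → ∀ (A' : Type u) [CommRing A'] [Algebra A A'] (m : ℕ),
      DimChain.Phi A' m g' B N ↔ DimChain.Phi A' m g' (D.B i) (D.M i)
  | 0, hi, _ => by
    haveI := D.finiteBA 0 hi
    haveI : Module.Finite B (D.A 0) := Module.Finite.of_surjective (Algebra.linearMap B (D.A 0)) D.surjSA
    refine ⟨1, fun h => Ideal.IsPrime.ne_top inferInstance ((Ideal.eq_top_iff_one s).2 h), fun g' _ A' _ _ m => ?_⟩
    exact (DimChain.phi_congr D.isoN).trans
      ((DimChain.phi_finite (C := D.A 0) (M := D.M 0) (B := B)).symm.trans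
        (DimChain.phi_finite (C := D.A 0) (M := D.M 0) (B := D.B 0)))
  | i + 1, hi, hbig => by
    obtain ⟨g, hg, h⟩ := chain i (Nat.lt_of_succ_lt hi) fun j hj => hbig j (Nat.lt_succ_of_lt hj)
    obtain ⟨e, hde, he⟩ := hbig i (Nat.lt_succ_self i)
    obtain ⟨g₁, hg₁, h₁⟩ := step D hflat i (Nat.lt_of_succ_lt hi) e he hde g hg h
    haveI := D.finiteBA (i + 1) hi
    haveI : Module.Finite (D.B i) (D.A (i + 1)) :=
      Module.Finite.of_surjective (Algebra.linearMap (D.B i) (D.A (i + 1))) (D.surjBA' i hi)
    refine ⟨g₁, hg₁, fun g' hg' A' _ _ m => ?_⟩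
    exact (h₁ g' hg' A' m).trans
      ((DimChain.phi_congr (D.isoCoker i hi)).trans
        ((DimChain.phi_finite (C := D.A (i + 1)) (M := D.M (i + 1)) (B := D.B i)).symm.trans
          (DimChain.phi_finite (C := D.A (i + 1)) (M := D.M (i + 1)) (B := D.B (i + 1)))))

end Chain

open CategoryTheory CategoryTheory.Limits AlgebraicGeometry Opposite in
/-- In this form S = Spec A and X = Spec B are affine, as the existence of a complete dévissage forces,
and the test schemes are affine as well, which suffices. Let B be a finitely presented A-algebra, N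
a finitely presented B-module, s a prime of A and d ≥ 0. Assume given a complete dévissage (A_i,
B_i, M_i, α_i) of N over B over A over s (the ring-level structure) in which, for every step i, the
smooth A-algebra B_i has relative dimension equal to the Krull dimension of the support of the fibre
module M_i ⊗ κ(s) over B_i ⊗ κ(s) — together this is the complete dévissage of the module over the
scheme Spec B over Spec A over the point s — and assume that N is flat over A in dimensions ≥ d + 1.
Then, over some principal open neighbourhood D(g) of s, the functor F_d is representable by a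
monomorphism of finite presentation: there are g ∈ A not in s and a monomorphism of schemes Z → Spec
A which is locally of finite presentation, quasi-compact and quasi-separated, such that for every
A-algebra A' in which g is invertible, with base changes B' of B and N' of N (any models), N' is
flat over A' in dimensions ≥ d if and only if Spec A' → Spec A factors through Z. -/
theorem result {A B : Type u} [CommRing A] [CommRing B] [Algebra A B] [Algebra.FinitePresentation A B]
    (N : Type u) [AddCommGroup N] [Module B N] [Module A N] [IsScalarTower A B N] [Module.FinitePresentation B N]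
    (s : Ideal A) [s.IsPrime] (D : FlatCA.CompleteDevissage A B N s)
    (hdim : ∀ i, i < D.n → ∃ e : ℕ, FlatCA.SmoothRelDim e A (D.B i) ∧
      Module.supportDim (s.Fiber (D.B i)) (FlatCA.fiberMod s (D.B i) (D.M i)) = e)
    (d : ℕ) (hflat : FlatCA.FlatInDimGE (d + 1) A B N) :
    ∃ g : A, g ∉ s ∧ ∃ (Z : Scheme.{u}) (i : Z ⟶ Spec (CommRingCat.of A)),
      Mono i ∧ LocallyOfFinitePresentation i ∧ QuasiCompact i ∧ QuasiSeparated i ∧
      ∀ (A' B' N' : Type u) [CommRing A'] [CommRing B'] [Algebra A A'] [Algebra B B'] [Algebra A' B'] [Algebra A B']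
        [IsScalarTower A B B'] [IsScalarTower A A' B'] [Algebra.IsPushout A B A' B']
        [AddCommGroup N'] [Module B' N'] [Module B N'] [IsScalarTower B B' N'] [Module A' N'] [IsScalarTower A' B' N']
        (φ : N →ₗ[B] N'), IsBaseChange B' φ → IsUnit (algebraMap A A' g) →
        (FlatCA.FlatInDimGE d A' B' N' ↔
          ∃ k : Spec (CommRingCat.of A') ⟶ Z, k ≫ i = Spec.map (CommRingCat.ofHom (algebraMap A A'))) := by
  classical
  suffices hsuff : ∃ g : A, g ∉ s ∧ ((∀ (A' : Type u) [CommRing A'] [Algebra A A'], IsUnit (algebraMap A A' g) →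
      DimChain.Phi A' d g B N) ∨ ∃ (J : ℕ) (K : ℕ → Ideal A), (∀ j, (K j).FG) ∧ Monotone K ∧
      ∀ (A' : Type u) [CommRing A'] [Algebra A A'], IsUnit (algebraMap A A' g) →
        (DimChain.Phi A' d g B N ↔ StrataScheme.Cond J K A')) by
    obtain ⟨g, hg, h | ⟨J, K, hfg, hmono, h⟩⟩ := hsuff
    · refine ⟨g, hg, Spec (CommRingCat.of A), 𝟙 _, inferInstance, inferInstance, inferInstance, inferInstance, ?_⟩
      intro A' B' N' _ _ _ _ _ _ _ _ _ _ _ _ _ _ _ φ hφ hu
      refine iff_of_true ((DimChain.flatGE_iff_of_isUnit hu).1 ((DimChain.phi_model φ hφ).2 (h A' hu))) ?_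
      exact ⟨_, Category.comp_id _⟩
    · obtain ⟨Z, i, h1, h2, h3, h4, hZ⟩ := StrataScheme.exists_strata J K hfg hmono
      refine ⟨g, hg, Z, i, h1, h2, h3, h4, ?_⟩
      intro A' B' N' _ _ _ _ _ _ _ _ _ _ _ _ _ _ _ φ hφ hu
      rw [← DimChain.flatGE_iff_of_isUnit hu, DimChain.phi_model φ hφ, h A' hu]
      exact hZ A'
  choose! e he _hsupp using hdim
  by_cases hex : ∃ i, i < D.n ∧ e i ≤ d
  · obtain ⟨hi, hed⟩ := Nat.find_spec hex
    obtain ⟨g, hg, hchain⟩ := chain D hflat (Nat.find hex) hi fun j hj =>
      ⟨e j, not_le.1 fun h => Nat.find_min hex hj ⟨hj.trans hi, h⟩, he j (hj.trans hi)⟩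
    refine ⟨g, hg, ?_⟩
    generalize Nat.find hex = i at hi hed hchain
    haveI := D.smooth i hi
    haveI := RG57.DevissageProj.finitePresentation_M D i hi
    have hB := D.geomIrred i hi
    rcases hed.lt_or_eq with hlt | heq
    · left
      intro A' _ _ _
      rw [hchain g dvd_rfl A' d]
      intro Q _ _ hn
      have hgeom := RG57.DevissageProj.geomIrredFibres_baseChange (A := A') hB
      have h1 := (DimFlat.tdeg_fibre (smoothRelDim_baseChange (A' := A') (e i) (he i hi))
        (Fibres.gif_of_smooth_of_geomIrred hgeom) (Q.comap (algebraMap A' (A' ⊗[A] D.B i))) Q (hy := ⟨rfl⟩)).1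
      exact absurd (hn.trans h1) (not_le.2 (by exact_mod_cast hlt))
    · right
      haveI : Module.Projective A (D.B i) :=
        RG57.ContentProj.projective (fun K _ _ => Fibres.isDomain_of_smooth_of_geomIrred hB K)
      obtain ⟨J, x, hx⟩ := Module.Finite.exists_fin (R := D.B i) (M := D.M i)
      have hfgF : ∀ j, (Fitt.ideal (D.B i) (D.M i) j).FG := fun j => by
        obtain ⟨T, hT⟩ := Module.FinitePresentation.fg_ker (Fintype.linearCombination (D.B i) x)
          (LinearMap.range_eq_top.1 (by rw [Fintype.range_linearCombination]; exact hx))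
        rw [H25.Fitting.ideal_eq_of_rel x hx (T : Set (Fin J → D.B i)) hT.symm j]
        exact H25.Fitting.Mn_fg T.finite_toSet _
      choose c hc using fun j => DimRank.exists_content (A := A) _ (hfgF j)
      let K : ℕ → Ideal A := fun j => Nat.casesOn j ⊥ c
      have hK0 : K 0 = ⊥ := rfl
      have hK : ∀ j, DimRank.IsContent (Fitt.ideal (D.B i) (D.M i) j) (K (j + 1)) := hc
      have hmono : Monotone K := monotone_nat_of_le_succ fun j => by
        cases j with
        | zero => exact bot_le
        | succ j => exact (hc j).mono (hc (j + 1)) (H25.Fitting.ideal_mono (Nat.le_succ j))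
      have hKtop : K (J + 1) = ⊤ := by
        by_contra hne
        obtain ⟨m, hm, hle⟩ := Ideal.exists_le_maximal _ hne
        refine (DimChain.liesOver_gen hB m).1.ne_top (top_le_iff.1 ?_)
        rw [← H25.Fitting.ideal_eq_top x hx (le_refl J)]
        exact ((hc J).le).trans (Ideal.map_mono hle)
      refine ⟨J, K, fun j => ?_, hmono, fun A' _ _ hu => ?_⟩
      · cases j with
        | zero => exact Submodule.fg_bot
        | succ j => exact (hc j).fg
      rw [hchain g dvd_rfl A' d, phi_top hB (he i hi) heq A' g hu]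
      constructor
      · intro h t _
        haveI := (DimChain.liesOver_gen (RG57.DevissageProj.geomIrredFibres_baseChange (A := A') hB) t).1
        obtain ⟨j, hj, hj0⟩ := (DimRank.flat_iff_exists hB K hK0 hK A' t).1 (h t)
        refine ⟨j, ?_, hj, hj0⟩
        by_contra hlt
        obtain ⟨c, hct, hc1⟩ := hj0 1 (by rw [top_le_iff.1 (hKtop.ge.trans (hmono (by omega : J + 1 ≤ j)))]; trivial)
        rw [map_one, mul_one] at hc1
        exact hct (hc1 ▸ t.zero_mem)
      · intro h t _ _
        obtain ⟨j, -, hj, hj0⟩ := h t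
        exact (DimRank.flat_iff_exists hB K hK0 hK A' t).2 ⟨j, hj, hj0⟩
  · push Not at hex
    have hn : D.n - 1 < D.n := Nat.sub_lt D.pos Nat.one_pos
    obtain ⟨g, hg, hchain⟩ := chain D hflat (D.n - 1) hn fun j hj =>
      ⟨e j, hex j (by omega), he j (by omega)⟩
    obtain ⟨g₁, hg₁, h₁⟩ := step D hflat (D.n - 1) hn _ (he _ hn) (hex _ hn) g hg hchain
    refine ⟨g₁, hg₁, Or.inl fun A' _ _ _ => (h₁ g₁ dvd_rfl A' d).2 ?_⟩
    haveI : Subsingleton (D.M (D.n - 1) ⧸ LinearMap.range (D.α (D.n - 1))) :=
      Submodule.Quotient.subsingleton_iff.2 (LinearMap.range_eq_top.2 D.cokerLast)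
    exact DimChain.phi_subsingleton

end Groth.Agent.S9030
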