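import Groth.Statements.S9031
import Groth.Agent.S8981
import Groth.Agent.Lib.FrobColim.Descent
import Groth.Agent.Lib.FrobColim.Sections

set_option autoImplicit false
universe u
open HTop

namespace Groth.Agent.S9031

open CategoryTheory AlgebraicGeometry Opposite in
/-- Let p be a prime number and S a scheme on which p = 0. Write P for the presheaf on schemes over S
sending X to the colimit of sets Γ(X, O_X) → Γ(X, O_X) → … along the p-th power map (Frobenius), and
P♯ for its sheafification in the big Zariski topology of S. Then P♯ is a sheaf for the big h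
topology of S, and for every scheme X over S which is quasi-compact and quasi-separated the
canonical map P(X) → P♯(X) is bijective. (This is the existence and the description on quasi-compact
quasi-separated objects of the h sheaf with these values; such a sheaf is then determined by these
values since affine objects are quasi-compact and quasi-separated.) -/
theorem result (p : ℕ) [Fact p.Prime] (S : Scheme.{u}) (hS : (p : Γ(S, ⊤)) = 0) :
    Presheaf.IsSheaf (HTop.Jh S)
      ((QuotSh.J Scheme.zariskiPrecoverage S).sheafify (HTop.frobColimPresheaf p S ⋙ uliftFunctor.{u + 1, u})) ∧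
    ∀ (X : Over S) [CompactSpace X.left] [QuasiSeparatedSpace X.left],
      Function.Bijective
        (((QuotSh.J Scheme.zariskiPrecoverage S).toSheafify (HTop.frobColimPresheaf p S ⋙ uliftFunctor.{u + 1, u})).app (op X)) := by
  classical
  let η := Groth.Agent.Lib.FrobColim.Sections.η p S
  let F := (QuotSh.J Scheme.zariskiPrecoverage S).sheafify (Groth.Agent.Lib.FrobColim.Sections.P p S)
  have hbij : ∀ (X : Over S) [CompactSpace X.left] [QuasiSeparatedSpace X.left],
      Function.Bijective (η.app (op X)) := fun X _ _ =>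
    Groth.Agent.Lib.FrobColim.Sections.bijective_η p X
  refine ⟨(isSheaf_iff_isSheaf_of_type _ _).2 ((Groth.Agent.S8981.result S F).2
    ⟨(isSheaf_iff_isSheaf_of_type _ _).1
      (GrothendieckTopology.sheafify_isSheaf (QuotSh.J Scheme.zariskiPrecoverage S) _),
    fun U V f hU hf hs hfp => ?_⟩), hbij⟩
  have : CompactSpace V.left := QuasiCompact.compactSpace_of_compactSpace f.left
  have : QuasiSeparatedSpace V.left := quasiSeparatedSpace_of_quasiSeparated f.left
  let W : Over S := Over.mk (Limits.pullback.fst f.left f.left ≫ V.hom)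
  let p₁ : W ⟶ V := Over.homMk (Limits.pullback.fst f.left f.left)
  let p₂ : W ⟶ V := Over.homMk (Limits.pullback.snd f.left f.left) (by
    simp only [W, Over.mk_hom, ← Over.w f, Limits.pullback.condition_assoc])
  have : CompactSpace W.left :=
    QuasiCompact.compactSpace_of_compactSpace (Limits.pullback.fst f.left f.left)
  have : QuasiSeparatedSpace W.left :=
    quasiSeparatedSpace_of_quasiSeparated (Limits.pullback.fst f.left f.left)
  have hp0 : (p : Γ(U.left, ⊤)) = 0 := by rw [← map_natCast U.hom.appTop.hom, hS, map_zero]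
  have hfW : p₁ ≫ f = p₂ ≫ f := by ext; exact Limits.pullback.condition
  intro x hx
  have hsep : ∀ (s s' : F.obj (op U)), F.map f.op s = F.map f.op s' → s = s' := by
    intro s s' h
    obtain ⟨⟨a⟩, rfl⟩ := (hbij U).2 s
    obtain ⟨⟨b⟩, rfl⟩ := (hbij U).2 s'
    rw [← NatTrans.naturality_apply, ← NatTrans.naturality_apply] at h
    have h' := congrArg ULift.down ((hbij V).1 h)
    obtain ⟨n, a, rfl⟩ := Groth.Agent.Lib.FrobColim.Sections.exists_rep a
    obtain ⟨m, b, rfl⟩ := Groth.Agent.Lib.FrobColim.Sections.exists_rep b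
    rw [Groth.Agent.Lib.FrobColim.Sections.mk_eq_mk_of_le a (le_max_left n m),
      Groth.Agent.Lib.FrobColim.Sections.mk_eq_mk_of_le b (le_max_right n m)] at h' ⊢
    obtain ⟨k, hk⟩ := Groth.Agent.Lib.FrobColim.Sections.exists_of_mk_eq h'
    obtain ⟨N, hN⟩ := Groth.Agent.Lib.FrobColim.Descent.isNilpotent_of_appTop_eq_zero f.left
      (a := (a ^ p ^ (max n m - n)) ^ p ^ k - (b ^ p ^ (max n m - m)) ^ p ^ k)
      (by rw [map_sub, sub_eq_zero]
          exact ((map_pow _ _ _).trans hk).trans (map_pow _ _ _).symm)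
    congr 2
    refine Groth.Agent.Lib.FrobColim.Sections.mk_eq_of_pow (k := k + N) ?_
    rcases subsingleton_or_nontrivial Γ(U.left, ⊤) with h0 | h0
    · exact Subsingleton.elim _ _
    have : CharP Γ(U.left, ⊤) p := CharP.charP_iff_prime_eq_zero (Fact.out) |>.2 hp0
    have hz := pow_eq_zero_of_le (m := N) (n := p ^ N) (Nat.lt_pow_self (Fact.out : p.Prime).one_lt).le hN
    rwa [sub_pow_expChar_pow, sub_eq_zero, ← pow_mul _ (p ^ k) (p ^ N),
      ← pow_mul _ (p ^ k) (p ^ N), ← pow_add] at hz
  have hfR : Presieve.singleton f f := Presieve.singleton_self f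
  have hxc : F.map p₁.op (x f hfR) = F.map p₂.op (x f hfR) := hx p₁ p₂ hfR hfR hfW
  obtain ⟨⟨t⟩, ht⟩ := (hbij V).2 (x f hfR)
  obtain ⟨n, b, rfl⟩ := Groth.Agent.Lib.FrobColim.Sections.exists_rep t
  rw [← ht, ← NatTrans.naturality_apply, ← NatTrans.naturality_apply] at hxc
  obtain ⟨k, hk⟩ := Groth.Agent.Lib.FrobColim.Sections.exists_of_mk_eq
    (congrArg ULift.down ((hbij W).1 hxc))
  obtain ⟨N, a, ha⟩ := Groth.Agent.Lib.FrobColim.Descent.exists_pow_eq p hp0 f.left (b ^ p ^ k)
    (((map_pow _ _ _).trans hk).trans (map_pow _ _ _).symm)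
  refine ⟨η.app (op U) ⟨FrobColimSections.mk p (n + (k + N)) a⟩, ?_, ?_⟩
  · rintro Y g ⟨⟩
    rw [← NatTrans.naturality_apply, ← ht]
    refine congrArg (η.app (op V)) (ULift.ext _ _ ?_)
    refine (congrArg (FrobColimSections.mk p (n + (k + N))) ha).trans ?_
    rw [Groth.Agent.Lib.FrobColim.Sections.mk_eq_mk_add n b (k + N), pow_add, pow_mul]
  · intro s hs
    refine hsep _ _ ((hs f hfR).trans ?_)
    rw [← NatTrans.naturality_apply, ← ht]
    refine congrArg (η.app (op V)) (ULift.ext _ _ ?_)
    refine Eq.trans ?_ (congrArg (FrobColimSections.mk p (n + (k + N))) ha).symm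
    rw [Groth.Agent.Lib.FrobColim.Sections.mk_eq_mk_add n b (k + N), pow_add, pow_mul]

end Groth.Agent.S9031
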