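import Groth.Statements.S9034
import Groth.Agent.H69.CpctCalculus
-- import your own Groth.Agent.* helpers here

set_option autoImplicit false
universe u
open Cpct

namespace Groth.Agent.S9034
set_option backward.isDefEq.respectTransparency false
open CategoryTheory AlgebraicGeometry
open Groth.Agent

open CategoryTheory CategoryTheory.Limits AlgebraicGeometry Opposite in
/-- Fix a scheme S which is quasi-separated and quasi-compact. Sending a pair (X, X̄) to X gives a
functor from the category of compactifications over S (pairs of a scheme X̄ proper over S and a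
quasi-compact open X ⊆ X̄, with morphisms the S-morphisms X̄' → X̄ sending X' into X) to the
category of compactifyable schemes over S (the full subcategory of schemes over S that are the open
part of such a pair), and this functor is a localization functor for the class of morphisms whose
open part X' → X is an isomorphism: it inverts that class and the induced functor from the localized
category is an equivalence. -/
theorem result (S : Scheme.{u}) [CompactSpace S] [QuasiSeparatedSpace S] :
    (Cpct.openFunctor S).IsLocalization (Cpct.isoOpen S) := by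
  have := H69.CpctCalculus.hasRightCalculusOfFractions (S := S)
  have hinv : (Cpct.isoOpen S).IsInvertedBy (Cpct.openFunctor S) := fun A B f hf => by
    have : IsIso (Cpct.restr f) := hf
    have h1 : IsIso ((Over.forget S).map ((Cpct.openOver (S := S)).map f)) := this
    have h2 : IsIso ((Cpct.openOver (S := S)).map f) := isIso_of_reflects_iso _ (Over.forget S)
    have h3 : IsIso ((ObjectProperty.ι _).map ((Cpct.openFunctor S).map f)) := h2
    exact isIso_of_reflects_iso _ (ObjectProperty.ι _)
  refine ⟨hinv, ?_⟩
  let G := Localization.Construction.lift (Cpct.openFunctor S) hinv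
  let W := Cpct.isoOpen S
  have hG : W.Q ⋙ G = Cpct.openFunctor S := Localization.Construction.fac _ _
  have hGmap : ∀ {A B : Cpct.Pair S} (f : A ⟶ B), G.map (W.Q.map f) =
      (Cpct.openFunctor S).map f := fun f => by
    exact (Functor.congr_hom hG f).trans ((Category.id_comp _).trans (Category.comp_id _))
  have hQ : ∀ X : W.Localization, ∃ A, W.Q.obj A = X := fun X => ⟨X.as.obj, rfl⟩
  have hmapiso : ∀ {A B : Cpct.Pair S} (f : A ⟶ B), W f → IsIso (W.Q.map f) :=
    fun f hf => W.Q_inverts f hf
  have hover : ∀ {A B : Cpct.Pair S} (f g : A ⟶ B), Cpct.restr f = Cpct.restr g →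
      W.Q.map f = W.Q.map g := fun f g h => by
    obtain ⟨C, t, ht, e⟩ := H69.CpctCalculus.exists_equalizing f g h
    have := hmapiso t ht
    rw [← cancel_epi (W.Q.map t), ← Functor.map_comp, e, Functor.map_comp]
  have hfaith : G.Faithful := ⟨fun {X Y} u v h => by
    obtain ⟨A, rfl⟩ := hQ X
    obtain ⟨B, rfl⟩ := hQ Y
    obtain ⟨φ, rfl⟩ := Localization.exists_rightFraction W.Q W u
    obtain ⟨ψ, rfl⟩ := Localization.exists_rightFraction W.Q W v
    obtain ⟨⟨a, ha, b⟩, hab⟩ :=
      (MorphismProperty.LeftFraction.mk φ.s ψ.s ψ.hs).exists_rightFraction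
    dsimp at a ha b hab
    have := hmapiso φ.s φ.hs
    have := hmapiso ψ.s ψ.hs
    have : IsIso (W.Q.map (a ≫ φ.s)) := hmapiso _ (W.comp_mem _ _ ha φ.hs)
    have e1 : W.Q.map (a ≫ φ.s) ≫ φ.map W.Q (Localization.inverts W.Q W) =
        W.Q.map (a ≫ φ.f) := by
      rw [Functor.map_comp, Functor.map_comp, Category.assoc,
        MorphismProperty.RightFraction.map_s_comp_map]
    have e2 : W.Q.map (a ≫ φ.s) ≫ ψ.map W.Q (Localization.inverts W.Q W) =
        W.Q.map (b ≫ ψ.f) := by
      rw [hab, Functor.map_comp, Functor.map_comp, Category.assoc,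
        MorphismProperty.RightFraction.map_s_comp_map]
    rw [← cancel_epi (W.Q.map (a ≫ φ.s)), e1, e2]
    refine hover _ _ ?_
    have h' : G.map (W.Q.map (a ≫ φ.f)) = G.map (W.Q.map (b ≫ ψ.f)) := by
      rw [← e1, ← e2, G.map_comp, G.map_comp, h]
    rw [hGmap, hGmap] at h'
    exact congrArg Over.Hom.left (congrArg (ObjectProperty.ι _).map h')⟩
  have hfull : G.Full := ⟨fun {X Y} u => by
    obtain ⟨A, rfl⟩ := hQ X
    obtain ⟨B, rfl⟩ := hQ Y
    let u' : Cpct.openOver.obj A ⟶ Cpct.openOver.obj B := (ObjectProperty.ι _).map u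
    obtain ⟨C, s, f, hs, e⟩ := H69.CpctCalculus.exists_roof u'.left (Over.w u')
    have := hmapiso s hs
    refine ⟨inv (W.Q.map s) ≫ W.Q.map f, ?_⟩
    rw [G.map_comp, G.map_inv, IsIso.inv_comp_eq, hGmap, hGmap]
    apply (ObjectProperty.ι _).map_injective
    apply Over.OverMorphism.ext
    exact e.symm⟩
  have hess : G.EssSurj := ⟨fun Z => by
    obtain ⟨A, ⟨e⟩⟩ := Z.2
    exact ⟨W.Q.obj A, ⟨ObjectProperty.isoMk _ e⟩⟩⟩
  exact { }

end Groth.Agent.S9034
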