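import Groth.Agent.Lib.DerCat.CompactRetract
import Groth.Statements.S9035
-- import your own Groth.Agent.* helpers here

set_option autoImplicit false
universe v u
open CategoryTheory CategoryTheory.Limits Opposite
open CohDer

namespace Groth.Agent.S9035

/-- Let A be a Grothendieck abelian category and S a set of objects such that (1) every object of A is a
quotient of a direct sum of members of S and (2) for every E in S the functor Hom(E, -)
(abelian-group valued) preserves direct sums. Then every compact object K of the derived category
D(A) is a retract in D(A) of the image of a bounded cochain complex whose terms are finite direct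
sums of members of S. The derived category, the existence of direct sums in it, and the (automatic)
finite biproduct and direct sum structure of A are taken as instance hypotheses. -/
theorem result
    {A : Type u} [Category.{v} A] [Abelian A] [IsGrothendieckAbelian.{v} A] [HasCoproducts.{v} A] [HasFiniteBiproducts A]
    [HasDerivedCategory.{v} A] [HasCoproducts.{v} (DerivedCategory A)]
    (S : Set A)
    (h1 : ∀ X : A, ∃ (ι : Type v) (E : ι → A) (π : ∐ E ⟶ X), (∀ i, E i ∈ S) ∧ Epi π)
    (h2 : ∀ E ∈ S, ∀ ι : Type v, PreservesColimitsOfShape (Discrete ι) (preadditiveCoyoneda.obj (op E)))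
    (K : DerivedCategory A) (hK : CohDer.IsCompactObject K) :
    ∃ (L : CochainComplex A ℤ) (a b : ℤ),
      (∀ i : ℤ, i < a ∨ b < i → IsZero (L.X i)) ∧
      (∀ i : ℤ, ∃ (n : ℕ) (E : Fin n → A), (∀ j, E j ∈ S) ∧ Nonempty (L.X i ≅ ⨁ E)) ∧
      Nonempty (Retract K (DerivedCategory.Q.obj L)) := by
  have := Groth.Agent.Lib.DerivedOX.RightDerived.isLeftAdjoint_Qh (A := A) Groth.Agent.Lib.DerCat.KInjExists.hasKInjRes
  have := Groth.Agent.Lib.DerCat.KInjSmall.hasExactColimitsNat (A := A)
  have : HasColimitsOfShape ℕ A := inferInstance
  obtain ⟨L, a, b, hz, hfin, hr⟩ := Groth.Agent.Lib.DerCat.CompactRetract.exists_retract S h2 h1 K hK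
  exact ⟨L, a, b, hz, fun i => Groth.Agent.Lib.DerCat.CompactRetract.exists_fin S (hfin i), hr⟩

end Groth.Agent.S9035
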