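import Groth.Statements.S9038
-- import your own Groth.Agent.* helpers here

set_option autoImplicit false
universe u
open Topology
open CohTop

namespace Groth.Agent.S9038

/-- In the category of Hausdorff locally quasi-compact spaces, call a family of continuous maps f_i :
X_i → X a qc covering when every point of X has a neighbourhood of the form ⋃_{i ∈ t} f_i(E_i) with
t a finite set of indices and E_i ⊆ X_i quasi-compact. If (f_i : X_i → X) is a qc covering and for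
each i the family (g_{ij} : X_{ij} → X_i)_j is a qc covering, then the family of composites X_{ij} →
X, indexed by the pairs (i, j), is a qc covering. -/
theorem result
    {B : Type u} [TopologicalSpace B] [T2Space B] [LocallyCompactSpace B]
    {ι : Type u} {X : ι → Type u} [∀ i, TopologicalSpace (X i)] [∀ i, T2Space (X i)]
    [∀ i, LocallyCompactSpace (X i)]
    (f : ∀ i, X i → B) (hf : ∀ i, Continuous (f i))
    (hcov : ∀ x : B, ∃ (t : Finset ι) (E : ∀ i, Set (X i)),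
      (∀ i ∈ t, IsCompact (E i)) ∧ (⋃ i ∈ t, f i '' E i) ∈ 𝓝 x)
    {κ : ι → Type u} {Y : ∀ i, κ i → Type u} [∀ i j, TopologicalSpace (Y i j)] [∀ i j, T2Space (Y i j)]
    [∀ i j, LocallyCompactSpace (Y i j)]
    (g : ∀ i j, Y i j → X i) (hg : ∀ i j, Continuous (g i j))
    (hcov' : ∀ (i : ι) (x : X i), ∃ (t : Finset (κ i)) (E : ∀ j, Set (Y i j)),
      (∀ j ∈ t, IsCompact (E j)) ∧ (⋃ j ∈ t, g i j '' E j) ∈ 𝓝 x) :
    ∀ x : B, ∃ (t : Finset (Σ i, κ i)) (E : ∀ p : (Σ i, κ i), Set (Y p.1 p.2)),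
      (∀ p ∈ t, IsCompact (E p)) ∧ (⋃ p ∈ t, f p.1 '' (g p.1 p.2 '' E p)) ∈ 𝓝 x := by
  classical
  intro x
  obtain ⟨t, E, hE, hmem⟩ := hcov x
  have key : ∀ i ∈ t, ∃ (s : Finset (κ i)) (F : ∀ j, Set (Y i j)),
      (∀ j ∈ s, IsCompact (F j)) ∧ E i ⊆ ⋃ j ∈ s, g i j '' F j := by
    intro i hi
    choose s F hF hFn using hcov' i
    obtain ⟨P, -, hPcov⟩ := (hE i hi).elim_nhds_subcover
      (fun y => ⋃ j ∈ s y, g i j '' F y j) (fun y _ => hFn y)
    refine ⟨P.biUnion s, fun j => ⋃ y ∈ P.filter (fun y => j ∈ s y), F y j, ?_, ?_⟩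
    · intro j _
      refine Finset.isCompact_biUnion _ (fun y hy => hF y j ?_)
      exact (Finset.mem_filter.mp hy).2
    · intro z hz
      obtain ⟨y, hy, hz⟩ := Set.mem_iUnion₂.mp (hPcov hz)
      obtain ⟨j, hj, w, hw, rfl⟩ := Set.mem_iUnion₂.mp hz
      refine Set.mem_iUnion₂.mpr ⟨j, Finset.mem_biUnion.mpr ⟨y, hy, hj⟩, w, ?_, rfl⟩
      exact Set.mem_iUnion₂.mpr ⟨y, Finset.mem_filter.mpr ⟨hy, hj⟩, hw⟩
  choose! s F hF hEs using key
  refine ⟨t.sigma s, fun p => F p.1 p.2, ?_, ?_⟩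
  · intro p hp
    obtain ⟨h1, h2⟩ := Finset.mem_sigma.mp hp
    exact hF p.1 h1 p.2 h2
  · refine Filter.mem_of_superset hmem ?_
    intro z hz
    obtain ⟨i, hi, w, hw, rfl⟩ := Set.mem_iUnion₂.mp hz
    obtain ⟨j, hj, v, hv, rfl⟩ := Set.mem_iUnion₂.mp (hEs i hi hw)
    exact Set.mem_iUnion₂.mpr ⟨⟨i, j⟩, Finset.mem_sigma.mpr ⟨hi, hj⟩, g i j v, ⟨v, hv, rfl⟩, rfl⟩

end Groth.Agent.S9038
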