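import Groth.Statements.S9041
import Groth.Agent.Lib.StrPerf.Lift
-- import your own Groth.Agent.* helpers here

set_option autoImplicit false
universe u
open CategoryTheory CategoryTheory.Limits Opposite
open ModSite

namespace Groth.Agent.S9041

/-- On a ringed site (C, O), let E be a direct summand of a finite free O-module, p : G → F a surjection
of O-modules and φ : E → F a morphism. Then locally φ lifts through p: every object V has a covering
sieve such that over each of its arrows W → V there is a morphism E|_W → G|_W whose composite with
p|_W is φ|_W. (The published statement is phrased for modules over the localisation (C/U, O_U) at an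
object U and a covering of U; a localised ringed site is again a ringed site, and this row states
the conclusion at every object of an arbitrary ringed site.) -/
theorem result
    {C : Type u} [SmallCategory C] {J : GrothendieckTopology C} (O : Sheaf J CommRingCat.{u})
    (E F G : ModSite.Mod O) (hE : DCoh.IsFinFreeSummandMod (ModSite.ringSh O) E)
    (p : G ⟶ F) [Epi p] (φ : E ⟶ F) (V : C) :
    ∃ R ∈ J V, ∀ ⦃W : C⦄ (g : W ⟶ V), R g →
      ∃ l : (ModSite.restr O W).obj E ⟶ (ModSite.restr O W).obj G,
        l ≫ (ModSite.restr O W).map p = (ModSite.restr O W).map φ := by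
  obtain ⟨R, hR, h⟩ := Groth.Agent.Lib.StrPerf.Lift.exists_lift hE
    (ShortComplex.mk p (0 : F ⟶ F) comp_zero) ((ShortComplex.exact_iff_epi _ rfl).2 inferInstance)
    ((Groth.Agent.Lib.StrPerf.Lift.T V).map φ) (by rw [Functor.map_zero]; exact comp_zero)
  refine ⟨R, hR, fun W g hg => ?_⟩
  obtain ⟨l, hl⟩ := h g hg
  exact ⟨l, hl.trans (Groth.Agent.Lib.StrPerf.Lift.rst_map g φ)⟩

end Groth.Agent.S9041
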