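import Groth.Statements.S9046
import Groth.Agent.Lib.StrPerf.Null
-- import your own Groth.Agent.* helpers here

set_option autoImplicit false
universe u
open CategoryTheory CategoryTheory.Limits Opposite
open ModSite

namespace Groth.Agent.S9046

/-- On a ringed site (C, O), let α : E → F and f : G → F be maps of complexes of O-modules where E is
strictly perfect and vanishes in degrees below a, and f induces isomorphisms on H^j for all j > a
and a surjection on H^a. Then locally α lifts through f up to homotopy: every object V has a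
covering sieve such that over each of its arrows W → V there is a map of complexes β : E|_W → G|_W
with β ≫ f|_W homotopic to α|_W. (The published statement is phrased over the localisation (C/U,
O_U) at an object U with a covering of U; this row states it at every object of an arbitrary ringed
site, which covers that case.) -/
theorem result
    {C : Type u} [SmallCategory C] {J : GrothendieckTopology C} (O : Sheaf J CommRingCat.{u})
    (E F G : CochainComplex (ModSite.Mod O) ℤ) (α : E ⟶ F) (f : G ⟶ F)
    (hE : DCoh.IsStrictlyPerfectMod (ModSite.ringSh O) E) (a : ℤ)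
    (hEa : ∀ j : ℤ, j < a → IsZero (E.X j))
    (hiso : ∀ j : ℤ, a < j → IsIso (HomologicalComplex.homologyMap f j))
    (hepi : Epi (HomologicalComplex.homologyMap f a)) (V : C) :
    ∃ R ∈ J V, ∀ ⦃W : C⦄ (g : W ⟶ V), R g →
      ∃ β : ((ModSite.restr O W).mapHomologicalComplex (ComplexShape.up ℤ)).obj E ⟶
          ((ModSite.restr O W).mapHomologicalComplex (ComplexShape.up ℤ)).obj G,
        Nonempty (Homotopy (β ≫ ((ModSite.restr O W).mapHomologicalComplex (ComplexShape.up ℤ)).map f)
          (((ModSite.restr O W).mapHomologicalComplex (ComplexShape.up ℤ)).map α)) := by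
  classical
  obtain ⟨⟨a₀, b, hab⟩, hsum⟩ := hE
  obtain ⟨R, hR, h⟩ := Groth.Agent.Lib.StrPerf.Null.exists_null E (CochainComplex.mappingCone f)
    (α ≫ CochainComplex.mappingCone.inr f) hsum a b hEa (fun i hi => hab i (Or.inr hi))
    (fun j hj => Groth.Agent.Lib.StrPerf.Null.exactAt_cone f (j - 1) j (j + 1) (by omega) rfl
      (by
        rcases eq_or_lt_of_le hj with rfl | hj'
        · exact hepi
        · haveI := hiso j hj'
          infer_instance)
      (by
        haveI := hiso (j + 1) (by omega)
        infer_instance)) V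
  refine ⟨R, hR, fun W g hg => ?_⟩
  obtain ⟨s, hs⟩ := h g hg
  let fst : ∀ p q : ℤ, p + 1 = q → ((Groth.Agent.Lib.StrPerf.Lift.T (O := O) W).obj ((CochainComplex.mappingCone f).X p) ⟶ (Groth.Agent.Lib.StrPerf.Lift.T (O := O) W).obj (G.X q)) :=
    fun p q hpq => (Groth.Agent.Lib.StrPerf.Lift.T (O := O) W).map ((CochainComplex.mappingCone.fst f).1.v p q hpq)
  let snd : ∀ p : ℤ, (Groth.Agent.Lib.StrPerf.Lift.T (O := O) W).obj ((CochainComplex.mappingCone f).X p) ⟶ (Groth.Agent.Lib.StrPerf.Lift.T (O := O) W).obj (F.X p) :=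
    fun p => (Groth.Agent.Lib.StrPerf.Lift.T (O := O) W).map ((CochainComplex.mappingCone.snd f).v p p (add_zero p))
  have key : ∀ i j k : ℤ, ∀ (hij : i + 1 = j) (hjk : j + 1 = k),
      (Groth.Agent.Lib.StrPerf.Lift.T (O := O) W).map (E.d j k) ≫ (s k j ≫ fst j k hjk) = (s j i ≫ fst i j hij) ≫ (Groth.Agent.Lib.StrPerf.Lift.T (O := O) W).map (G.d j k) ∧
      (Groth.Agent.Lib.StrPerf.Lift.T (O := O) W).map (α.f j) = (Groth.Agent.Lib.StrPerf.Lift.T (O := O) W).map (E.d j k) ≫ (s k j ≫ snd j) +
        ((s j i ≫ fst i j hij) ≫ (Groth.Agent.Lib.StrPerf.Lift.T (O := O) W).map (f.f j) + (s j i ≫ snd i) ≫ (Groth.Agent.Lib.StrPerf.Lift.T (O := O) W).map (F.d i j)) := by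
    intro i j k hij hjk
    constructor
    · have h1 := congrArg (· ≫ fst j k hjk) (hs i j k hij hjk)
      simp only [fst, HomologicalComplex.comp_f, Preadditive.add_comp, Category.assoc,
        ← Functor.map_comp, CochainComplex.mappingCone.inr_f_fst_v, comp_zero, Functor.map_zero,
        CochainComplex.mappingCone.d_fst_v f i j k hij hjk, Preadditive.neg_comp, Functor.map_neg,
        Preadditive.comp_neg] at h1 ⊢
      exact eq_of_sub_eq_zero ((sub_eq_add_neg _ _).trans h1.symm)
    · have h1 := congrArg (· ≫ snd j) (hs i j k hij hjk)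
      simp only [snd, fst, HomologicalComplex.comp_f, Preadditive.add_comp, Category.assoc,
        ← Functor.map_comp, CochainComplex.mappingCone.inr_f_snd_v, Category.comp_id,
        CochainComplex.mappingCone.d_snd_v f i j hij, Functor.map_add, Preadditive.comp_add] at h1 ⊢
      exact h1
  refine ⟨{ f := fun i => s i (i - 1) ≫ fst (i - 1) i (by omega)
            comm' := fun j k hjk => ?_ }, ⟨Homotopy.mk
      (fun p q => if q + 1 = p then -(s p q ≫ snd q) else 0) (fun p q hpq => if_neg hpq) (fun j => ?_)⟩⟩
  · obtain rfl : j + 1 = k := hjk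
    have := (key (j - 1) j (j + 1) (by omega) rfl).1
    have e : ∀ (q : ℤ) (hq : q + 1 = j + 1), s (j + 1) q ≫ fst q (j + 1) hq =
        s (j + 1) (j + 1 - 1) ≫ fst (j + 1 - 1) (j + 1) (by omega) := fun q hq => by
      obtain rfl : q = j + 1 - 1 := by omega
      rfl
    rw [e j rfl] at this
    exact this.symm
  · rw [dNext_eq _ (show (ComplexShape.up ℤ).Rel j (j + 1) from rfl),
      prevD_eq _ (show (ComplexShape.up ℤ).Rel (j - 1) j from by simp), if_pos rfl,
      if_pos (show j - 1 + 1 = j by omega)]
    have := (key (j - 1) j (j + 1) (by omega) rfl).2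
    change (s j (j - 1) ≫ fst (j - 1) j _) ≫ (Groth.Agent.Lib.StrPerf.Lift.T (O := O) W).map (f.f j) =
      (Groth.Agent.Lib.StrPerf.Lift.T (O := O) W).map (E.d j (j + 1)) ≫ (-(s (j + 1) j ≫ snd j)) +
        (-(s j (j - 1) ≫ snd (j - 1))) ≫ (Groth.Agent.Lib.StrPerf.Lift.T (O := O) W).map (F.d (j - 1) j) + (Groth.Agent.Lib.StrPerf.Lift.T (O := O) W).map (α.f j)
    rw [this, Preadditive.comp_neg, Preadditive.neg_comp]
    abel

end Groth.Agent.S9046
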