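import Groth.Statements.S9048
import Groth.Agent.Lib.RlimTrunc.ModSheaf


set_option autoImplicit false
universe u
open CategoryTheory CategoryTheory.Limits Opposite
open ModSite

namespace Groth.Agent.S9048

/-- On a ringed site (C, O), for a sheaf of sets K and an O-module F with underlying abelian sheaf F_ab,
the cohomology groups H^p(K, F) computed on Mod(O) — the derived functors of F ↦ Mor(K, F), i.e. the
Ext groups out of the free O-module O[K] on K — agree with H^p(K, F_ab) computed on abelian sheaves.
Stated as the existence of a group isomorphism; the Ext groups of Mod(O) are an instance hypothesis. -/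
theorem result
    {C : Type u} [SmallCategory C] {J : GrothendieckTopology C} (O : Sheaf J CommRingCat.{u})
    [HasExt.{u} (ModSite.Mod O)] (K : Sheaf J (Type u)) (F : ModSite.Mod O) (p : ℕ) :
    Nonempty (Abelian.Ext ((ModSite.sheafify O).obj ((PresheafOfModules.free (ModSite.ringSh O).obj).obj K.obj)) F p ≃+
      CohCx.HK K (ModSite.toAb F) p) := by
  let e : ∀ M : ModSite.Mod O,
      ((Lib.FreeMod.Basic.FrP O).obj K.obj ⟶ M) ≃
        ((Lib.SiteCoh.FreeRes.freeP J).obj K.obj ⟶ ModSite.toAb M) :=
    Lib.FreeMod.TotAcyclic.homEquivAb O K.obj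
  have hadd : ∀ (M : ModSite.Mod O) s t, e M (s + t) = e M s + e M t := fun M s t => by
    simp only [e, Lib.FreeMod.TotAcyclic.homEquivAb_eq, Functor.map_add, Preadditive.comp_add]
  have hr : ∀ {M N : ModSite.Mod O} (s) (ψ : M ⟶ N), e N (s ≫ ψ) = e M s ≫
      (SheafOfModules.toSheaf _).map ψ := fun s ψ => by
    simp only [e, Lib.FreeMod.TotAcyclic.homEquivAb_eq, Functor.map_comp, Category.assoc]
  let iso : SheafOfModules.toSheaf (ModSite.ringSh O) ⋙
      Lib.SpecSeq.HomExt.homFunctor ((Lib.SiteCoh.FreeRes.freeP J).obj K.obj) ≅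
        Lib.SpecSeq.HomExt.homFunctor ((Lib.FreeMod.Basic.FrP O).obj K.obj) :=
    (NatIso.ofComponents (fun M => (AddEquiv.mk' (e M) (hadd M)).toAddCommGrpIso)
      fun {M N} ψ => by
        ext s
        exact hr s ψ).symm
  exact Lib.ModSS29.ExtCompare.nonempty_extEquiv (SheafOfModules.toSheaf _)
    ((Lib.FreeMod.Basic.FrP O).obj K.obj) ((Lib.SiteCoh.FreeRes.freeP J).obj K.obj) iso
    (fun I _ q => Lib.ModSS29.TA.ta_injective O I K q) p F

end Groth.Agent.S9048
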