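import Groth.Statements.S9049
import Groth.Agent.Lib.StrPerf.Global
-- import your own Groth.Agent.* helpers here

set_option autoImplicit false
universe u
open CategoryTheory CategoryTheory.Limits Opposite
open ModSite

namespace Groth.Agent.S9049

/-- Let (C, O) be a ringed site with a final object X and R = Γ(C, O) = O(X). Global sections give an
equivalence between the category of O-modules that are direct summands of finite free O-modules and
the category of finite projective R-modules: the functor E ↦ E(X) is fully faithful on such modules,
lands in finite projective R-modules, and every finite projective R-module arises. (The published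
statement allows a site without final object, with Γ(C, -) the sections over the final presheaf;
this row assumes a final object X, so that Γ(C, E) = E(X).) -/
theorem result
    {C : Type u} [SmallCategory C] {J : GrothendieckTopology C} (O : Sheaf J CommRingCat.{u})
    (X : C) (hX : IsTerminal X) :
    (∀ E E' : ModSite.Mod O, DCoh.IsFinFreeSummandMod (ModSite.ringSh O) E →
        DCoh.IsFinFreeSummandMod (ModSite.ringSh O) E' →
        Function.Bijective (fun φ : E ⟶ E' => φ.val.app (op X))) ∧
    (∀ E : ModSite.Mod O, DCoh.IsFinFreeSummandMod (ModSite.ringSh O) E →
        Module.Finite ((ModSite.ringSh O).obj.obj (op X)) (E.val.obj (op X)) ∧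
        Module.Projective ((ModSite.ringSh O).obj.obj (op X)) (E.val.obj (op X))) ∧
    (∀ M : ModuleCat.{u} ((ModSite.ringSh O).obj.obj (op X)),
        Module.Finite ((ModSite.ringSh O).obj.obj (op X)) M →
        Module.Projective ((ModSite.ringSh O).obj.obj (op X)) M →
        ∃ E : ModSite.Mod O, DCoh.IsFinFreeSummandMod (ModSite.ringSh O) E ∧ Nonempty (E.val.obj (op X) ≅ M)) := by
  exact ⟨fun E E' hE _ => Groth.Agent.Lib.StrPerf.Global.bijective_app hX hE,
    fun E hE => Groth.Agent.Lib.StrPerf.Global.finite_projective hE,
    fun M hf hp => Groth.Agent.Lib.StrPerf.Global.exists_of_projective hX M⟩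

end Groth.Agent.S9049
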