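import Groth.Statements.S9055
import Groth.Agent.Lib.SiteKFlat.Assoc
-- import your own Groth.Agent.* helpers here

set_option autoImplicit false
universe u
open CategoryTheory CategoryTheory.Limits Opposite
attribute [local instance] HasDerivedCategory.standard
open ModSite

namespace Groth.Agent.S9055

/-- On a ringed site (C, O), if K and L are both K-flat complexes of O-modules, so is the total complex
Tot(K ⊗_O L). -/
theorem result
    {C : Type u} [SmallCategory C] {J : GrothendieckTopology C} (O : Sheaf J CommRingCat.{u})
    (K L : CochainComplex (ModSite.Mod O) ℤ) (hK : ModSite.IsKFlat K) (hL : ModSite.IsKFlat L) :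
    ModSite.IsKFlat (((ModSite.tensorCx O).obj K).obj L) := by
  exact Lib.SiteKFlat.Assoc.isKFlat_tensorCx K L hK hL

end Groth.Agent.S9055
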