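import Groth.Statements.S9056
import Groth.Agent.Lib.SiteKFlat.Thms
-- import your own Groth.Agent.* helpers here

set_option autoImplicit false
universe u
open CategoryTheory CategoryTheory.Limits Opposite
attribute [local instance] HasDerivedCategory.standard
open ModSite

namespace Groth.Agent.S9056

/-- On a ringed site (C, O), in a distinguished triangle of K(Mod(O)), if two of the three complexes are
K-flat then so is the third. Distinguished triangles are represented here by mapping cones: for a
morphism φ : K₁ → K₂ of complexes of O-modules with mapping cone C(φ), each of the three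
two-out-of-three implications among K₁, K₂, C(φ) holds. -/
theorem result
    {C : Type u} [SmallCategory C] {J : GrothendieckTopology C} (O : Sheaf J CommRingCat.{u})
    {K₁ K₂ : CochainComplex (ModSite.Mod O) ℤ} (φ : K₁ ⟶ K₂) :
    (ModSite.IsKFlat K₁ → ModSite.IsKFlat K₂ → ModSite.IsKFlat (CochainComplex.mappingCone φ)) ∧
    (ModSite.IsKFlat K₁ → ModSite.IsKFlat (CochainComplex.mappingCone φ) → ModSite.IsKFlat K₂) ∧
    (ModSite.IsKFlat K₂ → ModSite.IsKFlat (CochainComplex.mappingCone φ) → ModSite.IsKFlat K₁) := by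
  have hs := fun {X Y : CochainComplex (ModSite.Mod O) ℤ} (ψ : X ⟶ Y) =>
    Lib.SiteKFlat.Thms.two_of_three_split
      (CochainComplex.mappingCone.triangleRotateShortComplexSplitting ψ)
  obtain ⟨a₁, -, a₃⟩ := hs (𝟙 K₁)
  obtain ⟨b₁, b₂, b₃⟩ := hs φ
  have hc := Lib.SiteKFlat.Thms.isKFlat_of_homotopy_zero
    (CochainComplex.mappingCone.homotopyToZeroOfId K₁)
  exact ⟨fun h₁ h₂ => b₂ h₂ (a₁ h₁ hc), fun h₁ hk => b₃ hk (a₁ h₁ hc),
    fun h₂ hk => a₃ hc (b₁ h₂ hk)⟩

end Groth.Agent.S9056
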