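import Groth.Statements.S9057
import Groth.Agent.Lib.SiteKFlat.Thms
-- import your own Groth.Agent.* helpers here

set_option autoImplicit false
universe u
open CategoryTheory CategoryTheory.Limits Opposite
attribute [local instance] HasDerivedCategory.standard
open ModSite

namespace Groth.Agent.S9057

/-- On a ringed site (C, O), let 0 → K₁ → K₂ → K₃ → 0 be a short exact sequence of complexes of
O-modules whose third complex K₃ has flat terms. If two of K₁, K₂, K₃ are K-flat then so is the
third. -/
theorem result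
    {C : Type u} [SmallCategory C] {J : GrothendieckTopology C} (O : Sheaf J CommRingCat.{u})
    (S : ShortComplex (CochainComplex (ModSite.Mod O) ℤ)) (hS : S.ShortExact)
    (h3 : ∀ n : ℤ, ModSite.IsFlat (S.X₃.X n)) :
    (ModSite.IsKFlat S.X₁ → ModSite.IsKFlat S.X₂ → ModSite.IsKFlat S.X₃) ∧
    (ModSite.IsKFlat S.X₁ → ModSite.IsKFlat S.X₃ → ModSite.IsKFlat S.X₂) ∧
    (ModSite.IsKFlat S.X₂ → ModSite.IsKFlat S.X₃ → ModSite.IsKFlat S.X₁) := by
  exact Lib.SiteKFlat.Thms.two_of_three hS (Lib.SiteKFlat.Thms.mono_obj_map_of_flat₃ hS h3)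

end Groth.Agent.S9057
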