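import Groth.Statements.S9058
import Groth.Agent.Lib.SiteKFlat.Thms
-- import your own Groth.Agent.* helpers here

set_option autoImplicit false
universe u
open CategoryTheory CategoryTheory.Limits Opposite
attribute [local instance] HasDerivedCategory.standard
open ModSite

namespace Groth.Agent.S9058

/-- On a ringed site (C, O), a bounded above complex of flat O-modules is K-flat. -/
theorem result
    {C : Type u} [SmallCategory C] {J : GrothendieckTopology C} (O : Sheaf J CommRingCat.{u})
    (K : CochainComplex (ModSite.Mod O) ℤ) (b : ℤ) (hb : K.IsStrictlyLE b)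
    (hflat : ∀ n : ℤ, ModSite.IsFlat (K.X n)) : ModSite.IsKFlat K := by
  haveI := hb
  exact Lib.SiteKFlat.Thms.isKFlat_of_bounded_above K b hflat

end Groth.Agent.S9058
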