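import Groth.Statements.S9062
import Groth.Agent.Lib.SiteKFlat.PullKFlat
-- import your own Groth.Agent.* helpers here

set_option autoImplicit false
universe u
open CategoryTheory CategoryTheory.Limits Opposite
attribute [local instance] HasDerivedCategory.standard
open ModSite

namespace Groth.Agent.S9062

/-- Let f be a morphism from the ringed site (C, O_C) to the ringed site (D, O_D) and K a K-flat complex
of O_D-modules whose terms are flat O_D-modules. Then f^*K (module pullback applied termwise) is a
K-flat complex of O_C-modules whose terms are flat O_C-modules. Stated for morphisms of ringed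
sites; the published statement is for morphisms of ringed topoi. -/
theorem result
    {C : Type u} [SmallCategory C] {J : GrothendieckTopology C} {O_C : Sheaf J CommRingCat.{u}}
    {D : Type u} [SmallCategory D] {K : GrothendieckTopology D} {O_D : Sheaf K CommRingCat.{u}}
    (f : ModSite.RMor O_C O_D) (L : CochainComplex (ModSite.Mod O_D) ℤ)
    (hL : ModSite.IsKFlat L) (hfl : ∀ n : ℤ, ModSite.IsFlat (L.X n)) :
    ModSite.IsKFlat ((f.pull.mapHomologicalComplex (ComplexShape.up ℤ)).obj L) ∧
      ∀ n : ℤ, ModSite.IsFlat (((f.pull.mapHomologicalComplex (ComplexShape.up ℤ)).obj L).X n) := by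
  haveI := f.adj.leftAdjoint_preservesColimits
  exact ⟨Lib.SiteKFlat.PullKFlat.isKFlat_map f.pull (Lib.RMorLocal.Flat.isFlat_pull f) L hL hfl,
    fun n => Lib.RMorLocal.Flat.isFlat_pull f _ (hfl n)⟩

end Groth.Agent.S9062
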