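import Groth.Statements.S9068
import Groth.Agent.Lib.DerCat29.AdjIso
-- import your own Groth.Agent.* helpers here

set_option autoImplicit false
universe u
open CategoryTheory CategoryTheory.Limits Opposite
attribute [local instance] HasDerivedCategory.standard
open SiteCmp

namespace Groth.Agent.S9068

/-- Let f be a flat morphism from the ringed site (C, O_C) to the ringed site (D, O_D) and K a bounded
below object of D(O_D) such that H^q(K) → Rf_*f^*H^q(K) is an isomorphism for every q. Then K →
Rf_*f^*K is an isomorphism. Here f^* is exact, so it is its own derived functor; the maps are the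
units of an adjunction f^* ⊣ Rf_* on the unbounded derived categories, taken as a hypothesis
(whether a unit component is an isomorphism does not depend on the adjunction chosen). Stated for
ringed sites; the published statement is for ringed topoi. -/
theorem result
    {C : Type u} [SmallCategory C] {J : GrothendieckTopology C} {O_C : Sheaf J CommRingCat.{u}}
    {D : Type u} [SmallCategory D] {K : GrothendieckTopology D} {O_D : Sheaf K CommRingCat.{u}}
    (f : ModSite.RMor O_C O_D) [PreservesFiniteLimits f.pull] [SiteCmp.HasRpushD f]
    (adj : SiteCmp.pullD f ⊣ SiteCmp.RpushD f)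
    (Y : DerivedCategory (ModSite.Mod O_D)) (n₀ : ℤ) (hY : DerivedCategory.TStructure.t.IsGE Y n₀)
    (h3 : ∀ q : ℤ, IsIso (adj.unit.app (SiteCmp.inD O_D (SiteCmp.HMod Y q)))) :
    IsIso (adj.unit.app Y) := by
  exact Lib.DerCat29.AdjIso.isIso_unit_app f.pull adj Y n₀ hY h3

end Groth.Agent.S9068
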