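import Groth.Statements.S9076
import Groth.Agent.Lib.SiteKFlat.PullAdj
-- import your own Groth.Agent.* helpers here

set_option autoImplicit false
universe u
open CategoryTheory CategoryTheory.Limits Opposite
attribute [local instance] HasDerivedCategory.standard
open SiteCmp

namespace Groth.Agent.S9076

universe w w' v v' u'

/-- Right derived functors computed by K-injective resolutions are triangulated. -/
lemma exists_isTriangulated {A : Type u} [Category.{v} A] [Abelian A] [HasDerivedCategory.{w} A]
    {B : Type u'} [Category.{v'} B] [Abelian B] [HasDerivedCategory.{w'} B]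
    [(DerivedCategory.Qh (C := A)).IsLeftAdjoint] (F : A ⥤ B) [F.Additive]
    {G : DerivedCategory A ⥤ DerivedCategory B}
    (e : Groth.Agent.Lib.DerivedOX.RightDerived.resFunctor A ⋙
      (F.mapHomotopyCategory (ComplexShape.up ℤ) ⋙ DerivedCategory.Qh) ≅ G) :
    ∃ (_ : G.CommShift ℤ), G.IsTriangulated := by
  let adj := Groth.Agent.Lib.DerivedOX.RightDerived.resAdj A
  letI : (Groth.Agent.Lib.DerivedOX.RightDerived.resFunctor A).CommShift ℤ :=
    adj.rightAdjointCommShift ℤ
  haveI : adj.CommShift ℤ := adj.commShift_of_leftAdjoint ℤ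
  haveI : (Groth.Agent.Lib.DerivedOX.RightDerived.resFunctor A).IsTriangulated :=
    adj.isTriangulated_rightAdjoint
  letI : G.CommShift ℤ := Functor.CommShift.ofIso e ℤ
  haveI : NatTrans.CommShift e.hom ℤ := Functor.CommShift.ofIso_compatibility e ℤ
  exact ⟨inferInstance, Functor.isTriangulated_of_iso e⟩

/-- For a morphism f from the ringed site (C, O_C) to the ringed site (D, O_D), Rf_* commutes with
derived limits: if L = R lim K_n in D(O_C) through maps a_n : L → K_n, then Rf_*L = R lim Rf_*K_n
through the maps Rf_*a_n. Rf_* is the unbounded total derived direct image under its existence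
binder; the products of the two systems are instance hypotheses. Stated for ringed sites; the
published statement is for ringed topoi. -/
theorem result
    {C : Type u} [SmallCategory C] {J : GrothendieckTopology C} {O_C : Sheaf J CommRingCat.{u}}
    {D : Type u} [SmallCategory D] {K : GrothendieckTopology D} {O_D : Sheaf K CommRingCat.{u}}
    (f : ModSite.RMor O_C O_D) [SiteCmp.HasRpushD f]
    (E : ℕ → DerivedCategory (ModSite.Mod O_C)) (t : ∀ n, E (n + 1) ⟶ E n) [HasProduct E]
    (L : DerivedCategory (ModSite.Mod O_C)) (a : ∀ n, L ⟶ E n) (hL : CohCx.IsRlimVia E t L a)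
    [HasProduct fun n => (SiteCmp.RpushD f).obj (E n)] :
    CohCx.IsRlimVia (fun n => (SiteCmp.RpushD f).obj (E n)) (fun n => (SiteCmp.RpushD f).map (t n))
      ((SiteCmp.RpushD f).obj L) (fun n => (SiteCmp.RpushD f).map (a n)) := by
  haveI := Groth.Agent.Lib.SiteKFlat.PullAdj.isRightAdjoint_rpushD f
  haveI : (DerivedCategory.Qh (C := ModSite.Mod O_C)).IsLeftAdjoint := inferInstance
  obtain ⟨_, _⟩ := exists_isTriangulated f.push
    (Groth.Agent.Lib.DerivedOX.RightDerived.totalRightDerivedIso (SiteCmp.pushKh f))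
  let G := SiteCmp.RpushD f
  obtain ⟨c, hc⟩ := hL
  let P := PreservesProduct.iso G E
  refine ⟨P.inv ≫ G.map c ≫ (G.commShiftIso (1 : ℤ)).hom.app L,
    Pretriangulated.isomorphic_distinguished _ (G.map_distinguished _ hc) _ ?_⟩
  refine Pretriangulated.Triangle.isoMk _ _ (Iso.refl _) P.symm P.symm ?_ ?_ ?_
  · change Pi.lift (fun n => G.map (a n)) ≫ P.inv = 𝟙 _ ≫ G.map (Pi.lift a)
    rw [Category.id_comp, Iso.comp_inv_eq, PreservesProduct.iso_hom, map_lift_piComparison]
  · change Pi.lift (fun n => Pi.π (fun n => G.obj (E n)) n -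
        Pi.π (fun n => G.obj (E n)) (n + 1) ≫ G.map (t n)) ≫ P.inv =
      P.inv ≫ G.map (Pi.lift fun n => Pi.π E n - Pi.π E (n + 1) ≫ t n)
    rw [Iso.comp_inv_eq, Category.assoc, PreservesProduct.iso_hom, map_lift_piComparison,
      Iso.eq_inv_comp]
    apply Pi.hom_ext
    intro n
    simp only [Category.assoc, Pi.lift_π, Preadditive.comp_sub, Functor.map_sub, Functor.map_comp]
    rw [← reassoc_of% (piComparison_comp_π G E (n + 1)), ← piComparison_comp_π G E n,
      PreservesProduct.iso_hom]
  · change (P.inv ≫ G.map c ≫ (G.commShiftIso (1 : ℤ)).hom.app L) ≫ (shiftFunctor _ (1 : ℤ)).map (𝟙 _) =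
      P.inv ≫ G.map c ≫ (G.commShiftIso (1 : ℤ)).hom.app L
    rw [CategoryTheory.Functor.map_id]
    exact Category.comp_id _

end Groth.Agent.S9076
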