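import Groth.Statements.S9081
import Groth.Agent.Lib.SiteKFlat.Exact
-- import your own Groth.Agent.* helpers here

set_option autoImplicit false
universe u
open CategoryTheory
open ModSite

namespace Groth.Agent.S9081

open CategoryTheory.Limits in
/-- Part (2): on a small ringed site (C, O) with O commutative: if 0 → F'' → F' → F → 0 is a short exact
sequence of O-modules whose right-hand term F is flat (tensoring with F is exact on O-modules), then
for every O-module G the tensored sequence 0 → F'' ⊗_O G → F' ⊗_O G → F ⊗_O G → 0 is again short
exact. The instance binder on the functor (- ⊗_O G) (it preserves zero morphisms) always holds and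
is only needed to form the complex. -/
theorem result {C : Type u} [SmallCategory C] {J : GrothendieckTopology C}
    (O : Sheaf J CommRingCat.{u}) (S : ShortComplex (ModSite.Mod O)) (hS : S.ShortExact)
    (hF : ModSite.IsFlat S.X₃) (G : ModSite.Mod O) [((ModSite.tensorBi O).flip.obj G).PreservesZeroMorphisms] :
    (S.map ((ModSite.tensorBi O).flip.obj G)).ShortExact := by
  exact Lib.SiteKFlat.Exact.shortExact_map_of_flat₃ hS hF G

end Groth.Agent.S9081
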