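import Groth.Statements.S9086
import Groth.Agent.Lib.ExtZero.ModSite
-- import your own Groth.Agent.* helpers here

set_option autoImplicit false
universe u
open CategoryTheory
open ModSite

namespace Groth.Agent.S9086

open CategoryTheory.Limits in
/-- On a small ringed site (C, O) with O commutative, localised at an object U of C: the extension by
zero functor j_{U!} from O_U-modules on C/U to O-modules, i.e. the left adjoint of restriction to
C/U, is exact. As a left adjoint it preserves all colimits; the statement here is that it also
preserves finite limits. -/
theorem result {C : Type u} [SmallCategory C] {J : GrothendieckTopology C}
    (O : Sheaf J CommRingCat.{u}) (U : C) :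
    PreservesFiniteLimits (ModSite.extZero O U) := by
  exact Groth.Agent.Lib.ExtZero.ModSite.preservesFiniteLimits_extZero O U

end Groth.Agent.S9086
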