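import Groth.Statements.S9089
import Mathlib.RingTheory.Ideal.Span
import Mathlib.LinearAlgebra.Finsupp.LinearCombination
-- import your own Groth.Agent.* helpers here

set_option autoImplicit false
universe u
open CategoryTheory Opposite
open ModSite

namespace Groth.Agent.S9089

/-- Part (1): ⇔ (2), for a ringed site (C, O) with C small and O a sheaf of commutative rings: the
following are equivalent. (1) For every object U and every section f of O over U there is a covering
sieve on U on each of whose arrows either f or 1 - f restricts to a unit. (2) For every object U,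
every n ≥ 1 and all sections f₁, …, fₙ of O over U generating the unit ideal of O(U), there is a
covering sieve on U on each of whose arrows some fᵢ restricts to a unit. -/
theorem result {C : Type u} [SmallCategory C] (J : GrothendieckTopology C)
    (O : Sheaf J CommRingCat.{u}) :
    (∀ (U : C) (f : O.obj.obj (op U)), ∃ S ∈ J U, ∀ ⦃V : C⦄ (g : V ⟶ U), S g →
        IsUnit ((O.obj.map g.op).hom f) ∨ IsUnit ((O.obj.map g.op).hom (1 - f))) ↔
    (∀ (U : C) (n : ℕ) (f : Fin n → O.obj.obj (op U)), 1 ≤ n → Ideal.span (Set.range f) = ⊤ →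
        ∃ S ∈ J U, ∀ ⦃V : C⦄ (g : V ⟶ U), S g → ∃ i, IsUnit ((O.obj.map g.op).hom (f i))) := by
  refine ⟨fun h => ?_, fun h U f => ?_⟩
  · suffices H : ∀ (n : ℕ) (U : C) (f a : Fin (n + 1) → O.obj.obj (op U)), IsUnit (∑ i, a i * f i) →
        ∃ S ∈ J U, ∀ ⦃V : C⦄ (g : V ⟶ U), S g → ∃ i, IsUnit ((O.obj.map g.op).hom (f i)) by
      intro U n f hn hspan
      obtain ⟨m, rfl⟩ : ∃ m, n = m + 1 := ⟨n - 1, by omega⟩
      obtain ⟨a, ha⟩ := (Ideal.mem_span_range_iff_exists_fun (x := (1 : O.obj.obj (op U)))).1
        (hspan ▸ Submodule.mem_top)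
      exact H m U f a (ha ▸ isUnit_one)
    intro n
    induction n with
    | zero =>
      intro U f a hu
      refine ⟨⊤, J.top_mem U, fun V g _ => ⟨0, ?_⟩⟩
      rw [Fin.sum_univ_one, IsUnit.mul_iff] at hu
      exact hu.2.map _
    | succ n ih =>
      intro U f a hu
      obtain ⟨e, he⟩ := hu.exists_left_inv
      let T : Sieve U :=
        { arrows := fun V g => ∃ i, IsUnit ((O.obj.map g.op).hom (f i))
          downward_closed := fun {Y Z g} hg k => by
            obtain ⟨i, hi⟩ := hg
            refine ⟨i, ?_⟩
            rw [op_comp, Functor.map_comp]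
            exact hi.map (O.obj.map k.op).hom }
      obtain ⟨S, hS, hcov⟩ := h U (e * (a 0 * f 0))
      refine ⟨T, J.transitive hS _ (fun Y g hg => ?_), fun V g hg => hg⟩
      rcases hcov g hg with h1 | h2
      · refine J.superset_covering (fun Z k _ => ?_) (J.top_mem Y)
        refine ⟨0, ?_⟩
        rw [op_comp, Functor.map_comp]
        simp only [map_mul, IsUnit.mul_iff] at h1
        exact h1.2.2.map (O.obj.map k.op).hom
      · obtain ⟨R, hR, hi⟩ := ih Y (fun i => (O.obj.map g.op).hom (f i.succ))
          (fun i => (O.obj.map g.op).hom (e * a i.succ)) (by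
            convert h2 using 1
            simp only [← map_mul, ← map_sum, mul_assoc, ← Finset.mul_sum]
            refine congrArg _ ?_
            rw [eq_sub_iff_add_eq, add_comm, ← mul_add]
            rw [Fin.sum_univ_succ] at he
            exact he)
        refine J.superset_covering (fun Z k hk => ?_) hR
        obtain ⟨i, hi'⟩ := hi k hk
        refine ⟨i.succ, ?_⟩
        rw [op_comp, Functor.map_comp]
        exact hi'
  · obtain ⟨S, hS, hcov⟩ := h U 2 ![f, 1 - f] (by omega) (by
      rw [Ideal.eq_top_iff_one, Ideal.mem_span_range_iff_exists_fun]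
      exact ⟨fun _ => 1, by simp⟩)
    refine ⟨S, hS, fun V g hg => ?_⟩
    obtain ⟨i, hi⟩ := hcov g hg
    fin_cases i
    · exact Or.inl hi
    · exact Or.inr hi

end Groth.Agent.S9089
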