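import Groth.Statements.S9091
import Groth.Agent.Lib.SiteStalk.Local
-- import your own Groth.Agent.* helpers here

set_option autoImplicit false
universe u
open CategoryTheory Opposite
open ModSite

namespace Groth.Agent.S9091

/-- Part (2): ⇒ (1) when the site has enough points, for a ringed site (C, O) with C small and O a sheaf
of commutative rings: if at every point p of the site the stalk O_p is the zero ring or is local,
then for every object U and every section f of O over U there is a covering sieve on U on each of
whose arrows either f or 1 - f restricts to a unit. -/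
theorem result {C : Type u} [SmallCategory C] {J : GrothendieckTopology C}
    (O : Sheaf J CommRingCat.{u}) [GrothendieckTopology.HasEnoughPoints.{u} J]
    (h : ∀ p : GrothendieckTopology.Point.{u} J, Subsingleton (ModSite.stalkRing p O) ∨ IsLocalRing (ModSite.stalkRing p O))
    (U : C) (f : O.obj.obj (op U)) :
    ∃ S ∈ J U, ∀ ⦃V : C⦄ (g : V ⟶ U), S g →
        IsUnit ((O.obj.map g.op).hom f) ∨ IsUnit ((O.obj.map g.op).hom (1 - f)) := by
  obtain ⟨P, _, hP⟩ := GrothendieckTopology.HasEnoughPoints.exists_objectProperty (J := J)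
  let T : Sieve U :=
    { arrows := fun V g => IsUnit ((O.obj.map g.op).hom f) ∨ IsUnit ((O.obj.map g.op).hom (1 - f))
      downward_closed := fun {Y Z g} hg k => by
        rw [op_comp, Functor.map_comp]
        exact hg.imp (fun hu => hu.map (O.obj.map k.op).hom) (fun hu => hu.map (O.obj.map k.op).hom) }
  refine ⟨T, Groth.Agent.Lib.SiteStalk.Germ.mem_of_hit hP T fun q _ x => ?_, fun V g hg => hg⟩
  have hu : IsUnit (Groth.Agent.Lib.SiteStalk.Germ.germRingHom q U x f) ∨
      IsUnit (1 - Groth.Agent.Lib.SiteStalk.Germ.germRingHom q U x f) := by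
    rcases h q with hs | hl
    · exact Or.inl (isUnit_of_subsingleton _)
    · exact IsLocalRing.isUnit_or_isUnit_one_sub_self _
  rcases hu with hu | hu
  · obtain ⟨Y, g, hg, hy⟩ := Groth.Agent.Lib.SiteStalk.Local.hit_isUnit q x f hu
    exact ⟨Y, g, Or.inl hg, hy⟩
  · rw [← map_one (Groth.Agent.Lib.SiteStalk.Germ.germRingHom q U x), ← map_sub] at hu
    obtain ⟨Y, g, hg, hy⟩ := Groth.Agent.Lib.SiteStalk.Local.hit_isUnit q x _ hu
    exact ⟨Y, g, Or.inr hg, hy⟩

end Groth.Agent.S9091
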