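import Groth.Statements.S9094
import Groth.Agent.Lib.SiteKFlat.Basic
-- import your own Groth.Agent.* helpers here

set_option autoImplicit false
universe u
open CategoryTheory
open ModSite

namespace Groth.Agent.S9094

/-- Part (4): on a small ringed site (C, O) with O commutative: every O-module is a quotient of a flat
O-module; there exist a flat O-module G (tensoring with G is exact) and an epimorphism G → F. -/
theorem result {C : Type u} [SmallCategory C] {J : GrothendieckTopology C}
    (O : Sheaf J CommRingCat.{u}) (F : ModSite.Mod O) :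
    ∃ (G : ModSite.Mod O) (π : G ⟶ F), ModSite.IsFlat G ∧ Epi π := by
  let T := Σ U : C, ModSite.freeOn O U ⟶ F
  refine ⟨∐ fun t : T => ModSite.freeOn O t.1, Limits.Sigma.desc fun t : T => t.2,
    Groth.Agent.Lib.SiteKFlat.Basic.isFlat_sigma _ fun t =>
      Groth.Agent.Lib.ExtZero.ModSite.isFlat_freeOn O t.1, ?_⟩
  refine Groth.Agent.Lib.DerivedOX.LeftRes.epi_of_forall_lift
    (Groth.Agent.Lib.SiteKFlat.Basic.isSeparating_gen O) _ fun U g => ?_
  exact ⟨Limits.Sigma.ι (fun t : T => ModSite.freeOn O t.1) ⟨U, g⟩, by simp⟩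

end Groth.Agent.S9094
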