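import Groth.Agent.Lib.SiteAb28.ConstSections
import Groth.Statements.S9097
-- import your own Groth.Agent.* helpers here

set_option autoImplicit false
universe u
open CategoryTheory Opposite
open CohSite

namespace Groth.Agent.S9097

/-- If 0 → A → B → C → 0 is short exact in the category of abelian groups then, for every object U, the
sequence 0 → A̲(U) → B̲(U) → C̲(U) → 0 of sections of the constant abelian sheaves is short exact;
in other words the sequence of constant sheaves is exact even as a sequence of abelian presheaves.
The instance binder on the sections-of-constant-sheaf functor (it preserves zero morphisms) always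
holds and is only needed to form the complex. -/
theorem result {C : Type u} [SmallCategory C] (J : GrothendieckTopology C)
    (S : ShortComplex AddCommGrpCat.{u}) (hS : S.ShortExact) (U : C)
    [(constantSheaf J AddCommGrpCat.{u} ⋙ (sheafSections J AddCommGrpCat.{u}).obj (op U)).PreservesZeroMorphisms] :
    (S.map (constantSheaf J AddCommGrpCat.{u} ⋙ (sheafSections J AddCommGrpCat.{u}).obj (op U))).ShortExact := by
  exact Lib.SiteAb28.ConstSections.sections_shortExact J S hS (Opposite.op U)

end Groth.Agent.S9097
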