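import Groth.Statements.S9098
import Groth.Agent.Lib.ModSiteLoc.PullFree

set_option autoImplicit false
universe u
open CategoryTheory
open ModSite

namespace Groth.Agent.S9098

/-- Part (6): for a morphism of ringed sites f : (C, O_C) → (D, O_D) between small sites with
commutative structure sheaves (hence for the morphism of ringed topoi it induces): if the O_D-module
F is quasi-coherent (locally on a family of objects covering the final object it has a presentation
as the cokernel of a map between direct sums of copies of the structure sheaf), then its module
inverse image f^*F has the same property. -/
theorem result {C D : Type u} [SmallCategory C] [SmallCategory D] {J : GrothendieckTopology C}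
    {K : GrothendieckTopology D} {O_C : Sheaf J CommRingCat.{u}} {O_D : Sheaf K CommRingCat.{u}}
    (f : ModSite.RMor O_C O_D) (F : ModSite.Mod O_D)
    [SheafOfModules.IsQuasicoherent (R := ModSite.ringSh O_D) F] :
    SheafOfModules.IsQuasicoherent (R := ModSite.ringSh O_C) (f.pull.obj F) := by
  exact Groth.Agent.Lib.ModSiteLoc.PullFree.isQuasicoherent_pull f inferInstance

end Groth.Agent.S9098
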