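import Groth.Statements.S9104
import Groth.Agent.Lib.RMorLocal.InvRing
import Groth.Agent.Lib.RMorLocal.Unit
-- import your own Groth.Agent.* helpers here

set_option autoImplicit false
universe u
open CategoryTheory
open ModSite

namespace Groth.Agent.S9104

/-- Part (1): for a morphism of ringed sites f : (C, O_C) → (D, O_D) between small sites with
commutative structure sheaves (only the underlying morphism of topoi is used): if (D, O_D) is a
locally ringed site then C equipped with the pulled-back sheaf of rings f⁻¹O_D is a locally ringed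
site. -/
theorem result {C D : Type u} [SmallCategory C] [SmallCategory D] {J : GrothendieckTopology C}
    {K : GrothendieckTopology D} {O_C : Sheaf J CommRingCat.{u}} {O_D : Sheaf K CommRingCat.{u}}
    (f : ModSite.RMor O_C O_D) (hD : ModSite.IsLocallyRinged K O_D) : ModSite.IsLocallyRinged J f.invRing := by
  refine ⟨fun U z => ?_, fun U h01 => ?_⟩
  · let T : Sieve U :=
      { arrows := fun V g => IsUnit ((f.invRing.obj.map g.op).hom z) ∨
          IsUnit ((f.invRing.obj.map g.op).hom (1 - z))
        downward_closed := fun {Y Z g} hg k => by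
          rw [op_comp, Functor.map_comp]
          exact hg.imp (fun hu => hu.map (f.invRing.obj.map k.op).hom)
            (fun hu => hu.map (f.invRing.obj.map k.op).hom) }
    obtain ⟨S, hS, H⟩ := Groth.Agent.Lib.RMorLocal.InvRing.exists_cover_eps (J := J) K f.fn O_D z
    refine ⟨T, J.transitive hS _ (fun Y g hg => ?_), fun V g hg => hg⟩
    obtain ⟨d, ψ, r, hr⟩ := H g hg
    obtain ⟨S', hS', hu⟩ := hD.1 d r
    obtain ⟨R, hR, HR⟩ := Groth.Agent.Lib.RMorLocal.Basic.exists_cover_lift (J := J) K f.fn ψ hS'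
    refine J.superset_covering (fun Z k hk => ?_) hR
    obtain ⟨d', a, ψ', ha, hψ⟩ := HR k hk
    have e : (f.invRing.obj.map (k ≫ g).op).hom z =
        Groth.Agent.Lib.RMorLocal.InvRing.eps (J := J) K f.fn O_D ψ' ((O_D.obj.map a.op).hom r) := by
      rw [Groth.Agent.Lib.RMorLocal.InvRing.eps_map, hψ,
        ← Groth.Agent.Lib.RMorLocal.InvRing.map_eps, op_comp, Functor.map_comp]
      exact congrArg (f.invRing.obj.map k.op).hom hr.symm
    change IsUnit _ ∨ IsUnit _
    rw [map_sub, map_one, e]
    refine (hu a ha).imp (fun hh => hh.map _) (fun hh => ?_)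
    have := hh.map (Groth.Agent.Lib.RMorLocal.InvRing.eps (J := J) K f.fn O_D ψ')
    rwa [map_sub, map_one, map_sub, map_one] at this
  · obtain ⟨S, hS, H⟩ := Groth.Agent.Lib.RMorLocal.Basic.exists_cover_obj (J := J) (K := K) f.fn U
    refine J.transitive hS _ (fun Y g hg => ?_)
    obtain ⟨d, ⟨ψ⟩⟩ := H g hg
    have e : Groth.Agent.Lib.RMorLocal.InvRing.eps (J := J) K f.fn O_D ψ 0 =
        Groth.Agent.Lib.RMorLocal.InvRing.eps (J := J) K f.fn O_D ψ 1 := by
      rw [map_zero, map_one]
      simpa using congrArg (f.invRing.obj.map g.op).hom h01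
    obtain ⟨S₁, hS₁, H₁⟩ :=
      Groth.Agent.Lib.RMorLocal.InvRing.exists_cover_eps_eq (J := J) K f.fn O_D ψ 0 1 e
    refine J.transitive hS₁ _ (fun Z k hk => ?_)
    obtain ⟨d', a, ψ', ha, hψ⟩ := H₁ k hk
    rw [map_zero, map_one] at ha
    obtain ⟨R, hR, HR⟩ :=
      Groth.Agent.Lib.RMorLocal.Basic.exists_cover_lift (J := J) K f.fn ψ' (hD.2 d' ha)
    refine J.superset_covering (fun W m hm => ?_) hR
    obtain ⟨_, _, _, hbot, _⟩ := HR m hm
    exact hbot.elim

end Groth.Agent.S9104
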