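import Groth.Statements.S9105
import Mathlib.CategoryTheory.Sites.Over
-- import your own Groth.Agent.* helpers here

set_option autoImplicit false
universe u
open CategoryTheory
open ModSite

namespace Groth.Agent.S9105

/-- If (C, O) is a locally ringed site (C small, O a sheaf of commutative rings) and U is an object of
C, then the localised ringed site (C/U, O_U) is again locally ringed. -/
theorem result {C : Type u} [SmallCategory C] {J : GrothendieckTopology C} (O : Sheaf J CommRingCat.{u})
    (hO : ModSite.IsLocallyRinged J O) (U : C) : ModSite.IsLocallyRinged (J.over U) (O.over U) := by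
  refine ⟨fun V f => ?_, fun V h01 => ?_⟩
  · obtain ⟨S, hS, hcov⟩ := hO.1 V.left f
    exact ⟨(Sieve.overEquiv V).symm S, GrothendieckTopology.overEquiv_symm_mem_over J V S hS,
      fun W g hg => hcov g.left ((Sieve.overEquiv_symm_iff S g).1 hg)⟩
  · refine (J.over U).superset_covering (fun W g hg => ?_)
      (GrothendieckTopology.overEquiv_symm_mem_over J V ⊥ (hO.2 V.left h01))
    exact ((Sieve.overEquiv_symm_iff ⊥ g).1 hg).elim

end Groth.Agent.S9105
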