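import Groth.Statements.S9109
import Mathlib.CategoryTheory.Sites.Point.Skyscraper
import Mathlib.Algebra.Category.Grp.Abelian
import Mathlib.CategoryTheory.Sites.Abelian
import Mathlib.CategoryTheory.Preadditive.AdditiveFunctor
import Groth.Agent.Lib.SiteCoh.Kill
import Groth.Agent.Lib.SiteCoh.Products
-- import your own Groth.Agent.* helpers here

set_option autoImplicit false
universe u
open CategoryTheory CategoryTheory.Limits
open CohSite

namespace Groth.Agent.S9109

/-- Part (1): on a small site (C, J) with a point p: the skyscraper functor p_* from abelian groups to
abelian sheaves on C (right adjoint to the stalk functor at p; its value on A is the sheaf U ↦ ∏_{x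
∈ p⁻¹U} A) is exact. As a right adjoint it preserves limits; the statement here is that it also
preserves finite colimits. -/
theorem result {C : Type u} [SmallCategory C] {J : GrothendieckTopology C}
    (p : GrothendieckTopology.Point.{u} J) :
    PreservesFiniteColimits (p.skyscraperSheafFunctor (A := AddCommGrpCat.{u})) := by
  let F := p.skyscraperSheafFunctor (A := AddCommGrpCat.{u})
  have : PreservesLimitsOfSize.{0, 0} F := inferInstance
  have : PreservesFiniteLimits F := PreservesLimitsOfSize.preservesFiniteLimits _
  have : F.Additive := Functor.additive_of_preserves_binary_products F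
  have : F.PreservesEpimorphisms := ⟨fun {M N} f _ => by
    have hf := (AddCommGrpCat.epi_iff_surjective f).1 inferInstance
    have : ∀ X, Epi ((F.map f).hom.app X) := fun X =>
      (AddCommGrpCat.epi_iff_surjective _).2 (Lib.SiteCoh.Products.pi_map_surjective _ fun _ => hf)
    have : Epi (F.map f).hom := NatTrans.epi_of_epi_app _
    exact (sheafToPresheaf J AddCommGrpCat.{u}).epi_of_epi_map this⟩
  have : F.PreservesHomology :=
    Functor.preservesHomology_of_preservesEpis_and_kernels F
  exact Functor.preservesFiniteColimits_of_preservesHomology F

end Groth.Agent.S9109
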