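import Groth.Statements.S9110
import Groth.Agent.Lib.FreeMod.Basic
-- import your own Groth.Agent.* helpers here

set_option autoImplicit false
universe u
open CategoryTheory CategoryTheory.Limits
open ModSite

namespace Groth.Agent.S9110

/-- Let C be a small category, O a presheaf of commutative rings on C and F a presheaf of O-modules such
that each F(U) is a flat O(U)-module. Then F is flat as a presheaf of modules, i.e. the functor G ↦
G ⊗_{p,O} F given by the sectionwise tensor product of presheaves of modules is exact (preserves
finite limits and finite colimits). -/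
theorem result {C : Type u} [SmallCategory C] (O : Cᵒᵖ ⥤ CommRingCat.{u})
    (F : PresheafOfModules.{u} (O ⋙ forget₂ CommRingCat.{u} RingCat.{u}))
    (hF : ∀ X : Cᵒᵖ, Module.Flat (O.obj X) (F.obj X)) :
    PreservesFiniteLimits (MonoidalCategory.tensorRight F) ∧ PreservesFiniteColimits (MonoidalCategory.tensorRight F) := by
  haveI hc : PreservesColimitsOfSize.{u, u} (MonoidalCategory.tensorRight F) := inferInstance
  haveI : PreservesFiniteColimits (MonoidalCategory.tensorRight F) :=
    PreservesColimitsOfSize.preservesFiniteColimits _
  haveI := preservesBinaryBiproducts_of_preservesBinaryCoproducts (MonoidalCategory.tensorRight F)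
  haveI : (MonoidalCategory.tensorRight F).Additive :=
    Functor.additive_of_preservesBinaryBiproducts _
  refine ⟨Lib.ModTensor.FlatMono.preservesFiniteLimits_of_mono _ (fun X Y f hf => ?_), inferInstance⟩
  rw [PresheafOfModules.mono_iff_surjective]
  intro U
  have h₀ := (PresheafOfModules.mono_iff_surjective f).1 hf
  haveI : Module.Flat ((O ⋙ forget₂ CommRingCat.{u} RingCat.{u}).obj U) (F.obj U) := hF U
  exact Module.Flat.rTensor_preserves_injective_linearMap (R := O.obj U) (M := F.obj U)
    (f.app U).hom (@h₀ U)

end Groth.Agent.S9110
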