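import Groth.Statements.S9111
import Mathlib.Algebra.Category.ModuleCat.Presheaf.Abelian
import Mathlib.Algebra.Category.ModuleCat.Presheaf.EpiMono
import Mathlib.Algebra.Category.ModuleCat.Presheaf.Free
import Mathlib.Algebra.Category.ModuleCat.Presheaf.Monoidal
import Mathlib.LinearAlgebra.TensorProduct.RightExactness
import Mathlib.RingTheory.Flat.Basic
import Mathlib.Algebra.Homology.ShortComplex.ModuleCat

set_option autoImplicit false
universe u
open CategoryTheory CategoryTheory.Limits
open ModSite

namespace Groth.Agent.S9111

open MonoidalCategory TensorProduct in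
theorem module_lemma {R : Type u} [CommRing R] {A B C K P G : Type u} [AddCommGroup A] [Module R A]
    [AddCommGroup B] [Module R B] [AddCommGroup C] [Module R C] [AddCommGroup K] [Module R K]
    [AddCommGroup P] [Module R P] [AddCommGroup G] [Module R G] [Module.Flat R P]
    (f : A →ₗ[R] B) (g : B →ₗ[R] C) (hf : Function.Injective f) (hfg : Function.Exact f g)
    (hg : Function.Surjective g) (i : K →ₗ[R] P) (q : P →ₗ[R] G) (hiq : Function.Exact i q)
    (hq : Function.Surjective q) (h : Function.Injective (i.rTensor C)) :
    Function.Injective (f.rTensor G) := by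
  rw [← LinearMap.ker_eq_bot, LinearMap.ker_eq_bot']
  intro a ha
  obtain ⟨a', rfl⟩ := LinearMap.lTensor_surjective A hq a
  have hb : (q.lTensor B) (f.rTensor P a') = 0 := by
    rw [← LinearMap.comp_apply, LinearMap.lTensor_comp_rTensor, ← LinearMap.rTensor_comp_lTensor, LinearMap.comp_apply]
    exact ha
  obtain ⟨k, hk⟩ := (lTensor_exact B hiq hq _).1 hb
  have hk0 : g.rTensor K k = 0 := by
    have h' : Function.Injective (i.lTensor C) := by
      intro x y hxy
      refine (TensorProduct.comm R C K).injective (h ?_)
      have e : ∀ z, i.rTensor C (TensorProduct.comm R C K z) = TensorProduct.comm R C P (i.lTensor C z) := fun z => by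
        induction z using TensorProduct.induction_on with
        | zero => simp
        | tmul a b => rfl
        | add a b ha hb => simp [ha, hb]
      rw [e, e, hxy]
    refine h' ?_
    rw [map_zero, ← LinearMap.comp_apply, LinearMap.lTensor_comp_rTensor, ← LinearMap.rTensor_comp_lTensor, LinearMap.comp_apply, hk,
      ← LinearMap.comp_apply, ← LinearMap.rTensor_comp, hfg.linearMap_comp_eq_zero, LinearMap.rTensor_zero,
      LinearMap.zero_apply]
  obtain ⟨k', hk'⟩ := (rTensor_exact K hfg hg _).1 hk0
  have ha' : a' = i.lTensor A k' := by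
    refine Module.Flat.rTensor_preserves_injective_linearMap (M := P) f hf ?_
    rw [← hk, ← hk', ← LinearMap.comp_apply, LinearMap.lTensor_comp_rTensor, ← LinearMap.rTensor_comp_lTensor]
    rfl
  rw [ha', ← LinearMap.comp_apply, ← LinearMap.lTensor_comp, hiq.linearMap_comp_eq_zero,
    LinearMap.lTensor_zero, LinearMap.zero_apply]

theorem exact_of_evaluation {J : Type u} [SmallCategory J]
    (S : ShortComplex (J ⥤ AddCommGrpCat.{u}))
    (h : ∀ j, (S.map ((evaluation J AddCommGrpCat.{u}).obj j)).Exact) : S.Exact := by
  rw [ShortComplex.exact_iff_isZero_homology]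
  refine Functor.isZero _ fun j => ?_
  exact ((ShortComplex.exact_iff_isZero_homology _).1 (h j)).of_iso
    (S.mapHomologyIso ((evaluation J AddCommGrpCat.{u}).obj j)).symm

open scoped MonoidalCategory in
/-- Let C be a small category and O a presheaf of commutative rings on C. If 0 → F'' → F' → F → 0 is a
short exact sequence of presheaves of O-modules whose right-hand term F is flat (the sectionwise
tensor product functor - ⊗_{p,O} F is exact), then for every presheaf of O-modules G the tensored
sequence 0 → F'' ⊗_{p,O} G → F' ⊗_{p,O} G → F ⊗_{p,O} G → 0 is short exact. The instance binder (the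
functor - ⊗_{p,O} G preserves zero morphisms) always holds and is only needed to form the complex. -/
theorem result {C : Type u} [SmallCategory C] (O : Cᵒᵖ ⥤ CommRingCat.{u})
    (S : ShortComplex (PresheafOfModules.{u} (O ⋙ forget₂ CommRingCat.{u} RingCat.{u}))) (hS : S.ShortExact)
    (hF : PreservesFiniteLimits (MonoidalCategory.tensorRight S.X₃) ∧ PreservesFiniteColimits (MonoidalCategory.tensorRight S.X₃))
    (G : PresheafOfModules.{u} (O ⋙ forget₂ CommRingCat.{u} RingCat.{u})) [(MonoidalCategory.tensorRight G).PreservesZeroMorphisms] :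
    (S.map (MonoidalCategory.tensorRight G)).ShortExact := by
  haveI := hS.mono_f
  haveI := hS.epi_g
  let R := O ⋙ forget₂ CommRingCat.{u} RingCat.{u}
  let P : PresheafOfModules.{u} R := PresheafOfModules.freeObj (G.presheaf ⋙ forget _)
  let q : P ⟶ G := PresheafOfModules.freeObjDesc (𝟙 _)
  haveI := hF.1
  haveI : Mono (kernel.ι q ▷ S.X₃) :=
    inferInstanceAs (Mono ((MonoidalCategory.tensorRight S.X₃).map (kernel.ι q)))
  have hev : ∀ X : Cᵒᵖ, (S.map (PresheafOfModules.evaluation R X)).ShortExact := fun X => hS.map_of_exact _
  have hevq : ∀ X : Cᵒᵖ, Function.Exact ((kernel.ι q).app X).hom (q.app X).hom := fun X => by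
    have h1 : (ShortComplex.mk (kernel.ι q) q (kernel.condition q)).Exact :=
      ShortComplex.exact_of_f_is_kernel _ (kernelIsKernel q)
    exact (ShortComplex.ShortExact.moduleCat_exact_iff_function_exact _).1
      (h1.map (PresheafOfModules.evaluation R X))
  have hinj : ∀ X : Cᵒᵖ, Function.Injective ((S.f ▷ G).app X).hom := fun X => by
    letI : CommRing (R.obj X) := inferInstanceAs (CommRing (O.obj X))
    haveI : Module.Flat (O.obj X) (P.obj X) :=
      inferInstanceAs (Module.Flat (O.obj X) ((G.presheaf ⋙ forget _).obj X →₀ O.obj X))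
    exact module_lemma (R := O.obj X) (S.f.app X).hom (S.g.app X).hom
      (PresheafOfModules.injective_of_mono S.f X)
      ((ShortComplex.ShortExact.moduleCat_exact_iff_function_exact _).1 (hev X).exact)
      (PresheafOfModules.surjective_of_epi S.g X)
      ((kernel.ι q).app X).hom (q.app X).hom (hevq X)
      (fun y => ⟨Finsupp.single y 1, by
        refine (ModuleCat.freeDesc_apply _ y).trans ?_
        rfl⟩)
      (PresheafOfModules.injective_of_mono (kernel.ι q ▷ S.X₃) X)
  have hsurj : ∀ X : Cᵒᵖ, Function.Surjective ((S.g ▷ G).app X).hom := fun X =>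
    LinearMap.rTensor_surjective (R := O.obj X) (G.obj X) (g := (S.g.app X).hom)
      (PresheafOfModules.surjective_of_epi S.g X)
  refine ShortComplex.ShortExact.mk' ?_ (PresheafOfModules.mono_of_injective fun X => hinj X)
    (PresheafOfModules.epi_of_surjective fun X => hsurj X)
  rw [← ShortComplex.exact_map_iff_of_faithful _ (PresheafOfModules.toPresheaf R)]
  refine exact_of_evaluation _ fun X => ?_
  rw [ShortComplex.ab_exact_iff_function_exact]
  exact rTensor_exact (R := O.obj X) (G.obj X) (f := (S.f.app X).hom) (g := (S.g.app X).hom)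
    ((ShortComplex.ShortExact.moduleCat_exact_iff_function_exact _).1 (hev X).exact)
    (PresheafOfModules.surjective_of_epi S.g X)

end Groth.Agent.S9111
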