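import Groth.Statements.S9112
import Groth.Agent.Lib.SiteStalk.Germ
import Groth.Agent.Lib.Modules.ToSheaf
import Mathlib.Algebra.Homology.ShortComplex.Ab
import Mathlib.Algebra.Homology.ShortComplex.ExactFunctor
-- import your own Groth.Agent.* helpers here

set_option autoImplicit false
universe u
open CategoryTheory
open ModSite

namespace Groth.Agent.S9112

/-- Part (1): on a small ringed site (C, O) with O commutative, for a point p of the site: the stalk
functor F ↦ F_p from O-modules to O_p-modules is exact. Stated on a short exact sequence 0 → F₁ → F₂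
→ F₃ → 0 of O-modules: the induced O_p-linear map F₁,p → F₂,p is injective, F₂,p → F₃,p is
surjective, and the range of the first is the kernel of the second. -/
theorem result {C : Type u} [SmallCategory C] {J : GrothendieckTopology C}
    (O : Sheaf J CommRingCat.{u}) (S : ShortComplex (ModSite.Mod O)) (hS : S.ShortExact)
    (p : GrothendieckTopology.Point.{u} J) :
    Function.Injective (ModSite.stalkMap p S.f).hom ∧ Function.Surjective (ModSite.stalkMap p S.g).hom ∧
      LinearMap.range (ModSite.stalkMap p S.f).hom = LinearMap.ker (ModSite.stalkMap p S.g).hom := by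
  haveI : Limits.PreservesFiniteLimits
      (SheafOfModules.toSheaf (ringSh O) ⋙ p.sheafFiber (A := AddCommGrpCat.{u})) :=
    Limits.comp_preservesFiniteLimits _ _
  haveI : Limits.PreservesFiniteColimits
      (SheafOfModules.toSheaf (ringSh O) ⋙ p.sheafFiber (A := AddCommGrpCat.{u})) :=
    Limits.comp_preservesFiniteColimits _ _
  have h := hS.map_of_exact (SheafOfModules.toSheaf (ringSh O) ⋙ p.sheafFiber (A := AddCommGrpCat.{u}))
  haveI := h.mono_f
  haveI := h.epi_g
  refine ⟨(AddCommGrpCat.mono_iff_injective _).1 h.mono_f,
    (AddCommGrpCat.epi_iff_surjective _).1 h.epi_g, ?_⟩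
  ext m
  exact SetLike.ext_iff.1 ((ShortComplex.ab_exact_iff_range_eq_ker).1 h.exact) m

end Groth.Agent.S9112
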