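import Groth.Statements.S9115
import Groth.Agent.Lib.FinPresFree.Site


set_option autoImplicit false
universe u
open CategoryTheory CategoryTheory.Limits Opposite
open ModSite

namespace Groth.Agent.S9115

/-- Let (C, O) be a small ringed site with O commutative and B a set of objects of C such that every
object has a covering family by members of B and each member of B is quasi-compact (its sheaf h_U^#
is a quasi-compact object of the topos). If F and G are O-modules of the form Coker(⊕_{j≤m}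
j_{V_j!}O_{V_j} → ⊕_{i≤n} j_{U_i!}O_{U_i}) with finitely many Uᵢ, Vⱼ in B, then so is the cokernel
of any morphism F → G. -/
theorem result {C : Type u} [SmallCategory C] {J : GrothendieckTopology C}
    (O : Sheaf J CommRingCat.{u}) (B : Set C)
    (hB₁ : ∀ X : C, ∃ (κ : Type u) (Y : κ → C) (g : ∀ k, Y k ⟶ X), Sieve.ofArrows Y g ∈ J X ∧ ∀ k, Y k ∈ B)
    (hB₂ : ∀ U ∈ B, CohCx.IsQcObject ((presheafToSheaf J (Type u)).obj (yoneda.obj U))) (F G : ModSite.Mod O) (α : F ⟶ G)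
    (hF : (∃ (m' n' : ℕ) (V' : Fin m' → C) (U' : Fin n' → C)
        (ψ : (∐ fun j => ModSite.freeOn O (V' j)) ⟶ ∐ fun i => ModSite.freeOn O (U' i)),
        (∀ j, V' j ∈ B) ∧ (∀ i, U' i ∈ B) ∧ Nonempty (F ≅ cokernel ψ)))
    (hG : (∃ (m' n' : ℕ) (V' : Fin m' → C) (U' : Fin n' → C)
        (ψ : (∐ fun j => ModSite.freeOn O (V' j)) ⟶ ∐ fun i => ModSite.freeOn O (U' i)),
        (∀ j, V' j ∈ B) ∧ (∀ i, U' i ∈ B) ∧ Nonempty (G ≅ cokernel ψ))) :
    (∃ (m' n' : ℕ) (V' : Fin m' → C) (U' : Fin n' → C)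
        (ψ : (∐ fun j => ModSite.freeOn O (V' j)) ⟶ ∐ fun i => ModSite.freeOn O (U' i)),
        (∀ j, V' j ∈ B) ∧ (∀ i, U' i ∈ B) ∧ Nonempty (cokernel α ≅ cokernel ψ)) := by
  rw [← Lib.FinPresFree.Site.fp_iff] at hF hG ⊢
  exact Lib.FinPresFree.Abstract.fp_cokernel (Lib.FinPresFree.Site.genAx O hB₁ hB₂) α
    (Lib.FinPresFree.Abstract.ft_of_fp hF) hG

end Groth.Agent.S9115
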