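import Groth.Statements.S9121
import Mathlib.CategoryTheory.Sites.EpiMono
import Mathlib.Algebra.Homology.ShortComplex.ExactFunctor

set_option autoImplicit false
set_option linter.style.haveILetI false
universe u
open CategoryTheory CategoryTheory.Limits
open CohSite

namespace Groth.Agent.S9121

/-- Part (1): for the morphism of topoi f : Sh(C) → Sh(D) attached to a continuous functor u : D ⥤ C
between small sites whose induced pullback of sheaves of sets is exact (f_* is restriction along u):
if f_* transforms epimorphisms of sheaves of sets into epimorphisms, then f_* on abelian sheaves is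
exact; being a right adjoint it preserves finite limits, and the statement is that it also preserves
finite colimits. -/
theorem result {C D : Type u} [SmallCategory C] [SmallCategory D]
    (J : GrothendieckTopology C) (K : GrothendieckTopology D) (u : D ⥤ C) [u.IsContinuous K J]
    [PreservesFiniteLimits (u.sheafPullback (Type u) K J)]
    [(u.sheafPushforwardContinuous (Type u) K J).PreservesEpimorphisms] :
    PreservesFiniteColimits (u.sheafPushforwardContinuous AddCommGrpCat.{u} K J) := by
  let F := u.sheafPushforwardContinuous AddCommGrpCat.{u} K J
  haveI : PreservesFiniteLimits F := inferInstance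
  rw [Functor.preservesFiniteColimits_iff_forall_exact_map_and_epi]
  intro S hS
  refine ⟨((Functor.preservesFiniteLimits_iff_forall_exact_map_and_mono F).1 inferInstance S hS).1, ?_⟩
  haveI := hS.epi_g
  rw [← Sheaf.isLocallySurjective_iff_epi']
  have h1 : Sheaf.IsLocallySurjective S.g := (Sheaf.isLocallySurjective_iff_epi' _ S.g).2 inferInstance
  let gT : (sheafCompose J (forget AddCommGrpCat.{u})).obj S.X₂ ⟶ (sheafCompose J (forget AddCommGrpCat.{u})).obj S.X₃ :=
    (sheafCompose J (forget AddCommGrpCat.{u})).map S.g
  haveI : Sheaf.IsLocallySurjective gT := ⟨fun {U} s => h1.imageSieve_mem s⟩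
  haveI : Epi gT := (Sheaf.isLocallySurjective_iff_epi gT).1 inferInstance
  have h2 : Sheaf.IsLocallySurjective ((u.sheafPushforwardContinuous (Type u) K J).map gT) :=
    (Sheaf.isLocallySurjective_iff_epi _).2 inferInstance
  exact ⟨fun {U} s => h2.imageSieve_mem s⟩

end Groth.Agent.S9121
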