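import Groth.Statements.S9127
import Groth.Agent.H18.Catenary
import Mathlib.RingTheory.Spectrum.Prime.Topology

set_option autoImplicit false
universe u
open CAlg

namespace Groth.Agent.S9127

/-- A Noetherian ring is catenary if and only if its quotient by every minimal prime is catenary. -/
theorem result (R : Type u) [CommRing R] [IsNoetherianRing R] :
    CAlg.IsCatenary R ↔ ∀ p ∈ minimalPrimes R, CAlg.IsCatenary (R ⧸ p) := by
  refine ⟨fun h p _ => Groth.Agent.H18.Catenary.isCatenary_of_emb
    (Groth.Agent.H18.Catenary.isConvexEmb_of_surjective (Ideal.Quotient.mk p) Ideal.Quotient.mk_surjective) h,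
    fun h => Groth.Agent.H18.Catenary.isCatenary_of_cover R fun p q hpq => ?_⟩
  obtain ⟨p₀, hp₀, hle⟩ := Ideal.exists_minimalPrimes_le (I := (⊥ : Ideal R)) (J := p.asIdeal) bot_le
  have hr : ∀ x : PrimeSpectrum R, p₀ ≤ x.asIdeal →
      ∃ y, PrimeSpectrum.comap (Ideal.Quotient.mk p₀) y = x := fun x hx => by
    change x ∈ Set.range _
    rw [range_comap_of_surjective _ _ Ideal.Quotient.mk_surjective, Ideal.mk_ker]
    exact hx
  exact ⟨R ⧸ p₀, inferInstance, _, Groth.Agent.H18.Catenary.isConvexEmb_of_surjective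
    (Ideal.Quotient.mk p₀) Ideal.Quotient.mk_surjective, h p₀ hp₀, hr p hle, hr q (hle.trans hpq)⟩

end Groth.Agent.S9127
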