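import Groth.Statements.S9129
import Groth.Agent.H54.DimFlat
import Mathlib.RingTheory.HopkinsLevitzki

set_option autoImplicit false
universe u
open CAlg

namespace Groth.Agent.S9129

/-- Suppose R → S is a flat local homomorphism between Noetherian local rings, with R Cohen–Macaulay.
Assume either that S is finite over R or that the Krull dimension of S is at most that of R. Then
the two rings have equal dimension and S is itself Cohen–Macaulay. -/
theorem result (R S : Type u) [CommRing R] [CommRing S]
    [LocCoh.IsCohenMacaulayLocalRing R] [IsNoetherianRing S] [IsLocalRing S] [Algebra R S]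
    [IsLocalHom (algebraMap R S)] [Module.Flat R S]
    (h : Module.Finite R S ∨ ringKrullDim S ≤ ringKrullDim R) :
    LocCoh.IsCohenMacaulayLocalRing S ∧ ringKrullDim R = ringKrullDim S := by
  let mS : Ideal S := (IsLocalRing.maximalIdeal R).map (algebraMap R S)
  haveI : IsLocalRing (S ⧸ mS) := EGA4.isLocalRing_fibRing R S
  have hsum : ringKrullDim S = ringKrullDim R + ringKrullDim (S ⧸ mS) := by
    have h1 := Groth.Agent.H54.DimFlat.supportDim_tensor (A := R) (B := S) (M := R) (N := S)
    rw [Module.supportDim_eq_of_equiv (Algebra.TensorProduct.rid R S S).toLinearEquiv,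
      Module.supportDim_self_eq_ringKrullDim, Module.supportDim_self_eq_ringKrullDim] at h1
    rw [h1]
    congr 1
    rw [Module.supportDim_eq_of_equiv (Submodule.quotEquivOfEq _ mS (by
      rw [smul_eq_mul, Ideal.mul_top])), Module.supportDim_quotient_eq_ringKrullDim]
  have h0 : ringKrullDim (S ⧸ mS) ≤ 0 := by
    rcases h with hfin | hle
    · letI : Field (R ⧸ IsLocalRing.maximalIdeal R) := Ideal.Quotient.field _
      haveI : IsArtinianRing (R ⧸ IsLocalRing.maximalIdeal R) := inferInstance
      haveI : Module.Finite R (S ⧸ mS) := Module.Finite.of_surjective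
        (Ideal.Quotient.mkₐ R mS).toLinearMap Ideal.Quotient.mk_surjective
      letI : Algebra (R ⧸ IsLocalRing.maximalIdeal R) (S ⧸ mS) :=
        (Ideal.quotientMap mS (algebraMap R S) Ideal.le_comap_map).toAlgebra
      haveI : IsScalarTower R (R ⧸ IsLocalRing.maximalIdeal R) (S ⧸ mS) :=
        IsScalarTower.of_algebraMap_eq fun x => rfl
      haveI : Module.Finite (R ⧸ IsLocalRing.maximalIdeal R) (S ⧸ mS) :=
        Module.Finite.of_restrictScalars_finite R _ _
      haveI : IsArtinianRing (S ⧸ mS) := IsArtinianRing.of_finite (R ⧸ IsLocalRing.maximalIdeal R) (S ⧸ mS)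
      exact Ring.krullDimLE_iff.1 (isArtinianRing_iff_krullDimLE_zero.1 ‹_›)
    · rw [hsum] at hle
      obtain ⟨a, ha⟩ := Groth.Agent.Lib.Depth.CM.supportDim_eq_nat (R := R) R
      obtain ⟨b, hb⟩ := Groth.Agent.Lib.Depth.CM.supportDim_eq_nat (R := S ⧸ mS) (S ⧸ mS)
      rw [Module.supportDim_self_eq_ringKrullDim] at ha hb
      rw [ha, hb] at hle
      rw [hb]
      norm_cast at hle ⊢
      omega
  haveI hF : LocCoh.IsCohenMacaulayLocalRing (S ⧸ mS) :=
    Groth.Agent.Lib.Depth.CM.isCohenMacaulayLocalRing_of_isRegular (rs := [])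
      (RingTheory.Sequence.IsRegular.nil _ _) (by simpa using h0)
  refine ⟨(Groth.Agent.H54.DimFlat.isCohenMacaulayLocalRing_iff_of_flat R S).2 ⟨inferInstance, hF⟩, ?_⟩
  rw [hsum, le_antisymm h0 (ringKrullDim_nonneg_of_nontrivial), add_zero]

end Groth.Agent.S9129
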