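import Groth.Statements.S9130
import Groth.Agent.S0554

set_option autoImplicit false
universe u
open CAlg

namespace Groth.Agent.S9130

/-- Let A ⊆ B be domains with B of finite type over A and A Noetherian, and assume every element of B is
algebraic over A. For a height-one prime p of A, only finitely many primes of B lie over p and each
of them has height one. (The published statement assumes that Frac(B) is finite over Frac(A); this
row assumes B algebraic over A, which is equivalent for a finite type extension of domains.) -/
theorem result (A B : Type u) [CommRing A] [IsDomain A]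
    [IsNoetherianRing A] [CommRing B] [IsDomain B] [Algebra A B] [FaithfulSMul A B]
    [Algebra.FiniteType A B] [Algebra.IsAlgebraic A B] (p : Ideal A) [p.IsPrime]
    (hp : p.height = 1) :
    (p.primesOver B).Finite ∧ ∀ q ∈ p.primesOver B, q.height = 1 := by
  have : IsNoetherianRing B := Algebra.FiniteType.isNoetherianRing A B
  obtain ⟨a, hap, ha0⟩ : ∃ a ∈ p, a ≠ 0 := Submodule.exists_mem_ne_zero_of_ne_bot fun h => by
    subst h; simp at hp
  have haB : algebraMap A B a ≠ 0 := by
    rwa [map_ne_zero_iff _ (FaithfulSMul.algebraMap_injective A B)]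
  have key : ∀ q ∈ p.primesOver B, q.height = 1 := by
    rintro q ⟨hq, hqp⟩
    apply le_antisymm
    · have h := Groth.Agent.S0554.result A B p q
      rw [show Algebra.trdeg A B = 0 from trdeg_eq_zero, add_zero, hp] at h
      have h' : (q.height : Cardinal.{u}) ≤ ((1 : ℕ∞) : Cardinal.{u}) := le_trans le_self_add h
      exact Cardinal.ofENat_le_ofENat.mp h'
    · rw [Order.one_le_iff_ne_zero]
      intro h
      rw [Ideal.height_eq_zero_iff_eq_bot] at h
      exact haB (by rw [← Ideal.mem_bot, ← h]; exact (Ideal.mem_of_liesOver q p a).mp hap)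
  refine ⟨(Ideal.finite_minimalPrimes_of_isNoetherianRing B
    (Ideal.span {algebraMap A B a})).subset ?_, key⟩
  intro q hq
  have hqh := key q hq
  obtain ⟨hq, hqp⟩ := hq
  refine ⟨⟨hq, ?_⟩, fun r hr hrq => ?_⟩
  · rw [Ideal.span_singleton_le_iff_mem]
    exact (Ideal.mem_of_liesOver q p a).mp hap
  · by_contra hne
    have : r.IsPrime := hr.1
    have hlt : r < q := lt_of_le_not_ge hrq hne
    have h1 := Ideal.height_le_iff.mp hqh.le r hr.1 hlt
    rw [Nat.cast_one, Order.lt_one_iff, Ideal.height_eq_zero_iff_eq_bot] at h1
    subst h1
    exact haB (by simpa using hr.2)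

end Groth.Agent.S9130
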