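import Groth.Statements.S9131
import Groth.Agent.H22.FlatLift

set_option autoImplicit false
universe u
open CAlg

namespace Groth.Agent.S9131

/-- Let R be a ring, I an ideal, and 0 → K → P → M → 0 a short exact sequence of R-modules with M flat
over R and M/IM projective over R/I. Then the induced sequence of I-adic completions is split short
exact: the map on completions of K → P is injective, the sequence is exact in the middle, and the
map on completions of P → M has a section linear over the completion of R (so it is surjective). -/
theorem result (R : Type u) [CommRing R] (I : Ideal R)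
    (K P M : Type u) [AddCommGroup K] [Module R K] [AddCommGroup P] [Module R P]
    [AddCommGroup M] [Module R M] (f : K →ₗ[R] P) (g : P →ₗ[R] M)
    (hf : Function.Injective f) (hg : Function.Surjective g) (hfg : Function.Exact f g)
    [Module.Flat R M] [Module.Projective (R ⧸ I) (M ⧸ (I • ⊤ : Submodule R M))] :
    Function.Injective (AdicCompletion.map I f) ∧
      Function.Exact (AdicCompletion.map I f) (AdicCompletion.map I g) ∧
      ∃ s : AdicCompletion I M →ₗ[AdicCompletion I R] AdicCompletion I P,
        AdicCompletion.map I g ∘ₗ s = LinearMap.id := by
  refine ⟨?_, ?_, Groth.Agent.H22.FlatLift.exists_completion_section I g hg⟩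
  · exact (Groth.Agent.H22.Completion.injective_exact_of_comap_le I hg hfg 0 fun n =>
      Groth.Agent.H22.Completion.comap_le_of_flat hf hg hfg (I ^ (n + 0))).1
  · exact (Groth.Agent.H22.Completion.injective_exact_of_comap_le I hg hfg 0 fun n =>
      Groth.Agent.H22.Completion.comap_le_of_flat hf hg hfg (I ^ (n + 0))).2

end Groth.Agent.S9131
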