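import Groth.Statements.S9132
import Groth.Agent.H46.Dvr
import Mathlib.RingTheory.EssentialFiniteness
import Mathlib.RingTheory.Localization.AsSubring

set_option autoImplicit false
universe u
open CAlg

namespace Groth.Agent.S9132

theorem exists_subalgebra {B : Type u} [CommRing B] [IsDomain B] [IsNoetherianRing B] [IsLocalRing B]
    {L : Type u} [Field L] [Algebra B L] [IsFractionRing B L] (hB : ¬ IsField B) :
    ∃ R' : Subalgebra B L, ∃ _ : IsLocalRing R',
      IsNoetherianRing R' ∧ ringKrullDim R' = 1 ∧ IsLocalHom (algebraMap B R') ∧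
        Algebra.EssFiniteType B R' := by
  classical
  have hinj : Function.Injective (algebraMap B L) := IsFractionRing.injective B L
  obtain ⟨V0, -, hV0, hV0m⟩ := Groth.Agent.H46.Dvr.exists_dvr_dominating (L := L) hB
  obtain ⟨gens, hgens⟩ := IsNoetherian.noetherian (IsLocalRing.maximalIdeal B)
  let gens' := gens.filter (fun t => t ≠ 0)
  have hne : gens'.Nonempty := by
    by_contra h
    apply hB
    rw [IsLocalRing.isField_iff_maximalIdeal_eq, ← hgens, Submodule.span_eq_bot]
    intro t ht
    by_contra h0
    exact h ⟨t, Finset.mem_filter.2 ⟨ht, h0⟩⟩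
  obtain ⟨t, ht, htmax⟩ := gens'.exists_max_image (fun s => V0.valuation (algebraMap B L s)) hne
  obtain ⟨htg, ht0⟩ := Finset.mem_filter.1 ht
  have htm : t ∈ IsLocalRing.maximalIdeal B := hgens ▸ Submodule.subset_span htg
  have htL : algebraMap B L t ≠ 0 := (map_ne_zero_iff _ hinj).2 ht0
  let C := Algebra.adjoin B ((gens.image fun s => algebraMap B L s / algebraMap B L t : Finset L) : Set L)
  have : IsNoetherianRing C := isNoetherianRing_of_fg ⟨_, rfl⟩
  have hCV : ∀ c : C, (c : L) ∈ V0 := by
    rintro ⟨c, hc⟩
    induction hc using Algebra.adjoin_induction with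
    | mem x hx =>
      obtain ⟨s, hs, rfl⟩ := Finset.mem_image.1 hx
      rw [← ValuationSubring.valuation_le_one_iff, map_div₀]
      by_cases hs0 : s = 0
      · simp [hs0]
      · exact div_le_one₀ (zero_lt_iff.2 (by simpa using htL)) |>.2
          (htmax s (Finset.mem_filter.2 ⟨hs, hs0⟩))
    | algebraMap r => exact hV0 r
    | add x y _ _ hx hy => exact add_mem hx hy
    | mul x y _ _ hx hy => exact mul_mem hx hy
  let c0 : C := algebraMap B C t
  let Q : Ideal C := (IsLocalRing.maximalIdeal V0).comap ((C.toSubring.subtype).codRestrict V0.toSubring hCV)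
  have hQ : Ideal.span {c0} ≤ Q := by
    rw [Ideal.span_singleton_le_iff_mem, Ideal.mem_comap]
    exact (ValuationSubring.valuation_lt_one_iff V0 _).2 (hV0m t htm)
  obtain ⟨P, hP, -⟩ := Ideal.exists_minimalPrimes_le hQ
  have := hP.1.1
  have hPt : c0 ∈ P := hP.1.2 (Ideal.mem_span_singleton_self _)
  have hPm : ∀ b ∈ IsLocalRing.maximalIdeal B, algebraMap B C b ∈ P := by
    suffices (IsLocalRing.maximalIdeal B) ≤ P.comap (algebraMap B C) from fun b hb => this hb
    rw [← hgens, Submodule.span_le]
    intro s hs
    let q : C := ⟨_, Algebra.subset_adjoin (Finset.mem_coe.2 (Finset.mem_image_of_mem _ hs))⟩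
    have : algebraMap B C s = c0 * q := Subtype.ext (mul_div_cancel₀ _ htL).symm
    show algebraMap B C s ∈ P
    rw [this]; exact P.mul_mem_right _ hPt
  have hht : P.height ≤ 1 := Ideal.height_le_one_of_isPrincipal_of_mem_minimalPrimes _ P hP
  have : IsFractionRing C L := by
    refine .of_field C L fun x => ?_
    obtain ⟨a, b, hb, rfl⟩ := IsFractionRing.div_surjective (A := B) x
    exact ⟨algebraMap B C a, algebraMap B C b, rfl⟩
  have hC : C.FG := ⟨_, rfl⟩
  have hc0 : c0 ≠ 0 := fun h => htL (congrArg Subtype.val h)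
  have hne0 : P.height ≠ 0 := fun h => by
    rw [Ideal.height_eq_zero_iff, IsDomain.minimalPrimes_eq_singleton_bot, Set.mem_singleton_iff] at h
    rw [h] at hPt
    exact hc0 hPt
  have hS : P.primeCompl ≤ nonZeroDivisors C := fun y hy =>
    mem_nonZeroDivisors_of_ne_zero fun h => hy (h ▸ P.zero_mem)
  let RC : Subalgebra C L := Localization.subalgebra.ofField L P.primeCompl hS
  haveI : IsLocalization.AtPrime RC P := Localization.subalgebra.isLocalization_ofField L P.primeCompl hS
  let R' : Subalgebra B L := RC.restrictScalars B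
  haveI : IsLocalRing RC := IsLocalization.AtPrime.isLocalRing RC P
  haveI hloc : IsLocalRing R' := (inferInstance : IsLocalRing RC)
  haveI hnoe : IsNoetherianRing R' := (IsLocalization.isNoetherianRing P.primeCompl RC ‹_› : IsNoetherianRing RC)
  have hdim : ringKrullDim R' = 1 := by
    show ringKrullDim RC = 1
    rw [IsLocalization.AtPrime.ringKrullDim_eq_height P RC]
    exact_mod_cast le_antisymm hht (ENat.one_le_iff_ne_zero.2 hne0)
  refine ⟨R', hloc, hnoe, hdim, ⟨fun b hb => ?_⟩, ?_⟩
  · by_contra hu
    have h1 : IsUnit (algebraMap C RC (algebraMap B C b)) := hb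
    exact (IsLocalization.AtPrime.isUnit_to_map_iff RC P _).1 h1 (hPm b hu)
  · haveI : Algebra.FiniteType B C := (Subalgebra.fg_iff_finiteType C).1 hC
    haveI : Algebra.EssFiniteType C RC := Algebra.EssFiniteType.of_isLocalization RC P.primeCompl
    haveI : IsScalarTower B C RC := IsScalarTower.of_algebraMap_eq fun b => rfl
    exact (Algebra.EssFiniteType.comp B C RC : Algebra.EssFiniteType B RC)


/-- A Noetherian local domain R that is not a field is dominated by a Noetherian local ring R' of
dimension one lying between R and its fraction field, with R' essentially of finite type over R. -/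
theorem result (R : Type u) [CommRing R] [IsDomain R]
    [IsNoetherianRing R] [IsLocalRing R] (hR : ¬ IsField R) :
    ∃ R' : Subalgebra R (FractionRing R), ∃ _ : IsLocalRing R',
      IsNoetherianRing R' ∧ ringKrullDim R' = 1 ∧ IsLocalHom (algebraMap R R') ∧
        Algebra.EssFiniteType R R' := by
  exact exists_subalgebra (L := FractionRing R) hR

end Groth.Agent.S9132
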