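import Groth.Statements.S9133
import Groth.Agent.H24.RankLength
import Mathlib.RingTheory.Artinian.Ring
import Mathlib.RingTheory.KrullDimension.Field

set_option autoImplicit false
universe u
open CAlg

namespace Groth.Agent.S9133

/-- Let R → S be a homomorphism of domains compatible with field maps K → L of their fraction fields (so
R → S is injective), where R is Noetherian local of dimension one and L is finite over K. Then each
prime n of S whose contraction to R is the maximal ideal of R is a maximal ideal of S, only finitely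
many such n exist, and each quotient S/n is a finite R-module (its residue field is a finite
extension of that of R). -/
theorem result (R S K L : Type u)
    [CommRing R] [IsDomain R] [IsNoetherianRing R] [IsLocalRing R] (hdim : ringKrullDim R = 1)
    [CommRing S] [IsDomain S] [Algebra R S] [Field K] [Field L] [Algebra R K] [IsFractionRing R K]
    [Algebra S L] [IsFractionRing S L] [Algebra K L] [Algebra R L] [IsScalarTower R K L]
    [IsScalarTower R S L] [FiniteDimensional K L] :
    (∀ n ∈ (IsLocalRing.maximalIdeal R).primesOver S, n.IsMaximal) ∧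
      ((IsLocalRing.maximalIdeal R).primesOver S).Finite ∧
      ∀ n ∈ (IsLocalRing.maximalIdeal R).primesOver S, Module.Finite R (S ⧸ n) := by
  classical
  haveI : Ring.KrullDimLE 1 R := Ring.krullDimLE_iff.2 hdim.le
  obtain ⟨x, hxm, hx0⟩ : ∃ x ∈ IsLocalRing.maximalIdeal R, x ≠ 0 := by
    refine Submodule.exists_mem_ne_zero_of_ne_bot fun h => ?_
    have := IsLocalRing.isField_iff_maximalIdeal_eq.2 h
    letI := this.toField
    rw [ringKrullDim_eq_zero_of_field R] at hdim
    exact zero_ne_one hdim
  let b := Module.finBasis K L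
  let g : S →ₗ[R] Fin (Module.finrank K L) → K :=
    (b.equivFun.toLinearMap.restrictScalars R).comp (IsScalarTower.toAlgHom R S L).toLinearMap
  have hg : Function.Injective g := fun a a' h => IsFractionRing.injective S L (b.equivFun.injective h)
  let e : S ≃ₗ[R] LinearMap.range g := LinearEquiv.ofInjective g hg
  let e' : (S ⧸ Ideal.span ({x} : Set R) • (⊤ : Submodule R S)) ≃ₗ[R]
      (LinearMap.range g ⧸ Ideal.span ({x} : Set R) • (⊤ : Submodule R (LinearMap.range g))) :=
    Submodule.Quotient.equiv _ _ e (by rw [Submodule.map_smul'', Submodule.map_top, e.range])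
  let J : Ideal S := (Ideal.span ({x} : Set R)).map (algebraMap R S)
  let e'' : (S ⧸ Ideal.span ({x} : Set R) • (⊤ : Submodule R S)) ≃ₗ[R] S ⧸ J :=
    (Submodule.quotEquivOfEq _ _ (Ideal.smul_top_eq_map _)).trans (Submodule.Quotient.restrictScalarsEquiv R J)
  have hfl : IsFiniteLength R (S ⧸ J) := by
    rw [← Module.length_ne_top_iff, ← e''.length_eq, e'.length_eq]
    exact Groth.Agent.H24.RankLength.length_ne_top _ _ hx0
  obtain ⟨hN, hA⟩ := isFiniteLength_iff_isNoetherian_isArtinian.1 hfl
  haveI : IsArtinianRing (S ⧸ J) := isArtinian_of_tower R hA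
  haveI : Module.Finite R (S ⧸ J) := ⟨hN.noetherian ⊤⟩
  have hJ : ∀ n ∈ (IsLocalRing.maximalIdeal R).primesOver S, J ≤ n := by
    rintro n ⟨hn, hover⟩
    rw [Ideal.map_le_iff_le_comap, Ideal.span_le, Set.singleton_subset_iff]
    show x ∈ n.comap (algebraMap R S)
    rw [← Ideal.under_def, ← hover.over]
    exact hxm
  have hmap : ∀ n ∈ (IsLocalRing.maximalIdeal R).primesOver S, (n.map (Ideal.Quotient.mk J)).IsMaximal ∧
      (n.map (Ideal.Quotient.mk J)).comap (Ideal.Quotient.mk J) = n := by
    intro n hn
    haveI := hn.1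
    haveI : (n.map (Ideal.Quotient.mk J)).IsPrime :=
      Ideal.map_isPrime_of_surjective Ideal.Quotient.mk_surjective (by rw [Ideal.mk_ker]; exact hJ n hn)
    exact ⟨IsArtinianRing.isMaximal_of_isPrime _, by rw [Ideal.comap_map_quotientMk, sup_eq_right.2 (hJ n hn)]⟩
  refine ⟨fun n hn => ?_, ?_, fun n hn => ?_⟩
  · rw [← (hmap n hn).2]
    haveI := (hmap n hn).1
    exact Ideal.comap_isMaximal_of_surjective _ Ideal.Quotient.mk_surjective
  · refine ((Set.finite_range fun m : MaximalSpectrum (S ⧸ J) =>
      m.asIdeal.comap (Ideal.Quotient.mk J))).subset fun n hn => ?_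
    exact ⟨⟨_, (hmap n hn).1⟩, (hmap n hn).2⟩
  · exact Module.Finite.of_surjective (Ideal.Quotient.factorₐ R (hJ n hn)).toLinearMap
      (Ideal.Quotient.factor_surjective (hJ n hn))

end Groth.Agent.S9133
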