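import Groth.Statements.S9135
import Mathlib.RingTheory.QuasiFinite.Basic
import Mathlib.RingTheory.RingHom.Finite
import Mathlib.RingTheory.Localization.Integral
import Mathlib.RingTheory.Spectrum.Prime.Homeomorph
import Mathlib.LinearAlgebra.TensorProduct.RightExactness

set_option autoImplicit false
universe u
open CAlg

namespace Groth.Agent.S9135

open TensorProduct in
theorem exists_multiplier {R S : Type u} [CommRing R] [CommRing S] [Algebra R S]
    [Algebra.FiniteType R S] (p : Ideal R) [p.IsPrime] (hp : p ∈ minimalPrimes R)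
    (hfin : (p.primesOver S).Finite) (x : S) :
    ∃ m w : R, m ∉ p ∧ w ∉ p ∧ ∃ Q : Polynomial R, Q.Monic ∧
      algebraMap R S w * Polynomial.aeval (algebraMap R S m * x) Q = 0 := by
  let A := Localization.AtPrime p
  let κ := p.ResidueField
  let T := A ⊗[R] S
  haveI : Finite (p.primesOver S) := hfin.to_subtype
  haveI : Finite (PrimeSpectrum (p.Fiber S)) :=
    Finite.of_equiv _ (PrimeSpectrum.primesOverOrderIsoFiber R S p).toEquiv
  haveI : Algebra.QuasiFinite κ (p.Fiber S) :=
    Algebra.QuasiFinite.iff_finite_comap_preimage_singleton.mpr fun _ => Set.toFinite _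
  haveI : Module.Finite κ (p.Fiber S) := Module.Finite.of_quasiFinite
  have hnil : IsLocalRing.maximalIdeal A ≤ nilradical A := by
    rw [nilradical_eq_sInf A]
    refine le_sInf fun q hq => ?_
    haveI : q.IsPrime := hq
    have h1 : q.comap (algebraMap R A) ≤ p := fun r hr => by_contra fun h =>
      Ideal.IsPrime.ne_top ‹q.IsPrime› (q.eq_top_of_isUnit_mem hr
        (IsLocalization.map_units A (⟨r, h⟩ : p.primeCompl)))
    have h2 : p ≤ q.comap (algebraMap R A) := hp.2 ⟨Ideal.IsPrime.comap _, bot_le⟩ h1
    rw [← Localization.AtPrime.map_eq_maximalIdeal]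
    exact Ideal.map_le_iff_le_comap.mpr h2
  let φ : T →ₐ[R] p.Fiber S :=
    Algebra.TensorProduct.map (IsScalarTower.toAlgHom R A κ) (AlgHom.id R S)
  have hker : RingHom.ker φ ≤ nilradical T := by
    rw [Algebra.TensorProduct.rTensor_ker _ (IsLocalRing.residue_surjective (R := A)),
      Ideal.map_le_iff_le_comap]
    intro a ha
    have ha' : a ∈ IsLocalRing.maximalIdeal A := (IsLocalRing.residue_eq_zero_iff a).mp ha
    exact mem_nilradical.mpr ((mem_nilradical.mp (hnil ha')).map _)
  obtain ⟨P, hP, hP0⟩ := IsIntegral.of_finite κ ((1 : κ) ⊗ₜ[R] x : p.Fiber S)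
  have hlift : P ∈ Polynomial.lifts (algebraMap A κ) :=
    (Polynomial.lifts_iff_coeff_lifts _).mpr fun n => IsLocalRing.residue_surjective _
  obtain ⟨P', hP', -, hmon⟩ := Polynomial.lifts_and_natDegree_eq_and_monic hlift hP
  have hint : IsIntegral A ((1 : A) ⊗ₜ[R] x : T) := by
    have hmem : Polynomial.aeval ((1 : A) ⊗ₜ[R] x : T) P' ∈ RingHom.ker φ := by
      rw [RingHom.mem_ker, Polynomial.aeval_def]
      refine (Polynomial.hom_eval₂ P' (algebraMap A T) φ.toRingHom _).trans ?_
      refine Eq.trans ?_ hP0
      rw [← hP', Polynomial.eval₂_map]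
      congr 1
    obtain ⟨k, hk⟩ := mem_nilradical.mp (hker hmem)
    exact ⟨P' ^ k, hmon.pow k, by rw [← Polynomial.aeval_def, map_pow, hk]⟩
  obtain ⟨⟨m, hm⟩, hmint⟩ := IsIntegral.exists_multiple_integral_of_isLocalization p.primeCompl _ hint
  obtain ⟨Q, hQ, hQ0⟩ := hmint
  let ι : S →ₐ[R] T := Algebra.TensorProduct.includeRight
  have h1 : ι (Polynomial.aeval (algebraMap R S m * x) Q) = ι 0 := by
    rw [map_zero, ← Polynomial.aeval_algHom_apply, map_mul, AlgHom.commutes, ← Algebra.smul_def]
    exact hQ0
  haveI : IsLocalizedModule p.primeCompl (TensorProduct.mk R A S 1) :=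
    (isLocalizedModule_iff_isBaseChange p.primeCompl A (TensorProduct.mk R A S 1)).mpr
      (TensorProduct.isBaseChange R S A)
  obtain ⟨⟨w, hw⟩, hw0⟩ := IsLocalizedModule.exists_of_eq (S := p.primeCompl)
    (f := TensorProduct.mk R A S 1) h1
  exact ⟨m, w, hm, hw, Q, hQ, by simpa [Algebra.smul_def] using hw0⟩

/-- Let R → S be of finite type and p a minimal prime of R over which only finitely many primes of S
lie. Then for some g ∈ R outside p the localized map R_g → S_g is finite. -/
theorem result (R S : Type u) [CommRing R] [CommRing S]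
    [Algebra R S] [Algebra.FiniteType R S] (p : Ideal R) (hp : p ∈ minimalPrimes R)
    (hfin : (p.primesOver S).Finite) :
    ∃ g : R, g ∉ p ∧ (Localization.awayMap (algebraMap R S) g).Finite := by
  classical
  haveI : p.IsPrime := hp.1.1
  obtain ⟨s, hs⟩ := Algebra.FiniteType.out (R := R) (A := S)
  choose m w hm hw Q hQ hQ0 using fun x : s => exists_multiplier p hp hfin (x : S)
  refine ⟨∏ x : s, m x * w x, fun h => ?_, ?_⟩
  · obtain ⟨x, -, hx⟩ := Ideal.IsPrime.prod_mem_iff.mp h
    exact (Ideal.IsPrime.mem_or_mem ‹p.IsPrime› hx).elim (hm x) (hw x)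
  set g := ∏ x : s, m x * w x with hg
  let f := Localization.awayMap (algebraMap R S) g
  let Rg := Localization.Away g
  let Sg := Localization.Away (algebraMap R S g)
  letI : Algebra Rg Sg := f.toAlgebra
  haveI : IsScalarTower R Rg Sg := .of_algebraMap_eq fun r => by
    change _ = Localization.awayMap (algebraMap R S) g (algebraMap R Rg r)
    rw [IsScalarTower.algebraMap_apply R S Sg]
    exact (IsLocalization.map_eq _ r).symm
  haveI : Algebra.FiniteType Rg Sg := by
    haveI : Algebra.FiniteType R Sg := Algebra.FiniteType.trans (S := S) inferInstance inferInstance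
    exact Algebra.FiniteType.of_restrictScalars_finiteType R Rg Sg
  have hu : IsUnit (algebraMap R Sg g) := by
    rw [IsScalarTower.algebraMap_apply R S Sg]
    exact IsLocalization.Away.algebraMap_isUnit _
  have hgen : ∀ x : s, IsIntegral Rg (algebraMap S Sg x) := by
    intro x
    have hmu : IsUnit (algebraMap R Sg (m x) ) ∧ IsUnit (algebraMap R Sg (w x)) := by
      have hu' : IsUnit (∏ y : s, algebraMap R Sg (m y * w y)) := by rw [← map_prod]; exact hu
      have := (IsUnit.prod_iff (f := fun y : s => algebraMap R Sg (m y * w y))).mp hu' x (Finset.mem_univ _)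
      rwa [map_mul, IsUnit.mul_iff] at this
    have h0 := congrArg (algebraMap S Sg) (hQ0 x)
    rw [map_mul, map_zero, ← IsScalarTower.algebraMap_apply, hmu.2.mul_right_eq_zero,
      ← Polynomial.aeval_algebraMap_apply, map_mul, ← IsScalarTower.algebraMap_apply] at h0
    have h1 : IsIntegral R (algebraMap R Sg (m x) * algebraMap S Sg x) := ⟨Q x, hQ x, h0⟩
    have h2 := h1.tower_top (A := Rg)
    have hinv : IsUnit (algebraMap R Rg (m x)) := by
      have hug := IsLocalization.Away.algebraMap_isUnit (S := Rg) g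
      replace hug : IsUnit (∏ y : s, algebraMap R Rg (m y * w y)) := by rw [← map_prod]; exact hug
      have := (IsUnit.prod_iff (f := fun y : s => algebraMap R Rg (m y * w y))).mp hug x (Finset.mem_univ _)
      rw [map_mul, IsUnit.mul_iff] at this
      exact this.1
    obtain ⟨v, hv⟩ := hinv.exists_left_inv
    have h3 := (isIntegral_algebraMap (R := Rg) (A := Sg) (x := v)).mul h2
    rwa [IsScalarTower.algebraMap_apply R Rg Sg, ← mul_assoc, ← map_mul, hv, map_one, one_mul] at h3
  haveI : Algebra.IsIntegral Rg Sg := by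
    refine ⟨fun z => ?_⟩
    obtain ⟨y, ⟨_, k, rfl⟩, rfl⟩ :=
      IsLocalization.exists_mk'_eq (Submonoid.powers (algebraMap R S g)) z
    have hy : IsIntegral Rg (algebraMap S Sg y) := by
      have hy' : y ∈ Algebra.adjoin R (s : Set S) := by rw [hs]; exact Algebra.mem_top
      induction hy' using Algebra.adjoin_induction with
      | mem a ha => exact hgen ⟨a, ha⟩
      | algebraMap r =>
        rw [← IsScalarTower.algebraMap_apply R S Sg, IsScalarTower.algebraMap_apply R Rg Sg]
        exact isIntegral_algebraMap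
      | add a b _ _ ha hb => rw [map_add]; exact ha.add hb
      | mul a b _ _ ha hb => rw [map_mul]; exact ha.mul hb
    obtain ⟨v, hv⟩ := (IsLocalization.Away.algebraMap_isUnit (S := Rg) g).exists_left_inv
    have heq : IsLocalization.mk' Sg y (⟨_, k, rfl⟩ : Submonoid.powers (algebraMap R S g)) =
        algebraMap S Sg y * algebraMap Rg Sg (v ^ k) := by
      rw [IsLocalization.mk'_eq_iff_eq_mul]
      simp only [map_pow]
      rw [← IsScalarTower.algebraMap_apply R S Sg, IsScalarTower.algebraMap_apply R Rg Sg,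
        mul_assoc, ← mul_pow, ← map_mul, hv, map_one, one_pow, mul_one]
    exact heq ▸ hy.mul isIntegral_algebraMap
  exact (Algebra.IsIntegral.finite (R := Rg) (A := Sg) :)

end Groth.Agent.S9135
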