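import Groth.Statements.S9137
import Mathlib.RingTheory.ZariskisMainTheorem
import Mathlib.RingTheory.HopkinsLevitzki
import Mathlib.RingTheory.Artinian.Ring

set_option autoImplicit false
universe u
open CAlg

namespace Groth.Agent.S9137

open IsLocalRing

theorem finite_of_isFiniteLength {R B : Type u} [CommRing R] [CommRing B] [IsLocalRing B] [Algebra R B]
    [Module.Finite R (B ⧸ maximalIdeal B)] {M : Type u} [AddCommGroup M] [Module B M]
    (h : IsFiniteLength B M) : ∀ [Module R M] [IsScalarTower R B M], Module.Finite R M := by
  induction h with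
  | of_subsingleton => intros; exact inferInstance
  | @of_simple_quotient M _ _ N hsimple hN ih =>
    intro _ _
    haveI : Module.Finite R N := ih
    haveI : Module.Finite R (M ⧸ N) := by
      obtain ⟨I, hI, ⟨e⟩⟩ := (isSimpleModule_iff_quot_maximal (R := B) (M := M ⧸ N)).mp hsimple
      obtain rfl := IsLocalRing.eq_maximalIdeal hI
      exact Module.Finite.equiv (e.restrictScalars R).symm
    haveI : Module.Finite R (N.restrictScalars R) := ‹Module.Finite R N›
    haveI : Module.Finite R (M ⧸ N.restrictScalars R) :=
      Module.Finite.equiv (Submodule.Quotient.restrictScalarsEquiv R N).symm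
    exact Module.Finite.of_submodule_quotient (N.restrictScalars R)

end Groth.Agent.S9137

namespace Groth.Agent.S9137

/-- Let R → S be a local ring homomorphism between local rings, essentially of finite type, such that
the residue field of S is finite over that of R and S/m_R S has dimension zero. Then S is, as an
R-algebra, the localization of a finite R-algebra at a prime. -/
theorem result (R S : Type u) [CommRing R] [CommRing S]
    [IsLocalRing R] [IsLocalRing S] [Algebra R S] [IsLocalHom (algebraMap R S)]
    [Algebra.EssFiniteType R S]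
    (hres : Module.Finite (IsLocalRing.ResidueField R) (IsLocalRing.ResidueField S))
    (hdim : ringKrullDim (S ⧸ (IsLocalRing.maximalIdeal R).map (algebraMap R S)) = 0) :
    ∃ (S' : Type u) (_ : CommRing S') (_ : Algebra R S') (_ : Algebra S' S) (_ : IsScalarTower R S' S)
      (q : Ideal S') (_ : q.IsPrime), Module.Finite R S' ∧ IsLocalization.AtPrime S q := by
    classical
    let T := Algebra.EssFiniteType.subalgebra R S
    haveI hTloc : IsLocalization (Algebra.EssFiniteType.submonoid R S) S := inferInstance
    let P : Ideal T := (IsLocalRing.maximalIdeal S).comap (algebraMap T S)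
    haveI : P.IsPrime := Ideal.IsPrime.comap _
    have hMP : Algebra.EssFiniteType.submonoid R S = P.primeCompl := by
      ext t
      show IsUnit (algebraMap T S t) ↔ ¬ ¬ IsUnit (algebraMap T S t)
      rw [not_not]
    haveI : IsLocalization.AtPrime S P := by
      show IsLocalization P.primeCompl S
      rw [← hMP]; exact hTloc
    have hu : P.under R = IsLocalRing.maximalIdeal R := by
      ext r
      show ¬ IsUnit (algebraMap T S (algebraMap R T r)) ↔ ¬ IsUnit r
      rw [← IsScalarTower.algebraMap_apply R T S, isUnit_map_iff]
    set B := S ⧸ (IsLocalRing.maximalIdeal R).map (algebraMap R S) with hB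
    haveI : Nontrivial B := by
      by_contra hc
      haveI : Subsingleton B := not_nontrivial_iff_subsingleton.mp hc
      rw [ringKrullDim_eq_bot_of_subsingleton] at hdim
      exact WithBot.bot_ne_coe hdim
    haveI : IsLocalRing B := IsLocalRing.of_surjective' (Ideal.Quotient.mk _) Ideal.Quotient.mk_surjective
    haveI : IsNoetherianRing B := by
      haveI : Algebra.EssFiniteType (R ⧸ IsLocalRing.maximalIdeal R) B := .of_comp R _ _
      letI := Ideal.Quotient.field (IsLocalRing.maximalIdeal R)
      exact Algebra.EssFiniteType.isNoetherianRing (R ⧸ IsLocalRing.maximalIdeal R) B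
    haveI : Ring.KrullDimLE 0 B := Ring.krullDimLE_iff.mpr hdim.le
    haveI : IsArtinianRing B := IsNoetherianRing.isArtinianRing_of_krullDimLE_zero
    haveI : Module.Finite R (IsLocalRing.ResidueField S) := by
      haveI : Module.Finite R (IsLocalRing.ResidueField R) :=
        Module.Finite.of_surjective (IsScalarTower.toAlgHom R R _).toLinearMap IsLocalRing.residue_surjective
      exact Module.Finite.trans (IsLocalRing.ResidueField R) _
    haveI : Module.Finite R (B ⧸ IsLocalRing.maximalIdeal B) := by
      let g : S →ₐ[R] B ⧸ IsLocalRing.maximalIdeal B :=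
        (Ideal.Quotient.mkₐ R _).comp (Ideal.Quotient.mkₐ R _)
      have hk : IsLocalRing.maximalIdeal S ≤ RingHom.ker g := fun s hs =>
        Ideal.Quotient.eq_zero_iff_mem.mpr (fun h => hs (by
          haveI : IsLocalHom (Ideal.Quotient.mk ((IsLocalRing.maximalIdeal R).map (algebraMap R S))) :=
            .of_surjective _ Ideal.Quotient.mk_surjective
          exact isUnit_of_map_unit (Ideal.Quotient.mk ((IsLocalRing.maximalIdeal R).map (algebraMap R S))) s h))
      haveI : Module.Finite R (S ⧸ IsLocalRing.maximalIdeal S) := ‹Module.Finite R (IsLocalRing.ResidueField S)›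
      refine Module.Finite.of_surjective
        (Ideal.Quotient.liftₐ (IsLocalRing.maximalIdeal S) g hk :
          IsLocalRing.ResidueField S →ₐ[R] _).toLinearMap ?_
      intro z
      obtain ⟨b, rfl⟩ := Ideal.Quotient.mk_surjective z
      obtain ⟨s, rfl⟩ := Ideal.Quotient.mk_surjective b
      exact ⟨IsLocalRing.residue S s, rfl⟩
    haveI : Module.Finite R B := Groth.Agent.S9137.finite_of_isFiniteLength (B := B) (M := B)
      (isFiniteLength_iff_isNoetherian_isArtinian.mpr ⟨inferInstance, inferInstance⟩)
    haveI : Algebra.QuasiFinite R B := inferInstance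
    haveI : Algebra.WeaklyQuasiFiniteAt R P := by
      rw [Algebra.weaklyQuasiFiniteAt_iff, hu]
      let e : Localization.AtPrime P ≃ₐ[R] S :=
        (IsLocalization.algEquiv P.primeCompl (Localization.AtPrime P) S).restrictScalars R
      refine (Algebra.QuasiFinite.iff_of_algEquiv (Ideal.quotientEquivAlg _ _ e ?_)).mpr
        ‹Algebra.QuasiFinite R B›
      rw [Ideal.map_map]
      congr 1
      exact (AlgHom.comp_algebraMap (e : Localization.AtPrime P →ₐ[R] S)).symm
    obtain ⟨S', hS'fg, r, hr, hbij⟩ :=
      Algebra.QuasiFiniteAt.exists_fg_and_exists_notMem_and_awayMap_bijective (R := R) P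
    have hsurj := Localization.awayMap_surjective_iff.mp hbij.2
    haveI : Module.Finite R S' := ⟨(Submodule.fg_top _).mpr hS'fg⟩
    let ψ : S' →ₐ[R] S := (IsScalarTower.toAlgHom R T S).comp S'.val
    letI : Algebra S' S := ψ.toRingHom.toAlgebra
    haveI : IsScalarTower R S' S := IsScalarTower.of_algebraMap_eq fun x => (ψ.commutes x).symm
    refine ⟨S', inferInstance, inferInstance, inferInstance, inferInstance,
      P.comap S'.val.toRingHom, inferInstance, inferInstance, ?_⟩
    refine (isLocalization_iff _ _).mpr ⟨fun x => IsLocalization.map_units S (⟨x.1.1, x.2⟩ : P.primeCompl),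
      fun x => ?_, fun {x y} hxy => ?_⟩
    · obtain ⟨⟨a, t⟩, hat⟩ := IsLocalization.surj P.primeCompl x
      obtain ⟨c, n, hc⟩ := hsurj a
      obtain ⟨d, m, hd⟩ := hsurj t
      refine ⟨⟨c * r ^ m, ⟨d * r ^ n, fun h => ?_⟩⟩, ?_⟩
      · have h' : d.1 * r.1 ^ n ∈ P := h
        rw [show (d : T) = _ from hd] at h'
        rcases (inferInstance : P.IsPrime).mem_or_mem h' with h1 | h1
        · rcases (inferInstance : P.IsPrime).mem_or_mem h1 with h2 | h2
          · exact hr ((inferInstance : P.IsPrime).mem_of_pow_mem _ h2)
          · exact t.2 h2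
        · exact hr ((inferInstance : P.IsPrime).mem_of_pow_mem _ h1)
      · show x * algebraMap T S (d.1 * r.1 ^ n) = algebraMap T S (c.1 * r.1 ^ m)
        rw [show (c : T) = _ from hc, show (d : T) = _ from hd]
        simp only [map_mul, map_pow]
        show x * (algebraMap T S r.1 ^ m * algebraMap T S t * algebraMap T S r.1 ^ n) =
          algebraMap T S r.1 ^ n * algebraMap T S a * algebraMap T S r.1 ^ m
        rw [← hat]
        ring
    · obtain ⟨t, ht⟩ := IsLocalization.exists_of_eq (M := P.primeCompl) (S := S)
        (show algebraMap T S x.1 = algebraMap T S y.1 from hxy)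
      obtain ⟨d, m, hd⟩ := hsurj t
      refine ⟨⟨d, fun h => ?_⟩, Subtype.ext ?_⟩
      · have h' : (d : T) ∈ P := h
        rw [show (d : T) = _ from hd] at h'
        rcases (inferInstance : P.IsPrime).mem_or_mem h' with h1 | h1
        exacts [hr ((inferInstance : P.IsPrime).mem_of_pow_mem _ h1), t.2 h1]
      · show (d : T) * x.1 = d.1 * y.1
        rw [show (d : T) = _ from hd]
        show r.1 ^ m * t * x.1 = r.1 ^ m * t * y.1
        rw [mul_assoc, ht, ← mul_assoc]

end Groth.Agent.S9137
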