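import Groth.Statements.S9138
import Mathlib
import Groth.Agent.H30.Stalk

set_option autoImplicit false
universe u
open CAlg

namespace Groth.Agent.S9138

theorem cauchy_iff {S : Type u} [CommRing S] (J : Ideal S) (f : ℕ → S) (n : ℕ) :
    f n ≡ f (n + 1) [SMOD (J ^ n • ⊤ : Submodule S S)] ↔ f n - f (n + 1) ∈ J ^ n := by
  rw [SModEq.sub_mem, smul_eq_mul, Ideal.mul_top]

theorem cauchy_sub_mem {S : Type u} [CommRing S] (J : Ideal S)
    (y : AdicCompletion.AdicCauchySequence J S) {a b : ℕ} (hab : a ≤ b) :
    y.val a - y.val b ∈ J ^ a := by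
  have h := y.property hab
  rwa [SModEq.sub_mem, smul_eq_mul, Ideal.mul_top] at h

theorem complMap_id_bijective {S : Type u} [CommRing S] (J K : Ideal S) (N : ℕ) (hN : K ^ N ≤ J)
    (h : J.map (RingHom.id S) ≤ K) :
    Function.Bijective (FSch.complMap J K (RingHom.id S) h) := by
  constructor
  · rw [injective_iff_map_eq_zero]
    intro x hx
    obtain ⟨y, rfl⟩ := AdicCompletion.mk_surjective J S x
    refine AdicCompletion.ext_evalₐ fun n => ?_
    rw [AdicCompletion.evalₐ_mk, map_zero, Ideal.Quotient.eq_zero_iff_mem]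
    have h1 := congrArg (AdicCompletion.evalₐ K ((N + 1) * n)) hx
    rw [Groth.Agent.H30.Stalk.evalₐ_complMap, AdicCompletion.evalₐ_mk, Ideal.quotientMap_mk, map_zero,
      Ideal.Quotient.eq_zero_iff_mem, RingHom.id_apply, pow_mul] at h1
    have h2 : y.val ((N + 1) * n) ∈ J ^ n :=
      (Ideal.pow_right_mono ((Ideal.pow_le_pow_right N.le_succ).trans hN) n) h1
    have h3 := cauchy_sub_mem J y (show n ≤ (N + 1) * n from Nat.le_mul_of_pos_left n N.succ_pos)
    simpa using add_mem h3 h2
  · intro z
    obtain ⟨w, rfl⟩ := AdicCompletion.mk_surjective K S z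
    refine ⟨AdicCompletion.mk J S (AdicCompletion.AdicCauchySequence.mk J S
      (fun n => w.val ((N + 1) * n)) fun n => (cauchy_iff J (fun n => w.val ((N + 1) * n)) n).2 ?_), ?_⟩
    · have h1 := cauchy_sub_mem K w (Nat.mul_le_mul_left (N + 1) n.le_succ)
      rw [pow_mul] at h1
      exact (Ideal.pow_right_mono ((Ideal.pow_le_pow_right N.le_succ).trans hN) n) h1
    · refine AdicCompletion.ext_evalₐ fun n => ?_
      rw [Groth.Agent.H30.Stalk.evalₐ_complMap, AdicCompletion.evalₐ_mk, AdicCompletion.evalₐ_mk,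
        Ideal.quotientMap_mk, RingHom.id_apply, Ideal.Quotient.eq, ← neg_sub]
      exact neg_mem (cauchy_sub_mem K w (Nat.le_mul_of_pos_left n N.succ_pos))

theorem decompose {R S : Type u} [CommRing R] [CommRing S] [Algebra R S] (m : Ideal R) {r : ℕ}
    (b : Fin r → S)
    (hb : ∀ s : S, ∃ a : Fin r → R, s - ∑ i, algebraMap R S (a i) * b i ∈ m.map (algebraMap R S))
    (k : ℕ) (s : S) (hs : s ∈ (m ^ k).map (algebraMap R S)) :
    ∃ a : Fin r → R, (∀ i, a i ∈ m ^ k) ∧
      s - ∑ i, algebraMap R S (a i) * b i ∈ (m ^ (k + 1)).map (algebraMap R S) := by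
  suffices ∀ t : S, ∃ a : Fin r → R, (∀ i, a i ∈ m ^ k) ∧
      t * s - ∑ i, algebraMap R S (a i) * b i ∈ (m ^ (k + 1)).map (algebraMap R S) by
    simpa using this 1
  induction hs using Submodule.span_induction with
  | zero => exact fun t => ⟨0, fun _ => zero_mem _, by simp⟩
  | add x y _ _ hx hy =>
    intro t
    obtain ⟨a, ha, h⟩ := hx t
    obtain ⟨a', ha', h'⟩ := hy t
    refine ⟨a + a', fun i => add_mem (ha i) (ha' i), ?_⟩
    convert add_mem h h' using 1
    simp only [Pi.add_apply, map_add, add_mul, Finset.sum_add_distrib]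
    ring
  | smul c x _ hx =>
    intro t
    rw [smul_eq_mul, ← mul_assoc]
    exact hx (t * c)
  | mem x hx =>
    obtain ⟨y, hy, rfl⟩ := hx
    intro t
    obtain ⟨a, ha⟩ := hb t
    refine ⟨fun i => y * a i, fun i => Ideal.mul_mem_right _ _ hy, ?_⟩
    have h := Ideal.mul_mem_mul (Ideal.mem_map_of_mem (algebraMap R S) hy) ha
    rw [← Ideal.map_mul, ← pow_succ] at h
    convert h using 1
    simp only [map_mul, mul_sub, Finset.mul_sum, mul_assoc, mul_comm t]

theorem complMap_finite {R S : Type u} [CommRing R] [CommRing S] [Algebra R S] (m : Ideal R)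
    (J K : Ideal S) (hJ : J = m.map (algebraMap R S)) (N : ℕ) (hN : K ^ N ≤ J)
    (h' : J.map (RingHom.id S) ≤ K) (h : m.map (algebraMap R S) ≤ K) {r : ℕ} (b : Fin r → S)
    (hb : ∀ s : S, ∃ a : Fin r → R, s - ∑ i, algebraMap R S (a i) * b i ∈ m.map (algebraMap R S)) :
    (FSch.complMap m K (algebraMap R S) h).Finite := by
  classical
  subst hJ
  let φ := FSch.complMap m K (algebraMap R S) h
  letI := φ.toAlgebra
  refine Module.finite_def.2 (Submodule.fg_def.2 ⟨_, Set.finite_range
    (fun i => algebraMap S (AdicCompletion K S) (b i)), eq_top_iff.2 fun z _ => ?_⟩)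
  obtain ⟨z, rfl⟩ := (complMap_id_bijective _ K N hN h').2 z
  obtain ⟨w, rfl⟩ := AdicCompletion.mk_surjective _ S z
  let T := fun k (a : Fin r → R) =>
    w.val k - ∑ i, algebraMap R S (a i) * b i ∈ (m ^ k).map (algebraMap R S)
  have hstep : ∀ k (a : Fin r → R), T k a →
      ∃ a', T (k + 1) a' ∧ ∀ i, a i - a' i ∈ m ^ k := by
    intro k a ha
    have h1 := cauchy_sub_mem _ w k.le_succ
    rw [← Ideal.map_pow, ← neg_mem_iff, neg_sub] at h1
    obtain ⟨e, he, he'⟩ := decompose m b hb k _ (add_mem h1 ha)
    refine ⟨a + e, ?_, fun i => by simpa using he i⟩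
    show _ ∈ _
    convert he' using 1
    simp only [Pi.add_apply, map_add, add_mul, Finset.sum_add_distrib]
    ring
  choose f hf hf' using hstep
  have h0 : T 0 0 := by simp [T, Ideal.map_top]
  let c : (k : ℕ) → {a : Fin r → R // T k a} :=
    fun k => Nat.rec ⟨0, h0⟩ (fun k ih => ⟨f k ih.1 ih.2, hf k ih.1 ih.2⟩) k
  let A : Fin r → AdicCompletion m R := fun i => AdicCompletion.mk m R
    (AdicCompletion.AdicCauchySequence.mk m R (fun k => (c k).1 i)
      fun k => (cauchy_iff m (fun k => (c k).1 i) k).2 (hf' k (c k).1 (c k).2 i))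
  have hz : FSch.complMap _ K (RingHom.id S) h' (AdicCompletion.mk _ S w) =
      ∑ i, A i • algebraMap S (AdicCompletion K S) (b i) := by
    refine AdicCompletion.ext_evalₐ fun n => ?_
    show AdicCompletion.evalₐ K n _ =
      AdicCompletion.evalₐ K n (∑ i, φ (A i) * algebraMap S (AdicCompletion K S) (b i))
    rw [map_sum, Groth.Agent.H30.Stalk.evalₐ_complMap, AdicCompletion.evalₐ_mk, Ideal.quotientMap_mk,
      RingHom.id_apply]
    simp only [map_mul, φ, A, Groth.Agent.H30.Stalk.evalₐ_complMap, AdicCompletion.evalₐ_mk,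
      Ideal.quotientMap_mk, AlgHom.commutes, Ideal.Quotient.algebraMap_eq]
    simp only [← map_mul, ← map_sum, Ideal.Quotient.eq]
    have h2 := (c n).2
    rw [Ideal.map_id] at h'
    exact (Ideal.map_pow (algebraMap R S) m n ▸ Ideal.pow_right_mono h' n :
      (m ^ n).map (algebraMap R S) ≤ K ^ n) h2
  rw [hz]
  exact Submodule.sum_mem _ fun i _ => Submodule.smul_mem _ _ (Submodule.subset_span ⟨i, rfl⟩)

/-- Let R → S be a local ring homomorphism between local rings with finitely generated maximal ideals m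
and n, such that S/mS is a finite-dimensional κ(m)-vector space. Then (1) the canonical ring map
from the mS-adic completion of S to the n-adic completion of S is bijective, and (2) the induced
ring map from the m-adic completion of R to the n-adic completion of S is finite. (The hypotheses h
and h' record the inclusion mS ⊆ n, which holds for any local homomorphism; they are the arguments
the completion maps take.) -/
theorem result (R S : Type u) [CommRing R] [CommRing S]
    [IsLocalRing R] [IsLocalRing S] [Algebra R S] [IsLocalHom (algebraMap R S)]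
    (hm : (IsLocalRing.maximalIdeal R).FG) (hn : (IsLocalRing.maximalIdeal S).FG)
    (hfib : Module.Finite (IsLocalRing.maximalIdeal R).ResidueField ((IsLocalRing.maximalIdeal R).Fiber S))
    (h : (IsLocalRing.maximalIdeal R).map (algebraMap R S) ≤ IsLocalRing.maximalIdeal S)
    (h' : ((IsLocalRing.maximalIdeal R).map (algebraMap R S)).map (RingHom.id S) ≤ IsLocalRing.maximalIdeal S) :
    Function.Bijective (FSch.complMap ((IsLocalRing.maximalIdeal R).map (algebraMap R S))
        (IsLocalRing.maximalIdeal S) (RingHom.id S) h') ∧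
      (FSch.complMap (IsLocalRing.maximalIdeal R) (IsLocalRing.maximalIdeal S) (algebraMap R S) h).Finite := by
  classical
  let m := IsLocalRing.maximalIdeal R
  let n := IsLocalRing.maximalIdeal S
  let J := m.map (algebraMap R S)
  -- the special fibre is finite over `R`
  haveI : Module.Finite R m.ResidueField := inferInstance
  haveI : Module.Finite R (m.Fiber S) := Module.Finite.trans m.ResidueField (m.Fiber S)
  let e : (m.Fiber S) ≃ₗ[R] (S ⧸ m • (⊤ : Submodule R S)) :=
    (TensorProduct.congr
      (LinearEquiv.ofBijective (IsScalarTower.toAlgHom R (R ⧸ m) m.ResidueField).toLinearMap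
        (Ideal.bijective_algebraMap_quotient_residueField m)).symm (LinearEquiv.refl R S)).trans
      (TensorProduct.quotTensorEquivQuotSMul S m)
  haveI hfinR : Module.Finite R (S ⧸ J) := by
    haveI : Module.Finite R (S ⧸ m • (⊤ : Submodule R S)) := Module.Finite.equiv e
    refine Module.Finite.equiv (M := S ⧸ m • (⊤ : Submodule R S)) ?_
    exact (Submodule.quotEquivOfEq _ (J.restrictScalars R) (Ideal.smul_top_eq_map m)).trans
      (Submodule.Quotient.restrictScalarsEquiv R J)
  obtain ⟨r, b', hb'⟩ := Module.Finite.exists_fin (R := R) (M := S ⧸ J)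
  choose b hbb using fun i => Ideal.Quotient.mk_surjective (b' i)
  have hb : ∀ s : S, ∃ a : Fin r → R, s - ∑ i, algebraMap R S (a i) * b i ∈ J := fun s => by
    obtain ⟨a, ha⟩ := (Submodule.mem_span_range_iff_exists_fun R).1
      (hb' ▸ Submodule.mem_top : Ideal.Quotient.mk J s ∈ Submodule.span R (Set.range b'))
    refine ⟨a, ?_⟩
    rw [← Ideal.Quotient.eq, map_sum, ← ha]
    refine Finset.sum_congr rfl fun i _ => ?_
    rw [← hbb, map_mul, Algebra.smul_def]
    rfl
  haveI : Module.Finite (R ⧸ m) (S ⧸ J) := Module.Finite.of_restrictScalars_finite R (R ⧸ m) (S ⧸ J)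
  letI : Field (R ⧸ m) := Ideal.Quotient.field m
  haveI : IsArtinianRing (S ⧸ J) := isArtinian_of_tower (R ⧸ m) inferInstance
  obtain ⟨N, hN⟩ : ∃ N, n ^ N ≤ J := by
    refine Ideal.exists_pow_le_of_le_radical_of_fg (fun x hx => ?_) hn
    rw [Ideal.radical_eq_sInf, Ideal.mem_sInf]
    rintro P ⟨hJP, hP⟩
    have h1 : (P.map (Ideal.Quotient.mk J)).IsPrime :=
      Ideal.map_isPrime_of_surjective Ideal.Quotient.mk_surjective (by rwa [Ideal.mk_ker])
    have h2 : (P.map (Ideal.Quotient.mk J)).IsMaximal := IsArtinianRing.isMaximal_of_isPrime _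
    have h3 : P.IsMaximal := by
      have := Ideal.comap_isMaximal_of_surjective (Ideal.Quotient.mk J) Ideal.Quotient.mk_surjective
        (K := P.map (Ideal.Quotient.mk J))
      rwa [Ideal.comap_map_of_surjective _ Ideal.Quotient.mk_surjective, ← RingHom.ker_eq_comap_bot,
        Ideal.mk_ker, sup_eq_left.2 hJP] at this
    rw [IsLocalRing.eq_maximalIdeal h3]
    exact hx
  exact ⟨complMap_id_bijective J n N hN h', complMap_finite m J n rfl N hN h' h b hb⟩

end Groth.Agent.S9138
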