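import Groth.Statements.S9139
import Mathlib.RingTheory.Noetherian.Nilpotent
import Mathlib.RingTheory.FiniteType
import Mathlib.RingTheory.Ideal.Quotient.Operations
import Mathlib.RingTheory.Finiteness.Ideal

set_option autoImplicit false
universe u
open CAlg

namespace Groth.Agent.S9139

/-- Let I be a locally nilpotent ideal of a ring R (every element of I is nilpotent) and S → S' a map of
R-algebras with S' of finite type over R. If S → S'/IS' is surjective then so is S → S'. -/
theorem result (R S S' : Type u) [CommRing R] [CommRing S]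
    [CommRing S'] [Algebra R S] [Algebra R S'] [Algebra.FiniteType R S'] (I : Ideal R)
    (hI : ∀ x ∈ I, IsNilpotent x) (f : S →ₐ[R] S')
    (hf : Function.Surjective ((Ideal.Quotient.mk (I.map (algebraMap R S'))).comp f.toRingHom)) :
    Function.Surjective f := by
  classical
  obtain ⟨t, ht⟩ := Algebra.FiniteType.out (R := R) (A := S')
  have hmem : ∀ y : S', ∃ (s : S) (J : Ideal R), J.FG ∧ J ≤ I ∧ y - f s ∈ J.map (algebraMap R S') := by
    intro y
    obtain ⟨s, hs⟩ := hf (Ideal.Quotient.mk _ y)
    have hd : y - f s ∈ I.map (algebraMap R S') := by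
      rw [← Ideal.Quotient.eq]; exact hs.symm
    obtain ⟨T, hT, hT'⟩ := Submodule.mem_span_finite_of_mem_span (show y - f s ∈ Submodule.span S' (algebraMap R S' '' I) from hd)
    have hpre : ∀ z ∈ T, ∃ r, r ∈ I ∧ algebraMap R S' r = z := fun z hz => hT hz
    choose g hg hg' using hpre
    refine ⟨s, Ideal.span (↑(T.attach.image fun z => g z.1 z.2) : Set R), ⟨_, rfl⟩, ?_, ?_⟩
    · rw [Ideal.span_le]
      intro r hr
      simp only [Finset.coe_image, Set.mem_image] at hr
      obtain ⟨z, -, rfl⟩ := hr
      exact hg _ _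
    · refine Submodule.span_le.mpr (fun z hz => ?_) hT'
      rw [SetLike.mem_coe, ← hg' z hz]
      exact Ideal.mem_map_of_mem _ (Ideal.subset_span (by
        simp only [Finset.coe_image, Set.mem_image]
        exact ⟨⟨z, hz⟩, Finset.mem_attach _ _, rfl⟩))
  choose s J hJ hJI hyJ using hmem
  let K : Ideal R := t.sup J
  have hKfg : K.FG := by
    have : ∀ u : Finset S', (u.sup J).FG := fun u => by
      induction u using Finset.induction_on with
      | empty => rw [Finset.sup_empty]; exact Submodule.fg_bot
      | insert a u ha ih => rw [Finset.sup_insert]; exact Submodule.FG.sup (hJ a) ih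
    exact this t
  have hKI : K ≤ I := Finset.sup_le fun y _ => hJI y
  obtain ⟨N, hN⟩ : IsNilpotent K :=
    (Ideal.FG.isNilpotent_iff_le_nilradical hKfg).mpr fun x hx => mem_nilradical.mpr (hI x (hKI hx))
  have hbase : ∀ y : S', ∃ s, y - f s ∈ K.map (algebraMap R S') := by
    have : ∀ y ∈ (⊤ : Subalgebra R S'), ∃ s, y - f s ∈ K.map (algebraMap R S') := by
      rw [← ht]
      intro y hy
      induction hy using Algebra.adjoin_induction with
      | mem y hy => exact ⟨s y, Ideal.map_mono (Finset.le_sup (Finset.mem_coe.mp hy)) (hyJ y)⟩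
      | algebraMap r => exact ⟨algebraMap R S r, by rw [f.commutes, sub_self]; exact zero_mem _⟩
      | add x y _ _ hx hy =>
        obtain ⟨a, ha⟩ := hx
        obtain ⟨b, hb⟩ := hy
        refine ⟨a + b, ?_⟩
        rw [map_add, add_sub_add_comm]
        exact add_mem ha hb
      | mul x y _ _ hx hy =>
        obtain ⟨a, ha⟩ := hx
        obtain ⟨b, hb⟩ := hy
        refine ⟨a * b, ?_⟩
        rw [show x * y - f (a * b) = (x - f a) * y + f a * (y - f b) by rw [map_mul]; ring]
        exact add_mem (Ideal.mul_mem_right _ _ ha) (Ideal.mul_mem_left _ _ hb)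
    exact fun y => this y Algebra.mem_top
  have key : ∀ n, ∀ y : S', ∃ s, y - f s ∈ (K ^ n).map (algebraMap R S') := by
    intro n
    induction n with
    | zero => intro y; exact ⟨0, by rw [pow_zero, Ideal.one_eq_top, Ideal.map_top]; exact Submodule.mem_top⟩
    | succ n ih =>
      have step : ∀ z ∈ (K ^ n).map (algebraMap R S'), ∃ u, z - f u ∈ (K ^ (n + 1)).map (algebraMap R S') := by
        intro z hz
        induction hz using Submodule.span_induction with
        | mem z hz =>
          obtain ⟨r, hr, rfl⟩ := hz
          exact ⟨algebraMap R S r, by rw [f.commutes, sub_self]; exact zero_mem _⟩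
        | zero => exact ⟨0, by simp⟩
        | add x y _ _ hx hy =>
          obtain ⟨a, ha⟩ := hx
          obtain ⟨b, hb⟩ := hy
          refine ⟨a + b, ?_⟩
          rw [map_add, add_sub_add_comm]
          exact add_mem ha hb
        | smul c x hx' hx =>
          obtain ⟨a, ha⟩ := hx
          obtain ⟨d, hd⟩ := hbase c
          refine ⟨d * a, ?_⟩
          rw [show c • x - f (d * a) = (c - f d) * x + f d * (x - f a) by rw [map_mul, smul_eq_mul]; ring]
          refine add_mem ?_ (Ideal.mul_mem_left _ _ ha)
          rw [pow_succ', Ideal.map_mul]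
          exact Ideal.mul_mem_mul hd hx'
      intro y
      obtain ⟨a, ha⟩ := ih y
      obtain ⟨b, hb⟩ := step _ ha
      exact ⟨a + b, by rw [map_add, ← sub_sub]; exact hb⟩
  intro y
  obtain ⟨a, ha⟩ := key N y
  rw [hN, Ideal.zero_eq_bot, Ideal.map_bot, Ideal.mem_bot, sub_eq_zero] at ha
  exact ⟨a, ha.symm⟩

end Groth.Agent.S9139
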