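import Groth.Statements.S9140
import Groth.Agent.S9139
import Mathlib.RingTheory.Flat.EquationalCriterion
import Mathlib.RingTheory.FinitePresentation
import Mathlib.RingTheory.Nakayama

set_option autoImplicit false
universe u
open CAlg

namespace Groth.Agent.S9140

/-- Let I be a locally nilpotent ideal of a ring R and S → S' a map of R-algebras with S of finite type
over R and S' of finite presentation and flat over R. If the induced map S/IS → S'/IS' is bijective
(stated as: S → S'/IS' is surjective with kernel IS), then S → S' is bijective. -/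
theorem result (R S S' : Type u)
    [CommRing R] [CommRing S] [CommRing S'] [Algebra R S] [Algebra R S'] [Algebra.FiniteType R S]
    [Algebra.FinitePresentation R S'] [Module.Flat R S'] (I : Ideal R) (hI : ∀ x ∈ I, IsNilpotent x)
    (f : S →ₐ[R] S')
    (hsurj : Function.Surjective ((Ideal.Quotient.mk (I.map (algebraMap R S'))).comp f.toRingHom))
    (hker : ∀ s : S, f s ∈ I.map (algebraMap R S') → s ∈ I.map (algebraMap R S)) :
    Function.Bijective f := by
  classical
  have hs : Function.Surjective f := Groth.Agent.S9139.result R S S' I hI f hsurj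
  refine ⟨(injective_iff_map_eq_zero f).mpr fun x hx => ?_, hs⟩
  obtain ⟨n, π, hπ⟩ := Algebra.FiniteType.iff_quotient_mvPolynomial''.mp (inferInstance : Algebra.FiniteType R S)
  have hfg : (RingHom.ker f.toRingHom).FG := by
    have h1 := (Algebra.FinitePresentation.ker_fg_of_mvPolynomial (f.comp π) (hs.comp hπ)).map π.toRingHom
    rwa [show RingHom.ker (f.comp π).toRingHom = (RingHom.ker f.toRingHom).comap π.toRingHom from
      (RingHom.comap_ker _ _).symm, Ideal.map_comap_of_surjective π.toRingHom hπ] at h1
  have hnil : I.map (algebraMap R S) ≤ Ideal.jacobson (⊥ : Ideal S) := by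
    refine Ideal.map_le_iff_le_comap.mpr fun r hr => ?_
    exact Ideal.radical_le_jacobson (I := (⊥ : Ideal S)) (Ideal.mem_radical_iff.mpr <| by
      obtain ⟨k, hk⟩ := (hI r hr).map (algebraMap R S)
      exact ⟨k, (Ideal.mem_bot).mpr hk⟩)
  have hle : RingHom.ker f.toRingHom ≤ I.map (algebraMap R S) • RingHom.ker f.toRingHom := by
    intro j hj
    have hj' : j ∈ I.map (algebraMap R S) := hker j (by rw [show f j = 0 from hj]; exact zero_mem _)
    rw [Ideal.map, Ideal.span, Submodule.mem_span_set'] at hj'
    obtain ⟨m, s, g, hsum⟩ := hj'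
    choose i hi hgi using fun k => (g k).2
    have h0 : ∑ k, i k • f (s k) = 0 := by
      have h := congrArg f hsum
      rw [map_sum, show f j = 0 from hj] at h
      rw [← h]
      refine Finset.sum_congr rfl fun k _ => ?_
      rw [← hgi, smul_eq_mul, map_mul, AlgHom.commutes, Algebra.smul_def, mul_comm]
    obtain ⟨N, a, y, hy, ha⟩ := Module.Flat.isTrivialRelation_of_sum_smul_eq_zero h0
    choose t ht using fun l => hs (y l)
    have hmem : ∀ k, s k - ∑ l, a k l • t l ∈ RingHom.ker f.toRingHom := fun k => by
      rw [RingHom.mem_ker]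
      show f _ = 0
      rw [map_sub, map_sum, show f (s k) = _ from hy k]
      simp only [map_smul, ht, sub_self]
    have hj2 : j = ∑ k, algebraMap R S (i k) • (s k - ∑ l, a k l • t l) := by
      rw [← hsum]
      simp only [smul_eq_mul, mul_sub, Finset.mul_sum, Finset.sum_sub_distrib, ← hgi]
      rw [Finset.sum_comm (f := fun k l => algebraMap R S (i k) * a k l • t l),
        Finset.sum_eq_zero (s := Finset.univ) (f := fun l => ∑ k, algebraMap R S (i k) * a k l • t l), sub_zero]
      · exact Finset.sum_congr rfl fun k _ => mul_comm _ _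
      · intro l _
        simp only [Algebra.smul_def, ← mul_assoc, ← map_mul, ← Finset.sum_mul, ← map_sum, ha l, map_zero, zero_mul]
    rw [hj2]
    exact sum_mem fun k _ => Submodule.smul_mem_smul (Ideal.mem_map_of_mem _ (hi k)) (hmem k)
  have hbot := Submodule.eq_bot_of_le_smul_of_le_jacobson_bot _ _ hfg hle hnil
  exact (Submodule.eq_bot_iff _).mp hbot x hx

end Groth.Agent.S9140
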