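import Groth.Statements.S9141
import Groth.Agent.H26.CILoc
import Groth.Agent.Lib.Synt92.RelChart
import Groth.Agent.Lib.Synt92.Congr


set_option autoImplicit false
universe u
open Synt

namespace Groth.Agent.S9141

/-- For a finite type algebra S over a field k and g ∈ S, the localization S_g is a global (resp. local)
complete intersection over k whenever S is. -/
theorem result (k S : Type u) [Field k] [CommRing S] [Algebra k S]
    [Algebra.FiniteType k S] (g : S) :
    (Synt.IsGlobalCI k S → Synt.IsGlobalCI k (Localization.Away g)) ∧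
      (Synt.IsLCIOver k S → Synt.IsLCIOver k (Localization.Away g)) := by
  refine ⟨fun h => ?_, fun h => ?_⟩
  · rcases subsingleton_or_nontrivial (Localization.Away g) with hA | hA
    · exact Or.inl hA
    rcases h with h | ⟨n, c, hc, φ, r, hφ, hker, hdim⟩
    · exact Or.inl ((IsLocalization.subsingleton (M := Submonoid.powers g)
        (show (0 : S) ∈ Submonoid.powers g from ⟨1, Subsingleton.elim _ _⟩)))
    obtain ⟨h', rfl⟩ := hφ g
    let e0 : (MvPolynomial (Fin n) k ⧸ Ideal.span (Set.range r)) ≃ₐ[k] S :=
      (Ideal.quotientEquivAlgOfEq k hker.symm).trans (Ideal.quotientKerAlgEquivOfSurjective hφ)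
    obtain ⟨e1⟩ := Groth.Agent.Lib.Synt92.Congr.nonempty_away_congr (R := k) e0
      (Ideal.Quotient.mk _ h')
    obtain ⟨e2⟩ := Groth.Agent.Lib.Synt92.AwayPres.nonempty_equiv k n c r h'
    let E : Synt.RelGCIRing k (n + 1) (c + 1) (Groth.Agent.Lib.Synt92.AwayPres.ext k n c r h') ≃ₐ[k]
        Localization.Away (φ h') := e2.symm.trans e1
    let φ' := E.toAlgHom.comp (Ideal.Quotient.mkₐ k
      (Ideal.span (Set.range (Groth.Agent.Lib.Synt92.AwayPres.ext k n c r h'))))
    have hk : RingHom.ker φ'.toRingHom =
        Ideal.span (Set.range (Groth.Agent.Lib.Synt92.AwayPres.ext k n c r h')) := by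
      ext z
      simp only [RingHom.mem_ker, φ']
      show E (Ideal.Quotient.mk _ z) = 0 ↔ _
      rw [map_eq_zero_iff E E.injective, Ideal.Quotient.eq_zero_iff_mem]
    refine Or.inr ⟨n + 1, c + 1, Nat.succ_le_succ hc, φ', _,
      E.surjective.comp Ideal.Quotient.mk_surjective, hk, ?_⟩
    refine Groth.Agent.Lib.Synt92.RelChart.ringKrullDim_eq (Nat.succ_le_succ hc) φ'
      (E.surjective.comp Ideal.Quotient.mk_surjective) _ hk ?_
    rw [Nat.succ_sub_succ]
    refine le_trans ?_ hdim.le
    exact Order.krullDim_le_of_strictMono (PrimeSpectrum.comap (algebraMap S (Localization.Away (φ h'))))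
      (Monotone.strictMono_of_injective (fun a b hab => Ideal.comap_mono hab)
        (PrimeSpectrum.localization_comap_injective _ (Submonoid.powers (φ h'))))
  · haveI : Algebra.FiniteType S (Localization.Away g) :=
      IsLocalization.finiteType_of_monoid_fg (Submonoid.powers g) _
    haveI : Algebra.FiniteType k (Localization.Away g) := Algebra.FiniteType.trans (R := k) (S := S) ‹_› ‹_›
    rw [Groth.Agent.H26.CILoc.isLCIOver_iff k]
    intro p
    have hgp : g ∉ p.asIdeal.comap (algebraMap S (Localization.Away g)) := fun hm =>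
      p.2.ne_top (Ideal.eq_top_of_isUnit_mem _ hm (IsLocalization.Away.algebraMap_isUnit g))
    haveI : IsLocalization.AtPrime (Localization.AtPrime p.asIdeal)
        (p.asIdeal.comap (algebraMap S (Localization.Away g))) :=
      IsLocalization.isLocalization_isLocalization_atPrime_isLocalization (Submonoid.powers g)
        (Localization.AtPrime p.asIdeal) p.asIdeal
    exact Groth.Agent.Lib.Synt92.CIPoint.isCIOver_congr
      ((IsLocalization.algEquiv (p.asIdeal.comap (algebraMap S (Localization.Away g))).primeCompl
        (Localization.AtPrime (p.asIdeal.comap (algebraMap S (Localization.Away g))))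
        (Localization.AtPrime p.asIdeal)).restrictScalars k)
      ((Groth.Agent.H26.CILoc.isLCIOver_iff k).1 h (PrimeSpectrum.comap (algebraMap S (Localization.Away g)) p))

end Groth.Agent.S9141
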