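import Groth.Statements.S9143
import Groth.Agent.Lib.Synt92.CIPoint

set_option autoImplicit false
universe u
open Synt

namespace Groth.Agent.S9143

/-- For a local k-algebra S which is essentially of finite type over a field k, being a complete
intersection over k is equivalent to each of: (2) whenever a regular local ring R, essentially of
finite type over k, maps onto S by a surjective k-algebra map, the kernel is generated by a regular
sequence; (3) some regular local ring R, essentially of finite type over k, maps onto S by a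
surjective k-algebra map whose kernel is generated by a list of dim R − dim S elements (stated as
dim R = dim S + the length of the list); (4) S is isomorphic over k to a localization at a prime of
a global complete intersection over k; (5) the same with a local complete intersection over k. -/
theorem result (k S : Type u) [Field k] [CommRing S]
    [IsLocalRing S] [Algebra k S] [Algebra.EssFiniteType k S] :
    (Synt.IsCIOver k S ↔
        ∀ (R : Type u) [CommRing R] [IsRegularLocalRing R] [Algebra k R], Algebra.EssFiniteType k R →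
          ∀ π : R →ₐ[k] S, Function.Surjective π →
            ∃ rs : List R, RingTheory.Sequence.IsRegular R rs ∧ RingHom.ker π.toRingHom = Ideal.ofList rs) ∧
      (Synt.IsCIOver k S ↔
        ∃ (R : Type u) (_ : CommRing R) (_ : IsRegularLocalRing R) (_ : Algebra k R),
          Algebra.EssFiniteType k R ∧ ∃ π : R →ₐ[k] S, Function.Surjective π ∧
            ∃ rs : List R, RingHom.ker π.toRingHom = Ideal.ofList rs ∧
              ringKrullDim R = ringKrullDim S + (rs.length : WithBot ℕ∞)) ∧
      (Synt.IsCIOver k S ↔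
        ∃ (A : Type u) (_ : CommRing A) (_ : Algebra k A) (a : Ideal A) (_ : a.IsPrime),
          Algebra.FiniteType k A ∧ Synt.IsGlobalCI k A ∧ Nonempty (S ≃ₐ[k] Localization.AtPrime a)) ∧
      (Synt.IsCIOver k S ↔
        ∃ (A : Type u) (_ : CommRing A) (_ : Algebra k A) (a : Ideal A) (_ : a.IsPrime),
          Synt.IsLCIOver k A ∧ Nonempty (S ≃ₐ[k] Localization.AtPrime a)) := by
  classical
  obtain ⟨n, Q, hQ, π, hπ⟩ := Lib.Synt92.CIPres.exists_presentation (k := k) S
  haveI : Algebra.EssFiniteType (MvPolynomial (Fin n) k) (Localization.AtPrime Q) :=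
    Algebra.EssFiniteType.of_isLocalization _ Q.primeCompl
  haveI : Algebra.EssFiniteType k (Localization.AtPrime Q) :=
    Algebra.EssFiniteType.comp k (MvPolynomial (Fin n) k) _
  refine ⟨⟨fun h R _ _ _ hR π' hπ' => ?_, fun h => ?_⟩, ⟨fun h => ?_, ?_⟩, ?_⟩
  · haveI := hR
    exact (Lib.Synt92.CIPres.isCIOver_iff S R π' hπ').1 h
  · exact (Lib.Synt92.CIPres.isCIOver_iff S _ π hπ).2 (h _ inferInstance π hπ)
  · obtain ⟨rs, hrs, hker⟩ := (Lib.Synt92.CIPres.isCIOver_iff S _ π hπ).1 h
    refine ⟨_, inferInstance, inferInstance, inferInstance, inferInstance, π, hπ, rs, hker, ?_⟩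
    have hq : ringKrullDim (Localization.AtPrime Q ⧸ Ideal.ofList rs) = ringKrullDim S :=
      ringKrullDim_eq_of_ringEquiv ((Ideal.quotEquivOfEq hker.symm).trans
        (RingHom.quotientKerEquivOfSurjective hπ))
    rw [← hq, ringKrullDim_add_length_eq_ringKrullDim_of_isRegular rs hrs]
  · rintro ⟨R, _, _, _, hR, π', hπ', rs, hker, hdim⟩
    refine (Lib.Synt92.CIPres.isCIOver_iff S R π' hπ').2
      ((Lib.Synt92.CIInv.regular_iff _ (RingHom.ker_ne_top _)).2 ?_)
    have hq : ringKrullDim (R ⧸ RingHom.ker π'.toRingHom) = ringKrullDim S :=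
      ringKrullDim_eq_of_ringEquiv (RingHom.quotientKerEquivOfSurjective hπ')
    rw [hdim, hq, hker]
    gcongr
    refine (Submodule.spanFinrank_span_le_ncard_of_finite rs.finite_toSet).trans ?_
    rw [show {x | x ∈ rs} = (rs.toFinset : Set R) by ext; simp, Set.ncard_coe_finset]
    exact rs.toFinset_card_le
  have key : Synt.IsCIOver k S →
      ∃ (A : Type u) (_ : CommRing A) (_ : Algebra k A) (a : Ideal A) (_ : a.IsPrime),
        Algebra.FiniteType k A ∧ Synt.IsGlobalCI k A ∧ Nonempty (S ≃ₐ[k] Localization.AtPrime a) := by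
    intro h
    obtain ⟨rs, hrs, hker⟩ := (Lib.Synt92.CIPres.isCIOver_iff S _ π hπ).1 h
    let φ : MvPolynomial (Fin n) k →ₐ[k] S := π.comp (IsScalarTower.toAlgHom k _ _)
    let I := RingHom.ker φ.toRingHom
    let ψ : (MvPolynomial (Fin n) k ⧸ I) →ₐ[k] S := Ideal.kerLiftAlg φ
    haveI : IsLocalHom π.toRingHom := IsLocalHom.of_surjective _ hπ
    let q : Ideal (MvPolynomial (Fin n) k ⧸ I) := (IsLocalRing.maximalIdeal S).comap ψ.toRingHom
    haveI : q.IsPrime := Ideal.IsPrime.comap _
    have hQq : q.comap (Ideal.Quotient.mk I) = Q := by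
      ext x
      change φ x ∈ IsLocalRing.maximalIdeal S ↔ x ∈ Q
      rw [IsLocalRing.mem_maximalIdeal, mem_nonunits_iff]
      change ¬ IsUnit (π.toRingHom (algebraMap _ _ x)) ↔ x ∈ Q
      rw [isUnit_map_iff, IsLocalization.AtPrime.isUnit_to_map_iff _ Q, Ideal.mem_primeCompl_iff, not_not]
    suffices main : ∀ (I : Ideal (MvPolynomial (Fin n) k)) (q : Ideal (MvPolynomial (Fin n) k ⧸ I)) (_ : q.IsPrime)
        (Q : Ideal (MvPolynomial (Fin n) k)) (_ : Q.IsPrime) (π : Localization.AtPrime Q →ₐ[k] S)
        (_ : Function.Surjective π) (_ : q.comap (Ideal.Quotient.mk I) = Q)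
        (_ : I.map (algebraMap _ (Localization.AtPrime Q)) = RingHom.ker π.toRingHom)
        (rs : List (Localization.AtPrime Q)) (_ : RingTheory.Sequence.IsRegular (Localization.AtPrime Q) rs)
        (_ : RingHom.ker π.toRingHom = Ideal.ofList rs),
        ∃ (A : Type u) (_ : CommRing A) (_ : Algebra k A) (a : Ideal A) (_ : a.IsPrime),
          Algebra.FiniteType k A ∧ Synt.IsGlobalCI k A ∧ Nonempty (S ≃ₐ[k] Localization.AtPrime a) by
      refine main I q inferInstance Q hQ π hπ hQq ?_ rs hrs hker
      rw [show I = (RingHom.ker π.toRingHom).comap (algebraMap _ _) from rfl]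
      exact IsLocalization.map_under Q.primeCompl _ _
    clear! Q
    intro I q _ Q _ π hπ hQq hI rs hrs hker
    subst hQq
    obtain ⟨π₀, hπ₀, hker₀, -⟩ := Lib.Synt92.LocalQuot.exists_hom (Ideal.Quotient.mkₐ k I)
      (Ideal.Quotient.mkₐ_surjective k I) q (Localization.AtPrime q)
    rw [show RingHom.ker (Ideal.Quotient.mkₐ k I).toRingHom = I from Ideal.Quotient.mkₐ_ker k I] at hker₀
    have hker₁ : RingHom.ker π₀.toRingHom = RingHom.ker π.toRingHom := hker₀.trans hI
    let e : Localization.AtPrime q ≃ₐ[k] S :=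
      (Ideal.quotientKerAlgEquivOfSurjective hπ₀).symm.trans
        ((Ideal.quotientEquivAlgOfEq k hker₁).trans (Ideal.quotientKerAlgEquivOfSurjective hπ))
    have hd := ringKrullDim_add_length_eq_ringKrullDim_of_isRegular rs hrs
    have hq : ringKrullDim (Localization.AtPrime (q.comap (Ideal.Quotient.mk I)) ⧸ Ideal.ofList rs) =
        ringKrullDim (Localization.AtPrime q) :=
      ringKrullDim_eq_of_ringEquiv (((Ideal.quotEquivOfEq hker.symm).trans
        (RingHom.quotientKerEquivOfSurjective hπ)).trans e.toRingEquiv.symm)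
    rw [hq] at hd
    have hcn : rs.length ≤ n := by
      have h1 := Lib.Dim.Basic.height_add_dimQ k (q.comap (Ideal.Quotient.mk I))
      have h2 : Lib.Dim.Basic.trdegNat k (MvPolynomial (Fin n) k) = n := by
        have := (Lib.Dim.Basic.ringKrullDim_eq_trdegNat k (MvPolynomial (Fin n) k)).symm.trans
          (Lib.Dim.Basic.ringKrullDim_mvPolynomial k (Fin n))
        simpa using this
      rw [h2, ← Lib.Dim.Local.coe_height_toNat k] at h1
      rw [IsLocalization.AtPrime.ringKrullDim_eq_height (q.comap (Ideal.Quotient.mk I))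
        (Localization.AtPrime (q.comap (Ideal.Quotient.mk I))),
        IsLocalization.AtPrime.ringKrullDim_eq_height q (Localization.AtPrime q),
        ← Lib.Dim.Local.coe_height_toNat k q,
        ← Lib.Dim.Local.coe_height_toNat k (q.comap (Ideal.Quotient.mk I))] at hd
      norm_cast at h1 hd
      omega
    obtain ⟨g, hg, hCI⟩ := Lib.Synt92.CIPoint.exists_isGlobalCI_of_dim I q hcn (fun i => rs[i.1]) (by
      rw [hI, hker]
      refine congrArg Ideal.span (Set.ext fun x => ?_)
      simp [List.mem_iff_getElem, Fin.exists_iff]) hd.le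
    obtain ⟨a, ha, ⟨ea⟩⟩ := Lib.Synt92.CIPoint.exists_equiv_away (k := k) g q hg
    exact ⟨Localization.Away g, inferInstance, inferInstance, a, ha, inferInstance, hCI,
      ⟨e.symm.trans ea.symm⟩⟩
  refine ⟨⟨key, ?_⟩, ⟨fun h => ?_, ?_⟩⟩
  · rintro ⟨A, _, _, a, _, _, hCI, ⟨e⟩⟩
    exact Lib.Synt92.CIPoint.isCIOver_congr e.symm
      (Lib.Synt92.CIField.isCIOver_of_isGlobalCI hCI a (Localization.AtPrime a))
  · obtain ⟨A, _, _, a, _, hft, hCI, he⟩ := key h
    exact ⟨A, inferInstance, inferInstance, a, inferInstance,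
      Lib.Synt92.IsLCIOverBasic.of_isGlobalCI k A hft (fun _ => hCI), he⟩
  · rintro ⟨A, _, _, a, ha, ⟨_, hloc⟩, ⟨e⟩⟩
    obtain ⟨g, hg, hCI⟩ := hloc ⟨a, ha⟩
    exact Lib.Synt92.CIPoint.isCIOver_congr e.symm (Lib.Synt92.CIPoint.isCIOver_of_away g a hg hCI)

end Groth.Agent.S9143
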