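import Groth.Statements.S9144
import Groth.Agent.H26.CILoc


set_option autoImplicit false
universe u
open Synt

namespace Groth.Agent.S9144

/-- For a finite type algebra S over a field k and a prime q of S, the local ring S_q is a complete
intersection over k if and only if some basic open neighbourhood S_g (g ∉ q) is a local complete
intersection over k, if and only if some S_g (g ∉ q) is a global complete intersection over k. -/
theorem result (k S : Type u) [Field k] [CommRing S] [Algebra k S]
    [Algebra.FiniteType k S] (q : Ideal S) [q.IsPrime] :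
    (Synt.IsCIOver k (Localization.AtPrime q) ↔ ∃ g : S, g ∉ q ∧ Synt.IsLCIOver k (Localization.Away g)) ∧
      (Synt.IsCIOver k (Localization.AtPrime q) ↔
        ∃ g : S, g ∉ q ∧ Synt.IsGlobalCI k (Localization.Away g)) := by
  refine ⟨⟨fun h => ?_, ?_⟩, Groth.Agent.H26.CILoc.isCIOver_iff_globalCI_nhd k q⟩
  · obtain ⟨g, hg, hci⟩ := Groth.Agent.H26.CILoc.exists_globalCI_nhd k q h
    haveI : Algebra.FiniteType k (Localization.Away g) := inferInstance
    exact ⟨g, hg, Groth.Agent.Lib.Synt92.IsLCIOverBasic.of_isGlobalCI k _ inferInstance fun _ => hci⟩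
  · rintro ⟨g, hg, hl⟩
    obtain ⟨a, ha, ⟨e⟩⟩ := Groth.Agent.Lib.Synt92.CIPoint.exists_equiv_away (k := k) g q hg
    haveI : Algebra.FiniteType k (Localization.Away g) := hl.1
    exact Groth.Agent.Lib.Synt92.CIPoint.isCIOver_congr e
      ((Groth.Agent.H26.CILoc.isLCIOver_iff k).1 hl ⟨a, ha⟩)

end Groth.Agent.S9144
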