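import Groth.Statements.S9145
import Groth.Agent.H26.CILoc


set_option autoImplicit false
universe u
open Synt

namespace Groth.Agent.S9145

/-- A finite type algebra S over a field k is a local complete intersection over k if and only if all
its local rings at primes (equivalently, at maximal ideals) are complete intersections over k. -/
theorem result (k S : Type u) [Field k] [CommRing S] [Algebra k S]
    [Algebra.FiniteType k S] :
    (Synt.IsLCIOver k S ↔ ∀ p : PrimeSpectrum S, Synt.IsCIOver k (Localization.AtPrime p.asIdeal)) ∧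
      (Synt.IsLCIOver k S ↔
        ∀ m : MaximalSpectrum S, Synt.IsCIOver k (Localization.AtPrime m.asIdeal)) := by
  refine ⟨Groth.Agent.H26.CILoc.isLCIOver_iff k, ?_⟩
  rw [Groth.Agent.H26.CILoc.isLCIOver_iff k]
  refine ⟨fun h m => h ⟨m.asIdeal, inferInstance⟩, fun h p => ?_⟩
  obtain ⟨m, hm, hpm⟩ := Ideal.exists_le_maximal p.asIdeal p.2.ne_top
  obtain ⟨g, hg, hci⟩ := Groth.Agent.H26.CILoc.exists_globalCI_nhd k m (h ⟨m, hm⟩)
  exact (Groth.Agent.H26.CILoc.isCIOver_iff_globalCI_nhd k p.asIdeal).2 ⟨g, fun hgp => hg (hpm hgp), hci⟩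

end Groth.Agent.S9145
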