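import Groth.Statements.S9148
import Groth.Agent.Lib.Synt92.RelChart


set_option autoImplicit false
universe u
open Synt

namespace Groth.Agent.S9148

open MvPolynomial Groth.Agent.H20.FibreDimBC

/-- Fibre dimensions of a presentation do not see the base ring. -/
theorem fdim_map {R₀ R₁ : Type u} [CommRing R₀] [CommRing R₁] [Algebra R₀ R₁] {n c : ℕ}
    (F₀ : Fin c → MvPolynomial (Fin n) R₀) (F₁ : Fin c → MvPolynomial (Fin n) R₁)
    (hF : ∀ i, MvPolynomial.map (algebraMap R₀ R₁) (F₀ i) = F₁ i)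
    (q : Ideal (Synt.RelGCIRing R₁ n c F₁)) [q.IsPrime] :
    ∃ (q₀ : Ideal (Synt.RelGCIRing R₀ n c F₀)) (_ : q₀.IsPrime),
      (∀ g, Ideal.Quotient.mk _ g ∈ q₀ ↔
        Ideal.Quotient.mk (Ideal.span (Set.range F₁)) (MvPolynomial.map (algebraMap R₀ R₁) g) ∈ q) ∧
      fdim R₁ (Synt.RelGCIRing R₁ n c F₁) q = fdim R₀ (Synt.RelGCIRing R₀ n c F₀) q₀ := by
  let I₀ := Ideal.span (Set.range F₀)
  let T := TensorProduct R₀ R₁ (MvPolynomial (Fin n) R₀)
  let K : Ideal T := I₀.map (Algebra.TensorProduct.includeRight (R := R₀) (A := R₁))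
  let a : T ≃ₐ[R₁] MvPolynomial (Fin n) R₁ := MvPolynomial.algebraTensorAlgEquiv R₀ R₁
  have ha : ∀ g, a (1 ⊗ₜ[R₀] g) = MvPolynomial.map (algebraMap R₀ R₁) g := fun g =>
    (MvPolynomial.algebraTensorAlgEquiv_tmul R₀ R₁ 1 g).trans (one_smul R₁ _)
  have hI : Ideal.span (Set.range F₁) = K.map (a : T →+* MvPolynomial (Fin n) R₁) := by
    simp only [K, I₀, Ideal.map_map, Ideal.map_span, ← Set.range_comp]
    refine congrArg Ideal.span (congrArg Set.range (funext fun i => ?_))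
    simp only [Function.comp_apply]
    rw [← hF i]
    exact (ha _).symm
  let e : TensorProduct R₀ R₁ (Synt.RelGCIRing R₀ n c F₀) ≃ₐ[R₁] Synt.RelGCIRing R₁ n c F₁ :=
    (Algebra.TensorProduct.tensorQuotientEquiv (R := R₀) R₁ (MvPolynomial (Fin n) R₀) R₁ I₀).trans
      (Ideal.quotientEquivAlg K _ a hI)
  let q' := q.comap (e.toAlgHom)
  haveI : q'.IsPrime := Ideal.IsPrime.comap _
  refine ⟨q'.comap (Algebra.TensorProduct.includeRight (R := R₀) (A := R₁)), Ideal.IsPrime.comap _,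
    fun g => ?_, ?_⟩
  · show e (1 ⊗ₜ[R₀] Ideal.Quotient.mk _ g) ∈ q ↔ _
    rw [show e (1 ⊗ₜ[R₀] Ideal.Quotient.mk _ g) =
      Ideal.Quotient.mk (Ideal.span (Set.range F₁)) (a (1 ⊗ₜ[R₀] g)) by simp [e]; rfl, ha]
  · rw [← fdim_baseChange, fdim_congr]

theorem isRelGCI_of_fdim_le {R : Type u} [CommRing R] {n c : ℕ} (hc : c ≤ n)
    (F : Fin c → MvPolynomial (Fin n) R)
    (H : ∀ (q : Ideal (Synt.RelGCIRing R n c F)) [q.IsPrime],
      fdim R (Synt.RelGCIRing R n c F) q ≤ n - c) : Synt.IsRelGCI R n c F := by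
  intro p hp
  refine ⟨hc, ?_⟩
  obtain ⟨φ, hφ, hker⟩ := Groth.Agent.Lib.Synt92.GCIBasic.exists_presentation R F p.asIdeal
  haveI := hp
  refine @Groth.Agent.Lib.Synt92.RelChart.ringKrullDim_eq p.asIdeal.ResidueField _ n c hc
    (p.asIdeal.Fiber (Synt.RelGCIRing R n c F)) _ _ hp φ hφ
    (fun i => MvPolynomial.map (algebraMap R p.asIdeal.ResidueField) (F i)) hker ?_
  refine (Groth.Agent.Lib.Dim.Local.ringKrullDim_le_iff p.asIdeal.ResidueField _).2 fun P hP => ?_
  haveI : P.IsPrime := hP.1.1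
  let q := P.comap (Algebra.TensorProduct.includeRight (R := R) (A := p.asIdeal.ResidueField)
    (B := Synt.RelGCIRing R n c F)).toRingHom
  haveI : q.IsPrime := Ideal.IsPrime.comap _
  haveI : q.LiesOver p.asIdeal := by
    constructor
    ext r
    rw [Ideal.mem_comap, Ideal.mem_comap,
      show (Algebra.TensorProduct.includeRight (R := R) (A := p.asIdeal.ResidueField)).toRingHom
        (algebraMap R (Synt.RelGCIRing R n c F) r) = algebraMap p.asIdeal.ResidueField _
        (algebraMap R p.asIdeal.ResidueField r) from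
          ((Algebra.TensorProduct.includeRight (R := R) (A := p.asIdeal.ResidueField)
            (B := Synt.RelGCIRing R n c F)).commutes r).trans (IsScalarTower.algebraMap_apply R _ _ r)]
    constructor
    · intro hr
      rw [Ideal.algebraMap_residueField_eq_zero.2 hr, map_zero]
      exact zero_mem _
    · intro hr
      by_contra hrp
      exact Ideal.IsPrime.ne_top' (Ideal.eq_top_of_isUnit_mem P hr
        ((IsUnit.mk0 _ fun h0 => hrp (Ideal.algebraMap_residueField_eq_zero.1 h0)).map _))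
  refine (Groth.Agent.Lib.Dim.Local.dimQ_le_dimAt_of_le p.asIdeal.ResidueField (le_refl P)).trans ?_
  exact (dimAt_eq_fdim p.asIdeal q ⟨P, inferInstance⟩ rfl).le.trans (H q)

/-- A relative global complete intersection over a ring R descends to a relative global complete
intersection over a finite type ℤ-subalgebra of R containing the coefficients. -/
theorem result (R : Type u) [CommRing R] (n c : ℕ)
    (F : Fin c → MvPolynomial (Fin n) R) (h : Synt.IsRelGCI R n c F) :
    ∃ (R₀ : Subalgebra ℤ R) (F₀ : Fin c → MvPolynomial (Fin n) R₀), Algebra.FiniteType ℤ R₀ ∧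
      (∀ i, MvPolynomial.map (algebraMap R₀ R) (F₀ i) = F i) ∧ Synt.IsRelGCI R₀ n c F₀ := by
  classical
  let co : MvPolynomial (Fin n) R → Set R := fun p => (p.coeffs : Set R)
  have lift : ∀ (s : Set R) (p : MvPolynomial (Fin n) R), co p ⊆ s →
      ∃ p₀ : MvPolynomial (Fin n) (Algebra.adjoin ℤ s), MvPolynomial.map (algebraMap _ R) p₀ = p := by
    intro s p hp
    refine RingHom.mem_range.mp (MvPolynomial.mem_range_map_iff_coeffs_subset.mpr fun x hx => ?_)
    exact ⟨⟨x, Algebra.subset_adjoin (hp hx)⟩, rfl⟩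
  let s₀ : Finset R := Finset.univ.biUnion fun i => (F i).coeffs
  choose F₀ hF₀ using fun i => lift (s₀ : Set R) (F i) (fun x hx => by
    simp only [co, Finset.mem_coe] at hx
    simp only [s₀, Finset.coe_biUnion, Set.mem_iUnion]
    exact ⟨i, Finset.mem_univ i, hx⟩)
  have hft : ∀ s : Finset R, Algebra.FiniteType ℤ (Algebra.adjoin ℤ (s : Set R)) := fun s =>
    (Subalgebra.fg_iff_finiteType _).mp (Subalgebra.fg_adjoin_finset s)
  let R₀ := Algebra.adjoin ℤ (s₀ : Set R)
  by_cases hN : Nontrivial (Synt.RelGCIRing R n c F)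
  swap
  · -- the presented algebra is zero
    have h1 : (1 : MvPolynomial (Fin n) R) ∈ Ideal.span (Set.range F) := by
      rw [not_nontrivial_iff_subsingleton] at hN
      exact Ideal.Quotient.eq_zero_iff_mem.mp (Subsingleton.elim _ _)
    obtain ⟨b, hb⟩ := Ideal.mem_span_range_iff_exists_fun.mp h1
    let s₁ : Finset R := s₀ ∪ Finset.univ.biUnion fun i => (b i).coeffs
    choose F₁ hF₁ using fun i => lift (s₁ : Set R) (F i) (fun x hx => by
      simp only [co, Finset.mem_coe] at hx ⊢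
      exact Finset.mem_union_left _ (Finset.mem_biUnion.mpr ⟨i, Finset.mem_univ i, hx⟩))
    choose b₁ hb₁ using fun i => lift (s₁ : Set R) (b i) (fun x hx => by
      simp only [co, Finset.mem_coe] at hx ⊢
      exact Finset.mem_union_right _ (Finset.mem_biUnion.mpr ⟨i, Finset.mem_univ i, hx⟩))
    refine ⟨Algebra.adjoin ℤ (s₁ : Set R), F₁, hft s₁, hF₁, fun p hp => ?_⟩
    exfalso
    have : (1 : MvPolynomial (Fin n) (Algebra.adjoin ℤ (s₁ : Set R))) ∈ Ideal.span (Set.range F₁) := by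
      refine Ideal.mem_span_range_iff_exists_fun.mpr ⟨b₁, ?_⟩
      apply MvPolynomial.map_injective (algebraMap (Algebra.adjoin ℤ (s₁ : Set R)) R) Subtype.val_injective
      simp only [map_sum, map_mul, map_one, hF₁, hb₁, hb]
    haveI : Subsingleton (Synt.RelGCIRing (Algebra.adjoin ℤ (s₁ : Set R)) n c F₁) :=
      Ideal.Quotient.subsingleton_iff.mpr ((Ideal.eq_top_iff_one _).mpr this)
    exact not_subsingleton_iff_nontrivial.mpr hp
      (Algebra.TensorProduct.includeRight (R := Algebra.adjoin ℤ (s₁ : Set R))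
        (A := p.asIdeal.ResidueField) (B := Synt.RelGCIRing _ n c F₁)).toRingHom.codomain_trivial
  obtain ⟨Q, hQ⟩ := Ideal.exists_maximal (Synt.RelGCIRing R n c F)
  have hle : ∀ (q : Ideal (Synt.RelGCIRing R n c F)) [q.IsPrime],
      c ≤ n ∧ Groth.Agent.H20.FibreDimBC.fdim R (Synt.RelGCIRing R n c F) q ≤ n - c := fun q _ => by
    obtain ⟨hc, hd⟩ := h ⟨q.under R, inferInstance⟩
      (PrimeSpectrum.nonempty_iff_nontrivial.1 ⟨Groth.Agent.H20.FibreDimBC.fibrePoint R _ q⟩)
    exact ⟨hc, Groth.Agent.Lib.Synt92.RelChart.fdim_le_of_ringKrullDim_le _ q (n - c) hd.le⟩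
  have hc : c ≤ n := (hle Q).1
  obtain ⟨J, hJ⟩ := (PrimeSpectrum.isClosed_iff_zeroLocus_ideal _).1
    (Groth.Agent.H20.FibreDimSet.isOpen_setOf_fdim_le (R := R₀) (S := Synt.RelGCIRing R₀ n c F₀)
      (n - c)).isClosed_compl
  let ψ : MvPolynomial (Fin n) R₀ →+* Synt.RelGCIRing R n c F :=
    (Ideal.Quotient.mk (Ideal.span (Set.range F))).comp (MvPolynomial.map (algebraMap R₀ R))
  let J' : Ideal (MvPolynomial (Fin n) R₀) := J.comap (Ideal.Quotient.mk _)
  have hJ' : J'.map ψ = ⊤ := by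
    by_contra hne
    obtain ⟨m, hm, hle'⟩ := Ideal.exists_le_maximal _ hne
    obtain ⟨q₀, hq₀p, hq₀, heq⟩ := fdim_map F₀ F hF₀ m
    have hmem : (⟨q₀, hq₀p⟩ : PrimeSpectrum _) ∈ PrimeSpectrum.zeroLocus (J : Set _) := fun x hx => by
      obtain ⟨g, rfl⟩ := Ideal.Quotient.mk_surjective x
      exact (hq₀ g).mpr (hle' (Ideal.mem_map_of_mem ψ (show g ∈ J' from hx)))
    rw [← hJ] at hmem
    exact hmem (show fdim R₀ _ q₀ ≤ n - c from heq ▸ (hle m).2)
  have hJ'' : (1 : MvPolynomial (Fin n) R) ∈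
      J'.map (MvPolynomial.map (algebraMap R₀ R)) ⊔ Ideal.span (Set.range F) := by
    have h1 : (1 : Synt.RelGCIRing R n c F) ∈
        (J'.map (MvPolynomial.map (algebraMap R₀ R))).map (Ideal.Quotient.mk (Ideal.span (Set.range F))) := by
      rw [Ideal.map_map, hJ']; exact Submodule.mem_top
    rw [← map_one (Ideal.Quotient.mk (Ideal.span (Set.range F))), ← Ideal.mem_comap,
      Ideal.comap_map_of_surjective' _ Ideal.Quotient.mk_surjective, Ideal.mk_ker] at h1
    exact h1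
  obtain ⟨u, hu, v, hv, huv⟩ := Submodule.mem_sup.mp hJ''
  obtain ⟨k, A, g, hA⟩ := Submodule.mem_span_set'.mp
    (show u ∈ Submodule.span _ (MvPolynomial.map (algebraMap R₀ R) '' (J' : Set _)) from hu)
  choose j hj hjg using fun i => (g i).2
  obtain ⟨b, hb⟩ := Ideal.mem_span_range_iff_exists_fun.mp hv
  let s₁ : Finset R := s₀ ∪ ((Finset.univ.biUnion fun i => (A i).coeffs) ∪
    Finset.univ.biUnion fun i => (b i).coeffs)
  have h01 : R₀ ≤ Algebra.adjoin ℤ (s₁ : Set R) :=
    Algebra.adjoin_mono (Finset.coe_subset.mpr Finset.subset_union_left)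
  letI : Algebra R₀ (Algebra.adjoin ℤ (s₁ : Set R)) := (Subalgebra.inclusion h01).toRingHom.toAlgebra
  have hcomp : (algebraMap (Algebra.adjoin ℤ (s₁ : Set R)) R).comp
      (algebraMap R₀ (Algebra.adjoin ℤ (s₁ : Set R))) = algebraMap R₀ R := rfl
  let F₁ := fun i => MvPolynomial.map (algebraMap R₀ (Algebra.adjoin ℤ (s₁ : Set R))) (F₀ i)
  have hF₁ : ∀ i, MvPolynomial.map (algebraMap (Algebra.adjoin ℤ (s₁ : Set R)) R) (F₁ i) = F i := fun i => by
    rw [MvPolynomial.map_map, hcomp, hF₀]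
  choose A₁ hA₁ using fun i => lift (s₁ : Set R) (A i) (fun x hx => by
    simp only [co, Finset.mem_coe] at hx ⊢
    exact Finset.mem_union_right _ (Finset.mem_union_left _
      (Finset.mem_biUnion.mpr ⟨i, Finset.mem_univ i, hx⟩)))
  choose b₁ hb₁ using fun i => lift (s₁ : Set R) (b i) (fun x hx => by
    simp only [co, Finset.mem_coe] at hx ⊢
    exact Finset.mem_union_right _ (Finset.mem_union_right _
      (Finset.mem_biUnion.mpr ⟨i, Finset.mem_univ i, hx⟩)))
  refine ⟨Algebra.adjoin ℤ (s₁ : Set R), F₁, hft s₁, hF₁, isRelGCI_of_fdim_le hc F₁ fun q _ => ?_⟩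
  obtain ⟨q₀, hq₀p, hq₀, heq⟩ := fdim_map F₀ F₁ (fun i => rfl) q
  rw [heq]
  by_contra hgt
  have hmem : (⟨q₀, hq₀p⟩ : PrimeSpectrum _) ∈ PrimeSpectrum.zeroLocus (J : Set _) := hJ ▸ hgt
  have hone : ∑ i, A₁ i * MvPolynomial.map (algebraMap R₀ (Algebra.adjoin ℤ (s₁ : Set R))) (j i) +
      ∑ i, b₁ i * F₁ i = 1 := by
    apply MvPolynomial.map_injective (algebraMap (Algebra.adjoin ℤ (s₁ : Set R)) R) Subtype.val_injective
    simp only [map_add, map_sum, map_mul, map_one, hA₁, hb₁, hF₁, MvPolynomial.map_map, hcomp, hjg]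
    simp only [smul_eq_mul] at hA
    rw [hA, hb, huv]
  have := congrArg (Ideal.Quotient.mk (Ideal.span (Set.range F₁))) hone
  rw [map_add, map_sum, map_sum, map_one] at this
  apply (‹q.IsPrime›.ne_top)
  rw [Ideal.eq_top_iff_one, ← this]
  refine add_mem (Ideal.sum_mem _ fun i _ => ?_) (Ideal.sum_mem _ fun i _ => ?_)
  · rw [map_mul]
    exact Ideal.mul_mem_left _ _ ((hq₀ (j i)).mp (hmem (hj i)))
  · rw [map_mul, Ideal.Quotient.eq_zero_iff_mem.mpr (Ideal.subset_span (Set.mem_range_self i)), mul_zero]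
    exact zero_mem _

end Groth.Agent.S9148
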