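import Groth.Statements.S9149
import Groth.Agent.H61.SplitAlg
import Mathlib
-- import your own Groth.Agent.* helpers here

set_option autoImplicit false
universe u
open Synt

namespace Groth.Agent.S9149

theorem eq_pol {A : Type u} [CommRing A] (P : Polynomial A) (hP : P.Monic) :
    P = Groth.Agent.H61.SplitAlg.pol (fun j : Fin P.natDegree => P.coeff j) := by
  ext j
  rcases lt_or_ge j P.natDegree with hj | hj
  · exact (Groth.Agent.H61.SplitAlg.coeff_pol_lt (fun j : Fin P.natDegree => P.coeff j) ⟨j, hj⟩).symm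
  · rw [Groth.Agent.H61.SplitAlg.coeff_pol_ge _ hj]
    split_ifs with h
    · rw [h]; exact hP.coeff_natDegree
    · exact Polynomial.coeff_eq_zero_of_natDegree_lt (by omega)

/-- The splitting algebra. -/
theorem exists_splitting {A : Type u} [CommRing A] {r : ℕ} (c : Fin r → A) :
    ∏ i, (Polynomial.X - Polynomial.C (Ideal.Quotient.mk (Groth.Agent.H61.SplitAlg.ideal c) (MvPolynomial.X i))) =
      (Groth.Agent.H61.SplitAlg.pol c).map (algebraMap A (MvPolynomial (Fin r) A ⧸ Groth.Agent.H61.SplitAlg.ideal c)) := by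
  have := (Groth.Agent.H61.SplitAlg.ideal_le_ker_iff c (Ideal.Quotient.mk (Groth.Agent.H61.SplitAlg.ideal c))).1 (le_of_eq (Ideal.mk_ker).symm)
  exact this


open Polynomial in
/-- A monic polynomial over a ring A splits into linear factors over some A-algebra A' that is syntomic,
finite free and faithfully flat over A. -/
theorem result (A : Type u) [CommRing A] (P : A[X]) (hP : P.Monic) :
    ∃ (A' : Type u) (_ : CommRing A') (_ : Algebra A A'),
      Synt.IsSyntomic A A' ∧ Module.Finite A A' ∧ Module.Free A A' ∧ Module.FaithfullyFlat A A' ∧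
        ∃ s : Multiset A', P.map (algebraMap A A') = (s.map fun b => X - C b).prod := by
  classical
  set c := fun j : Fin P.natDegree => P.coeff j with hc
  let I := Groth.Agent.H61.SplitAlg.ideal c
  let A' := MvPolynomial (Fin P.natDegree) A ⧸ I
  obtain ⟨bb⟩ := Groth.Agent.H61.SplitAlg.nonempty_basis _ c
  have hsplit := exists_splitting c
  rw [← eq_pol P hP] at hsplit
  haveI hfree : Module.Free A A' := Module.Free.of_basis bb
  haveI hfin : Module.Finite A A' := Module.Finite.of_basis bb
  have hff : Module.FaithfullyFlat A A' := by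
    rcases subsingleton_or_nontrivial A with hA | hA
    · exact { submodule_ne_top := fun {m} hm => absurd (Subsingleton.elim m ⊤) hm.ne_top }
    · haveI : Nontrivial A' := by
        rcases subsingleton_or_nontrivial A' with h | h
        · exact absurd (bb.ne_zero ⟨0, Nat.factorial_pos _⟩) (not_not.2 (Subsingleton.elim _ _))
        · exact h
      infer_instance
  refine ⟨A', inferInstance, inferInstance, ⟨inferInstance, Algebra.FinitePresentation.quotient (Submodule.fg_span (Set.finite_range _)), fun p => ?_⟩,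
    hfin, hfree, hff, (Finset.univ.val.map fun i : Fin P.natDegree => Ideal.Quotient.mk I (MvPolynomial.X i)), ?_⟩
  swap
  · rw [← hsplit, Finset.prod, Multiset.map_map]
    rfl
  -- fibres
  let κ := p.asIdeal.ResidueField
  let F := p.asIdeal.Fiber A'
  let φ : MvPolynomial (Fin P.natDegree) κ →ₐ[κ] F :=
    MvPolynomial.aeval fun i => (1 : κ) ⊗ₜ[A] (Ideal.Quotient.mk I (MvPolynomial.X i))
  let rel : Fin P.natDegree → MvPolynomial (Fin P.natDegree) κ := fun j =>
    (Groth.Agent.H61.SplitAlg.prodX κ P.natDegree).coeff j - MvPolynomial.C (algebraMap A κ (c j))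
  have hφmap : ∀ q : MvPolynomial (Fin P.natDegree) A, φ (MvPolynomial.map (algebraMap A κ) q) = (1 : κ) ⊗ₜ[A] Ideal.Quotient.mk I q := by
    intro q
    induction q using MvPolynomial.induction_on with
    | C a =>
      rw [MvPolynomial.map_C, MvPolynomial.aeval_C, Algebra.TensorProduct.algebraMap_apply, Algebra.algebraMap_self_apply]
      show (algebraMap A κ a) ⊗ₜ[A] (1 : A') = (1 : κ) ⊗ₜ[A] algebraMap A A' a
      rw [Algebra.algebraMap_eq_smul_one, Algebra.algebraMap_eq_smul_one, TensorProduct.smul_tmul]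
    | add a b ha hb => rw [map_add, map_add, ha, hb, map_add, TensorProduct.tmul_add]
    | mul_X a i ha => rw [map_mul, MvPolynomial.map_X, map_mul, MvPolynomial.aeval_X, ha, Algebra.TensorProduct.tmul_mul_tmul, one_mul, map_mul]
  have hrel : ∀ j : Fin P.natDegree, MvPolynomial.map (algebraMap A κ) ((Groth.Agent.H61.SplitAlg.prodX A P.natDegree).coeff (j : ℕ) - MvPolynomial.C (c j)) = rel j := by
    intro j
    simp only [rel, map_sub, MvPolynomial.map_C]
    rw [← Polynomial.coeff_map]
    congr 2
    simp [Groth.Agent.H61.SplitAlg.prodX, Polynomial.map_prod]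
  have hsurj : Function.Surjective φ := by
    intro z
    induction z using TensorProduct.induction_on with
    | zero => exact ⟨0, map_zero _⟩
    | add a b ha hb => obtain ⟨x, rfl⟩ := ha; obtain ⟨y, rfl⟩ := hb; exact ⟨x + y, map_add _ _ _⟩
    | tmul a s =>
      obtain ⟨q, rfl⟩ := Ideal.Quotient.mk_surjective s
      exact ⟨MvPolynomial.C a * MvPolynomial.map (algebraMap A κ) q, by
        rw [map_mul, hφmap, MvPolynomial.aeval_C, Algebra.TensorProduct.algebraMap_apply, Algebra.algebraMap_self_apply, Algebra.TensorProduct.tmul_mul_tmul, mul_one, one_mul]⟩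
  let J := Ideal.span (Set.range rel)
  have hle : J ≤ RingHom.ker φ := by
    rw [Ideal.span_le]
    rintro _ ⟨j, rfl⟩
    have h0 : Ideal.Quotient.mk I ((Groth.Agent.H61.SplitAlg.prodX A P.natDegree).coeff (j : ℕ) - MvPolynomial.C (c j)) = 0 :=
      Ideal.Quotient.eq_zero_iff_mem.2 (Ideal.subset_span ⟨j, rfl⟩)
    rw [SetLike.mem_coe, RingHom.mem_ker, ← hrel, hφmap, h0, TensorProduct.tmul_zero]
  let g : A' →ₐ[A] MvPolynomial (Fin P.natDegree) κ ⧸ J :=
    Ideal.Quotient.liftₐ I (MvPolynomial.aeval fun i => Ideal.Quotient.mk J (MvPolynomial.X i)) (by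
      show I ≤ RingHom.ker (MvPolynomial.aeval fun i => Ideal.Quotient.mk J (MvPolynomial.X i))
      refine Ideal.span_le.2 ?_
      rintro _ ⟨j, rfl⟩
      rw [SetLike.mem_coe, RingHom.mem_ker]
      have h1 : ∀ q : MvPolynomial (Fin P.natDegree) A,
          (MvPolynomial.aeval (R := A) fun i => Ideal.Quotient.mk J (MvPolynomial.X i)) q = Ideal.Quotient.mk J (MvPolynomial.map (algebraMap A κ) q) := by
        intro q
        induction q using MvPolynomial.induction_on with
        | C a => rw [MvPolynomial.aeval_C, MvPolynomial.map_C]; rfl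
        | add a b ha hb => rw [map_add, map_add, map_add, ha, hb]
        | mul_X a i ha => rw [map_mul, map_mul, map_mul, MvPolynomial.aeval_X, MvPolynomial.map_X, ha]
      rw [h1, hrel, Ideal.Quotient.eq_zero_iff_mem]
      exact Ideal.subset_span ⟨j, rfl⟩)
  let ψ : F →ₐ[κ] MvPolynomial (Fin P.natDegree) κ ⧸ J :=
    Algebra.TensorProduct.lift (Algebra.ofId κ _) g (fun x y => Commute.all _ _)
  have hψφ : ψ.comp φ = Ideal.Quotient.mkₐ κ J := by
    refine MvPolynomial.algHom_ext fun i => ?_
    rw [AlgHom.comp_apply, MvPolynomial.aeval_X, Algebra.TensorProduct.lift_tmul, map_one, one_mul]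
    exact MvPolynomial.aeval_X _ i
  have hker : RingHom.ker φ.toRingHom = J := le_antisymm (fun q hq => by
    rw [← Ideal.Quotient.eq_zero_iff_mem, ← Ideal.Quotient.mkₐ_eq_mk κ, ← hψφ, AlgHom.comp_apply]
    rw [show φ q = 0 from hq, map_zero]) hle
  refine ⟨⟨(Algebra.FiniteType.of_surjective φ hsurj).out⟩, fun Q => ⟨1, fun h1 => Q.2.ne_top ((Ideal.eq_top_iff_one _).2 h1), ?_⟩⟩
  let e : F ≃ₐ[κ] Localization.Away (1 : F) := (IsLocalization.atUnit F (Localization.Away (1 : F)) 1 isUnit_one).restrictScalars κ
  rcases subsingleton_or_nontrivial (Localization.Away (1 : F)) with h | h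
  · exact Or.inl h
  · refine Or.inr ⟨P.natDegree, P.natDegree, le_rfl, e.toAlgHom.comp φ, rel, e.surjective.comp hsurj, ?_, ?_⟩
    · ext q
      show e (φ q) = 0 ↔ q ∈ J
      rw [map_eq_zero_iff _ e.injective, ← hker]; rfl
    · haveI : Module.Finite κ (Localization.Away (1 : F)) := Module.Finite.equiv e.toLinearEquiv
      haveI : IsArtinianRing (Localization.Away (1 : F)) := IsArtinianRing.of_finite κ _
      rw [Nat.sub_self, Nat.cast_zero]
      exact ringKrullDimZero_iff_ringKrullDim_eq_zero.1 inferInstance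

end Groth.Agent.S9149
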