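import Groth.Statements.S9150
import Groth.Agent.S9169
import Groth.Agent.S9172
import Groth.Agent.Lib.Synt92.ReductionEquiv

set_option autoImplicit false
universe u
open Synt

namespace Groth.Agent.S9150

/-- Let I be an ideal of a ring R and S̄ an R-algebra killed by I which is syntomic over R/I. Then S̄ is
covered by finitely many basic opens S̄_g each isomorphic, as an R-algebra, to S/IS for some
relative global complete intersection S over R. -/
theorem result (R : Type u) [CommRing R] (I : Ideal R) (Sb : Type u) [CommRing Sb]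
    [Algebra R Sb] [Algebra (R ⧸ I) Sb] [IsScalarTower R (R ⧸ I) Sb] (h : Synt.IsSyntomic (R ⧸ I) Sb) :
    ∃ s : Finset Sb, Ideal.span (s : Set Sb) = ⊤ ∧ ∀ g ∈ s,
      ∃ (n c : ℕ) (F : Fin c → MvPolynomial (Fin n) R), Synt.IsRelGCI R n c F ∧
        Nonempty (Localization.Away g ≃ₐ[R]
          (Synt.RelGCIRing R n c F ⧸ I.map (algebraMap R (Synt.RelGCIRing R n c F)))) := by
  classical
  let Good : Sb → Prop := fun g => ∃ (n c : ℕ) (F : Fin c → MvPolynomial (Fin n) R),
    Synt.IsRelGCI R n c F ∧ Nonempty (Localization.Away g ≃ₐ[R]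
      (Synt.RelGCIRing R n c F ⧸ I.map (algebraMap R (Synt.RelGCIRing R n c F))))
  have key : ∀ q : Ideal Sb, q.IsPrime → ∃ g, g ∉ q ∧ Good g := by
    intro q hq
    haveI : q.LiesOver (q.under (R ⧸ I)) := ⟨rfl⟩
    let Q := Groth.Agent.H20.FibreDimBC.fibrePoint (R ⧸ I) Sb q
    have hsyn : ∃ g : Sb, g ∉ q ∧ Synt.IsSyntomic (R ⧸ I) (Localization.Away g) :=
      ⟨1, fun h1 => hq.ne_top ((Ideal.eq_top_iff_one _).2 h1),
        Lib.Synt92.Congr.isSyntomic_congr ((IsLocalization.atUnits Sb (Submonoid.powers (1 : Sb))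
          (S := Localization.Away (1 : Sb)) (by simp)).restrictScalars (R ⧸ I)) h⟩
    obtain ⟨g, hg, n, c, G, hG, ⟨e⟩⟩ := (Groth.Agent.S9169.result (R ⧸ I) Sb (q.under (R ⧸ I)) q
      Q.asIdeal (Groth.Agent.H20.FibreDimBC.comap_fibrePoint q)).1.1 hsyn
    choose F hF using fun i => MvPolynomial.map_surjective (Ideal.Quotient.mk I) Ideal.Quotient.mk_surjective (G i)
    have hG' : G = fun i => MvPolynomial.map (Ideal.Quotient.mk I) (F i) := funext fun i => (hF i).symm
    subst hG'
    obtain ⟨w, hw, hrel, ⟨e'⟩⟩ := Groth.Agent.S9172.result R n c F I hG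
    refine ⟨g, hg, n + 1, c + 1, _, hrel, ?_⟩
    exact Lib.Synt92.ReductionEquiv.nonempty_equiv I F w hw (e.restrictScalars R) e'
  have hspan : Ideal.span {g | Good g} = ⊤ := by
    by_contra hne
    obtain ⟨m, hm, hle⟩ := Ideal.exists_le_maximal _ hne
    obtain ⟨g, hg, hgood⟩ := key m hm.isPrime
    exact hg (hle (Ideal.subset_span hgood))
  obtain ⟨s, hs, hone⟩ := Submodule.mem_span_finite_of_mem_span (show (1 : Sb) ∈ Ideal.span {g | Good g} from hspan ▸ Submodule.mem_top)
  exact ⟨s, (Ideal.eq_top_iff_one _).2 hone, fun g hg => hs hg⟩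

end Groth.Agent.S9150
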