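import Groth.Statements.S9151
import Groth.Agent.S9287
import Groth.Agent.Lib.Synt92.KRIdeal
import Groth.Agent.H54.NLPerfect

set_option autoImplicit false
universe u
open Synt

namespace Groth.Agent.S9151

theorem main {A R : Type u} [CommRing R] [CommRing A] [Algebra R A] (I : Ideal A) (G : A)
    (g : A ⧸ I) (hG : Ideal.Quotient.mk I G = g)
    (h : ∀ (α : Localization.Away G →ₐ[R] Localization.Away g), Function.Surjective α →
      LCI.IsKoszulRegularIdeal (RingHom.ker α.toRingHom)) :
    Module.Finite (Localization.Away g) (LocalizedModule (Submonoid.powers g) I.Cotangent) ∧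
      Module.Projective (Localization.Away g) (LocalizedModule (Submonoid.powers g) I.Cotangent) := by
  let A' := Localization.Away G
  let S := A ⧸ I
  let S' := Localization.Away g
  have hu : ∀ y : Submonoid.powers G, IsUnit (algebraMap A S' y) := by
    rintro ⟨_, k, rfl⟩
    rw [map_pow, IsScalarTower.algebraMap_apply A S S', Ideal.Quotient.algebraMap_eq, hG]
    exact (IsLocalization.Away.algebraMap_isUnit g).pow k
  let α : A' →ₐ[R] S' :=
    IsLocalization.liftAlgHom (M := Submonoid.powers G) (f := IsScalarTower.toAlgHom R A S') hu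
  have hα : ∀ a, α (algebraMap A A' a) = algebraMap A S' a := fun a => IsLocalization.lift_eq _ _
  have hnum : ∀ y : S', ∃ (a : A) (k : ℕ), y * algebraMap A S' (G ^ k) = algebraMap A S' a := by
    intro y
    obtain ⟨⟨x, ⟨_, k, rfl⟩⟩, hx⟩ := IsLocalization.surj (Submonoid.powers g) y
    obtain ⟨a, rfl⟩ := Ideal.Quotient.mk_surjective x
    refine ⟨a, k, ?_⟩
    rw [IsScalarTower.algebraMap_apply A S S', IsScalarTower.algebraMap_apply A S S' a,
      Ideal.Quotient.algebraMap_eq, map_pow (Ideal.Quotient.mk I), hG]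
    exact hx
  have hαs : Function.Surjective α := by
    intro y
    obtain ⟨a, k, hak⟩ := hnum y
    obtain ⟨u, hu'⟩ := (IsLocalization.Away.algebraMap_isUnit (S := A') G).pow k
    refine ⟨algebraMap A A' a * ↑u⁻¹, (hu ⟨_, k, rfl⟩).mul_left_injective ?_⟩
    change α (algebraMap A A' a * ↑u⁻¹) * algebraMap A S' (G ^ k) = y * algebraMap A S' (G ^ k)
    rw [hak, ← hα (G ^ k), ← map_mul, mul_assoc, map_pow, ← hu', Units.inv_mul, mul_one, hα]
  let P := Algebra.Extension.ofSurjective α hαs
  have hP : LCI.IsKoszulRegularIdeal P.ker := h α hαs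
  obtain ⟨hfin, hproj⟩ := Groth.Agent.H54.NLPerfect.finite_projective_cotangent P hP
  haveI := hfin
  haveI := hproj
  have hαI : ∀ a ∈ I, α (algebraMap A A' a) = 0 := fun a ha => by
    rw [hα, IsScalarTower.algebraMap_apply A S S', Ideal.Quotient.algebraMap_eq,
      Ideal.Quotient.eq_zero_iff_mem.2 ha, map_zero]
  have hker : ∀ z : A', α z = 0 → ∃ (a : A) (k : ℕ), a ∈ I ∧ algebraMap A A' (G ^ k) * z = algebraMap A A' a := by
    intro z hz
    obtain ⟨⟨a, ⟨_, k, rfl⟩⟩, hak⟩ := IsLocalization.surj (Submonoid.powers G) z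
    have ha : algebraMap A S' a = 0 := by
      have := congrArg α hak
      rw [map_mul, hz, zero_mul, hα] at this
      exact this.symm
    rw [IsScalarTower.algebraMap_apply A S S', Ideal.Quotient.algebraMap_eq] at ha
    obtain ⟨⟨_, l, rfl⟩, hl⟩ := (IsLocalization.map_eq_zero_iff (Submonoid.powers g) S' _).1 ha
    simp only [← hG, ← map_pow, ← map_mul, Ideal.Quotient.eq_zero_iff_mem] at hl
    refine ⟨G ^ l * a, k + l, hl, ?_⟩
    rw [pow_add, map_mul, map_mul, ← hak]
    simp only
    ring
  -- the comparison map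
  let ι : A →+* P.Ring := algebraMap A A'
  have hsmulA : ∀ (a : A) (p : P.ker),
      (algebraMap A S' a) • Algebra.Extension.Cotangent.mk p =
        Algebra.Extension.Cotangent.mk (ι a • p) := by
    intro a p
    rw [LinearMap.map_smul, ← algebraMap_smul S' (ι a) (Algebra.Extension.Cotangent.mk p)]
    congr 1
    exact (hα a).symm
  let φ₀ : I →ₗ[A] P.Cotangent :=
    { toFun := fun a => Algebra.Extension.Cotangent.mk ⟨algebraMap A A' a, hαI a a.2⟩
      map_add' := fun a b => by
        rw [← map_add]
        exact congrArg _ (Subtype.ext (map_add (algebraMap A A') (a : A) b))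
      map_smul' := fun r a => by
        rw [RingHom.id_apply]
        refine Eq.trans ?_ (algebraMap_smul S' r _)
        rw [hsmulA]
        exact congrArg _ (Subtype.ext (map_mul (algebraMap A A') r a)) }
  let φ₁ : I.Cotangent →ₗ[A] P.Cotangent :=
    (I • ⊤ : Submodule A I).liftQ φ₀ (Submodule.smul_le.2 fun r hr a _ => by
      rw [LinearMap.mem_ker, map_smul, ← algebraMap_smul S' r (φ₀ _), IsScalarTower.algebraMap_apply A S S',
        Ideal.Quotient.algebraMap_eq, Ideal.Quotient.eq_zero_iff_mem.2 hr, map_zero, zero_smul])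
  let f : I.Cotangent →ₗ[S] P.Cotangent :=
    LinearMap.extendScalarsOfSurjective (R := A) Ideal.Quotient.mk_surjective φ₁
  have hf : ∀ a : I, f (I.toCotangent a) = φ₀ a := fun a => rfl
  have hgk : ∀ k : ℕ, algebraMap S S' (g ^ k : S) = algebraMap A S' (G ^ k) := fun k => by
    rw [IsScalarTower.algebraMap_apply A S S', Ideal.Quotient.algebraMap_eq, map_pow (Ideal.Quotient.mk I), hG]
  haveI : IsLocalizedModule (Submonoid.powers g) f := by
    refine ⟨fun x => ?_, fun y => ?_, fun {x₁ x₂} hx => ?_⟩
    · obtain ⟨u, hu'⟩ := IsLocalization.map_units S' x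
      refine (Module.End.isUnit_iff _).2 ?_
      have e : ⇑(algebraMap S (Module.End S P.Cotangent) x) = fun y => (↑u : S') • y := funext fun y => by
        rw [hu', algebraMap_smul]
        rfl
      rw [e]
      exact u.isUnit.smul_bijective
    · obtain ⟨⟨z, hz⟩, rfl⟩ := Algebra.Extension.Cotangent.mk_surjective y
      obtain ⟨a, k, ha, hak⟩ := hker z hz
      refine ⟨⟨I.toCotangent ⟨a, ha⟩, ⟨g ^ k, k, rfl⟩⟩, ?_⟩
      change (g ^ k : S) • _ = f (I.toCotangent ⟨a, ha⟩)
      rw [hf, ← algebraMap_smul S' (g ^ k : S) (Algebra.Extension.Cotangent.mk _), hgk, hsmulA]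
      exact congrArg _ (Subtype.ext hak)
    · obtain ⟨a₁, rfl⟩ := I.toCotangent_surjective x₁
      obtain ⟨a₂, rfl⟩ := I.toCotangent_surjective x₂
      rw [hf, hf, ← sub_eq_zero, ← map_sub] at hx
      obtain ⟨d, rfl⟩ : ∃ d, a₁ = a₂ + d := ⟨a₁ - a₂, (add_sub_cancel _ _).symm⟩
      rw [add_sub_cancel_left] at hx
      have h2 : algebraMap A A' (d : A) ∈ P.ker ^ 2 := (Algebra.Extension.Cotangent.mk_eq_zero_iff _).1 hx
      have hle : P.ker ≤ I.map (algebraMap A A') := fun z hz => by
        obtain ⟨a, k, ha, hak⟩ := hker z hz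
        refine (Ideal.unit_mul_mem_iff_mem _ (IsLocalization.map_units A' (⟨G ^ k, k, rfl⟩ : Submonoid.powers G))).1 ?_
        rw [hak]
        exact Ideal.mem_map_of_mem _ ha
      have h3 : algebraMap A A' (d : A) ∈ (I ^ 2).map (algebraMap A A') := by
        rw [Ideal.map_pow]
        exact Ideal.pow_right_mono hle 2 h2
      obtain ⟨_, ⟨k, rfl⟩, hk⟩ := (IsLocalization.algebraMap_mem_map_algebraMap_iff (Submonoid.powers G) A' _ _).1 h3
      refine ⟨⟨g ^ k, k, rfl⟩, ?_⟩
      change (g ^ k : S) • I.toCotangent (a₂ + d) = (g ^ k : S) • I.toCotangent a₂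
      have hk' : (g ^ k : S) • I.toCotangent d = (G ^ k : A) • I.toCotangent d := by
        rw [← algebraMap_smul S (G ^ k) (I.toCotangent d), Ideal.Quotient.algebraMap_eq, map_pow, hG]
      rw [map_add, smul_add, add_eq_left, hk', ← map_smul, Ideal.toCotangent_eq_zero]
      exact hk
  let e := (IsLocalizedModule.iso (Submonoid.powers g) f).extendScalarsOfIsLocalization (Submonoid.powers g) S'
  exact ⟨Module.Finite.equiv e.symm, Module.Projective.of_equiv e.symm⟩

/-- Let S = R[x_1, …, x_n]/I with I finitely generated and let g ∈ S be such that S_g is syntomic over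
R. Then the localization (I/I²)_g of the conormal module is a finite projective S_g-module. -/
theorem result (R : Type u) [CommRing R] (n : ℕ)
    (I : Ideal (MvPolynomial (Fin n) R)) (hI : I.FG) (g : MvPolynomial (Fin n) R ⧸ I)
    (hg : Synt.IsSyntomic R (Localization.Away g)) :
    Module.Finite (Localization.Away g) (LocalizedModule (Submonoid.powers g) I.Cotangent) ∧
      Module.Projective (Localization.Away g) (LocalizedModule (Submonoid.powers g) I.Cotangent) := by
  obtain ⟨G, hG⟩ := Ideal.Quotient.mk_surjective g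
  refine main (R := R) I G g hG fun α hα => ?_
  obtain ⟨-, -, n', f', hf', hI'⟩ := (Groth.Agent.S9287.result R (Localization.Away g)).1 hg
  haveI : Algebra.Smooth R (MvPolynomial (Fin n') R) := ⟨inferInstance, inferInstance⟩
  haveI : Algebra.Smooth R (MvPolynomial (Fin n) R) := ⟨inferInstance, inferInstance⟩
  haveI : Algebra.Smooth (MvPolynomial (Fin n) R) (Localization.Away G) := Algebra.Smooth.of_isLocalization_Away G
  haveI : Algebra.Smooth R (Localization.Away G) := Algebra.Smooth.comp R (MvPolynomial (Fin n) R) _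
  exact Groth.Agent.Lib.Synt92.KRIdeal.isKoszulRegularIdeal_of_presentation f' hf' α hα hI'

end Groth.Agent.S9151
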