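import Groth.Statements.S9154
import Groth.Agent.H20.CMRegular
import Groth.Agent.Lib.Dim.Local

set_option autoImplicit false
universe u
open CAlg

namespace Groth.Agent.S9154

theorem exists_surjective_localization {S : Type u} [CommRing S] (I q : Ideal S) [q.IsPrime]
    [(q.map (Ideal.Quotient.mk I)).IsPrime] (hIq : I ≤ q) :
    ∃ φ : Localization.AtPrime (q.map (Ideal.Quotient.mk I)) →+*
      Localization.AtPrime q ⧸ I.map (algebraMap S (Localization.AtPrime q)),
      Function.Surjective φ := by
  let A := Localization.AtPrime q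
  let J := I.map (algebraMap S A)
  let ψ : S ⧸ I →+* A ⧸ J := Ideal.quotientMap J (algebraMap S A) Ideal.le_comap_map
  have hq : ∀ s, Ideal.Quotient.mk I s ∈ q.map (Ideal.Quotient.mk I) ↔ s ∈ q := fun s =>
    ⟨fun h => by
      obtain ⟨t, ht, he⟩ := (Ideal.mem_map_iff_of_surjective _ Ideal.Quotient.mk_surjective).mp h
      simpa using sub_mem ht (hIq (Ideal.Quotient.eq.mp he)),
    Ideal.mem_map_of_mem _⟩
  have hu : ∀ y : (q.map (Ideal.Quotient.mk I)).primeCompl, IsUnit (ψ y) := by
    rintro ⟨y, hy⟩
    obtain ⟨s, rfl⟩ := Ideal.Quotient.mk_surjective y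
    rw [show ψ (Ideal.Quotient.mk I s) = Ideal.Quotient.mk J (algebraMap S A s) from
      Ideal.quotientMap_mk]
    exact (IsLocalization.map_units A (⟨s, fun h => hy ((hq s).mpr h)⟩ : q.primeCompl)).map _
  refine ⟨IsLocalization.lift hu, fun z => ?_⟩
  obtain ⟨z, rfl⟩ := Ideal.Quotient.mk_surjective z
  obtain ⟨a, s, rfl⟩ := IsLocalization.exists_mk'_eq q.primeCompl z
  refine ⟨IsLocalization.mk' _ (Ideal.Quotient.mk I a)
    (⟨Ideal.Quotient.mk I s, fun h => s.2 ((hq _).mp h)⟩ :
      (q.map (Ideal.Quotient.mk I)).primeCompl), ?_⟩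
  rw [IsLocalization.lift_mk'_spec]
  show Ideal.Quotient.mk J (algebraMap S A a) = Ideal.Quotient.mk J (algebraMap S A s) * _
  rw [← map_mul, IsLocalization.mk'_spec']

/-- Let S be a Cohen–Macaulay finite type algebra over a field k, equidimensional of dimension d, and
f_1, …, f_i elements (i ≤ d) generating a proper ideal whose zero locus has dimension at most d − i.
Then that dimension equals d − i and the f_j form a regular sequence in S_q for every prime q
containing them. (The published statement also allows the f_j to generate the unit ideal, where the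
zero locus is empty and the equality fails, e.g. f_1 = 1 in k[x]; this row assumes the ideal is
proper.) -/
theorem result (k S : Type u) [Field k] [CommRing S] [Algebra k S]
    [Algebra.FiniteType k S] [LocCoh.IsCohenMacaulayRing S] (d : ℕ)
    (heq : ∀ p ∈ minimalPrimes S, ringKrullDim (S ⧸ p) = d) (f : List S) (hi : f.length ≤ d)
    (hne : Ideal.ofList f ≠ ⊤)
    (hle : ringKrullDim (S ⧸ Ideal.ofList f) ≤ ((d - f.length : ℕ) : WithBot ℕ∞)) :
    ringKrullDim (S ⧸ Ideal.ofList f) = ((d - f.length : ℕ) : WithBot ℕ∞) ∧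
      ∀ (q : Ideal S) [q.IsPrime], Ideal.ofList f ≤ q →
        RingTheory.Sequence.IsRegular (Localization.AtPrime q)
          (f.map (algebraMap S (Localization.AtPrime q))) := by
  classical
  have hdimAt : ∀ q : Ideal S, [q.IsPrime] → Groth.Agent.Lib.Dim.Local.dimAt k q = d := by
    intro q _
    obtain ⟨p, hp, -, he⟩ := Groth.Agent.Lib.Dim.Local.exists_minimalPrimes_dimAt_eq k q
    have : p.IsPrime := hp.1.1
    have h := heq p hp
    rw [Groth.Agent.Lib.Dim.Basic.ringKrullDim_quotient_prime k p] at h
    rw [← he]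
    exact_mod_cast h
  set I := Ideal.ofList f with hIdef
  have key : ∀ q : Ideal S, [q.IsPrime] → I ≤ q →
      ringKrullDim (Localization.AtPrime q ⧸ Ideal.ofList (f.map (algebraMap S (Localization.AtPrime q))))
          + f.length ≤ ringKrullDim (Localization.AtPrime q) ∧
        (∀ r ∈ f.map (algebraMap S (Localization.AtPrime q)),
          r ∈ IsLocalRing.maximalIdeal (Localization.AtPrime q)) ∧
        (q.height : WithBot ℕ∞) ≤ ((q.map (Ideal.Quotient.mk I)).height : WithBot ℕ∞) + f.length := by
    intro q _ hq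
    have hqp : (q.map (Ideal.Quotient.mk I)).IsPrime :=
      Ideal.map_isPrime_of_surjective Ideal.Quotient.mk_surjective (Ideal.mk_ker.le.trans hq)
    obtain ⟨φ, hφ⟩ := exists_surjective_localization I q hq
    have hmem : ∀ r ∈ f.map (algebraMap S (Localization.AtPrime q)),
        r ∈ IsLocalRing.maximalIdeal (Localization.AtPrime q) := by
      intro r hr
      obtain ⟨a, ha, rfl⟩ := List.mem_map.mp hr
      exact (IsLocalization.AtPrime.to_map_mem_maximal_iff (Localization.AtPrime q) q a).mpr
        (hq (Ideal.subset_span ha))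
    have hJ : Ideal.ofList (f.map (algebraMap S (Localization.AtPrime q))) =
        I.map (algebraMap S (Localization.AtPrime q)) := (Ideal.map_ofList _ f).symm
    have h1 := ringKrullDim_le_of_surjective φ hφ
    rw [IsLocalization.AtPrime.ringKrullDim_eq_height (q.map (Ideal.Quotient.mk I))
      (Localization.AtPrime (q.map (Ideal.Quotient.mk I)))] at h1
    have h2 := Groth.Agent.H20.CMRegular.supportDim_le_quotient_add_length _ hmem
      (Localization.AtPrime q)
    rw [Module.supportDim_self_eq_ringKrullDim, List.length_map,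
      Module.supportDim_eq_of_equiv (Submodule.quotEquivOfEq _
        (I.map (algebraMap S (Localization.AtPrime q))) (by rw [hJ, smul_eq_mul, Ideal.mul_top])),
      Module.supportDim_quotient_eq_ringKrullDim,
      IsLocalization.AtPrime.ringKrullDim_eq_height q (Localization.AtPrime q)] at h2
    refine ⟨?_, hmem, h2.trans (by gcongr)⟩
    rw [hJ, IsLocalization.AtPrime.ringKrullDim_eq_height q (Localization.AtPrime q)]
    refine (add_le_add h1 le_rfl).trans ?_
    have h3 : Groth.Agent.Lib.Dim.Local.dimAt k (q.map (Ideal.Quotient.mk I)) ≤ d - f.length := by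
      obtain ⟨p, hp, -, he⟩ :=
        Groth.Agent.Lib.Dim.Local.exists_minimalPrimes_dimAt_eq k (q.map (Ideal.Quotient.mk I))
      have : p.IsPrime := hp.1.1
      have h := (Groth.Agent.Lib.Dim.Local.dimQ_le_ringKrullDim k p).trans hle
      rw [← he]
      exact_mod_cast h
    have hdq : Groth.Agent.Lib.Dim.Basic.dimQ k (q.map (Ideal.Quotient.mk I)) =
        Groth.Agent.Lib.Dim.Basic.dimQ k q := by
      unfold Groth.Agent.Lib.Dim.Basic.dimQ Groth.Agent.Lib.Dim.Basic.trdegNat
      exact congrArg Cardinal.toNat (DoubleQuot.quotQuotEquivQuotOfLEₐ k hq).trdeg_eq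
    have h4 := Groth.Agent.Lib.Dim.Local.coe_dimAt k (q.map (Ideal.Quotient.mk I))
    have h5 := Groth.Agent.Lib.Dim.Local.coe_dimAt k q
    rw [hdimAt q] at h5
    have hnat : (q.map (Ideal.Quotient.mk I)).height.toNat + f.length ≤ q.height.toNat := by
      have h6 := h3
      unfold Groth.Agent.Lib.Dim.Local.dimAt at h6
      rw [hdq] at h6
      have h7 : q.height.toNat + Groth.Agent.Lib.Dim.Basic.dimQ k q = d := hdimAt q
      omega
    rw [← Groth.Agent.Lib.Dim.Local.coe_height_toNat k (q.map (Ideal.Quotient.mk I)),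
      ← Groth.Agent.Lib.Dim.Local.coe_height_toNat k q]
    exact_mod_cast hnat
  refine ⟨le_antisymm hle ?_, fun q _ hq => ?_⟩
  · obtain ⟨m, hm, hIm⟩ := Ideal.exists_le_maximal I hne
    have hmp : (m.map (Ideal.Quotient.mk I)).IsPrime :=
      Ideal.map_isPrime_of_surjective Ideal.Quotient.mk_surjective (Ideal.mk_ker.le.trans hIm)
    have h1 := (key m hIm).2.2
    have h2 : ((m.map (Ideal.Quotient.mk I)).height : WithBot ℕ∞) ≤ ringKrullDim (S ⧸ I) :=
      Ideal.height_le_ringKrullDim_of_isPrime
    rw [Groth.Agent.Lib.Dim.Local.height_maximal_eq_dimAt k m, hdimAt m] at h1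
    obtain ⟨c, hc⟩ : ∃ c : ℕ, (m.map (Ideal.Quotient.mk I)).height = c :=
      ⟨_, (Groth.Agent.Lib.Dim.Local.coe_height_toNat k _).symm⟩
    rw [hc] at h1 h2
    refine le_trans ?_ h2
    have h1' : d ≤ c + f.length := by exact_mod_cast h1
    have h3 : d - f.length ≤ c := by omega
    first | exact WithBot.coe_le_coe.mpr (Nat.cast_le.mpr h3) | exact Nat.cast_le.mpr h3
  · obtain ⟨h1, h2, -⟩ := key q hq
    have := LocCoh.IsCohenMacaulayRing.isCohenMacaulayLocalRing_localization q
    refine Groth.Agent.H20.CMRegular.isRegular_of_ringKrullDim_le _ h2 ?_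
    rwa [List.length_map]

end Groth.Agent.S9154
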