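import Groth.Statements.S9155
import Groth.Agent.Lib.DiffOp.Etale
import Mathlib.RingTheory.Localization.BaseChange

set_option autoImplicit false
universe u
open Diff16

namespace Groth.Agent.S9155

/-- A differential operator of order at most k between modules over B (relative to A → B) has exactly
one extension to the localized modules over S⁻¹B that is again a differential operator of order at
most k (relative to A → S⁻¹B), compatible with the localization maps. -/
theorem result (A B : Type u) [CommRing A] [CommRing B] [Algebra A B]
    (S : Submonoid B) (M N : Type u) [AddCommGroup M] [Module B M] [Module A M] [IsScalarTower A B M]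
    [AddCommGroup N] [Module B N] [Module A N] [IsScalarTower A B N] (k : ℕ) (D : M →ₗ[A] N)
    (hD : Diff16.IsDiffOpLE A B M N k D) :
    ∃! E : LocalizedModule S M →ₗ[A] LocalizedModule S N,
      Diff16.IsDiffOpLE A (Localization S) (LocalizedModule S M) (LocalizedModule S N) k E ∧
        E ∘ₗ (LocalizedModule.mkLinearMap S M).restrictScalars A =
          (LocalizedModule.mkLinearMap S N).restrictScalars A ∘ₗ D := by
  let L := Localization S
  haveI : Algebra.FormallyEtale B L := Algebra.FormallyEtale.of_isLocalization S
  let eM := LocalizedModule.equivTensorProduct S M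
  obtain ⟨D', hD', hext⟩ := Lib.DiffOp.Etale.exists_extension (S' := L)
    (Lib.DiffOp.Basic.postcomp (LocalizedModule.mkLinearMap S N) hD)
  have hinv : ∀ m : M, eM (LocalizedModule.mkLinearMap S M m) = (1 : L) ⊗ₜ[B] m := by
    intro m
    apply eM.symm.injective
    rw [eM.symm_apply_apply, LocalizedModule.equivTensorProduct_symm_apply_tmul_one]
    rfl
  refine ⟨D' ∘ₗ eM.toLinearMap.restrictScalars A,
    ⟨Lib.DiffOp.Basic.precomp eM.toLinearMap hD', LinearMap.ext fun m => ?_⟩, ?_⟩
  · change D' (eM (LocalizedModule.mkLinearMap S M m)) = _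
    rw [hinv, hext]
  rintro E ⟨hE, hEe⟩
  have heq : E ∘ₗ eM.symm.toLinearMap.restrictScalars A = D' := by
    refine Lib.DiffOp.Etale.ext_of_formallyUnramified (S := B)
      (Lib.DiffOp.Basic.precomp eM.symm.toLinearMap hE) hD' fun m => ?_
    change E (eM.symm (1 ⊗ₜ m)) = _
    rw [show eM.symm ((1 : L) ⊗ₜ[B] m) = LocalizedModule.mkLinearMap S M m by
      rw [← hinv, eM.symm_apply_apply], hext]
    exact LinearMap.congr_fun hEe m
  rw [← heq]
  refine LinearMap.ext fun x => ?_
  change E x = E (eM.symm (eM x))
  rw [eM.symm_apply_apply]

end Groth.Agent.S9155
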