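import Groth.Statements.S9156
import Groth.Agent.H20.CMDim
import Groth.Agent.H20.LocQuot
import Groth.Agent.H20.ClopenDecomp
import Groth.Agent.Lib.Dim.Local
import Mathlib.RingTheory.Localization.Away.Lemmas

set_option autoImplicit false
universe u
open CAlg

namespace Groth.Agent.S9156

theorem dimQ_le_of_cm {k S : Type u} [Field k] [CommRing S] [Algebra k S] [Algebra.FiniteType k S]
    [LocCoh.IsCohenMacaulayRing S] (p : Ideal S) (hp : p ∈ minimalPrimes S) (q : Ideal S) [q.IsPrime]
    (hpq : p ≤ q) :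
    Groth.Agent.Lib.Dim.Local.dimAt k q = Groth.Agent.Lib.Dim.Basic.dimQ k p := by
  have : p.IsPrime := hp.1.1
  refine le_antisymm ?_ (Groth.Agent.Lib.Dim.Local.dimQ_le_dimAt_of_le k hpq)
  let A := Localization.AtPrime q
  have := LocCoh.IsCohenMacaulayRing.isCohenMacaulayLocalRing_localization q
  have hdisj : Disjoint (q.primeCompl : Set S) (p : Set S) := by
    rw [Set.disjoint_left]
    exact fun x hx hxp => hx (hpq hxp)
  let J := p.map (algebraMap S A)
  have hJ : J.IsPrime := IsLocalization.isPrime_of_isPrime_disjoint q.primeCompl _ _ ‹_› hdisj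
  have hsupp : Module.support A A = Set.univ := by
    simp [Module.support_eq_zeroLocus, Module.annihilator_eq_bot.mpr]
  have h1 := Groth.Agent.H20.CMDim.ringKrullDim_quotient_add_height (M := A)
    Groth.Agent.Lib.Depth.CM.isCohenMacaulayModule_self hsupp J
  rw [← IsLocalization.height_under q.primeCompl J,
    IsLocalization.under_map_of_isPrime_disjoint q.primeCompl A ‹_› hdisj,
    Ideal.height_eq_zero_iff.mpr hp, WithBot.coe_zero, add_zero,
    IsLocalization.AtPrime.ringKrullDim_eq_height q A] at h1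
  have hqp : (q.map (Ideal.Quotient.mk p)).IsPrime :=
    Ideal.map_isPrime_of_surjective Ideal.Quotient.mk_surjective (Ideal.mk_ker.le.trans hpq)
  obtain ⟨φ, hφ⟩ := Groth.Agent.H20.LocQuot.exists_surjective_localization p q hpq
  have h2 := ringKrullDim_le_of_surjective φ hφ
  rw [h1, IsLocalization.AtPrime.ringKrullDim_eq_height (q.map (Ideal.Quotient.mk p))
    (Localization.AtPrime (q.map (Ideal.Quotient.mk p))),
    WithBot.coe_le_coe, ← Groth.Agent.Lib.Dim.Local.coe_height_toNat k q] at h2
  have h3 := Groth.Agent.Lib.Dim.Basic.height_add_dimQ k (q.map (Ideal.Quotient.mk p))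
  rw [← Groth.Agent.Lib.Dim.Local.coe_height_toNat k (q.map (Ideal.Quotient.mk p))] at h2 h3
  have hdq : Groth.Agent.Lib.Dim.Basic.dimQ k (q.map (Ideal.Quotient.mk p)) =
      Groth.Agent.Lib.Dim.Basic.dimQ k q :=
    congrArg Cardinal.toNat (DoubleQuot.quotQuotEquivQuotOfLEₐ k hpq).trdeg_eq
  rw [hdq] at h3
  have h2' : q.height.toNat ≤ (q.map (Ideal.Quotient.mk p)).height.toNat := by exact_mod_cast h2
  have h3' : (q.map (Ideal.Quotient.mk p)).height.toNat + Groth.Agent.Lib.Dim.Basic.dimQ k q =
      Groth.Agent.Lib.Dim.Basic.dimQ k p := by exact_mod_cast h3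
  show q.height.toNat + _ ≤ _
  omega

/-- A Cohen–Macaulay finite type algebra S over a field k decomposes as a finite product of k-algebras
S_0 × ⋯ × S_N in which every maximal ideal of the factor S_d has height d (so Spec S is a finite
disjoint union of equidimensional open and closed pieces). -/
theorem result (k S : Type u) [Field k] [CommRing S]
    [Algebra k S] [Algebra.FiniteType k S] [LocCoh.IsCohenMacaulayRing S] :
    ∃ (N : ℕ) (T : Fin (N + 1) → Type u) (_ : ∀ d, CommRing (T d)) (_ : ∀ d, Algebra k (T d)),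
      Nonempty (S ≃ₐ[k] ((d : Fin (N + 1)) → T d)) ∧
        ∀ (d : Fin (N + 1)) (m : Ideal (T d)), m.IsMaximal → m.height = (d : ℕ) := by
  have : IsNoetherianRing S := Algebra.FiniteType.isNoetherianRing k S
  let f : PrimeSpectrum S → ℕ := fun q => Groth.Agent.Lib.Dim.Local.dimAt k q.asIdeal
  have hf : IsLocallyConstant f := by
    refine IsLocallyConstant.iff_isOpen_fiber.mpr fun d => ?_
    have hfin : {p ∈ minimalPrimes S | Groth.Agent.Lib.Dim.Basic.dimQ k p ≠ d}.Finite :=
      (minimalPrimes.finite_of_isNoetherianRing S).subset (fun p hp => hp.1)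
    have heq : f ⁻¹' {d} =
        (⋃ p ∈ {p ∈ minimalPrimes S | Groth.Agent.Lib.Dim.Basic.dimQ k p ≠ d},
          PrimeSpectrum.zeroLocus (p : Set S))ᶜ := by
      ext q
      simp only [Set.mem_preimage, Set.mem_singleton_iff, Set.mem_compl_iff, Set.mem_iUnion,
        Set.mem_ofPred_eq, PrimeSpectrum.mem_zeroLocus, SetLike.coe_subset_coe, not_exists]
      constructor
      · intro h p hp hle
        exact hp.2 ((dimQ_le_of_cm p hp.1 q.asIdeal hle).symm.trans h)
      · intro h
        obtain ⟨p, hp, hle⟩ := Ideal.exists_minimalPrimes_le (bot_le (a := q.asIdeal))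
        by_contra hne
        exact h p ⟨hp, fun he => hne ((dimQ_le_of_cm p hp q.asIdeal hle).trans he)⟩ hle
    rw [heq]
    exact (hfin.isClosed_biUnion fun p _ => PrimeSpectrum.isClosed_zeroLocus _).isOpen_compl
  obtain ⟨N, e, he, -, hmem⟩ := Groth.Agent.H20.ClopenDecomp.exists_completeOrthogonalIdempotents hf
  refine ⟨N, fun d => S ⧸ Ideal.span {1 - e d}, fun d => inferInstance, fun d => inferInstance,
    ⟨Groth.Agent.H20.ClopenDecomp.piEquiv k he⟩, fun d m hm => ?_⟩
  have : IsLocalization.Away (e d) (S ⧸ Ideal.span {1 - e d}) :=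
    IsLocalization.Away.quotient_of_isIdempotentElem (he.idem d)
  have hmax : (m.under S).IsMaximal := Ideal.comap_isMaximal_of_surjective _ Ideal.Quotient.mk_surjective
  have hem : e d ∉ m.under S := by
    intro h
    have h1 : (1 : S ⧸ Ideal.span {1 - e d}) ∈ m := by
      have h2 : Ideal.Quotient.mk (Ideal.span {1 - e d}) (e d) = 1 :=
        (Ideal.Quotient.eq.mpr (Ideal.mem_span_singleton_self _)).symm
      exact h2 ▸ h
    exact hm.ne_top ((Ideal.eq_top_iff_one m).mpr h1)
  have hdim := (hmem d ⟨m.under S, hmax.isPrime⟩).mp hem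
  rw [← IsLocalization.height_under (Submonoid.powers (e d)) m,
    Groth.Agent.Lib.Dim.Local.height_maximal_eq_dimAt k (m.under S)]
  exact_mod_cast hdim

end Groth.Agent.S9156
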