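import Groth.Statements.S9157
import Mathlib.Algebra.Module.FinitePresentation
import Mathlib.RingTheory.Localization.Finiteness

set_option autoImplicit false
universe u
open CAlg

namespace Groth.Agent.S9157

/-- If the localization S⁻¹M of an R-module M is finitely presented over S⁻¹R, then some finitely
presented R-module M' maps to M inducing an isomorphism S⁻¹M' → S⁻¹M. -/
theorem result (R : Type u) [CommRing R] (S : Submonoid R)
    (M : Type u) [AddCommGroup M] [Module R M]
    [Module.FinitePresentation (Localization S) (LocalizedModule S M)] :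
    ∃ (M' : Type u) (_ : AddCommGroup M') (_ : Module R M') (φ : M' →ₗ[R] M),
      Module.FinitePresentation R M' ∧ Function.Bijective (LocalizedModule.map S φ) := by
  classical
  obtain ⟨n, z, hz⟩ := Module.Finite.exists_fin (R := Localization S) (M := LocalizedModule S M)
  have hrep : ∀ i, ∃ (m : M) (t : S), z i = LocalizedModule.mk m t := fun i => by
    induction z i using LocalizedModule.induction_on with
    | _ m t => exact ⟨m, t, rfl⟩
  choose m t hzt using hrep
  let f : (Fin n → R) →ₗ[R] M := Fintype.linearCombination R m
  have hfs : ∀ i, f (Pi.single i 1) = m i := fun i => by simp [f, Fintype.linearCombination_apply_single]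
  let L := LocalizedModule.map S f
  have hmk : ∀ (x : Fin n → R) (s : S), L (LocalizedModule.mk x s) = LocalizedModule.mk (f x) s := fun x s => by
    simp [L]
  have hL : Function.Surjective L := by
    rw [← LinearMap.range_eq_top, eq_top_iff, ← hz, Submodule.span_le]
    rintro _ ⟨i, rfl⟩
    exact ⟨LocalizedModule.mk (Pi.single i 1) (t i), by rw [hmk, hfs, hzt]⟩
  haveI : Module.Finite (Localization S) (LocalizedModule S (Fin n → R)) :=
    Module.Finite.of_isLocalizedModule S (LocalizedModule.mkLinearMap S (Fin n → R))
  obtain ⟨G, hG⟩ := Module.FinitePresentation.fg_ker L hL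
  have hker : ∀ y ∈ G, ∃ (w : Fin n → R) (s : S), y = LocalizedModule.mk w s ∧ ∃ u : S, f ((u : R) • w) = 0 := by
    intro y hy
    have hy0 : L y = 0 := LinearMap.mem_ker.mp (hG ▸ Submodule.subset_span hy)
    induction y using LocalizedModule.induction_on with
    | _ w s =>
      rw [hmk, ← LocalizedModule.zero_mk s, LocalizedModule.mk_eq] at hy0
      obtain ⟨u, hu⟩ := hy0
      exact ⟨w, s, rfl, u * s, by
        rw [map_smul, Submonoid.coe_mul, mul_smul]
        simpa [Submonoid.smul_def] using hu⟩
  choose w s hws u hu using hker
  let P : Submodule R (Fin n → R) := Submodule.span R (Set.range fun y : G => (u y.1 y.2 : R) • w y.1 y.2)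
  have hP : P ≤ LinearMap.ker f := Submodule.span_le.mpr (by rintro _ ⟨y, rfl⟩; exact hu y.1 y.2)
  refine ⟨(Fin n → R) ⧸ P, inferInstance, inferInstance, P.liftQ f hP, ?_, ?_, ?_⟩
  · exact Module.finitePresentation_of_surjective P.mkQ P.mkQ_surjective (by
      rw [Submodule.ker_mkQ]; exact Submodule.fg_span (Set.finite_range _))
  · rw [injective_iff_map_eq_zero]
    intro x hx
    induction x using LocalizedModule.induction_on with
    | _ q a =>
      obtain ⟨v, rfl⟩ := P.mkQ_surjective q
      let Q := LocalizedModule.map S P.mkQ
      have hv : LocalizedModule.mk v a ∈ LinearMap.ker L := by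
        rw [LinearMap.mem_ker, hmk]
        simpa using hx
      have hle : LinearMap.ker L ≤ LinearMap.ker Q := by
        rw [← hG, Submodule.span_le]
        intro y hy
        show Q y = 0
        rw [hws y hy]
        simp only [Q, LocalizedModule.map_mk]
        rw [← LocalizedModule.zero_mk (s y hy), LocalizedModule.mk_eq]
        refine ⟨u y hy, ?_⟩
        rw [smul_zero, smul_zero, Submonoid.smul_def, Submonoid.smul_def, smul_comm, ← map_smul,
          show P.mkQ ((u y hy : R) • w y hy) = 0 from (Submodule.Quotient.mk_eq_zero P).mpr (Submodule.subset_span ⟨⟨y, hy⟩, rfl⟩),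
          smul_zero]
      have := hle hv
      simpa [Q] using this
  · intro y
    obtain ⟨x, rfl⟩ := hL y
    induction x using LocalizedModule.induction_on with
    | _ v a => exact ⟨LocalizedModule.mk (P.mkQ v) a, by simp [hmk]⟩

end Groth.Agent.S9157
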