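import Groth.Statements.S9158

import Groth.Agent.Lib.GenFree.Good
import Mathlib.RingTheory.FiniteType
import Mathlib.RingTheory.Spectrum.Prime.Topology

set_option autoImplicit false
universe u
open CAlg

namespace Groth.Agent.S9158

/-- Generic freeness over a reduced ring: let R → S be of finite type with R reduced and M a finite
S-module. There is a dense open subset U of Spec R such that each point of U lies in a basic open
D(f) ⊆ U with M_f and S_f free over R_f, S_f of finite presentation over R_f, and M_f of finite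
presentation over S_f. -/
theorem result (R S : Type u) [CommRing R] [IsReduced R] [CommRing S]
    [Algebra R S] [Algebra.FiniteType R S] (M : Type u) [AddCommGroup M] [Module S M] [Module R M]
    [IsScalarTower R S M] [Module.Finite S M] :
    ∃ U : Set (PrimeSpectrum R), IsOpen U ∧ Dense U ∧ ∀ u ∈ U, ∃ f : R, f ∉ u.asIdeal ∧
      (PrimeSpectrum.basicOpen f : Set (PrimeSpectrum R)) ⊆ U ∧
      Module.Free (Localization.Away f) (LocalizedModule (Submonoid.powers f) M) ∧
      Module.Free (Localization.Away f) (LocalizedModule (Submonoid.powers f) S) ∧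
      (Localization.awayMap (algebraMap R S) f).FinitePresentation ∧
      Module.FinitePresentation (Localization.Away (algebraMap R S f))
        (LocalizedModule (Submonoid.powers (algebraMap R S f)) M) := by
  obtain ⟨n, α, hα⟩ := Algebra.FiniteType.iff_quotient_mvPolynomial''.1 (inferInstance : Algebra.FiniteType R S)
  obtain ⟨k, m, hm⟩ := Module.Finite.exists_fin (R := S) (M := M)
  let Good : R → Prop := fun f =>
    Module.Free (Localization.Away f) (LocalizedModule (Submonoid.powers f) M) ∧
      Module.Free (Localization.Away f) (LocalizedModule (Submonoid.powers f) S) ∧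
      (Localization.awayMap (algebraMap R S) f).FinitePresentation ∧
      Module.FinitePresentation (Localization.Away (algebraMap R S f))
        (LocalizedModule (Submonoid.powers (algebraMap R S f)) M)
  have hex : ∀ g₀ : R, g₀ ≠ 0 → ∃ g, g ≠ 0 ∧ g₀ ∣ g ∧ Good g := fun g₀ hg₀ => by
    obtain ⟨g, hg, hd, hM, hrel, hS, G, hG, hG'⟩ :=
      Lib.GenFree.exists_upTo_finiteType S α hα M m hm g₀ hg₀
    exact ⟨g, hg, hd, hM.free, hS.free, Lib.GenFree.finitePresentation_awayMap α hα g G hG hG',
      hrel.finitePresentation hm⟩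
  refine ⟨⋃ f ∈ {f | Good f}, (PrimeSpectrum.basicOpen f : Set (PrimeSpectrum R)),
    isOpen_biUnion fun f _ => (PrimeSpectrum.basicOpen f).isOpen, ?_, fun u hu => ?_⟩
  · rw [dense_iff_inter_open]
    rintro O hO ⟨u, hu⟩
    obtain ⟨_, ⟨g₀, rfl⟩, hug, hsub⟩ :=
      PrimeSpectrum.isTopologicalBasis_basic_opens.exists_subset_of_mem_open hu hO
    obtain ⟨g, hg, hd, hgood⟩ := hex g₀ fun h => by simp [h] at hug
    obtain ⟨q, hq⟩ : ∃ q : PrimeSpectrum R, g ∉ q.asIdeal := by
      by_contra hc
      push Not at hc
      exact hg (IsReduced.eq_zero _ (nilpotent_iff_mem_prime.2 fun J hJ => hc ⟨J, hJ⟩))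
    exact ⟨q, hsub fun h => hq (Ideal.mem_of_dvd _ hd h), Set.mem_biUnion hgood hq⟩
  · obtain ⟨f, hf, huf⟩ := Set.mem_iUnion₂.1 hu
    exact ⟨f, huf, Set.subset_biUnion_of_mem (u := fun f => (PrimeSpectrum.basicOpen f : Set (PrimeSpectrum R))) hf, hf⟩


end Groth.Agent.S9158
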