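import Groth.Statements.S9159
import Groth.Agent.H20.RegularFlat
import Groth.Agent.H20.CMLocus
import Groth.Agent.Lib.Dim.LocalDim
import Mathlib.RingTheory.RegularLocalRing.Polynomial
import Mathlib.RingTheory.Regular.Flat
import Mathlib.RingTheory.QuasiFinite.Basic

set_option autoImplicit false
universe u
open CAlg

namespace Groth.Agent.S9159

theorem trdeg_eq_of_finite {k K L : Type u} [Field k] [Field K] [Field L] [Algebra k K] [Algebra K L]
    [Algebra k L] [IsScalarTower k K L] [Module.Finite K L] :
    Algebra.trdeg k L = Algebra.trdeg k K := by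
  have h := trdeg_add_eq k K (A := L)
  rw [trdeg_eq_zero (R := K), add_zero] at h
  exact h.symm

/-- Fix a field k, a k-algebra S of finite type, and a quasi-finite map of k-algebras k[y_1, …, y_d] →
S. A prime q of S has S_q flat over k[y_1, …, y_d] exactly when S_q is Cohen–Macaulay and Spec S has
local dimension d at q. -/
theorem result (k S : Type u) [Field k] [CommRing S]
    [Algebra k S] [Algebra.FiniteType k S] (d : ℕ) [Algebra (MvPolynomial (Fin d) k) S]
    [IsScalarTower k (MvPolynomial (Fin d) k) S] [Algebra.QuasiFinite (MvPolynomial (Fin d) k) S]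
    (q : Ideal S) [q.IsPrime] :
    Module.Flat (MvPolynomial (Fin d) k) (Localization.AtPrime q) ↔
      (LocCoh.IsCohenMacaulayLocalRing (Localization.AtPrime q) ∧
        FlatMor.localDim (PrimeSpectrum S) ⟨q, inferInstance⟩ = (d : WithBot ℕ∞)) := by
  classical
  let P := MvPolynomial (Fin d) k
  let Q : Ideal P := q.under P
  have : IsNoetherianRing S := Algebra.FiniteType.isNoetherianRing k S
  have : q.LiesOver Q := ⟨rfl⟩
  let A := Localization.AtPrime Q
  let B := Localization.AtPrime q
  let algAB : Algebra A B := (Localization.localRingHom Q q (algebraMap P S) rfl).toAlgebra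
  have : Localization.AtPrime.IsLiesOverAlgebra Q q := ⟨rfl⟩
  have : IsScalarTower P A B := IsScalarTower.of_algebraMap_eq fun x => by
    rw [RingHom.algebraMap_toAlgebra, Localization.localRingHom_to_map,
      ← IsScalarTower.algebraMap_apply]
  have : IsLocalHom (algebraMap A B) := Localization.isLocalHom_localRingHom Q q _ rfl
  have : IsRegularLocalRing A := IsRegularRing.isRegularLocalRing_localization (R := P) Q
  have hfib : ∀ z : Ideal B, z.IsPrime → (IsLocalRing.maximalIdeal A).map (algebraMap A B) ≤ z →
      z = IsLocalRing.maximalIdeal B := by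
    intro z hz hle
    have h1 : z.under S ≤ q := by
      intro c hc
      by_contra hcq
      exact hz.ne_top (Ideal.eq_top_of_isUnit_mem _ hc
        (IsLocalization.map_units B (⟨c, hcq⟩ : q.primeCompl)))
    have h2 : (z.under S).under P = q.under P := by
      refine le_antisymm (Ideal.comap_mono h1) fun c hc => ?_
      show algebraMap S B (algebraMap P S c) ∈ z
      rw [← IsScalarTower.algebraMap_apply, IsScalarTower.algebraMap_apply P A B]
      exact hle (Ideal.mem_map_of_mem _
        ((IsLocalization.AtPrime.to_map_mem_maximal_iff A Q c).mpr hc))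
    have h3 : z.under S = q := Algebra.QuasiFinite.eq_of_le_of_under_eq (R := P) _ _ h1 h2
    rw [← IsLocalization.map_under q.primeCompl B z, h3, Localization.AtPrime.map_eq_maximalIdeal]
  have hQq : Groth.Agent.Lib.Dim.Basic.dimQ k Q = Groth.Agent.Lib.Dim.Basic.dimQ k q := by
    let algQq : Algebra Q.ResidueField q.ResidueField :=
      IsLocalRing.ResidueField.instAlgebra
    have : IsScalarTower k Q.ResidueField q.ResidueField := IsScalarTower.of_algebraMap_eq fun x => by
      rw [IsScalarTower.algebraMap_apply k P Q.ResidueField,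
        ← IsScalarTower.algebraMap_apply P Q.ResidueField q.ResidueField,
        ← IsScalarTower.algebraMap_apply k P q.ResidueField]
    have h1 := trdeg_eq_of_finite (k := k) (K := Q.ResidueField) (L := q.ResidueField)
    rw [Groth.Agent.Lib.Dim.Basic.trdeg_residueField k Q,
      Groth.Agent.Lib.Dim.Basic.trdeg_residueField k q] at h1
    exact_mod_cast h1.symm
  have hA : Q.height.toNat + Groth.Agent.Lib.Dim.Basic.dimQ k q = d := by
    have h3 := Groth.Agent.Lib.Dim.Basic.height_add_dimQ k Q
    rw [Groth.Agent.H20.CMLocus.trdegNat_mvPolynomial, hQq,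
      ← Groth.Agent.Lib.Dim.Local.coe_height_toNat k Q] at h3
    exact_mod_cast h3
  have hdimA : ringKrullDim A = ((Q.height.toNat : ℕ∞) : WithBot ℕ∞) := by
    rw [IsLocalization.AtPrime.ringKrullDim_eq_height Q A,
      Groth.Agent.Lib.Dim.Local.coe_height_toNat k Q]
  have hdimB : ringKrullDim B = ((q.height.toNat : ℕ∞) : WithBot ℕ∞) := by
    rw [IsLocalization.AtPrime.ringKrullDim_eq_height q B,
      Groth.Agent.Lib.Dim.Local.coe_height_toNat k q]
  have hloc : FlatMor.localDim (PrimeSpectrum S) ⟨q, inferInstance⟩ =
      ((Groth.Agent.Lib.Dim.Local.dimAt k q : ℕ) : WithBot ℕ∞) :=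
    Groth.Agent.Lib.Dim.LocalDim.localDim_eq_dimAt k q
  have hflat : Module.Flat P B ↔ Module.Flat A B :=
    (Module.flat_iff_of_isLocalization A Q.primeCompl B).symm
  have hdimAt : Groth.Agent.Lib.Dim.Local.dimAt k q =
      q.height.toNat + Groth.Agent.Lib.Dim.Basic.dimQ k q := rfl
  rw [hflat, hloc]
  constructor
  · intro hfl
    have hq : q.height.toNat = Q.height.toNat := by
      have h1 := Ideal.height_eq_height_add_of_liesOver_of_hasGoingDown (R := A) (S := B)
        (IsLocalRing.maximalIdeal A) (IsLocalRing.maximalIdeal B)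
      have h2 : ((IsLocalRing.maximalIdeal B).map (Ideal.Quotient.mk
          ((IsLocalRing.maximalIdeal A).map (algebraMap A B)))).height = 0 := by
        have hle := IsLocalRing.map_maximalIdeal_le (algebraMap A B)
        have := Ideal.isPrime_map_quotientMk_of_isPrime hle
        rw [Ideal.height_eq_zero_iff]
        refine ⟨⟨this, bot_le⟩, fun z hz hzle => ?_⟩
        have := hz.1
        have : (z.comap (Ideal.Quotient.mk _)).IsPrime := Ideal.IsPrime.comap _
        have h4 := hfib _ this (Ideal.mk_ker.ge.trans (Ideal.comap_mono bot_le))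
        rw [← h4, Ideal.map_comap_of_surjective _ Ideal.Quotient.mk_surjective]
      rw [h2, add_zero, ← WithBot.coe_inj, IsLocalRing.maximalIdeal_height_eq_ringKrullDim,
        IsLocalRing.maximalIdeal_height_eq_ringKrullDim, hdimA, hdimB] at h1
      exact_mod_cast h1
    refine ⟨?_, by rw [hdimAt, hq, hA]⟩
    obtain ⟨rs, hrs, hlen⟩ : ∃ rs : List A, Ideal.ofList rs = IsLocalRing.maximalIdeal A ∧
        rs.length = (IsLocalRing.maximalIdeal A).spanFinrank := by
      have hfg : (IsLocalRing.maximalIdeal A).FG := IsNoetherian.noetherian _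
      refine ⟨(Submodule.FG.finite_generators hfg).toFinset.toList, ?_, ?_⟩
      · rw [Ideal.ofList]
        simp [Ideal.span, Submodule.span_generators]
      · rw [Finset.length_toList, ← Set.ncard_eq_toFinset_card _ (Submodule.FG.finite_generators hfg),
          Submodule.FG.generators_ncard hfg]
    have hregA := Groth.Agent.Lib.Regular.Quotient.isRegular_of_span_eq_maximalIdeal rs hrs hlen
    have hreg := hregA.toIsWeaklyRegular.of_flat (S := B)
    have hmem : ∀ r ∈ rs.map (algebraMap A B), r ∈ IsLocalRing.maximalIdeal B := by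
      intro r hr
      obtain ⟨a, ha, rfl⟩ := List.mem_map.1 hr
      exact IsLocalRing.map_maximalIdeal_le (algebraMap A B)
        (Ideal.mem_map_of_mem _ (hrs ▸ Ideal.subset_span ha))
    refine Groth.Agent.Lib.Depth.CM.isCohenMacaulayLocalRing_of_isRegular
      (Groth.Agent.Lib.Depth.Basic.isRegular_of_mem (I := IsLocalRing.maximalIdeal B)
        (Groth.Agent.Lib.Depth.Basic.smul_top_ne_top Ideal.IsPrime.ne_top') hreg hmem) ?_
    have h5 := IsRegularLocalRing.spanFinrank_maximalIdeal (R := A)
    rw [List.length_map, hlen, hdimB, hq, ← hdimA, ← h5]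
  · rintro ⟨hCM, hd⟩
    have hd' : Groth.Agent.Lib.Dim.Local.dimAt k q = d := by exact_mod_cast hd
    have hq : q.height.toNat = Q.height.toNat := by omega
    refine Groth.Agent.H20.RegularFlat.flat_of_supportDim_eq A B B
      Groth.Agent.Lib.Depth.CM.isCohenMacaulayModule_self ?_
    rw [Module.supportDim_self_eq_ringKrullDim, hdimB, hq, ← hdimA]
    refine (add_le_add ?_ le_rfl).trans (zero_add _).le
    rw [Module.supportDim_eq_of_equiv (Submodule.quotEquivOfEq _
      ((IsLocalRing.maximalIdeal A).map (algebraMap A B)) (by simp)),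
      Module.supportDim_quotient_eq_ringKrullDim, ringKrullDim_quotient]
    refine Order.krullDim_nonpos_iff_forall_isMin.mpr fun z z' _ => ?_
    show z.1.asIdeal ≤ z'.1.asIdeal
    rw [hfib _ z.1.2 z.2, hfib _ z'.1.2 z'.2]

end Groth.Agent.S9159
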