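import Groth.Statements.S9161
import Mathlib.Tactic.Abel


set_option autoImplicit false
universe u
open CAlg

namespace Groth.Agent.S9161

/-- If two two-term complexes of R-modules A₁ → A₀ and B₁ → B₀ are homotopy equivalent (maps of
complexes both ways whose composites are homotopic to the identity maps), then A₁ ⊕ B₀ and B₁ ⊕ A₀
are isomorphic R-modules. -/
theorem result (R : Type u) [CommRing R]
    (A₁ A₀ B₁ B₀ : Type u) [AddCommGroup A₁] [Module R A₁] [AddCommGroup A₀] [Module R A₀]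
    [AddCommGroup B₁] [Module R B₁] [AddCommGroup B₀] [Module R B₀]
    (dA : A₁ →ₗ[R] A₀) (dB : B₁ →ₗ[R] B₀) (φ₁ : A₁ →ₗ[R] B₁) (φ₀ : A₀ →ₗ[R] B₀)
    (ψ₁ : B₁ →ₗ[R] A₁) (ψ₀ : B₀ →ₗ[R] A₀) (hφ : dB ∘ₗ φ₁ = φ₀ ∘ₗ dA) (hψ : dA ∘ₗ ψ₁ = ψ₀ ∘ₗ dB)
    (h : A₀ →ₗ[R] A₁) (hh₁ : LinearMap.id - ψ₁ ∘ₗ φ₁ = h ∘ₗ dA) (hh₀ : LinearMap.id - ψ₀ ∘ₗ φ₀ = dA ∘ₗ h)
    (h' : B₀ →ₗ[R] B₁) (hh'₁ : LinearMap.id - φ₁ ∘ₗ ψ₁ = h' ∘ₗ dB)
    (hh'₀ : LinearMap.id - φ₀ ∘ₗ ψ₀ = dB ∘ₗ h') :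
    Nonempty ((A₁ × B₀) ≃ₗ[R] (B₁ × A₀)) := by
  have hA : ∀ x, dA (h x) = x - ψ₀ (φ₀ x) := fun x => (LinearMap.congr_fun hh₀ x).symm
  have hA1 : ∀ x, h (dA x) = x - ψ₁ (φ₁ x) := fun x => (LinearMap.congr_fun hh₁ x).symm
  have hB : ∀ x, dB (h' x) = x - φ₀ (ψ₀ x) := fun x => (LinearMap.congr_fun hh'₀ x).symm
  have hB1 : ∀ x, h' (dB x) = x - φ₁ (ψ₁ x) := fun x => (LinearMap.congr_fun hh'₁ x).symm
  have hc : ∀ x, dB (φ₁ x) = φ₀ (dA x) := fun x => LinearMap.congr_fun hφ x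
  have hc' : ∀ x, dA (ψ₁ x) = ψ₀ (dB x) := fun x => LinearMap.congr_fun hψ x
  let s : (B₁ × A₀) →ₗ[R] A₁ := ψ₁ ∘ₗ LinearMap.fst R B₁ A₀ + h ∘ₗ LinearMap.snd R B₁ A₀
  let p : (B₁ × A₀) →ₗ[R] B₀ := φ₀ ∘ₗ LinearMap.snd R B₁ A₀ - dB ∘ₗ LinearMap.fst R B₁ A₀
  have hker : ∀ z, p z = 0 → ∃ c, (φ₁ c, dA c) = z := by
    rintro ⟨b, a⟩ hz
    have hz' : φ₀ a = dB b := sub_eq_zero.1 (by simpa [p] using hz)
    let c := h a + ψ₁ b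
    have h1 : dA c = a := by simp [c, hA, hc', hz']
    have hd : dB (b - φ₁ c) = 0 := by rw [map_sub, hc, h1, hz', sub_self]
    refine ⟨c + ψ₁ (b - φ₁ c), Prod.ext ?_ ?_⟩
    · have h2 := hB1 (b - φ₁ c)
      rw [hd, map_zero, eq_comm, sub_eq_zero] at h2
      rw [map_add, ← h2]; exact add_sub_cancel (φ₁ c) b
    · show dA (_ + _) = a
      rw [map_add, h1, hc', hd, map_zero, add_zero]
  let F : (B₁ × A₀) →ₗ[R] (A₁ × B₀) := s.prod p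
  refine ⟨(LinearEquiv.ofBijective F ⟨?_, fun ⟨c, b⟩ => ?_⟩).symm⟩
  · rw [← LinearMap.ker_eq_bot, LinearMap.ker_eq_bot']
    intro z hz
    obtain ⟨hz1, hz2⟩ := Prod.ext_iff.1 hz
    obtain ⟨e, rfl⟩ := hker z hz2
    have he : e = 0 := by simpa [F, s, hA1] using hz1
    simp [he]
  · let t : B₁ × A₀ := (- h' b, ψ₀ b)
    refine ⟨(φ₁ (c - s t), dA (c - s t)) + t, ?_⟩
    refine Prod.ext ?_ ?_
    · show s (_ + t) = c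
      have h1 : s (φ₁ (c - s t), dA (c - s t)) = c - s t := by
        show ψ₁ (φ₁ (c - s t)) + h (dA (c - s t)) = _
        rw [hA1]; abel
      rw [map_add, h1, sub_add_cancel]
    · show p (_ + t) = b
      have h1 : p (φ₁ (c - s t), dA (c - s t)) = 0 := by
        show φ₀ (dA (c - s t)) - dB (φ₁ (c - s t)) = 0
        rw [hc, sub_self]
      rw [map_add, h1, zero_add]
      show φ₀ (ψ₀ b) - dB (- h' b) = b
      rw [map_neg, hB]; abel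

end Groth.Agent.S9161
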