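import Groth.Statements.S9163
import Mathlib.RingTheory.IntegralClosure.IsIntegral.Basic
import Mathlib.RingTheory.FiniteType
import Mathlib.RingTheory.Polynomial.Subring

set_option autoImplicit false
universe u
open CAlg

namespace Groth.Agent.S9163

/-- If S is integral over R, then any finitely many elements of R and of S lie in a pair R₀ ⊆ R, S₀ ⊆ S
with R₀ a finite type ℤ-subalgebra, S₀ an R₀-subalgebra of S, and S₀ finite as an R₀-module; so R →
S is the directed colimit of finite maps between finite type ℤ-algebras. -/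
theorem result (R S : Type u) [CommRing R] [CommRing S] [Algebra R S]
    [Algebra.IsIntegral R S] (E : Finset R) (F : Finset S) :
    ∃ (R₀ : Subalgebra ℤ R) (S₀ : Subalgebra R₀ S), Algebra.FiniteType ℤ R₀ ∧ (E : Set R) ⊆ R₀ ∧
      (F : Set S) ⊆ S₀ ∧ Module.Finite R₀ S₀ := by
  classical
  choose P hP hP0 using fun x : S => Algebra.IsIntegral.isIntegral (R := R) x
  let C : Finset R := E ∪ F.biUnion fun x => (P x).coeffs
  refine ⟨Algebra.adjoin ℤ (C : Set R), Algebra.adjoin _ (F : Set S), ?_, ?_, Algebra.subset_adjoin, ?_⟩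
  · exact (Subalgebra.fg_iff_finiteType _).mp ⟨C, rfl⟩
  · exact fun x hx => Algebra.subset_adjoin (Finset.mem_union_left _ hx)
  · refine Module.Finite.of_fg (fg_adjoin_of_finite (Finset.finite_toSet F) fun x hx => ?_)
    have hsub : ((P x).coeffs : Set R) ⊆ ↑(Algebra.adjoin ℤ (C : Set R)).toSubring := fun c hc =>
      Algebra.subset_adjoin (Finset.mem_union_right _ (Finset.mem_biUnion.mpr ⟨x, hx, hc⟩))
    refine ⟨(P x).toSubring _ hsub, (Polynomial.monic_toSubring _ _ _).mpr (hP x), ?_⟩
    rw [← hP0 x]
    conv_rhs => rw [← Polynomial.map_toSubring (P x) _ hsub, Polynomial.eval₂_map]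
    rfl

end Groth.Agent.S9163
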