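import Groth.Statements.S9164
import Mathlib

set_option autoImplicit false
universe u
open CAlg

namespace Groth.Agent.S9164

variable {R : Type*} [CommRing R] [IsDomain R] [IsNoetherianRing R] [IsLocalRing R]

theorem length_ne_top_iff_torsion (hdim : ringKrullDim R = 1) {Q : Type*} [AddCommGroup Q] [Module R Q]
    [Module.Finite R Q] :
    Module.length R Q ≠ ⊤ ↔ ∀ x : Q, ∃ r : R, r ≠ 0 ∧ r • x = 0 := by
  rw [Module.length_ne_top_iff, isFiniteLength_iff_isNoetherian_isArtinian]
  constructor
  · rintro ⟨-, hA⟩ x
    obtain ⟨a, ha, ha0⟩ : ∃ a ∈ IsLocalRing.maximalIdeal R, a ≠ 0 :=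
      Submodule.exists_mem_ne_zero_of_ne_bot fun h => by
        have : IsField R := IsLocalRing.isField_iff_maximalIdeal_eq.mpr h
        rw [ringKrullDim_eq_zero_of_isField this] at hdim
        exact zero_ne_one hdim
    obtain ⟨n, hn⟩ := IsArtinian.monotone_stabilizes
      (f := ⟨fun n => OrderDual.toDual (Submodule.span R {a ^ n • x}), fun i j hij => by
        show Submodule.span R {a ^ j • x} ≤ Submodule.span R {a ^ i • x}
        rw [Submodule.span_singleton_le_iff_mem, Submodule.mem_span_singleton]
        exact ⟨a ^ (j - i), by rw [smul_smul, ← pow_add, Nat.sub_add_cancel hij]⟩⟩)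
    have h1 : Submodule.span R {a ^ n • x} = Submodule.span R {a ^ (n + 1) • x} := hn (n + 1) n.le_succ
    obtain ⟨b, hb⟩ := Submodule.mem_span_singleton.mp (h1.le (Submodule.mem_span_singleton_self _))
    have hu : IsUnit (1 - b * a) := IsLocalRing.isUnit_one_sub_self_of_mem_nonunits _
      (Ideal.mul_mem_left _ b ha)
    refine ⟨a ^ n, pow_ne_zero _ ha0, hu.smul_left_cancel.mp ?_⟩
    rw [smul_zero, sub_smul, one_smul, smul_smul, mul_assoc, ← pow_succ', ← smul_smul, hb, sub_self]
  · intro h
    refine ⟨inferInstance, ?_⟩
    obtain ⟨S, hS⟩ := Module.Finite.fg_top (R := R) (M := Q)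
    choose r hr hrx using h
    set c : R := ∏ x ∈ S, r x
    have hc : ∀ q : Q, c • q = 0 := by
      intro q
      have hq : q ∈ Submodule.span R (S : Set Q) := by rw [hS]; trivial
      induction hq using Submodule.span_induction with
      | mem z hz =>
        obtain ⟨d, hd⟩ := Finset.dvd_prod_of_mem r hz
        rw [show c = d * r z by rw [mul_comm]; exact hd, mul_smul, hrx, smul_zero]
      | zero => simp
      | add u v _ _ hu hv => simp [hu, hv]
      | smul s u _ hu => rw [smul_comm, hu, smul_zero]
    have htors : Module.IsTorsionBySet R Q (Ideal.span {c} : Ideal R) := by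
      rw [← Ideal.submodule_span_eq, Module.isTorsionBySet_span_singleton_iff]
      exact hc
    letI := htors.module
    haveI := htors.isScalarTower (S := R)
    haveI : Module.Finite (R ⧸ Ideal.span {c}) Q := Module.Finite.of_restrictScalars_finite R _ _
    haveI : IsArtinianRing (R ⧸ Ideal.span {c}) := by
      rw [isArtinianRing_iff_isNoetherianRing_krullDimLE_zero]
      refine ⟨inferInstance, ?_⟩
      haveI : Ring.KrullDimLE 1 R := Ring.krullDimLE_iff.mpr (by rw [hdim]; norm_num)
      rw [Ideal.krullDimLE_zero_quotient_iff_forall_minimalPrimes_isMaximal]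
      intro P hP
      have hne : P ≠ ⊥ := fun h => Finset.prod_ne_zero_iff.mpr (fun x _ => hr x)
        (by simpa [h] using hP.1.2)
      exact hP.1.1.isMaximal_of_ne_bot hne
    haveI : IsArtinian (R ⧸ Ideal.span {c}) Q := isArtinian_of_fg_of_artinian'
    exact (LinearMap.isArtinian_iff_of_bijective htors.semilinearMap Function.bijective_id).mpr inferInstance

/-- Let R be a one-dimensional Noetherian local domain with fraction field K and V a finite-dimensional
K-vector space; a lattice is a finitely generated R-submodule of V spanning V over K. (1) For a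
lattice M and an R-submodule M' ⊇ M: M' is a lattice iff M'/M has finite length over R iff M' is
finitely generated. (2) For a lattice M and M' ⊆ M: M' is a lattice iff M/M' has finite length. (3)
The intersection of two lattices is a lattice. (The published statement also asserts that the sum M
+ M' of two lattices is a lattice and two identities between lengths of quotients of nested
lattices; this row states (1), (2) and the intersection half of (3).) -/
theorem result (R K V : Type u) [CommRing R] [IsDomain R]
    [IsNoetherianRing R] [IsLocalRing R] (hdim : ringKrullDim R = 1) [Field K] [Algebra R K]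
    [IsFractionRing R K] [AddCommGroup V] [Module K V] [Module R V] [IsScalarTower R K V]
    [FiniteDimensional K V] (M : Submodule R V) [Submodule.IsLattice K M] :
    (∀ M' : Submodule R V, M ≤ M' →
        (Submodule.IsLattice K M' ↔ Module.length R (M' ⧸ Submodule.comap M'.subtype M) ≠ ⊤) ∧
          (Submodule.IsLattice K M' ↔ M'.FG)) ∧
      (∀ M' : Submodule R V, M' ≤ M →
        (Submodule.IsLattice K M' ↔ Module.length R (M ⧸ Submodule.comap M.subtype M') ≠ ⊤)) ∧
      ∀ M' : Submodule R V, Submodule.IsLattice K M' → Submodule.IsLattice K (M ⊓ M') := by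
  have hspan : Submodule.span K (M : Set V) = ⊤ := Submodule.IsLattice.span_eq_top
  haveI : Module.Finite R M := Submodule.IsLattice.finite K M
  have hden : ∀ N : Submodule R V, Submodule.span K (N : Set V) = ⊤ ↔
      ∀ v : V, ∃ r : R, r ≠ 0 ∧ r • v ∈ N := by
    intro N
    constructor
    · intro hN v
      have hv : v ∈ Submodule.span K (N : Set V) := by rw [hN]; trivial
      induction hv using Submodule.span_induction with
      | mem z hz => exact ⟨1, one_ne_zero, by rwa [one_smul]⟩
      | zero => exact ⟨1, one_ne_zero, by simp⟩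
      | add u w _ _ hu hw =>
        obtain ⟨r, hr, hru⟩ := hu
        obtain ⟨s, hs, hsw⟩ := hw
        refine ⟨r * s, mul_ne_zero hr hs, ?_⟩
        rw [smul_add]
        refine add_mem ?_ ?_
        · rw [mul_comm, mul_smul]; exact N.smul_mem _ hru
        · rw [mul_smul]; exact N.smul_mem _ hsw
      | smul a u _ hu =>
        obtain ⟨r, hr, hru⟩ := hu
        obtain ⟨p, s, hs, rfl⟩ := IsFractionRing.div_surjective R a
        refine ⟨s * r, mul_ne_zero (nonZeroDivisors.ne_zero hs) hr, ?_⟩
        have : (s * r) • (algebraMap R K p / algebraMap R K s) • u = p • r • u := by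
          rw [← algebraMap_smul K (s * r), ← algebraMap_smul K p, ← algebraMap_smul K r u,
            smul_smul, smul_smul, map_mul]
          congr 1
          have : algebraMap R K s ≠ 0 :=
            IsFractionRing.to_map_ne_zero_of_mem_nonZeroDivisors hs
          field_simp
        rw [this]
        exact N.smul_mem _ hru
    · intro h
      rw [eq_top_iff]
      intro v _
      obtain ⟨r, hr, hrv⟩ := h v
      have hr' : algebraMap R K r ≠ 0 := by
        rwa [map_ne_zero_iff _ (IsFractionRing.injective R K)]
      rw [← inv_smul_smul₀ hr' v, algebraMap_smul]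
      exact Submodule.smul_mem _ _ (Submodule.subset_span hrv)
  refine ⟨fun M' hM' => ?_, fun M' hM' => ?_, fun M' hM' => ?_⟩
  · have h2 : Submodule.IsLattice K M' ↔ M'.FG :=
      ⟨fun h => h.fg, fun h => Submodule.IsLattice.of_le_of_isLattice_of_fg K hM' h⟩
    refine ⟨h2.trans ⟨fun hfg => ?_, fun hfin => ?_⟩, h2⟩
    · haveI : Module.Finite R M' := Module.Finite.iff_fg.mpr hfg
      rw [length_ne_top_iff_torsion hdim]
      intro x
      obtain ⟨y, rfl⟩ := Submodule.Quotient.mk_surjective _ x
      obtain ⟨r, hr, hry⟩ := (hden M).mp hspan y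
      exact ⟨r, hr, (Submodule.Quotient.mk_eq_zero _).mpr hry⟩
    · rw [Module.length_ne_top_iff, isFiniteLength_iff_isNoetherian_isArtinian] at hfin
      haveI := hfin.1
      haveI : Module.Finite R (Submodule.comap M'.subtype M) :=
        Module.Finite.equiv (Submodule.comapSubtypeEquivOfLe hM').symm
      exact Module.Finite.iff_fg.mp (Module.Finite.of_submodule_quotient (Submodule.comap M'.subtype M))
  · have hfg : M'.FG := by
      have : IsNoetherian R M := isNoetherian_of_isNoetherianRing_of_finite R M
      haveI : Module.Finite R (Submodule.comap M.subtype M') := inferInstance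
      exact Module.Finite.iff_fg.mp (Module.Finite.equiv (Submodule.comapSubtypeEquivOfLe hM'))
    rw [length_ne_top_iff_torsion hdim]
    constructor
    · intro h x
      obtain ⟨y, rfl⟩ := Submodule.Quotient.mk_surjective _ x
      obtain ⟨r, hr, hry⟩ := (hden M').mp h.span_eq_top y
      exact ⟨r, hr, (Submodule.Quotient.mk_eq_zero _).mpr hry⟩
    · intro h
      refine ⟨hfg, (hden M').mpr fun v => ?_⟩
      obtain ⟨r, hr, hrv⟩ := (hden M).mp hspan v
      obtain ⟨s, hs, hsv⟩ := h (Submodule.Quotient.mk ⟨r • v, hrv⟩)
      refine ⟨s * r, mul_ne_zero hs hr, ?_⟩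
      have := (Submodule.Quotient.mk_eq_zero _).mp hsv
      rw [mul_smul]
      exact this
  · refine ⟨?_, (hden _).mpr fun v => ?_⟩
    · have : IsNoetherian R M := isNoetherian_of_isNoetherianRing_of_finite R M
      haveI : Module.Finite R (Submodule.comap M.subtype (M ⊓ M')) := inferInstance
      exact Module.Finite.iff_fg.mp
        (Module.Finite.equiv (Submodule.comapSubtypeEquivOfLe (inf_le_left : M ⊓ M' ≤ M)))
    · obtain ⟨r, hr, hrv⟩ := (hden M).mp hspan v
      obtain ⟨s, hs, hsv⟩ := (hden M').mp hM'.span_eq_top v
      refine ⟨r * s, mul_ne_zero hr hs, ?_, ?_⟩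
      · rw [mul_comm, mul_smul]; exact M.smul_mem _ hrv
      · rw [mul_smul]; exact M'.smul_mem _ hsv

end Groth.Agent.S9164
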