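import Groth.Statements.S9165
import Groth.Agent.S9374
import Groth.Agent.H20.FibreLocal
import Groth.Agent.H20.FibreDimSet
import Groth.Agent.H20.ClopenDecomp
import Groth.Agent.H46.FiberStalk
import Groth.Agent.Lib.Excellent.Transport
import Mathlib.RingTheory.RingHom.FinitePresentation

set_option autoImplicit false
universe u
open CAlg

namespace Groth.Agent.S9165

open AlgebraicGeometry CategoryTheory IsLocalRing in
theorem isCMAt_specMap (R S : Type u) [CommRing R] [CommRing S] [Algebra R S] [Module.Flat R S]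
    (hCM : ∀ p : PrimeSpectrum R, LocCoh.IsCohenMacaulayRing (p.asIdeal.Fiber S))
    (x : PrimeSpectrum S) : MoreMor.IsCMAt (Spec.map (CommRingCat.ofHom (algebraMap R S))) x := by
  set f := Spec.map (CommRingCat.ofHom (algebraMap R S))
  haveI : Flat f := HasRingHomProperty.Spec_iff.2 (RingHom.flat_algebraMap_iff.2 ‹_›)
  refine ⟨Flat.stalkMap f x, ?_⟩
  let Q := Groth.Agent.H20.FibreDimBC.fibrePoint R S x.asIdeal
  haveI := hCM ⟨x.asIdeal.under R, inferInstance⟩
  haveI : LocCoh.IsCohenMacaulayLocalRing (Localization.AtPrime Q.asIdeal) :=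
    LocCoh.IsCohenMacaulayRing.isCohenMacaulayLocalRing_localization Q.asIdeal
  obtain ⟨e, -⟩ := Groth.Agent.H20.FibreLocal.exists_fibLocEquiv R S (x.asIdeal.under R) Q.asIdeal x.asIdeal
    (Groth.Agent.H20.FibreDimBC.comap_fibrePoint x.asIdeal)
  let eS := (Spec.stalkIso (CommRingCat.of S) x).commRingCatIsoToRingEquiv
  let eR := (Spec.stalkIso (CommRingCat.of R) (f x)).commRingCatIsoToRingEquiv
  let y : PrimeSpectrum R := f x
  have hmax : (maximalIdeal ((Spec (CommRingCat.of R)).presheaf.stalk (f x))).map (eR : _ →+* _) =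
      (y.asIdeal).map (algebraMap R (Localization.AtPrime y.asIdeal)) := by
    rw [Localization.AtPrime.map_eq_maximalIdeal, Ideal.map_comap_of_equiv]
    exact IsLocalRing.eq_maximalIdeal (Ideal.comap_isMaximal_of_equiv (eR.symm))
  have hc : (eS : _ →+* _).comp (f.stalkMap x).hom =
      (Localization.localRingHom y.asIdeal x.asIdeal (algebraMap R S) rfl).comp (eR : _ →+* _) := by
    have h := (Scheme.arrowStalkMapSpecIso (CommRingCat.ofHom (algebraMap R S)) x).hom.w
    exact (congrArg CommRingCat.Hom.hom h).symm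
  have hI : (((maximalIdeal ((Spec (CommRingCat.of R)).presheaf.stalk (f x))).map (f.stalkMap x).hom).map (eS : _ →+* _)) =
      ((x.asIdeal.comap (algebraMap R S)).map (algebraMap R (Localization.AtPrime x.asIdeal))) := by
    rw [Ideal.map_map, hc, ← Ideal.map_map, hmax, Ideal.map_map]
    congr 1
    exact RingHom.ext fun r => (Localization.localRingHom_to_map _ _ _ rfl r).trans
      (IsScalarTower.algebraMap_apply R S (Localization.AtPrime x.asIdeal) r).symm
  exact Groth.Agent.Lib.Excellent.Transport.isCohenMacaulayLocalRing_of_ringEquiv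
    (R := Localization.AtPrime Q.asIdeal) ((e.symm.trans (Ideal.quotientEquiv _ _ eS hI.symm).symm).trans (Groth.Agent.H46.FiberStalk.quotientEquiv f x))

theorem exists_equiv_localization {A A' : Type u} [CommRing A] [CommRing A'] (φ : A →+* A')
    (hφ : Function.Surjective φ) (Q' : Ideal A') [Q'.IsPrime]
    (hker : ∀ a ∈ RingHom.ker φ, ∃ t ∉ Q'.comap φ, t * a = 0) :
    Nonempty (Localization.AtPrime (Q'.comap φ) ≃+* Localization.AtPrime Q') := by
  let ψ := Localization.localRingHom (Q'.comap φ) Q' φ rfl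
  refine ⟨RingEquiv.ofBijective ψ ⟨(injective_iff_map_eq_zero ψ).2 fun x hx => ?_, fun y => ?_⟩⟩
  · obtain ⟨⟨a, t⟩, rfl⟩ := IsLocalization.mk'_surjective (Q'.comap φ).primeCompl x
    rw [Localization.localRingHom_mk', IsLocalization.mk'_eq_zero_iff] at hx
    obtain ⟨⟨c, hc⟩, hca⟩ := hx
    obtain ⟨c, rfl⟩ := hφ c
    obtain ⟨u, hu, hu0⟩ := hker (c * a) (RingHom.mem_ker.2 (by rw [map_mul]; exact hca))
    exact IsLocalization.mk'_eq_zero_iff _ _ |>.2
      ⟨⟨u, hu⟩ * ⟨c, hc⟩, by rw [Submonoid.coe_mul, mul_assoc]; exact hu0⟩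
  · obtain ⟨⟨a, t⟩, rfl⟩ := IsLocalization.mk'_surjective Q'.primeCompl y
    obtain ⟨a, rfl⟩ := hφ a
    obtain ⟨t, ht⟩ := t
    obtain ⟨t, rfl⟩ := hφ t
    exact ⟨IsLocalization.mk' _ a (⟨t, ht⟩ : (Q'.comap φ).primeCompl), Localization.localRingHom_mk' _ _ _ rfl a _⟩

open TensorProduct

/-- A flat, finitely presented ring map R → S whose fibre rings κ(p) ⊗ S are Cohen–Macaulay decomposes S
as a finite product of R-algebras S_d (d = 0, …, N), each again flat, finitely presented with
Cohen–Macaulay fibres, and with every irreducible component of every fibre of S_d of dimension d. -/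
theorem result (R S : Type u) [CommRing R]
    [CommRing S] [Algebra R S] [Module.Flat R S] [Algebra.FinitePresentation R S]
    (hCM : ∀ p : PrimeSpectrum R, LocCoh.IsCohenMacaulayRing (p.asIdeal.Fiber S)) :
    ∃ (N : ℕ) (T : Fin (N + 1) → Type u) (_ : ∀ d, CommRing (T d)) (_ : ∀ d, Algebra R (T d)),
      Nonempty (S ≃ₐ[R] ((d : Fin (N + 1)) → T d)) ∧
        ∀ d : Fin (N + 1), Module.Flat R (T d) ∧ Algebra.FinitePresentation R (T d) ∧
          (∀ p : PrimeSpectrum R, LocCoh.IsCohenMacaulayRing (p.asIdeal.Fiber (T d))) ∧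
          ∀ (p : PrimeSpectrum R), ∀ P ∈ minimalPrimes (p.asIdeal.Fiber (T d)),
            ringKrullDim (p.asIdeal.Fiber (T d) ⧸ P) = ((d : ℕ) : WithBot ℕ∞) := by
  classical
  have hlc : IsLocallyConstant (fun q : PrimeSpectrum S => Groth.Agent.H20.FibreDimBC.fdim R S q.asIdeal) := by
    let f := AlgebraicGeometry.Spec.map (CommRingCat.ofHom (algebraMap R S))
    haveI : AlgebraicGeometry.Flat f :=
      AlgebraicGeometry.HasRingHomProperty.Spec_iff.2 (RingHom.flat_algebraMap_iff.2 ‹_›)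
    haveI : AlgebraicGeometry.LocallyOfFinitePresentation f :=
      AlgebraicGeometry.HasRingHomProperty.Spec_iff.2 (RingHom.finitePresentation_algebraMap.2 ‹_›)
    have h := Groth.Agent.S9374.result f (isCMAt_specMap R S hCM)
    refine (IsLocallyConstant.iff_exists_open _).2 fun q => ?_
    obtain ⟨W, hW, hqW, hWc⟩ := (IsLocallyConstant.iff_exists_open _).1 h q
    refine ⟨W, hW, hqW, fun q' hq' => ?_⟩
    have h' := hWc q' hq'
    rw [Groth.Agent.H20.FibreDimSet.fibreDimAt_specMap, Groth.Agent.H20.FibreDimSet.fibreDimAt_specMap] at h'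
    exact_mod_cast h'
  obtain ⟨N, e, he, -, hmem⟩ := Groth.Agent.H20.ClopenDecomp.exists_completeOrthogonalIdempotents hlc
  refine ⟨N, fun d => S ⧸ Ideal.span {1 - e d}, fun d => inferInstance, fun d => inferInstance,
    ⟨Groth.Agent.H20.ClopenDecomp.piEquiv R he⟩, fun d => ?_⟩
  have hee : e d * (1 - e d) = 0 := by rw [mul_sub, mul_one, (he.idem d).eq, sub_self]
  have key : ∀ (p : PrimeSpectrum R) (P : Ideal (p.asIdeal.Fiber (S ⧸ Ideal.span {1 - e d}))) [P.IsPrime],
      ∃ Q : PrimeSpectrum (p.asIdeal.Fiber S),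
        Nonempty (Localization.AtPrime Q.asIdeal ≃+* Localization.AtPrime P) ∧
        ringKrullDim (p.asIdeal.Fiber S ⧸ Q.asIdeal) = ringKrullDim (p.asIdeal.Fiber (S ⧸ Ideal.span {1 - e d}) ⧸ P) ∧
        (1 : p.asIdeal.ResidueField) ⊗ₜ[R] e d ∉ Q.asIdeal := by
    intro p P _
    let I : Ideal S := Ideal.span {1 - e d}
    let φ := (Algebra.TensorProduct.map (AlgHom.id R p.asIdeal.ResidueField) (Ideal.Quotient.mkₐ R I)).toRingHom
    have hφ : Function.Surjective φ := fun x => by
      induction x using TensorProduct.induction_on with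
      | zero => exact ⟨0, map_zero _⟩
      | tmul a b => obtain ⟨b, rfl⟩ := Ideal.Quotient.mk_surjective b; exact ⟨a ⊗ₜ b, rfl⟩
      | add a b ha hb =>
        obtain ⟨a, rfl⟩ := ha; obtain ⟨b, rfl⟩ := hb; exact ⟨a + b, map_add _ _ _⟩
    have he1 : φ ((1 : p.asIdeal.ResidueField) ⊗ₜ[R] e d) = 1 := by
      change (1 : p.asIdeal.ResidueField) ⊗ₜ[R] Ideal.Quotient.mk I (e d) = 1
      rw [show Ideal.Quotient.mk I (e d) = 1 from (Ideal.Quotient.eq (I := I) (y := 1)).2
        (by rw [← neg_sub]; exact neg_mem (Ideal.mem_span_singleton_self _))]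
      rfl
    have hnot : (1 : p.asIdeal.ResidueField) ⊗ₜ[R] e d ∉ P.comap φ := by
      rw [Ideal.mem_comap, he1]
      exact fun h => Ideal.IsPrime.ne_top inferInstance ((Ideal.eq_top_iff_one P).2 h)
    refine ⟨⟨P.comap φ, inferInstance⟩, exists_equiv_localization φ hφ P (fun a ha => ⟨_, hnot, ?_⟩), ?_, hnot⟩
    · have h : RingHom.ker φ = I.map (Algebra.TensorProduct.includeRight
          (R := R) (A := p.asIdeal.ResidueField) (B := S)).toRingHom :=
        Groth.Agent.H20.FibreLocal.ker_map_mk p.asIdeal I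
      rw [h, Ideal.map_span, Set.image_singleton, Ideal.mem_span_singleton] at ha
      obtain ⟨b, rfl⟩ := ha
      rw [← mul_assoc]
      change ((1 : p.asIdeal.ResidueField) ⊗ₜ[R] e d) * ((1 : p.asIdeal.ResidueField) ⊗ₜ[R] (1 - e d)) * b = 0
      rw [Algebra.TensorProduct.tmul_mul_tmul, hee, TensorProduct.tmul_zero, zero_mul]
    · exact ringKrullDim_eq_of_ringEquiv ((Ideal.quotEquivOfEq (by rw [← RingHom.comap_ker, Ideal.mk_ker])).trans
        (RingHom.quotientKerEquivOfSurjective (f := (Ideal.Quotient.mk P).comp φ)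
          (Ideal.Quotient.mk_surjective.comp hφ)))
  refine ⟨?_, ?_, fun p => ?_, fun p P hP => ?_⟩
  · let s : (S ⧸ Ideal.span {1 - e d}) →ₗ[R] S :=
      Submodule.liftQ ((Ideal.span {1 - e d}).restrictScalars R) (LinearMap.mulLeft R (e d)) (by
        intro a ha
        obtain ⟨b, rfl⟩ := Ideal.mem_span_singleton.1 ha
        rw [LinearMap.mem_ker, LinearMap.mulLeft_apply, ← mul_assoc, hee, zero_mul]) ∘ₗ
      (Submodule.Quotient.restrictScalarsEquiv R (Ideal.span {1 - e d})).symm.toLinearMap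
    refine Module.Flat.of_retract s (Ideal.Quotient.mkₐ R _).toLinearMap (LinearMap.ext fun a => ?_)
    obtain ⟨a, rfl⟩ := Ideal.Quotient.mk_surjective a
    change Ideal.Quotient.mk _ (e d * a) = Ideal.Quotient.mk _ a
    rw [Ideal.Quotient.eq]
    exact Ideal.mem_span_singleton.2 ⟨-a, by ring⟩
  · exact Algebra.FinitePresentation.quotient (Submodule.fg_span_singleton _)
  · haveI := hCM p
    haveI : Algebra.FiniteType p.asIdeal.ResidueField (p.asIdeal.Fiber (S ⧸ Ideal.span {1 - e d})) := inferInstance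
    haveI := Groth.Agent.Lib.Dim.Local.isNoetherianRing_of_field p.asIdeal.ResidueField
      (A := p.asIdeal.Fiber (S ⧸ Ideal.span {1 - e d}))
    refine ⟨fun P _ => ?_⟩
    obtain ⟨Q, ⟨eQ⟩, -, -⟩ := key p P
    haveI := LocCoh.IsCohenMacaulayRing.isCohenMacaulayLocalRing_localization Q.asIdeal
    exact Groth.Agent.Lib.Excellent.Transport.isCohenMacaulayLocalRing_of_ringEquiv (R := Localization.AtPrime Q.asIdeal) eQ
  · haveI : P.IsPrime := hP.1.1
    let k := p.asIdeal.ResidueField
    obtain ⟨Q, ⟨eQ⟩, hdim, hnot⟩ := key p P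
    rw [← hdim, Groth.Agent.Lib.Dim.Basic.ringKrullDim_quotient_prime k]
    have h0 : (Q.asIdeal.height : WithBot ℕ∞) = 0 := by
      rw [← IsLocalization.AtPrime.ringKrullDim_eq_height Q.asIdeal (Localization.AtPrime Q.asIdeal),
        ringKrullDim_eq_of_ringEquiv eQ, IsLocalization.AtPrime.ringKrullDim_eq_height P (Localization.AtPrime P),
        Ideal.height_eq_zero_iff.2 hP]
      rfl
    let q : Ideal S := Q.asIdeal.comap (Algebra.TensorProduct.includeRight (R := R) (A := k) (B := S)).toRingHom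
    haveI : q.LiesOver p.asIdeal := ⟨by
      refine (Ideal.over_def Q.asIdeal p.asIdeal).trans ?_
      ext r
      simp [q, Ideal.mem_comap, Ideal.under_def, ← Algebra.TensorProduct.tmul_one_eq_one_tmul]
      rfl⟩
    have hfd := Groth.Agent.H20.FibreDimBC.dimAt_eq_fdim p.asIdeal q Q rfl
    have hqd : Groth.Agent.H20.FibreDimBC.fdim R S q = d := (hmem d ⟨q, inferInstance⟩).1 hnot
    have hd : Groth.Agent.Lib.Dim.Local.dimAt k Q.asIdeal = Groth.Agent.Lib.Dim.Basic.dimQ k Q.asIdeal := by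
      rw [Groth.Agent.Lib.Dim.Local.dimAt, show Q.asIdeal.height = 0 by exact_mod_cast h0]
      simp
    rw [hqd, hd] at hfd
    rw [hfd]

end Groth.Agent.S9165
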