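import Groth.Statements.S9166
import Mathlib.RingTheory.FinitePresentation
import Mathlib.RingTheory.Flat.Equalizer
import Mathlib.RingTheory.Flat.Localization
import Mathlib.RingTheory.Nakayama
import Mathlib.RingTheory.Localization.AtPrime.Basic
import Mathlib.LinearAlgebra.TensorProduct.Quotient

set_option autoImplicit false
universe u
open CAlg

namespace Groth.Agent.S9166

/-- Let I be an ideal of a ring R, S → S' a surjective homomorphism of R-algebras with S of finite type
and S' of finite presentation over R, and q a prime of S containing IS. Assume S'_q is flat over R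
and that S_q/IS_q → S'_q/IS'_q is an isomorphism, which for a surjection says: every element of the
kernel of S → S' maps into I·S_q. Then for some g ∉ q the localized map S_g → S'_g is bijective. -/
theorem result (R S S' : Type u) [CommRing R] [CommRing S]
    [CommRing S'] [Algebra R S] [Algebra R S'] [Algebra.FiniteType R S] [Algebra.FinitePresentation R S']
    (I : Ideal R) (f : S →ₐ[R] S') (hf : Function.Surjective f) (q : Ideal S) [q.IsPrime]
    (hq : I.map (algebraMap R S) ≤ q)
    (hker : ∀ j : S, f j = 0 →
      algebraMap S (Localization.AtPrime q) j ∈ I.map (algebraMap R (Localization.AtPrime q)))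
    (hflat : letI : Module S S' := f.toRingHom.toModule
      Module.Flat R (LocalizedModule q.primeCompl S')) :
    ∃ g : S, g ∉ q ∧ Function.Bijective (Localization.awayMap f.toRingHom g) := by
  classical
  letI : Module S S' := f.toRingHom.toModule
  haveI : Module.Flat R (LocalizedModule q.primeCompl S') := hflat
  have hKfg : (RingHom.ker f.toRingHom).FG := by
    obtain ⟨n, g, hg⟩ := Algebra.FiniteType.iff_quotient_mvPolynomial''.mp (inferInstance : Algebra.FiniteType R S)
    convert! (Algebra.FinitePresentation.ker_fg_of_mvPolynomial (f.comp g) (hf.comp hg)).map g.toRingHom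
    simp_rw [RingHom.ker_eq_comap_bot, AlgHom.toRingHom_eq_coe, AlgHom.comp_toRingHom]
    rw [← Ideal.comap_comap, Ideal.map_comap_of_surjective (g : MvPolynomial (Fin n) R →+* S) hg]
  set K : Ideal S := RingHom.ker f.toRingHom with hK
  let A := Localization.AtPrime q
  let φ : S →ₗ[S] S' := LinearMap.toSpanSingleton S S' 1
  have hφ : ∀ s : S, φ s = f s := fun s => mul_one (f s)
  have hφs : Function.Surjective φ := fun y => (hf y).imp fun s hs => (hφ s).trans hs
  let ψ : A →ₗ[S] LocalizedModule q.primeCompl S' :=
    IsLocalizedModule.map q.primeCompl (Algebra.linearMap S A)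
      (LocalizedModule.mkLinearMap q.primeCompl S') φ
  have hψs : Function.Surjective ψ := IsLocalizedModule.map_surjective _ _ _ _ hφs
  have hψ : ∀ x : A, ψ x = 0 ↔ x ∈ K.map (algebraMap S A) := by
    intro x
    obtain ⟨s, t, rfl⟩ := IsLocalization.exists_mk'_eq q.primeCompl x
    have hu : IsUnit (algebraMap S A (t : S)) := IsLocalization.map_units A t
    have h1 : ψ (IsLocalization.mk' A s t) = 0 ↔ ψ (algebraMap S A s) = 0 := by
      have h2 : (t : S) • IsLocalization.mk' A s t = algebraMap S A s := by
        rw [Algebra.smul_def, mul_comm]; exact IsLocalization.mk'_spec A s t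
      rw [← h2, map_smul]
      exact ⟨fun h => by rw [h, smul_zero], fun h =>
        (Module.End.isUnit_iff _).mp (IsLocalizedModule.map_units
          (LocalizedModule.mkLinearMap q.primeCompl S') t) |>.injective (h.trans (map_zero _).symm)⟩
    have h3 : ψ (algebraMap S A s) = LocalizedModule.mkLinearMap q.primeCompl S' (f s) := by
      rw [← hφ]
      exact IsLocalizedModule.map_apply q.primeCompl (Algebra.linearMap S A) _ φ s
    rw [h1, h3, IsLocalization.mk'_mem_map_algebraMap_iff]
    constructor
    · intro h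
      obtain ⟨c, hc⟩ := (IsLocalizedModule.eq_zero_iff q.primeCompl _).mp h
      refine ⟨c, c.2, ?_⟩
      rw [hK, RingHom.mem_ker, map_mul]
      exact hc
    · rintro ⟨c, hc, hcs⟩
      refine (IsLocalizedModule.eq_zero_iff q.primeCompl _).mpr ⟨⟨c, hc⟩, ?_⟩
      rw [hK, RingHom.mem_ker, map_mul] at hcs
      exact hcs
  let ψR : A →ₗ[R] LocalizedModule q.primeCompl S' := ψ.restrictScalars R
  have hinj := LinearMap.lTensor_injective_of_exact_of_flat ψR hψs _
    (LinearMap.ker ψR).subtype_injective (LinearMap.exact_subtype_ker_map _) (R ⧸ I)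
  have hIA : I.map (algebraMap R A) ≤ IsLocalRing.maximalIdeal A := by
    rw [IsScalarTower.algebraMap_eq R S A, ← Ideal.map_map, ← Localization.AtPrime.map_eq_maximalIdeal]
    exact Ideal.map_mono hq
  have hle : K.map (algebraMap S A) ≤ IsLocalRing.maximalIdeal A * K.map (algebraMap S A) := by
    intro x hx
    have hxI : x ∈ I.map (algebraMap R A) := by
      refine (?_ : K.map (algebraMap S A) ≤ I.map (algebraMap R A)) hx
      exact Ideal.map_le_iff_le_comap.mpr fun j hj => hker j hj
    have hx' : x ∈ LinearMap.ker ψR := (hψ x).mpr hx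
    have h0 : (Ideal.Quotient.mk I 1) ⊗ₜ[R] (⟨x, hx'⟩ : LinearMap.ker ψR) = 0 := by
      apply hinj
      rw [LinearMap.lTensor_tmul, map_zero, Submodule.subtype_apply]
      apply (TensorProduct.quotTensorEquivQuotSMul A I).injective
      rw [TensorProduct.quotTensorEquivQuotSMul_mk_tmul, map_zero, one_smul,
        Submodule.Quotient.mk_eq_zero, Ideal.smul_top_eq_map]
      exact hxI
    have h1 : (⟨x, hx'⟩ : LinearMap.ker ψR) ∈ I • (⊤ : Submodule R (LinearMap.ker ψR)) := by
      have := congrArg (TensorProduct.quotTensorEquivQuotSMul (LinearMap.ker ψR) I) h0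
      rwa [TensorProduct.quotTensorEquivQuotSMul_mk_tmul, map_zero, one_smul,
        Submodule.Quotient.mk_eq_zero] at this
    suffices H : ∀ z ∈ I • (⊤ : Submodule R (LinearMap.ker ψR)),
        (z : A) ∈ IsLocalRing.maximalIdeal A * K.map (algebraMap S A) from H _ h1
    intro z hz
    refine Submodule.smul_induction_on hz (fun r hr y _ => ?_) (fun y y' hy hy' => Ideal.add_mem _ hy hy')
    rw [Submodule.coe_smul, Algebra.smul_def]
    exact Ideal.mul_mem_mul (hIA (Ideal.mem_map_of_mem _ hr)) ((hψ _).mp y.2)
  have hbot : K.map (algebraMap S A) = ⊥ :=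
    Submodule.eq_bot_of_le_smul_of_le_jacobson_bot _ _ (hKfg.map _) hle
      (IsLocalRing.maximalIdeal_le_jacobson _)
  obtain ⟨s, hs⟩ := hKfg
  have hkill : ∀ j : s, ∃ u : q.primeCompl, (u : S) * j = 0 := fun j => by
    have hj : algebraMap S A (j : S) = 0 := by
      rw [← Ideal.mem_bot, ← hbot]
      exact Ideal.mem_map_of_mem _ (by rw [← hs]; exact Ideal.subset_span j.2)
    exact (IsLocalization.map_eq_zero_iff q.primeCompl A _).mp hj
  choose u hu using hkill
  refine ⟨∏ j, (u j : S), (prod_mem (fun j _ => (u j).2) : (∏ j, (u j : S)) ∈ q.primeCompl), ?_⟩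
  set g := ∏ j, (u j : S) with hg
  have hgK : ∀ j ∈ K, g * j = 0 := by
    intro j hj
    rw [← hs] at hj
    induction hj using Submodule.span_induction with
    | mem x hx =>
      rw [hg, ← Finset.prod_erase_mul _ _ (Finset.mem_univ (⟨x, hx⟩ : s)), mul_assoc, hu ⟨x, hx⟩, mul_zero]
    | zero => exact mul_zero _
    | add a b _ _ ha hb => rw [mul_add, ha, hb, add_zero]
    | smul a b _ hb => rw [smul_eq_mul, mul_left_comm, hb, mul_zero]
  constructor
  · rw [injective_iff_map_eq_zero]
    intro z hz
    obtain ⟨y, t, rfl⟩ := IsLocalization.exists_mk'_eq (Submonoid.powers g) z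
    rw [Localization.awayMap, IsLocalization.Away.map, IsLocalization.map_mk',
      IsLocalization.mk'_eq_zero_iff] at hz
    obtain ⟨⟨_, k, rfl⟩, hk⟩ := hz
    refine (IsLocalization.mk'_eq_zero_iff _ _).mpr ⟨⟨g ^ (k + 1), k + 1, rfl⟩, ?_⟩
    change g ^ (k + 1) * y = 0
    rw [pow_succ', mul_assoc]
    refine hgK _ ?_
    rw [hK, RingHom.mem_ker, map_mul, map_pow]
    exact hk
  · intro z
    obtain ⟨y, ⟨_, k, rfl⟩, rfl⟩ := IsLocalization.exists_mk'_eq (Submonoid.powers (f.toRingHom g)) z
    obtain ⟨s', rfl⟩ := hf y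
    refine ⟨IsLocalization.mk' _ s' (⟨g ^ k, k, rfl⟩ : Submonoid.powers g), ?_⟩
    rw [Localization.awayMap, IsLocalization.Away.map, IsLocalization.map_mk']
    congr 1
    exact Subtype.ext (map_pow f.toRingHom g k)

end Groth.Agent.S9166
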