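import Groth.Statements.S9167
import Mathlib

set_option autoImplicit false
set_option maxHeartbeats 1000000
universe u
open CAlg

namespace Groth.Agent.S9167

/-- With R' = S⁻¹(R/I), every finitely presented R'-module is of the form S⁻¹(M/IM) for some finitely
presented R-module M. -/
theorem result (R : Type u) [CommRing R] (I : Ideal R)
    (S : Submonoid R) (M' : Type u) [AddCommGroup M']
    [Module (Localization (S.map (Ideal.Quotient.mk I))) M']
    [Module.FinitePresentation (Localization (S.map (Ideal.Quotient.mk I))) M'] :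
    ∃ (M : Type u) (_ : AddCommGroup M) (_ : Module R M), Module.FinitePresentation R M ∧
      Nonempty (LocalizedModule (S.map (Ideal.Quotient.mk I)) (M ⧸ (I • ⊤ : Submodule R M))
        ≃ₗ[Localization (S.map (Ideal.Quotient.mk I))] M') := by
  classical
  obtain ⟨b, a, π, g, hπ, hg⟩ := Module.FinitePresentation.exists_fin' (Localization (S.map (Ideal.Quotient.mk I))) M'
  let v : Fin a → (Fin b → (Localization (S.map (Ideal.Quotient.mk I)))) := fun l => g (Pi.single l 1)
  have hv : Submodule.span (Localization (S.map (Ideal.Quotient.mk I))) (Set.range v) = LinearMap.ker π := by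
    rw [(LinearMap.exact_iff.1 hg), LinearMap.range_eq_map, ← (Pi.basisFun (Localization (S.map (Ideal.Quotient.mk I))) (Fin a)).span_eq, Submodule.map_span, ← Set.range_comp]
    congr 2
    funext l
    simp [v]
  let c : (Fin b → R) →ₗ[R] (Fin b → (Localization (S.map (Ideal.Quotient.mk I)))) := LinearMap.compLeft (Algebra.linearMap R (Localization (S.map (Ideal.Quotient.mk I)))) (Fin b)
  have hex : ∀ l : Fin a, ∃ (w : Fin b → R) (u : (Localization (S.map (Ideal.Quotient.mk I)))), IsUnit u ∧ c w = u • v l := by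
    intro l
    obtain ⟨d, hd⟩ := IsLocalization.exist_integer_multiples_of_finite (S.map (Ideal.Quotient.mk I)) (v l)
    choose y hy using hd
    choose w hw using fun i => Ideal.Quotient.mk_surjective (y i)
    refine ⟨w, algebraMap (R ⧸ I) (Localization (S.map (Ideal.Quotient.mk I))) d, IsLocalization.map_units (Localization (S.map (Ideal.Quotient.mk I))) d, funext fun i => ?_⟩
    show algebraMap R (Localization (S.map (Ideal.Quotient.mk I))) (w i) = _
    rw [IsScalarTower.algebraMap_apply R (R ⧸ I) (Localization (S.map (Ideal.Quotient.mk I))), Ideal.Quotient.algebraMap_eq, hw, hy]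
    rw [Algebra.smul_def, Pi.smul_apply, smul_eq_mul]
  choose w u hu hwv using hex
  let M := (Fin b → R) ⧸ Submodule.span R (Set.range w)
  haveI hfp : Module.FinitePresentation R M :=
    Module.finitePresentation_of_surjective (Submodule.span R (Set.range w)).mkQ (Submodule.mkQ_surjective _)
      (by rw [Submodule.ker_mkQ]; exact Submodule.fg_span (Set.finite_range w))
  refine ⟨M, inferInstance, inferInstance, hfp, ?_⟩
  let Q := M ⧸ (I • ⊤ : Submodule R M)
  let L := LocalizedModule (S.map (Ideal.Quotient.mk I)) Q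
  let mk : (Fin b → R) →ₗ[R] L := (LocalizedModule.mkLinearMap (S.map (Ideal.Quotient.mk I)) Q).restrictScalars R ∘ₗ
    (I • ⊤ : Submodule R M).mkQ ∘ₗ (Submodule.span R (Set.range w)).mkQ
  let Ψ : (Fin b → (Localization (S.map (Ideal.Quotient.mk I)))) →ₗ[(Localization (S.map (Ideal.Quotient.mk I)))] L := (Pi.basisFun (Localization (S.map (Ideal.Quotient.mk I))) (Fin b)).constr (Localization (S.map (Ideal.Quotient.mk I))) fun i => mk (Pi.single i 1)
  have hΨc : ∀ x, Ψ (c x) = mk x := by
    have : (Ψ.restrictScalars R) ∘ₗ c = mk := by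
      refine (Pi.basisFun R (Fin b)).ext fun i => ?_
      have hci : c (Pi.single i 1) = Pi.single i 1 := funext fun j => by
        show algebraMap R (Localization (S.map (Ideal.Quotient.mk I))) ((Pi.single i 1 : Fin b → R) j) = _
        rcases eq_or_ne j i with rfl | h
        · simp
        · simp [h]
      rw [Pi.basisFun_apply, LinearMap.comp_apply, hci]
      show Ψ (Pi.single i 1) = _
      rw [← Pi.basisFun_apply, Module.Basis.constr_basis]
    exact LinearMap.congr_fun this
  have hker : LinearMap.ker π ≤ LinearMap.ker Ψ := by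
    rw [← hv, Submodule.span_le]
    rintro _ ⟨l, rfl⟩
    rw [SetLike.mem_coe, LinearMap.mem_ker, ← (hu l).smul_eq_zero, ← map_smul, ← hwv, hΨc]
    have : (Submodule.span R (Set.range w)).mkQ (w l) = 0 :=
      (Submodule.Quotient.mk_eq_zero _).2 (Submodule.subset_span ⟨l, rfl⟩)
    simp [mk, this]
  let fwd : M' →ₗ[(Localization (S.map (Ideal.Quotient.mk I)))] L := (LinearMap.ker π).liftQ Ψ hker ∘ₗ (π.quotKerEquivOfSurjective hπ).symm.toLinearMap
  have hfwd : ∀ z, fwd (π z) = Ψ z := by
    intro z
    have : (π.quotKerEquivOfSurjective hπ).symm (π z) = Submodule.Quotient.mk z :=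
      (π.quotKerEquivOfSurjective hπ).symm_apply_eq.2 (π.quotKerEquivOfSurjective_apply_mk hπ z).symm
    simp [fwd, this]
  letI : Module (R ⧸ I) M' := Module.compHom M' (algebraMap (R ⧸ I) (Localization (S.map (Ideal.Quotient.mk I))))
  haveI : IsScalarTower (R ⧸ I) (Localization (S.map (Ideal.Quotient.mk I))) M' := IsScalarTower.of_algebraMap_smul fun r m => rfl
  letI : Module R M' := Module.compHom M' (algebraMap R (Localization (S.map (Ideal.Quotient.mk I))))
  haveI : IsScalarTower R (Localization (S.map (Ideal.Quotient.mk I))) M' := IsScalarTower.of_algebraMap_smul fun r m => rfl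
  haveI : IsScalarTower R (R ⧸ I) M' := IsScalarTower.of_algebraMap_smul fun r m => by
    show algebraMap (R ⧸ I) (Localization (S.map (Ideal.Quotient.mk I))) (algebraMap R (R ⧸ I) r) • m = algebraMap R (Localization (S.map (Ideal.Quotient.mk I))) r • m
    rw [← IsScalarTower.algebraMap_apply]
  let g0 : M →ₗ[R] M' := (Submodule.span R (Set.range w)).liftQ ((π.restrictScalars R) ∘ₗ c) (by
    rw [Submodule.span_le]
    rintro _ ⟨l, rfl⟩
    have hk : v l ∈ LinearMap.ker π := hv ▸ Submodule.subset_span ⟨l, rfl⟩
    simp [hwv, LinearMap.mem_ker.1 hk])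
  let g1 : Q →ₗ[R] M' := (I • ⊤ : Submodule R M).liftQ g0 (by
    rw [Submodule.smul_le]
    intro r hr m _
    rw [LinearMap.mem_ker, map_smul, ← algebraMap_smul (R ⧸ I) r (g0 m), Ideal.Quotient.algebraMap_eq,
      Ideal.Quotient.eq_zero_iff_mem.2 hr, zero_smul])
  let g2 : Q →ₗ[R ⧸ I] M' := g1.extendScalarsOfSurjective Ideal.Quotient.mk_surjective
  have hunit : ∀ x : (S.map (Ideal.Quotient.mk I)), IsUnit (algebraMap (R ⧸ I) (Module.End (R ⧸ I) M') x) := fun x => by
    rw [Module.End.isUnit_iff]
    have e : ∀ m : M', algebraMap (R ⧸ I) (Module.End (R ⧸ I) M') x m = algebraMap (R ⧸ I) (Localization (S.map (Ideal.Quotient.mk I))) x • m := fun m => rfl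
    rw [show ⇑(algebraMap (R ⧸ I) (Module.End (R ⧸ I) M') x) = fun m => algebraMap (R ⧸ I) (Localization (S.map (Ideal.Quotient.mk I))) x • m from funext e]
    exact (IsLocalization.map_units (Localization (S.map (Ideal.Quotient.mk I))) x).smul_bijective
  let bwd : L →ₗ[(Localization (S.map (Ideal.Quotient.mk I)))] M' := (LocalizedModule.lift (S.map (Ideal.Quotient.mk I)) g2 hunit).extendScalarsOfIsLocalization (S.map (Ideal.Quotient.mk I)) (Localization (S.map (Ideal.Quotient.mk I)))
  have hbwd : ∀ x, bwd (mk x) = π (c x) := by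
    intro x
    show LocalizedModule.lift (S.map (Ideal.Quotient.mk I)) g2 hunit (LocalizedModule.mk _ 1) = _
    rw [LocalizedModule.lift_mk]
    rw [Module.End.algebraMap_isUnit_inv_apply_eq_iff, OneMemClass.coe_one, one_smul]
    rfl
  refine ⟨LinearEquiv.ofLinearMap bwd fwd ?_ ?_⟩
  · refine LinearMap.ext fun z => ?_
    obtain ⟨z, rfl⟩ := hπ z
    rw [LinearMap.comp_apply, hfwd, LinearMap.id_apply]
    have : bwd ∘ₗ Ψ = π := (Pi.basisFun (Localization (S.map (Ideal.Quotient.mk I))) (Fin b)).ext fun i => by
      rw [LinearMap.comp_apply, Module.Basis.constr_basis, hbwd]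
      congr 1
      funext j
      show algebraMap R (Localization (S.map (Ideal.Quotient.mk I))) ((Pi.single i 1 : Fin b → R) j) = _
      rcases eq_or_ne j i with rfl | h
      · simp
      · simp [h]
    exact LinearMap.congr_fun this z
  · apply LinearMap.restrictScalars_injective (R ⧸ I)
    refine IsLocalizedModule.linearMap_ext (S.map (Ideal.Quotient.mk I)) (LocalizedModule.mkLinearMap (S.map (Ideal.Quotient.mk I)) Q) (LocalizedModule.mkLinearMap (S.map (Ideal.Quotient.mk I)) Q) (LinearMap.ext fun q => ?_)
    obtain ⟨m, rfl⟩ := Submodule.mkQ_surjective _ q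
    obtain ⟨x, rfl⟩ := Submodule.mkQ_surjective _ m
    show fwd (bwd (mk x)) = mk x
    rw [hbwd, hfwd, hΨc]

end Groth.Agent.S9167
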