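import Groth.Statements.S9168
import Mathlib.RingTheory.EssentialFiniteness
import Mathlib.RingTheory.LocalRing.RingHom.Basic
import Mathlib.RingTheory.RingHom.EssFiniteType
import Mathlib.Tactic

set_option autoImplicit false
universe u
open CAlg

namespace Groth.Agent.S9168

/-- Fractions of a subring with denominators invertible in the ambient ring. -/
def fractions {R : Type*} [CommRing R] (T : Subring R) : Subring R where
  carrier := {r | ∃ t ∈ T, IsUnit t ∧ r * t ∈ T}
  mul_mem' := fun {a b} ⟨t, ht, htu, h⟩ ⟨t', ht', htu', h'⟩ =>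
    ⟨t * t', mul_mem ht ht', htu.mul htu', by rw [mul_mul_mul_comm]; exact mul_mem h h'⟩
  one_mem' := ⟨1, one_mem _, isUnit_one, by rw [mul_one]; exact one_mem _⟩
  add_mem' := fun {a b} ⟨t, ht, htu, h⟩ ⟨t', ht', htu', h'⟩ =>
    ⟨t * t', mul_mem ht ht', htu.mul htu', by
      rw [add_mul, show a * (t * t') = a * t * t' by ring, show b * (t * t') = b * t' * t by ring]
      exact add_mem (mul_mem h ht') (mul_mem h' ht)⟩
  zero_mem' := ⟨1, one_mem _, isUnit_one, by rw [zero_mul]; exact zero_mem _⟩
  neg_mem' := fun {a} ⟨t, ht, htu, h⟩ => ⟨t, ht, htu, by rw [neg_mul]; exact neg_mem h⟩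

theorem le_fractions {R : Type*} [CommRing R] (T : Subring R) : T ≤ fractions T := fun r hr =>
  ⟨1, one_mem _, isUnit_one, by rwa [mul_one]⟩

theorem isLocalHom_fractions {R : Type*} [CommRing R] (T : Subring R) :
    IsLocalHom (fractions T).subtype := by
  refine ⟨fun r hr => ?_⟩
  obtain ⟨t, ht, htu, hrt⟩ := r.2
  obtain ⟨u, hu⟩ := IsUnit.mul (show IsUnit (r : R) from hr) htu
  refine IsUnit.of_mul_eq_one ⟨t * (↑u⁻¹ : R), ⟨(r : R) * t, hrt, ⟨u, hu⟩, ?_⟩⟩ (Subtype.ext ?_)
  · rw [← hu, mul_assoc, Units.inv_mul, mul_one]; exact ht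
  · show (r : R) * (t * ↑u⁻¹) = 1
    rw [← mul_assoc, ← hu, Units.mul_inv]


/-- For a local homomorphism of local rings R → S and finite subsets E ⊆ R, F ⊆ S there are local
subrings R₀ ⊆ R and S₀ ⊆ S containing E and F, with R → S mapping R₀ into S₀, such that the
inclusions and the induced map R₀ → S₀ are local homomorphisms, R₀ is essentially of finite type
over ℤ and S₀ is essentially of finite type over R₀. (So R → S is the directed colimit of such R₀ →
S₀.) -/
theorem result (R S : Type u) [CommRing R] [CommRing S] [IsLocalRing R]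
    [IsLocalRing S] [Algebra R S] [IsLocalHom (algebraMap R S)] (E : Finset R) (F : Finset S) :
    ∃ (R₀ : Subring R) (S₀ : Subring S) (h : ∀ x ∈ R₀, algebraMap R S x ∈ S₀),
      (E : Set R) ⊆ R₀ ∧ (F : Set S) ⊆ S₀ ∧ ∃ (_ : IsLocalRing R₀) (_ : IsLocalRing S₀),
        IsLocalHom R₀.subtype ∧ IsLocalHom S₀.subtype ∧
          IsLocalHom ((algebraMap R S).restrict R₀ S₀ h) ∧
          (algebraMap ℤ R₀).EssFiniteType ∧ ((algebraMap R S).restrict R₀ S₀ h).EssFiniteType := by
  classical
  let T : Subring R := Subring.closure (E : Set R)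
  let R₀ := fractions T
  let T' : Subring S := Subring.closure ((F : Set S) ∪ algebraMap R S '' (R₀ : Set R))
  let S₀ := fractions T'
  have h : ∀ x ∈ R₀, algebraMap R S x ∈ S₀ := fun x hx =>
    le_fractions T' (Subring.subset_closure (Or.inr ⟨x, hx, rfl⟩))
  have hlR : IsLocalHom R₀.subtype := isLocalHom_fractions T
  have hlS : IsLocalHom S₀.subtype := isLocalHom_fractions T'
  have iR : IsLocalRing R₀ := RingHom.domain_isLocalRing R₀.subtype
  have iS : IsLocalRing S₀ := RingHom.domain_isLocalRing S₀.subtype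
  refine ⟨R₀, S₀, h, fun e he => le_fractions T (Subring.subset_closure he),
    fun e he => le_fractions T' (Subring.subset_closure (Or.inl he)), iR, iS, hlR, hlS, ⟨fun r hr => ?_⟩, ?_, ?_⟩
  · exact hlR.map_nonunit r ((isUnit_map_iff (algebraMap R S) (r : R)).1 (hr.map S₀.subtype))
  · rw [RingHom.essFiniteType_algebraMap, Algebra.essFiniteType_iff]
    let σ : Finset R₀ := E.attach.image fun e => ⟨e.1, le_fractions T (Subring.subset_closure e.2)⟩
    refine ⟨σ, fun s => ?_⟩
    have key : ∀ z (hz : z ∈ T), (⟨z, le_fractions T hz⟩ : R₀) ∈ Algebra.adjoin ℤ (σ : Set R₀) := by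
      intro z hz
      induction hz using Subring.closure_induction with
      | mem e he => exact Algebra.subset_adjoin (Finset.mem_image.2 ⟨⟨e, he⟩, Finset.mem_attach _ _, rfl⟩)
      | zero => exact zero_mem (Algebra.adjoin ℤ (σ : Set R₀))
      | one => exact one_mem (Algebra.adjoin ℤ (σ : Set R₀))
      | add x y _ _ hx hy => exact add_mem hx hy
      | neg x _ hx => exact neg_mem hx
      | mul x y _ _ hx hy => exact mul_mem hx hy
    obtain ⟨t, ht, htu, hst⟩ := s.2
    exact ⟨⟨t, le_fractions T ht⟩, key t ht, hlR.map_nonunit _ htu, key _ hst⟩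
  · let φ := (algebraMap R S).restrict R₀ S₀ h
    letI : Algebra R₀ S₀ := φ.toAlgebra
    show RingHom.EssFiniteType φ
    rw [show φ = algebraMap R₀ S₀ from rfl, RingHom.essFiniteType_algebraMap, Algebra.essFiniteType_iff]
    let σ : Finset S₀ := F.attach.image fun e => ⟨e.1, le_fractions T' (Subring.subset_closure (Or.inl e.2))⟩
    refine ⟨σ, fun s => ?_⟩
    have key : ∀ z (hz : z ∈ T'), (⟨z, le_fractions T' hz⟩ : S₀) ∈ Algebra.adjoin R₀ (σ : Set S₀) := by
      intro z hz
      induction hz using Subring.closure_induction with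
      | mem e he =>
        rcases he with he | ⟨x, hx, rfl⟩
        · exact Algebra.subset_adjoin (Finset.mem_image.2 ⟨⟨e, he⟩, Finset.mem_attach _ _, rfl⟩)
        · exact (Algebra.adjoin R₀ (σ : Set S₀)).algebraMap_mem ⟨x, hx⟩
      | zero => exact zero_mem (Algebra.adjoin R₀ (σ : Set S₀))
      | one => exact one_mem (Algebra.adjoin R₀ (σ : Set S₀))
      | add x y _ _ hx hy => exact add_mem hx hy
      | neg x _ hx => exact neg_mem hx
      | mul x y _ _ hx hy => exact mul_mem hx hy
    obtain ⟨t, ht, htu, hst⟩ := s.2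
    exact ⟨⟨t, le_fractions T' ht⟩, key t ht, hlS.map_nonunit _ htu, key _ hst⟩

end Groth.Agent.S9168
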