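import Groth.Statements.S9173
import Groth.Agent.Lib.Synt92.RelChart

set_option autoImplicit false
universe u
open Synt

namespace Groth.Agent.S9173

open MvPolynomial TensorProduct in
/-- Let S = R[x_1, …, x_n]/(F_1, …, F_c) over a ring R. Let p be a prime of R whose fibre ring κ(p) ⊗ S
has Krull dimension n − c (with c ≤ n). Then some h in the polynomial ring, with image g in S,
satisfies: g maps to a unit of κ(p) ⊗ S, and the presentation S_g = R[x_1, …, x_{n+1}]/(F_1, …, F_c,
h·x_{n+1} − 1) is a relative global complete intersection over R (with S_g isomorphic to it over R). -/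
theorem result (R : Type u) [CommRing R] (n c : ℕ) (F : Fin c → MvPolynomial (Fin n) R)
    (p : Ideal R) [p.IsPrime]
    (hp : c ≤ n ∧ ringKrullDim (p.Fiber (Synt.RelGCIRing R n c F)) = ((n - c : ℕ) : WithBot ℕ∞)) :
    ∃ h : MvPolynomial (Fin n) R,
      IsUnit ((1 : p.ResidueField) ⊗ₜ[R] (Ideal.Quotient.mk (Ideal.span (Set.range F)) h) :
        p.Fiber (Synt.RelGCIRing R n c F)) ∧
      Synt.IsRelGCI R (n + 1) (c + 1)
        (Fin.snoc (fun i => rename Fin.castSucc (F i)) (rename Fin.castSucc h * X (Fin.last n) - 1)) ∧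
      Nonempty (Localization.Away (Ideal.Quotient.mk (Ideal.span (Set.range F)) h) ≃ₐ[R]
        Synt.RelGCIRing R (n + 1) (c + 1)
          (Fin.snoc (fun i => rename Fin.castSucc (F i)) (rename Fin.castSucc h * X (Fin.last n) - 1))) := by
  obtain ⟨hc, hd⟩ := hp
  have hfib : ∀ q : PrimeSpectrum (Synt.RelGCIRing R n c F), q.asIdeal.under R = p →
      Groth.Agent.H20.FibreDimBC.fdim R (Synt.RelGCIRing R n c F) q.asIdeal ≤ n - c := by
    intro q hq
    subst hq
    exact Lib.Synt92.RelChart.fdim_le_of_ringKrullDim_le _ q.asIdeal (n - c) hd.le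
  obtain ⟨g, hu, hg⟩ := Lib.Synt92.RelChart.exists_unit_of_fibre_subset p _
    (Groth.Agent.H20.FibreDimSet.isOpen_setOf_fdim_le (R := R) (S := Synt.RelGCIRing R n c F) (n - c)) hfib
  obtain ⟨h, rfl⟩ := Ideal.Quotient.mk_surjective g
  exact ⟨h, hu, Lib.Synt92.RelChart.isRelGCI_ext R hc F h (fun q hqp hq => hg ⟨q, hqp⟩ hq),
    Lib.Synt92.AwayPres.nonempty_equiv R n c F h⟩

end Groth.Agent.S9173
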