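import Groth.Statements.S9174
import Groth.Agent.H20.FibreLocal
import Groth.Agent.H20.FibreDimSet

set_option autoImplicit false
universe u
open CAlg

namespace Groth.Agent.S9174

/-- Let R → S be of finite type with every fibre ring κ(p) ⊗ S Cohen–Macaulay and equidimensional of
dimension d, and let f_1, …, f_i ∈ S. The primes q ⊇ (f_1, …, f_i) at which the f_j form a regular
sequence in the fibre local ring S_q/pS_q (p = q ∩ R) form an open subset of V(f_1, …, f_i): there
is an open U of Spec S whose trace on V(f_1, …, f_i) is exactly this set. -/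
theorem result (R S : Type u) [CommRing R] [CommRing S]
    [Algebra R S] [Algebra.FiniteType R S] (d : ℕ)
    (hCM : ∀ p : PrimeSpectrum R, LocCoh.IsCohenMacaulayRing (p.asIdeal.Fiber S))
    (heq : ∀ p : PrimeSpectrum R, ∀ P ∈ minimalPrimes (p.asIdeal.Fiber S),
      ringKrullDim (p.asIdeal.Fiber S ⧸ P) = (d : WithBot ℕ∞))
    (f : List S) :
    ∃ U : Set (PrimeSpectrum S), IsOpen U ∧ ∀ q : PrimeSpectrum S, Ideal.ofList f ≤ q.asIdeal →
      (q ∈ U ↔ RingTheory.Sequence.IsRegular (EGA4.FibLocRing R S q.asIdeal)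
        (f.map (algebraMap S (EGA4.FibLocRing R S q.asIdeal)))) := by
  let I := Ideal.ofList f
  let mk := Ideal.Quotient.mk I
  haveI : Algebra.FiniteType R (S ⧸ I) := inferInstance
  let V : Set (PrimeSpectrum (S ⧸ I)) := {q' | Groth.Agent.H20.FibreDimBC.fdim R (S ⧸ I) q'.asIdeal + f.length ≤ d}
  have hV : IsOpen V := by
    by_cases hle : f.length ≤ d
    · convert Groth.Agent.H20.FibreDimSet.isOpen_setOf_fdim_le (R := R) (S := S ⧸ I) (d - f.length) using 1
      ext q'
      simp only [V, Set.mem_setOf_eq]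
      omega
    · convert isOpen_empty
      ext q'
      simp only [V, Set.mem_setOf_eq, Set.mem_empty_iff_false, iff_false]
      omega
  have hemb : Topology.IsInducing (PrimeSpectrum.comap mk) :=
    (PrimeSpectrum.isClosedEmbedding_comap_of_surjective (S ⧸ I) mk Ideal.Quotient.mk_surjective).isInducing
  obtain ⟨U, hU, hUV⟩ := hemb.isOpen_iff.1 hV
  refine ⟨U, hU, fun q hq => ?_⟩
  obtain ⟨q', rfl⟩ : q ∈ Set.range (PrimeSpectrum.comap mk) := by
    rw [range_comap_of_surjective (S ⧸ I) mk Ideal.Quotient.mk_surjective, Ideal.mk_ker]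
    exact hq
  exact (Set.ext_iff.1 hUV q').trans
    (Groth.Agent.H20.FibreLocal.isRegular_iff_fdim_add_le hCM heq f q'.asIdeal (PrimeSpectrum.comap mk q').asIdeal rfl).symm

end Groth.Agent.S9174
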