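import Groth.Statements.S9175
import Groth.Agent.H20.QuasiFinitePoly

set_option autoImplicit false
universe u
open CAlg

namespace Groth.Agent.S9175

/-- Let R → S be of finite type, q a prime of S over p, and Q the prime of the fibre ring κ(p) ⊗ S
pulling back to q. If Spec(κ(p) ⊗ S) has local dimension n at Q (the relative dimension of S over R
at q is n), then some S_g with g ∉ q admits an R-algebra map from the polynomial ring R[t_1, …, t_n]
which is of finite type and quasi-finite. -/
theorem result (R S : Type u) [CommRing R] [CommRing S]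
    [Algebra R S] [Algebra.FiniteType R S] (p : Ideal R) [p.IsPrime] (q : Ideal S) [q.IsPrime] [q.LiesOver p]
    (Q : PrimeSpectrum (p.Fiber S))
    (hQ : Q.asIdeal.comap (Algebra.TensorProduct.includeRight.toRingHom) = q) (n : ℕ)
    (hdim : FlatMor.localDim (PrimeSpectrum (p.Fiber S)) Q = (n : WithBot ℕ∞)) :
    ∃ g : S, g ∉ q ∧ ∃ φ : MvPolynomial (Fin n) R →ₐ[R] Localization.Away g,
      φ.toRingHom.FiniteType ∧ φ.toRingHom.QuasiFinite := by
  obtain rfl : p = q.under R := Ideal.over_def q p
  have hn : Groth.Agent.H20.FibreDimBC.fdim R S q = n := by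
    rw [Groth.Agent.H20.FibreDimBC.localDim_eq_fdim (q.under R) q Q hQ] at hdim
    exact_mod_cast hdim
  subst hn
  obtain ⟨r, -, -, a, g, hg, hqf, -⟩ :=
    Groth.Agent.H20.QuasiFinitePoly.exists_quasiFinite_mvPolynomial (R := R) q
  refine ⟨g, hg, _, ?_, hqf⟩
  refine RingHom.FiniteType.of_comp_finiteType (f := MvPolynomial.C) ?_
  rw [← MvPolynomial.algebraMap_eq, AlgHom.toRingHom_eq_coe, AlgHom.comp_algebraMap]
  exact RingHom.finiteType_algebraMap.mpr inferInstance

end Groth.Agent.S9175
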