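import Groth.Statements.S9177
import Groth.Agent.H20.DescentBC
import Mathlib.Algebra.Colimit.Ring

set_option autoImplicit false
universe u
open CAlg

namespace Groth.Agent.S9177

open TensorProduct in
/-- Let R = colim R_i be a directed colimit of A-algebras (compatible transition maps), B and C
A-algebras. (1) If B is of finite type over A, two A-algebra maps B → C whose base changes to R
coincide already have equal base changes to some R_i. (2) If C is of finite type over A and u : B →
C has surjective base change to R, then its base change to some R_i is surjective. (The A-algebra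
structure on R is through any stage R_l; it does not depend on l.) -/
theorem result {ι : Type u} [Preorder ι]
    [Nonempty ι] [IsDirectedOrder ι] (G : ι → Type u) [∀ i, CommRing (G i)]
    (f : ∀ i j, i ≤ j → G i →+* G j) [DirectedSystem G (fun i j h => f i j h)]
    (A : Type u) [CommRing A] [∀ i, Algebra A (G i)]
    (hf : ∀ i j (h : i ≤ j), (f i j h).comp (algebraMap A (G i)) = algebraMap A (G j)) (l : ι)
    (B C : Type u) [CommRing B] [CommRing C] [Algebra A B] [Algebra A C] :
    letI : Algebra A (Ring.DirectLimit G (fun i j h => f i j h)) :=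
      ((Ring.DirectLimit.of G (fun i j h => f i j h) l).comp (algebraMap A (G l))).toAlgebra
    (Algebra.FiniteType A B → ∀ u u' : B →ₐ[A] C,
        Algebra.TensorProduct.map (AlgHom.id A (Ring.DirectLimit G (fun i j h => f i j h))) u =
            Algebra.TensorProduct.map (AlgHom.id A (Ring.DirectLimit G (fun i j h => f i j h))) u' →
          ∃ i : ι, Algebra.TensorProduct.map (AlgHom.id A (G i)) u =
            Algebra.TensorProduct.map (AlgHom.id A (G i)) u') ∧
      (Algebra.FiniteType A C → ∀ u : B →ₐ[A] C,
        Function.Surjective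
            (Algebra.TensorProduct.map (AlgHom.id A (Ring.DirectLimit G (fun i j h => f i j h))) u) →
          ∃ i : ι, Function.Surjective (Algebra.TensorProduct.map (AlgHom.id A (G i)) u)) := by
  letI : Algebra A (Ring.DirectLimit G (fun i j h => f i j h)) :=
    ((Ring.DirectLimit.of G (fun i j h => f i j h) l).comp (algebraMap A (G l))).toAlgebra
  have hc : ∀ i (a : A), Ring.DirectLimit.of G (fun i j h => f i j h) i (algebraMap A (G i) a) =
      Ring.DirectLimit.of G (fun i j h => f i j h) l (algebraMap A (G l) a) := by
    intro i a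
    obtain ⟨k, hi, hl⟩ := exists_ge_ge i l
    rw [← Ring.DirectLimit.of_f (hij := hi), ← Ring.DirectLimit.of_f (hij := hl)]
    exact congrArg _ ((DFunLike.congr_fun (hf i k hi) a).trans (DFunLike.congr_fun (hf l k hl) a).symm)
  let g : ∀ i, G i →ₐ[A] Ring.DirectLimit G (fun i j h => f i j h) := fun i =>
    { Ring.DirectLimit.of G (fun i j h => f i j h) i with commutes' := hc i }
  let fA : ∀ i j, i ≤ j → (G i →ₐ[A] G j) := fun i j h =>
    { f i j h with commutes' := fun a => DFunLike.congr_fun (hf i j h) a }
  have H : Groth.Agent.H20.Descent.IsColim g :=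
    .of_directed fA (fun i j h => AlgHom.ext fun x => Ring.DirectLimit.of_f (hij := h) x)
      (fun z => Ring.DirectLimit.exists_of z)
      (fun i x hx => by
        obtain ⟨j, hij, hj⟩ := Ring.DirectLimit.of.zero_exact hx
        exact ⟨j, hij, hj⟩)
  have nat : ∀ {X Y : Type u} [CommRing X] [CommRing Y] [Algebra A X] [Algebra A Y]
      (e : X →ₐ[A] Y) (v : B →ₐ[A] C) (z : X ⊗[A] B),
      Algebra.TensorProduct.map e (AlgHom.id A C) (Algebra.TensorProduct.map (AlgHom.id A X) v z) =
        Algebra.TensorProduct.map (AlgHom.id A Y) v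
          (Algebra.TensorProduct.map e (AlgHom.id A B) z) := by
    intro X Y _ _ _ _ e v z
    induction z using TensorProduct.induction_on with
    | zero => simp
    | add p q hp hq => simp only [map_add, hp, hq]
    | tmul p q => simp
  constructor
  · intro hB u u' huu
    obtain ⟨s, hs⟩ := hB.out
    obtain ⟨j, e, -, hkill⟩ := H.exists_kill_bc C (i := l)
      (fun b : s => (1 : G l) ⊗ₜ[A] u b) (fun b : s => (1 : G l) ⊗ₜ[A] u' b) (fun b => by
        simp only [Algebra.TensorProduct.map_tmul, map_one, AlgHom.coe_id, id_eq]
        have := DFunLike.congr_fun huu ((1 : Ring.DirectLimit G (fun i j h => f i j h)) ⊗ₜ[A] (b : B))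
        simpa using this)
    refine ⟨j, Algebra.TensorProduct.ext (AlgHom.ext fun x => by simp) ?_⟩
    refine AlgHom.ext_of_adjoin_eq_top hs fun b hb => ?_
    have := hkill ⟨b, hb⟩
    simp only [Algebra.TensorProduct.map_tmul, map_one, AlgHom.coe_id, id_eq] at this
    simpa using this
  · intro hC u hu
    classical
    obtain ⟨s, hs⟩ := hC.out
    choose z hz using fun c : s =>
      hu ((1 : Ring.DirectLimit G (fun i j h => f i j h)) ⊗ₜ[A] (c : C))
    obtain ⟨i, -, -, x, hx⟩ := (H.tensor B).exists_lift_family l
      (fun c => TensorProduct.comm A _ _ (z c))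
    let w : s → G i ⊗[A] B := fun c => (TensorProduct.comm A (G i) B).symm (x c)
    have hw : ∀ c, Algebra.TensorProduct.map (g i) (AlgHom.id A B) (w c) = z c := fun c => by
      apply (TensorProduct.comm A (Ring.DirectLimit G (fun i j h => f i j h)) B).injective
      rw [← hx c]
      simp only [w]
      generalize x c = v
      induction v using TensorProduct.induction_on with
      | zero => simp
      | add p q hp hq => simp only [map_add, hp, hq]
      | tmul p q => simp
    obtain ⟨j, e, -, hkill⟩ := H.exists_kill_bc C (i := i)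
      (fun c => Algebra.TensorProduct.map (AlgHom.id A (G i)) u (w c))
      (fun c : s => (1 : G i) ⊗ₜ[A] (c : C)) (fun c => by
        rw [nat, hw]
        simpa using hz c)
    refine ⟨j, ?_⟩
    intro y
    let P : G j ⊗[A] B →ₐ[G j] G j ⊗[A] C := Algebra.TensorProduct.map (AlgHom.id (G j) (G j)) u
    have hy : y ∈ (⊤ : Subalgebra (G j) (G j ⊗[A] C)) := Algebra.mem_top
    rw [← Groth.Agent.H20.Descent.adjoin_tmul_eq_top C (G j) hs] at hy
    refine Algebra.adjoin_le (S := P.range) ?_ hy
    rintro _ ⟨c, hc, rfl⟩
    refine ⟨Algebra.TensorProduct.map e (AlgHom.id A B) (w ⟨c, hc⟩), ?_⟩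
    have := hkill ⟨c, hc⟩
    rw [nat] at this
    refine this.trans ?_
    simp

end Groth.Agent.S9177
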