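import Groth.Statements.S9178


set_option autoImplicit false
universe u
open CAlg

namespace Groth.Agent.S9178

/-- For ring maps A → B → C with A → C surjective, writing I = ker(A → C) and J = ker(B → C), the
sequence I/I² → J/J² → C ⊗_B Ω_{B/A} → 0 is exact. Stated: the image of I/I² in J/J² is exactly the
kernel of J/J² → C ⊗_B Ω_{B/A} (surjectivity of the latter map is the standard conormal sequence for
the surjection B → C). -/
theorem result (A B C : Type u) [CommRing A] [CommRing B]
    [CommRing C] [Algebra A B] [Algebra B C] [Algebra A C] [IsScalarTower A B C]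
    (hAC : Function.Surjective (algebraMap A C))
    (h : RingHom.ker (algebraMap A C) ≤ (RingHom.ker (algebraMap B C)).comap (Algebra.ofId A B)) :
    Function.Exact
      (Ideal.mapCotangent (RingHom.ker (algebraMap A C)) (RingHom.ker (algebraMap B C)) (Algebra.ofId A B) h)
      (KaehlerDifferential.kerCotangentToTensor A B C) := by
  classical
  let J := RingHom.ker (algebraMap B C)
  let f := Ideal.mapCotangent (RingHom.ker (algebraMap A C)) J (Algebra.ofId A B) h
  let P : Submodule B J.Cotangent := Submodule.span B (Set.range f)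
  choose s hs using fun b : B => hAC (algebraMap B C b)
  have hmem : ∀ (b : B) (a : A), algebraMap A C a = algebraMap B C b → b - algebraMap A B a ∈ J :=
    fun b a e => by rw [RingHom.mem_ker, map_sub, ← IsScalarTower.algebraMap_apply, e, sub_self]
  let D0 : B → J.Cotangent ⧸ P := fun b => P.mkQ (J.toCotangent ⟨b - algebraMap A B (s b), hmem b _ (hs b)⟩)
  have hD0 : ∀ (b : B) (a : A) (e : algebraMap A C a = algebraMap B C b),
      D0 b = P.mkQ (J.toCotangent ⟨b - algebraMap A B a, hmem b a e⟩) := by
    intro b a e
    have hI : a - s b ∈ RingHom.ker (algebraMap A C) := by rw [RingHom.mem_ker, map_sub, e, hs, sub_self]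
    refine (Submodule.Quotient.eq P).mpr ?_
    have : J.toCotangent ⟨b - algebraMap A B (s b), hmem b _ (hs b)⟩ - J.toCotangent ⟨b - algebraMap A B a, hmem b a e⟩
        = f ((RingHom.ker (algebraMap A C)).toCotangent ⟨_, hI⟩) := by
      rw [← map_sub]
      refine (congrArg J.toCotangent (Subtype.ext ?_)).trans
        (Ideal.mapCotangent_toCotangent _ _ (Algebra.ofId A B) h ⟨_, hI⟩).symm
      simp [Algebra.ofId_apply]
    rw [this]
    exact Submodule.subset_span ⟨_, rfl⟩
  let Dl : B →ₗ[A] J.Cotangent ⧸ P :=
    { toFun := D0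
      map_add' := fun x y => by
        rw [hD0 (x + y) (s x + s y) (by rw [map_add, map_add, hs, hs]), ← map_add P.mkQ, ← map_add J.toCotangent]
        congr 2
        ext
        simp only [map_add, AddMemClass.mk_add_mk]
        ring
      map_smul' := fun c x => by
        rw [RingHom.id_apply, hD0 (c • x) (c * s x) (by rw [map_mul, hs, Algebra.smul_def, map_mul, ← IsScalarTower.algebraMap_apply]),
          ← algebraMap_smul B c (D0 x), ← map_smul P.mkQ, ← map_smul J.toCotangent]
        congr 2
        ext
        simp only [map_mul, Submodule.coe_smul, smul_eq_mul, Algebra.smul_def]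
        ring }
  let Dd : Derivation A B (J.Cotangent ⧸ P) := Derivation.mk' Dl fun x y => by
    show D0 (x * y) = x • D0 y + y • D0 x
    have hy : y • D0 x = algebraMap A B (s y) • D0 x := by
      rw [← sub_eq_zero, ← sub_smul]
      show (y - algebraMap A B (s y)) • P.mkQ (J.toCotangent _) = 0
      rw [← map_smul, ← map_smul]
      refine (congrArg P.mkQ ?_).trans (map_zero _)
      rw [Ideal.toCotangent_eq_zero, pow_two]
      exact Ideal.mul_mem_mul (hmem y _ (hs y)) (hmem x _ (hs x))
    rw [hy, hD0 (x * y) (s x * s y) (by rw [map_mul, map_mul, hs, hs]), ← map_smul P.mkQ, ← map_smul P.mkQ,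
      ← map_add P.mkQ, ← map_smul J.toCotangent, ← map_smul J.toCotangent, ← map_add J.toCotangent]
    congr 2
    ext
    simp only [map_mul, Submodule.coe_smul, smul_eq_mul, Submodule.coe_add]
    ring
  let g := Dd.liftKaehlerDifferential
  have hsurjC : Function.Surjective (Algebra.linearMap B C) := fun c => by
    obtain ⟨a, rfl⟩ := hAC c
    exact ⟨algebraMap A B a, (IsScalarTower.algebraMap_apply A B C a).symm⟩
  have hker : LinearMap.ker (Algebra.linearMap B C) ≤ LinearMap.ker (LinearMap.toSpanSingleton B _ g) := by
    intro j hj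
    replace hj : j ∈ J := hj
    rw [LinearMap.mem_ker, LinearMap.toSpanSingleton_apply]
    refine LinearMap.ext fun w => ?_
    show j • g w = 0
    obtain ⟨q, hq⟩ := P.mkQ_surjective (g w)
    obtain ⟨q, rfl⟩ := J.toCotangent_surjective q
    rw [← hq, ← map_smul, ← map_smul]
    refine (congrArg P.mkQ ?_).trans (map_zero _)
    rw [Ideal.toCotangent_eq_zero, pow_two]
    exact Ideal.mul_mem_mul hj q.2
  let G : C →ₗ[B] (Ω[B⁄A] →ₗ[B] J.Cotangent ⧸ P) :=
    (Submodule.liftQ _ _ hker) ∘ₗ ((Algebra.linearMap B C).quotKerEquivOfSurjective hsurjC).symm.toLinearMap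
  have hG : ∀ w, TensorProduct.lift G (1 ⊗ₜ w) = g w := by
    intro w
    have h1 : G (Algebra.linearMap B C 1) = LinearMap.toSpanSingleton B _ g 1 := by
      show Submodule.liftQ _ _ hker (((Algebra.linearMap B C).quotKerEquivOfSurjective hsurjC).symm _) = _
      rw [show ((Algebra.linearMap B C).quotKerEquivOfSurjective hsurjC).symm (Algebra.linearMap B C 1) = Submodule.Quotient.mk 1 from LinearEquiv.symm_apply_eq _ |>.mpr rfl]
      rfl
    simpa using LinearMap.congr_fun h1 w
  intro x
  constructor
  · intro hx
    obtain ⟨⟨x, hxJ⟩, rfl⟩ := J.toCotangent_surjective x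
    rw [KaehlerDifferential.kerCotangentToTensor_toCotangent] at hx
    have h0 : D0 x = 0 := by
      have := congrArg (TensorProduct.lift G) hx
      rwa [hG, map_zero, Derivation.liftKaehlerDifferential_comp_D] at this
    rw [hD0 x 0 (by rw [map_zero]; exact (RingHom.mem_ker.mp hxJ).symm), Submodule.mkQ_apply, Submodule.Quotient.mk_eq_zero] at h0
    simp only [map_zero, sub_zero] at h0
    have hP : ∀ p ∈ P, p ∈ Set.range f := by
      intro p hp
      induction hp using Submodule.span_induction with
      | mem y hy => exact hy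
      | zero => exact ⟨0, map_zero f⟩
      | add y z _ _ hy hz =>
        obtain ⟨y, rfl⟩ := hy
        obtain ⟨z, rfl⟩ := hz
        exact ⟨y + z, map_add f y z⟩
      | smul b y _ hy =>
        obtain ⟨y, rfl⟩ := hy
        refine ⟨s b • y, ?_⟩
        rw [map_smul, ← algebraMap_smul B (s b) (f y), eq_comm, ← sub_eq_zero, ← sub_smul]
        obtain ⟨q, hq⟩ := J.toCotangent_surjective (f y)
        rw [← hq, ← map_smul, Ideal.toCotangent_eq_zero, pow_two]
        exact Ideal.mul_mem_mul (hmem b _ (hs b)) q.2
    exact hP _ h0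
  · rintro ⟨y, rfl⟩
    obtain ⟨y, rfl⟩ := Ideal.toCotangent_surjective _ y
    rw [Ideal.mapCotangent_toCotangent, KaehlerDifferential.kerCotangentToTensor_toCotangent]
    simp [Algebra.ofId_apply, Derivation.map_algebraMap]

end Groth.Agent.S9178
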