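import Groth.Statements.S9179
import Groth.Agent.H20.IndPresentation
import Mathlib.RingTheory.RingHom.FinitePresentation

set_option autoImplicit false
universe u
open CategoryTheory CategoryTheory.Limits
open CAlg

namespace Groth.Agent.S9179

/-- An R-algebra of finite type is the colimit of a filtered system of finitely presented R-algebras
whose transition maps are all surjective. -/
theorem result (R A : Type u) [CommRing R] [CommRing A]
    [Algebra R A] [Algebra.FiniteType R A] :
    ∃ (I : Type u) (_ : SmallCategory I) (_ : IsFiltered I) (D : I ⥤ Under (CommRingCat.of R))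
      (c : Cocone D) (_ : IsColimit c),
      (∀ i, (D.obj i).hom.hom.FinitePresentation) ∧
      (∀ (i j : I) (φ : i ⟶ j), Function.Surjective (D.map φ).right.hom) ∧
      Nonempty (c.pt ≅ Under.mk (CommRingCat.ofHom (algebraMap R A))) := by
  classical
  obtain ⟨n, π, hπ⟩ := Algebra.FiniteType.iff_quotient_mvPolynomial''.mp ‹Algebra.FiniteType R A›
  let ι := {F : Finset (MvPolynomial (Fin n) R) // ∀ p ∈ F, π p = 0}
  let I : ι → Ideal (MvPolynomial (Fin n) R) := fun F => Ideal.span (F.1 : Set _)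
  have hI : ∀ F G : ι, F ≤ G → I F ≤ I G := fun F G h => Ideal.span_mono (Finset.coe_subset.mpr h)
  have hIπ : ∀ F : ι, ∀ p ∈ I F, π p = 0 := fun F p hp =>
    (Ideal.span_le (I := RingHom.ker π.toRingHom)).mpr (fun q hq => F.2 q hq) hp
  haveI : Nonempty ι := ⟨⟨∅, by simp⟩⟩
  haveI : IsDirectedOrder ι := ⟨fun F G => ⟨⟨F.1 ∪ G.1, fun p hp =>
    (Finset.mem_union.mp hp).elim (F.2 p) (G.2 p)⟩, Finset.subset_union_left,
    Finset.subset_union_right⟩⟩
  let P : ι → Type u := fun F => MvPolynomial (Fin n) R ⧸ I F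
  let f : ∀ F G : ι, F ≤ G → (P F →ₐ[R] P G) := fun F G h => Ideal.Quotient.factorₐ R (hI F G h)
  have hf₁ : ∀ F x, f F F le_rfl x = x := by
    intro F x
    obtain ⟨x, rfl⟩ := Ideal.Quotient.mk_surjective x
    rfl
  have hf₂ : ∀ F G H (h : F ≤ G) (h' : G ≤ H) x, f G H h' (f F G h x) = f F H (h.trans h') x := by
    intro F G H h h' x
    obtain ⟨x, rfl⟩ := Ideal.Quotient.mk_surjective x
    rfl
  let g : ∀ F, P F →ₐ[R] A := fun F => Ideal.Quotient.liftₐ (I F) π (hIπ F)
  have hg : ∀ F G (h : F ≤ G) x, g G (f F G h x) = g F x := by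
    intro F G h x
    obtain ⟨x, rfl⟩ := Ideal.Quotient.mk_surjective x
    rfl
  obtain ⟨hc⟩ := Groth.Agent.H20.IndPresentation.exists_isColimit P f hf₁ hf₂ g hg
    (fun a => by
      obtain ⟨p, hp⟩ := hπ a
      exact ⟨Classical.arbitrary ι, Ideal.Quotient.mk _ p, hp⟩)
    (fun F x hx => by
      obtain ⟨x, rfl⟩ := Ideal.Quotient.mk_surjective x
      refine ⟨⟨insert x F.1, fun p hp => ?_⟩, Finset.subset_insert _ _, ?_⟩
      · rcases Finset.mem_insert.mp hp with rfl | hp
        · exact hx
        · exact F.2 p hp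
      · exact Ideal.Quotient.eq_zero_iff_mem.mpr (Ideal.subset_span (Finset.mem_insert_self _ _)))
  refine ⟨ι, inferInstance, inferInstance, _, _, hc, fun F => ?_, fun F G φ => ?_, ⟨Iso.refl _⟩⟩
  · haveI : Algebra.FinitePresentation R (P F) :=
      Algebra.FinitePresentation.quotient ⟨F.1, rfl⟩
    exact (RingHom.finitePresentation_algebraMap (A := R) (B := P F)).mpr inferInstance
  · intro y
    obtain ⟨y, rfl⟩ := Ideal.Quotient.mk_surjective y
    exact ⟨Ideal.Quotient.mk _ y, rfl⟩

end Groth.Agent.S9179
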