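import Groth.Statements.S9180
import Groth.Agent.H20.FibreDimBC
import Mathlib.RingTheory.Ideal.KrullsHeightTheorem
import Mathlib.RingTheory.Flat.Stability
import Mathlib.RingTheory.Ideal.GoingDown

set_option autoImplicit false
universe u
open CAlg

namespace Groth.Agent.S9180

open TensorProduct in
/-- Let S be of finite type over a field k, K an extension field of k, S_K = S ⊗_k K, q a prime of S
whose residue field has transcendence degree r over k, and q_K a prime of S_K lying over q whose
residue field has transcendence degree r_K over K. Then the local ring at q_K of the fibre of S →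
S_K over q has dimension dim (S_K)_{q_K} − dim S_q = r − r_K (stated additively), and there is a
prime of S_K over q for which this dimension is zero. -/
theorem result (k S K : Type u) [Field k] [CommRing S] [Algebra k S]
    [Algebra.FiniteType k S] [Field K] [Algebra k K] (q : Ideal S) [q.IsPrime] (r : ℕ)
    (hr : Algebra.trdeg k q.ResidueField = r) (qK : Ideal (S ⊗[k] K)) [qK.IsPrime] [qK.LiesOver q]
    (rK : ℕ)
    (hrK : letI : Algebra K (S ⊗[k] K) := Algebra.TensorProduct.rightAlgebra
      Algebra.trdeg K qK.ResidueField = rK) :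
    ringKrullDim (EGA4.FibLocRing S (S ⊗[k] K) qK) + ringKrullDim (Localization.AtPrime q) =
        ringKrullDim (Localization.AtPrime qK) ∧
      ringKrullDim (EGA4.FibLocRing S (S ⊗[k] K) qK) + (rK : WithBot ℕ∞) = (r : WithBot ℕ∞) ∧
      ∃ (q' : Ideal (S ⊗[k] K)) (_ : q'.IsPrime), q'.LiesOver q ∧
        ringKrullDim (EGA4.FibLocRing S (S ⊗[k] K) q') = 0 := by
  letI : Algebra K (S ⊗[k] K) := Algebra.TensorProduct.rightAlgebra
  let e : (K ⊗[k] S) ≃ₐ[K] (S ⊗[k] K) :=
    AlgEquiv.ofRingEquiv (f := (Algebra.TensorProduct.comm k K S).toRingEquiv) (fun x => by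
      simp [RingHom.algebraMap_toAlgebra])
  haveI : Algebra.FiniteType K (S ⊗[k] K) := Algebra.FiniteType.of_surjective e.toAlgHom e.surjective
  haveI : IsNoetherianRing (S ⊗[k] K) := Algebra.FiniteType.isNoetherianRing K _
  haveI : IsNoetherianRing (Localization.AtPrime qK) := IsLocalization.isNoetherianRing qK.primeCompl _ inferInstance
  haveI : Module.Flat (S ⊗[k] K) (Localization.AtPrime qK) := IsLocalization.flat _ qK.primeCompl
  haveI : Module.Flat S (Localization.AtPrime qK) := Module.Flat.trans S (S ⊗[k] K) _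
  haveI : IsNoetherianRing S := Algebra.FiniteType.isNoetherianRing k S
  have hq : q = qK.comap (algebraMap S (S ⊗[k] K)) := qK.over_def q
  have hfib : ∀ (Q : Ideal (S ⊗[k] K)) [Q.IsPrime] (_ : q = Q.comap (algebraMap S (S ⊗[k] K))),
      IsNoetherianRing (Localization.AtPrime Q) →
      (Q.height : WithBot ℕ∞) = (q.height : WithBot ℕ∞) + ringKrullDim (EGA4.FibLocRing S (S ⊗[k] K) Q) := by
    intro Q _ hQ hN
    haveI := hN
    haveI : Module.Flat (S ⊗[k] K) (Localization.AtPrime Q) := IsLocalization.flat _ Q.primeCompl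
    haveI : Module.Flat S (Localization.AtPrime Q) := Module.Flat.trans S (S ⊗[k] K) _
    haveI : (IsLocalRing.maximalIdeal (Localization.AtPrime Q)).LiesOver q := ⟨by
      rw [Ideal.under_def, IsScalarTower.algebraMap_eq S (S ⊗[k] K) (Localization.AtPrime Q), ← Ideal.comap_comap]
      exact hQ.trans (congrArg (Ideal.comap _) (Localization.AtPrime.comap_maximalIdeal (I := Q)).symm)⟩
    have h := Ideal.height_eq_height_add_of_liesOver_of_hasGoingDown q (IsLocalRing.maximalIdeal (Localization.AtPrime Q))
    rw [← IsLocalization.AtPrime.ringKrullDim_eq_height Q (Localization.AtPrime Q),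
      ← IsLocalRing.maximalIdeal_height_eq_ringKrullDim, h, WithBot.coe_add]
    congr 1
    have hle : q.map (algebraMap S (Localization.AtPrime Q)) ≤ IsLocalRing.maximalIdeal (Localization.AtPrime Q) := by
      rw [Ideal.map_le_iff_le_comap]
      exact (Ideal.over_def (IsLocalRing.maximalIdeal (Localization.AtPrime Q)) q).le
    haveI : Nontrivial (Localization.AtPrime Q ⧸ q.map (algebraMap S (Localization.AtPrime Q))) :=
      Submodule.Quotient.nontrivial_iff.2 fun h => (IsLocalRing.maximalIdeal.isMaximal (Localization.AtPrime Q)).ne_top (top_le_iff.1 (h ▸ hle))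
    haveI := IsLocalRing.of_surjective' _ (Ideal.Quotient.mk_surjective (I := q.map (algebraMap S (Localization.AtPrime Q))))
    subst hQ
    have hmx : ((IsLocalRing.maximalIdeal (Localization.AtPrime Q)).map (Ideal.Quotient.mk
        ((Q.comap (algebraMap S (S ⊗[k] K))).map (algebraMap S (Localization.AtPrime Q))))).IsMaximal :=
      Ideal.IsMaximal.map_of_surjective_of_ker_le (f := Ideal.Quotient.mk
        ((Q.comap (algebraMap S (S ⊗[k] K))).map (algebraMap S (Localization.AtPrime Q)))) Ideal.Quotient.mk_surjective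
        (m := IsLocalRing.maximalIdeal (Localization.AtPrime Q))
        (by rw [Ideal.mk_ker]; exact hle)
    rw [IsLocalRing.eq_maximalIdeal (R := Localization.AtPrime Q ⧸ (Q.comap (algebraMap S (S ⊗[k] K))).map (algebraMap S (Localization.AtPrime Q))) hmx]
    exact IsLocalRing.maximalIdeal_height_eq_ringKrullDim
  refine ⟨?_, ?_, ?_⟩
  · rw [IsLocalization.AtPrime.ringKrullDim_eq_height q (Localization.AtPrime q),
      IsLocalization.AtPrime.ringKrullDim_eq_height qK (Localization.AtPrime qK),
      hfib qK hq inferInstance, add_comm]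
  · have h1 : Groth.Agent.Lib.Dim.Local.dimAt K qK = Groth.Agent.Lib.Dim.Local.dimAt k q := by
      rw [← Groth.Agent.H20.FibreDimBC.dimAt_comap e qK, Groth.Agent.Lib.Dim.FieldExt.dimAt_baseChange]
      congr 1
      rw [hq]
      refine (Ideal.comap_comap _ _).trans ?_
      congr 1
    have h2 : Groth.Agent.Lib.Dim.Basic.dimQ K qK = rK := by
      rw [Groth.Agent.Lib.Dim.Basic.trdeg_residueField K qK] at hrK
      exact_mod_cast hrK
    have h3 : Groth.Agent.Lib.Dim.Basic.dimQ k q = r := by
      rw [Groth.Agent.Lib.Dim.Basic.trdeg_residueField k q] at hr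
      exact_mod_cast hr
    have hN : IsNoetherianRing S := Algebra.FiniteType.isNoetherianRing k S
    have h4 := Groth.Agent.Lib.Dim.Local.coe_dimAt K qK
    have h5 := Groth.Agent.Lib.Dim.Local.coe_dimAt k q
    rw [h1, h2] at h4
    rw [h3] at h5
    have h6 := hfib qK hq inferInstance
    have h7 : (qK.height : WithBot ℕ∞) + (rK : WithBot ℕ∞) = (q.height : WithBot ℕ∞) + (r : WithBot ℕ∞) := by
      exact_mod_cast h4.symm.trans h5
    rw [h6, add_assoc, ← Groth.Agent.Lib.Dim.Local.coe_height_toNat k q] at h7
    generalize q.height.toNat = a at h7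
    generalize hd : ringKrullDim (EGA4.FibLocRing S (S ⊗[k] K) qK) = d at h7 ⊢
    cases d with
    | bot =>
      rw [WithBot.bot_add, WithBot.add_bot] at h7
      exact absurd h7 (WithBot.bot_ne_coe (a := ((a + r : ℕ) : ℕ∞)) ∘ fun h => h.trans (by push_cast; rfl))
    | coe d =>
      cases d with
      | top =>
        rw [show ((a : ℕ∞) : WithBot ℕ∞) + (((⊤ : ℕ∞) : WithBot ℕ∞) + (rK : WithBot ℕ∞)) =
          (((a : ℕ∞) + ((⊤ : ℕ∞) + (rK : ℕ∞)) : ℕ∞) : WithBot ℕ∞) by push_cast; rfl, top_add, add_top,
          show ((a : ℕ∞) : WithBot ℕ∞) + (r : WithBot ℕ∞) = ((((a + r : ℕ) : ℕ∞)) : WithBot ℕ∞) by push_cast; rfl,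
          WithBot.coe_inj] at h7
        exact absurd h7.symm (ENat.coe_ne_top _)
      | coe d => norm_cast at h7 ⊢; omega
  · have hle : q.map (algebraMap S (S ⊗[k] K)) ≤ qK := Ideal.map_le_iff_le_comap.2 hq.le
    obtain ⟨Q, hQ, hQle⟩ := Ideal.exists_minimalPrimes_le hle
    haveI : Q.IsPrime := hQ.1.1
    have hQq : q = Q.comap (algebraMap S (S ⊗[k] K)) :=
      le_antisymm (Ideal.map_le_iff_le_comap.1 hQ.1.2) (hq ▸ Ideal.comap_mono hQle)
    refine ⟨Q, inferInstance, ⟨hQq⟩, ?_⟩
    haveI := IsLocalization.isNoetherianRing Q.primeCompl (Localization.AtPrime Q) inferInstance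
    haveI : Ring.KrullDimLE 0 (EGA4.FibLocRing S (S ⊗[k] K) Q) := by
      refine Ring.krullDimLE_zero_iff.2 fun I hI => ?_
      haveI := hI
      set J := (Q.comap (algebraMap S (S ⊗[k] K))).map (algebraMap S (Localization.AtPrime Q)) with hJ
      have h1 : (I.comap (Ideal.Quotient.mk J)).comap (algebraMap (S ⊗[k] K) (Localization.AtPrime Q)) = Q := by
        refine le_antisymm ?_ (hQ.2 ⟨inferInstance, ?_⟩ ?_)
        · refine (Ideal.comap_mono (IsLocalRing.le_maximalIdeal (Ideal.IsPrime.ne_top inferInstance))).trans ?_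
          exact (Localization.AtPrime.comap_maximalIdeal (I := Q)).le
        · rw [hQq, Ideal.map_le_iff_le_comap, Ideal.comap_comap, Ideal.comap_comap,
            ← IsScalarTower.algebraMap_eq, ← Ideal.map_le_iff_le_comap]
          rw [← Ideal.map_map]
          exact (le_of_eq (Ideal.map_quotient_self J)).trans bot_le
        · refine (Ideal.comap_mono (IsLocalRing.le_maximalIdeal (Ideal.IsPrime.ne_top inferInstance))).trans ?_
          exact (Localization.AtPrime.comap_maximalIdeal (I := Q)).le
      have h2 : I.comap (Ideal.Quotient.mk J) = IsLocalRing.maximalIdeal (Localization.AtPrime Q) := by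
        rw [← IsLocalization.map_comap Q.primeCompl (Localization.AtPrime Q) (I.comap (Ideal.Quotient.mk J))]
        rw [Ideal.under_def]
        rw [show (I.comap (Ideal.Quotient.mk J)).comap (algebraMap (S ⊗[k] K) (Localization.AtPrime Q)) = Q from h1]
        exact Localization.AtPrime.map_eq_maximalIdeal
      rw [← Ideal.map_comap_of_surjective _ Ideal.Quotient.mk_surjective I, h2]
      exact Ideal.IsMaximal.map_of_surjective_of_ker_le Ideal.Quotient.mk_surjective
        (by rw [← h2]; exact Ideal.ker_le_comap (Ideal.Quotient.mk J))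
    haveI : Nontrivial (EGA4.FibLocRing S (S ⊗[k] K) Q) := by
      refine Submodule.Quotient.nontrivial_iff.2 fun h => (IsLocalRing.maximalIdeal.isMaximal (Localization.AtPrime Q)).ne_top (top_le_iff.1 (h ▸ Ideal.map_le_iff_le_comap.2 ?_))
      rw [IsScalarTower.algebraMap_eq S (S ⊗[k] K) (Localization.AtPrime Q), ← Ideal.comap_comap]
      exact (congrArg (Ideal.comap _) (Localization.AtPrime.comap_maximalIdeal (I := Q))).ge
    exact le_antisymm (Order.krullDimLE_iff _ _ |>.1 inferInstance) (ringKrullDim_nonneg_of_nontrivial)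

end Groth.Agent.S9180
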