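import Groth.Statements.S9181
import Groth.Agent.H20.QuasiFinitePoly

set_option autoImplicit false
universe u
open CAlg

namespace Groth.Agent.S9181

theorem residueField_trdeg {R S : Type u} [CommRing R] [CommRing S] [Algebra R S] [Algebra.FiniteType R S]
    (p : Ideal R) [p.IsPrime] (q : Ideal S) [q.IsPrime] [q.LiesOver p]
    [Algebra (Localization.AtPrime p) (Localization.AtPrime q)]
    [Localization.AtPrime.IsLiesOverAlgebra p q] (Q : Ideal (p.Fiber S)) [Q.IsPrime]
    (hQ : Q.comap (Algebra.TensorProduct.includeRight.toRingHom) = q) :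
    Algebra.trdeg p.ResidueField q.ResidueField =
      (Groth.Agent.Lib.Dim.Basic.dimQ p.ResidueField Q : Cardinal) := by
  let algQ : Algebra p.ResidueField Q.ResidueField := IsLocalRing.ResidueField.algebra _
  have : IsScalarTower R p.ResidueField Q.ResidueField :=
    IsScalarTower.of_algebraMap_eq fun x => by
      rw [IsScalarTower.algebraMap_apply R (p.Fiber S) Q.ResidueField,
        IsScalarTower.algebraMap_apply R p.ResidueField (p.Fiber S)]
      rfl
  rw [← Groth.Agent.Lib.Dim.Basic.trdeg_residueField p.ResidueField Q]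
  have hb := p.surjectiveOnStalks_residueField.baseChange'.residueFieldMap_bijective q Q hQ.symm
  let e : q.ResidueField ≃+* Q.ResidueField := RingEquiv.ofBijective _ hb
  refine (AlgEquiv.ofRingEquiv (f := e) ?_).trdeg_eq
  intro c
  refine RingHom.congr_fun (f := e.toRingHom.comp (algebraMap p.ResidueField q.ResidueField))
    (g := algebraMap p.ResidueField Q.ResidueField) (Ideal.ResidueField.ringHom_ext ?_) c
  ext x
  simp only [RingHom.comp_apply]
  rw [← IsScalarTower.algebraMap_apply R p.ResidueField q.ResidueField,
    ← IsScalarTower.algebraMap_apply R p.ResidueField Q.ResidueField,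
    IsScalarTower.algebraMap_apply R S q.ResidueField]
  refine (Ideal.ResidueField.map_algebraMap _ _ _ hQ.symm _).trans ?_
  rw [IsScalarTower.algebraMap_apply R (p.Fiber S) Q.ResidueField]
  exact congrArg _ (AlgHom.commutes Algebra.TensorProduct.includeRight x)

/-- Let R → S be of finite type, q a prime of S over p, Q the prime of κ(p) ⊗ S over q, with the fibre
of local dimension n at Q and κ(q) of transcendence degree r over κ(p). Then for some f ∉ p and g ∉
q there is an R-algebra map φ : R_f[x_1, …, x_n] → S_g, of finite type and quasi-finite, such that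
the inverse image of q S_g under φ is the ideal generated by p and the variables x_{r+1}, …, x_n. -/
theorem result (R S : Type u) [CommRing R] [CommRing S]
    [Algebra R S] [Algebra.FiniteType R S] (p : Ideal R) [p.IsPrime] (q : Ideal S) [q.IsPrime] [q.LiesOver p]
    [Algebra (Localization.AtPrime p) (Localization.AtPrime q)]
    [Localization.AtPrime.IsLiesOverAlgebra p q] (Q : PrimeSpectrum (p.Fiber S))
    (hQ : Q.asIdeal.comap (Algebra.TensorProduct.includeRight.toRingHom) = q) (n r : ℕ)
    (hdim : FlatMor.localDim (PrimeSpectrum (p.Fiber S)) Q = (n : WithBot ℕ∞))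
    (hr : Algebra.trdeg p.ResidueField q.ResidueField = r) :
    ∃ (f : R) (g : S), f ∉ p ∧ g ∉ q ∧
      ∃ φ : MvPolynomial (Fin n) (Localization.Away f) →ₐ[R] Localization.Away g,
        φ.toRingHom.FiniteType ∧ φ.toRingHom.QuasiFinite ∧
        (q.map (algebraMap S (Localization.Away g))).comap φ =
          p.map (algebraMap R (MvPolynomial (Fin n) (Localization.Away f))) ⊔
            Ideal.span (Set.range fun i : {i : Fin n // r ≤ (i : ℕ)} =>
              (MvPolynomial.X (i : Fin n) : MvPolynomial (Fin n) (Localization.Away f))) := by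
  obtain rfl : p = q.under R := Ideal.over_def q p
  have hn : Groth.Agent.H20.FibreDimBC.fdim R S q = n := by
    rw [Groth.Agent.H20.FibreDimBC.localDim_eq_fdim (q.under R) q Q hQ] at hdim
    exact_mod_cast hdim
  subst hn
  obtain rfl := Groth.Agent.H20.FibreDimBC.eq_fibrePoint q Q hQ
  obtain ⟨r', hr', -, a, g, hg, hqf, hP⟩ :=
    Groth.Agent.H20.QuasiFinitePoly.exists_quasiFinite_mvPolynomial (R := R) q
  obtain rfl : r' = r := by
    have h := (residueField_trdeg (q.under R) q _ hQ).symm.trans hr
    rw [hr'] at h
    exact_mod_cast h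
  have h1 : (1 : R) ∉ q.under R := fun h => Ideal.IsPrime.ne_top' ((Ideal.eq_top_iff_one _).mpr h)
  let e : R ≃ₐ[R] Localization.Away (1 : R) :=
    IsLocalization.atUnit R (Localization.Away (1 : R)) 1 isUnit_one
  let E : MvPolynomial (Fin (Groth.Agent.H20.FibreDimBC.fdim R S q)) R ≃ₐ[R]
      MvPolynomial (Fin (Groth.Agent.H20.FibreDimBC.fdim R S q)) (Localization.Away (1 : R)) :=
    MvPolynomial.mapAlgEquiv _ e
  let ψ := (IsScalarTower.toAlgHom R S (Localization.Away g)).comp (MvPolynomial.aeval (R := R) a)
  refine ⟨1, g, h1, hg, ψ.comp E.symm.toAlgHom, ?_, ?_, ?_⟩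
  · refine RingHom.FiniteType.of_comp_finiteType
      (f := algebraMap R (MvPolynomial (Fin (Groth.Agent.H20.FibreDimBC.fdim R S q))
        (Localization.Away (1 : R)))) ?_
    rw [AlgHom.toRingHom_eq_coe, AlgHom.comp_algebraMap]
    exact RingHom.finiteType_algebraMap.mpr inferInstance
  · refine RingHom.QuasiFinite.comp hqf ?_
    exact RingHom.QuasiFinite.of_finite (RingHom.Finite.of_surjective _ E.symm.surjective)
  · rw [show (q.map (algebraMap S (Localization.Away g))).comap (ψ.comp E.symm.toAlgHom) =
        ((q.map (algebraMap S (Localization.Away g))).comap ψ).comap E.symm.toAlgHom from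
      Ideal.ext fun _ => Iff.rfl]
    have hq : (q.map (algebraMap S (Localization.Away g))).comap ψ =
        q.comap (MvPolynomial.aeval (R := R) a) := by
      change (Ideal.comap (algebraMap S (Localization.Away g))
        (q.map (algebraMap S (Localization.Away g)))).comap (MvPolynomial.aeval (R := R) a) = _
      congr 1
      have hdis : Disjoint (Submonoid.powers g : Set S) (q : Set S) := by
        rw [Set.disjoint_left]
        rintro _ ⟨k, rfl⟩ h
        exact hg (Ideal.IsPrime.mem_of_pow_mem ‹_› k h)
      exact IsLocalization.comap_map_of_isPrime_disjoint (Submonoid.powers g) _ ‹_› hdis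
    rw [hq, hP]
    have hE : ∀ I : Ideal (MvPolynomial (Fin (Groth.Agent.H20.FibreDimBC.fdim R S q)) R),
        I.comap E.symm.toAlgHom = I.map E.toAlgHom := fun I =>
      Ideal.comap_symm (f := E.toRingEquiv) (I := I)
    rw [hE, Ideal.map_sup, Ideal.map_span, ← Ideal.map_coe E.toAlgHom, Ideal.map_map]
    congr 1
    · congr 1
      exact RingHom.ext fun x => E.toAlgHom.commutes x
    · congr 1
      rw [← Set.range_comp]
      congr 1
      funext i
      simp [E]

end Groth.Agent.S9181
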