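import Groth.Statements.S9183
import Groth.Agent.H20.IndPresentation
import Mathlib.RingTheory.RingHom.FinitePresentation

set_option autoImplicit false
universe u
open CategoryTheory CategoryTheory.Limits
open CAlg

namespace Groth.Agent.S9183

/-- Every R-algebra A, with no finiteness assumption, is the colimit of a filtered system of finitely
presented R-algebras. (The published statement asserts that the category of all finitely presented
R-algebras with a map to A is filtered with colimit A; this row states that some small filtered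
system of finitely presented R-algebras has colimit A.) -/
theorem result (R A : Type u) [CommRing R] [CommRing A] [Algebra R A] :
    ∃ (I : Type u) (_ : SmallCategory I) (_ : IsFiltered I) (D : I ⥤ Under (CommRingCat.of R))
      (c : Cocone D) (_ : IsColimit c),
      (∀ i, (D.obj i).hom.hom.FinitePresentation) ∧
      Nonempty (c.pt ≅ Under.mk (CommRingCat.ofHom (algebraMap R A))) := by
  classical
  let ev : MvPolynomial A R →ₐ[R] A := MvPolynomial.aeval id
  let ι := Finset A × {F : Finset (MvPolynomial A R) // ∀ p ∈ F, ev p = 0}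
  let r : ∀ i : ι, MvPolynomial {a // a ∈ i.1} R →ₐ[R] MvPolynomial A R :=
    fun i => MvPolynomial.rename Subtype.val
  have hr : ∀ i, Function.Injective (r i) := fun i =>
    MvPolynomial.rename_injective _ Subtype.val_injective
  let I : ∀ i : ι, Ideal (MvPolynomial {a // a ∈ i.1} R) := fun i =>
    Ideal.span (r i ⁻¹' (i.2.1 : Set _))
  let inc : ∀ i j : ι, i ≤ j → (MvPolynomial {a // a ∈ i.1} R →ₐ[R] MvPolynomial {a // a ∈ j.1} R) :=
    fun i j h => MvPolynomial.rename fun a => ⟨a.1, h.1 a.2⟩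
  have hinc : ∀ i j (h : i ≤ j) p, r j (inc i j h p) = r i p := fun i j h p => by
    simp only [r, inc, MvPolynomial.rename_rename]
    rfl
  have hI : ∀ i j (h : i ≤ j), I i ≤ (I j).comap (inc i j h).toRingHom := fun i j h =>
    Ideal.span_le.mpr fun p hp => Ideal.subset_span (by
      change r j (inc i j h p) ∈ (j.2.1 : Set _)
      rw [hinc i j h]
      exact h.2 hp)
  have hIev : ∀ i, ∀ p ∈ I i, ev (r i p) = 0 := fun i p hp =>
    (Ideal.span_le (I := RingHom.ker (ev.comp (r i)).toRingHom)).mpr (fun q hq => i.2.2 _ hq) hp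
  haveI : Nonempty ι := ⟨⟨∅, ⟨∅, by simp⟩⟩⟩
  haveI : IsDirectedOrder ι := ⟨fun i j => ⟨⟨i.1 ∪ j.1, ⟨i.2.1 ∪ j.2.1, fun p hp =>
    (Finset.mem_union.mp hp).elim (i.2.2 p) (j.2.2 p)⟩⟩,
    ⟨Finset.subset_union_left, Finset.subset_union_left (α := MvPolynomial A R)⟩,
    ⟨Finset.subset_union_right, Finset.subset_union_right (α := MvPolynomial A R)⟩⟩⟩
  let P : ι → Type u := fun i => MvPolynomial {a // a ∈ i.1} R ⧸ I i
  let f : ∀ i j : ι, i ≤ j → (P i →ₐ[R] P j) := fun i j h =>
    Ideal.quotientMapₐ (I j) (inc i j h) (hI i j h)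
  have hf₁ : ∀ i x, f i i le_rfl x = x := by
    intro i x
    obtain ⟨x, rfl⟩ := Ideal.Quotient.mk_surjective x
    change Ideal.Quotient.mk _ (inc i i le_rfl x) = _
    rw [hr i (hinc i i le_rfl x)]
  have hf₂ : ∀ i j k (h : i ≤ j) (h' : j ≤ k) x, f j k h' (f i j h x) = f i k (h.trans h') x := by
    intro i j k h h' x
    obtain ⟨x, rfl⟩ := Ideal.Quotient.mk_surjective x
    change Ideal.Quotient.mk _ (inc j k h' (inc i j h x)) = Ideal.Quotient.mk _ (inc i k (h.trans h') x)
    rw [hr k (((hinc j k h' _).trans (hinc i j h x)).trans (hinc i k (h.trans h') x).symm)]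
  let g : ∀ i, P i →ₐ[R] A := fun i => Ideal.Quotient.liftₐ (I i) (ev.comp (r i)) (hIev i)
  have hg : ∀ i j (h : i ≤ j) x, g j (f i j h x) = g i x := by
    intro i j h x
    obtain ⟨x, rfl⟩ := Ideal.Quotient.mk_surjective x
    exact congrArg ev (hinc i j h x)
  obtain ⟨hc⟩ := Groth.Agent.H20.IndPresentation.exists_isColimit P f hf₁ hf₂ g hg
    (fun a => ⟨⟨{a}, ⟨∅, by simp⟩⟩, Ideal.Quotient.mk _ (MvPolynomial.X ⟨a, by simp⟩), by
      change ev (r _ (MvPolynomial.X _)) = a
      simp [ev, r]⟩)
    (fun i x hx => by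
      obtain ⟨x, rfl⟩ := Ideal.Quotient.mk_surjective x
      have hj : ∀ p ∈ insert (r i x) i.2.1, ev p = 0 := fun p hp =>
        (Finset.mem_insert.mp hp).elim (fun h => h ▸ hx) (i.2.2 p)
      have hle : i ≤ (⟨i.1, ⟨insert (r i x) i.2.1, hj⟩⟩ : ι) := ⟨le_rfl, Finset.subset_insert _ _⟩
      refine ⟨_, hle, Ideal.Quotient.eq_zero_iff_mem.mpr (Ideal.subset_span ?_)⟩
      change r _ (inc i _ hle x) ∈ ((insert (r i x) i.2.1 : Finset _) : Set _)
      rw [hinc i _ hle]
      exact Finset.mem_insert_self _ _)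
  refine ⟨ι, Preorder.smallCategory ι, isFiltered_of_directed_le_nonempty ι, _, _, hc, fun i => ?_,
    ⟨Iso.refl _⟩⟩
  haveI : Algebra.FinitePresentation R (P i) :=
    Algebra.FinitePresentation.quotient (Submodule.fg_span
      ((i.2.1.finite_toSet).preimage (hr i).injOn))
  exact (RingHom.finitePresentation_algebraMap (A := R) (B := P i)).mpr inferInstance

end Groth.Agent.S9183
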