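import Groth.Statements.S9184
import Groth.Agent.H20.FibreExact

set_option autoImplicit false
universe u
open CAlg

namespace Groth.Agent.S9184

/-- Let R be Noetherian, R → S flat of finite type whose fibre rings are Cohen–Macaulay and
equidimensional of dimension d, and let 0 → S^{n_e} → ⋯ → S^{n_1} → S^{n_0} be a complex of finite
free S-modules, the map S^{n_{i+1}} → S^{n_i} being given by the matrix φ_i. Then the set of primes
q of S such that the complex is exact (exact at each S^{n_i} with 0 < i < e and injective at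
S^{n_e}) after base change to the fibre local ring S_q/pS_q, p = q ∩ R, is open in Spec S. (The
published statement asks only that the fibres be Cohen–Macaulay of dimension d; this row assumes
them equidimensional of dimension d, the hypothesis the printed argument uses.) -/
theorem result (R S : Type u) [CommRing R] [IsNoetherianRing R] [CommRing S]
    [Algebra R S] [Algebra.FiniteType R S] [Module.Flat R S] (d : ℕ)
    (hCM : ∀ p : PrimeSpectrum R, LocCoh.IsCohenMacaulayRing (p.asIdeal.Fiber S))
    (heq : ∀ p : PrimeSpectrum R, ∀ P ∈ minimalPrimes (p.asIdeal.Fiber S),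
      ringKrullDim (p.asIdeal.Fiber S ⧸ P) = (d : WithBot ℕ∞))
    (e : ℕ) (n : ℕ → ℕ) (φ : (i : ℕ) → Matrix (Fin (n i)) (Fin (n (i + 1))) S)
    (hφ : ∀ i, i + 2 ≤ e → φ i * φ (i + 1) = 0) :
    IsOpen {q : PrimeSpectrum S |
      (∀ i, i + 2 ≤ e →
        LinearMap.ker (Matrix.mulVecLin ((φ i).map (algebraMap S (EGA4.FibLocRing R S q.asIdeal)))) =
          LinearMap.range (Matrix.mulVecLin ((φ (i + 1)).map (algebraMap S (EGA4.FibLocRing R S q.asIdeal))))) ∧
      (1 ≤ e → Function.Injective
        (Matrix.mulVecLin ((φ (e - 1)).map (algebraMap S (EGA4.FibLocRing R S q.asIdeal)))))} := by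
  have hset : IsOpen ((⋂ i ∈ {i : ℕ | i + 2 ≤ e}, {q : PrimeSpectrum S |
      LinearMap.ker (Matrix.mulVecLin ((φ i).map (algebraMap S (EGA4.FibLocRing R S q.asIdeal)))) =
        LinearMap.range (Matrix.mulVecLin ((φ (i + 1)).map (algebraMap S (EGA4.FibLocRing R S q.asIdeal))))}) ∩
      {q : PrimeSpectrum S | 1 ≤ e → Function.Injective
        (Matrix.mulVecLin ((φ (e - 1)).map (algebraMap S (EGA4.FibLocRing R S q.asIdeal))))}) := by
    refine IsOpen.inter (Set.Finite.isOpen_biInter ((Set.finite_le_nat e).subset fun i (hi : i + 2 ≤ e) =>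
      show i ≤ e by omega) fun i hi => Groth.Agent.H20.FibreExact.isOpen_exact (φ i) (φ (i + 1)) (hφ i hi)) ?_
    by_cases he : 1 ≤ e
    · convert Groth.Agent.H20.FibreExact.isOpen_exact (R := R) (φ (e - 1))
        (0 : Matrix (Fin (n (e - 1 + 1))) (Fin 0) S) (Matrix.mul_zero _) using 1
      refine Set.ext fun q => ?_
      simp only [Set.mem_setOf_eq, he, forall_const, Matrix.map_zero _ (map_zero _), Matrix.mulVecLin_zero,
        LinearMap.range_zero]
      exact LinearMap.ker_eq_bot.symm
    · convert isOpen_univ
      exact Set.eq_univ_of_forall fun q h => absurd h he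
  convert hset using 1
  refine Set.ext fun q => ?_
  simp [Set.mem_iInter]

end Groth.Agent.S9184
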