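import Groth.Statements.S9185
import Groth.Agent.Lib.DiffOp.Basic

set_option autoImplicit false
universe u
open Diff16

namespace Groth.Agent.S9185

/-- For a ring map R → S, an S-module M and k ≥ 0 there is an S-module P together with a differential
operator D : M → P of order at most k (relative to R → S) such that every differential operator of
order at most k from M to an S-module N is α ∘ D for a unique S-linear map α : P → N; that is,
differential operators of order ≤ k out of M are represented by P. (Target modules N are taken in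
the same universe.) -/
theorem result (R S : Type u) [CommRing R] [CommRing S] [Algebra R S] (M : Type u)
    [AddCommGroup M] [Module S M] [Module R M] [IsScalarTower R S M] (k : ℕ) :
    ∃ (P : Type u) (_ : AddCommGroup P) (_ : Module S P) (_ : Module R P) (_ : IsScalarTower R S P)
      (D : M →ₗ[R] P), Diff16.IsDiffOpLE R S M P k D ∧
        ∀ (N : Type u) [AddCommGroup N] [Module S N] [Module R N] [IsScalarTower R S N] (D' : M →ₗ[R] N),
          Diff16.IsDiffOpLE R S M N k D' → ∃! α : P →ₗ[S] N, α.restrictScalars R ∘ₗ D = D' := by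
  let rel : (Fin (k + 1) → S) → M → TensorProduct R S M := fun b t =>
    ∑ H : Finset (Fin (k + 1)), ((-1 : ℤ) ^ H.card) •
      ((∏ i ∈ H, b i) ⊗ₜ[R] ((∏ i ∈ (Finset.univ \ H), b i) • t))
  let W : Submodule S (TensorProduct R S M) :=
    Submodule.span S (Set.range fun x : (Fin (k + 1) → S) × M => rel x.1 x.2)
  let D : M →ₗ[R] TensorProduct R S M ⧸ W :=
    W.mkQ.restrictScalars R ∘ₗ TensorProduct.mk R S M 1
  refine ⟨TensorProduct R S M ⧸ W, inferInstance, inferInstance, inferInstance, inferInstance, D,
    Lib.DiffOp.Basic.of_alt fun b t => ?_, ?_⟩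
  · have h : W.mkQ (rel b t) = 0 := (Submodule.Quotient.mk_eq_zero W).2
      (Submodule.subset_span ⟨(b, t), rfl⟩)
    rw [← h, map_sum]
    simp only [Lib.DiffOp.Basic.alt, Finset.powerset_univ]
    refine Finset.sum_congr rfl fun H _ => ?_
    rw [map_zsmul]
    congr 1
    change _ • W.mkQ ((1 : S) ⊗ₜ[R] _) = _
    rw [← map_smul, TensorProduct.smul_tmul', smul_eq_mul, mul_one]
  intro N _ _ _ _ D' hD'
  have hW : W ≤ LinearMap.ker (LinearMap.liftBaseChange S D') := by
    rw [Submodule.span_le]
    rintro _ ⟨⟨b, t⟩, rfl⟩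
    rw [SetLike.mem_coe, LinearMap.mem_ker, map_sum,
      ← Lib.DiffOp.Basic.alt_eq_zero hD' (s := (Finset.univ : Finset (Fin (k + 1)))) (by simp) b t]
    simp only [Lib.DiffOp.Basic.alt, Finset.powerset_univ]
    refine Finset.sum_congr rfl fun H _ => ?_
    rw [map_zsmul, LinearMap.liftBaseChange_tmul]
  refine ⟨W.liftQ _ hW, LinearMap.ext fun m => ?_, fun β hβ => ?_⟩
  · change LinearMap.liftBaseChange S D' ((1 : S) ⊗ₜ m) = D' m
    rw [LinearMap.liftBaseChange_tmul, one_smul]
  · refine Submodule.linearMap_qext _ (TensorProduct.AlgebraTensorModule.curry_injective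
      (LinearMap.ext_ring (LinearMap.ext fun m => ?_)))
    change β (D m) = LinearMap.liftBaseChange S D' ((1 : S) ⊗ₜ m)
    rw [LinearMap.liftBaseChange_tmul, one_smul]
    exact LinearMap.congr_fun hβ m

end Groth.Agent.S9185
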