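import Groth.Statements.S9195
import Groth.Agent.Lib.Lim.Basic
import Groth.Agent.S0402
import Groth.Agent.H2.FibreDimPullback
-- import your own Groth.Agent.* helpers here

set_option autoImplicit false
universe u
open CategoryTheory AlgebraicGeometry
open Lim

namespace Groth.Agent.S9195

set_option backward.isDefEq.respectTransparency false

/-- Let S = lim S_i be a cofiltered limit of schemes with affine transition morphisms, S_{i₀} a
quasi-compact quasi-separated stage, f₀ : X₀ → Y₀ a morphism of quasi-compact quasi-separated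
schemes over S_{i₀}, and f : X → Y its base change along S → S_{i₀} (base changes expressed by
pullback squares). Let d be a natural number. If f₀ is locally of finite type and f has relative
dimension at most d (every fibre of f has local dimension at most d at each of its points), then for
some index i over i₀ the base change f_i : X_i → Y_i of f₀ along S_i → S_{i₀} has relative dimension
at most d. -/
theorem result {I : Type u} [SmallCategory I] [IsCofiltered I]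
    (D : I ⥤ Scheme.{u}) (c : Limits.Cone D) (hc : Limits.IsLimit c)
    [∀ (i j : I) (f : i ⟶ j), IsAffineHom (D.map f)] (i₀ : I) [CompactSpace (D.obj i₀)]
    [QuasiSeparatedSpace (D.obj i₀)] {X₀ Y₀ : Scheme.{u}} (f₀ : X₀ ⟶ Y₀) (g₀ : Y₀ ⟶ D.obj i₀)
    [CompactSpace X₀] [QuasiSeparatedSpace X₀] [CompactSpace Y₀] [QuasiSeparatedSpace Y₀]
    [LocallyOfFiniteType f₀] (d : ℕ)
    {X Y : Scheme.{u}} (f : X ⟶ Y) (g : Y ⟶ c.pt) (qY : Y ⟶ Y₀) (qX : X ⟶ X₀)
    (hY : IsPullback qY g g₀ (c.π.app i₀)) (hX : IsPullback qX f f₀ qY) (hd : ∀ x : X, FlatMor.fibreDimAt f x ≤ d) :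
    ∃ (i : I) (φ : i ⟶ i₀) (Xi Yi : Scheme.{u}) (fi : Xi ⟶ Yi) (gi : Yi ⟶ D.obj i) (pY : Yi ⟶ Y₀)
      (pX : Xi ⟶ X₀), IsPullback pY gi g₀ (D.map φ) ∧ IsPullback pX fi f₀ pY ∧ ∀ x : Xi, FlatMor.fibreDimAt fi x ≤ d := by
  have hA : ∀ {i j : I} (g : i ⟶ j), IsAffineHom (D.map g) := fun g => inferInstance
  have hXS : IsPullback qX (f ≫ g) (f₀ ≫ g₀) (c.π.app i₀) := hX.paste_vert hY
  let O : X₀.Opens := ⟨{x | FlatMor.fibreDimAt f₀ x ≤ (d : WithBot ℕ∞)}, S0402.result f₀ d⟩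
  have : ∀ k, CompactSpace ((Lib.Lim.Basic.bcDiagram D (f₀ ≫ g₀)).obj k) :=
    fun k => Lib.Lim.Basic.compactSpace_bcDiagram D (f₀ ≫ g₀) k
  obtain ⟨k, ψ, hψ⟩ := exists_map_eq_top (Lib.Lim.Basic.bcDiagram D (f₀ ≫ g₀))
    (Lib.Lim.Basic.bcCone hXS.w) (Lib.Lim.Basic.isLimitBcCone hc hXS) (i := Over.mk (𝟙 i₀))
    (Limits.pullback.fst (f₀ ≫ g₀) (D.map (𝟙 i₀)) ⁻¹ᵁ O) (by
      refine eq_top_iff.mpr fun x _ => ?_
      show Limits.pullback.fst (f₀ ≫ g₀) (D.map (𝟙 i₀))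
        ((Lib.Lim.Basic.bcCone hXS.w).π.app (Over.mk (𝟙 i₀)) x) ∈ O
      have e : Limits.pullback.fst (f₀ ≫ g₀) (D.map (𝟙 i₀))
          ((Lib.Lim.Basic.bcCone hXS.w).π.app (Over.mk (𝟙 i₀)) x) = qX x :=
        congrArg (fun φ : X ⟶ X₀ => φ x) (Lib.Lim.Basic.bcCone_π_fst hXS.w (Over.mk (𝟙 i₀)))
      refine (congrArg (· ∈ O) e).mpr ?_
      show FlatMor.fibreDimAt f₀ (qX x) ≤ (d : WithBot ℕ∞)
      rw [← H2.FibreDimPullback.fibreDimAt_of_isPullback hX x]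
      exact hd x)
  let pY := Limits.pullback.fst g₀ (D.map k.hom)
  have hsq : IsPullback (Limits.pullback.fst f₀ pY) (Limits.pullback.snd f₀ pY ≫ Limits.pullback.snd g₀ (D.map k.hom))
      (f₀ ≫ g₀) (D.map k.hom) :=
    (IsPullback.of_hasPullback f₀ pY).paste_vert (IsPullback.of_hasPullback g₀ (D.map k.hom))
  refine ⟨k.left, k.hom, _, _, Limits.pullback.snd f₀ pY, Limits.pullback.snd g₀ (D.map k.hom), pY,
    Limits.pullback.fst f₀ pY, IsPullback.of_hasPullback _ _, IsPullback.of_hasPullback _ _,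
    fun x => ?_⟩
  rw [H2.FibreDimPullback.fibreDimAt_of_isPullback (IsPullback.of_hasPullback f₀ pY) x]
  have h : (Lib.Lim.Basic.bcDiagram D (f₀ ≫ g₀)).map ψ (hsq.isoPullback.hom x) ∈
      Limits.pullback.fst (f₀ ≫ g₀) (D.map (𝟙 i₀)) ⁻¹ᵁ O := hψ.ge (Set.mem_univ _)
  have he : hsq.isoPullback.hom ≫ (Lib.Lim.Basic.bcDiagram D (f₀ ≫ g₀)).map ψ ≫
      Limits.pullback.fst (f₀ ≫ g₀) (D.map (𝟙 i₀)) = Limits.pullback.fst f₀ pY := by
    rw [show (Lib.Lim.Basic.bcDiagram D (f₀ ≫ g₀)).map ψ ≫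
      Limits.pullback.fst (f₀ ≫ g₀) (D.map (𝟙 i₀)) = Limits.pullback.fst (f₀ ≫ g₀) (D.map k.hom)
      from Lib.Lim.Basic.bcDiagram_map_fst D (f₀ ≫ g₀) ψ]
    exact hsq.isoPullback_hom_fst
  rw [← he]
  exact h

end Groth.Agent.S9195
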