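import Groth.Statements.S9196
import Groth.Agent.H69.RelDimLocus
import Groth.Agent.Lib.Lim.Basic
import Groth.Agent.Lib.LimTop.Descend
-- import your own Groth.Agent.* helpers here

set_option autoImplicit false
universe u
open CategoryTheory AlgebraicGeometry
open Lim

namespace Groth.Agent.S9196
set_option backward.isDefEq.respectTransparency false
open Groth.Agent.Lib Groth.Agent.Lib.Lim Groth.Agent

/-- Let S = lim S_i be a cofiltered limit of schemes with affine transition morphisms, S_{i₀} a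
quasi-compact quasi-separated stage, f₀ : X₀ → Y₀ a morphism of quasi-compact quasi-separated
schemes over S_{i₀}, and f : X → Y its base change along S → S_{i₀} (base changes expressed by
pullback squares). Let d be a natural number. If f₀ is locally of finite presentation and f has
relative dimension d (every irreducible component of every fibre of f has dimension d), then for
some index i over i₀ the base change f_i : X_i → Y_i of f₀ along S_i → S_{i₀} has relative dimension
d. -/
theorem result {I : Type u} [SmallCategory I] [IsCofiltered I]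
    (D : I ⥤ Scheme.{u}) (c : Limits.Cone D) (hc : Limits.IsLimit c)
    [∀ (i j : I) (f : i ⟶ j), IsAffineHom (D.map f)] (i₀ : I) [CompactSpace (D.obj i₀)]
    [QuasiSeparatedSpace (D.obj i₀)] {X₀ Y₀ : Scheme.{u}} (f₀ : X₀ ⟶ Y₀) (g₀ : Y₀ ⟶ D.obj i₀)
    [CompactSpace X₀] [QuasiSeparatedSpace X₀] [CompactSpace Y₀] [QuasiSeparatedSpace Y₀]
    [LocallyOfFinitePresentation f₀] (d : ℕ)
    {X Y : Scheme.{u}} (f : X ⟶ Y) (g : Y ⟶ c.pt) (qY : Y ⟶ Y₀) (qX : X ⟶ X₀)
    (hY : IsPullback qY g g₀ (c.π.app i₀)) (hX : IsPullback qX f f₀ qY) (hd : Cyc.HasRelDim f d) :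
    ∃ (i : I) (φ : i ⟶ i₀) (Xi Yi : Scheme.{u}) (fi : Xi ⟶ Yi) (gi : Yi ⟶ D.obj i) (pY : Yi ⟶ Y₀)
      (pX : Xi ⟶ X₀), IsPullback pY gi g₀ (D.map φ) ∧ IsPullback pX fi f₀ pY ∧ Cyc.HasRelDim fi d := by
  classical
  have : ∀ {i j : I} (g : i ⟶ j), IsAffineHom (D.map g) := fun g => inferInstance
  have hp : IsPullback qX (f ≫ g) (f₀ ≫ g₀) (c.π.app i₀) := hX.paste_vert hY
  let E := Basic.bcDiagram D (f₀ ≫ g₀)
  let cE := Basic.bcCone hp.w
  have hcE : Limits.IsLimit cE := Basic.isLimitBcCone hc hp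
  have := fun j => Basic.compactSpace_bcDiagram D (f₀ ≫ g₀) j
  have : ∀ (i j : Over i₀) (a : i ⟶ j), IsAffineHom (E.map a) := fun i j a => inferInstance
  let o : Over i₀ := Over.mk (𝟙 i₀)
  let p : E.obj o ⟶ X₀ := Limits.pullback.fst _ _
  let Le : ℕ → Set X₀ := fun n => {x | FlatMor.fibreDimAt f₀ x ≤ (n : WithBot ℕ∞)}
  let Ge : ℕ → Set X₀ := fun n => {x | (n : WithBot ℕ∞) ≤ FlatMor.fibreDimAt f₀ x}
  let B : Set X₀ := Le d ∩ Ge d
  have hGe : ∀ n, LimTop.PC.IsPC (Ge n) ∧ LimTop.PC.IsPC (Ge n)ᶜ := fun n => by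
    refine ⟨LimTop.PC.IsPC.of_isClosed (FibreDim.Global.isClosed_setOf_le_fibreDimAt f₀ n), ?_⟩
    cases n with
    | zero =>
      have : (Ge 0)ᶜ = ∅ := by
        ext x
        obtain ⟨e, he⟩ := FibreDim.Chart.exists_fibreDimAt_eq f₀ x
        simp [Ge, he]
      rw [this]
      exact LimTop.PC.IsPC.empty
    | succ m =>
      have : (Ge (m + 1))ᶜ = Le m := by
        ext x
        obtain ⟨e, he⟩ := FibreDim.Chart.exists_fibreDimAt_eq f₀ x
        simp only [Ge, Le, Set.mem_compl_iff, Set.mem_ofPred_eq, he]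
        norm_cast
        omega
      rw [this]
      exact LimTop.PC.IsPC.of_isLocallyConstructible
        (H69.RelDimLocus.isLocallyConstructible_setOf_fibreDimAt_le f₀ m)
  have hB : LimTop.PC.IsPC Bᶜ := by
    rw [Set.compl_inter]
    exact (LimTop.PC.IsPC.compl_of_isLocallyConstructible
      (H69.RelDimLocus.isLocallyConstructible_setOf_fibreDimAt_le f₀ d)).union (hGe d).2
  have hcov : (⇑(cE.π.app o) ⁻¹' ((⊤ : (E.obj o).Opens) : Set (E.obj o))) ⊆
      ⇑(cE.π.app o) ⁻¹' (⇑p ⁻¹' B) := by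
    intro x _
    have e : p (cE.π.app o x) = qX x := by
      rw [← Scheme.Hom.comp_apply, Basic.bcCone_π_fst hp.w o]
      rfl
    have h1 : FlatMor.fibreDimAt f₀ (qX x) = d := by
      have : LocallyOfFiniteType f :=
        MorphismProperty.of_isPullback (P := @LocallyOfFiniteType) hX inferInstance
      rw [← H2.FibreDimPullback.fibreDimAt_of_isPullback hX x]
      exact H69.RelDimLocus.localDim_eq_of_hasRelDim f hd x
    show p (cE.π.app o x) ∈ B
    rw [e]
    exact ⟨h1.le, h1.ge⟩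
  obtain ⟨j, a, ha⟩ := LimTop.Descend.exists_map_preimage_open_subset hcE (i := o) ⊤
    (CompactSpace.isCompact_univ) (B := ⇑p ⁻¹' B) (hB.preimage p) hcov
  let pY := Limits.pullback.fst g₀ (D.map j.hom)
  let fi := Limits.pullback.snd f₀ pY
  refine ⟨j.left, j.hom, Limits.pullback f₀ pY, Limits.pullback g₀ (D.map j.hom), fi,
    Limits.pullback.snd _ _, pY, Limits.pullback.fst _ _, IsPullback.of_hasPullback _ _,
    IsPullback.of_hasPullback _ _, ?_⟩
  have : LocallyOfFiniteType fi := MorphismProperty.pullback_snd _ _ inferInstance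
  refine H69.RelDimLocus.hasRelDim_of_forall fi fun x => ?_
  rw [H2.FibreDimPullback.fibreDimAt_of_isPullback (IsPullback.of_hasPullback f₀ pY) x]
  let m : Limits.pullback f₀ pY ⟶ E.obj j :=
    Limits.pullback.lift (Limits.pullback.fst _ _) (fi ≫ Limits.pullback.snd _ _) (by
      rw [Category.assoc fi, ← Limits.pullback.condition]
      exact Limits.pullback.condition_assoc g₀)
  have hx : p (E.map a (m x)) ∈ B := ha (show E.map a (m x) ∈ (⊤ : (E.obj o).Opens) from trivial)
  rw [← Scheme.Hom.comp_apply, ← Scheme.Hom.comp_apply,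
    show E.map a ≫ p = Limits.pullback.fst _ _ from Basic.bcDiagram_map_fst D (f₀ ≫ g₀) a] at hx
  rw [show m ≫ Limits.pullback.fst (f₀ ≫ g₀) (D.map j.hom) = Limits.pullback.fst f₀ pY from
    Limits.pullback.lift_fst _ _ _] at hx
  exact le_antisymm hx.1 hx.2

end Groth.Agent.S9196
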