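import Groth.Statements.S9198
import Groth.Agent.H69.SyntomicStage
-- import your own Groth.Agent.* helpers here

set_option autoImplicit false
universe u
open CategoryTheory AlgebraicGeometry
open Lim

namespace Groth.Agent.S9198
open CategoryTheory
set_option backward.isDefEq.respectTransparency false

/-- Let S = lim S_i be a cofiltered limit of schemes with affine transition morphisms, S_{i₀} a
quasi-compact quasi-separated stage, f₀ : X₀ → Y₀ a morphism of quasi-compact quasi-separated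
schemes over S_{i₀}, and f : X → Y its base change along S → S_{i₀} (base changes expressed by
pullback squares). If f₀ is locally of finite presentation and f is syntomic (flat, locally of
finite presentation, with local complete intersection fibres, tested on affine opens around each
point), then for some index i over i₀ the base change f_i : X_i → Y_i of f₀ along S_i → S_{i₀} is
syntomic. -/
theorem result {I : Type u} [SmallCategory I] [IsCofiltered I]
    (D : I ⥤ Scheme.{u}) (c : Limits.Cone D) (hc : Limits.IsLimit c)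
    [∀ (i j : I) (f : i ⟶ j), IsAffineHom (D.map f)] (i₀ : I) [CompactSpace (D.obj i₀)]
    [QuasiSeparatedSpace (D.obj i₀)] {X₀ Y₀ : Scheme.{u}} (f₀ : X₀ ⟶ Y₀) (g₀ : Y₀ ⟶ D.obj i₀)
    [CompactSpace X₀] [QuasiSeparatedSpace X₀] [CompactSpace Y₀] [QuasiSeparatedSpace Y₀]
    [LocallyOfFinitePresentation f₀]
    {X Y : Scheme.{u}} (f : X ⟶ Y) (g : Y ⟶ c.pt) (qY : Y ⟶ Y₀) (qX : X ⟶ X₀)
    (hY : IsPullback qY g g₀ (c.π.app i₀)) (hX : IsPullback qX f f₀ qY) (hf : Synt.IsSyntomicMor f) :
    ∃ (i : I) (φ : i ⟶ i₀) (Xi Yi : Scheme.{u}) (fi : Xi ⟶ Yi) (gi : Yi ⟶ D.obj i) (pY : Yi ⟶ Y₀)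
      (pX : Xi ⟶ X₀), IsPullback pY gi g₀ (D.map φ) ∧ IsPullback pX fi f₀ pY ∧ Synt.IsSyntomicMor fi := by
  obtain ⟨i, φ, Xi, Yi, fi, gi, pY, pX, h1, h2, h3⟩ := Groth.Agent.Lib.Lim.Descend.descend_over
    Groth.Agent.H69.SyntomicStage.ci_descends D c hc i₀ f₀ g₀ f g qY qX hY hX inferInstance
    ((Groth.Agent.Lib.Synt92.MorCrit.isSyntomicMor_iff f).1 hf)
  exact ⟨i, φ, Xi, Yi, fi, gi, pY, pX, h1, h2, (Groth.Agent.Lib.Synt92.MorCrit.isSyntomicMor_iff fi).2 h3⟩


end Groth.Agent.S9198
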