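import Groth.Statements.S9202
import Groth.Agent.Lib.Lim.Valuative
-- import your own Groth.Agent.* helpers here

set_option autoImplicit false
universe u
open CategoryTheory AlgebraicGeometry
open Lim

namespace Groth.Agent.S9202

/-- Let S be a scheme and X = lim X_i a cofiltered limit of S-schemes X_i (a diagram with a compatible
family of structure maps to S) with affine transition morphisms, every X_i quasi-compact and
quasi-separated; the structure map X → S is the composite X → X_{i₀} → S for any index i₀. Let h : Y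
→ X be a proper morphism such that the composite Y → X → S is locally of finite type. Then Y → X_i
is proper for all i beyond some index i₁. -/
theorem result {I : Type u} [SmallCategory I] [IsCofiltered I] (S : Scheme.{u})
    (D : I ⥤ Scheme.{u}) (t : D ⟶ (Functor.const I).obj S) (c : Limits.Cone D) (hc : Limits.IsLimit c)
    [∀ (i j : I) (a : i ⟶ j), IsAffineHom (D.map a)]
    [∀ i, CompactSpace (D.obj i)] [∀ i, QuasiSeparatedSpace (D.obj i)] (i₀ : I)
    {Y : Scheme.{u}} (h : Y ⟶ c.pt) [IsProper h] [LocallyOfFiniteType (h ≫ c.π.app i₀ ≫ t.app i₀)] :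
    ∃ i₁ : I, ∀ (i : I) (_ : i ⟶ i₁), IsProper (h ≫ c.π.app i) := by
  have : ∀ i, IsAffineHom (c.π.app i) := Groth.Agent.Lib.Lim.Basic.isAffineHom_π hc
  have hlft : LocallyOfFiniteType (h ≫ c.π.app i₀) := by
    have : LocallyOfFiniteType ((h ≫ c.π.app i₀) ≫ t.app i₀) := by
      rw [Category.assoc]; infer_instance
    exact locallyOfFiniteType_of_comp _ (t.app i₀)
  obtain ⟨i₁, hu⟩ := Groth.Agent.Lib.Lim.Valuative.exists_universallyClosed hc h i₀
  obtain ⟨m, a₁, a₂, -⟩ := IsCofilteredOrEmpty.cone_objs i₁ i₀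
  refine ⟨m, fun i a => ?_⟩
  have e₁ : (h ≫ c.π.app i) ≫ D.map (a ≫ a₁) = h ≫ c.π.app i₁ := by
    rw [Category.assoc, c.w]
  have e₂ : (h ≫ c.π.app i) ≫ D.map (a ≫ a₂) = h ≫ c.π.app i₀ := by
    rw [Category.assoc, c.w]
  have : UniversallyClosed ((h ≫ c.π.app i) ≫ D.map (a ≫ a₁)) := by rw [e₁]; exact hu
  have : LocallyOfFiniteType ((h ≫ c.π.app i) ≫ D.map (a ≫ a₂)) := by rw [e₂]; exact hlft
  have : UniversallyClosed (h ≫ c.π.app i) :=
    MorphismProperty.of_postcomp (W := @UniversallyClosed) (W' := @IsSeparated)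
      _ (D.map (a ≫ a₁)) inferInstance ‹_›
  have : LocallyOfFiniteType (h ≫ c.π.app i) := locallyOfFiniteType_of_comp _ (D.map (a ≫ a₂))
  exact { }

end Groth.Agent.S9202
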