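import Groth.Statements.S9206
import Groth.Agent.Lib.Lim.ResField
-- import your own Groth.Agent.* helpers here

set_option autoImplicit false
universe u
open CategoryTheory AlgebraicGeometry
open Lim

namespace Groth.Agent.S9206

/-- Let S = lim S_i be a cofiltered limit of schemes with affine transition morphisms and let s be a
point of S with images s_i in S_i. Then the residue field κ(s) is the colimit of the residue fields
κ(s_i): every element of κ(s) is the image of an element of κ(s_i) for some i under the map of
residue fields induced by S → S_i (the maps κ(s_i) → κ(s) being injective, this says that the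
canonical map from the colimit is an isomorphism). -/
theorem result {I : Type u} [SmallCategory I] [IsCofiltered I]
    (D : I ⥤ Scheme.{u}) (c : Limits.Cone D) (hc : Limits.IsLimit c)
    [∀ (i j : I) (f : i ⟶ j), IsAffineHom (D.map f)] (s : c.pt) (a : c.pt.residueField s) :
    ∃ (i : I) (b : (D.obj i).residueField ((c.π.app i).base s)), ((c.π.app i).residueFieldMap s).hom b = a := by
  have : ∀ {i j : I} (f : i ⟶ j), IsAffineHom (D.map f) := fun f => inferInstance
  exact Groth.Agent.Lib.Lim.ResField.exists_residueFieldMap_eq D c hc s a

end Groth.Agent.S9206
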