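import Groth.Statements.S9209
import Groth.Agent.Lib.DvrCrit.Abstract
-- import your own Groth.Agent.* helpers here

set_option autoImplicit false
universe u
open CategoryTheory CategoryTheory.Limits AlgebraicGeometry
open Lim

namespace Groth.Agent.S9209
set_option backward.isDefEq.respectTransparency false

/-- Let S be a locally Noetherian scheme, f : X → S a separated morphism of finite type and h : U → X a
morphism of finite type whose image is dense in X. Suppose that for every discrete valuation ring A
with fraction field K and every commutative square formed by a morphism Spec K → U → X and a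
morphism Spec A → S, there is a morphism Spec A → X making the resulting diagram commute. Then f is
proper. -/
theorem result {X S U : Scheme.{u}} [IsLocallyNoetherian S] (f : X ⟶ S)
    [IsSeparated f] [LocallyOfFiniteType f] [QuasiCompact f] (h : U ⟶ X) [LocallyOfFiniteType h] [QuasiCompact h]
    (hd : DenseRange h.base)
    (H : ∀ (A : Type u) [CommRing A] [IsDomain A] [IsDiscreteValuationRing A]
      (u : Spec (CommRingCat.of (FractionRing A)) ⟶ U) (y : Spec (CommRingCat.of A) ⟶ S),
      u ≫ h ≫ f = Spec.map (CommRingCat.ofHom (algebraMap A (FractionRing A))) ≫ y →
        ∃ l : Spec (CommRingCat.of A) ⟶ X, l ≫ f = y ∧ Spec.map (CommRingCat.ofHom (algebraMap A (FractionRing A))) ≫ l = u ≫ h) :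
    IsProper f := by
  have huc : UniversallyClosed f :=
    Lib.DvrCrit.universallyClosed_of_dvr_of_generizations f h (fun _ => True)
      (fun x => by
        obtain ⟨z, hz⟩ := Lib.FinCond.exists_specializes_of_mem_closure_range h (y := x)
          (by rw [hd.closure_range]; trivial)
        exact ⟨z, trivial, hz⟩)
      fun z _ W hW φ w => by
        haveI := hW
        exact Lib.DvrCrit.exists_lift_of_abstract W f (U.fromSpecResidueField z) h φ w
          (fun u hu => H W u φ hu)
  exact { }

end Groth.Agent.S9209
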