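import Groth.Statements.S9210
import Groth.Agent.Lib.DvrCrit.Abstract
-- import your own Groth.Agent.* helpers here

set_option autoImplicit false
universe u
open CategoryTheory CategoryTheory.Limits AlgebraicGeometry
open Lim

namespace Groth.Agent.S9210
set_option backward.isDefEq.respectTransparency false

/-- Let S be a locally Noetherian scheme, f : X → S a morphism locally of finite type and h : U → X a
morphism of finite type whose image is dense in X. Suppose that for every discrete valuation ring A
with fraction field K and every commutative square formed by a morphism Spec K → U → X and a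
morphism Spec A → S, there is at most one morphism Spec A → X making the resulting diagram commute.
Then f is separated. -/
theorem result {X S U : Scheme.{u}} [IsLocallyNoetherian S] (f : X ⟶ S)
    [LocallyOfFiniteType f] (h : U ⟶ X) [LocallyOfFiniteType h] [QuasiCompact h] (hd : DenseRange h.base)
    (H : ∀ (A : Type u) [CommRing A] [IsDomain A] [IsDiscreteValuationRing A]
      (u : Spec (CommRingCat.of (FractionRing A)) ⟶ U) (y : Spec (CommRingCat.of A) ⟶ S),
      u ≫ h ≫ f = Spec.map (CommRingCat.ofHom (algebraMap A (FractionRing A))) ≫ y →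
        ∀ l₁ l₂ : Spec (CommRingCat.of A) ⟶ X, l₁ ≫ f = y → Spec.map (CommRingCat.ofHom (algebraMap A (FractionRing A))) ≫ l₁ = u ≫ h →
          l₂ ≫ f = y → Spec.map (CommRingCat.ofHom (algebraMap A (FractionRing A))) ≫ l₂ = u ≫ h → l₁ = l₂) :
    IsSeparated f := by
  refine Lib.DvrCrit.isSeparated_of_dvr f h (fun _ => True)
    (fun x => by
      obtain ⟨z, hz⟩ := Lib.FinCond.exists_specializes_of_mem_closure_range h (y := x)
        (by rw [hd.closure_range]; trivial)
      exact ⟨z, trivial, hz⟩)
    fun z _ W hW l₁ l₂ h₁ h₂ e => ?_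
  haveI := hW
  have e₁ := Lib.DvrCrit.fracOut_comp W _ l₁ h₁
  have e₂ := Lib.DvrCrit.fracOut_comp W _ l₂ h₂
  rw [← Category.assoc] at e₁ e₂
  exact H W _ (l₁ ≫ f) (by rw [← Category.assoc, ← e₁, Category.assoc]) l₁ l₂ rfl e₁ e.symm e₂

end Groth.Agent.S9210
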