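import Groth.Statements.S9211
import Groth.Agent.Lib.DvrCrit.Abstract
-- import your own Groth.Agent.* helpers here

set_option autoImplicit false
universe u
open CategoryTheory CategoryTheory.Limits AlgebraicGeometry
open Lim

namespace Groth.Agent.S9211
set_option backward.isDefEq.respectTransparency false

/-- Let S be a locally Noetherian scheme and f : X → S a morphism locally of finite type. Then f is
separated if and only if the following uniqueness holds: for every generic point η of an irreducible
component of X, every discrete valuation ring A contained in the residue field κ(η) with fraction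
field κ(η) (a valuation subring of κ(η) which is a discrete valuation ring), and every pair of
morphisms Spec A → X with the same composite to S and both restricting on Spec κ(η) to the canonical
morphism Spec κ(η) → X, the two morphisms coincide. -/
theorem result {X S : Scheme.{u}} [IsLocallyNoetherian S] (f : X ⟶ S)
    [LocallyOfFiniteType f] :
    IsSeparated f ↔ ∀ (η : X), closure {η} ∈ irreducibleComponents (X : Type u) →
      ∀ (A : ValuationSubring (X.residueField η)), IsDiscreteValuationRing A →
        ∀ l₁ l₂ : Spec (CommRingCat.of A) ⟶ X, l₁ ≫ f = l₂ ≫ f →
          Spec.map (CommRingCat.ofHom A.subtype) ≫ l₁ = X.fromSpecResidueField η →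
          Spec.map (CommRingCat.ofHom A.subtype) ≫ l₂ = X.fromSpecResidueField η → l₁ = l₂ := by
  constructor
  · intro hs η _ A _ l₁ l₂ e e₁ e₂
    exact Lib.DvrCrit.uniqueness_apply (K := X.residueField η)
      (Lib.DvrCrit.uniqueness_of_isSeparated f) l₁ l₂ e (e₁.trans e₂.symm)
  · intro H
    refine Lib.DvrCrit.isSeparated_of_dvr f (𝟙 X) (fun η => closure {η} ∈ irreducibleComponents (X : Type u))
      (fun x => by
        obtain ⟨η, h1, h2⟩ := Lib.FinCond.exists_maximal_specializes X x
        exact ⟨η, h2, h1⟩)
      fun z hz W hW l₁ l₂ h₁ h₂ e => ?_
    exact H z hz W hW l₁ l₂ e (h₁.trans (Category.comp_id _)) (h₂.trans (Category.comp_id _))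

end Groth.Agent.S9211
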