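import Groth.Statements.S9212
import Groth.Agent.Lib.DvrCrit.Abstract
-- import your own Groth.Agent.* helpers here

set_option autoImplicit false
universe u
open CategoryTheory CategoryTheory.Limits AlgebraicGeometry
open Lim

namespace Groth.Agent.S9212
set_option backward.isDefEq.respectTransparency false

/-- Let S be a locally Noetherian scheme and f : X → S a morphism of finite type. Then f is proper if
and only if: for every generic point η of an irreducible component of X, every discrete valuation
ring A contained in the residue field κ(η) with fraction field κ(η) (a valuation subring of κ(η)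
which is a discrete valuation ring), and every morphism Spec A → S whose restriction to Spec κ(η) is
the canonical morphism Spec κ(η) → X followed by f, there is exactly one morphism Spec A → X over S
restricting to the canonical morphism on Spec κ(η). -/
theorem result {X S : Scheme.{u}} [IsLocallyNoetherian S] (f : X ⟶ S)
    [LocallyOfFiniteType f] [QuasiCompact f] :
    IsProper f ↔ ∀ (η : X), closure {η} ∈ irreducibleComponents (X : Type u) →
      ∀ (A : ValuationSubring (X.residueField η)), IsDiscreteValuationRing A →
        ∀ y : Spec (CommRingCat.of A) ⟶ S,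
          Spec.map (CommRingCat.ofHom A.subtype) ≫ y = X.fromSpecResidueField η ≫ f →
          ∃! l : Spec (CommRingCat.of A) ⟶ X,
            l ≫ f = y ∧ Spec.map (CommRingCat.ofHom A.subtype) ≫ l = X.fromSpecResidueField η := by
  constructor
  · intro hp η _ A _ y w
    obtain ⟨l, h1, h2⟩ := Lib.DvrCrit.existence_apply (K := X.residueField η)
      (Lib.DvrCrit.existence_of_universallyClosed f) (X.fromSpecResidueField η) y w.symm
    exact ⟨l, ⟨h1, h2⟩, fun l' hl' => Lib.DvrCrit.uniqueness_apply (K := X.residueField η)
      (Lib.DvrCrit.uniqueness_of_isSeparated f) l' l (hl'.1.trans h1.symm) (hl'.2.trans h2.symm)⟩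
  · intro H
    have hG : ∀ x : X, ∃ z, closure {z} ∈ irreducibleComponents (X : Type u) ∧ (𝟙 X : X ⟶ X) z ⤳ x :=
      fun x => by
        obtain ⟨η, h1, h2⟩ := Lib.FinCond.exists_maximal_specializes X x
        exact ⟨η, h2, h1⟩
    have hsep : IsSeparated f := by
      refine Lib.DvrCrit.isSeparated_of_dvr f (𝟙 X) _ hG fun z hz W hW l₁ l₂ h₁ h₂ e => ?_
      rw [Category.comp_id] at h₁ h₂
      exact (H z hz W hW (l₁ ≫ f) (by rw [← h₁, Category.assoc])).unique ⟨rfl, h₁⟩ ⟨e.symm, h₂⟩
    have huc : UniversallyClosed f := by
      refine Lib.DvrCrit.universallyClosed_of_dvr_of_generizations f (𝟙 X) _ hG fun z hz W hW φ w => ?_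
      obtain ⟨l, hl, -⟩ := H z hz W hW φ (by simpa using w)
      exact ⟨l, by simpa using hl.2, hl.1⟩
    exact { }

end Groth.Agent.S9212
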