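import Groth.Statements.S9214
import Groth.Agent.Lib.Lim.Approx.Rel
import Groth.Agent.Lib.Lim.FPDescend
-- import your own Groth.Agent.* helpers here

set_option autoImplicit false
universe u
open CategoryTheory CategoryTheory.Limits AlgebraicGeometry
open Lim

namespace Groth.Agent.S9214

set_option backward.isDefEq.respectTransparency false

/-- Let S = lim S_i be a cofiltered limit of Noetherian schemes with affine transition morphisms, and
suppose X → S is of finite type and quasi-separated. One can then find an index i, a finite type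
morphism W → S_i and a morphism X → W over S_i (compatible with X → S → S_i) for which the resulting
map X → S ×_{S_i} W into the fibre product is a closed immersion. -/
theorem result {I : Type u} [SmallCategory I] [IsCofiltered I]
    (D : I ⥤ Scheme.{u}) (c : Limits.Cone D) (hc : Limits.IsLimit c)
    [∀ (i j : I) (f : i ⟶ j), IsAffineHom (D.map f)] [∀ i, IsNoetherian (D.obj i)]
    {X : Scheme.{u}} (a : X ⟶ c.pt) [QuasiSeparated a] [QuasiCompact a] [LocallyOfFiniteType a] :
    ∃ (i : I) (W : Scheme.{u}) (w : W ⟶ D.obj i) (b : X ⟶ W) (hb : a ≫ c.π.app i = b ≫ w),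
      LocallyOfFiniteType w ∧ QuasiCompact w ∧ IsClosedImmersion (pullback.lift a b hb) := by
  have hA : ∀ {i j : I} (g : i ⟶ j), IsAffineHom (D.map g) := fun g => inferInstance
  obtain ⟨i₀⟩ := IsCofiltered.nonempty (C := I)
  have : IsAffineHom (c.π.app i₀) := Lib.Lim.Basic.isAffineHom_π hc i₀
  have : CompactSpace c.pt := QuasiCompact.compactSpace_of_compactSpace (c.π.app i₀)
  have : QuasiSeparatedSpace c.pt := quasiSeparatedSpace_of_quasiSeparated (c.π.app i₀)
  have : CompactSpace X := QuasiCompact.compactSpace_of_compactSpace a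
  have : QuasiSeparatedSpace X := quasiSeparatedSpace_of_quasiSeparated a
  obtain ⟨R⟩ := Lib.Lim.Approx.Rel.exists_relApprox a
  obtain ⟨k, hk⟩ := Lib.Lim.Approx.Rel.exists_closedImmersion a R
  have := R.compact k
  have := R.quasiSep k
  have : LocallyOfFinitePresentation (R.t.app k) := R.lfp k
  obtain ⟨i, Xi, fi, g, hcXi, hqXi, hfi, hg⟩ := Lib.Lim.FPDescend.exists_descent hc (R.t.app k)
  have hb : a ≫ c.π.app i = (R.π.app k ≫ g) ≫ fi := by
    rw [Category.assoc, hg.w]
    exact ((congrArg (· ≫ c.π.app i) (R.w k)).symm.trans (Category.assoc _ _ _))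
  refine ⟨i, Xi, fi, R.π.app k ≫ g, hb, inferInstance, inferInstance, ?_⟩
  have h2 : pullback.lift a (R.π.app k ≫ g) hb = R.π.app k ≫ hg.flip.isoPullback.hom := by
    apply pullback.hom_ext
    · rw [pullback.lift_fst]
      exact (R.w k).symm.trans ((congrArg (R.π.app k ≫ ·) hg.flip.isoPullback_hom_fst.symm).trans
        (Category.assoc _ _ _).symm)
    · rw [pullback.lift_snd]
      exact ((congrArg (R.π.app k ≫ ·) hg.flip.isoPullback_hom_snd.symm).trans
        (Category.assoc _ _ _).symm)
  rw [h2]
  infer_instance

end Groth.Agent.S9214
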