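import Groth.Statements.S9215
import Groth.Agent.H69.FibreDimLimit
-- import your own Groth.Agent.* helpers here

set_option autoImplicit false
universe u
open CategoryTheory CategoryTheory.Limits AlgebraicGeometry
open Lim

namespace Groth.Agent.S9215
set_option backward.isDefEq.respectTransparency false
open Groth.Agent.Lib Groth.Agent

/-- Consider a system of scheme morphisms (f_i : X_i → S_i) indexed by a cofiltered category: two
diagrams X_•, S_• with a natural transformation between them, such that all transition morphisms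
S_{i'} → S_i are affine, all S_i are quasi-compact and quasi-separated, all f_i are of finite type,
and for every arrow i' → i the induced morphism X_{i'} → X_i ×_{S_i} S_{i'} is a closed immersion.
Let X = lim X_i and S = lim S_i (limit cones) and f : X → S the induced morphism. Let d be a natural
number. Suppose each fibre of f is of dimension at most d; then there is an index i for which all
fibres of f_i are of dimension at most d. -/
theorem result {I : Type u} [SmallCategory I] [IsCofiltered I]
    (DX DS : I ⥤ Scheme.{u}) (φ : DX ⟶ DS) (cX : Limits.Cone DX) (cS : Limits.Cone DS)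
    (hX : Limits.IsLimit cX) (hS : Limits.IsLimit cS)
    [∀ (i j : I) (a : i ⟶ j), IsAffineHom (DS.map a)] [∀ i, CompactSpace (DS.obj i)]
    [∀ i, QuasiSeparatedSpace (DS.obj i)] [∀ i, LocallyOfFiniteType (φ.app i)] [∀ i, QuasiCompact (φ.app i)]
    (hcl : ∀ (i j : I) (a : i ⟶ j), IsClosedImmersion (pullback.lift (DX.map a) (φ.app i) (φ.naturality a)))
    (f : cX.pt ⟶ cS.pt) (hf : ∀ i, f ≫ cS.π.app i = cX.π.app i ≫ φ.app i) (d : ℕ)
    (hd : ∀ s : cS.pt, topologicalKrullDim ↥(f.fiber s) ≤ d) :
    ∃ i : I, ∀ s : DS.obj i, topologicalKrullDim ↥((φ.app i).fiber s) ≤ d := by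
  classical
  by_contra hne
  push Not at hne
  choose sb hsb using hne
  let Z : ∀ i, Set (DX.obj i) := fun i =>
    {x | ((d + 1 : ℕ) : WithBot ℕ∞) ≤ FlatMor.fibreDimAt (φ.app i) x}
  have hne' : ∀ i, (Z i).Nonempty := fun i => by
    by_contra hc
    rw [Set.not_nonempty_iff_eq_empty, Set.eq_empty_iff_forall_notMem] at hc
    refine (hsb i).not_ge (FibreDim.Basic.topologicalKrullDim_fiber_le _ fun x _ => ?_)
    obtain ⟨e, he⟩ := FibreDim.Chart.exists_fibreDimAt_eq (φ.app i) x
    have hx : ¬ ((d + 1 : ℕ) : WithBot ℕ∞) ≤ FlatMor.fibreDimAt (φ.app i) x := hc x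
    rw [he] at hx ⊢
    norm_cast at hx ⊢
    omega
  have : ∀ i, CompactSpace (DX.obj i) := fun i =>
    QuasiCompact.compactSpace_of_compactSpace (φ.app i)
  have : ∀ {i j : I} (a : i ⟶ j), IsAffineHom (DX.map a) := fun {i j} a => by
    have := hcl i j a
    rw [← pullback.lift_fst (f := φ.app j) (g := DS.map a) (DX.map a) (φ.app i) (φ.naturality a)]
    have : IsAffineHom (pullback.fst (φ.app j) (DS.map a)) :=
      MorphismProperty.pullback_fst (P := @IsAffineHom) _ _ inferInstance
    infer_instance
  have hZc : ∀ i, IsClosed (Z i) := fun i =>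
    FibreDim.Global.isClosed_setOf_le_fibreDimAt (φ.app i) (d + 1)
  obtain ⟨x, hx⟩ := exists_mem_of_isClosed_of_nonempty DX cX hX Z hZc hne'
    (fun i => (hZc i).isCompact)
    (fun a x hx => le_trans hx (H69.FibreDimLimit.fibreDimAt_le_map φ hcl a x))
  obtain ⟨k, hk⟩ := H69.FibreDimLimit.exists_stage_le_fiber φ hX hS hcl f hf (f x)
  obtain ⟨z, hz, -⟩ := Scheme.Pullback.exists_preimage_pullback
    (f := φ.app k) (g := cS.pt.fromSpecResidueField (f x) ≫ cS.π.app k)
    (cX.π.app k x) (IsLocalRing.closedPoint _) (by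
      rw [Scheme.Hom.comp_apply, Scheme.fromSpecResidueField_apply, ← Scheme.Hom.comp_apply,
        ← Scheme.Hom.comp_apply, hf]
      rfl)
  let P := pullback (φ.app k) (cS.pt.fromSpecResidueField (f x) ≫ cS.π.app k)
  let p : P ⟶ Spec (cS.pt.residueField (f x)) := pullback.snd _ _
  have h1 : ((d + 1 : ℕ) : WithBot ℕ∞) ≤ FlatMor.fibreDimAt p z := by
    rw [H2.FibreDimPullback.fibreDimAt_of_isPullback (IsPullback.of_hasPullback (φ.app k)
      (cS.pt.fromSpecResidueField (f x) ≫ cS.π.app k)) z, hz]
    exact hx k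
  have h2 := ((h1.trans (FibreDim.Basic.fibreDimAt_le_topologicalKrullDim p rfl)).trans
    ((p.fiberι (p z)).isEmbedding.isInducing.topologicalKrullDim_le)).trans (hk.trans (hd (f x)))
  norm_cast at h2
  omega

end Groth.Agent.S9215
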