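import Groth.Statements.S9216
import Groth.Agent.S9215
import Groth.Agent.Lib.Lim.IdealFP
import Groth.Agent.Lib.FibreDim.Basic
-- import your own Groth.Agent.* helpers here

set_option autoImplicit false
universe u
open CategoryTheory CategoryTheory.Limits AlgebraicGeometry
open Lim

namespace Groth.Agent.S9216
set_option backward.isDefEq.respectTransparency false
open Groth.Agent.Lib Groth.Agent.Lib.Lim Opposite

/-- Let S be a quasi-compact quasi-separated scheme, f : X → S a morphism of finite presentation and d a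
natural number. Let Z be a closed subscheme of X such that every fibre of Z → S has dimension at
most d. Then there is a closed subscheme Z' of X containing Z such that Z' → X is of finite
presentation and every fibre of Z' → S has dimension at most d. -/
theorem result {X S Z : Scheme.{u}} [CompactSpace S]
    [QuasiSeparatedSpace S] (f : X ⟶ S) [LocallyOfFinitePresentation f] [QuasiCompact f] [QuasiSeparated f]
    (d : ℕ) (ι : Z ⟶ X) [IsClosedImmersion ι] (hZ : ∀ s : S, topologicalKrullDim ↥((ι ≫ f).fiber s) ≤ d) :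
    ∃ (Z' : Scheme.{u}) (ι' : Z' ⟶ X) (k : Z ⟶ Z'), IsClosedImmersion ι' ∧ LocallyOfFinitePresentation ι' ∧
      k ≫ ι' = ι ∧ ∀ s : S, topologicalKrullDim ↥((ι' ≫ f).fiber s) ≤ d := by
  classical
  have : CompactSpace X := QuasiCompact.compactSpace_of_compactSpace f
  have : QuasiSeparatedSpace X := quasiSeparatedSpace_of_quasiSeparated f
  let K := ι.ker
  have : IsCofiltered (IdealExt.FGSub K)ᵒᵖ :=
    have : IsFiltered (IdealExt.FGSub K) := isFiltered_of_directed_le_nonempty _
    inferInstance
  have : IsConnected (IdealExt.FGSub K)ᵒᵖ := IsCofiltered.isConnected _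
  let φ : IdealExt.subDiagram K ⟶ (Functor.const _).obj S :=
    IdealExt.subDiagramι K ≫ (Functor.const _).map f
  have : ∀ J, LocallyOfFiniteType (φ.app J) := fun J =>
    inferInstanceAs (LocallyOfFiniteType (J.unop.1.subschemeι ≫ f))
  have : ∀ J, QuasiCompact (φ.app J) := fun J =>
    inferInstanceAs (QuasiCompact (J.unop.1.subschemeι ≫ f))
  have : ∀ J : (IdealExt.FGSub K)ᵒᵖ, CompactSpace (((Functor.const _).obj S).obj J) :=
    fun J => inferInstanceAs (CompactSpace S)
  have : ∀ J : (IdealExt.FGSub K)ᵒᵖ, QuasiSeparatedSpace (((Functor.const _).obj S).obj J) :=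
    fun J => inferInstanceAs (QuasiSeparatedSpace S)
  have : ∀ (i j : (IdealExt.FGSub K)ᵒᵖ) (a : i ⟶ j),
      IsAffineHom (((Functor.const (IdealExt.FGSub K)ᵒᵖ).obj S).map a) :=
    fun i j a => inferInstanceAs (IsAffineHom (𝟙 S))
  let e := asIso ι.toImage
  let g : K.subscheme ⟶ S := K.subschemeι ≫ f
  have hge : ∀ z, g z = (ι ≫ f) (e.inv z) := fun z => by
    rw [← Scheme.Hom.comp_apply e.inv]
    refine congrArg (fun h : K.subscheme ⟶ S => h z) ?_
    rw [← Category.assoc, show e.inv ≫ ι = K.subschemeι from
      (Iso.inv_comp_eq e).mpr ι.toImage_imageι.symm]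
  have hd : ∀ s : S, topologicalKrullDim ↥(g.fiber s) ≤ d := fun s => by
    refine le_trans ?_ (hZ s)
    rw [FibreDim.Basic.topologicalKrullDim_fiber, FibreDim.Basic.topologicalKrullDim_fiber]
    let m : ↥(g.base ⁻¹' {s}) → ↥((ι ≫ f).base ⁻¹' {s}) := fun z =>
      ⟨e.inv z.1, (hge z.1).symm.trans z.2⟩
    have hm : Topology.IsInducing m :=
      Topology.IsInducing.of_comp (g := Subtype.val)
        (continuous_induced_rng.mpr (e.inv.continuous.comp continuous_subtype_val))
        continuous_subtype_val
        (e.inv.isEmbedding.isInducing.comp Topology.IsInducing.subtypeVal)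
    exact hm.topologicalKrullDim_le
  obtain ⟨J, hJ⟩ := Groth.Agent.S9215.result (IdealExt.subDiagram K) ((Functor.const _).obj S) φ
    (IdealExt.subCone K) (Limits.constCone _ S) (IdealExt.isLimitSubCone K)
    (Limits.isLimitConstCone _ S) (fun i j a => by
      have : IsClosedImmersion (Limits.pullback.lift ((IdealExt.subDiagram K).map a) (φ.app i)
          (φ.naturality a) ≫ Limits.pullback.fst _ _) := by
        rw [Limits.pullback.lift_fst]; infer_instance
      exact IsClosedImmersion.of_comp _ (Limits.pullback.fst (φ.app j) _))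
    g (fun J => by
      show (K.subschemeι ≫ f) ≫ 𝟙 S =
        Scheme.IdealSheafData.inclusion J.unop.2.1 ≫ J.unop.1.subschemeι ≫ f
      rw [Category.comp_id, ← Category.assoc, Scheme.IdealSheafData.inclusion_subschemeι]) d hd
  refine ⟨J.unop.1.subscheme, J.unop.1.subschemeι,
    e.hom ≫ (IdealExt.subCone K).π.app J, inferInstance, IdealFP.lfp_subschemeι _ J.unop.2.2, ?_,
    hJ⟩
  show (ι.toImage ≫ Scheme.IdealSheafData.inclusion J.unop.2.1) ≫ J.unop.1.subschemeι = ι
  rw [Category.assoc, Scheme.IdealSheafData.inclusion_subschemeι]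
  exact ι.toImage_imageι

end Groth.Agent.S9216
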