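import Groth.Statements.S9217
import Groth.Agent.H69.GlueClosedPoint
-- import your own Groth.Agent.* helpers here

set_option autoImplicit false
universe u
open CategoryTheory AlgebraicGeometry
open Lim

namespace Groth.Agent.S9217

set_option backward.isDefEq.respectTransparency false
open TopologicalSpace in

/-- Let S be a scheme, X and Y schemes over S with Y locally of finite presentation over S, and x a
closed point of X such that the inclusion of U = X - {x} in X is quasi-compact; let V be the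
complement of the closed point in Spec O_{X,x}, i.e. the preimage of U under the canonical morphism
Spec O_{X,x} → X. Then restriction is a bijection from the S-morphisms X → Y to the pairs (a, b) of
S-morphisms a : U → Y, b : Spec O_{X,x} → Y which agree on V: two morphisms X → Y with the same
restrictions to U and to Spec O_{X,x} are equal, and every such compatible pair of S-morphisms is
the pair of restrictions of an S-morphism X → Y. -/
theorem result {X Y S : Scheme.{u}} (p : X ⟶ S) (q : Y ⟶ S) [LocallyOfFinitePresentation q]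
    (x : X) (U : X.Opens) (hU : (U : Set X) = {x}ᶜ) [QuasiCompact U.ι] :
    (∀ g₁ g₂ : X ⟶ Y, U.ι ≫ g₁ = U.ι ≫ g₂ → X.fromSpecStalk x ≫ g₁ = X.fromSpecStalk x ≫ g₂ → g₁ = g₂) ∧
    (∀ (a : (U : Scheme.{u}) ⟶ Y) (b : Spec (X.presheaf.stalk x) ⟶ Y), a ≫ q = U.ι ≫ p →
      b ≫ q = X.fromSpecStalk x ≫ p → ((X.fromSpecStalk x) ⁻¹ᵁ U).ι ≫ b = ((X.fromSpecStalk x) ∣_ U) ≫ a →
        ∃ g : X ⟶ Y, g ≫ q = p ∧ U.ι ≫ g = a ∧ X.fromSpecStalk x ≫ g = b) := by
  refine ⟨fun g₁ g₂ h1 h2 => H69.GlueClosedPoint.hom_ext_fromSpecStalk fun z => ?_, fun a b ha hb hab => ?_⟩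
  · by_cases hz : z = x
    · subst hz; exact h2
    · have hzU : z ∈ U := by rw [← SetLike.mem_coe, hU]; exact hz
      rw [← Scheme.Opens.fromSpecStalkOfMem_ι U z hzU, Category.assoc, Category.assoc, h1]
  -- spread out `b`
  obtain ⟨V₀, hxV₀, f₀, hb₀, hf₀⟩ := H75.Spread.spread_out p q b hb
  obtain ⟨_, ⟨V, hV, rfl⟩, hxV, hVV₀⟩ :=
    X.isBasis_affineOpens.exists_subset_of_mem_open hxV₀ V₀.2
  -- the locus of local agreement
  let E : X.Opens := ⨆ (N : X.Opens) (hN : N ≤ U ⊓ V₀)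
    (_ : X.homOfLE (hN.trans inf_le_left) ≫ a = X.homOfLE (hN.trans inf_le_right) ≫ f₀), N
  have hW : IsCompact ((U ⊓ V : X.Opens) : Set X) := by
    have := U.ι.isCompact_preimage hV.isCompact
    have h2 := this.image U.ι.continuous
    rwa [Scheme.Hom.coe_preimage, Set.image_preimage_eq_inter_range, Scheme.Opens.range_ι,
      Set.inter_comm, ← Opens.coe_inf] at h2
  have hgen : ∀ z ∈ U ⊓ V, z ⤳ x → z ∈ E := by
    intro z hz hzx
    have hzU : z ∈ U := hz.1
    have hzV : z ∈ V₀ := hVV₀ hz.2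
    let O : X.Opens := U ⊓ V₀
    have hzO : z ∈ O := ⟨hzU, hzV⟩
    let s : Spec (X.presheaf.stalk z) ⟶ Spec (X.presheaf.stalk x) :=
      Spec.map (X.presheaf.stalkSpecializes hzx)
    have hs : s ≫ X.fromSpecStalk x = X.fromSpecStalk z :=
      Scheme.SpecMap_stalkSpecializes_fromSpecStalk hzx
    have hrange : Set.range s ⊆ Set.range ((X.fromSpecStalk x) ⁻¹ᵁ U).ι := by
      rw [Scheme.Opens.range_ι]
      rintro _ ⟨w, rfl⟩
      show X.fromSpecStalk x (s w) ∈ U
      rw [← Scheme.Hom.comp_apply, hs, ← Scheme.Opens.fromSpecStalkOfMem_ι U z hzU,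
        Scheme.Hom.comp_apply]
      exact (U.fromSpecStalkOfMem z hzU w).2
    let s' := IsOpenImmersion.lift ((X.fromSpecStalk x) ⁻¹ᵁ U).ι s hrange
    have hs' : s' ≫ ((X.fromSpecStalk x) ⁻¹ᵁ U).ι = s := IsOpenImmersion.lift_fac _ _ _
    have hl : s' ≫ ((X.fromSpecStalk x) ∣_ U) = U.fromSpecStalkOfMem z hzU := by
      rw [← cancel_mono U.ι, Category.assoc, morphismRestrict_ι, reassoc_of% hs', hs,
        Scheme.Opens.fromSpecStalkOfMem_ι]
    have hl' : s ≫ V₀.fromSpecStalkOfMem x hxV₀ = V₀.fromSpecStalkOfMem z hzV := by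
      rw [← cancel_mono V₀.ι, Category.assoc, Scheme.Opens.fromSpecStalkOfMem_ι, hs,
        Scheme.Opens.fromSpecStalkOfMem_ι]
    have heq : U.fromSpecStalkOfMem z hzU ≫ a = V₀.fromSpecStalkOfMem z hzV ≫ f₀ := by
      rw [← hl, Category.assoc, ← hab, reassoc_of% hs', hb₀, reassoc_of% hl']
    have hU' : O.fromSpecStalkOfMem z hzO ≫ X.homOfLE (inf_le_left : O ≤ U) =
        U.fromSpecStalkOfMem z hzU := by
      rw [← cancel_mono U.ι, Category.assoc, Scheme.homOfLE_ι,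
        Scheme.Opens.fromSpecStalkOfMem_ι, Scheme.Opens.fromSpecStalkOfMem_ι]
    have hV' : O.fromSpecStalkOfMem z hzO ≫ X.homOfLE (inf_le_right : O ≤ V₀) =
        V₀.fromSpecStalkOfMem z hzV := by
      rw [← cancel_mono V₀.ι, Category.assoc, Scheme.homOfLE_ι,
        Scheme.Opens.fromSpecStalkOfMem_ι, Scheme.Opens.fromSpecStalkOfMem_ι]
    obtain ⟨N, hzN, hN⟩ := H75.Spread.spread_out_unique q (x := (⟨z, hzO⟩ : O))
      (X.homOfLE (inf_le_left : O ≤ U) ≫ a) (X.homOfLE (inf_le_right : O ≤ V₀) ≫ f₀)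
      (by rw [Category.assoc, Category.assoc, ha, hf₀, Scheme.homOfLE_ι_assoc,
        Scheme.homOfLE_ι_assoc])
      (by
        rw [← cancel_epi (Spec.map (inv (O.ι.stalkMap (⟨z, hzO⟩ : O))))]
        have := congrArg (· ≫ 𝟙 Y) heq
        rw [← hU', ← hV'] at heq
        simpa only [Scheme.Opens.fromSpecStalkOfMem, Category.assoc] using heq)
    have hle : O.ι ''ᵁ N ≤ U ⊓ V₀ := O.ι.image_le_opensRange N |>.trans O.opensRange_ι.le
    refine (le_iSup₂_of_le (O.ι ''ᵁ N) hle (le_iSup_of_le ?_ le_rfl) : O.ι ''ᵁ N ≤ E)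
      ⟨⟨z, hzO⟩, hzN, rfl⟩
    rw [← cancel_epi (O.ι.isoImage N).hom]
    have hi : ∀ (T : X.Opens) (hT : O ≤ T), (O.ι.isoImage N).hom ≫ X.homOfLE (hle.trans hT) =
        N.ι ≫ X.homOfLE hT := fun T hT => by
      rw [← cancel_mono T.ι, Category.assoc, Category.assoc, Scheme.homOfLE_ι, Scheme.homOfLE_ι,
        Scheme.Hom.isoImage_hom_ι]
    rw [reassoc_of% hi U inf_le_left, reassoc_of% hi V₀ inf_le_right]
    simpa only [Category.assoc] using hN
  obtain ⟨N, hxN, hNV, hNE⟩ :=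
    H69.GlueClosedPoint.exists_nhd_inter_le hV hxV (U ⊓ V) E inf_le_right hW hgen
  have hNV₀ : N ≤ V₀ := hNV.trans hVV₀
  -- agreement on the overlap
  have hov : X.homOfLE (inf_le_left : U ⊓ N ≤ U) ≫ a =
      X.homOfLE ((inf_le_right : U ⊓ N ≤ N).trans hNV₀) ≫ f₀ := by
    refine Scheme.hom_ext_of_forall _ _ fun w => ?_
    have hwE : w.1 ∈ E := hNE ⟨⟨w.2.1, hNV w.2.2⟩, w.2.2⟩
    simp only [E, Opens.mem_iSup] at hwE
    obtain ⟨M, hM, hMeq, hwM⟩ := hwE
    refine ⟨(U ⊓ N).ι ⁻¹ᵁ M, hwM, ?_⟩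
    let l : ((U ⊓ N).ι ⁻¹ᵁ M : Scheme.{u}) ⟶ M := (U ⊓ N).ι ∣_ M
    have hi : ∀ (T : X.Opens) (hT : M ≤ T) (hT' : U ⊓ N ≤ T),
        ((U ⊓ N).ι ⁻¹ᵁ M).ι ≫ X.homOfLE hT' = l ≫ X.homOfLE hT := fun T hT hT' => by
      rw [← cancel_mono T.ι, Category.assoc, Category.assoc, Scheme.homOfLE_ι, Scheme.homOfLE_ι]
      exact (morphismRestrict_ι _ _).symm
    rw [reassoc_of% hi U (hM.trans inf_le_left) inf_le_left,
      reassoc_of% hi V₀ (hM.trans inf_le_right) (inf_le_right.trans hNV₀), hMeq]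
  -- glue
  let W : Bool → X.Opens := fun i => bif i then U else N
  have hcov : TopologicalSpace.IsOpenCover W := by
    rw [TopologicalSpace.IsOpenCover, eq_top_iff]
    intro w _
    rw [Opens.mem_iSup]
    by_cases hw : w = x
    · exact ⟨false, hw ▸ hxN⟩
    · exact ⟨true, (hU.ge hw : w ∈ (U : Set X))⟩
  let φ : ∀ i, (W i : Scheme.{u}) ⟶ Y := fun i => match i with
    | true => a
    | false => X.homOfLE hNV₀ ≫ f₀
  obtain ⟨g, hg⟩ : ∃ g : X ⟶ Y, ∀ i, (W i).ι ≫ g = φ i := by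
    let 𝒲 := Scheme.openCoverOfIsOpenCover X W hcov
    refine ⟨𝒲.glueMorphisms φ fun i j => ?_, fun i => Scheme.Cover.ι_glueMorphisms 𝒲 φ _ i⟩
    rw [← cancel_epi (isPullback_opens_inf (W i) (W j)).isoPullback.hom]
    simp only [IsPullback.isoPullback_hom_fst_assoc, IsPullback.isoPullback_hom_snd_assoc, 𝒲,
      Scheme.openCoverOfIsOpenCover]
    match i, j with
    | true, true => rfl
    | false, false => rfl
    | true, false =>
      refine hov.trans ?_
      rw [← Scheme.homOfLE_homOfLE_assoc]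
    | false, true =>
      rw [Scheme.homOfLE_homOfLE_assoc]
      have : X.homOfLE (le_inf inf_le_right inf_le_left : N ⊓ U ≤ U ⊓ N) ≫ _ =
        X.homOfLE (le_inf inf_le_right inf_le_left : N ⊓ U ≤ U ⊓ N) ≫ _ := congrArg _ hov.symm
      simpa [Scheme.homOfLE_homOfLE_assoc] using this
  refine ⟨g, H69.GlueClosedPoint.hom_ext_fromSpecStalk fun z => ?_, hg true, ?_⟩
  · by_cases hz : z = x
    · subst hz
      rw [← Scheme.Opens.fromSpecStalkOfMem_ι (W false) z hxN, Category.assoc, reassoc_of% hg false]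
      show _ ≫ (X.homOfLE hNV₀ ≫ f₀) ≫ q = _
      rw [Category.assoc, hf₀, Scheme.homOfLE_ι_assoc, Category.assoc]
      rfl
    · have hzU : z ∈ U := by rw [← SetLike.mem_coe, hU]; exact hz
      rw [← Scheme.Opens.fromSpecStalkOfMem_ι U z hzU, Category.assoc, reassoc_of% (show U.ι ≫ g = a from hg true)]
      show _ ≫ a ≫ q = _
      rw [ha, Category.assoc]
  · rw [← Scheme.Opens.fromSpecStalkOfMem_ι (W false) x hxN, Category.assoc, hg false, hb₀]
    show _ ≫ X.homOfLE hNV₀ ≫ f₀ = _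
    rw [← Category.assoc]
    congr 1
    rw [← cancel_mono V₀.ι, Category.assoc, Scheme.homOfLE_ι, Scheme.Opens.fromSpecStalkOfMem_ι]
    exact Scheme.Opens.fromSpecStalkOfMem_ι (W false) x hxN

end Groth.Agent.S9217
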