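import Groth.Statements.S9221
import Groth.Agent.Lib.Lim.Valuative
import Groth.Agent.Lib.Modules.SupportOps
import Groth.Agent.Lib.ZarCoh.ProperOver

set_option autoImplicit false
universe u
open CategoryTheory AlgebraicGeometry
open Lim

namespace Groth.Agent.S9221

/-- Let S = lim S_i be a cofiltered limit of schemes with affine transition morphisms, S_{i₀} a
quasi-compact quasi-separated stage, f₀ : X₀ → Y₀ a morphism of quasi-compact quasi-separated
schemes over S_{i₀}, and f : X → Y its base change along S → S_{i₀} (base changes expressed by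
pullback squares). Let F₀ be a quasi-coherent O_{X₀}-module of finite type, with pullbacks F to X
and F_i to X_i, and assume f₀ is locally of finite type. If the support of F (a closed subset of X,
taken with its reduced structure; equivalently the scheme-theoretic support of F) is proper over Y,
then for some index i over i₀, with f_i : X_i → Y_i the base change of f₀ along S_i → S_{i₀}, the
support of F_i is proper over Y_i. -/
theorem result {I : Type u} [SmallCategory I] [IsCofiltered I]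
    (D : I ⥤ Scheme.{u}) (c : Limits.Cone D) (hc : Limits.IsLimit c)
    [∀ (i j : I) (f : i ⟶ j), IsAffineHom (D.map f)] (i₀ : I) [CompactSpace (D.obj i₀)]
    [QuasiSeparatedSpace (D.obj i₀)] {X₀ Y₀ : Scheme.{u}} (f₀ : X₀ ⟶ Y₀) (g₀ : Y₀ ⟶ D.obj i₀)
    [CompactSpace X₀] [QuasiSeparatedSpace X₀] [CompactSpace Y₀] [QuasiSeparatedSpace Y₀]
    [LocallyOfFiniteType f₀] (F₀ : X₀.Modules) [Coh.IsQCoh F₀] (hF₀ : CohB1.IsFT F₀)
    {X Y : Scheme.{u}} (f : X ⟶ Y) (g : Y ⟶ c.pt) (qY : Y ⟶ Y₀) (qX : X ⟶ X₀)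
    (hY : IsPullback qY g g₀ (c.π.app i₀)) (hX : IsPullback qX f f₀ qY) (hF : ClSub.IsProperOver f (CohB1.support ((Scheme.Modules.pullback qX).obj F₀))) :
    ∃ (i : I) (φ : i ⟶ i₀) (Xi Yi : Scheme.{u}) (fi : Xi ⟶ Yi) (gi : Yi ⟶ D.obj i) (pY : Yi ⟶ Y₀)
      (pX : Xi ⟶ X₀), IsPullback pY gi g₀ (D.map φ) ∧ IsPullback pX fi f₀ pY ∧ ClSub.IsProperOver fi (CohB1.support ((Scheme.Modules.pullback pX).obj F₀)) := by
  haveI : SheafOfModules.IsFiniteType (R := X₀.ringCatSheaf) F₀ := hF₀
  let Z₀ : TopologicalSpace.Closeds X₀ :=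
    ⟨CohB1.support F₀, Groth.Agent.Lib.Modules.Support.isClosed_support F₀⟩
  let i₀' := (Scheme.IdealSheafData.vanishingIdeal Z₀).subschemeι
  have hr₀ : Set.range ⇑i₀' = CohB1.support F₀ := by
    simp [i₀', Scheme.IdealSheafData.range_subschemeι, Z₀]
  have hc₀ : CompactSpace ↥(Scheme.IdealSheafData.vanishingIdeal Z₀).subscheme :=
    QuasiCompact.compactSpace_of_compactSpace i₀'
  have hq₀ : QuasiSeparatedSpace ↥(Scheme.IdealSheafData.vanishingIdeal Z₀).subscheme :=
    quasiSeparatedSpace_of_quasiSeparated i₀'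
  haveI : LocallyOfFiniteType f := MorphismProperty.of_isPullback hX inferInstance
  have hrange : ∀ {A : Scheme.{u}} (p : A ⟶ X₀), Set.range ⇑(Limits.pullback.snd i₀' p) =
      CohB1.support ((Scheme.Modules.pullback p).obj F₀) := fun p => by
    rw [Scheme.Pullback.range_snd, Groth.Agent.Lib.Modules.SupportOps.support_pullback p F₀, hr₀]
  have hP : IsProper (Limits.pullback.snd i₀' qX ≫ f) :=
    (_root_.ZarCoh.ProperOver.isProper_comp_iff f (Limits.pullback.snd i₀' qX) (hrange qX)).2 hF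
  obtain ⟨i, φ, Ti, Yi, ti, gi, pY, pT, h1, h2, h3⟩ :=
    Groth.Agent.Lib.Lim.Descend.descend_over Groth.Agent.Lib.Lim.Valuative.isProper_descends
      D c hc i₀ (i₀' ≫ f₀) g₀ (Limits.pullback.snd i₀' qX ≫ f) g qY _ hY
      ((IsPullback.of_hasPullback i₀' qX).paste_vert hX)
      (show LocallyOfFiniteType (i₀' ≫ f₀) from inferInstance) hP
  have hpX := IsPullback.of_hasPullback f₀ pY
  refine ⟨i, φ, _, Yi, Limits.pullback.snd f₀ pY, gi, pY, Limits.pullback.fst f₀ pY, h1, hpX, ?_⟩
  haveI : LocallyOfFiniteType (Limits.pullback.snd f₀ pY) :=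
    MorphismProperty.of_isPullback hpX inferInstance
  have hsq := (IsPullback.of_hasPullback i₀' (Limits.pullback.fst f₀ pY)).paste_vert hpX
  haveI := h3
  have hP' : IsProper (Limits.pullback.snd i₀' (Limits.pullback.fst f₀ pY) ≫
      Limits.pullback.snd f₀ pY) := by
    rw [← hsq.isoIsPullback_hom_snd _ _ h2]
    infer_instance
  exact (_root_.ZarCoh.ProperOver.isProper_comp_iff _ _ (hrange _)).1 hP'

end Groth.Agent.S9221
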