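import Groth.Statements.S9222
import Groth.Agent.H69.IntegralPointsLocus
-- import your own Groth.Agent.* helpers here

set_option autoImplicit false
universe u
open CategoryTheory AlgebraicGeometry
open Lim

namespace Groth.Agent.S9222

/-- Let X be a scheme and L an ample invertible O_X-module. Let k be a field, A a k-algebra every
element of which is integral over k (an integral extension of k, not necessarily a domain), W an
open subset of X and g : Spec A → X a morphism whose image lies in W. Then there are an integer n ≥
1 and a global section s of the n-th tensor power of L such that the open X_s (where s generates) is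
affine, is contained in W, and contains the image of g, so that g factors through X_s. -/
theorem result {X : Scheme.{u}} (L : X.Modules) (hL : CohB1.IsAmple L)
    (k A : Type u) [Field k] [CommRing A] [Algebra k A] [Algebra.IsIntegral k A]
    (W : X.Opens) (g : Spec (CommRingCat.of A) ⟶ X) (hg : Set.range g.base ⊆ (W : Set X)) :
    ∃ (n : ℕ) (s : Coh.structureModule X ⟶ CohB1.tensorPow L (n + 1)),
      IsAffineOpen (CohB1.genLocus _ s) ∧ CohB1.genLocus _ s ≤ W ∧
        Set.range g.base ⊆ (CohB1.genLocus _ s : Set X) := by
  obtain ⟨n, hn, s, hsa, hsW, hs⟩ := Groth.Agent.H69.IntegralPointsLocus.exists_locus g k hL W hg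
  obtain ⟨m, rfl⟩ : ∃ m, n = m + 1 := ⟨n - 1, by omega⟩
  exact ⟨m, s, hsa, hsW, by rintro _ ⟨y, rfl⟩; exact hs y⟩


end Groth.Agent.S9222
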