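import Groth.Statements.S9224
import Groth.Agent.Lib.Lim.AvoidFibre
-- import your own Groth.Agent.* helpers here

set_option autoImplicit false
universe u
open CategoryTheory CategoryTheory.Limits AlgebraicGeometry
open Lim

namespace Groth.Agent.S9224
set_option backward.isDefEq.respectTransparency false

/-- Let f : X → S be a quasi-compact morphism, g : T → S a morphism, t a point of T and Z a closed
subset of X_T = X ×_S T which does not meet the fibre of X_T → T over t. Then there exist an affine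
open neighbourhood V of t in T, an affine scheme T' with a morphism b : T' → S locally of finite
presentation, a morphism a : V → T' whose composite with b is the restriction of g, and a closed
subset Z' of X_{T'} = X ×_S T' which does not meet the fibre over t' = a(t), such that the induced
morphism X_V → X_{T'} maps every point of X_V lying over Z (under X_V → X_T) into Z'. The morphisms
X_V → X_T and X_V → X_{T'} are the canonical ones, characterised by their projections. -/
theorem result {X S T : Scheme.{u}} (f : X ⟶ S) [QuasiCompact f] (g : T ⟶ S) (t : T)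
    (Z : Set ↥(pullback f g)) (hZ : IsClosed Z) (hZt : ∀ z ∈ Z, (pullback.snd f g).base z ≠ t) :
    ∃ (V : T.Opens) (ht : t ∈ V) (T' : Scheme.{u}) (b : T' ⟶ S) (a : (V : Scheme.{u}) ⟶ T')
      (n : pullback f (V.ι ≫ g) ⟶ pullback f g) (m : pullback f (V.ι ≫ g) ⟶ pullback f b)
      (Z' : Set ↥(pullback f b)),
      IsAffineOpen V ∧ IsAffine T' ∧ LocallyOfFinitePresentation b ∧ a ≫ b = V.ι ≫ g ∧
      n ≫ pullback.fst f g = pullback.fst f (V.ι ≫ g) ∧ n ≫ pullback.snd f g = pullback.snd f (V.ι ≫ g) ≫ V.ι ∧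
      m ≫ pullback.fst f b = pullback.fst f (V.ι ≫ g) ∧ m ≫ pullback.snd f b = pullback.snd f (V.ι ≫ g) ≫ a ∧
      IsClosed Z' ∧ (∀ z' ∈ Z', (pullback.snd f b).base z' ≠ a.base ⟨t, ht⟩) ∧
      ∀ z : ↥(pullback f (V.ι ≫ g)), n.base z ∈ Z → m.base z ∈ Z' := by
  obtain ⟨W, hW, htW, -⟩ := exists_isAffineOpen_mem_and_subset (x := g t) (U := (⊤ : S.Opens)) trivial
  obtain ⟨V, hV, htV, hVW⟩ := exists_isAffineOpen_mem_and_subset (x := t) (U := g ⁻¹ᵁ W) htW
  letI := (g.appLE W V hVW).hom.toAlgebra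
  have e : hV.fromSpec ≫ g = Lib.Lim.AvoidFibre.base hW Γ(T, V) :=
    (IsAffineOpen.SpecMap_appLE_fromSpec g hW hV hVW).symm
  let N : pullback f (Lib.Lim.AvoidFibre.base hW Γ(T, V)) ⟶ pullback f g :=
    pullback.map _ _ _ _ (𝟙 X) hV.fromSpec (𝟙 S) (by simp) (by rw [Category.comp_id, e])
  let p : PrimeSpectrum Γ(T, V) := hV.primeIdealOf ⟨t, htV⟩
  have hp : hV.fromSpec p = t := hV.fromSpec_primeIdealOf ⟨t, htV⟩
  obtain ⟨k, φ, Z', hZ', hZ'p, hZZ'⟩ := Lib.Lim.AvoidFibre.exists_poly f hW (N ⁻¹' Z)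
    (hZ.preimage N.continuous) p fun z hz hzp => hZt (N z) hz (by
      rw [← Scheme.Hom.comp_apply, show N ≫ pullback.snd f g = pullback.snd f _ ≫ hV.fromSpec from
        pullback.lift_snd _ _ _, Scheme.Hom.comp_apply]; exact (congrArg hV.fromSpec hzp).trans hp)
  have e2 : V.ι ≫ g = hV.isoSpec.hom ≫ Lib.Lim.AvoidFibre.base hW Γ(T, V) := by
    rw [← e, ← Category.assoc, IsAffineOpen.isoSpec_hom_fromSpec]
  let E : pullback f (V.ι ≫ g) ⟶ pullback f (Lib.Lim.AvoidFibre.base hW Γ(T, V)) :=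
    pullback.map _ _ _ _ (𝟙 X) hV.isoSpec.hom (𝟙 S) (by simp) (by rw [Category.comp_id, e2])
  refine ⟨V, htV, _, Lib.Lim.AvoidFibre.base hW (MvPolynomial (ULift.{u} (Fin k)) Γ(S, W)),
    hV.isoSpec.hom ≫ Spec.map (CommRingCat.ofHom φ.toRingHom), E ≫ N,
    E ≫ Lib.Lim.AvoidFibre.bc f hW φ, Z', hV, inferInstance, Lib.Lim.AvoidFibre.base_lfp hW _,
    ?_, ?_, ?_, ?_, ?_, hZ', fun z' hz' h' => hZ'p z' hz' ?_, fun z hz => ?_⟩
  · rw [e2, Category.assoc]
    congr 1
    rw [Lib.Lim.AvoidFibre.base, Lib.Lim.AvoidFibre.base, ← Category.assoc, ← Spec.map_comp,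
      ← CommRingCat.ofHom_comp]
    congr 3
    exact φ.comp_algebraMap
  · simp [E, N]
  · simp [E, N]
  · simp [E, Lib.Lim.AvoidFibre.bc]
  · simp [E, Lib.Lim.AvoidFibre.bc]
  · rw [h', Scheme.Hom.comp_apply]
    exact congrArg _ (hV.fromSpec.isOpenEmbedding.injective ((show hV.fromSpec (hV.isoSpec.hom ⟨t, htV⟩) = t by
      rw [← Scheme.Hom.comp_apply, IsAffineOpen.isoSpec_hom_fromSpec]; rfl).trans hp.symm))
  · rw [Scheme.Hom.comp_apply]
    exact hZZ' (E z) (by simpa using hz)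

end Groth.Agent.S9224
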