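import Groth.Statements.S9227
import Groth.Agent.H68.DerivRegular

set_option autoImplicit false
universe u
open CAlg

namespace Groth.Agent.S9227

/-- Let R be a regular ring, f an element of R and D a derivation of R with D(f) a unit of R. Then for
every polynomial p with integer coefficients the ring R[z]/(p(z) - f) is regular; in particular
R[z]/(z^n - f) is regular for every n ≥ 1. -/
theorem result (R : Type u) [CommRing R]
    [IsRegularRing R] (f : R) (D : Derivation ℤ R R) (hD : IsUnit (D f)) (p : Polynomial ℤ) :
    IsRegularRing (Polynomial R ⧸
      Ideal.span ({Polynomial.map (Int.castRingHom R) p - Polynomial.C f} : Set (Polynomial R))) := by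
  exact H68.DerivRegular.isRegularRing_polynomial_quotient R f D hD p

end Groth.Agent.S9227
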