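import Groth.Statements.S9231
import Groth.Agent.H24.CompletionFlat
import Mathlib.RingTheory.RingHom.Flat

set_option autoImplicit false
universe u
open CAlg

namespace Groth.Agent.S9231

/-- For a local ring map A → B between Noetherian local rings, let ψ be the induced map from the
completion of A at its maximal ideal to that of B (here: a ring map of the completions whose
composite with A → A^ is the composite A → B → B^; since A is Noetherian such a map is unique, hence
is the canonical one). Then ψ is flat exactly when A → B is flat. -/
theorem result (A B : Type u) [CommRing A] [CommRing B] [IsLocalRing A]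
    [IsLocalRing B] [IsNoetherianRing A] [IsNoetherianRing B] [Algebra A B]
    [IsLocalHom (algebraMap A B)]
    (ψ : AdicCompletion (IsLocalRing.maximalIdeal A) A →+* AdicCompletion (IsLocalRing.maximalIdeal B) B)
    (hψ : ψ.comp (algebraMap A (AdicCompletion (IsLocalRing.maximalIdeal A) A)) =
      (algebraMap B (AdicCompletion (IsLocalRing.maximalIdeal B) B)).comp (algebraMap A B)) :
    ψ.Flat ↔ (algebraMap A B).Flat := by
  let := ψ.toAlgebra
  have hst : IsScalarTower A (AdicCompletion (IsLocalRing.maximalIdeal A) A)
      (AdicCompletion (IsLocalRing.maximalIdeal B) B) :=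
    IsScalarTower.of_algebraMap_eq' (by
      rw [IsScalarTower.algebraMap_eq A B (AdicCompletion (IsLocalRing.maximalIdeal B) B)]
      exact hψ.symm)
  constructor
  · intro h
    have : Module.Flat (AdicCompletion (IsLocalRing.maximalIdeal A) A)
        (AdicCompletion (IsLocalRing.maximalIdeal B) B) := RingHom.flat_algebraMap_iff.mp h
    have : Module.Flat A (AdicCompletion (IsLocalRing.maximalIdeal B) B) :=
      Module.Flat.trans A (AdicCompletion (IsLocalRing.maximalIdeal A) A) _
    have : Module.FaithfullyFlat B (AdicCompletion (IsLocalRing.maximalIdeal B) B) :=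
      Module.FaithfullyFlat.of_flat_of_isLocalHom
    exact RingHom.flat_algebraMap_iff.mpr
      (H24.CompletionFlat.flat_of_faithfullyFlat A B (AdicCompletion (IsLocalRing.maximalIdeal B) B))
  · intro h
    have : Module.Flat A B := RingHom.flat_algebraMap_iff.mp h
    exact RingHom.flat_algebraMap_iff.mpr (H24.CompletionFlat.flat_completion A B)

end Groth.Agent.S9231
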