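import Groth.Statements.S9246
import Groth.Agent.H20.EtaleLocal

set_option autoImplicit false
universe u
open CAlg

namespace Groth.Agent.S9246

/-- Let A → B be an étale ring map and q a prime of B lying over the prime p of A. Then A_p is a regular
local ring if and only if B_q is a regular local ring. -/
theorem result (A B : Type u) [CommRing A] [CommRing B]
    [Algebra A B] [Algebra.Etale A B] (q : Ideal B) [q.IsPrime] :
    IsRegularLocalRing (Localization.AtPrime (Ideal.comap (algebraMap A B) q)) ↔
      IsRegularLocalRing (Localization.AtPrime q) := by
  let p := Ideal.comap (algebraMap A B) q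
  have : q.LiesOver p := ⟨rfl⟩
  let := Localization.AtPrime.algebraOfLiesOver p q
  exact Groth.Agent.H20.EtaleLocal.isRegularLocalRing_iff A B q p

end Groth.Agent.S9246
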