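import Groth.Statements.S9247
import Groth.Agent.Lib.Regular.UFD
import Mathlib.RingTheory.PicardGroup
import Mathlib.RingTheory.Ideal.UFD

set_option autoImplicit false
universe u
open CAlg

namespace Groth.Agent.S9247

/-- For a regular local ring R and an element f of R, the Picard group of R_f is trivial. -/
theorem result (R : Type u) [CommRing R]
    [IsRegularLocalRing R] (f : R) : Subsingleton (CommRing.Pic (Localization.Away f)) := by
  haveI := Groth.Agent.Lib.Regular.Quotient.isDomain R
  haveI := Groth.Agent.Lib.Regular.UFD.uniqueFactorizationMonoid R
  by_cases hf : f = 0
  · haveI : Subsingleton (Localization.Away f) :=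
      IsLocalization.subsingleton (M := Submonoid.powers f) ⟨1, by simp [hf]⟩
    exact CommRing.Pic.subsingleton_iff.2 fun M _ _ _ => inferInstance
  · haveI : IsDomain (Localization.Away f) :=
      IsLocalization.isDomain_localization (powers_le_nonZeroDivisors_of_noZeroDivisors hf)
    haveI : UniqueFactorizationMonoid (Localization.Away f) :=
      UniqueFactorizationMonoid.of_isLocalization (Submonoid.powers f) (Localization.Away f)
    haveI : IsGCDMonoid (Localization.Away f) := by
      haveI := UniqueFactorizationMonoid.toGCDMonoid (Localization.Away f)
      infer_instance
    infer_instance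

end Groth.Agent.S9247
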