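import Groth.Statements.S9249
import Groth.Agent.Lib.Henselian.FlatDepth
import Groth.Agent.Lib.Regular.Completion


set_option autoImplicit false
universe u
open CAlg

namespace Groth.Agent.S9249

/-- A Noetherian local ring is Cohen-Macaulay if and only if its completion is. -/
theorem result (A : Type u) [CommRing A] [IsLocalRing A]
    [IsNoetherianRing A] :
    LocCoh.IsCohenMacaulayLocalRing A ↔
      LocCoh.IsCohenMacaulayLocalRing (AdicCompletion (IsLocalRing.maximalIdeal A) A) := by
  have hI : IsLocalRing.maximalIdeal A ≠ ⊤ := Ideal.IsPrime.ne_top'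
  have := Groth.Agent.Lib.Regular.Completion.isLocalHom (IsLocalRing.maximalIdeal A) hI
  exact (Groth.Agent.Lib.Henselian.FlatDepth.isCohenMacaulayLocalRing_iff A
    (AdicCompletion (IsLocalRing.maximalIdeal A) A)
    (Groth.Agent.Lib.Regular.Completion.map_maximalIdeal (IsLocalRing.maximalIdeal A) hI)
    (Groth.Agent.Lib.Regular.Completion.ringKrullDim_eq (IsLocalRing.maximalIdeal A) hI)).symm

end Groth.Agent.S9249
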