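import Groth.Statements.S9253
import Groth.Agent.Lib.Synt92.KRIdeal
import Mathlib.RingTheory.Finiteness.FiniteTypeLocal

set_option autoImplicit false
universe u
attribute [local instance] HasDerivedCategory.standard
open CategoryTheory
open LCI

namespace Groth.Agent.S9253

open Groth.Agent.Lib.Synt92.KRLoc in
/-- The kernel of a presentation is Koszul-regular where a localization is a local complete intersection. -/
theorem exists_genLoc {R S : Type u} [CommRing R] [CommRing S] [Algebra R S] {n : ℕ}
    (f : MvPolynomial (Fin n) R →ₐ[R] S) (hf : Function.Surjective f) (G : MvPolynomial (Fin n) R)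
    (P : PrimeSpectrum (MvPolynomial (Fin n) R)) (hP : RingHom.ker f.toRingHom ≤ P.asIdeal)
    (hG : G ∉ P.asIdeal) (h : LCI.IsLCI R (Localization.Away (f G))) :
    ∃ e, GenLoc e (RingHom.ker f.toRingHom) P.asIdeal := by
  obtain ⟨-, m, α, hα, hI⟩ := h
  let L := Localization.Away G
  let M := Localization.Away (f G)
  have hT : Submonoid.map f.toRingHom (Submonoid.powers G) = Submonoid.powers (f G) :=
    Submonoid.map_powers f.toRingHom G
  let β : L →ₐ[R] M :=
    { IsLocalization.map M f.toRingHom (hT ▸ Submonoid.le_comap_map (Submonoid.powers G)) with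
      commutes' := fun r => by
        rw [IsScalarTower.algebraMap_apply R (MvPolynomial (Fin n) R) L,
          RingHom.toFun_eq_coe, IsLocalization.map_eq,
          show f.toRingHom (algebraMap R (MvPolynomial (Fin n) R) r) = algebraMap R S r from f.commutes r,
          ← IsScalarTower.algebraMap_apply] }
  haveI : IsLocalization ((Submonoid.powers G).map f.toRingHom) M := by
    rw [hT]; infer_instance
  have hβ : Function.Surjective β :=
    IsLocalization.map_surjective_of_surjective (S := L) (Submonoid.powers G) M hf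
  have hker : RingHom.ker β.toRingHom = (RingHom.ker f.toRingHom).map (algebraMap _ L) :=
    IsLocalization.ker_map (S := L) M f.toRingHom hT
  haveI : Algebra.Smooth R (MvPolynomial (Fin m) R) := ⟨inferInstance, inferInstance⟩
  haveI : Algebra.Smooth R (MvPolynomial (Fin n) R) := ⟨inferInstance, inferInstance⟩
  haveI : Algebra.Smooth (MvPolynomial (Fin n) R) L := Algebra.Smooth.of_isLocalization_Away G
  haveI : Algebra.Smooth R L := Algebra.Smooth.comp R (MvPolynomial (Fin n) R) _
  have key := Lib.Synt92.KRIdeal.isKoszulRegularIdeal_of_presentation α hα β hβ hI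
  rw [hker, Lib.Synt92.KRIdeal.isKoszulRegularIdeal_iff] at key
  have hd : Disjoint (Submonoid.powers G : Set (MvPolynomial (Fin n) R)) P.asIdeal := by
    rw [Set.disjoint_left]
    rintro _ ⟨k, rfl⟩ hk
    exact hG (P.2.mem_of_pow_mem k hk)
  haveI hP' : (P.asIdeal.map (algebraMap _ L)).IsPrime :=
    IsLocalization.isPrime_of_isPrime_disjoint (Submonoid.powers G) L _ P.2 hd
  obtain ⟨e, he⟩ := key ⟨_, hP'⟩ (Ideal.map_mono hP)
  have := (genLoc_away_iff (m := e) G L (P.asIdeal.map (algebraMap _ L))).1 he
  rw [show Ideal.comap (algebraMap _ L) (P.asIdeal.map (algebraMap _ L)) = P.asIdeal from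
    IsLocalization.comap_map_of_isPrime_disjoint (Submonoid.powers G) L P.2 hd] at this
  exact ⟨e, this⟩

/-- Let R → S be a ring map and g_1, ..., g_m elements of S generating the unit ideal. When every
localization S_{g_j} is a local complete intersection algebra over R, so is S. -/
theorem result (R S : Type u) [CommRing R] [CommRing S] [Algebra R S]
    (m : ℕ) (g : Fin m → S) (hg : Ideal.span (Set.range g) = ⊤)
    (h : ∀ j, LCI.IsLCI R (Localization.Away (g j))) : LCI.IsLCI R S := by
  haveI : Algebra.FiniteType R S :=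
    Algebra.FiniteType.of_span_eq_top_target (Set.range g) hg (by rintro _ ⟨j, rfl⟩; exact (h j).1)
  obtain ⟨n, f, hf⟩ := Algebra.FiniteType.iff_quotient_mvPolynomial''.1
    (inferInstance : Algebra.FiniteType R S)
  refine ⟨inferInstance, n, f, hf, ?_⟩
  rw [Lib.Synt92.KRIdeal.isKoszulRegularIdeal_iff]
  intro P hP
  let Q : Ideal S := P.asIdeal.map f.toRingHom
  haveI : Q.IsPrime := Ideal.map_isPrime_of_surjective (f := f.toRingHom) hf hP
  obtain ⟨j, hj⟩ : ∃ j, g j ∉ Q := by
    by_contra hh
    push Not at hh
    exact Ideal.IsPrime.ne_top ‹Q.IsPrime›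
      (top_le_iff.1 (hg ▸ Ideal.span_le.2 (by rintro _ ⟨j, rfl⟩; exact hh j)))
  obtain ⟨G, hG⟩ := hf (g j)
  have hGP : G ∉ P.asIdeal := fun hGm => hj (hG ▸ Ideal.mem_map_of_mem f.toRingHom hGm)
  rw [← hG] at hj
  have hlci : LCI.IsLCI R (Localization.Away (f G)) := by rw [hG]; exact h j
  exact exists_genLoc f hf G P hP hGP hlci

end Groth.Agent.S9253
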