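import Groth.Statements.S9255
import Groth.Agent.Lib.Excellent.GenericRegularApps
import Mathlib.RingTheory.AlgebraicIndependent.TranscendenceBasis

set_option autoImplicit false
set_option linter.style.haveILetI false
universe u
open EGA4

namespace Groth.Agent.S9255

/-- Let R be a Noetherian domain and R → S an injective ring map of finite type with S a domain. If the
regular locus of Spec S contains a nonempty open subset, then the regular locus of Spec R contains a
nonempty open subset. -/
theorem result (R S : Type u) [CommRing R]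
    [IsDomain R] [IsNoetherianRing R] [CommRing S] [IsDomain S] [Algebra R S] [Algebra.FiniteType R S]
    (hinj : Function.Injective (algebraMap R S))
    (hS : ∃ U : Set (PrimeSpectrum S), IsOpen U ∧ U.Nonempty ∧ U ⊆ EGA4.regLocus S) :
    ∃ U : Set (PrimeSpectrum R), IsOpen U ∧ U.Nonempty ∧ U ⊆ EGA4.regLocus R := by
  classical
  rw [← Groth.Agent.Lib.Excellent.GenericRegular.genReg_iff] at hS ⊢
  haveI : FaithfulSMul R S := (faithfulSMul_iff_algebraMap_injective _ _).2 hinj
  obtain ⟨G, hG⟩ := (inferInstance : Algebra.FiniteType R S).out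
  haveI : Algebra.IsAlgebraic (Algebra.adjoin R (G : Set S)) S := by
    rw [hG]
    exact ⟨fun x => isAlgebraic_algebraMap (⟨x, Algebra.mem_top⟩ : (⊤ : Subalgebra R S))⟩
  obtain ⟨t, htG, ht⟩ := exists_isTranscendenceBasis_subset (R := R) (G : Set S)
  haveI : Finite t := (G.finite_toSet.subset htG).to_subtype
  let P' := Algebra.adjoin R (Set.range ((↑) : t → S))
  haveI : Algebra.IsAlgebraic P' S := ht.isAlgebraic
  let e := ht.1.aevalEquiv
  haveI : IsNoetherianRing P' := isNoetherianRing_of_ringEquiv _ e.toRingEquiv
  refine Groth.Agent.Lib.Excellent.GenericRegular.genReg_of_mvPolynomial (ι := t)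
    (Groth.Agent.Lib.Excellent.GenericRegular.genReg_of_ringEquiv e.symm.toRingEquiv ?_)
  obtain ⟨h, hh0, hhint⟩ := Algebra.IsAlgebraic.exists_integral_multiples P' G
  haveI : Algebra.FiniteType P' S := Algebra.FiniteType.of_restrictScalars_finiteType R P' S
  let M := Submonoid.powers h
  have hM : M ≤ nonZeroDivisors P' := powers_le_nonZeroDivisors_of_noZeroDivisors hh0
  have hinjP : Function.Injective (algebraMap P' S) := Subtype.val_injective
  have hMS : Algebra.algebraMapSubmonoid S M ≤ nonZeroDivisors S :=
    map_le_nonZeroDivisors_of_injective _ hinjP hM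
  let Ph := Localization M
  let Sh := Localization (Algebra.algebraMapSubmonoid S M)
  haveI : IsDomain Ph := IsLocalization.isDomain_localization hM
  haveI : IsDomain Sh := IsLocalization.isDomain_localization hMS
  haveI : IsNoetherianRing Ph := IsLocalization.isNoetherianRing M Ph inferInstance
  letI : Algebra Ph Sh := (IsLocalization.map (T := Algebra.algebraMapSubmonoid S M) Sh
    (algebraMap P' S) (show M ≤ (Algebra.algebraMapSubmonoid S M).comap (algebraMap P' S) from
      Submonoid.le_comap_map M) : Ph →+* Sh).toAlgebra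
  haveI : IsScalarTower P' Ph Sh := IsScalarTower.of_algebraMap_eq
    (R := P') (S := Ph) (A := Sh) fun x => by
    rw [RingHom.algebraMap_toAlgebra, IsLocalization.map_eq, ← IsScalarTower.algebraMap_apply]
  haveI : Algebra.IsIntegral Ph Sh := by
    refine ⟨fun y => ?_⟩
    have hgen : ∀ x : S, IsIntegral Ph (algebraMap S Sh x) := by
      intro x
      have hx : x ∈ Algebra.adjoin R (G : Set S) := hG ▸ Algebra.mem_top
      induction hx using Algebra.adjoin_induction with
      | mem g hg =>
        have h1 : IsIntegral Ph (algebraMap S Sh (h • g)) :=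
          ((hhint g hg).map (IsScalarTower.toAlgHom P' S Sh)).tower_top
        rw [Algebra.smul_def, map_mul, ← IsScalarTower.algebraMap_apply P' S Sh,
          IsScalarTower.algebraMap_apply P' Ph Sh] at h1
        obtain ⟨u, hu⟩ := IsLocalization.map_units Ph (⟨h, Submonoid.mem_powers h⟩ : M)
        have h2 := (isIntegral_algebraMap (A := Sh) (x := (↑u⁻¹ : Ph))).mul h1
        rw [← mul_assoc, ← map_mul] at h2
        simpa [← hu] using h2
      | algebraMap r =>
        rw [IsScalarTower.algebraMap_apply R P' S, ← IsScalarTower.algebraMap_apply P' S Sh,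
          IsScalarTower.algebraMap_apply P' Ph Sh]
        exact isIntegral_algebraMap
      | add x y _ _ hx hy => rw [map_add]; exact hx.add hy
      | mul x y _ _ hx hy => rw [map_mul]; exact hx.mul hy
    obtain ⟨x, ⟨_, m, hm, rfl⟩, rfl⟩ :=
      IsLocalization.exists_mk'_eq (Algebra.algebraMapSubmonoid S M) y
    obtain ⟨u, hu⟩ := IsLocalization.map_units Ph (⟨m, hm⟩ : M)
    have h2 := (isIntegral_algebraMap (A := Sh) (x := (↑u⁻¹ : Ph))).mul (hgen x)
    refine (congrArg (IsIntegral Ph) ?_).mp h2
    symm
    rw [IsLocalization.mk'_eq_iff_eq_mul, mul_assoc, mul_comm (algebraMap S Sh x), ← mul_assoc,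
      ← IsScalarTower.algebraMap_apply P' S Sh, IsScalarTower.algebraMap_apply P' Ph Sh, ← hu,
      ← map_mul, Units.inv_mul, map_one, one_mul]
  haveI : Algebra.FiniteType S Sh := by
    haveI : IsLocalization.Away (algebraMap P' S h) Sh := by
      change IsLocalization (Submonoid.powers _) Sh
      rw [← Submonoid.map_powers]
      exact (inferInstance : IsLocalization (Algebra.algebraMapSubmonoid S M) Sh)
    exact IsLocalization.finiteType_of_monoid_fg (Submonoid.powers (algebraMap P' S h)) Sh
  haveI : Algebra.FiniteType P' Sh := Algebra.FiniteType.trans (S := S) inferInstance inferInstance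
  haveI : Algebra.FiniteType Ph Sh := Algebra.FiniteType.of_restrictScalars_finiteType P' Ph Sh
  haveI : Module.Finite Ph Sh := Algebra.IsIntegral.finite
  haveI : FaithfulSMul Ph Sh := (faithfulSMul_iff_algebraMap_injective _ _).2 (by
    rw [injective_iff_map_eq_zero]
    intro x hx
    obtain ⟨b, s, rfl⟩ := IsLocalization.exists_mk'_eq M x
    have h1 : algebraMap P' Sh b = 0 := by
      rw [IsScalarTower.algebraMap_apply P' Ph Sh, ← IsLocalization.mk'_spec Ph b s, map_mul, hx,
        zero_mul]
    rw [IsScalarTower.algebraMap_apply P' S Sh,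
      map_eq_zero_iff _ (IsLocalization.injective Sh hMS), map_eq_zero_iff _ hinjP] at h1
    rw [h1, IsLocalization.mk'_zero])
  have hSh : Groth.Agent.Lib.Excellent.GenericRegular.GenReg Sh := by
    obtain ⟨f, hf, hreg⟩ := hS
    refine ⟨algebraMap S Sh f, (map_ne_zero_iff _ (IsLocalization.injective Sh hMS)).2 hf,
      fun q hq => (Groth.Agent.Lib.Excellent.GenericRegular.mem_regLocus_localization
        (Algebra.algebraMapSubmonoid S M) q).2 (hreg _ hq)⟩
  obtain ⟨f, hf, hreg⟩ := Groth.Agent.Lib.Excellent.GenericRegular.genReg_of_finite (R := Ph) hSh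
  obtain ⟨b, s, rfl⟩ := IsLocalization.exists_mk'_eq M f
  refine ⟨h * b, mul_ne_zero hh0 fun hb => hf (by rw [hb, IsLocalization.mk'_zero]), fun q hq => ?_⟩
  obtain ⟨q', rfl⟩ : q ∈ Set.range (PrimeSpectrum.comap (algebraMap P' Ph)) := by
    rw [PrimeSpectrum.localization_comap_range Ph M]
    change Disjoint _ _
    rw [Set.disjoint_left]
    rintro _ ⟨n, rfl⟩ hn
    exact hq (Ideal.mul_mem_right _ _ (q.isPrime.mem_of_pow_mem n hn))
  refine (Groth.Agent.Lib.Excellent.GenericRegular.mem_regLocus_localization M q').1 (hreg q' fun hfq => hq ?_)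
  refine Ideal.mul_mem_left _ _ ?_
  change algebraMap P' Ph b ∈ q'.asIdeal
  rw [← IsLocalization.mk'_spec Ph b s]
  exact Ideal.mul_mem_right _ _ hfq

end Groth.Agent.S9255
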