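import Groth.Statements.S9257
import Groth.Agent.H68.FormalFibres

set_option autoImplicit false
universe u
open CAlg

namespace Groth.Agent.S9257

/-- A Noetherian ring R is a G-ring exactly when, for all primes q ⊆ p of R, the completion of the local
domain (R/q)_p tensored with its fraction field κ(q) is geometrically regular over κ(q). Here the
pairs q ⊆ p are enumerated as primes P of R/q. -/
theorem result (R : Type u) [CommRing R] [IsNoetherianRing R] :
    CAlg.IsGRing R ↔
      ∀ (q : Ideal R) [q.IsPrime] (P : Ideal (R ⧸ q)) [P.IsPrime],
        CAlg.IsGeometricallyRegular (⊥ : Ideal (Localization.AtPrime P)).ResidueField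
          (EGA4.formalFibre (Localization.AtPrime P) (⊥ : Ideal (Localization.AtPrime P))) := by
  have hsurj : ∀ (q : Ideal R) [q.IsPrime] (P : Ideal (R ⧸ q)) [P.IsPrime],
      Function.Surjective (Localization.localRingHom (P.comap (Ideal.Quotient.mk q)) P (Ideal.Quotient.mk q) rfl) :=
    fun q _ P _ => RingHom.surjective_localRingHom_of_surjective (Ideal.Quotient.mk q) Ideal.Quotient.mk_surjective P
  constructor
  · intro h q _ P _
    letI : Algebra (Localization.AtPrime (P.comap (Ideal.Quotient.mk q))) (Localization.AtPrime P) :=
      (Localization.localRingHom (P.comap (Ideal.Quotient.mk q)) P (Ideal.Quotient.mk q) rfl).toAlgebra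
    haveI : IsDomain (Localization.AtPrime P) :=
      IsLocalization.isDomain_localization P.primeCompl_le_nonZeroDivisors
    exact ((Lib.Excellent.GRingStability.isRegularHom_cpl_of_surjective
      (Localization.AtPrime (P.comap (Ideal.Quotient.mk q))) (Localization.AtPrime P) (hsurj q P)
      (h.2 _)).2 ⊥).2
  · intro h
    refine ⟨inferInstance, fun p _ => ?_⟩
    let Rp := Localization.AtPrime p
    refine ⟨inferInstance, fun Q _ =>
      ⟨Lib.Excellent.FibreNoetherian.isNoetherianRing_fibre _ Q, ?_⟩⟩
    refine (Lib.Excellent.FormalFibre.forall_fibre_iff (P := fun R [CommRing R] => IsRegularRing R)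
      Lib.Excellent.Transport.isoInvariant_isRegularRing (EGA4.Cpl Rp)).2 (fun K _ _ hK => ?_) Q
    exact H68.FormalFibres.regular_finPoint_of_generic h p K hK

end Groth.Agent.S9257
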