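import Groth.Statements.S9258
import Groth.Agent.H68.DerivExtend

set_option autoImplicit false
universe u
open CAlg

namespace Groth.Agent.S9258

/-- Suppose A → B is a local map of Noetherian local rings, B is complete, and A → B is formally smooth
for the adic topology of the maximal ideal of B. Then each derivation D of A extends to a derivation
D' of B, in the sense that D' restricted along A → B equals D followed by A → B. -/
theorem result (A B : Type u) [CommRing A]
    [CommRing B] [IsLocalRing A] [IsLocalRing B] [IsNoetherianRing A] [IsNoetherianRing B]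
    [Algebra A B] [IsLocalHom (algebraMap A B)]
    [IsAdicComplete (IsLocalRing.maximalIdeal B) B]
    (hfs : CAlgX.IsAdicFormallySmooth A B (IsLocalRing.maximalIdeal B)) (D : Derivation ℤ A A) :
    ∃ D' : Derivation ℤ B B, ∀ a : A, D' (algebraMap A B a) = algebraMap A B (D a) := by
  obtain ⟨D₁, hD₁⟩ := H68.DerivExtend.exists_baseChange hfs A D
  let e : TensorProduct A A B ≃ₐ[A] B := Algebra.TensorProduct.lid A B
  let l : B →ₗ[ℤ] B :=
    (((e.toLinearMap.toAddMonoidHom).comp D₁.toLinearMap.toAddMonoidHom).comp
      e.symm.toLinearMap.toAddMonoidHom).toIntLinearMap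
  refine ⟨Derivation.mk' l fun x y => ?_, fun a => ?_⟩
  · show e (D₁ (e.symm (x * y))) = x • e (D₁ (e.symm y)) + y • e (D₁ (e.symm x))
    rw [map_mul, Derivation.leibniz, map_add, smul_eq_mul, smul_eq_mul, map_mul, map_mul,
      AlgEquiv.apply_symm_apply, AlgEquiv.apply_symm_apply]
    rfl
  · show e (D₁ (e.symm (algebraMap A B a))) = _
    rw [AlgEquiv.commutes]
    exact (congrArg e (hD₁ a)).trans (e.commutes (D a))

end Groth.Agent.S9258
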