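import Groth.Statements.S9260
import Mathlib

set_option autoImplicit false
universe u
open CAlg

namespace Groth.Agent.S9260

/-- Suppose a finite group G with n elements acts on a ring R by ring automorphisms, A → R is a ring map
compatible with the action whose image contains the invariants (so that A maps onto R^G), J is an
ideal of A, and x lies in JR. Then ∏_σ (T - σ(x)) is the image of a monic polynomial over A of
degree at most n whose coefficients below degree n all lie in J. (The published statement takes A =
R^G and a polynomial of degree n; this row allows any such A mapping onto R^G and asks degree at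
most n, which is the same when A is nonzero.) -/
theorem result (A R G : Type u) [CommRing A]
    [CommRing R] [Algebra A R] [Group G] [Fintype G] [MulSemiringAction G R] [SMulCommClass G A R]
    [Algebra.IsInvariant A R G] (J : Ideal A) (x : R) (hx : x ∈ Ideal.map (algebraMap A R) J) :
    ∃ P : Polynomial A, P.Monic ∧ P.natDegree ≤ Fintype.card G ∧
      (∀ i : ℕ, i < Fintype.card G → P.coeff i ∈ J) ∧
      Polynomial.map (algebraMap A R) P = ∏ σ : G, (Polynomial.X - Polynomial.C (σ • x)) := by
  classical
  haveI : Nonempty G := ⟨1⟩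
  obtain ⟨ι, _, r, j, hj, hx'⟩ : ∃ (ι : Type u) (_ : Fintype ι) (r : ι → R) (j : ι → A),
      (∀ k, j k ∈ J) ∧ x = ∑ k, r k * algebraMap A R (j k) := by
    rw [Ideal.map, ← Submodule.mem_toAddSubmonoid, Submodule.mem_toAddSubmonoid,
      Ideal.span, Finsupp.mem_span_iff_linearCombination] at hx
    obtain ⟨l, hl⟩ := hx
    refine ⟨l.support, inferInstance, fun k => l k.1, fun k => k.1.2.choose, fun k => k.1.2.choose_spec.1, ?_⟩
    rw [← hl, Finsupp.linearCombination_apply, Finsupp.sum, ← Finset.sum_coe_sort]
    exact Finset.sum_congr rfl fun k _ => by rw [k.1.2.choose_spec.2, smul_eq_mul]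
  let act : G → (R →+* R) := fun g => MulSemiringAction.toRingHom G R g
  let L : G → MvPolynomial ι R := fun g => ∑ k, MvPolynomial.C (g • r k) * MvPolynomial.X k
  let Q : Polynomial (MvPolynomial ι R) := ∏ g : G, (Polynomial.X - Polynomial.C (L g))
  have hQinv : ∀ g : G, Q.map (MvPolynomial.map (act g)) = Q := by
    intro g
    simp only [Q, Polynomial.map_prod, Polynomial.map_sub, Polynomial.map_X, Polynomial.map_C]
    exact Fintype.prod_equiv (Equiv.mulLeft g) _ _ fun h => by
      simp [L, act, mul_smul, map_sum]
  have hlift : ∀ i, ∃ q : MvPolynomial ι A, MvPolynomial.map (algebraMap A R) q = Q.coeff i := by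
    intro i
    suffices h : Q.coeff i ∈ Set.range (MvPolynomial.map (algebraMap A R)) from h
    rw [MvPolynomial.mem_range_map_iff_coeffs_subset]
    intro c hc
    rw [Finset.mem_coe, MvPolynomial.mem_coeffs_iff] at hc
    obtain ⟨m, -, rfl⟩ := hc
    obtain ⟨a, ha⟩ := Algebra.IsInvariant.isInvariant (A := A) (G := G) ((Q.coeff i).coeff m) (fun g => by
      conv_rhs => rw [← hQinv g]
      rw [Polynomial.coeff_map, MvPolynomial.coeff_map]
      rfl)
    exact ⟨a, ha⟩
  choose q hq using hlift
  let ev : MvPolynomial ι R →+* R := MvPolynomial.eval (fun k => algebraMap A R (j k))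
  have hev : Q.map ev = ∏ g : G, (Polynomial.X - Polynomial.C (g • x)) := by
    simp only [Q, Polynomial.map_prod, Polynomial.map_sub, Polynomial.map_X, Polynomial.map_C]
    refine Finset.prod_congr rfl fun g _ => ?_
    congr 2
    simp [L, ev, hx', Finset.smul_sum, smul_mul']
  let n := Fintype.card G
  let qc : ℕ → A := fun i => MvPolynomial.eval j (q i - MvPolynomial.C (MvPolynomial.constantCoeff (q i)))
  have hqcJ : ∀ i, qc i ∈ J := by
    intro i
    simp only [qc]
    set t := q i - MvPolynomial.C (MvPolynomial.constantCoeff (q i)) with ht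
    have htm : t ∈ MvPolynomial.idealOfVars ι A := by
      rw [← pow_one (MvPolynomial.idealOfVars ι A), MvPolynomial.mem_pow_idealOfVars_iff']
      intro m hm
      have : m = 0 := by simpa [Finsupp.degree_eq_zero_iff] using hm
      subst this
      simp [ht, MvPolynomial.constantCoeff_eq]
    have hle : MvPolynomial.idealOfVars ι A ≤ J.comap (MvPolynomial.eval j) := by
      rw [MvPolynomial.idealOfVars, Ideal.span_le]
      rintro _ ⟨k, rfl⟩
      simpa using hj k
    exact hle htm
  refine ⟨Polynomial.X ^ n + ∑ i ∈ Finset.range n, Polynomial.C (qc i) * Polynomial.X ^ i, ?_, ?_, ?_, ?_⟩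
  · refine Polynomial.monic_X_pow_add (lt_of_le_of_lt (Polynomial.degree_sum_le _ _) ?_)
    exact (Finset.sup_lt_iff (WithBot.bot_lt_coe _)).mpr fun i hi =>
      (Polynomial.degree_C_mul_X_pow_le _ _).trans_lt (WithBot.coe_lt_coe.mpr (Finset.mem_range.mp hi))
  · exact (Polynomial.natDegree_add_le _ _).trans (max_le (Polynomial.natDegree_X_pow_le n)
      (Polynomial.natDegree_sum_le_of_forall_le _ _ fun i hi =>
        (Polynomial.natDegree_C_mul_X_pow_le _ _).trans (Finset.mem_range.mp hi).le))
  · intro i hi
    simp only [Polynomial.coeff_add, Polynomial.coeff_X_pow, Polynomial.finsetSum_coeff, Polynomial.coeff_C_mul_X_pow]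
    rw [if_neg (by omega : i ≠ n), zero_add, Finset.sum_ite_eq, if_pos (Finset.mem_range.mpr hi)]
    exact hqcJ i
  · have hmonic : Q.Monic := Polynomial.monic_prod_of_monic _ _ fun g _ => Polynomial.monic_X_sub_C _
    have hdeg : Q.natDegree = n ∨ Subsingleton R := by
      rcases subsingleton_or_nontrivial R with h | h
      · exact Or.inr h
      · left
        rw [Polynomial.natDegree_prod_of_monic _ _ fun g _ => Polynomial.monic_X_sub_C _]
        simp [n]
    rcases hdeg with hdeg | hsub
    swap; · exact Subsingleton.elim _ _
    have hzero : ∀ i < n, algebraMap A R (MvPolynomial.constantCoeff (q i)) = 0 := by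
      intro i hi
      rw [← MvPolynomial.constantCoeff_map, hq, ← Polynomial.coeff_map]
      have : Q.map (MvPolynomial.constantCoeff : MvPolynomial ι R →+* R) = Polynomial.X ^ n := by
        simp [Q, L, Polynomial.map_prod, Polynomial.map_sum, n]
      rw [this, Polynomial.coeff_X_pow, if_neg hi.ne]
    rw [← hev, Polynomial.map_add, Polynomial.map_pow, Polynomial.map_X, Polynomial.map_sum]
    conv_rhs => rw [hmonic.as_sum, hdeg]
    rw [Polynomial.map_add, Polynomial.map_pow, Polynomial.map_X, Polynomial.map_sum]
    congr 1
    refine Finset.sum_congr rfl fun i hi => ?_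
    rw [Polynomial.map_mul, Polynomial.map_mul, Polynomial.map_C, Polynomial.map_C, Polynomial.map_pow,
      Polynomial.map_pow, Polynomial.map_X, Polynomial.map_X]
    congr 2
    simp only [qc, map_sub, MvPolynomial.eval_C, hzero i (Finset.mem_range.mp hi), sub_zero]
    rw [← hq]
    simp only [ev, MvPolynomial.eval_map]
    exact (MvPolynomial.eval₂_comp_left (algebraMap A R) (RingHom.id A) j (q i))

end Groth.Agent.S9260
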