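import Groth.Statements.S9267
import Groth.Agent.Lib.Koszul.ExtCech.KoszulReg
import Groth.Agent.S9264

set_option autoImplicit false
universe u
attribute [local instance] HasDerivedCategory.standard
open CategoryTheory
open DerCA

namespace Groth.Agent.S9267

/-- For a Koszul-regular sequence f_1, ..., f_r in a ring R, the extended alternating Cech complex R → ⊕
R_{f_i} → ... → R_{f_1 ... f_r} has cohomology only in degree r. -/
theorem result (R : Type u) [CommRing R] (fs : List R)
    (hfs : LCI.IsKoszulRegularSeq R fs) (q : ℤ) (hq : q ≠ (fs.length : ℤ)) :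
    Limits.IsZero (DerCA.extCechH fs (ModuleCat.of R R) q) := by
  rcases lt_or_ge q 0 with h | h
  · exact Groth.Agent.S9264.result R fs _ q (Or.inl h)
  rcases lt_or_gt_of_ne hq with h' | h'
  · lift q to ℕ using h
    exact Groth.Agent.Lib.Koszul.ExtCech.KoszulReg.isZero_extCechH _ fs
      (fun i hi => Limits.IsZero.of_iso (hfs i hi)
        (Groth.Agent.Lib.Koszul.Basic.koszulHomologyIso fs i).symm) q (by omega)
  · exact Groth.Agent.S9264.result R fs _ q (Or.inr h')

end Groth.Agent.S9267
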