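import Groth.Statements.S9268
import Groth.Agent.H68.AdicSmoothLifts

set_option autoImplicit false
universe u
open CAlg

namespace Groth.Agent.S9268

/-- Suppose A is a Noetherian ring and B is a finitely generated A-algebra, and consider a prime q of B
lying over p in A. Then A → B is smooth at q (meaning some g not in q makes A → B_g smooth) exactly
when the induced map A_p → B_q is formally smooth with respect to the adic topology defined by the
maximal ideal of B_q. -/
theorem result (A B : Type u) [CommRing A] [IsNoetherianRing A]
    [CommRing B] [Algebra A B] [Algebra.FiniteType A B] (q : Ideal B) [q.IsPrime] :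
    (∃ g : B, g ∉ q ∧ Algebra.Smooth A (Localization.Away g)) ↔
      letI := (Localization.localRingHom (Ideal.comap (algebraMap A B) q) q (algebraMap A B) rfl).toAlgebra
      CAlgX.IsAdicFormallySmooth (Localization.AtPrime (Ideal.comap (algebraMap A B) q))
        (Localization.AtPrime q) (IsLocalRing.maximalIdeal (Localization.AtPrime q)) := by
  letI alg := (Localization.localRingHom (Ideal.comap (algebraMap A B) q) q (algebraMap A B) rfl).toAlgebra
  haveI : IsScalarTower A (Localization.AtPrime (Ideal.comap (algebraMap A B) q)) (Localization.AtPrime q) :=
    IsScalarTower.of_algebraMap_eq fun a => by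
      rw [RingHom.algebraMap_toAlgebra, Localization.localRingHom_to_map,
        ← IsScalarTower.algebraMap_apply A B (Localization.AtPrime q)]
  haveI : Algebra.FinitePresentation A B := Algebra.FinitePresentation.of_finiteType.mp inferInstance
  constructor
  · rintro ⟨g, hg, hsm⟩
    have hg' : IsUnit (algebraMap B (Localization.AtPrime q) g) :=
      IsLocalization.map_units (Localization.AtPrime q) (⟨g, hg⟩ : q.primeCompl)
    have hq : (⟨q, ‹_›⟩ : PrimeSpectrum B) ∈ Algebra.smoothLocus A B := by
      have : ↑(PrimeSpectrum.basicOpen g) ⊆ Algebra.smoothLocus A B :=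
        Algebra.basicOpen_subset_smoothLocus_iff_smooth.mpr hsm
      exact this hg
    haveI : Algebra.FormallySmooth A (Localization.AtPrime q) := hq
    haveI : Algebra.FormallySmooth (Localization.AtPrime (Ideal.comap (algebraMap A B) q))
        (Localization.AtPrime q) :=
      Algebra.FormallySmooth.localization_base (Ideal.comap (algebraMap A B) q).primeCompl
    intro C _ _ J hJ ψ _
    exact Algebra.FormallySmooth.comp_surjective _ _ J hJ ψ
  · intro h
    haveI : Algebra.IsSmoothAt A q :=
      Groth.Agent.Lib.Unram.ArtinianLifting.formallySmooth_of_hasLifts B q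
        (Groth.Agent.H68.AdicSmoothLifts.hasLifts_of_isAdicFormallySmooth
          (Localization.AtPrime (Ideal.comap (algebraMap A B) q)) (Ideal.comap (algebraMap A B) q).primeCompl h)
    exact Algebra.IsSmoothAt.exists_notMem_smooth A q

end Groth.Agent.S9268
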