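import Groth.Statements.S9273
import Groth.Agent.H26.H1Quasi


set_option autoImplicit false
universe u
open CAlgX

namespace Groth.Agent.S9273

/-- Let A → B and A → A' be ring maps and B' = A' ⊗_A B. If f_1, ..., f_r is an H_1-regular sequence in
B with B/(f_1, ..., f_r) flat over A, then the images of the f_i in B' form an H_1-regular sequence. -/
theorem result (A B A' : Type u) [CommRing A] [CommRing B]
    [CommRing A'] [Algebra A B] [Algebra A A'] (r : ℕ) (f : Fin r → B)
    (hflat : Module.Flat A (B ⧸ Ideal.span (Set.range f))) (hq : CAlgX.IsH1Regular f) :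
    CAlgX.IsH1Regular (fun i => ((1 : A') ⊗ₜ[A] f i : TensorProduct A A' B)) := by
  haveI := hflat
  exact Groth.Agent.H26.H1Quasi.baseChange A B A' f hq

end Groth.Agent.S9273
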