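import Groth.Statements.S9274
import Groth.Agent.Lib.GRing.FiniteType
import Groth.Agent.Lib.GRing.Domains
import Mathlib.RingTheory.AdjoinRoot

set_option autoImplicit false
universe u
open CAlg

namespace Groth.Agent.S9274

open scoped TensorProduct
open Groth.Agent.Lib

theorem exists_cover (R B : Type u) [CommRing R] [CommRing B] [Algebra R B] [Module.Finite R B] :
    ∃ (S : Type u) (_ : CommRing S) (_ : Algebra R S) (_ : Module.Finite R S) (_ : Module.Free R S)
      (φ : S →ₐ[R] B), Function.Surjective φ := by
  classical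
  obtain ⟨s, hs⟩ := (inferInstance : Algebra.FiniteType R B).out
  suffices key : ∀ t : Finset B, ∃ (S : Type u) (_ : CommRing S) (_ : Algebra R S) (_ : Module.Finite R S)
      (_ : Module.Free R S) (φ : S →ₐ[R] B), (t : Set B) ⊆ Set.range φ by
    obtain ⟨S, iS, iA, h1, h2, φ, hφ⟩ := key s
    refine ⟨S, iS, iA, h1, h2, φ, (AlgHom.range_eq_top φ).1 (top_le_iff.1 ?_)⟩
    rw [← hs]
    exact Algebra.adjoin_le hφ
  intro t
  induction t using Finset.induction_on with
  | empty => exact ⟨R, inferInstance, inferInstance, inferInstance, inferInstance, Algebra.ofId R B, by simp⟩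
  | @insert b t _ ih =>
    obtain ⟨S, iS, iA, h1, h2, φ, hφ⟩ := ih
    obtain ⟨g, hg, hgb⟩ := (Algebra.IsIntegral.isIntegral (R := R) b)
    let f := g.map (algebraMap R S)
    have hf : f.Monic := hg.map _
    haveI : Module.Finite S (AdjoinRoot f) := hf.finite_adjoinRoot
    haveI : Module.Free S (AdjoinRoot f) := hf.free_adjoinRoot
    have h0 : Polynomial.eval₂ (φ : S →+* B) b f = 0 := by
      rw [Polynomial.eval₂_map, φ.comp_algebraMap]
      exact hgb
    let ψ₀ : AdjoinRoot f →+* B := AdjoinRoot.lift φ.toRingHom b h0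
    let ψ : AdjoinRoot f →ₐ[R] B :=
      { ψ₀ with
        commutes' := fun r => by
          change ψ₀ (algebraMap R (AdjoinRoot f) r) = _
          rw [IsScalarTower.algebraMap_apply R S (AdjoinRoot f), AdjoinRoot.algebraMap_eq,
            AdjoinRoot.lift_of]
          exact φ.commutes r }
    refine ⟨AdjoinRoot f, inferInstance, inferInstance, Module.Finite.trans S _, Module.Free.trans (S := S),
      ψ, ?_⟩
    intro x hx
    rcases Finset.mem_insert.1 hx with rfl | hx
    · exact ⟨AdjoinRoot.root f, AdjoinRoot.lift_root h0⟩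
    · obtain ⟨z, rfl⟩ := hφ hx
      exact ⟨AdjoinRoot.of f z, AdjoinRoot.lift_of h0⟩

/-- The generic formal fibre of a quotient domain through the formal fibres of the cover. -/
theorem regular_of_cover (S B : Type u) [CommRing S] [IsNoetherianRing S] [CommRing B] [IsDomain B]
    (φ : S →+* B) (hφ : Function.Surjective φ) (P : Ideal B) [P.IsPrime]
    (K : Type u) [Field K] [Algebra B K] [IsFractionRing B K]
    (h : ∀ (q : Ideal S) [q.IsPrime] (p : Ideal (Localization.AtPrime q)) [p.IsPrime],
      IsRegularRing (EGA4.formalFibre (Localization.AtPrime q) p)) :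
    IsRegularRing (K ⊗[B] EGA4.Cpl (Localization.AtPrime P)) := by
  letI : Algebra S B := φ.toAlgebra
  haveI : Module.Finite S B := Module.Finite.of_surjective (Algebra.linearMap S B) hφ
  letI : Algebra S K := ((algebraMap B K).comp φ).toAlgebra
  haveI : IsScalarTower S B K := .of_algebraMap_eq' rfl
  let P₀ := P.comap (algebraMap S B)
  haveI : P₀.IsPrime := Ideal.IsPrime.comap _
  haveI : IsNoetherianRing (Localization.AtPrime P₀) :=
    IsLocalization.isNoetherianRing P₀.primeCompl _ inferInstance
  have hunit : ∀ s : P₀.primeCompl, IsUnit (algebraMap S K s) := fun s => by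
    refine Ne.isUnit fun h0 => s.2 ?_
    have : φ s = 0 := IsFractionRing.injective B K (h0.trans (map_zero _).symm)
    change φ s ∈ P
    rw [this]
    exact P.zero_mem
  letI : Algebra (Localization.AtPrime P₀) K :=
    (IsLocalization.lift (M := P₀.primeCompl) (g := algebraMap S K) hunit).toAlgebra
  haveI : IsScalarTower S (Localization.AtPrime P₀) K := .of_algebraMap_eq fun a =>
    (IsLocalization.lift_eq (g := algebraMap S K) hunit a).symm
  let Q := RingHom.ker (algebraMap (Localization.AtPrime P₀) K)
  haveI : Q.IsPrime := RingHom.ker_isPrime _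
  let ψ : Q.ResidueField →+* K := Ideal.ResidueField.lift Q (algebraMap (Localization.AtPrime P₀) K)
    le_rfl fun z hz => Ne.isUnit fun h0 => hz h0
  letI : Algebra Q.ResidueField K := ψ.toAlgebra
  haveI : IsScalarTower (Localization.AtPrime P₀) Q.ResidueField K := .of_algebraMap_eq fun z =>
    (Ideal.ResidueField.lift_algebraMap (I := Q) (algebraMap (Localization.AtPrime P₀) K) _ _ z).symm
  have hb : ∀ b : B, ∃ r, ψ r = algebraMap B K b := fun b => by
    obtain ⟨a, rfl⟩ := hφ b
    refine ⟨algebraMap _ _ (algebraMap S (Localization.AtPrime P₀) a), ?_⟩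
    rw [Ideal.ResidueField.lift_algebraMap, ← IsScalarTower.algebraMap_apply]
    rfl
  have hψ : Function.Surjective ψ := fun z => by
    obtain ⟨b, c, _, rfl⟩ := IsFractionRing.div_surjective B z
    obtain ⟨r, hr⟩ := hb b
    obtain ⟨t, ht⟩ := hb c
    exact ⟨r / t, by rw [map_div₀, hr, ht]⟩
  let e : Q.ResidueField ≃ₐ[Localization.AtPrime P₀] K :=
    AlgEquiv.ofBijective (IsScalarTower.toAlgHom _ Q.ResidueField K) ⟨ψ.injective, hψ⟩
  haveI := h P₀ Q
  have h1 : IsRegularRing (K ⊗[Localization.AtPrime P₀] EGA4.Cpl (Localization.AtPrime P₀)) :=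
    IsRegularRing.of_ringEquiv (R := EGA4.formalFibre (Localization.AtPrime P₀) Q)
      (Algebra.TensorProduct.congr e AlgEquiv.refl).toRingEquiv
  haveI : TensorProduct.CompatibleSMul S (Localization.AtPrime P₀) K (EGA4.Cpl (Localization.AtPrime P₀)) :=
    IsLocalization.tensorProduct_compatibleSMul P₀.primeCompl (Localization.AtPrime P₀) K
      (EGA4.Cpl (Localization.AtPrime P₀))
  refine GRing.Component.isRegularRing_component S B P₀ P rfl K ?_
  exact IsRegularRing.of_ringEquiv (Algebra.TensorProduct.equivOfCompatibleSMul S (Localization.AtPrime P₀)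
    (Localization.AtPrime P₀) K (EGA4.Cpl (Localization.AtPrime P₀))).toRingEquiv

/-- For a Noetherian ring R, being a G-ring is equivalent to the following: whenever S is an R-algebra
that is finite and free as an R-module, every formal fibre of every local ring of S is a regular
ring. -/
theorem result (R : Type u) [CommRing R] [IsNoetherianRing R] :
    CAlg.IsGRing R ↔
      ∀ (S : Type u) [CommRing S] [Algebra R S] [Module.Finite R S] [Module.Free R S]
        (q : Ideal S) [q.IsPrime] (p : Ideal (Localization.AtPrime q)) [p.IsPrime],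
        IsRegularRing (EGA4.formalFibre (Localization.AtPrime q) p) := by
  constructor
  · intro hR S _ _ _ _ q _ p _
    have hS := Groth.Agent.Lib.GRing.FiniteType.isGRing R hR S
    haveI : IsRegularRing (p.ResidueField ⊗[p.ResidueField] EGA4.formalFibre (Localization.AtPrime q) p) :=
      ((hS.2 q).2 p).2 p.ResidueField inferInstance
    exact IsRegularRing.of_ringEquiv (R := p.ResidueField ⊗[p.ResidueField] EGA4.formalFibre (Localization.AtPrime q) p)
      (Algebra.TensorProduct.lid p.ResidueField (EGA4.formalFibre (Localization.AtPrime q) p)).toRingEquiv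
  · intro h
    refine Groth.Agent.Lib.GRing.Domains.isGRing_of_domains R fun B _ _ _ _ P _ K _ _ _ => ?_
    obtain ⟨S, _, _, _, _, φ, hφ⟩ := exists_cover R B
    haveI : IsNoetherianRing S := IsNoetherianRing.of_finite R S
    exact regular_of_cover S B φ.toRingHom hφ P K fun q _ p _ => h S q p

end Groth.Agent.S9274
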