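import Groth.Statements.S9275
import Mathlib.RingTheory.RingHom.Etale

set_option autoImplicit false
universe u
open EtAlg

namespace Groth.Agent.S9275

/-- Let A → B be a ring map and J an ideal of B such that A → B is étale at every prime of V(J), in the
sense that every prime q ⊇ J has some h ∉ q with A → B_h étale. Then there is g ∈ B mapping to a
unit of B/J such that A → B_g is étale. -/
theorem result (A B : Type u) [CommRing A] [CommRing B]
    [Algebra A B] (J : Ideal B)
    (h : ∀ (q : Ideal B) [q.IsPrime], J ≤ q → ∃ h : B, h ∉ q ∧ Algebra.Etale A (Localization.Away h)) :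
    ∃ g : B, IsUnit (Ideal.Quotient.mk J g) ∧ Algebra.Etale A (Localization.Away g) := by
  classical
  let H : Set B := {h | Algebra.Etale A (Localization.Away h)}
  have hsup : J ⊔ Ideal.span H = ⊤ := by
    by_contra hne
    obtain ⟨q, hq, hle⟩ := Ideal.exists_le_maximal _ hne
    obtain ⟨x, hx, hx'⟩ := h q (le_sup_left.trans hle)
    exact hx ((le_sup_right.trans hle) (Ideal.subset_span hx'))
  obtain ⟨a, ha, g, hg, hag⟩ := Submodule.mem_sup.1 (hsup.ge (Submodule.mem_top (x := (1 : B))))
  obtain ⟨T, hT, hgT⟩ := Submodule.mem_span_finite_of_mem_span hg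
  refine ⟨g, ?_, ?_⟩
  · have : Ideal.Quotient.mk J g = 1 := by
      rw [← map_one (Ideal.Quotient.mk J), ← hag, map_add, Ideal.Quotient.eq_zero_iff_mem.2 ha,
        zero_add]
    rw [this]; exact isUnit_one
  · rw [← RingHom.etale_algebraMap]
    refine RingHom.Etale.ofLocalizationSpanTarget (algebraMap A (Localization.Away g))
      ((algebraMap B (Localization.Away g)) '' T) ?_ ?_
    · rw [← Ideal.map_span, Ideal.eq_top_iff_one]
      obtain ⟨w, hw⟩ := (IsLocalization.Away.algebraMap_isUnit (S := Localization.Away g) g).exists_left_inv
      rw [← hw]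
      exact Ideal.mul_mem_left _ w (Ideal.mem_map_of_mem _ hgT)
    · rintro ⟨_, x, hx, rfl⟩
      have : Algebra.Etale A (Localization.Away x) := hT hx
      let W := Localization.Away (algebraMap B (Localization.Away g) x)
      have : IsLocalization.Away (g * x) W := IsLocalization.Away.mul' (Localization.Away g) W g x
      let W' := Localization.Away (algebraMap B (Localization.Away x) g)
      have : IsLocalization.Away (g * x) W' := IsLocalization.Away.mul (Localization.Away x) W' x g
      let e : W' ≃ₐ[B] W := IsLocalization.algEquiv (Submonoid.powers (g * x)) W' W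
      have : Algebra.Etale (Localization.Away x) W' :=
        Algebra.Etale.of_isLocalizationAway (algebraMap B (Localization.Away x) g)
      have : Algebra.Etale A W' := Algebra.Etale.comp A (Localization.Away x) W'
      rw [← IsScalarTower.algebraMap_eq A (Localization.Away g) W, RingHom.etale_algebraMap]
      exact Algebra.Etale.of_equiv (e.restrictScalars A)

end Groth.Agent.S9275
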