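import Groth.Statements.S9277
-- import your own Groth.Agent.* helpers here

set_option autoImplicit false
universe u
open CAlgX

namespace Groth.Agent.S9277

theorem minorIdeal_mem_iff {R : Type u} [CommRing R] {m n : ℕ} (M : Matrix (Fin n) (Fin m) R) (r : ℕ)
    (a : R) : a ∈ (CAlgX.minorIdeal M r).annihilator ↔
      ∀ (f : Fin r → Fin n) (g : Fin r → Fin m), a * (M.submatrix f g).det = 0 := by
  unfold CAlgX.minorIdeal Ideal.span
  rw [Submodule.mem_annihilator_span]
  constructor
  · intro h f g; exact h ⟨_, ⟨(f, g), rfl⟩⟩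
  · rintro h ⟨_, ⟨⟨f, g⟩, rfl⟩⟩; exact h f g

theorem minorIdeal_eq_bot_of_lt {R : Type u} [CommRing R] {m n : ℕ} (M : Matrix (Fin n) (Fin m) R)
    {r : ℕ} (hr : m < r) : CAlgX.minorIdeal M r = ⊥ := by
  unfold CAlgX.minorIdeal
  rw [Ideal.span_eq_bot]
  rintro _ ⟨⟨f, g⟩, rfl⟩
  have : ¬ Function.Injective g := fun h => by
    have := Fintype.card_le_of_injective g h; simp at this; omega
  rw [Function.not_injective_iff] at this
  obtain ⟨i, j, hij, hne⟩ := this
  exact Matrix.det_zero_of_column_eq hne fun k => by simp [hij]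

theorem minorIdeal_zero {R : Type u} [CommRing R] {m n : ℕ} (M : Matrix (Fin n) (Fin m) R) :
    CAlgX.minorIdeal M 0 = ⊤ := by
  unfold CAlgX.minorIdeal
  rw [Ideal.eq_top_iff_one]
  exact Ideal.subset_span ⟨(Fin.elim0, Fin.elim0), Matrix.det_isEmpty⟩

theorem injective_of_ann {R : Type u} [CommRing R] {m n : ℕ} (M : Matrix (Fin n) (Fin m) R)
    (h : (CAlgX.minorIdeal M m).annihilator = ⊥) : Function.Injective (Matrix.mulVecLin M) := by
  rw [injective_iff_map_eq_zero]
  intro x hx
  funext j
  have : x j ∈ (CAlgX.minorIdeal M m).annihilator := by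
    rw [minorIdeal_mem_iff]
    intro f g
    by_cases hg : Function.Injective g
    swap
    · rw [Function.not_injective_iff] at hg
      obtain ⟨i, k, hik, hne⟩ := hg
      rw [Matrix.det_zero_of_column_eq hne (fun l => by simp [hik]), mul_zero]
    obtain ⟨k, rfl⟩ := (Finite.injective_iff_surjective.mp hg) j
    let e := Equiv.ofBijective g ⟨hg, Finite.injective_iff_surjective.mp hg⟩
    have hN : (M.submatrix f g).mulVec (x ∘ g) = 0 := by
      funext i
      have hi := congrFun hx (f i)
      simp only [Matrix.mulVecLin_apply, Matrix.mulVec, dotProduct, Pi.zero_apply] at hi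
      simp only [Matrix.mulVec, dotProduct, Matrix.submatrix_apply, Function.comp_apply, Pi.zero_apply]
      rw [← hi]
      exact Equiv.sum_comp e (fun l => M (f i) l * x l)
    have h2 := congrArg (Matrix.mulVec (M.submatrix f g).adjugate) hN
    rw [Matrix.mulVec_mulVec, Matrix.adjugate_mul, Matrix.smul_mulVec, Matrix.one_mulVec,
      Matrix.mulVec_zero] at h2
    have h3 := congrFun h2 k
    simp only [Pi.smul_apply, Function.comp_apply, smul_eq_mul, Pi.zero_apply] at h3
    rw [mul_comm]; exact h3
  rw [h] at this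
  simpa using this

theorem ann_of_injective {R : Type u} [CommRing R] {m n : ℕ} (M : Matrix (Fin n) (Fin m) R)
    (h : Function.Injective (Matrix.mulVecLin M)) : (CAlgX.minorIdeal M m).annihilator = ⊥ := by
  classical
  rw [Submodule.eq_bot_iff]
  intro a ha
  by_contra ha0
  let P : ℕ → Prop := fun r => ∀ (f : Fin r → Fin n) (g : Fin r → Fin m), a * (M.submatrix f g).det = 0
  have hPm : P m := (minorIdeal_mem_iff M m a).mp ha
  have hP0 : ¬ P 0 := fun h0 => ha0 (by simpa using h0 Fin.elim0 Fin.elim0)
  obtain ⟨r, hr1, hr2, hrm⟩ : ∃ r, ¬ P r ∧ P (r + 1) ∧ r < m := by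
    have hex : ∃ r, P r := ⟨m, hPm⟩
    have h0 : Nat.find hex ≠ 0 := fun e => hP0 (e ▸ Nat.find_spec hex)
    obtain ⟨r, hr⟩ := Nat.exists_eq_succ_of_ne_zero h0
    refine ⟨r, Nat.find_min hex (by omega), ?_, ?_⟩
    · have := Nat.find_spec hex; rwa [hr] at this
    · have := Nat.find_min' hex hPm; omega
  simp only [P, not_forall] at hr1
  obtain ⟨f, g, hfg⟩ := hr1
  have hg : Function.Injective g := by
    by_contra hg
    rw [Function.not_injective_iff] at hg
    obtain ⟨i, k, hik, hne⟩ := hg
    exact hfg (by rw [Matrix.det_zero_of_column_eq hne (fun l => by simp [hik]), mul_zero])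
  obtain ⟨j0, hj0⟩ : ∃ j0, j0 ∉ Set.range g := by
    by_contra hc
    push_neg at hc
    have := Fintype.card_le_of_surjective g hc
    simp at this; omega
  let g' : Fin (r + 1) → Fin m := Fin.cons j0 g
  let c : Fin (r + 1) → R := fun j => (-1) ^ (j : ℕ) * (M.submatrix f (g' ∘ j.succAbove)).det
  let x : Fin m → R := ∑ j, Pi.single (g' j) (a * c j)
  have hx : Matrix.mulVecLin M x = 0 := by
    funext i
    have h1 : a * (M.submatrix (Fin.cons i f) g').det = 0 := hr2 _ _
    rw [Matrix.det_succ_row_zero, Finset.mul_sum] at h1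
    simp only [x, map_sum, Finset.sum_apply, Matrix.mulVecLin_apply, Matrix.mulVec_single,
      Pi.zero_apply]
    refine Eq.trans (Finset.sum_congr rfl fun j _ => ?_) h1
    simp only [Pi.smul_apply, Matrix.col_apply, MulOpposite.smul_eq_mul_unop, MulOpposite.unop_op,
      Matrix.submatrix_apply, Fin.cons_zero, Matrix.submatrix_submatrix, c]
    rw [show (Fin.cons i f : Fin (r + 1) → Fin n) ∘ Fin.succ = f from Fin.cons_comp_succ _ _]
    · ring
  have hx0 : x j0 = 0 := by rw [h (hx.trans (map_zero _).symm)]; rfl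
  apply hfg
  simp only [x, Finset.sum_apply] at hx0
  rw [Fin.sum_univ_succ] at hx0
  have : ∀ j : Fin r, (Pi.single (g' j.succ) (a * c j.succ) : Fin m → R) j0 = 0 := fun j =>
    Pi.single_eq_of_ne (fun e => hj0 ⟨j, by simpa [g'] using e.symm⟩) _
  simp only [this, Finset.sum_const_zero, add_zero] at hx0
  simpa [g', c, Fin.succAbove_zero, Function.comp_def] using hx0

/-- Let R be a local ring and φ : R^m → R^n a map of finite free modules with matrix M. Then φ is
injective if and only if the rank of M is m and the annihilator of the determinantal ideal I(M)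
(generated by the minors of size the rank) is zero. -/
theorem result (R : Type u) [CommRing R] [IsLocalRing R]
    (m n : ℕ) (M : Matrix (Fin n) (Fin m) R) :
    Function.Injective (Matrix.mulVecLin M) ↔
      CAlgX.matrixRank M = m ∧ (CAlgX.detIdeal M).annihilator = ⊥ := by
  haveI : Nontrivial R := inferInstance
  have hbdd : BddAbove {r : ℕ | CAlgX.minorIdeal M r ≠ ⊥} := ⟨m, fun r hr => by
    by_contra hlt
    exact hr (minorIdeal_eq_bot_of_lt M (by omega))⟩
  have hne : {r : ℕ | CAlgX.minorIdeal M r ≠ ⊥}.Nonempty := ⟨0, by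
    rw [Set.mem_setOf_eq, minorIdeal_zero]; exact top_ne_bot⟩
  constructor
  · intro h
    have hann := ann_of_injective M h
    have hrk : CAlgX.matrixRank M = m := by
      apply le_antisymm
      · refine csSup_le hne fun r hr => ?_
        by_contra hlt
        exact hr (minorIdeal_eq_bot_of_lt M (by omega))
      · refine le_csSup hbdd (fun hb => ?_)
        rw [hb, Submodule.annihilator_bot] at hann
        exact top_ne_bot hann
    exact ⟨hrk, by rw [CAlgX.detIdeal, hrk]; exact hann⟩
  · rintro ⟨h1, h2⟩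
    rw [CAlgX.detIdeal, h1] at h2
    exact injective_of_ann M h2

end Groth.Agent.S9277
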