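import Groth.Statements.S9278
import Groth.Agent.S9277
import Mathlib

set_option autoImplicit false
set_option backward.isDefEq.respectTransparency false
universe u
open CAlgX

namespace Groth.Agent.S9278

theorem annihilator_eq_bot_iff {R : Type u} [CommRing R] [IsNoetherianRing R] (I : Ideal R) :
    I.annihilator = ⊥ ↔ ∃ a ∈ I, IsRegular a := by
  constructor
  · intro h
    by_contra hc
    push Not at hc
    have hsub : (I : Set R) ⊆ ⋃ p ∈ associatedPrimes R R, p := by
      intro a ha
      rw [biUnion_associatedPrimes_eq_compl_regular R R]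
      intro hreg
      exact hc a ha ⟨hreg, fun x y hxy => hreg (by simpa [mul_comm] using hxy)⟩
    obtain ⟨p, hp, hIp⟩ := (Ideal.subset_union_prime_finite (associatedPrimes.finite R R) ⊥ ⊥
      (fun p hp _ _ => hp.isPrime)).mp hsub
    obtain ⟨x, hx⟩ := isAssociatedPrime_iff_exists_injective_linearMap p R |>.mp hp |>.2 |> fun ⟨f, hf⟩ =>
      (⟨f (Ideal.Quotient.mk p 1), fun a ha => by
        rw [← map_smul, show a • Ideal.Quotient.mk p (1:R) = 0 by
          rw [Algebra.smul_def, map_one, mul_one, Ideal.Quotient.algebraMap_eq, Ideal.Quotient.eq_zero_iff_mem.mpr ha],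
          map_zero], fun h1 => hp.1.ne_top (by
        rw [Ideal.eq_top_iff_one, ← Ideal.Quotient.eq_zero_iff_mem]; exact hf (h1.trans (map_zero f).symm))⟩ :
        ∃ x : R, (∀ a ∈ p, a • x = 0) ∧ x ≠ 0)
    have : x ∈ I.annihilator := by
      rw [Submodule.mem_annihilator]
      intro a ha
      simpa [mul_comm] using hx.1 a (hIp ha)
    rw [h] at this
    exact hx.2 this
  · rintro ⟨a, ha, hreg⟩
    rw [Submodule.eq_bot_iff]
    intro x hx
    rw [Submodule.mem_annihilator] at hx
    exact hreg.right (show x * a = 0 * a by simpa using hx a ha)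

/-- Let R be a Noetherian local ring and φ : R^m → R^n a map of finite free modules with matrix M. Then
φ is injective if and only if the rank of M is m and the determinantal ideal I(M) is the unit ideal
or contains a nonzerodivisor. -/
theorem result (R : Type u) [CommRing R]
    [IsLocalRing R] [IsNoetherianRing R] (m n : ℕ) (M : Matrix (Fin n) (Fin m) R) :
    Function.Injective (Matrix.mulVecLin M) ↔
      CAlgX.matrixRank M = m ∧ (CAlgX.detIdeal M = ⊤ ∨ ∃ a ∈ CAlgX.detIdeal M, IsRegular a) := by
  rw [Groth.Agent.S9277.result R m n M]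
  refine and_congr_right fun _ => ?_
  rw [annihilator_eq_bot_iff]
  exact ⟨Or.inr, fun h => h.elim (fun h => ⟨1, h ▸ trivial, isRegular_one⟩) id⟩

end Groth.Agent.S9278
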