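import Groth.Statements.S9282
import Mathlib.RingTheory.Extension.Cotangent.Basic
import Mathlib.RingTheory.LocalRing.ResidueField.Basic
import Mathlib.RingTheory.Smooth.Local

set_option autoImplicit false
universe u
open CAlg

namespace Groth.Agent.S9282

open TensorProduct KaehlerDifferential in
/-- Let A → B be a local ring map between Noetherian local rings that is formally smooth for the adic
topology of the maximal ideal of B, and write K for the residue field of B. In the Jacobi–Zariski
sequence attached to A → B → K, the map from H_1(NL_{K/A}) to H_1(NL_{K/B}), which is m_B/m_B^2, is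
injective; the remaining terms are exact in general, so that sequence starts with a zero. -/
theorem result (A B : Type u) [CommRing A]
    [CommRing B] [IsLocalRing A] [IsLocalRing B] [IsNoetherianRing A] [IsNoetherianRing B]
    [Algebra A B] [IsLocalHom (algebraMap A B)]
    (hfs : CAlgX.IsAdicFormallySmooth A B (IsLocalRing.maximalIdeal B)) :
    Function.Injective
      (Algebra.H1Cotangent.map A B (IsLocalRing.ResidueField B) (IsLocalRing.ResidueField B)) := by
  let P := (Algebra.Generators.self A (IsLocalRing.ResidueField B)).toExtension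
  let P' := (Algebra.Generators.self B (IsLocalRing.ResidueField B)).toExtension
  let f := (Algebra.Generators.defaultHom (Algebra.Generators.self A (IsLocalRing.ResidueField B))
    (Algebra.Generators.self B (IsLocalRing.ResidueField B))).toExtensionHom
  rw [injective_iff_map_eq_zero]
  intro h hh
  obtain ⟨z, hz⟩ := Algebra.Extension.Cotangent.mk_surjective h.1
  apply Algebra.Extension.h1Cotangentι_ext
  show h.1 = 0
  have hmem : (f.toRingHom (z : P.Ring)) ∈ P'.ker ^ 2 := by
    have h1 := congrArg Subtype.val hh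
    change Algebra.Extension.Cotangent.map f h.1 = 0 at h1
    rw [← hz, Algebra.Extension.Cotangent.map_mk] at h1
    exact (Algebra.Extension.Cotangent.mk_eq_zero_iff _).mp h1
  have hd : (1 : IsLocalRing.ResidueField B) ⊗ₜ[P.Ring] KaehlerDifferential.D A P.Ring (z : P.Ring) = 0 := by
    have h1 : P.cotangentComplex h.1 = 0 := h.2
    rwa [← hz, Algebra.Extension.cotangentComplex_mk] at h1
  -- an evaluation `B[K] → B`
  let sec : IsLocalRing.ResidueField B → B := Function.surjInv IsLocalRing.residue_surjective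
  let θ : P'.Ring →ₐ[B] B := MvPolynomial.aeval sec
  have hθ' : ∀ x : MvPolynomial (IsLocalRing.ResidueField B) B,
      IsLocalRing.residue B (MvPolynomial.aeval sec x) =
        MvPolynomial.aeval (id : IsLocalRing.ResidueField B → IsLocalRing.ResidueField B) x := by
    intro x
    induction x using MvPolynomial.induction_on with
    | C b => simp only [MvPolynomial.aeval_C]; rfl
    | add p q hp hq => simp only [map_add, hp, hq]
    | mul_X p c hp =>
      simp only [map_mul, MvPolynomial.aeval_X, hp, id, sec, Function.surjInv_eq IsLocalRing.residue_surjective]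
  have hθ : ∀ x : P'.Ring, IsLocalRing.residue B (θ x) = algebraMap P'.Ring (IsLocalRing.ResidueField B) x :=
    fun x => (hθ' x).trans
      ((Algebra.Generators.self B (IsLocalRing.ResidueField B)).algebraMap_apply x).symm
  let φ : P.Ring →ₐ[A] B := (θ.restrictScalars A).comp f.toAlgHom
  have hφ : ∀ x, IsLocalRing.residue B (φ x) = algebraMap P.Ring (IsLocalRing.ResidueField B) x := fun x => by
    show IsLocalRing.residue B (θ (f.toRingHom x)) = _
    rw [hθ]
    exact f.algebraMap_toRingHom x
  have hφz : φ (z : P.Ring) ∈ IsLocalRing.maximalIdeal B ^ 2 := by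
    have hle : P'.ker.map θ.toRingHom ≤ IsLocalRing.maximalIdeal B := by
      rw [Ideal.map_le_iff_le_comap]
      intro x hx
      show θ x ∈ IsLocalRing.maximalIdeal B
      rw [← IsLocalRing.residue_eq_zero_iff, hθ]
      exact hx
    have h2 := Ideal.mem_map_of_mem θ.toRingHom hmem
    rw [Ideal.map_pow] at h2
    exact Ideal.pow_right_mono hle 2 h2
  -- the square zero extension `P / ker² → K`
  let J : Ideal (P.Ring ⧸ P.ker ^ 2) := P.ker.map (Ideal.Quotient.mk (P.ker ^ 2))
  have hJ : J ^ 2 = ⊥ := by
    show (P.ker.map (Ideal.Quotient.mk (P.ker ^ 2))) ^ 2 = ⊥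
    rw [← Ideal.map_pow, Ideal.map_quotient_self]
  have hs : Function.Surjective (algebraMap P.Ring (IsLocalRing.ResidueField B)) := P.algebraMap_surjective
  let g : IsLocalRing.ResidueField B →ₐ[A] (P.Ring ⧸ P.ker ^ 2) ⧸ J :=
    AlgHom.liftOfSurjective (IsScalarTower.toAlgHom A P.Ring (IsLocalRing.ResidueField B)) hs
      ((Ideal.Quotient.mkₐ A J).comp (Ideal.Quotient.mkₐ A (P.ker ^ 2))) (fun x hx =>
        Ideal.Quotient.eq_zero_iff_mem.mpr (Ideal.mem_map_of_mem _ hx))
  have hg : ∀ x, g (algebraMap P.Ring (IsLocalRing.ResidueField B) x) =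
      Ideal.Quotient.mk J (Ideal.Quotient.mk (P.ker ^ 2) x) := fun x =>
    AlgHom.liftOfSurjective_apply _ _ _ _ x
  obtain ⟨v, hv⟩ := hfs _ J hJ (g.comp (IsScalarTower.toAlgHom A B (IsLocalRing.ResidueField B)))
    ⟨1, fun x hx => by
      rw [pow_one] at hx
      show g (IsLocalRing.residue B x) = 0
      rw [(IsLocalRing.residue_eq_zero_iff x).mpr hx, map_zero]⟩
  have hv' : ∀ b, Ideal.Quotient.mk J (v b) = g (IsLocalRing.residue B b) := fun b => AlgHom.congr_fun hv b
  have hdiff : ∀ x, Ideal.Quotient.mk (P.ker ^ 2) x - v (φ x) ∈ J := fun x => by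
    rw [← Ideal.Quotient.eq_zero_iff_mem, map_sub, hv', hφ, hg, sub_self]
  have hsq : ∀ a b, a ∈ J → b ∈ J → a * b = 0 := fun a b ha hb => by
    have h2 : a * b ∈ J ^ 2 := by rw [pow_two J]; exact Ideal.mul_mem_mul ha hb
    rwa [hJ, Ideal.mem_bot] at h2
  let d : Derivation A P.Ring (P.Ring ⧸ P.ker ^ 2) :=
    Derivation.mk' ((Ideal.Quotient.mkₐ A (P.ker ^ 2)).toLinearMap - (v.comp φ).toLinearMap) fun x y => by
      show Ideal.Quotient.mk (P.ker ^ 2) (x * y) - v (φ (x * y)) = _
      simp only [map_mul, Algebra.smul_def]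
      show _ = Ideal.Quotient.mk (P.ker ^ 2) x * (Ideal.Quotient.mk (P.ker ^ 2) y - v (φ y)) +
        Ideal.Quotient.mk (P.ker ^ 2) y * (Ideal.Quotient.mk (P.ker ^ 2) x - v (φ x))
      linear_combination -(hsq _ _ (hdiff x) (hdiff y))
  let L := d.liftKaehlerDifferential
  have hL : ∀ ω, L ω ∈ J := fun ω => by
    have hω : ω ∈ Submodule.span P.Ring (Set.range (KaehlerDifferential.D A P.Ring)) := by
      rw [KaehlerDifferential.span_range_derivation]; trivial
    induction hω using Submodule.span_induction with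
    | mem w hw =>
      obtain ⟨x, rfl⟩ := hw
      rw [Derivation.liftKaehlerDifferential_comp_D]
      exact hdiff x
    | zero => rw [map_zero]; exact zero_mem _
    | add a b _ _ ha hb => rw [map_add]; exact add_mem ha hb
    | smul c w _ hw => rw [map_smul, Algebra.smul_def]; exact Ideal.mul_mem_left _ _ hw
  have hDz : KaehlerDifferential.D A P.Ring (z : P.Ring) ∈ (P.ker • ⊤ : Submodule P.Ring Ω[P.Ring⁄A]) := by
    let e : (P.Ring ⧸ P.ker) ≃ₐ[P.Ring] IsLocalRing.ResidueField B :=
      Ideal.quotientKerAlgEquivOfSurjective (f := Algebra.ofId P.Ring (IsLocalRing.ResidueField B)) hs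
    have h' : (1 : P.Ring ⧸ P.ker) ⊗ₜ[P.Ring] KaehlerDifferential.D A P.Ring (z : P.Ring) = 0 := by
      apply (TensorProduct.congr e.toLinearEquiv (LinearEquiv.refl P.Ring Ω[P.Ring⁄A])).injective
      rw [TensorProduct.congr_tmul, map_zero, LinearEquiv.refl_apply]
      refine Eq.trans ?_ hd
      congr 1
      exact map_one e
    rw [← LinearMap.ker_tensorProductMk (Q := Ω[P.Ring⁄A]) (I := P.ker)]
    exact h'
  have hL0 : L (KaehlerDifferential.D A P.Ring (z : P.Ring)) = 0 := by
    refine Submodule.smul_induction_on hDz (fun r hr w _ => ?_) (fun a b ha hb => by rw [map_add, ha, hb, add_zero])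
    rw [map_smul, Algebra.smul_def]
    exact hsq _ _ (Ideal.mem_map_of_mem _ hr) (hL w)
  rw [Derivation.liftKaehlerDifferential_comp_D] at hL0
  change Ideal.Quotient.mk (P.ker ^ 2) (z : P.Ring) - v (φ (z : P.Ring)) = 0 at hL0
  have hvz : v (φ (z : P.Ring)) = 0 := by
    have hle : (IsLocalRing.maximalIdeal B).map v.toRingHom ≤ J := Ideal.map_le_iff_le_comap.mpr fun b hb => by
      show v b ∈ J
      rw [← Ideal.Quotient.eq_zero_iff_mem, hv', (IsLocalRing.residue_eq_zero_iff b).mpr hb, map_zero]
    have h3 := Ideal.mem_map_of_mem v.toRingHom hφz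
    rw [Ideal.map_pow] at h3
    have h4 := Ideal.pow_right_mono hle 2 h3
    rw [hJ] at h4
    exact h4
  rw [hvz, sub_zero, Ideal.Quotient.eq_zero_iff_mem] at hL0
  rw [← hz]
  exact (Algebra.Extension.Cotangent.mk_eq_zero_iff _).mpr hL0

end Groth.Agent.S9282
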