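import Groth.Statements.S9283
import Mathlib

set_option autoImplicit false
universe u
open CAlg

namespace Groth.Agent.S9283

/-- Let R be an auto-associated ring, that is, a local ring whose maximal ideal is weakly associated to
R: some nonzero x ∈ R is killed by a power of every element of the maximal ideal. Then every proper
finitely generated ideal of R has a nonzero annihilator. -/
theorem result (R : Type u) [CommRing R] [IsLocalRing R]
    (h : ∃ x : R, x ≠ 0 ∧ ∀ f ∈ IsLocalRing.maximalIdeal R, ∃ n : ℕ, f ^ n * x = 0)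
    (I : Ideal R) (hI : I.FG) (hI' : I ≠ ⊤) : I.annihilator ≠ ⊥ := by
  classical
  obtain ⟨s, hs⟩ := hI
  have hsm : ∀ g ∈ s, g ∈ IsLocalRing.maximalIdeal R := fun g hg =>
    IsLocalRing.le_maximalIdeal hI' (hs ▸ Ideal.subset_span hg)
  have key : ∀ t : Finset R, (∀ g ∈ t, g ∈ IsLocalRing.maximalIdeal R) →
      ∃ y : R, y ≠ 0 ∧ (∀ f ∈ IsLocalRing.maximalIdeal R, ∃ n : ℕ, f ^ n * y = 0) ∧ ∀ g ∈ t, g * y = 0 := by
    intro t
    induction t using Finset.induction with
    | empty => intro _; obtain ⟨x, hx, hx'⟩ := h; exact ⟨x, hx, hx', by simp⟩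
    | insert g t hgt ih =>
      intro ht
      obtain ⟨y, hy, hy', hty⟩ := ih (fun g' hg' => ht g' (Finset.mem_insert_of_mem hg'))
      have hex := hy' g (ht g (Finset.mem_insert_self _ _))
      obtain ⟨n, hn⟩ : ∃ n, Nat.find hex = n + 1 := by
        refine ⟨Nat.find hex - 1, ?_⟩
        rcases Nat.eq_zero_or_pos (Nat.find hex) with h0 | h0
        · have h1 := Nat.find_spec hex
          rw [h0, pow_zero, one_mul] at h1
          exact absurd h1 hy
        · omega
      refine ⟨g ^ n * y, Nat.find_min hex (by omega), ?_, ?_⟩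
      · intro f hf
        obtain ⟨m, hm⟩ := hy' f hf
        exact ⟨m, by rw [mul_left_comm, hm, mul_zero]⟩
      · intro g' hg'
        rcases Finset.mem_insert.mp hg' with rfl | hg'
        · rw [← mul_assoc, ← pow_succ', ← hn]
          exact Nat.find_spec hex
        · rw [mul_left_comm, hty g' hg', mul_zero]
  obtain ⟨y, hy, -, hty⟩ := key s hsm
  intro hbot
  apply hy
  have : y ∈ I.annihilator := by
    rw [← hs, Submodule.mem_annihilator_span]
    rintro ⟨g, hg⟩
    rw [smul_eq_mul, mul_comm]
    exact hty g hg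
  rwa [hbot, Ideal.mem_bot] at this

end Groth.Agent.S9283
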