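import Groth.Statements.S9284
import Groth.Agent.Lib.Pure.UI
import Mathlib.LinearAlgebra.Finsupp.Supported
import Mathlib.Algebra.Module.Projective

set_option autoImplicit false
universe u
open CAlgX

namespace Groth.Agent.S9284

open Groth.Agent.Lib.Pure in
/-- An injective map from a finite free module into a free module is split. -/
theorem exists_retraction (R : Type u) [CommRing R]
    (hP : ∀ I : Ideal R, I.FG → I ≠ ⊤ → I.annihilator ≠ ⊥) (n : ℕ) :
    ∀ (κ : Type u) (u : (Fin n → R) →ₗ[R] (κ →₀ R)), Function.Injective u →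
      ∃ ρ : (κ →₀ R) →ₗ[R] (Fin n → R), ρ ∘ₗ u = LinearMap.id := by
  classical
  induction n with
  | zero => exact fun κ u _ => ⟨0, by ext i; exact i.elim0⟩
  | succ n ih =>
    intro κ u hu
    let inc : (Fin n → R) →ₗ[R] (Fin (n + 1) → R) :=
      LinearMap.pi (Fin.cases 0 fun i => LinearMap.proj i)
    let e₀ : Fin (n + 1) → R := Pi.single 0 1
    have he₀ : e₀ ≠ 0 → u e₀ ≠ 0 := fun h0 h => h0 (hu (by rw [h, map_zero]))
    obtain ⟨ρ₀, hρ₀⟩ : ∃ ρ₀ : (κ →₀ R) →ₗ[R] R, ρ₀ (u e₀) = 1 := by
      let I : Ideal R := Ideal.span (Set.range fun k : (u e₀).support => u e₀ k.1)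
      have hI : I.annihilator = ⊥ := by
        refine eq_bot_iff.2 fun a ha => ?_
        have h0 : u (a • e₀) = 0 := by
          rw [map_smul]
          ext k
          by_cases hk : k ∈ (u e₀).support
          · simpa using Submodule.mem_annihilator.1 ha _ (Ideal.subset_span ⟨⟨k, hk⟩, rfl⟩)
          · simp [Finsupp.notMem_support_iff.1 hk]
        have := congrFun (hu (h0.trans (map_zero u).symm)) 0
        simpa [e₀] using this
      have hIt : I = ⊤ := by
        by_contra h
        exact hP I (Submodule.fg_span (Set.finite_range _)) h hI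
      obtain ⟨c, hc⟩ := Ideal.mem_span_range_iff_exists_fun.1
        ((Ideal.eq_top_iff_one I).1 hIt)
      refine ⟨∑ k, c k • Finsupp.lapply k.1, ?_⟩
      simpa using hc
    let pr : (κ →₀ R) →ₗ[R] (κ →₀ R) :=
      LinearMap.id - (LinearMap.toSpanSingleton R _ (u e₀)) ∘ₗ ρ₀
    have hv : Function.Injective (pr ∘ₗ u ∘ₗ inc) := by
      rw [injective_iff_map_eq_zero]
      intro c hc
      simp only [LinearMap.comp_apply, pr, LinearMap.sub_apply, LinearMap.id_apply,
        LinearMap.toSpanSingleton_apply, sub_eq_zero, ← map_smul] at hc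
      have := hu hc
      funext i
      simpa [inc, e₀] using congrFun this i.succ
    obtain ⟨σ, hσ⟩ := ih κ _ hv
    let σ' : (κ →₀ R) →ₗ[R] (Fin n → R) := σ ∘ₗ pr
    let ρ : (κ →₀ R) →ₗ[R] (Fin (n + 1) → R) :=
      LinearMap.toSpanSingleton R _ e₀ ∘ₗ ρ₀ ∘ₗ (LinearMap.id - u ∘ₗ inc ∘ₗ σ') + inc ∘ₗ σ'
    refine ⟨ρ, ?_⟩
    have h1 : ρ (u e₀) = e₀ := by
      have : pr (u e₀) = 0 := by simp [pr, hρ₀]
      simp [ρ, σ', this, hρ₀]
    have h2 : ∀ c, ρ (u (inc c)) = inc c := fun c => by
      have : σ' (u (inc c)) = c := LinearMap.congr_fun hσ c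
      simp [ρ, this]
    have hdec : ∀ c : Fin (n + 1) → R, c = c 0 • e₀ + inc (fun i => c i.succ) := fun c => by
      funext i
      refine Fin.cases ?_ (fun j => ?_) i <;> simp [inc, e₀]
    refine LinearMap.ext fun c => ?_
    rw [LinearMap.comp_apply, LinearMap.id_apply, hdec c]
    simp [h1, h2]

open Groth.Agent.Lib.Pure in
theorem injective_free (R : Type u) [CommRing R]
    (hP : ∀ I : Ideal R, I.FG → I ≠ ⊤ → I.annihilator ≠ ⊥) (ι κ : Type u)
    (u : (ι →₀ R) →ₗ[R] (κ →₀ R)) (hu : Function.Injective u) :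
    CAlgX.UniversallyInjective R u := by
  classical
  refine (UI.iff_equational u).2 ⟨hu, fun n m x y a h => ?_⟩
  let s : Finset ι := Finset.univ.biUnion fun i => (x i).support
  let e : (s →₀ R) ≃ₗ[R] (Fin s.card → R) :=
    (Finsupp.domLCongr s.equivFin).trans (Finsupp.linearEquivFunOnFinite R R (Fin s.card))
  let j : (s →₀ R) →ₗ[R] (ι →₀ R) := Finsupp.lmapDomain R R Subtype.val
  have hj : Function.Injective j := Finsupp.mapDomain_injective Subtype.val_injective
  obtain ⟨ρ, hρ⟩ := exists_retraction R hP s.card κ (u ∘ₗ j ∘ₗ e.symm.toLinearMap)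
    ((hu.comp hj).comp e.symm.injective)
  refine ⟨fun k => j (e.symm (ρ (y k))), fun i => ?_⟩
  obtain ⟨c, hc⟩ : ∃ c, j c = x i :=
    ⟨Finsupp.comapDomain Subtype.val (x i) Subtype.val_injective.injOn,
      Finsupp.mapDomain_comapDomain _ Subtype.val_injective _ fun k hk =>
        ⟨⟨k, Finset.mem_biUnion.2 ⟨i, Finset.mem_univ _, hk⟩⟩, rfl⟩⟩
  have h2 : ρ (u (j c)) = e c := by simpa using LinearMap.congr_fun hρ (e c)
  rw [← map_smul_sum j e.symm ρ, ← h i, ← hc, h2, e.symm_apply_apply]
where
  map_smul_sum {R : Type u} [CommRing R] {A B C D : Type u} [AddCommGroup A] [AddCommGroup B]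
      [AddCommGroup C] [AddCommGroup D] [Module R A] [Module R B] [Module R C] [Module R D]
      (j : B →ₗ[R] A) (e : C ≃ₗ[R] B) (ρ : D →ₗ[R] C) {m : ℕ} {a : Fin m → R} {y : Fin m → D} :
      j (e (ρ (∑ k, a k • y k))) = ∑ k, a k • j (e (ρ (y k))) := by
    simp

open Groth.Agent.Lib.Pure in
theorem injective_projective (R : Type u) [CommRing R]
    (hP : ∀ I : Ideal R, I.FG → I ≠ ⊤ → I.annihilator ≠ ⊥) {N M : Type u} [AddCommGroup N]
    [Module R N] [Module.Projective R N] [AddCommGroup M] [Module R M] [Module.Projective R M]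
    (u : N →ₗ[R] M) (hu : Function.Injective u) : CAlgX.UniversallyInjective R u := by
  classical
  obtain ⟨sN, hsN⟩ := (Module.projective_def (R := R) (P := N)).1 inferInstance
  obtain ⟨sM, hsM⟩ := (Module.projective_def (R := R) (P := M)).1 inferInstance
  let pN := Finsupp.linearCombination R (id : N → N)
  let t : (N →₀ R) →ₗ[R] (M ⊕ N →₀ R) :=
    Finsupp.lmapDomain R R Sum.inl ∘ₗ sM ∘ₗ u ∘ₗ pN +
      Finsupp.lmapDomain R R Sum.inr ∘ₗ (LinearMap.id - sN ∘ₗ pN)
  let qL : (M ⊕ N →₀ R) →ₗ[R] (M →₀ R) := Finsupp.lcomapDomain Sum.inl Sum.inl_injective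
  let qR : (M ⊕ N →₀ R) →ₗ[R] (N →₀ R) := Finsupp.lcomapDomain Sum.inr Sum.inr_injective
  have hL : ∀ x, qL (t x) = sM (u (pN x)) := fun x => by
    ext k
    simp [qL, t, Finsupp.mapDomain_apply Sum.inl_injective, Finsupp.mapDomain_of_notMem_range]
  have hR : ∀ x, qR (t x) = x - sN (pN x) := fun x => by
    ext k
    simp [qR, t, Finsupp.mapDomain_apply Sum.inr_injective, Finsupp.mapDomain_of_notMem_range]
  have hinj : Function.Injective t := by
    rw [injective_iff_map_eq_zero]
    intro x hx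
    have h1 := hL x
    have h2 := hR x
    rw [hx, map_zero] at h1 h2
    have h3 : u (pN x) = 0 := by simpa [hsM _] using congrArg (Finsupp.linearCombination R id) h1.symm
    have h4 : pN x = 0 := hu (h3.trans (map_zero u).symm)
    simpa [h4] using h2.symm
  have htN : t ∘ₗ sN = (Finsupp.lmapDomain R R Sum.inl ∘ₗ sM) ∘ₗ u := by
    ext n
    simp [t, pN, hsN n]
  have hUI := UI.comp (injective_free R hP _ _ t hinj)
    (UI.of_leftInverse (g := pN) (LinearMap.ext hsN))
  rw [htN] at hUI
  exact UI.of_comp hUI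


/-- Let R be a ring such that every proper finitely generated ideal of R has a nonzero annihilator, and
let u : N → M be an R-linear map between projective R-modules. Then u stays injective after
tensoring with every R-module exactly when u is injective. -/
theorem result (R : Type u) [CommRing R]
    (hP : (∀ I : Ideal R, I.FG → I ≠ ⊤ → I.annihilator ≠ ⊥))
    (N M : Type u) [AddCommGroup N] [Module R N] [Module.Projective R N] [AddCommGroup M]
    [Module R M] [Module.Projective R M] (u : N →ₗ[R] M) :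
    CAlgX.UniversallyInjective R u ↔ Function.Injective u := by
  exact ⟨Groth.Agent.Lib.Pure.UI.injective, injective_projective R hP u⟩

end Groth.Agent.S9284
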