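import Groth.Statements.S9285


set_option autoImplicit false
universe u
open CAlg

namespace Groth.Agent.S9285

/-- A ring R has the property that every proper finitely generated ideal has a nonzero annihilator if
and only if every injective linear map R → R^n admits a retraction. -/
theorem result (R : Type u) [CommRing R] :
    (∀ I : Ideal R, I.FG → I ≠ ⊤ → I.annihilator ≠ ⊥) ↔
      ∀ (n : ℕ) (u : R →ₗ[R] (Fin n → R)), Function.Injective u →
        ∃ v : (Fin n → R) →ₗ[R] R, v.comp u = LinearMap.id := by
  classical
  constructor
  · intro h n u hu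
    set I := Ideal.span (Set.range (u 1)) with hI
    have hann : I.annihilator = ⊥ := by
      rw [eq_bot_iff]
      intro r hr
      apply hu
      rw [map_zero, show r = r • (1 : R) by simp, map_smul]
      funext i
      exact Submodule.mem_annihilator.mp hr _ (Ideal.subset_span ⟨i, rfl⟩)
    have htop : I = ⊤ := by
      by_contra hne
      exact h I ⟨(Set.finite_range (u 1)).toFinset, by simp [hI]⟩ hne hann
    have h1 : (1 : R) ∈ I := htop ▸ Submodule.mem_top
    obtain ⟨c, hc⟩ := Ideal.mem_span_range_iff_exists_fun.mp h1
    refine ⟨∑ i, c i • LinearMap.proj i, LinearMap.ext_ring ?_⟩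
    simpa [LinearMap.sum_apply, mul_comm] using hc
  · intro h I hfg hne hann
    obtain ⟨n, x, hx⟩ := Submodule.fg_iff_exists_fin_generating_family.mp hfg
    obtain ⟨v, hv⟩ := h n (LinearMap.toSpanSingleton R _ x) (by
      rw [injective_iff_map_eq_zero]
      intro r hr
      have : r ∈ I.annihilator := by
        rw [← hx, Submodule.mem_annihilator_span]
        rintro ⟨_, i, rfl⟩
        exact congrFun hr i
      simpa [hann] using this)
    apply hne
    rw [Ideal.eq_top_iff_one]
    have h1 : v x = 1 := by
      have := LinearMap.congr_fun hv 1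
      simpa using this
    rw [← h1, pi_eq_sum_univ x, map_sum]
    refine sum_mem fun i _ => ?_
    rw [map_smul, smul_eq_mul, ← hx]
    exact Ideal.mul_mem_right _ _ (Submodule.subset_span ⟨i, rfl⟩)

end Groth.Agent.S9285
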