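import Groth.Statements.S9286
import Groth.Agent.H22.PropP

set_option autoImplicit false
universe u
open CAlg

namespace Groth.Agent.S9286

/-- Let R be a ring in which every proper finitely generated ideal has a nonzero annihilator. Given an
injective R-linear map u : N → M, where both N and M are finite and projective over R, the quotient
Coker(u) = M/u(N) is again projective as an R-module. -/
theorem result (R : Type u) [CommRing R]
    (hP : (∀ I : Ideal R, I.FG → I ≠ ⊤ → I.annihilator ≠ ⊥))
    (N M : Type u) [AddCommGroup N] [Module R N] [Module.Finite R N] [Module.Projective R N]
    [AddCommGroup M] [Module R M] [Module.Finite R M] [Module.Projective R M]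
    (u : N →ₗ[R] M) (hu : Function.Injective u) :
    Module.Projective R (M ⧸ LinearMap.range u) := by
  exact H22.PropP.projective_coker hP N M u hu

end Groth.Agent.S9286
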