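import Groth.Statements.S9288
import Groth.Agent.H19.EGA.DiffBasisFlat

set_option autoImplicit false
universe u
open CAlg

namespace Groth.Agent.S9288

open IsLocalRing in
/-- The main step. -/
theorem flat_and_regular (p : ℕ)
    [Fact p.Prime] (k : Type u) [Field k] [CharP k p] (A : Type u) [CommRing A] [IsLocalRing A]
    [IsNoetherianRing A] [Algebra k A] (hA : CAlg.IsGeometricallyRegular k A)
    (F : IntermediateField k (ResidueField A)) (m : ℕ)
    (φ : MvPolynomial (Fin m) k →ₐ[k] A)
    (hφ : ∀ i : Fin m, residue A (φ (MvPolynomial.X i)) ∈ F)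
    (hb : LinearIndependent F
        (fun i : Fin m => KaehlerDifferential.D k F ⟨residue A (φ (MvPolynomial.X i)), hφ i⟩) ∧
      Submodule.span F (Set.range
        (fun i : Fin m => KaehlerDifferential.D k F ⟨residue A (φ (MvPolynomial.X i)), hφ i⟩)) = ⊤) :
    letI := φ.toRingHom.toAlgebra
    Module.Flat (MvPolynomial (Fin m) k) A ∧
      IsRegularLocalRing (A ⧸ Ideal.map φ.toRingHom (Ideal.comap φ.toRingHom (maximalIdeal A))) := by
  classical
  letI algPA : Algebra (MvPolynomial (Fin m) k) A := φ.toRingHom.toAlgebra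
  haveI : IsScalarTower k (MvPolynomial (Fin m) k) A := IsScalarTower.of_algebraMap_eq fun c => (φ.commutes c).symm
  let 𝔭 : Ideal (MvPolynomial (Fin m) k) := (maximalIdeal A).comap φ.toRingHom
  let S := Localization.AtPrime 𝔭
  letI algSA : Algebra S A := (IsLocalization.lift (M := 𝔭.primeCompl) (S := S)
    (g := φ.toRingHom) fun x => not_not.1 fun h => x.2 ((mem_maximalIdeal _).2 h)).toAlgebra
  haveI : IsScalarTower (MvPolynomial (Fin m) k) S A := IsScalarTower.of_algebraMap_eq fun x =>
    (IsLocalization.lift_eq _ x).symm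
  haveI : IsScalarTower k S A := IsScalarTower.of_algebraMap_eq fun c => by
    rw [IsScalarTower.algebraMap_apply k (MvPolynomial (Fin m) k) S,
      ← IsScalarTower.algebraMap_apply (MvPolynomial (Fin m) k) S A,
      ← IsScalarTower.algebraMap_apply k (MvPolynomial (Fin m) k) A]
  haveI : IsLocalHom (algebraMap S A) := ⟨fun x hx => by
    obtain ⟨a, t, rfl⟩ := IsLocalization.exists_mk'_eq 𝔭.primeCompl x
    refine (IsLocalization.AtPrime.isUnit_mk'_iff S 𝔭 a t).2 fun ha => ?_
    have h1 : algebraMap S A (IsLocalization.mk' S a t) * φ (t : MvPolynomial (Fin m) k) = φ a := by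
      have h2 := congrArg (algebraMap S A) (IsLocalization.mk'_spec S a t)
      rwa [map_mul, ← IsScalarTower.algebraMap_apply, ← IsScalarTower.algebraMap_apply] at h2
    exact (mem_maximalIdeal _).1 ha (h1 ▸ (hx.mul (not_not.1 fun h => t.2 ((mem_maximalIdeal _).2 h))))⟩
  haveI : IsRegularLocalRing S := IsRegularRing.isRegularLocalRing_localization 𝔭
  have hFS := H68.FlatFibre.adic_iff_isGeometricallyRegular.mpr hA
  haveI : IsRegularLocalRing A := (Lib.SymGr.RegularField.iff_regular_and_injective_int.1 hFS).1
  -- partial derivatives at the centre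
  let P := MvPolynomial (Fin m) k
  let y : Fin m → F := fun i => ⟨residue A (φ (MvPolynomial.X i)), hφ i⟩
  have hy : ∀ f : P, ((MvPolynomial.aeval y f : F) : ResidueField A) = residue A (φ f) := by
    intro f
    have h1 : (F.val.comp (MvPolynomial.aeval y)) = (IsScalarTower.toAlgHom k A (ResidueField A)).comp φ :=
      MvPolynomial.algHom_ext fun i => by simp [y]
    exact AlgHom.congr_fun h1 f
  have hchain : ∀ f : P, KaehlerDifferential.D k F (MvPolynomial.aeval y f) =
      ∑ j, MvPolynomial.aeval y (MvPolynomial.pderiv j f) • KaehlerDifferential.D k F (y j) := by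
    intro f
    induction f using MvPolynomial.induction_on with
    | C c => simp
    | add a b ha hb => simp only [map_add, ha, hb, add_smul, Finset.sum_add_distrib]
    | mul_X a i ha =>
      simp only [map_mul, Derivation.leibniz, ha, MvPolynomial.aeval_X, smul_eq_mul, map_add, add_smul,
        Finset.sum_add_distrib, Finset.smul_sum, smul_smul]
      congr 1
      rw [Finset.sum_eq_single i (fun j _ hji => by rw [MvPolynomial.pderiv_X_of_ne (Ne.symm hji)]; simp)
        (by simp), MvPolynomial.pderiv_X_self, map_one, mul_one]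
  have hpart : ∀ f ∈ 𝔭, ∀ j, MvPolynomial.pderiv j f ∈ 𝔭 := by
    intro f hf j
    have h0 : MvPolynomial.aeval y f = 0 := Subtype.ext ((hy f).trans ((residue_eq_zero_iff _).2 hf))
    have h1 := hchain f
    rw [h0, map_zero, eq_comm] at h1
    have h2 := congrArg Subtype.val (Fintype.linearIndependent_iff.1 hb.1 _ h1 j)
    rw [hy] at h2
    exact (residue_eq_zero_iff _).1 h2
  -- generators of the maximal ideal of the centre
  haveI : IsRegularLocalRing (S ⧸ maximalIdeal S) := by
    letI := Ideal.Quotient.field (maximalIdeal S)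
    infer_instance
  obtain ⟨c, f₀, hf₀, hf₀span⟩ := H19.EGA.JacobianSmooth.exists_indep_gens (maximalIdeal S)
  have hclear : ∀ i, ∃ (a : P) (w : S), IsUnit w ∧ algebraMap P S a = w * f₀ i := fun i => by
    obtain ⟨a, t, hat⟩ := IsLocalization.exists_mk'_eq 𝔭.primeCompl (f₀ i : S)
    exact ⟨a, algebraMap P S t, IsLocalization.map_units S t, by
      rw [← hat, mul_comm, IsLocalization.mk'_spec]⟩
  choose u w hw huw using hclear
  have humem : ∀ i, algebraMap P S (u i) ∈ maximalIdeal S := fun i => huw i ▸
    Ideal.mul_mem_left _ _ (f₀ i).2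
  have hr : ∀ i, residue S (w i) ≠ 0 := fun i hc => (residue_eq_zero_iff (w i)).1 hc (hw i)
  have hli : LinearIndependent (ResidueField S)
      fun i => (maximalIdeal S).toCotangent ⟨_, humem i⟩ := by
    have h1 := hf₀.units_smul fun i => Units.mk0 (residue S (w i)) (hr i)
    convert h1 using 1
    funext i
    rw [show (⟨_, humem i⟩ : maximalIdeal S) = w i • f₀ i from Subtype.ext (huw i), LinearMap.map_smul,
      Pi.smul_apply', Units.smul_def, Units.val_mk0]
    exact (algebraMap_smul (ResidueField S) (w i) _).symm
  have hspan : maximalIdeal S = Ideal.span (Set.range fun i => algebraMap P S (u i)) := by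
    refine le_antisymm ?_ (Ideal.span_le.2 (Set.range_subset_iff.2 humem))
    conv_lhs => rw [hf₀span]
    rw [Ideal.span_le, Set.range_subset_iff]
    intro i
    obtain ⟨w', hw'⟩ := (hw i).exists_left_inv
    rw [show (f₀ i : S) = w' * algebraMap P S (u i) by rw [huw, ← mul_assoc, hw', one_mul]]
    exact Ideal.mul_mem_left _ _ (Ideal.subset_span ⟨i, rfl⟩)
  haveI : Algebra.FormallySmooth (⊥ : Subfield k) (ResidueField S) :=
    Lib.SymGr.OverField.formallySmooth_bot _
  haveI : IsScalarTower (⊥ : Subfield k) P A := ⟨fun c x y => smul_assoc (c : k) x y⟩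
  haveI : IsScalarTower (⊥ : Subfield k) P S := ⟨fun c x y => smul_assoc (c : k) x y⟩
  have hindep := H19.EGA.DiffBasisFlat.indep_image (k₀ := (⊥ : Subfield k)) (k := k) (S := S) (A := A)
    (Lib.SymGr.OverField.iff_symGr_and_injective_bot.1 hFS).2 (fun f hf j => by
      rw [IsScalarTower.algebraMap_apply P S (ResidueField S), ResidueField.algebraMap_eq,
        residue_eq_zero_iff, IsLocalization.AtPrime.to_map_mem_maximal_iff S 𝔭] at hf ⊢
      exact hpart f hf j) u humem hli
  obtain ⟨hregQ, hdimQ⟩ := Lib.Regular.Indep.quotient_of_indep _ hindep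
  have hidA : Ideal.span (Set.range fun i => algebraMap P A (u i)) = 𝔭.map φ.toRingHom := by
    have h1 : (maximalIdeal S).map (algebraMap S A) = 𝔭.map φ.toRingHom := by
      rw [← Localization.AtPrime.map_eq_maximalIdeal, Ideal.map_map, ← IsScalarTower.algebraMap_eq]
      rfl
    rw [← h1, hspan, Ideal.map_span, ← Set.range_comp]
    refine congrArg _ (congrArg Set.range (funext fun i => ?_))
    exact IsScalarTower.algebraMap_apply P S A (u i)
  have hSA : (maximalIdeal S).map (algebraMap S A) = Ideal.span (Set.range fun i => algebraMap P A (u i)) := by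
    rw [hidA, ← Localization.AtPrime.map_eq_maximalIdeal, Ideal.map_map, ← IsScalarTower.algebraMap_eq]
    rfl
  have hregI : IsRegularLocalRing (A ⧸ Ideal.span (Set.range fun i => algebraMap P A (u i))) := hregQ
  refine ⟨?_, hidA ▸ hregI⟩
  haveI : IsRegularLocalRing (A ⧸ (maximalIdeal S).map (algebraMap S A)) := hSA.symm ▸ hregI
  haveI : Module.Flat S A := Lib.JacCrit.FlatRegular.flat (by
    have hcS : ringKrullDim S ≤ c := by
      rw [← IsRegularLocalRing.spanFinrank_maximalIdeal (R := S)]
      norm_cast
      conv_lhs => rw [hspan]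
      refine (Submodule.spanFinrank_span_le_ncard_of_finite (Set.finite_range _)).trans ?_
      rw [← Set.image_univ]
      exact (Set.ncard_image_le (Set.finite_univ)).trans (by simp)
    calc ringKrullDim (A ⧸ (maximalIdeal S).map (algebraMap S A)) + ringKrullDim S
        ≤ ringKrullDim (A ⧸ (maximalIdeal S).map (algebraMap S A)) + c := by gcongr
      _ ≤ ringKrullDim A := le_of_eq (by rw [hSA]; exact hdimQ))
  exact Module.Flat.trans P S A



/-- Let k be a field of positive characteristic p and (A, m, K) a Noetherian local k-algebra which is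
geometrically regular over k. Let F ⊆ K be a subfield containing k, finitely generated over k, and φ
: k[y_1, ..., y_m] → A a k-algebra map such that each y_i maps into F (modulo m) and such that the
differentials of the images of y_1, ..., y_m form a basis of Ω_{F/k}. Let 𝔭 be the inverse image of
m in k[y_1, ..., y_m]. Then A is flat over k[y_1, ..., y_m] (equivalently over its localization at
𝔭, since A is local) and A/𝔭A is a regular local ring. -/
theorem result (p : ℕ)
    [Fact p.Prime] (k : Type u) [Field k] [CharP k p] (A : Type u) [CommRing A] [IsLocalRing A]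
    [IsNoetherianRing A] [Algebra k A] (hA : CAlg.IsGeometricallyRegular k A)
    (F : IntermediateField k (IsLocalRing.ResidueField A)) (hF : F.FG) (m : ℕ)
    (φ : MvPolynomial (Fin m) k →ₐ[k] A)
    (hφ : ∀ i : Fin m, IsLocalRing.residue A (φ (MvPolynomial.X i)) ∈ F)
    (hb : LinearIndependent F
        (fun i : Fin m => KaehlerDifferential.D k F ⟨IsLocalRing.residue A (φ (MvPolynomial.X i)), hφ i⟩) ∧
      Submodule.span F (Set.range
        (fun i : Fin m => KaehlerDifferential.D k F ⟨IsLocalRing.residue A (φ (MvPolynomial.X i)), hφ i⟩)) = ⊤) :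
    letI := φ.toRingHom.toAlgebra
    Module.Flat (MvPolynomial (Fin m) k) A ∧
      IsRegularLocalRing (A ⧸ Ideal.map φ.toRingHom
        (Ideal.comap φ.toRingHom (IsLocalRing.maximalIdeal A))) := by
  exact flat_and_regular p k A hA F m φ hφ hb

end Groth.Agent.S9288
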