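import Groth.Statements.S9289
import Groth.Agent.H68.QFFormalFibres

set_option autoImplicit false
universe u
open CAlg

namespace Groth.Agent.S9289

/-- Let R and R' be Noetherian rings with R' of finite type over R and quasi-finite at the prime p' of
R', lying over p. If R_p has geometrically regular formal fibres, so does R'_{p'}; stated as: if the
completion map of R_p is regular, so is that of R'_{p'}. -/
theorem result (R R' : Type u) [CommRing R]
    [CommRing R'] [IsNoetherianRing R] [IsNoetherianRing R'] [Algebra R R'] [Algebra.FiniteType R R']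
    (p' : Ideal R') [p'.IsPrime] [Algebra.QuasiFiniteAt R p']
    (h : CAlg.IsRegularHom (Localization.AtPrime (Ideal.comap (algebraMap R R') p'))
      (AdicCompletion (IsLocalRing.maximalIdeal (Localization.AtPrime (Ideal.comap (algebraMap R R') p')))
        (Localization.AtPrime (Ideal.comap (algebraMap R R') p')))) :
    CAlg.IsRegularHom (Localization.AtPrime p')
      (AdicCompletion (IsLocalRing.maximalIdeal (Localization.AtPrime p')) (Localization.AtPrime p')) := by
  let p := Ideal.comap (algebraMap R R') p'
  let A' := Localization.AtPrime p'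
  haveI : IsNoetherianRing A' := IsLocalization.isNoetherianRing p'.primeCompl _ inferInstance
  refine ⟨inferInstance, fun Q' _ =>
    ⟨Groth.Agent.Lib.Excellent.FibreNoetherian.isNoetherianRing_fibre _ Q', ?_⟩⟩
  let q := Q'.comap (algebraMap R A')
  have hd : Disjoint (p.primeCompl : Set R) (q : Set R) := by
    rw [Set.disjoint_left]
    intro r hr hrq
    refine ‹Q'.IsPrime›.ne_top (Ideal.eq_top_of_isUnit_mem _ hrq ?_)
    rw [IsScalarTower.algebraMap_apply R R' A']
    exact IsLocalization.map_units A' (⟨algebraMap R R' r, hr⟩ : p'.primeCompl)
  haveI : q.IsPrime := Ideal.IsPrime.comap _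
  let Q := q.map (algebraMap R (Localization.AtPrime p))
  haveI : Q.IsPrime := IsLocalization.isPrime_of_isPrime_disjoint p.primeCompl _ q inferInstance hd
  exact Groth.Agent.H68.QFFormalFibres.geometricallyRegular_of_quasiFiniteAt R R' p' Q' Q
    (IsLocalization.comap_map_of_isPrime_disjoint p.primeCompl (Localization.AtPrime p) ‹q.IsPrime› hd)
    (h.2 Q).2

end Groth.Agent.S9289
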