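import Groth.Statements.S9291
import Mathlib.RingTheory.Localization.Away.Basic
import Mathlib.RingTheory.Localization.Ideal
import Mathlib.RingTheory.Etale.Basic

set_option autoImplicit false
universe u
open EtAlg

namespace Groth.Agent.S9291

/-- Let A be a ring, I an ideal and u a unit of A/I. Then there is an étale ring map A → A' such that
A/I → A'/IA' is an isomorphism, together with a unit of A' mapping to the image of u. -/
theorem result (A : Type u) [CommRing A] (I : Ideal A) (u : (A ⧸ I)ˣ) :
    ∃ (A' : Type u) (_ : CommRing A') (_ : Algebra A A'), Algebra.Etale A A' ∧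
      Function.Bijective (Ideal.quotientMap (Ideal.map (algebraMap A A') I) (algebraMap A A')
        Ideal.le_comap_map) ∧
      ∃ u' : A'ˣ, Ideal.Quotient.mk (Ideal.map (algebraMap A A') I) (u' : A') =
        Ideal.quotientMap (Ideal.map (algebraMap A A') I) (algebraMap A A') Ideal.le_comap_map
          (u : A ⧸ I) := by
  obtain ⟨a, ha⟩ := Ideal.Quotient.mk_surjective (u : A ⧸ I)
  obtain ⟨b, hb⟩ := Ideal.Quotient.mk_surjective ((u⁻¹ : (A ⧸ I)ˣ) : A ⧸ I)
  let A' := Localization.Away a
  have hu := IsLocalization.Away.algebraMap_isUnit (S := A') a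
  refine ⟨A', inferInstance, inferInstance, Algebra.Etale.of_isLocalizationAway a, ?_, hu.unit, ?_⟩
  · refine ⟨(injective_iff_map_eq_zero _).2 fun q hq => ?_, fun q => ?_⟩
    · obtain ⟨x, rfl⟩ := Ideal.Quotient.mk_surjective q
      rw [Ideal.quotientMap_mk, Ideal.Quotient.eq_zero_iff_mem,
        IsLocalization.algebraMap_mem_map_algebraMap_iff (Submonoid.powers a)] at hq
      obtain ⟨_, ⟨k, rfl⟩, hk⟩ := hq
      have h : (u : A ⧸ I) ^ k * Ideal.Quotient.mk I x = 0 := by
        rw [← ha, ← map_pow, ← map_mul, Ideal.Quotient.eq_zero_iff_mem]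
        exact hk
      exact ((u.isUnit.pow k).mul_right_eq_zero).1 h
    · obtain ⟨z, rfl⟩ := Ideal.Quotient.mk_surjective q
      obtain ⟨k, x, hx⟩ := IsLocalization.Away.surj a z
      refine ⟨Ideal.Quotient.mk I (x * b ^ k), ?_⟩
      rw [Ideal.quotientMap_mk, Ideal.Quotient.eq, map_mul, ← hx, map_pow, mul_assoc, ← mul_pow,
        show z * (algebraMap A A' a * algebraMap A A' b) ^ k - z =
          z * ((algebraMap A A' a * algebraMap A A' b) ^ k - 1) by ring]
      refine Ideal.mul_mem_left _ _ ?_
      rw [← map_mul, ← map_pow, ← map_one (algebraMap A A'), ← map_sub]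
      refine Ideal.mem_map_of_mem _ (Ideal.Quotient.eq.1 ?_)
      rw [map_pow, map_mul, ha, hb, u.mul_inv, one_pow, map_one]
  · rw [← ha, Ideal.quotientMap_mk, IsUnit.unit_spec]

end Groth.Agent.S9291
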