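import Groth.Statements.S9292
import Mathlib.RingTheory.Localization.Away.Basic
import Mathlib.RingTheory.Etale.Basic
import Mathlib.RingTheory.Etale.Pi
import Mathlib.RingTheory.Idempotents
import Mathlib.RingTheory.Localization.Ideal

set_option autoImplicit false
universe u
open EtAlg

namespace Groth.Agent.S9292

/-- Let A be a ring, I an ideal, and e_1, ..., e_n a complete system of orthogonal idempotents of A/I
(equivalently a finite disjoint open covering of Spec(A/I)). Then one can find an A-algebra A' that
is étale over A, such that the induced map A/I → A'/IA' is bijective, together with a complete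
system of orthogonal idempotents of A' lifting the e_j. -/
theorem result (A : Type u) [CommRing A] (I : Ideal A)
    (n : ℕ) (e : Fin n → A ⧸ I) (he : CompleteOrthogonalIdempotents e) :
    ∃ (A' : Type u) (_ : CommRing A') (_ : Algebra A A'), Algebra.Etale A A' ∧
      Function.Bijective (Ideal.quotientMap (Ideal.map (algebraMap A A') I) (algebraMap A A')
        Ideal.le_comap_map) ∧
      ∃ e' : Fin n → A', CompleteOrthogonalIdempotents e' ∧
        ∀ j, Ideal.Quotient.mk (Ideal.map (algebraMap A A') I) (e' j) =
          Ideal.quotientMap (Ideal.map (algebraMap A A') I) (algebraMap A A') Ideal.le_comap_map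
            (e j) := by
  classical
  choose E hE using fun j => Ideal.Quotient.mk_surjective (e j)
  let B := Fin n → A
  let g : B := E
  let A' := Localization.Away g
  have hEt : Algebra.Etale A B := inferInstance
  have : Algebra.Etale B A' := Algebra.Etale.of_isLocalizationAway g
  have hA' : Algebra.Etale A A' := Algebra.Etale.comp A B A'
  have hmap : I.map (algebraMap A A') = (I.map (algebraMap A B)).map (algebraMap B A') := by
    rw [Ideal.map_map, ← IsScalarTower.algebraMap_eq]
  have hmemB : ∀ v : B, v ∈ I.map (algebraMap A B) ↔ ∀ j, v j ∈ I := by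
    intro v
    constructor
    · intro hv j
      have h := Ideal.mem_map_of_mem (Pi.evalRingHom (fun _ => A) j) hv
      rw [Ideal.map_map] at h
      have : (Pi.evalRingHom (fun _ => A) j).comp (algebraMap A B) = RingHom.id A := rfl
      rw [this, Ideal.map_id] at h
      exact h
    · intro hv
      rw [show v = ∑ j, algebraMap A B (v j) * Pi.single j 1 from funext fun i => by
        simp [B, Finset.sum_apply, Pi.single_apply]]
      exact Ideal.sum_mem _ fun j _ => Ideal.mul_mem_right _ _ (Ideal.mem_map_of_mem _ (hv j))
  have hee : ∀ i j, e i * e j = if i = j then e i else 0 := fun i j => by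
    by_cases h : i = j
    · subst h; simp [(he.idem i).eq]
    · simp [h, he.ortho h]
  have hkill : ∀ v : B, (∀ i, e i * Ideal.Quotient.mk I (v i) = 0) →
      algebraMap B A' v ∈ I.map (algebraMap A A') := by
    intro v hv
    rw [hmap, IsLocalization.algebraMap_mem_map_algebraMap_iff (Submonoid.powers g)]
    refine ⟨g, ⟨1, pow_one g⟩, (hmemB _).2 fun i => ?_⟩
    rw [← Ideal.Quotient.eq_zero_iff_mem, Pi.mul_apply, map_mul, hE]
    exact hv i
  refine ⟨A', inferInstance, inferInstance, hA', ⟨(injective_iff_map_eq_zero _).2 fun q hq => ?_,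
    fun q => ?_⟩, fun j => algebraMap B A' (Pi.single j 1),
    (CompleteOrthogonalIdempotents.single fun _ : Fin n => A).map (algebraMap B A'), fun j => ?_⟩
  · obtain ⟨x, rfl⟩ := Ideal.Quotient.mk_surjective q
    rw [Ideal.quotientMap_mk, Ideal.Quotient.eq_zero_iff_mem, IsScalarTower.algebraMap_apply A B A',
      hmap, IsLocalization.algebraMap_mem_map_algebraMap_iff (Submonoid.powers g)] at hq
    obtain ⟨_, ⟨k, rfl⟩, hk⟩ := hq
    have h : ∀ i, e i ^ k * Ideal.Quotient.mk I x = 0 := fun i => by
      rw [← hE, ← map_pow, ← map_mul, Ideal.Quotient.eq_zero_iff_mem]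
      exact (hmemB _).1 hk i
    have h' : ∀ i, e i * Ideal.Quotient.mk I x = 0 := fun i => by
      rcases Nat.eq_zero_or_pos k with rfl | hk0
      · rw [show Ideal.Quotient.mk I x = 0 by simpa using h i, mul_zero]
      · rw [← (he.idem i).pow_eq hk0.ne']; exact h i
    rw [← one_mul (Ideal.Quotient.mk I x), ← he.complete, Finset.sum_mul]
    exact Finset.sum_eq_zero fun i _ => h' i
  · obtain ⟨z, rfl⟩ := Ideal.Quotient.mk_surjective q
    obtain ⟨k, v, hv⟩ := IsLocalization.Away.surj g z
    refine ⟨Ideal.Quotient.mk I (∑ i, E i * v i), ?_⟩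
    rw [Ideal.quotientMap_mk, Ideal.Quotient.eq, ← neg_sub, neg_mem_iff]
    obtain ⟨w, hw⟩ := ((IsLocalization.Away.algebraMap_isUnit (S := A') g).pow k).exists_right_inv
    have key : z - algebraMap A A' (∑ i, E i * v i) =
        algebraMap B A' (v - algebraMap A B (∑ i, E i * v i) * g ^ k) * w := by
      rw [map_sub, map_mul, map_pow, ← IsScalarTower.algebraMap_apply, ← hv, sub_mul, mul_assoc,
        mul_assoc, hw, mul_one, mul_one]
    rw [key]
    refine Ideal.mul_mem_right _ _ (hkill _ fun i => ?_)
    have hp : e i * e i ^ k = e i := by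
      rw [← pow_succ', (he.idem i).pow_succ_eq]
    rw [Pi.sub_apply, Pi.mul_apply, Pi.pow_apply,
      show algebraMap A B (∑ i, E i * v i) i = ∑ i, E i * v i from rfl,
      map_sub, map_mul, map_pow, map_sum, show Ideal.Quotient.mk I (g i) = e i from hE i]
    simp only [map_mul, hE]
    rw [mul_sub, mul_left_comm, hp, mul_comm _ (e i), Finset.mul_sum]
    simp [← mul_assoc, hee, ite_mul]
  · rw [← hE j, Ideal.quotientMap_mk, Ideal.Quotient.eq, IsScalarTower.algebraMap_apply A B A',
      ← map_sub]
    refine hkill _ fun i => ?_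
    by_cases h : i = j
    · subst h; simp [B, hE, mul_sub, hee]
    · simp [B, hE, mul_sub, hee, h]

end Groth.Agent.S9292
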