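import Groth.Statements.S9298
import Groth.Agent.H25.Algz.Core
import Groth.Agent.Lib.Excellent.CompletionNoetherian
import Mathlib.RingTheory.AdicCompletion.AsTensorProduct
import Mathlib.RingTheory.AdicCompletion.Completeness
import Mathlib.RingTheory.AdicCompletion.LocalRing

set_option autoImplicit false
universe u
open CAlg

namespace Groth.Agent.S9298

theorem mem_map_pow_iff {R : Type u} [CommRing R] (I : Ideal R) (hI : I.FG) (m : ℕ)
    (x : AdicCompletion I R) :
    x ∈ (I ^ m).map (algebraMap R (AdicCompletion I R)) ↔ AdicCompletion.evalₐ I m x = 0 := by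
  have h1 := AdicCompletion.pow_smul_top_eq_ker_eval (M := R) (n := m) hI
  rw [Ideal.smul_top_eq_map] at h1
  have h : (I ^ m • ⊤ : Ideal R) = I ^ m := by ext x; simp
  rw [show x ∈ (I ^ m).map (algebraMap R (AdicCompletion I R)) ↔
    x ∈ LinearMap.ker (AdicCompletion.eval I R m) from by rw [← h1]; rfl]
  exact (map_eq_zero_iff (Ideal.quotientEquivAlgOfEq R h) (AlgEquiv.injective _)).symm

theorem aux {B : Type u} [CommRing B] [IsNoetherianRing B] (IB : Ideal B) {C : Type u} [CommRing C]
    (π : AdicCompletion IB B →+* C) (hπ : Function.Surjective π) (c : ℕ)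
    (hJ : IB.map (algebraMap B (AdicCompletion IB B)) ^ c * RingHom.ker π ≤ RingHom.ker π ^ 2) :
    ∃ (D : Type u) (_ : CommRing D) (_ : Algebra B D), Algebra.FiniteType B D ∧
      ∀ ID : Ideal D, ID = IB.map (algebraMap B D) →
        ∃ e : C ≃+* AdicCompletion ID D,
          ∀ b : B, e (π (algebraMap B _ b)) = algebraMap D _ (algebraMap B D b) := by
  haveI : IsNoetherianRing (AdicCompletion IB B) :=
    Lib.Excellent.CompletionNoetherian.isNoetherianRing_adicCompletion _
  have hfg : IB.FG := IsNoetherian.noetherian IB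
  haveI := AdicCompletion.isAdicComplete_self IB hfg
  have hlift : ∀ (m : ℕ) (p : AdicCompletion IB B), ∃ b : B,
      p - algebraMap B _ b ∈ (IB ^ m).map (algebraMap B (AdicCompletion IB B)) := by
    intro m p
    obtain ⟨b, hb⟩ := Ideal.Quotient.mk_surjective (AdicCompletion.evalₐ IB m p)
    refine ⟨b, (mem_map_pow_iff IB hfg m _).2 ?_⟩
    rw [map_sub, AlgHom.commutes]
    exact sub_eq_zero.2 hb.symm
  have hker : ∀ (m : ℕ) (b : B),
      algebraMap B _ b ∈ (IB ^ m).map (algebraMap B (AdicCompletion IB B)) → b ∈ IB ^ m := by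
    intro m b hb
    rw [mem_map_pow_iff IB hfg m, AlgHom.commutes] at hb
    exact Ideal.Quotient.eq_zero_iff_mem.1 hb
  have hprec : ∀ f : ℕ → AdicCompletion IB B,
      (∀ m, f (m + 1) - f m ∈ (IB ^ m).map (algebraMap B (AdicCompletion IB B))) →
      ∃ L, ∀ m, L - f m ∈ (IB ^ m).map (algebraMap B (AdicCompletion IB B)) := by
    intro f hf
    have hle : ∀ {m n : ℕ}, m ≤ n → f m ≡ f n [SMOD ((IB.map (algebraMap B (AdicCompletion IB B))) ^ m • ⊤ : Submodule (AdicCompletion IB B) (AdicCompletion IB B))] := by
      intro m n hmn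
      rw [SModEq.sub_mem, smul_eq_mul, Ideal.mul_top, ← neg_sub, neg_mem_iff]
      induction hmn with
      | refl => rw [sub_self]; exact zero_mem _
      | @step k hk ih =>
        rw [← sub_add_sub_cancel (f k.succ) (f k)]
        refine add_mem ?_ ih
        exact Ideal.pow_le_pow_right hk (by rw [← Ideal.map_pow]; exact hf k)
    obtain ⟨L, hL⟩ := IsPrecomplete.prec (inferInstance : IsPrecomplete (IB.map (algebraMap B (AdicCompletion IB B))) (AdicCompletion IB B)) hle
    refine ⟨L, fun m => ?_⟩
    have h1 := hL m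
    rw [SModEq.sub_mem, smul_eq_mul, Ideal.mul_top, ← neg_sub, neg_mem_iff, ← Ideal.map_pow] at h1
    exact h1
  exact H25.Algz.core IB hlift hker π hπ c (IsAdicComplete.le_jacobson_bot _) hprec hJ


/-- Let A be a Noetherian ring, I an ideal, B a finite type A-algebra and B^ its I-adic completion. Let
π be a surjective ring map from B^ to C, with kernel J, and suppose some power I^c (c ≥ 0) kills the
conormal module J/J^2. Then, compatibly with the maps from A, C is isomorphic to the I-adic
completion of some finite type A-algebra. -/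
theorem result (A : Type u) [CommRing A]
    [IsNoetherianRing A] (I : Ideal A) (B : Type u) [CommRing B] [Algebra A B] [Algebra.FiniteType A B]
    (C : Type u) [CommRing C]
    (π : AdicCompletion (Ideal.map (algebraMap A B) I) B →+* C) (hπ : Function.Surjective π) (c : ℕ)
    (hJ : Ideal.map ((algebraMap B (AdicCompletion (Ideal.map (algebraMap A B) I) B)).comp
        (algebraMap A B)) I ^ c * RingHom.ker π ≤ RingHom.ker π ^ 2) :
    ∃ (D : Type u) (_ : CommRing D) (_ : Algebra A D), Algebra.FiniteType A D ∧
      ∃ e : C ≃+* AdicCompletion (Ideal.map (algebraMap A D) I) D,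
        ∀ a : A, e (π (algebraMap B _ (algebraMap A B a))) =
          algebraMap D _ (algebraMap A D a) := by
  haveI : IsNoetherianRing B := Algebra.FiniteType.isNoetherianRing A B
  obtain ⟨D, _, _, hD, he⟩ := aux _ π hπ c (by rwa [Ideal.map_map])
  letI : Algebra A D := ((algebraMap B D).comp (algebraMap A B)).toAlgebra
  haveI : IsScalarTower A B D := IsScalarTower.of_algebraMap_eq fun _ => rfl
  refine ⟨D, inferInstance, inferInstance, Algebra.FiniteType.trans (S := B) inferInstance hD, ?_⟩
  obtain ⟨e, he⟩ := he (I.map (algebraMap A D)) (by rw [Ideal.map_map]; rfl)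
  exact ⟨e, fun a => he (algebraMap A B a)⟩

end Groth.Agent.S9298
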