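import Groth.Statements.S9300
import Mathlib.RingTheory.Ideal.Maps

set_option autoImplicit false
universe u
open CAlg

namespace Groth.Agent.S9300

/-- Let A and B be domains and A → B a ring map for which the generic point of Spec(A) has a unique
preimage in Spec(B). Then every nonzero ideal of B has nonzero preimage in A. -/
theorem result (A B : Type u) [CommRing A] [IsDomain A]
    [CommRing B] [IsDomain B] (φ : A →+* B)
    (h : ∃! q : PrimeSpectrum B, Ideal.comap φ q.asIdeal = ⊥) (J : Ideal B) (hJ : J ≠ ⊥) :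
    Ideal.comap φ J ≠ ⊥ := by
  obtain ⟨q, hq, huniq⟩ := h
  have hinj : Function.Injective φ := by
    rw [RingHom.injective_iff_ker_eq_bot, eq_bot_iff, ← hq, RingHom.ker_eq_comap_bot]
    exact Ideal.comap_mono bot_le
  intro h0
  obtain ⟨P, hP, hle, hd⟩ := Ideal.exists_le_prime_disjoint J ((nonZeroDivisors A).map φ) <| by
    rw [Set.disjoint_left]
    intro x hx hx'
    obtain ⟨a, ha, rfl⟩ := hx'
    have : a ∈ Ideal.comap φ J := hx
    rw [h0, Ideal.mem_bot] at this
    exact nonZeroDivisors.ne_zero ha this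
  have hP0 : Ideal.comap φ P = ⊥ := by
    rw [eq_bot_iff]
    intro a ha
    by_contra hne
    exact Set.disjoint_left.mp hd ha ⟨a, mem_nonZeroDivisors_of_ne_zero hne, rfl⟩
  have hB0 : Ideal.comap φ (⊥ : Ideal B) = ⊥ := Ideal.comap_bot_of_injective φ hinj
  have h1 := huniq ⟨P, hP⟩ hP0
  have h2 := huniq ⟨⊥, Ideal.isPrime_bot⟩ hB0
  have : P = ⊥ := congrArg PrimeSpectrum.asIdeal (h1.trans h2.symm)
  exact hJ (eq_bot_iff.mpr (hle.trans this.le))

end Groth.Agent.S9300
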