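import Groth.Statements.S9301
import Mathlib.RingTheory.QuasiFinite.Basic
import Mathlib.RingTheory.Ideal.GoingUp
import Mathlib.RingTheory.Flat.TorsionFree
import Mathlib.RingTheory.Algebraic.Integral

set_option autoImplicit false
universe u
open CAlg
open scoped TensorProduct

namespace Groth.Agent.S9301

/-- Let A and B be domains and A → B a flat ring map which is the localization of a quasi-finite ring
map A → B₀ (of finite type with finite fibres). Then every nonzero ideal of B has nonzero preimage
in A. -/
theorem result (A B₀ B : Type u) [CommRing A] [IsDomain A]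
    [CommRing B₀] [CommRing B] [IsDomain B] [Algebra A B₀] [Algebra.FiniteType A B₀]
    [Algebra.QuasiFinite A B₀] (S : Submonoid B₀) [Algebra B₀ B] [IsLocalization S B] [Algebra A B]
    [IsScalarTower A B₀ B] [Module.Flat A B] (J : Ideal B) (hJ : J ≠ ⊥) :
    Ideal.comap (algebraMap A B) J ≠ ⊥ := by
  haveI : Algebra.QuasiFinite A B := by
    have : Algebra.QuasiFinite B₀ B := Algebra.QuasiFinite.of_isLocalization (R := B₀) (S := B₀) S
    exact Algebra.QuasiFinite.trans A B₀ B
  let K := FractionRing A
  let L := FractionRing B
  have hinj : Function.Injective (algebraMap A L) := by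
    rw [injective_iff_map_eq_zero]
    intro a ha
    by_contra hne
    rw [IsScalarTower.algebraMap_apply A B L, map_eq_zero_iff _ (IsFractionRing.injective B L)] at ha
    have hreg : IsSMulRegular B a := Module.Flat.isSMulRegular_of_isRegular (isRegular_of_ne_zero hne)
    have h1 : a • (1 : B) = a • (0 : B) := by
      rw [smul_zero, Algebra.smul_def, mul_one, ha]
    exact one_ne_zero (hreg h1)
  haveI : Algebra.QuasiFinite A L := Algebra.QuasiFinite.trans A B L
  haveI : FaithfulSMul A L := (faithfulSMul_iff_algebraMap_injective A L).2 hinj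
  letI : Algebra K L := FractionRing.liftAlgebra A L
  haveI : Algebra.QuasiFinite K (K ⊗[A] L) := inferInstance
  haveI : Algebra.QuasiFinite K L :=
    Algebra.QuasiFinite.of_surjective_algHom
      (Algebra.TensorProduct.lift (Algebra.ofId K L) (AlgHom.id A L) (fun _ _ => Commute.all _ _))
      (fun l => ⟨(1 : K) ⊗ₜ[A] l, by simp⟩)
  haveI : Module.Finite K L := Module.Finite.of_quasiFinite
  haveI : Algebra.IsAlgebraic K L := Algebra.IsAlgebraic.of_finite K L
  obtain ⟨b, hbJ, hb⟩ := (Submodule.ne_bot_iff J).1 hJ
  have halg : IsAlgebraic A b :=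
    (isAlgebraic_algebraMap_iff (IsFractionRing.injective B L)).1
      ((IsFractionRing.isAlgebraic_iff A K L).2 (Algebra.IsAlgebraic.isAlgebraic _))
  exact Ideal.comap_ne_bot_of_algebraic_mem hb hbJ halg

end Groth.Agent.S9301
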