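import Groth.Statements.S9302
import Groth.Agent.H48.Hens
import Mathlib.Algebra.Category.Ring.Limits
import Mathlib.CategoryTheory.Limits.ConcreteCategory.Basic

set_option autoImplicit false
universe u
open CategoryTheory
open EtAlg

namespace Groth.Agent.S9302

/-- Henselian pairs are preserved under limits: for an inverse system (A_j, I_j) of henselian pairs over
a preordered set J, the limit A = lim A_j with the ideal I = lim I_j (elements all of whose
projections lie in the I_j) is a henselian pair. -/
theorem result (J : Type u) [Preorder J] (F : J ⥤ CommRingCat.{u})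
    (I : ∀ j : J, Ideal (F.obj j))
    (hI : ∀ (i j : J) (φ : i ⟶ j), Ideal.map (F.map φ).hom (I i) ≤ I j)
    (h : ∀ j : J, HenselianRing (F.obj j) (I j)) :
    HenselianRing ((Limits.limit F : CommRingCat.{u}) : Type u)
      (⨅ j : J, Ideal.comap (Limits.limit.π F j).hom (I j)) := by
  refine H48.Hens.henselianRing_of_compatible (fun i j : J => i ≤ j)
    (fun {i j} e => (F.map (homOfLE e)).hom) (fun j => (Limits.limit.π F j).hom) ?_ ?_ ?_ I
    (fun {i j} e x hx => hI i j (homOfLE e) (Ideal.mem_map_of_mem _ hx)) h _ ?_
  · intro i j e
    rw [← CommRingCat.hom_comp, Limits.limit.w]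
  · intro a b hab
    exact Limits.Concrete.limit_ext F a b hab
  · intro x hx
    let s : (F ⋙ forget CommRingCat).sections := ⟨x, fun {i j} φ => by
      simpa [Subsingleton.elim φ (homOfLE φ.le)] using hx φ.le⟩
    refine ⟨(Limits.Types.isLimitEquivSections
      (Limits.isLimitOfPreserves (forget CommRingCat) (Limits.limit.isLimit F))).symm s, fun j => ?_⟩
    exact Limits.Types.isLimitEquivSections_symm_apply
      (Limits.isLimitOfPreserves (forget CommRingCat) (Limits.limit.isLimit F)) s j
  · intro x
    simp [Submodule.mem_iInf]

end Groth.Agent.S9302
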