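import Groth.Statements.S9303
import Mathlib.RingTheory.Localization.Away.Basic
import Mathlib.RingTheory.Ideal.Quotient.Operations
import Mathlib.RingTheory.Finiteness.Basic
import Mathlib.Algebra.Algebra.Prod
import Mathlib.Tactic.LinearCombination

set_option autoImplicit false
universe u
open CAlg

namespace Groth.Agent.S9303

/-- Let A be a ring, I a finitely generated ideal and A → C a ring map such that for every f ∈ I the map
A_f → C_f is the localization of A_f at an idempotent. Then there is a surjection A → C' (C' = A/K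
for an ideal K) such that A_f → (C × C')_f is an isomorphism for every f ∈ I. -/
theorem result (A : Type u) [CommRing A]
    (I : Ideal A) (hI : I.FG) (C : Type u) [CommRing C] [Algebra A C]
    (h : ∀ f ∈ I, ∃ e : Localization.Away f, IsIdempotentElem e ∧
      IsLocalization.Away e (Localization (Algebra.algebraMapSubmonoid C (Submonoid.powers f)))) :
    ∃ K : Ideal A, ∀ f ∈ I, Function.Bijective
      (algebraMap (Localization.Away f)
        (Localization (Algebra.algebraMapSubmonoid (C × (A ⧸ K)) (Submonoid.powers f)))) := by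
  classical
  let N : Ideal A := RingHom.ker (algebraMap A C)
  -- for each `f ∈ I`: a splitting `f ^ R = u + v` with `v ∈ N` and `u * N` killed by powers of `f`
  have key : ∀ f ∈ I, ∃ (R : ℕ) (u v : A), u + v = f ^ R ∧ v ∈ N ∧
      (∀ b ∈ N, ∃ n, f ^ n * (u * b) = 0) ∧
      Function.Surjective (algebraMap (Localization.Away f)
        (Localization (Algebra.algebraMapSubmonoid C (Submonoid.powers f)))) := by
    intro f hf
    obtain ⟨e, he, hloc⟩ := h f hf
    have hker : ∀ x : Localization.Away f,
        algebraMap _ (Localization (Algebra.algebraMapSubmonoid C (Submonoid.powers f))) x = 0 → e * x = 0 := by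
      intro x hx
      obtain ⟨⟨_, k, rfl⟩, hk⟩ := (IsLocalization.map_eq_zero_iff (Submonoid.powers e) _ x).mp hx
      rcases Nat.eq_zero_or_pos k with rfl | hk0
      · simp only [pow_zero, one_mul] at hk
        rw [hk, mul_zero]
      · obtain ⟨k, rfl⟩ := Nat.exists_eq_succ_of_ne_zero hk0.ne'
        change e ^ (k + 1) * x = 0 at hk
        rwa [IsIdempotentElem.pow_succ_eq k he] at hk
    have hsurj : Function.Surjective (algebraMap (Localization.Away f)
        (Localization (Algebra.algebraMapSubmonoid C (Submonoid.powers f)))) := by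
      intro y
      obtain ⟨⟨x, ⟨_, k, rfl⟩⟩, hx⟩ := IsLocalization.surj (Submonoid.powers e) y
      refine ⟨x, hx.symm.trans ?_⟩
      have h1 : algebraMap _ (Localization (Algebra.algebraMapSubmonoid C (Submonoid.powers f))) e = 1 := by
        have hu := IsLocalization.Away.algebraMap_isUnit (S := Localization (Algebra.algebraMapSubmonoid C (Submonoid.powers f))) e
        exact hu.mul_eq_left.mp (by rw [← map_mul, he.eq])
      rw [map_pow, h1, one_pow, mul_one]
    obtain ⟨⟨d, ⟨_, i, rfl⟩⟩, hd⟩ := IsLocalization.surj (Submonoid.powers f) (1 - e)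
    have hd0 : algebraMap C (Localization (Algebra.algebraMapSubmonoid C (Submonoid.powers f))) (algebraMap A C d) = 0 := by
      have h1 : algebraMap (Localization.Away f)
          (Localization (Algebra.algebraMapSubmonoid C (Submonoid.powers f))) (1 - e) = 0 := by
        have hu := IsLocalization.Away.algebraMap_isUnit (S := Localization (Algebra.algebraMapSubmonoid C (Submonoid.powers f))) e
        refine hu.mul_right_eq_zero.mp ?_
        rw [← map_mul, mul_sub, mul_one, he.eq, sub_self, map_zero]
      rw [← IsScalarTower.algebraMap_apply A C, IsScalarTower.algebraMap_apply A (Localization.Away f), ← hd,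
        map_mul, h1, zero_mul]
    obtain ⟨⟨_, _, ⟨j, rfl⟩, rfl⟩, hj⟩ :=
      (IsLocalization.map_eq_zero_iff (Algebra.algebraMapSubmonoid C (Submonoid.powers f)) _ _).mp hd0
    refine ⟨j + i, f ^ (j + i) - f ^ j * d, f ^ j * d, sub_add_cancel _ _, ?_, ?_, hsurj⟩
    · rw [RingHom.mem_ker, map_mul]; exact hj
    · intro b hb
      have hb' : algebraMap (Localization.Away f)
          (Localization (Algebra.algebraMapSubmonoid C (Submonoid.powers f))) (algebraMap A _ b) = 0 := by
        rw [← IsScalarTower.algebraMap_apply, IsScalarTower.algebraMap_apply A C, RingHom.mem_ker.mp hb, map_zero]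
      have h2 : algebraMap A (Localization.Away f) ((f ^ (j + i) - f ^ j * d) * b) = 0 := by
        rw [map_mul, map_sub, map_mul, ← hd, pow_add, map_mul,
          show algebraMap A (Localization.Away f) (f ^ j) * algebraMap A _ (f ^ i) -
            algebraMap A _ (f ^ j) * ((1 - e) * algebraMap A _ (f ^ i)) =
            algebraMap A _ (f ^ j) * algebraMap A _ (f ^ i) * e by ring,
          mul_assoc, hker _ hb', mul_zero]
      obtain ⟨⟨_, n, rfl⟩, hn⟩ := (IsLocalization.map_eq_zero_iff (Submonoid.powers f) _ _).mp h2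
      exact ⟨n, hn⟩
  choose R u v huv hv hu hsurj using key
  let K : Ideal A :=
    { carrier := {a | ∀ f ∈ I, ∀ b ∈ N, ∃ n, f ^ n * (a * b) = 0}
      zero_mem' := fun f _ b _ => ⟨0, by simp⟩
      add_mem' := fun {a a'} ha ha' f hf b hb => by
        obtain ⟨n, hn⟩ := ha f hf b hb
        obtain ⟨n', hn'⟩ := ha' f hf b hb
        exact ⟨n + n', by rw [pow_add, add_mul, mul_add]; linear_combination f ^ n' * hn + f ^ n * hn'⟩
      smul_mem' := fun c a ha f hf b hb => by
        obtain ⟨n, hn⟩ := ha f hf b hb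
        exact ⟨n, by rw [smul_eq_mul]; linear_combination c * hn⟩ }
  refine ⟨K, fun f hf => ?_⟩
  obtain ⟨s, hs⟩ := hI
  have hsI : ∀ g ∈ s, g ∈ I := fun g hg => hs ▸ Ideal.subset_span hg
  have hM : ∀ g : s, ∃ n, f ^ n * (u f hf * v g (hsI g g.2)) = 0 := fun g => hu f hf _ (hv g _)
  choose n hn using hM
  let M := Finset.univ.sup n
  have huK : f ^ M * u f hf ∈ K := by
    intro g hg b hb
    have hle : I ≤ (Submodule.span A {f ^ M * u f hf * b}).annihilator.radical := by
      rw [← hs, Ideal.span_le]
      intro g hg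
      obtain ⟨m, hm⟩ := hu g (hsI g hg) b hb
      refine ⟨m + R g (hsI g hg), ?_⟩
      rw [Submodule.mem_annihilator_span_singleton, smul_eq_mul]
      obtain ⟨c, hc⟩ := pow_dvd_pow f (Finset.le_sup (f := n) (Finset.mem_univ (⟨g, hg⟩ : s)))
      have h1 : f ^ M * (u f hf * v g (hsI g hg)) = 0 := by rw [hc, mul_comm (f ^ _) c, mul_assoc, hn ⟨g, hg⟩, mul_zero]
      have h2 := huv g (hsI g hg)
      rw [pow_add]
      linear_combination f ^ M * u f hf * hm + g ^ m * b * h1 - g ^ m * (f ^ M * u f hf * b) * h2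
    obtain ⟨m, hm⟩ := hle hg
    rw [Submodule.mem_annihilator_span_singleton, smul_eq_mul] at hm
    exact ⟨m, hm⟩
  obtain ⟨Rf, u', v', huv', hu', hv'⟩ : ∃ (Rf : ℕ) (u' v' : A), u' + v' = f ^ Rf ∧ u' ∈ K ∧ v' ∈ N :=
    ⟨M + R f hf, f ^ M * u f hf, f ^ M * v f hf, by rw [← mul_add, huv f hf, pow_add], huK, N.mul_mem_left _ (hv f hf)⟩
  let P := C × (A ⧸ K)
  have halg : ∀ a : A, algebraMap A P a = (algebraMap A C a, Ideal.Quotient.mk K a) := fun a => rfl
  constructor
  · rw [injective_iff_map_eq_zero]
    intro x hx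
    obtain ⟨a, ⟨_, i, rfl⟩, rfl⟩ := IsLocalization.exists_mk'_eq (Submonoid.powers f) x
    rw [IsLocalization.mk'_eq_zero_iff]
    have h0 : algebraMap (Localization.Away f) (Localization (Algebra.algebraMapSubmonoid P (Submonoid.powers f)))
        (algebraMap A _ a) = 0 := by
      rw [← IsLocalization.mk'_spec (Localization.Away f) a (⟨_, i, rfl⟩ : Submonoid.powers f), map_mul, hx, zero_mul]
    rw [← IsScalarTower.algebraMap_apply, IsScalarTower.algebraMap_apply A P] at h0
    obtain ⟨⟨_, _, ⟨m, rfl⟩, rfl⟩, hm⟩ :=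
      (IsLocalization.map_eq_zero_iff (Algebra.algebraMapSubmonoid P (Submonoid.powers f)) _ _).mp h0
    rw [← map_mul, halg, Prod.mk_eq_zero, Ideal.Quotient.eq_zero_iff_mem] at hm
    obtain ⟨n1, hn1⟩ := hu' f hf _ (RingHom.mem_ker.mpr hm.1 : _ ∈ N)
    obtain ⟨n2, hn2⟩ := hm.2 f hf v' hv'
    refine ⟨⟨_, n1 + n2 + Rf + m, rfl⟩, ?_⟩
    simp only [pow_add]
    linear_combination f ^ n2 * hn1 + f ^ n1 * hn2 - f ^ n1 * f ^ n2 * (f ^ m * a) * huv'
  · intro y
    obtain ⟨⟨c, k⟩, ⟨_, _, ⟨i, rfl⟩, rfl⟩, rfl⟩ :=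
      IsLocalization.exists_mk'_eq (Algebra.algebraMapSubmonoid P (Submonoid.powers f)) y
    obtain ⟨a2, rfl⟩ := Ideal.Quotient.mk_surjective k
    obtain ⟨x, hx⟩ := hsurj f hf (algebraMap C _ c)
    obtain ⟨a1, ⟨_, l, rfl⟩, rfl⟩ := IsLocalization.exists_mk'_eq (Submonoid.powers f) x
    have hc : ∃ (m : ℕ) (a1' : A), algebraMap A C a1' = algebraMap A C (f ^ m) * c := by
      have h1 : algebraMap C (Localization (Algebra.algebraMapSubmonoid C (Submonoid.powers f))) (algebraMap A C a1) =
          algebraMap C _ (algebraMap A C (f ^ l) * c) := by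
        rw [map_mul, ← hx, ← IsScalarTower.algebraMap_apply A C, ← IsScalarTower.algebraMap_apply A C,
          IsScalarTower.algebraMap_apply A (Localization.Away f), IsScalarTower.algebraMap_apply A (Localization.Away f) _ (f ^ l),
          ← map_mul]
        exact congrArg _ (IsLocalization.mk'_spec' (Localization.Away f) a1 (⟨f ^ l, l, rfl⟩ : Submonoid.powers f)).symm
      obtain ⟨⟨_, _, ⟨j, rfl⟩, rfl⟩, hj⟩ :=
        (IsLocalization.eq_iff_exists (Algebra.algebraMapSubmonoid C (Submonoid.powers f)) _).mp h1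
      refine ⟨j + l, f ^ j * a1, ?_⟩
      rw [map_mul, pow_add, map_mul, mul_assoc]
      exact hj
    obtain ⟨m, a1', ha1⟩ := hc
    refine ⟨IsLocalization.mk' _ (u' * a1' + v' * (f ^ m * a2)) (⟨f ^ (Rf + m + i), _, rfl⟩ : Submonoid.powers f), ?_⟩
    have hP : algebraMap A P (u' * a1' + v' * (f ^ m * a2)) = algebraMap A P (f ^ (Rf + m)) * (c, Ideal.Quotient.mk K a2) := by
      rw [halg, halg, Prod.mk_mul_mk, Prod.mk.injEq]
      constructor
      · rw [map_add, map_mul, map_mul (algebraMap A C) v', RingHom.mem_ker.mp hv', zero_mul, add_zero, ha1,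
          show u' = f ^ Rf - v' from eq_sub_of_add_eq huv', map_sub, RingHom.mem_ker.mp hv', sub_zero, ← mul_assoc, ← map_mul, ← pow_add]
      · rw [← map_mul, Ideal.Quotient.eq, show u' * a1' + v' * (f ^ m * a2) - f ^ (Rf + m) * a2 = u' * (a1' - f ^ m * a2) by
          rw [pow_add, ← huv']; ring]
        exact K.mul_mem_right _ hu'
    rw [IsLocalization.eq_mk'_iff_mul_eq, ← IsScalarTower.algebraMap_apply A P,
      IsScalarTower.algebraMap_apply A (Localization.Away f), ← map_mul]
    have hspec := IsLocalization.mk'_spec (Localization.Away f) (u' * a1' + v' * (f ^ m * a2)) (⟨f ^ (Rf + m + i), _, rfl⟩ : Submonoid.powers f)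
    have hu : IsUnit (algebraMap A (Localization (Algebra.algebraMapSubmonoid P (Submonoid.powers f))) (f ^ (Rf + m))) := by
      rw [IsScalarTower.algebraMap_apply A P]
      exact IsLocalization.map_units _ (⟨_, f ^ (Rf + m), ⟨_, rfl⟩, rfl⟩ : Algebra.algebraMapSubmonoid P (Submonoid.powers f))
    apply hu.mul_right_injective
    simp only
    rw [IsScalarTower.algebraMap_apply A (Localization.Away f), ← map_mul, mul_left_comm, ← map_mul (algebraMap A (Localization.Away f)), ← pow_add, hspec,
      ← IsScalarTower.algebraMap_apply, IsScalarTower.algebraMap_apply A P, hP, map_mul,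
      ← IsScalarTower.algebraMap_apply A P, ← IsScalarTower.algebraMap_apply A (Localization.Away f)]

end Groth.Agent.S9303
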