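import Groth.Statements.S9310
import Mathlib
import Groth.Agent.H24.PowerSeries

set_option autoImplicit false
universe u
open CAlg

namespace Groth.Agent.S9310

/-- Let K be a field, A = K[[x_1, ..., x_n]], and y_1, ..., y_n ∈ A a regular system of parameters (n
elements generating the maximal ideal). Then the substitution map K[[y_1, ..., y_n]] → A is an
isomorphism: f ↦ f(y_1, ..., y_n) is a bijection of K[[x_1, ..., x_n]] onto itself. -/
theorem result (K : Type u) [Field K] (n : ℕ)
    (y : Fin n → MvPowerSeries (Fin n) K)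
    (hy : Ideal.span (Set.range y) = IsLocalRing.maximalIdeal (MvPowerSeries (Fin n) K)) :
    Function.Bijective (MvPowerSeries.subst y : MvPowerSeries (Fin n) K → MvPowerSeries (Fin n) K) := by
  have hc : ∀ i, MvPowerSeries.constantCoeff (y i) = 0 := by
    intro i
    by_contra h
    have h1 : y i ∈ IsLocalRing.maximalIdeal (MvPowerSeries (Fin n) K) := hy ▸ Ideal.subset_span ⟨i, rfl⟩
    exact (IsLocalRing.mem_maximalIdeal _).mp h1 (MvPowerSeries.isUnit_iff_constantCoeff.mpr (Ne.isUnit h))
  have hs := MvPowerSeries.hasSubst_of_constantCoeff_zero hc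
  let f := (MvPowerSeries.substAlgHom (R := K) hs)
  have hf : (f : MvPowerSeries (Fin n) K → MvPowerSeries (Fin n) K) = MvPowerSeries.subst y :=
    MvPowerSeries.coe_substAlgHom hs
  rw [← hf]
  have := Groth.Agent.H24.PowerSeries.isAdicComplete K (Fin n)
  have hmap : (IsLocalRing.maximalIdeal (MvPowerSeries (Fin n) K)).map f.toRingHom =
      IsLocalRing.maximalIdeal (MvPowerSeries (Fin n) K) := by
    conv_lhs => rw [Groth.Agent.H24.PowerSeries.maximalIdeal_eq K (Fin n), Ideal.map_span, ← Set.range_comp]
    conv_rhs => rw [← hy]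
    exact congrArg (fun v => Ideal.span (Set.range v)) (funext fun i => MvPowerSeries.substAlgHom_X hs i)
  have hsurj : Function.Surjective f := by
    refine Groth.Agent.H24.PowerSeries.surjective_of_cotangent f.toRingHom ?_ hmap.le
      (hmap.symm ▸ le_sup_left)
    intro q
    obtain ⟨c, hcq⟩ := Groth.Agent.H24.PowerSeries.residue_surjective K (Fin n) q
    refine ⟨algebraMap K _ c, ?_⟩
    simp only [RingHom.comp_apply, AlgHom.toRingHom_eq_coe, RingHom.coe_coe, AlgHom.commutes]
    exact hcq
  exact ⟨Groth.Agent.H24.PowerSeries.injective_of_surjective f.toRingHom hsurj, hsurj⟩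

end Groth.Agent.S9310
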