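import Groth.Statements.S9311
import Groth.Agent.H24.PowerSeries
import Groth.Agent.Lib.Cohen.CTensorReduced
import Groth.Agent.H24.SectionPowerSeries

set_option autoImplicit false
universe u
open CAlg

namespace Groth.Agent.S9311

/-- Let Λ be a Cohen ring (a complete discrete valuation ring whose maximal ideal is generated by a
prime number p), B = Λ[[x_1, ..., x_n]], and y_1, ..., y_n ∈ B with zero constant terms such that p,
y_1, ..., y_n is a regular system of parameters of B (these n + 1 elements generate the maximal
ideal). Then the substitution map Λ[[y_1, ..., y_n]] → B is an isomorphism: f ↦ f(y_1, ..., y_n) is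
a bijection of Λ[[x_1, ..., x_n]] onto itself. (The published statement allows the y_i to have
constant terms in pΛ, the substitution being defined through the (p, x)-adic topology of B; this row
asks the constant terms to vanish, the case in which substitution is defined coefficientwise with no
topology on Λ.) -/
theorem result (Λ : Type u) [CommRing Λ] [IsDomain Λ]
    [IsDiscreteValuationRing Λ] [IsAdicComplete (IsLocalRing.maximalIdeal Λ) Λ] (p : ℕ) (hp : p.Prime)
    (hm : IsLocalRing.maximalIdeal Λ = Ideal.span {(p : Λ)}) (n : ℕ)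
    (y : Fin n → MvPowerSeries (Fin n) Λ) (hy0 : ∀ i, MvPowerSeries.constantCoeff (y i) = 0)
    (hy : Ideal.span (insert (p : MvPowerSeries (Fin n) Λ) (Set.range y)) =
      IsLocalRing.maximalIdeal (MvPowerSeries (Fin n) Λ)) :
    Function.Bijective (MvPowerSeries.subst y : MvPowerSeries (Fin n) Λ → MvPowerSeries (Fin n) Λ) := by
  classical
  let P := MvPowerSeries (Fin n) Λ
  have hs : MvPowerSeries.HasSubst y := MvPowerSeries.hasSubst_of_constantCoeff_zero hy0
  let φ : P →ₐ[Λ] P := MvPowerSeries.substAlgHom hs
  rw [show (MvPowerSeries.subst y : P → P) = φ from (MvPowerSeries.coe_substAlgHom hs).symm]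
  have hC : ∀ c : Λ, φ (MvPowerSeries.C c) = MvPowerSeries.C c := fun c => φ.commutes c
  have hcc : ∀ f : P, MvPowerSeries.constantCoeff (φ f) = MvPowerSeries.constantCoeff f := fun f => by
    have h1 : MvPowerSeries.constantCoeff (φ (f - MvPowerSeries.C (MvPowerSeries.constantCoeff f))) = 0 := by
      rw [MvPowerSeries.substAlgHom_apply]
      exact MvPowerSeries.constantCoeff_subst_eq_zero hs hy0 (by simp)
    rw [map_sub, hC, map_sub, MvPowerSeries.constantCoeff_C, sub_eq_zero] at h1
    exact h1
  have hmem : ∀ f : P, f ∈ IsLocalRing.maximalIdeal P ↔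
      MvPowerSeries.constantCoeff f ∈ IsLocalRing.maximalIdeal Λ := fun f =>
    not_congr MvPowerSeries.isUnit_iff_constantCoeff
  haveI : IsAdicComplete (IsLocalRing.maximalIdeal P) P := Groth.Agent.Lib.Cohen.CTensorReduced.isAdicComplete_ps Λ n
  have hle : (IsLocalRing.maximalIdeal P).map φ.toRingHom ≤ IsLocalRing.maximalIdeal P := by
    rw [Ideal.map_le_iff_le_comap]
    intro f hf
    rw [Ideal.mem_comap, hmem]
    show MvPowerSeries.constantCoeff (φ f) ∈ _
    rw [hcc, ← hmem]
    exact hf
  have hsurj : Function.Surjective φ.toRingHom := by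
    refine H24.PowerSeries.surjective_of_cotangent φ.toRingHom ?_ hle ?_
    · intro q
      obtain ⟨f, rfl⟩ := IsLocalRing.residue_surjective q
      refine ⟨MvPowerSeries.C (MvPowerSeries.constantCoeff f), ?_⟩
      rw [RingHom.comp_apply, ← sub_eq_zero, ← map_sub, IsLocalRing.residue_eq_zero_iff, hmem,
        map_sub]
      show MvPowerSeries.constantCoeff (φ _) - _ ∈ _
      rw [hC]
      simp
    · refine le_sup_of_le_left (le_of_eq_of_le hy.symm (Ideal.span_le.2 ?_))
      rintro g (rfl | ⟨i, rfl⟩)
      · have hp' : (p : P) ∈ IsLocalRing.maximalIdeal P := hy ▸ Ideal.subset_span (Set.mem_insert _ _)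
        simpa using Ideal.mem_map_of_mem φ.toRingHom hp'
      · have hX : (MvPowerSeries.X i : P) ∈ IsLocalRing.maximalIdeal P := by rw [hmem]; simp
        have h := Ideal.mem_map_of_mem φ.toRingHom hX
        rwa [show φ.toRingHom (MvPowerSeries.X i) = y i from MvPowerSeries.substAlgHom_X hs i] at h
  exact ⟨H24.PowerSeries.injective_of_surjective φ.toRingHom hsurj, hsurj⟩

end Groth.Agent.S9311
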