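import Groth.Statements.S9312
import Mathlib
-- import your own Groth.Agent.* helpers here

set_option autoImplicit false
universe u
open CAlg

namespace Groth.Agent.S9312


theorem exists_universal {G R : Type*} [CommRing R] [Group G] [Fintype G] [MulSemiringAction G R]
    {ι : Type*} [Fintype ι] (r : ι → R) :
    ∃ Φ : Polynomial (MvPolynomial ι (FixedPoints.subring R G)), Φ.Monic ∧
      Φ.map (MvPolynomial.map (FixedPoints.subring R G).subtype) =
        ∏ σ : G, (Polynomial.X - Polynomial.C (∑ i, MvPolynomial.C (σ • r i) * MvPolynomial.X i)) ∧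
      ∀ j, j < Fintype.card G → MvPolynomial.constantCoeff (Φ.coeff j) = 0 := by
  classical
  set P : Polynomial (MvPolynomial ι R) :=
    ∏ σ : G, (Polynomial.X - Polynomial.C (∑ i, MvPolynomial.C (σ • r i) * MvPolynomial.X i)) with hP
  have hinv : ∀ τ : G, P.map (MvPolynomial.map (MulSemiringAction.toRingHom G R τ)) = P := by
    intro τ
    rw [hP, Polynomial.map_prod]
    refine Fintype.prod_equiv (Equiv.mulLeft τ) _ _ fun σ => ?_
    rw [Polynomial.map_sub, Polynomial.map_X, Polynomial.map_C, map_sum]
    simp only [map_mul, MvPolynomial.map_C, MvPolynomial.map_X, MulSemiringAction.toRingHom_apply, Equiv.coe_mulLeft, mul_smul]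
  have hlift : P ∈ Polynomial.lifts (MvPolynomial.map (FixedPoints.subring R G).subtype) := by
    rw [Polynomial.lifts_iff_coeff_lifts]
    intro j
    rw [MvPolynomial.mem_range_map_iff_coeffs_subset]
    intro c hc
    obtain ⟨mo, -, rfl⟩ := MvPolynomial.mem_coeffs_iff.mp hc
    refine ⟨⟨_, fun τ => ?_⟩, rfl⟩
    have h := congrArg (fun p => MvPolynomial.coeff mo (Polynomial.coeff p j)) (hinv τ)
    have h' : τ • MvPolynomial.coeff mo (P.coeff j) = MvPolynomial.coeff mo (P.coeff j) := by
      simpa [Polynomial.coeff_map, MvPolynomial.coeff_map] using h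
    exact h'
  have hmon : P.Monic := Polynomial.monic_prod_of_monic _ _ fun σ _ => Polynomial.monic_X_sub_C _
  obtain ⟨Φ, hΦ, -, hΦm⟩ := Polynomial.lifts_and_natDegree_eq_and_monic hlift hmon
  refine ⟨Φ, hΦm, hΦ, fun j hj => ?_⟩
  apply Subtype.val_injective
  have h1 : (P.map (MvPolynomial.constantCoeff (R := R) (σ := ι))).coeff j = 0 := by
    rw [hP, Polynomial.map_prod]
    rw [Finset.prod_congr rfl (g := fun _ => (Polynomial.X : Polynomial R)) (fun σ _ => by
      rw [Polynomial.map_sub, Polynomial.map_X, Polynomial.map_C, map_sum]; simp)]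
    rw [Finset.prod_const, Polynomial.coeff_X_pow, Finset.card_univ, if_neg hj.ne]
  rw [← hΦ, Polynomial.coeff_map, Polynomial.coeff_map, MvPolynomial.constantCoeff_map] at h1
  exact h1

theorem eval_in_ideal {P σ R : Type*} [CommRing R] [CommRing P] [Algebra R P] {I : Ideal P} (i : σ → P) (hi : ∀ s, i s ∈ I)
    (f : MvPolynomial σ R) (hf : MvPolynomial.constantCoeff f = 0) : MvPolynomial.aeval i f ∈ I := by
  rw [← Ideal.Quotient.eq_zero_iff_mem, ← Ideal.Quotient.mkₐ_eq_mk R, ← AlgHom.comp_apply, MvPolynomial.comp_aeval]
  have : (fun s => Ideal.Quotient.mkₐ R I (i s)) = (0 : σ → P ⧸ I) := funext fun s => Ideal.Quotient.eq_zero_iff_mem.mpr (hi s)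
  rw [this, MvPolynomial.aeval_zero, hf, map_zero]

theorem map_universal {G R A T : Type*} [CommRing R] [Group G] [Fintype G] [MulSemiringAction G R] [CommRing T]
    {ι : Type*} [Fintype ι] (r : ι → R) (Φ : Polynomial (MvPolynomial ι (FixedPoints.subring R G)))
    (hΦ : Φ.map (MvPolynomial.map (FixedPoints.subring R G).subtype) =
      ∏ σ : G, (Polynomial.X - Polynomial.C (∑ i, MvPolynomial.C (σ • r i) * MvPolynomial.X i)))
    [CommRing A] [Algebra (FixedPoints.subring R G) A] (α : A →+* T) (ρ : R →+* T)
    (hαρ : ∀ s : FixedPoints.subring R G, α (algebraMap _ A s) = ρ s) (a : ι → A) (t : T)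
    (ht : ∀ σ : G, ∑ i, ρ (σ • r i) * α (a i) = t) :
    (Φ.map (MvPolynomial.aeval a).toRingHom).map α = (Polynomial.X - Polynomial.C t) ^ Fintype.card G := by
  have h1 : α.comp (MvPolynomial.aeval a).toRingHom =
      (MvPolynomial.eval₂Hom ρ (fun i => α (a i))).comp (MvPolynomial.map (FixedPoints.subring R G).subtype) := by
    apply MvPolynomial.ringHom_ext <;> intro x <;> simp [hαρ]
  rw [Polynomial.map_map, h1, ← Polynomial.map_map, hΦ, Polynomial.map_prod]
  rw [← Finset.card_univ, ← Finset.prod_const]
  refine Finset.prod_congr rfl fun σ _ => ?_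
  rw [Polynomial.map_sub, Polynomial.map_X, Polynomial.map_C, map_sum, ← ht σ]
  simp


/-- Let a finite group G with n elements act on a ring R by ring automorphisms, with invariant ring R^G,
and let A be an algebra over R^G; G acts on A ⊗ R through the factor R. (1) For every G-invariant b
∈ A ⊗ R there is a monic polynomial over A whose image in (A ⊗ R)[T] is (T - b)^n. (2) For every a
in the kernel of A → A ⊗ R, all coefficients of (T - a)^n below degree n vanish, that is (T - a)^n =
T^n in A[T]. -/
theorem result (R G A : Type u) [CommRing R] [Group G] [Fintype G]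
    [MulSemiringAction G R] [CommRing A] [Algebra (FixedPoints.subring R G) A] :
    (∀ b : TensorProduct (FixedPoints.subring R G) A R,
      (∀ σ : G, Algebra.TensorProduct.map (AlgHom.id (FixedPoints.subring R G) A)
        (MulSemiringAction.toAlgHom (FixedPoints.subring R G) R σ) b = b) →
      ∃ P : Polynomial A, P.Monic ∧
        Polynomial.map (algebraMap A (TensorProduct (FixedPoints.subring R G) A R)) P =
          (Polynomial.X - Polynomial.C b) ^ Fintype.card G) ∧
    (∀ a : A, algebraMap A (TensorProduct (FixedPoints.subring R G) A R) a = 0 →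
      ∀ i : ℕ, i < Fintype.card G → ((Polynomial.X - Polynomial.C a) ^ Fintype.card G).coeff i = 0) := by
  classical
  refine ⟨fun b hb => ?_, fun a ha => ?_⟩
  · obtain ⟨S, hS⟩ := TensorProduct.exists_finset b
    obtain ⟨Φ, hΦm, hΦ, -⟩ := exists_universal (G := G) (fun i : S => i.1.2)
    refine ⟨Φ.map (MvPolynomial.aeval (fun i : S => i.1.1)).toRingHom, hΦm.map _, ?_⟩
    refine map_universal (T := TensorProduct (FixedPoints.subring R G) A R) _ Φ hΦ _
      (Algebra.TensorProduct.includeRight : R →ₐ[FixedPoints.subring R G] _).toRingHom (fun s => ?_) _ b (fun σ => ?_)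
    · exact ((Algebra.TensorProduct.includeRight : R →ₐ[FixedPoints.subring R G] TensorProduct (FixedPoints.subring R G) A R).commutes s).symm.trans rfl |>.symm.symm
    · conv_rhs => rw [← hb σ, hS]
      rw [map_sum, ← Finset.sum_coe_sort S]
      refine Finset.sum_congr rfl fun i _ => ?_
      simp [Algebra.TensorProduct.tmul_mul_tmul]
  · -- a polynomial presentation of `A`
    let P := MvPolynomial A (FixedPoints.subring R G)
    let π : P →ₐ[FixedPoints.subring R G] A := MvPolynomial.aeval id
    have hπ : Function.Surjective π := fun x => ⟨MvPolynomial.X x, MvPolynomial.aeval_X _ _⟩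
    let I : Submodule (FixedPoints.subring R G) P := LinearMap.ker π.toLinearMap
    have hex := rTensor_exact (M := I) (N := P) (P := A) (f := I.subtype) (g := π.toLinearMap) R (show Function.Exact I.subtype π.toLinearMap from LinearMap.exact_subtype_ker_map π.toLinearMap) hπ
    obtain ⟨y, hy⟩ := (hex (MvPolynomial.X a ⊗ₜ[FixedPoints.subring R G] (1 : R))).mp (by
      rw [LinearMap.rTensor_tmul, AlgHom.toLinearMap_apply, MvPolynomial.aeval_X]
      exact ha)
    obtain ⟨S, hS⟩ := TensorProduct.exists_finset y
    obtain ⟨Φ, hΦm, hΦ, hΦ0⟩ := exists_universal (G := G) (fun i : S => i.1.2)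
    -- the comparison with polynomials over `R`
    let θ : TensorProduct (FixedPoints.subring R G) P R →ₐ[FixedPoints.subring R G] MvPolynomial A R :=
      Algebra.TensorProduct.productMap (MvPolynomial.mapAlgHom (Algebra.ofId _ R))
        (IsScalarTower.toAlgHom _ R (MvPolynomial A R))
    have hX : (MvPolynomial.X a : MvPolynomial A R) =
        ∑ i : S, MvPolynomial.C i.1.2 * MvPolynomial.map (FixedPoints.subring R G).subtype (i.1.1 : P) := by
      have := congrArg θ hy
      rw [hS, map_sum, map_sum, ← Finset.sum_coe_sort S] at this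
      simp only [LinearMap.rTensor_tmul, θ, Algebra.TensorProduct.productMap_apply_tmul] at this
      rw [map_one, mul_one] at this
      refine (MvPolynomial.map_X _ a).symm.trans (this.symm.trans (Finset.sum_congr rfl fun i _ => ?_))
      rw [mul_comm]; rfl
    have key := map_universal (T := MvPolynomial A R) _ Φ hΦ (MvPolynomial.map (FixedPoints.subring R G).subtype)
      (MvPolynomial.C) (fun s => MvPolynomial.map_C _ s) (fun i : S => (i.1.1 : P)) (MvPolynomial.X a) (fun σ => ?_)
    · rw [← MvPolynomial.map_X (FixedPoints.subring R G).subtype a, ← Polynomial.map_X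
        (MvPolynomial.map (FixedPoints.subring R G).subtype), ← Polynomial.map_C, ← Polynomial.map_sub,
        ← Polynomial.map_pow] at key
      have key' := Polynomial.map_injective _ (MvPolynomial.map_injective _ Subtype.val_injective) key
      intro j hj
      have h0 : MvPolynomial.aeval (fun i : S => (i.1.1 : P)) (Φ.coeff j) ∈ RingHom.ker π :=
        eval_in_ideal _ (fun i => (i.1.1 : I).2) _ (hΦ0 j hj)
      have h2 := congrArg (fun p : Polynomial P => (p.map π.toRingHom).coeff j) key'
      simp only [Polynomial.map_pow, Polynomial.map_sub, Polynomial.map_X, Polynomial.map_C, Polynomial.coeff_map] at h2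
      rw [show π.toRingHom (MvPolynomial.X a) = a from MvPolynomial.aeval_X _ _] at h2
      rw [← h2]
      exact h0
    · have := congrArg (MvPolynomial.map (MulSemiringAction.toRingHom G R σ)) hX
      rw [MvPolynomial.map_X, map_sum] at this
      refine (this.trans (Finset.sum_congr rfl fun i _ => ?_)).symm
      rw [map_mul, MvPolynomial.map_C, MvPolynomial.map_map]
      congr 1
      refine congrFun (congrArg (fun f => ⇑(MvPolynomial.map f)) ?_) _
      ext s
      exact s.2 σ

end Groth.Agent.S9312
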