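import Groth.Statements.S9313
import Groth.Agent.H21.IdemSplit

set_option autoImplicit false
universe u
open CAlg

namespace Groth.Agent.S9313

/-- Let A be a ring with an ideal I and A → B a ring map of finite type, and suppose B/IB = C_1 × C_2
(given by an idempotent e of B/IB with C_1 = (B/IB)/(1 - e)) where C_1 is finite over A/I. Writing
B' for the integral closure of A in B, some g ∈ B' has idempotent image in B'/IB' lifting e (so
B'/IB' = C_1' × C_2' compatibly with the decomposition of B/IB), and the map B'_g → B_g is an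
isomorphism (whence C_1' = C_1). -/
theorem result (A B : Type u) [CommRing A] [CommRing B]
    [Algebra A B] [Algebra.FiniteType A B] (I : Ideal A) (e : B ⧸ Ideal.map (algebraMap A B) I)
    (he : IsIdempotentElem e)
    (hfin : Module.Finite (A ⧸ I) ((B ⧸ Ideal.map (algebraMap A B) I) ⧸ Ideal.span {1 - e})) :
    ∃ g : integralClosure A B,
      IsIdempotentElem (Ideal.Quotient.mk (Ideal.map (algebraMap A (integralClosure A B)) I) g) ∧
      Ideal.Quotient.mk (Ideal.map (algebraMap A B) I) (g : B) = e ∧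
      Function.Bijective (algebraMap (Localization.Away g)
        (Localization (Algebra.algebraMapSubmonoid B (Submonoid.powers g)))) := by
  obtain ⟨e₀, rfl⟩ := Ideal.Quotient.mk_surjective e
  let M := I.map (algebraMap A B)
  let N : Ideal (B ⧸ M) := Ideal.span {1 - Ideal.Quotient.mk M e₀}
  let π : B →ₐ[A] (B ⧸ M) ⧸ N := (Ideal.Quotient.mkₐ A N).comp (Ideal.Quotient.mkₐ A M)
  haveI : Module.Finite A ((B ⧸ M) ⧸ N) :=
    (Module.Finite.trans (A ⧸ I) ((B ⧸ Ideal.map (algebraMap A B) I) ⧸
      Ideal.span {1 - Ideal.Quotient.mk (Ideal.map (algebraMap A B) I) e₀}) : _)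
  have hidem : e₀ * e₀ - e₀ ∈ M := by rw [← Ideal.Quotient.eq, map_mul]; exact he
  obtain ⟨g, hg, hg1, hg2⟩ := Groth.Agent.H21.IdemSplit.exists_lift I ((B ⧸ M) ⧸ N) π
    (Ideal.Quotient.mk_surjective.comp Ideal.Quotient.mk_surjective) e₀
    (fun x hx => by
      have h1 : Ideal.Quotient.mk M x ∈ N := Ideal.Quotient.eq_zero_iff_mem.mp hx
      obtain ⟨c, hc⟩ := Ideal.mem_span_singleton'.mp h1
      rw [← Ideal.Quotient.eq_zero_iff_mem, map_mul, ← hc, mul_comm c, ← mul_assoc, mul_sub, mul_one]
      rw [he, sub_self, zero_mul])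
    (by
      show Ideal.Quotient.mk N (Ideal.Quotient.mk M e₀) = 1
      rw [← map_one (Ideal.Quotient.mk N), Ideal.Quotient.eq, ← neg_sub]
      exact N.neg_mem (Ideal.mem_span_singleton_self _))
    (fun i hi => by
      rw [IsScalarTower.algebraMap_apply A (B ⧸ M) ((B ⧸ M) ⧸ N),
        show algebraMap A (B ⧸ M) i = 0 from Ideal.Quotient.eq_zero_iff_mem.mpr (Ideal.mem_map_of_mem _ hi),
        map_zero])
    hidem
  refine ⟨g, ?_, Ideal.Quotient.eq.mpr hg2, Groth.Agent.H21.IdemSplit.bijective hg⟩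
  show _ * _ = _
  rw [← map_mul]
  exact Ideal.Quotient.eq.mpr hg1

end Groth.Agent.S9313
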