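import Groth.Statements.S9315
import Mathlib.RingTheory.Jacobson.Ideal
import Mathlib.RingTheory.Henselian
import Mathlib.RingTheory.LocalRing.ResidueField.Basic

set_option autoImplicit false
universe u
open CAlg

namespace Groth.Agent.S9315

open IsLocalRing in
/-- Let `R → S` be a local homomorphism of local rings (no Noetherian hypothesis). Then `R → S` is
formally smooth for the adic topology of the maximal ideal of `S` if and only if the following
lifting property holds: for every local ring `A` with a local structure map `R → A`, every ideal `J`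
of `A` of square zero such that some power of the maximal ideal of `A` is zero, and every local
`R`-algebra homomorphism `ψ : S → A/J` inducing a bijection on residue fields, there is an
`R`-algebra homomorphism `S → A` lifting `ψ`. -/
theorem result {R S : Type u} [CommRing R] [CommRing S]
    [IsLocalRing R] [IsLocalRing S] [Algebra R S] [IsLocalHom (algebraMap R S)] :
    CAlgX.IsAdicFormallySmooth R S (maximalIdeal S) ↔
      ∀ (A : Type u) [CommRing A] [IsLocalRing A] [Algebra R A] [IsLocalHom (algebraMap R A)]
        (J : Ideal A), J ^ 2 = ⊥ → (∃ n : ℕ, maximalIdeal A ^ n = ⊥) →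
        ∀ [IsLocalRing (A ⧸ J)] (ψ : S →ₐ[R] A ⧸ J) [IsLocalHom ψ.toRingHom],
          Function.Bijective (ResidueField.map ψ.toRingHom) →
          ∃ χ : S →ₐ[R] A, (Ideal.Quotient.mkₐ R J).comp χ = ψ := by
  constructor
  · intro h A _ _ _ _ J hJ ⟨n, hn⟩ _ ψ _ _
    refine h A J hJ ψ ⟨n, fun x hx => ?_⟩
    haveI : IsLocalHom (Ideal.Quotient.mk J) := IsLocalHom.of_surjective _ Ideal.Quotient.mk_surjective
    have h1 := Ideal.pow_right_mono (IsLocalRing.map_maximalIdeal_le ψ.toRingHom) n
      (by rw [← Ideal.map_pow]; exact Ideal.mem_map_of_mem ψ.toRingHom hx)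
    rw [← IsLocalRing.map_maximalIdeal_of_surjective (Ideal.Quotient.mk J) Ideal.Quotient.mk_surjective,
      ← Ideal.map_pow, hn, Ideal.map_bot, Ideal.mem_bot] at h1
    exact h1
  · intro h C _ _ J hJ ψ ⟨k, hk⟩
    rcases subsingleton_or_nontrivial C with hC | hC
    · exact ⟨{ toRingHom :=
        { toFun := fun _ => 0
          map_one' := Subsingleton.elim _ _
          map_mul' := fun _ _ => Subsingleton.elim _ _
          map_zero' := rfl
          map_add' := fun _ _ => Subsingleton.elim _ _ }
               commutes' := fun _ => Subsingleton.elim _ _ }, AlgHom.ext fun x =>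
                 Subsingleton.elim (α := C ⧸ J) _ _⟩
    -- the subring of elements whose class lies in the image of `ψ`
    let A : Subalgebra R C := ψ.range.comap (Ideal.Quotient.mkₐ R J)
    let J' : Ideal A := J.comap A.val.toRingHom
    have hJ' : J' ^ 2 = ⊥ := by
      rw [pow_two J', eq_bot_iff, Ideal.mul_le]
      intro x hx y hy
      rw [Ideal.mem_bot]
      refine Subtype.ext ?_
      have : (x : C) * y ∈ J ^ 2 := pow_two J ▸ Ideal.mul_mem_mul hx hy
      rwa [hJ, Ideal.mem_bot] at this
    have hJne : J' ≠ ⊤ := fun he => by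
      have h1 : (1 : C) ∈ J := by
        have : (1 : A) ∈ J' := he ▸ Submodule.mem_top
        exact this
      have : (1 : C) * 1 ∈ J ^ 2 := pow_two J ▸ Ideal.mul_mem_mul h1 h1
      rw [hJ, Ideal.mem_bot, mul_one] at this
      exact one_ne_zero this
    have hlift : ∀ s, ∃ a : A, Ideal.Quotient.mk J (a : C) = ψ s := fun s => by
      obtain ⟨c, hc⟩ := Ideal.Quotient.mk_surjective (ψ s)
      exact ⟨⟨c, s, hc.symm⟩, hc⟩
    choose l hl using hlift
    have hmk : ∀ a b : A, Ideal.Quotient.mk J (a : C) = Ideal.Quotient.mk J (b : C) →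
        Ideal.Quotient.mk J' a = Ideal.Quotient.mk J' b := fun a b hab =>
      Ideal.Quotient.eq.mpr (show ((a - b : A) : C) ∈ J from Ideal.Quotient.eq.mp hab)
    let φ : S →ₐ[R] A ⧸ J' :=
      { toFun := fun s => Ideal.Quotient.mk J' (l s)
        map_one' := (hmk _ 1 (by rw [hl, map_one]; exact (map_one _).symm)).trans (map_one _)
        map_mul' := fun x y => (hmk _ (l x * l y)
          (by rw [hl, map_mul, ← hl x, ← hl y, ← map_mul]; rfl)).trans (map_mul _ _ _)
        map_zero' := (hmk _ 0 (by rw [hl, map_zero]; exact (map_zero _).symm)).trans (map_zero _)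
        map_add' := fun x y => (hmk _ (l x + l y)
          (by rw [hl, map_add, ← hl x, ← hl y, ← map_add]; rfl)).trans (map_add _ _ _)
        commutes' := fun r => hmk _ (algebraMap R A r) (by rw [hl, ψ.commutes]; rfl) }
    have hφ : Function.Surjective φ := fun q => by
      obtain ⟨⟨c, s, hs⟩, rfl⟩ := Ideal.Quotient.mk_surjective q
      exact ⟨s, hmk _ _ ((hl s).trans hs)⟩
    haveI : Nontrivial (A ⧸ J') := Ideal.Quotient.nontrivial_iff.mpr hJne
    haveI : IsLocalRing (A ⧸ J') := IsLocalRing.of_surjective' φ.toRingHom hφ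
    haveI : IsLocalHom (Ideal.Quotient.mk J') :=
      isLocalHom_of_le_jacobson_bot J' (by
        refine le_trans (fun x hx => ?_) Ideal.radical_le_jacobson
        exact ⟨2, hJ' ▸ Ideal.pow_mem_pow hx 2⟩)
    haveI : IsLocalRing A := RingHom.domain_isLocalRing (Ideal.Quotient.mk J')
    haveI : IsLocalHom φ.toRingHom := IsLocalHom.of_surjective _ hφ
    haveI : IsLocalHom (algebraMap R A) := ⟨fun r hr =>
      isUnit_of_map_unit (algebraMap R S) r (isUnit_of_map_unit φ.toRingHom _ (by
        show IsUnit (φ (algebraMap R S r))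
        rw [φ.commutes]
        exact hr.map (Ideal.Quotient.mk J')))⟩
    have hk0 : maximalIdeal (A ⧸ J') ^ k = ⊥ := by
      rw [← IsLocalRing.map_maximalIdeal_of_surjective φ.toRingHom hφ, ← Ideal.map_pow, eq_bot_iff,
        Ideal.map_le_iff_le_comap]
      intro x hx
      refine Ideal.mem_bot.mpr ((hmk _ 0 ?_).trans (map_zero _))
      rw [hl, hk x hx]
      exact (map_zero _).symm
    have hn : maximalIdeal A ^ (k * 2) = ⊥ := by
      have h1 : maximalIdeal A ^ k ≤ J' := by
        intro x hx
        have h2 := Ideal.mem_map_of_mem (Ideal.Quotient.mk J') hx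
        rw [Ideal.map_pow, IsLocalRing.map_maximalIdeal_of_surjective (Ideal.Quotient.mk J')
          Ideal.Quotient.mk_surjective, hk0, Ideal.mem_bot, Ideal.Quotient.eq_zero_iff_mem] at h2
        exact h2
      rw [pow_mul, eq_bot_iff, ← hJ']
      exact Ideal.pow_right_mono h1 2
    have hres : Function.Bijective (ResidueField.map φ.toRingHom) := ⟨RingHom.injective _, fun x => by
      obtain ⟨q, rfl⟩ := residue_surjective x
      obtain ⟨s, hs⟩ := hφ q
      exact ⟨residue S s, (ResidueField.map_residue φ.toRingHom s).trans (congrArg _ hs)⟩⟩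
    obtain ⟨χ, hχ⟩ := h A J' hJ' ⟨k * 2, hn⟩ φ hres
    refine ⟨A.val.comp χ, AlgHom.ext fun s => ?_⟩
    have h1 : χ s - l s ∈ J' := Ideal.Quotient.eq.mp (AlgHom.congr_fun hχ s)
    rw [← hl s]
    exact Ideal.Quotient.eq.mpr h1

end Groth.Agent.S9315
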