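import Groth.Statements.S9325
import Groth.Agent.H26.QuasiOps
import Groth.Agent.H26.H1Quasi


set_option autoImplicit false
universe u
open CAlg

namespace Groth.Agent.S9325

/-- Let `A` be a ring and `I ⊆ J` ideals of `A` such that the ideal `J/I` of `A/I` is `H_1`-regular: for
every prime `𝔮` of `A/I` containing `J/I` there is `g ∉ 𝔮` such that the extension of `J/I` to
`(A/I)_g` is generated by an `H_1`-regular sequence (a finite sequence all of whose linear relations
are combinations of the trivial ones). Then `I ∩ J² = I J`. -/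
theorem result {A : Type u} [CommRing A] (I J : Ideal A)
    (hIJ : I ≤ J)
    (h : ∀ (𝔮 : Ideal (A ⧸ I)) [𝔮.IsPrime], J.map (Ideal.Quotient.mk I) ≤ 𝔮 →
      ∃ g : A ⧸ I, g ∉ 𝔮 ∧ ∃ (c : ℕ) (f : Fin c → Localization.Away g),
        CAlgX.IsH1Regular f ∧
          Ideal.span (Set.range f) =
            (J.map (Ideal.Quotient.mk I)).map (algebraMap (A ⧸ I) (Localization.Away g))) :
    I ⊓ J ^ 2 = I * J := by
  classical
  refine le_antisymm (fun x hx => ?_) (le_inf Ideal.mul_le_left ?_)
  swap
  · rw [pow_two]
    exact Ideal.mul_mono_left hIJ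
  by_contra hne
  have htop : (I * J).colon {x} ≠ ⊤ := fun h => hne (by
    have h1 : (1 : A) ∈ (I * J).colon {x} := h ▸ trivial
    simpa using Submodule.mem_colon_singleton.mp h1)
  obtain ⟨m, hm, hle⟩ := Ideal.exists_le_maximal _ htop
  by_cases hJm : J ≤ m
  swap
  · obtain ⟨a, haJ, ham⟩ := SetLike.not_le_iff_exists.mp hJm
    refine ham (hle (Submodule.mem_colon_singleton.mpr ?_))
    rw [smul_eq_mul, mul_comm a x]
    exact Ideal.mul_mem_mul hx.1 haJ
  let π := Ideal.Quotient.mk I
  have hIm : I ≤ m := hIJ.trans hJm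
  have hcomap : (m.map π).comap π = m := by
    rw [Ideal.comap_map_of_surjective π Ideal.Quotient.mk_surjective, ← RingHom.ker_eq_comap_bot,
      Ideal.mk_ker, sup_eq_left.mpr hIm]
  haveI : (m.map π).IsPrime := Ideal.map_isPrime_of_surjective Ideal.Quotient.mk_surjective
    (by rw [Ideal.mk_ker]; exact hIm)
  obtain ⟨g, hg, c, f, hf, hspan⟩ := h (m.map π) (Ideal.map_mono hJm)
  obtain ⟨g', rfl⟩ := Ideal.Quotient.mk_surjective g
  have hg' : g' ∉ m := fun h' => hg (Ideal.mem_map_of_mem π h')
  let L := Localization.Away g'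
  let L' := Localization.Away (π g')
  let φ : L →+* L' := IsLocalization.Away.map L L' π g'
  haveI : IsLocalization ((Submonoid.powers g').map π) L' := by
    rw [Submonoid.map_powers]; infer_instance
  have hφ : Function.Surjective φ :=
    IsLocalization.map_surjective_of_surjective (Submonoid.powers g') L L' Ideal.Quotient.mk_surjective
  have hker : RingHom.ker φ = I.map (algebraMap A L) := by
    have := IsLocalization.ker_map (S := L) (M := Submonoid.powers g') (P := A ⧸ I)
      (T := Submonoid.powers (π g')) L' (g := π) (by rw [Submonoid.map_powers])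
    rw [Ideal.mk_ker] at this
    exact this
  choose F hF using fun i => hφ (f i)
  have hpow : Submonoid.powers g' ≤ (Submonoid.powers (π g')).comap π := by
    rw [← Submonoid.map_le_iff_le_comap, Submonoid.map_powers]
  have hJL : J.map (algebraMap A L) = I.map (algebraMap A L) ⊔ Ideal.span (Set.range F) := by
    have h1 : (J.map (algebraMap A L)).map φ = (Ideal.span (Set.range F)).map φ := by
      rw [Ideal.map_span, ← Set.range_comp, show (φ ∘ F) = f from funext hF, hspan, Ideal.map_map,
        Ideal.map_map]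
      congr 1
      exact RingHom.ext fun a =>
        IsLocalization.map_eq (S := L) (M := Submonoid.powers g') (T := Submonoid.powers (π g')) hpow a
    have h2 := congrArg (Ideal.comap φ) h1
    rw [Ideal.comap_map_of_surjective φ hφ, Ideal.comap_map_of_surjective φ hφ,
      ← RingHom.ker_eq_comap_bot, hker, sup_eq_left.mpr (Ideal.map_mono hIJ)] at h2
    rw [h2, sup_comm]
  let e := (Ideal.quotEquivOfEq hker.symm).trans (RingHom.quotientKerEquivOfSurjective hφ)
  have hH : CAlgX.IsH1Regular fun i => Ideal.Quotient.mk (I.map (algebraMap A L)) (F i) := by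
    rw [Groth.Agent.H26.H1Quasi.isH1Regular_iff] at hf ⊢
    intro a ha
    have hFe : ∀ i, e (Ideal.Quotient.mk (I.map (algebraMap A L)) (F i)) = f i := fun i => hF i
    obtain ⟨d, hd⟩ := hf (fun i => e (a i)) (by
      have := congrArg e ha
      simpa [map_sum, hFe] using this)
    refine ⟨fun i j => e.symm (d i j), fun i => e.injective ?_⟩
    show e (a i) = _
    rw [show e (a i) = ∑ j, f j • (d i j - d j i) from hd i, map_sum]
    simp [hFe]
  have hmem : algebraMap A L x ∈ I.map (algebraMap A L) ⊓ (I.map (algebraMap A L) ⊔ Ideal.span (Set.range F)) ^ 2 :=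
    ⟨Ideal.mem_map_of_mem _ hx.1, by
      rw [← hJL, ← Ideal.map_pow]; exact Ideal.mem_map_of_mem _ hx.2⟩
  have := Groth.Agent.H26.QuasiOps.inf_sq_le _ F hH hmem
  rw [← hJL, ← Ideal.map_mul, IsLocalization.algebraMap_mem_map_algebraMap_iff (Submonoid.powers g') L] at this
  obtain ⟨s, ⟨k, rfl⟩, hs⟩ := this
  exact hg' (hm.isPrime.mem_of_pow_mem k (hle (Submodule.mem_colon_singleton.mpr hs)))

end Groth.Agent.S9325
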