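import Groth.Statements.S9326
import Mathlib.Topology.Algebra.InfiniteSum.Nonarchimedean


set_option autoImplicit false
universe u
open CAlg

namespace Groth.Agent.S9326

/-- Let `u : N → M` be a continuous homomorphism of topological abelian groups. Assume `M` is Hausdorff
and `N` is Hausdorff and complete, linearly topologized (every neighbourhood of zero contains an
open subgroup) and first countable (zero has a countable basis of neighbourhoods). Then exactly one
of two things holds: `u` is an open map; or there is an open subgroup of `N` whose image is nowhere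
dense in `M`. -/
theorem result {N M : Type u} [AddCommGroup N]
    [AddCommGroup M] [UniformSpace N] [IsUniformAddGroup N] [TopologicalSpace M]
    [IsTopologicalAddGroup M] [T2Space M] [T2Space N] [CompleteSpace N] [NonarchimedeanAddGroup N]
    [FirstCountableTopology N] (u : N →+ M) (hu : Continuous u) :
    Xor (IsOpenMap u) (∃ V : OpenAddSubgroup N, IsNowhereDense (u '' (V : Set N))) := by
  have hsub : ∀ W ∈ nhds (0 : N), ∃ V : OpenAddSubgroup N, (V : Set N) ⊆ W := fun W hW => NonarchimedeanAddGroup.is_nonarchimedean W hW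
  by_cases hQ : ∃ V : OpenAddSubgroup N, IsNowhereDense (u '' (V : Set N))
  · obtain ⟨V, hV⟩ := hQ
    refine Or.inr ⟨⟨V, hV⟩, fun ho => ?_⟩
    have h1 : u '' (V : Set N) ⊆ interior (closure (u '' (V : Set N))) :=
      interior_maximal subset_closure (ho _ V.isOpen)
    rw [show interior (closure (u '' (V : Set N))) = ∅ from hV] at h1
    exact h1 ⟨0, V.zero_mem, rfl⟩
  refine Or.inl ⟨?_, hQ⟩
  push Not at hQ
  let H : OpenAddSubgroup N → AddSubgroup M := fun V => (AddSubgroup.map u (V : AddSubgroup N)).topologicalClosure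
  have hHcoe : ∀ V, (H V : Set M) = closure (u '' (V : Set N)) := fun V => by
    simp [H, AddSubgroup.topologicalClosure_coe, AddSubgroup.coe_map]
  have hH : ∀ V, IsOpen (H V : Set M) := fun V => by
    obtain ⟨z, hz⟩ := Set.nonempty_iff_ne_empty.mpr (hQ V)
    refine (H V).isOpen_of_mem_nhds (g := z) ?_
    rw [hHcoe]
    exact mem_interior_iff_mem_nhds.mp hz
  have key : ∀ V₀ : OpenAddSubgroup N, (H V₀ : Set M) ⊆ u '' (V₀ : Set N) := by
    intro V₀ y hy
    obtain ⟨B, hB⟩ := (nhds (0 : N)).exists_antitone_basis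
    choose W hW using fun n => hsub (B n) (hB.1.mem_of_mem (i := n) trivial)
    let V : ℕ → OpenAddSubgroup N := fun n => Nat.rec (motive := fun _ => OpenAddSubgroup N) V₀ (fun m Vm => Vm ⊓ W m) n
    have hVsucc : ∀ n : ℕ, ((V (n + 1) : OpenAddSubgroup N) : Set N) = ((V n : OpenAddSubgroup N) : Set N) ∩ ((W n : OpenAddSubgroup N) : Set N) := fun n => (OpenAddSubgroup.coe_inf (U := V n) (V := W n))
    have hV0 : ∀ n, (V n : Set N) ⊆ V₀ := fun n => by
      induction n with
      | zero => exact subset_rfl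
      | succ m ih => rw [hVsucc]; exact Set.inter_subset_left.trans ih
    have step : ∀ n (x : {x : N // x ∈ V₀ ∧ y - u x ∈ H (V n)}),
        ∃ x' : {x : N // x ∈ V₀ ∧ y - u x ∈ H (V (n + 1))}, x'.1 - x.1 ∈ V n := by
      rintro n ⟨x, hx0, hx⟩
      have hmem : y - u x ∈ closure (u '' (V n : Set N)) := hHcoe (V n) ▸ hx
      obtain ⟨_, hd, v, hv, rfl⟩ := mem_closure_iff.mp hmem
        ((fun w => y - u x - w) ⁻¹' (H (V (n + 1)) : Set M)) ((hH _).preimage (by fun_prop))
        (by simp)
      refine ⟨⟨x + v, add_mem hx0 (hV0 n hv), ?_⟩, by simpa using hv⟩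
      rw [map_add, ← sub_sub]
      exact hd
    choose next hnext using step
    let xs : ∀ n, {x : N // x ∈ V₀ ∧ y - u x ∈ H (V n)} :=
      fun n => n.rec ⟨0, zero_mem _, show y - u 0 ∈ H V₀ by simpa using hy⟩ next
    have hx : Filter.Tendsto (fun n => (xs (n + 1)).1 - (xs n).1) Filter.atTop (nhds 0) := by
      rw [hB.1.tendsto_right_iff]
      intro k _
      rw [Filter.eventually_atTop]
      refine ⟨k + 1, fun n hn => hW k ?_⟩
      have h1 : (V n : Set N) ⊆ W k := by
        induction n, hn using Nat.le_induction with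
        | base => rw [hVsucc]; exact Set.inter_subset_right
        | succ m _ ih => rw [hVsucc]; exact Set.inter_subset_left.trans ih
      exact h1 (hnext n (xs n))
    obtain ⟨x, hlim⟩ := cauchySeq_tendsto_of_complete
      (NonarchimedeanAddGroup.cauchySeq_of_tendsto_sub_nhds_zero (f := fun n => (xs n).1) hx)
    refine ⟨x, V₀.isClosed.mem_of_tendsto hlim (Filter.Eventually.of_forall fun n => (xs n).2.1), ?_⟩
    by_contra hne
    have hz : ({y - u x}ᶜ : Set M) ∈ nhds (0 : M) :=
      isOpen_compl_singleton.mem_nhds fun h0 => hne (sub_eq_zero.mp (Set.mem_singleton_iff.mp h0).symm).symm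
    obtain ⟨C, ⟨hC, hCcl⟩, hCsub⟩ := (closed_nhds_basis (0 : M)).mem_iff.mp hz
    have hC' : u ⁻¹' C ∈ nhds (0 : N) := hu.continuousAt.preimage_mem_nhds (by rw [map_zero]; exact hC)
    obtain ⟨k, -, hk⟩ := hB.1.mem_iff.mp hC'
    have hVk : ∀ n, k + 1 ≤ n → y - u (xs n).1 ∈ C := fun n hn => by
      have h1 : (V n : Set N) ⊆ W k := by
        induction n, hn using Nat.le_induction with
        | base => rw [hVsucc]; exact Set.inter_subset_right
        | succ m _ ih => rw [hVsucc]; exact Set.inter_subset_left.trans ih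
      refine hCcl.closure_subset_iff.mpr ?_ ((Set.ext_iff.mp (hHcoe (V n)) _).mp (xs n).2.2)
      rintro _ ⟨v, hv, rfl⟩
      exact hk (hW k (h1 hv))
    refine hCsub (hCcl.mem_of_tendsto (((continuous_const.sub hu).tendsto x).comp hlim)
      (Filter.eventually_atTop.mpr ⟨k + 1, hVk⟩)) rfl
  intro U hU
  rw [isOpen_iff_mem_nhds]
  rintro _ ⟨x, hxU, rfl⟩
  have hU' : (fun v => x + v) ⁻¹' U ∈ nhds (0 : N) :=
    (continuous_const.add continuous_id).continuousAt.preimage_mem_nhds (by simpa using hU.mem_nhds hxU)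
  obtain ⟨V, hV⟩ := hsub _ hU'
  refine Filter.mem_of_superset (((hH V).preimage (continuous_id.sub (continuous_const (y := u x)))).mem_nhds (by simp)) ?_
  intro w hw
  obtain ⟨v, hv, e⟩ := key V hw
  exact ⟨x + v, hV hv, by rw [map_add, e]; simp⟩

end Groth.Agent.S9326
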