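import Groth.Statements.S9327
import Groth.Agent.H46.TensorBranch

set_option autoImplicit false
universe u
open Hensel

namespace Groth.Agent.S9327

open TensorProduct IsLocalRing in
/-- Let `k` be an algebraically closed field and `A`, `B` henselian local `k`-algebras with residue
field `k` (the composites `k → A → A/m_A` and `k → B → B/m_B` are bijective; as `k` is algebraically
closed, `A` and `B` are strictly henselian). Let `𝔪 = m_A ⊗ B + A ⊗ m_B`, a maximal ideal of `A ⊗_k
B`, and let `C` be a strict henselization of the local ring `(A ⊗_k B)_𝔪`. Then sending a prime of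
`C` to the pair of its preimages in `A` and in `B` is a bijection from the set of minimal primes of
`C` onto the set of pairs (minimal prime of `A`, minimal prime of `B`). -/
theorem result {k A B C : Type u} [Field k]
    [IsAlgClosed k] [CommRing A] [CommRing B] [HenselianLocalRing A] [HenselianLocalRing B]
    [Algebra k A] [Algebra k B]
    (hA : Function.Bijective ((residue A).comp (algebraMap k A)))
    (hB : Function.Bijective ((residue B).comp (algebraMap k B)))
    (𝔪 : Ideal (A ⊗[k] B)) [𝔪.IsPrime]
    (h𝔪 : 𝔪 = (maximalIdeal A).map (Algebra.TensorProduct.includeLeft : A →ₐ[k] A ⊗[k] B) ⊔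
      (maximalIdeal B).map (Algebra.TensorProduct.includeRight : B →ₐ[k] A ⊗[k] B))
    [CommRing C] [IsLocalRing C] [Algebra (Localization.AtPrime 𝔪) C]
    [IsLocalHom (algebraMap (Localization.AtPrime 𝔪) C)]
    [Hensel.IsStrictHenselization (Localization.AtPrime 𝔪) C] :
    Set.BijOn
      (fun 𝔯 : Ideal C =>
        (𝔯.comap ((algebraMap (Localization.AtPrime 𝔪) C).comp
            ((algebraMap (A ⊗[k] B) (Localization.AtPrime 𝔪)).comp
              (Algebra.TensorProduct.includeLeft : A →ₐ[k] A ⊗[k] B).toRingHom)),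
          𝔯.comap ((algebraMap (Localization.AtPrime 𝔪) C).comp
            ((algebraMap (A ⊗[k] B) (Localization.AtPrime 𝔪)).comp
              (Algebra.TensorProduct.includeRight : B →ₐ[k] A ⊗[k] B).toRingHom))))
      (minimalPrimes C) (minimalPrimes A ×ˢ minimalPrimes B) := by
  classical
  let T := A ⊗[k] B
  let R := Localization.AtPrime 𝔪
  let iL : A →ₐ[k] T := Algebra.TensorProduct.includeLeft
  let iR : B →ₐ[k] T := Algebra.TensorProduct.includeRight
  haveI : HenselianLocalRing C := Hensel.IsStrictHenselization.henselian (R := R)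
  haveI := Groth.Agent.Lib.Henselian.StrictHenselization.flat R C
  haveI := Groth.Agent.Lib.Henselian.StrictHenselization.faithfullyFlat R C
  haveI : Module.Flat T R := IsLocalization.flat R 𝔪.primeCompl
  have hmA : ∀ a ∈ maximalIdeal A, iL a ∈ 𝔪 := fun a ha => by
    rw [h𝔪]; exact Ideal.mem_sup_left (Ideal.mem_map_of_mem _ ha)
  have hmB : ∀ b ∈ maximalIdeal B, iR b ∈ 𝔪 := fun b hb => by
    rw [h𝔪]; exact Ideal.mem_sup_right (Ideal.mem_map_of_mem _ hb)
  -- contraction of a minimal prime of `C` to the tensor product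
  have hminT : ∀ r ∈ minimalPrimes C,
      (r.comap (algebraMap R C)).comap (algebraMap T R) ∈ minimalPrimes T := fun r hr =>
    Groth.Agent.Lib.Unram.BranchHenselian.comap_minimalPrime_mem T R
      (Groth.Agent.Lib.Unram.BranchHenselian.comap_minimalPrime_mem R C hr)
  have hleft : ∀ P ∈ minimalPrimes T, P.comap iL ∈ minimalPrimes A := fun P hP =>
    Groth.Agent.Lib.Unram.BranchHenselian.comap_minimalPrime_mem A T hP
  have hright : ∀ P ∈ minimalPrimes T, P.comap iR ∈ minimalPrimes B := fun P hP =>
    Groth.Agent.H46.TensorBranch.comap_right_mem_minimalPrimes hP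
  have heq : ∀ P ∈ minimalPrimes T, ∀ (p : Ideal A) [p.IsPrime] (q : Ideal B) [q.IsPrime],
      P.comap iL = p → P.comap iR = q → P = Groth.Agent.H46.TensorBranch.pairPrime (k := k) p q :=
    fun P hP p _ q _ hp hq => by
      haveI := Groth.Agent.H46.TensorBranch.isPrime_pairPrime (k := k) p q
      have hle := Groth.Agent.H46.TensorBranch.pairPrime_le p q P hp.ge hq.ge
      exact le_antisymm (hP.2 ⟨inferInstance, bot_le⟩ hle) hle
  refine ⟨fun r hr => ⟨hleft _ (hminT r hr), hright _ (hminT r hr)⟩, ?_, ?_⟩
  · intro r hr r' hr' he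
    obtain ⟨h1, h2⟩ := Prod.ext_iff.mp he
    have hPT := hminT r hr
    have hPT' := hminT r' hr'
    let p := ((r.comap (algebraMap R C)).comap (algebraMap T R)).comap iL
    let q := ((r.comap (algebraMap R C)).comap (algebraMap T R)).comap iR
    haveI := hPT.1.1
    have e1 := heq _ hPT p q rfl rfl
    have e2 := heq _ hPT' p q h1.symm h2.symm
    let PR := r.comap (algebraMap R C)
    have hPR := Groth.Agent.Lib.Unram.BranchHenselian.comap_minimalPrime_mem R C hr
    haveI : PR.IsPrime := hPR.1.1
    have hsame : r'.comap (algebraMap R C) = PR := by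
      rw [← IsLocalization.map_comap 𝔪.primeCompl R (r'.comap (algebraMap R C)),
        ← IsLocalization.map_comap 𝔪.primeCompl R PR]
      exact congrArg (Ideal.map (algebraMap T R)) (e2.trans e1.symm)
    have hind : EtPBC.IsIndEtale R C := Groth.Agent.Lib.IndEtale.Basic.of_algEquiv
      Groth.Agent.Lib.Henselian.IndEtale.isIndEtale_lim
      (Groth.Agent.Lib.Henselian.StrictHenselization.equivOfIsStrictHenselization R C)
    letI := Groth.Agent.Lib.Unram.BranchHenselian.normAlg R PR
    obtain ⟨-, -, _, -, -⟩ := Groth.Agent.Lib.Unram.BranchHenselian.normalization_props R PR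
    have hcard := Groth.Agent.Lib.Unram.BranchHenselian.card_fibre R C PR hind hPR
    let c := (algebraMap (ResidueField R) (AlgebraicClosure (ResidueField R))).comp (residue R)
    have hc : ∀ x ∈ maximalIdeal R, c x = 0 := fun x hx => by
      rw [RingHom.comp_apply, (residue_eq_zero_iff x).mpr hx, map_zero]
    obtain ⟨E⟩ := Groth.Agent.Lib.Unram.BranchHenselian.exists_maximal_equiv_strictHenselization R C
      (CAlg2.normRed (R ⧸ PR)) (AlgebraicClosure (ResidueField R)) c hc
    haveI : Subsingleton {τ : CAlg2.normRed (R ⧸ PR) →+* AlgebraicClosure (ResidueField R) //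
        τ.comp (algebraMap R (CAlg2.normRed (R ⧸ PR))) = c} :=
      ⟨fun τ₁ τ₂ => Subtype.ext (Groth.Agent.H46.TensorBranch.normRed_hom_ext hA hB p q 𝔪 hmA hmB PR e1
        c hc τ₁.1 τ₂.1 τ₁.2 τ₂.2)⟩
    haveI : Subsingleton {x : minimalPrimes C // x.1.comap (algebraMap R C) = PR} := by
      rw [← ENat.card_le_one_iff_subsingleton, hcard, ENat.card_congr E,
        ENat.card_le_one_iff_subsingleton]
      infer_instance
    exact congrArg (fun x : {x : minimalPrimes C // x.1.comap (algebraMap R C) = PR} => (x.1 : Ideal C))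
      (Subsingleton.elim ⟨⟨r, hr⟩, rfl⟩ ⟨⟨r', hr'⟩, hsame⟩)
  · rintro ⟨p, q⟩ ⟨hp, hq⟩
    haveI := hp.1.1
    haveI := hq.1.1
    let P₀ := Groth.Agent.H46.TensorBranch.pairPrime (k := k) p q
    haveI := Groth.Agent.H46.TensorBranch.isPrime_pairPrime (k := k) p q
    have hle : P₀ ≤ 𝔪 := Groth.Agent.H46.TensorBranch.pairPrime_le p q 𝔪
      (fun a ha => hmA a (IsLocalRing.le_maximalIdeal hp.1.1.ne_top ha))
      (fun b hb => hmB b (IsLocalRing.le_maximalIdeal hq.1.1.ne_top hb))
    have hdisj : Disjoint (𝔪.primeCompl : Set T) P₀ :=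
      Set.disjoint_left.mpr fun x hx hxP => hx (hle hxP)
    have hcomap : (P₀.map (algebraMap T R)).comap (algebraMap T R) = P₀ :=
      IsLocalization.comap_map_of_isPrime_disjoint 𝔪.primeCompl R ‹_› hdisj
    haveI : (P₀.map (algebraMap T R)).IsPrime :=
      IsLocalization.isPrime_of_isPrime_disjoint 𝔪.primeCompl R P₀ ‹_› hdisj
    obtain ⟨Q, hQ⟩ := PrimeSpectrum.comap_surjective_of_faithfullyFlat (A := R) (B := C)
      ⟨P₀.map (algebraMap T R), inferInstance⟩
    obtain ⟨r, hr, hrQ⟩ := Ideal.exists_minimalPrimes_le (I := (⊥ : Ideal C)) (J := Q.asIdeal) bot_le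
    refine ⟨r, hr, ?_⟩
    have hrP : (r.comap (algebraMap R C)).comap (algebraMap T R) ≤ P₀ := by
      refine (Ideal.comap_mono ((Ideal.comap_mono hrQ).trans ?_)).trans hcomap.le
      exact (congrArg PrimeSpectrum.asIdeal hQ).le
    have hPT := hminT r hr
    have e1 : ((r.comap (algebraMap R C)).comap (algebraMap T R)).comap iL = p := by
      have h := (Ideal.comap_mono (f := iL) hrP).trans
        (Groth.Agent.H46.TensorBranch.comap_left (k := k) p q).le
      exact le_antisymm h (hp.2 ⟨(hleft _ hPT).1.1, bot_le⟩ h)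
    have e2 : ((r.comap (algebraMap R C)).comap (algebraMap T R)).comap iR = q := by
      have h := (Ideal.comap_mono (f := iR) hrP).trans
        (Groth.Agent.H46.TensorBranch.comap_right (k := k) p q).le
      exact le_antisymm h (hq.2 ⟨(hright _ hPT).1.1, bot_le⟩ h)
    exact Prod.ext e1 e2

end Groth.Agent.S9327
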