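import Groth.Statements.S9328
import Groth.Agent.S9329
import Groth.Agent.H48.DomTower

set_option autoImplicit false
universe u
open EtRam

namespace Groth.Agent.S9328

open Groth.Agent.H48 Polynomial IsLocalRing EtRam

theorem isLocalRing_root {A : Type u} [CommRing A] [IsDomain A] [IsDiscreteValuationRing A] {π : A} (hπ : Irreducible π)
    {e : ℕ} (he : 0 < e) : IsLocalRing (AdjoinRoot (X ^ e - C π : A[X])) := by
  let A' := AdjoinRoot (X ^ e - C π : A[X])
  have hmon : (X ^ e - C π : A[X]).Monic := monic_X_pow_sub_C π he.ne'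
  haveI : Module.Finite A A' := (AdjoinRoot.powerBasis' hmon).finite
  haveI : Algebra.IsIntegral A A' := Algebra.IsIntegral.of_finite A A'
  haveI : Nontrivial A' := AdjoinRoot.nontrivial _ (by rw [degree_X_pow_sub_C he]; exact_mod_cast he.ne')
  set x : A' := AdjoinRoot.root _ with hx
  have hxe : x ^ e = algebraMap A A' π := by
    have := AdjoinRoot.eval₂_root (X ^ e - C π : A[X])
    rw [eval₂_sub, eval₂_X_pow, eval₂_C, sub_eq_zero] at this
    exact this
  have huniq : ∀ m : Ideal A', m.IsMaximal → m = Ideal.span {x} := by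
    intro m hm
    have hmA : m.comap (algebraMap A A') = maximalIdeal A :=
      IsLocalRing.eq_maximalIdeal (Ideal.isMaximal_comap_of_isIntegral_of_isMaximal m)
    have hxm : x ∈ m := by
      refine hm.isPrime.mem_of_pow_mem e ?_
      rw [hxe, ← Ideal.mem_comap, hmA]
      exact hπ.not_isUnit
    refine le_antisymm (fun b hb => ?_) ((Ideal.span_singleton_le_iff_mem _).2 hxm)
    induction b using AdjoinRoot.induction_on with
    | ih P =>
      have hd : AdjoinRoot.mk (X ^ e - C π) P = x * AdjoinRoot.mk _ P.divX + algebraMap A A' (P.coeff 0) := by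
        conv_lhs => rw [← Polynomial.X_mul_divX_add P]
        rw [map_add, map_mul, AdjoinRoot.mk_X, AdjoinRoot.mk_C, AdjoinRoot.algebraMap_eq]
      rw [hd] at hb ⊢
      have ha : P.coeff 0 ∈ maximalIdeal A := by
        rw [← hmA, Ideal.mem_comap]
        exact (Ideal.add_mem_iff_right _ (Ideal.mul_mem_right _ _ hxm)).1 hb
      rw [hπ.maximalIdeal_eq, Ideal.mem_span_singleton] at ha
      obtain ⟨a', ha'⟩ := ha
      refine Ideal.add_mem _ (Ideal.mul_mem_right _ _ (Ideal.mem_span_singleton_self x)) ?_
      rw [ha', map_mul, ← hxe]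
      exact Ideal.mul_mem_right _ _ (Ideal.pow_mem_of_mem _ (Ideal.mem_span_singleton_self x) e he)
  obtain ⟨m, hm⟩ := Ideal.exists_maximal A'
  exact IsLocalRing.of_unique_max_ideal ⟨m, hm, fun n hn => (huniq n hn).trans (huniq m hm).symm⟩

theorem tame_of_root {A K L : Type u} [CommRing A] [IsDomain A] [IsDiscreteValuationRing A] [Field K] [Algebra A K]
    [IsFractionRing A K] [Field L] [Algebra K L] {π : A} (hπ : Irreducible π) {e : ℕ} (he : 0 < e)
    (hek : (e : ResidueField A) ≠ 0) {L' : Type u} [Field L'] [Algebra K L'] [FiniteDimensional K L']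
    [Algebra.IsSeparable K L'] [Algebra (AdjoinRoot (X ^ e - C π : A[X])) L']
    [IsLocalRing (AdjoinRoot (X ^ e - C π : A[X]))] (f : L →ₐ[K] L')
    (hcomp : (algebraMap (AdjoinRoot (X ^ e - C π : A[X])) L').comp (AdjoinRoot.of (X ^ e - C π)) =
      (algebraMap K L').comp (algebraMap A K))
    (hun : IsUnramifiedExt (AdjoinRoot (X ^ e - C π : A[X])) (algebraMap (AdjoinRoot (X ^ e - C π : A[X])) L')) :
    IsTamelyRamified A ((algebraMap K L).comp (algebraMap A K)) := by
  intro V hV hlocV
  letI : Algebra A V := (RingHom.codRestrict _ V hV.1).toAlgebra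
  haveI : IsLocalHom (algebraMap A V) := hlocV
  obtain ⟨W, rfl⟩ := DomVal.exists_comap_eq f.toRingHom V
  have hW : Dominates A ((algebraMap K L').comp (algebraMap A K)) W := by
    have := DomVal.dominates_comap_iff.1 hV
    rwa [show f.toRingHom.comp ((algebraMap K L).comp (algebraMap A K)) =
      (algebraMap K L').comp (algebraMap A K) from RingHom.ext fun a => f.commutes _] at this
  obtain ⟨hloc, hxe, hmax, hdec⟩ := S9329.root_ring hπ he
  haveI := hloc
  let A' := AdjoinRoot (X ^ e - C π : A[X])
  let g : A' →+* L' := algebraMap A' L'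
  set x : A' := AdjoinRoot.root (X ^ e - C π : A[X]) with hx
  have hgA : ∀ a, g (algebraMap A A' a) = algebraMap K L' (algebraMap A K a) := fun a => RingHom.congr_fun hcomp a
  have hxW : g x ∈ W := by
    refine (W.valuation_le_one_iff _).1 ((pow_le_one_iff he.ne').1 ?_)
    rw [← map_pow, ← map_pow, hxe, hgA]
    exact (W.valuation_le_one_iff _).2 (hW.1 π)
  have hgW : ∀ a, g a ∈ W := by
    intro a
    induction a using AdjoinRoot.induction_on with
    | ih P =>
      induction P using Polynomial.induction_on with
      | C a => rw [AdjoinRoot.mk_C, ← AdjoinRoot.algebraMap_eq, hgA]; exact hW.1 a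
      | add p q hp hq => rw [map_add, map_add]; exact add_mem hp hq
      | monomial n a ih =>
        rw [show C a * X ^ (n + 1) = C a * X ^ n * X by ring, map_mul, AdjoinRoot.mk_X, map_mul]
        exact mul_mem ih hxW
  letI : Algebra A' W := (RingHom.codRestrict g W hgW).toAlgebra
  letI : Algebra A W := (RingHom.codRestrict _ W hW.1).toAlgebra
  haveI : IsLocalHom (algebraMap A W) := DomVal.isLocalHom_of_dominates hW
  haveI : IsScalarTower A A' W := IsScalarTower.of_algebraMap_eq fun a => Subtype.ext (hgA a).symm
  have hxm : algebraMap A' W x ∈ maximalIdeal W := (maximalIdeal.isMaximal W).isPrime.mem_of_pow_mem e (by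
    rw [← map_pow, hxe, ← IsScalarTower.algebraMap_apply A A' W]; exact map_nonunit _ _ hπ.not_isUnit)
  have hA' : Dominates A' g W := ⟨hgW, fun a ha => (ValuationSubring.valuation_lt_one_iff W (algebraMap A' W a)).1 (by
    rw [hmax, Ideal.mem_span_singleton] at ha
    obtain ⟨c, rfl⟩ := ha
    rw [map_mul]
    exact Ideal.mul_mem_right _ _ hxm)⟩
  haveI hlocA' : IsLocalHom (algebraMap A' W) := DomVal.isLocalHom_of_dominates hA'
  obtain ⟨hwu, hsep⟩ := @hun W hA' hlocA'
  haveI : IsDiscreteValuationRing W := DomVal.isDVR A K L' hW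
  haveI : IsDiscreteValuationRing (W.comap f.toRingHom) := by
    obtain ⟨_, _⟩ := DomVal.finite_left f
    exact DomVal.isDVR A K L hV
  have hmW : maximalIdeal W = Ideal.span {algebraMap A' W x} := by
    rw [← hwu, hmax, Ideal.map_span, Set.image_singleton]
  have hr0 : algebraMap A' W x ≠ 0 := fun h => hπ.ne_zero (IsFractionRing.injective A K
    ((algebraMap K L').injective (by
      rw [← hgA, ← hxe, map_pow, show g x = 0 from congrArg Subtype.val h, zero_pow he.ne', map_zero, map_zero])))
  have hr : Irreducible (algebraMap A' W x) := (IsDiscreteValuationRing.irreducible_iff_uniformizer _).2 hmW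
  have hinj : Function.Injective (algebraMap A W) := fun a b h =>
    IsFractionRing.injective A K ((algebraMap K L').injective (congrArg Subtype.val h))
  obtain ⟨-, v, hv⟩ := DVRExt.exists_unit_mul_pow hinj hπ hr
  have heW : Ideal.ramificationIdx' (maximalIdeal A) (maximalIdeal W) = e := by
    refine IsDiscreteValuationRing.unit_mul_pow_congr_pow hr hr v 1 _ _ ?_
    rw [← hv, Units.val_one, one_mul, ← map_pow, hxe, ← IsScalarTower.algebraMap_apply A A' W]
  letI : Algebra (W.comap f.toRingHom) W := (inclOfComap W f.toRingHom).toAlgebra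
  obtain ⟨hmul, -, hsepiff, -⟩ := DomVal.tower_iff f W hW hV
  haveI : IsScalarTower (ResidueField A) (ResidueField A') (ResidueField W) := IsScalarTower.of_algebraMap_eq fun y => by
    obtain ⟨y, rfl⟩ := residue_surjective y
    exact congrArg (residue W) (IsScalarTower.algebraMap_apply A A' W y)
  haveI : Algebra.IsSeparable (ResidueField A) (ResidueField A') := by
    refine ⟨fun y => ?_⟩
    obtain ⟨y, rfl⟩ := residue_surjective y
    obtain ⟨a, c, rfl⟩ := hdec y
    rw [map_add, map_mul, show residue A' (AdjoinRoot.root (X ^ e - C π : A[X])) = 0 from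
      (residue_eq_zero_iff _).2 (by rw [hmax]; exact Ideal.mem_span_singleton_self _), zero_mul, add_zero]
    exact isSeparable_algebraMap (residue A a)
  haveI : Algebra.IsSeparable (ResidueField A') (ResidueField W) := hsep
  have hsepW := Algebra.IsSeparable.trans (ResidueField A) (ResidueField A') (ResidueField W)
  refine ⟨(hsepiff.1 hsepW).1, fun p _ hpk hdvd => hek ?_⟩
  haveI := hpk
  rw [CharP.cast_eq_zero_iff (ResidueField A) p, ← heW, hmul]
  exact dvd_mul_of_dvd_left hdvd _


open Polynomial IsLocalRing in
/-- Let `K` be the fraction field of a discrete valuation ring `A`, let `π` be a uniformizer of `A`, and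
let `L` be a finite separable extension of `K`. For `e ≥ 1` write `A' = A[z]/(z^e - π)`, a discrete
valuation ring whose fraction field is `K' = K[π^{1/e}]`. Then `L` is tamely ramified with respect
to `A` if and only if there exist `e ≥ 1` invertible in the residue field of `A` and a finite
separable extension `L'` of `K` into which `L` embeds over `K`, carrying an `A'`-algebra structure
extending `A → K → L'` (so `K' ⊆ L'`), such that `L'` is unramified with respect to `A'`. (The
local-ring instance on `A'`, which holds, is quantified as a hypothesis.) -/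
theorem result {A K L : Type u} [CommRing A] [IsDomain A]
    [IsDiscreteValuationRing A] [Field K] [Algebra A K] [IsFractionRing A K] [Field L] [Algebra K L]
    [Algebra A L] [IsScalarTower A K L] [FiniteDimensional K L] [Algebra.IsSeparable K L]
    (π : A) (hπ : maximalIdeal A = Ideal.span {π}) :
    EtRam.IsTamelyRamified A (algebraMap A L) ↔
      ∃ e : ℕ, 0 < e ∧ (e : ResidueField A) ≠ 0 ∧
        ∃ (L' : Type u) (_ : Field L') (_ : Algebra K L')
          (_ : Algebra (AdjoinRoot (X ^ e - C π : A[X])) L') (_ : L →ₐ[K] L'),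
          FiniteDimensional K L' ∧ Algebra.IsSeparable K L' ∧
          (algebraMap (AdjoinRoot (X ^ e - C π : A[X])) L').comp (AdjoinRoot.of (X ^ e - C π)) =
            (algebraMap K L').comp (algebraMap A K) ∧
          ∀ [IsLocalRing (AdjoinRoot (X ^ e - C π : A[X]))],
            EtRam.IsUnramifiedExt (AdjoinRoot (X ^ e - C π : A[X]))
              (algebraMap (AdjoinRoot (X ^ e - C π : A[X])) L') := by
  classical
  have hπ' : Irreducible π := (IsDiscreteValuationRing.irreducible_iff_uniformizer π).2 hπ
  constructor
  · intro h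
    obtain ⟨e₀, he₀, he₀k, h2⟩ := S9329.result (K := K) (L := L) π hπ h
    have h3 := h2 1 one_pos (by rw [Nat.cast_one]; exact one_ne_zero)
    rw [one_mul] at h3
    exact ⟨e₀, he₀, he₀k, h3⟩
  · rintro ⟨e, he, hek, L', iF, iK, iA, f, hfin, hsep, hcomp, hun⟩
    rw [IsScalarTower.algebraMap_eq A K L]
    haveI : IsLocalRing (AdjoinRoot (X ^ e - C π : A[X])) := isLocalRing_root hπ' he
    exact tame_of_root hπ' he hek f hcomp hun

end Groth.Agent.S9328
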