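import Groth.Statements.S9335
import Groth.Agent.H46.QFin

set_option autoImplicit false
universe u
open QFin

namespace Groth.Agent.S9335

open AlgebraicGeometry CategoryTheory in
/-- If f : X → S is of finite type and s ∈ S, then f is quasi-finite at only finitely many points of the
fibre over s. -/
theorem result {X S : Scheme.{u}} (f : X ⟶ S) [LocallyOfFiniteType f] [QuasiCompact f] (s : S) :
    {x : ↑X | f.base x = s ∧ f.QuasiFiniteAt x}.Finite := by
  have := Groth.Agent.H46.QFin.isLocallyNoetherian_fiber f s
  have : IsNoetherian (f.fiber s) := {}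
  let P : Set ↑(f.fiber s) := {z | IsOpen ({z} : Set ↑(f.fiber s))}
  have hP : P.Finite := by
    refine (TopologicalSpace.NoetherianSpace.isCompact P).finite ?_
    constructor
    refine discreteTopology_iff_isOpen_singleton.mpr fun a => ?_
    exact ⟨{a.1}, a.2, by ext b; exact ⟨fun h => Subtype.ext h, fun h => congrArg Subtype.val h⟩⟩
  refine (hP.image (f.fiberι s).base).subset ?_
  rintro x ⟨rfl, hx⟩
  exact ⟨f.asFiber x, Scheme.Hom.quasiFiniteAt_iff_isOpen_singleton_asFiber.1 hx,
    f.fiberι_asFiber x⟩

end Groth.Agent.S9335
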