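import Groth.Statements.S9336
import Groth.Agent.H46.QFin

set_option autoImplicit false
universe u
open QFin

namespace Groth.Agent.S9336

open AlgebraicGeometry CategoryTheory in
/-- Let f : X → Y be surjective and g : Y → S locally of finite type. If g ∘ f is locally quasi-finite
(and locally of finite type), then g is locally quasi-finite. -/
theorem result {X Y S : Scheme.{u}} (f : X ⟶ Y) (g : Y ⟶ S) [Surjective f]
    [LocallyQuasiFinite (f ≫ g)] [LocallyOfFiniteType (f ≫ g)] [LocallyOfFiniteType g] :
    LocallyQuasiFinite g := by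
  have hclosed : ∀ y : Y, IsClosed ({g.asFiber y} : Set ↑(g.fiber (g.base y))) := by
    intro y
    obtain ⟨x, rfl⟩ := f.surjective y
    refine Groth.Agent.H46.QFin.isClosed_asFiber_of_isIntegral g (f.base x) ?_
    have hfin : ((f ≫ g).residueFieldMap x).hom.Finite :=
      Groth.Agent.H46.QFin.finite_residueFieldMap (f ≫ g) x
        ((f ≫ g).quasiFiniteAt x).isClopen_singleton_asFiber.1
    rw [Scheme.residueFieldMap_comp] at hfin
    intro a
    obtain ⟨P, hP, hP0⟩ := hfin.to_isIntegral ((f.residueFieldMap x).hom a)
    refine ⟨P, hP, (f.residueFieldMap x).hom.injective ?_⟩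
    rw [Polynomial.hom_eval₂, map_zero]; exact hP0
  refine locallyQuasiFinite_iff_isDiscrete_preimage_singleton.2 fun s => ?_
  rw [← g.range_fiberι s, ← Set.image_univ]
  refine (isDiscrete_univ_iff.2 ?_).image (g.fiberι s).isEmbedding.toIsInducing
  have := Groth.Agent.H46.QFin.isLocallyNoetherian_fiber g s
  have hc : ∀ z : ↑(g.fiber s), IsClosed ({z} : Set ↑(g.fiber s)) := by
    intro z
    have e := Groth.Agent.H46.QFin.asFiber_mem z
    generalize hy : (g.fiberι s).base z = y at e
    subst e
    rw [Groth.Agent.H46.QFin.eq_asFiber y z hy]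
    exact hclosed y
  exact discreteTopology_iff_isOpen_singleton.mpr fun z =>
    Groth.Agent.H46.QFin.isOpen_singleton_of_no_generization z (hc z)
      fun w hw => ((hw.mem_closed (hc w) rfl) : z = w).symm

end Groth.Agent.S9336
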