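import Groth.Statements.S9337
import Groth.Agent.Lib.FtPoint.Basic

set_option autoImplicit false
universe u
open FtPts

namespace Groth.Agent.S9337

open CategoryTheory

open AlgebraicGeometry CategoryTheory in
/-- Let k be a field and f : Spec k → S a morphism of schemes with image point u. Then f is locally of
finite type if and only if some affine open U ∋ u of S has u as a closed point and the residue field
of Spec k (that is, k) is finite over κ(u). -/
theorem result (S : Scheme.{u}) (k : Type u) [Field k] (f : Spec (CommRingCat.of k) ⟶ S) :
    LocallyOfFiniteType f ↔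
      ∃ U : S.Opens, IsAffineOpen U ∧ ∃ hu : f.base (IsLocalRing.closedPoint k) ∈ U,
        IsClosed ({⟨f.base (IsLocalRing.closedPoint k), hu⟩} : Set ↥U) ∧
          (f.residueFieldMap (IsLocalRing.closedPoint k)).hom.Finite := by
  let pt : Spec (CommRingCat.of k) := IsLocalRing.closedPoint k
  have hiso : IsIso ((Spec (CommRingCat.of k)).fromSpecResidueField pt) := by
    have hcl : IsClosed ({pt} : Set (Spec (CommRingCat.of k))) := IsLocalRing.isClosed_singleton_closedPoint k
    have := isClosed_singleton_iff_isClosedImmersion.1 hcl
    have : Surjective ((Spec (CommRingCat.of k)).fromSpecResidueField pt) :=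
      ⟨fun a => ⟨default, Subsingleton.elim (α := PrimeSpectrum k) _ a⟩⟩
    exact isIso_of_isClosedImmersion_of_surjective _
  constructor
  · intro h
    obtain ⟨U, hU, hu, hc⟩ := Groth.Agent.Lib.FtPoint.Basic.exists_isClosed_of_locallyOfFiniteType f
    refine ⟨U, hU, hu, hc, ?_⟩
    have h1 : LocallyOfFiniteType (Spec.map (f.residueFieldMap pt) ≫ S.fromSpecResidueField (f pt)) := by
      rw [Scheme.Hom.SpecMap_residueFieldMap_fromSpecResidueField]; infer_instance
    have h2 := locallyOfFiniteType_of_comp (Spec.map (f.residueFieldMap pt)) (S.fromSpecResidueField (f pt))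
    have h3 := (HasRingHomProperty.Spec_iff (P := @LocallyOfFiniteType.{u})).1 h2
    letI := (f.residueFieldMap pt).hom.toAlgebra
    have : Algebra.FiniteType (S.residueField (f pt)) ((Spec (CommRingCat.of k)).residueField pt) := h3
    exact finite_of_finite_type_of_isJacobsonRing (S.residueField (f pt)) ((Spec (CommRingCat.of k)).residueField pt)
  · rintro ⟨U, -, hu, hc, hfin⟩
    have := Groth.Agent.Lib.FtPoint.Basic.locallyOfFiniteType_fromSpecResidueField U hu hc
    have : LocallyOfFiniteType (Spec.map (f.residueFieldMap pt)) :=
      (HasRingHomProperty.Spec_iff (P := @LocallyOfFiniteType.{u})).2 (RingHom.FiniteType.of_finite hfin)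
    have e : f = inv ((Spec (CommRingCat.of k)).fromSpecResidueField pt) ≫
        Spec.map (f.residueFieldMap pt) ≫ S.fromSpecResidueField (f pt) := by
      rw [Scheme.Hom.SpecMap_residueFieldMap_fromSpecResidueField, IsIso.inv_hom_id_assoc]
    rw [e]
    infer_instance

end Groth.Agent.S9337
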