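import Groth.Statements.S9338
import Groth.Agent.Lib.FtPoint.Basic
import Mathlib.RingTheory.Artinian.Module
import Mathlib.RingTheory.HopkinsLevitzki

set_option autoImplicit false
universe u
open FtPts

namespace Groth.Agent.S9338

open CategoryTheory

open AlgebraicGeometry CategoryTheory in
/-- For an Artinian local ring A with residue field κ, a morphism f : Spec A → S is (locally) of finite
type exactly when the composite Spec κ → Spec A → S is. -/
theorem result (S : Scheme.{u}) (A : Type u) [CommRing A] [IsArtinianRing A] [IsLocalRing A]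
    (f : Spec (CommRingCat.of A) ⟶ S) :
    LocallyOfFiniteType f ↔
      LocallyOfFiniteType (Spec.map (CommRingCat.ofHom (IsLocalRing.residue A)) ≫ f) := by
  have hc : IsClosedImmersion (Spec.map (CommRingCat.ofHom (IsLocalRing.residue A))) :=
    IsClosedImmersion.spec_of_surjective _ IsLocalRing.residue_surjective
  refine ⟨fun h => inferInstance, fun h => ?_⟩
  obtain ⟨_, ⟨V, hV, rfl⟩, hfV, -⟩ :=
    S.isBasis_affineOpens.exists_subset_of_mem_open (Set.mem_univ (f (IsLocalRing.closedPoint A))) isOpen_univ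
  replace hV : IsAffineOpen V := hV
  let g := IsOpenImmersion.lift hV.fromSpec f (by
    rintro _ ⟨a, rfl⟩
    rw [hV.range_fromSpec]
    exact ((IsLocalRing.specializes_closedPoint a).map f.continuous).mem_open V.isOpen hfV)
  have hg : g ≫ hV.fromSpec = f := IsOpenImmersion.lift_fac _ _ _
  obtain ⟨φ, hφ⟩ := Spec.map_surjective g
  have hft : ((IsLocalRing.residue A).comp φ.hom).FiniteType := by
    rw [← hg, ← hφ, ← Category.assoc, ← Spec.map_comp] at h
    have h2 := locallyOfFiniteType_of_comp (Spec.map (φ ≫ CommRingCat.ofHom (IsLocalRing.residue A))) hV.fromSpec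
    exact (HasRingHomProperty.Spec_iff (P := @LocallyOfFiniteType.{u})).1 h2
  suffices φ.hom.FiniteType by
    have : LocallyOfFiniteType (Spec.map φ) := (HasRingHomProperty.Spec_iff (P := @LocallyOfFiniteType.{u})).2 this
    rw [← hg, ← hφ]; infer_instance
  algebraize [φ.hom]
  classical
  set m := IsLocalRing.maximalIdeal A with hm
  obtain ⟨s, hs⟩ : m.FG := IsNoetherian.noetherian _
  have hft' : Algebra.FiniteType (Γ(S, V) : Type u) (IsLocalRing.ResidueField A) := by
    have : (algebraMap (Γ(S, V) : Type u) (IsLocalRing.ResidueField A)).FiniteType := hft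
    exact RingHom.finiteType_algebraMap.1 this
  obtain ⟨t, ht⟩ := hft'.out
  choose l hl using fun x : IsLocalRing.ResidueField A => IsLocalRing.residue_surjective x
  let C := Algebra.adjoin (Γ(S, V) : Type u) ((↑(t.image l) : Set A) ∪ (↑s : Set A))
  have h0 : ∀ a : A, ∃ c ∈ C, a - c ∈ m := by
    intro a
    have : IsLocalRing.residue A a ∈ C.map (IsScalarTower.toAlgHom (Γ(S, V) : Type u) A (IsLocalRing.ResidueField A)) := by
      have : Algebra.adjoin (Γ(S, V) : Type u) (t : Set (IsLocalRing.ResidueField A)) ≤ C.map (IsScalarTower.toAlgHom (Γ(S, V) : Type u) A (IsLocalRing.ResidueField A)) :=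
        Algebra.adjoin_le fun x hx => ⟨l x, Algebra.subset_adjoin (Or.inl (by simpa using ⟨x, hx, rfl⟩)), hl x⟩
      exact this (ht.ge Algebra.mem_top)
    obtain ⟨c, hcC, hca⟩ := this
    refine ⟨c, hcC, ?_⟩
    rw [hm, ← IsLocalRing.residue_eq_zero_iff, map_sub, sub_eq_zero]
    exact hca.symm
  have h1 : ∀ x ∈ m, ∃ c ∈ C, c ∈ m ∧ x - c ∈ m ^ 2 := by
    intro x hx
    rw [← hs] at hx
    induction hx using Submodule.span_induction with
    | mem x hx => exact ⟨x, Algebra.subset_adjoin (Or.inr hx), hs.le (Submodule.subset_span hx), by simp⟩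
    | zero => exact ⟨0, C.zero_mem, m.zero_mem, by simp⟩
    | add x y _ _ hx hy =>
      obtain ⟨c, h1, h2, h3⟩ := hx
      obtain ⟨d, e1, e2, e3⟩ := hy
      exact ⟨c + d, C.add_mem h1 e1, m.add_mem h2 e2, by rw [add_sub_add_comm]; exact Ideal.add_mem _ h3 e3⟩
    | smul r x hxm hx =>
      obtain ⟨c, h1, h2, h3⟩ := hx
      obtain ⟨r', hr1, hr2⟩ := h0 r
      refine ⟨r' * c, C.mul_mem h1 hr1 |> fun _ => C.mul_mem hr1 h1, m.mul_mem_left _ h2, ?_⟩
      rw [smul_eq_mul, show r * x - r' * c = (r - r') * c + r * (x - c) by ring]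
      exact Ideal.add_mem _ (by rw [pow_two]; exact Ideal.mul_mem_mul hr2 h2) ((m ^ 2).mul_mem_left _ h3)
  have hk : ∀ n : ℕ, ∀ x ∈ m ^ n, ∃ c ∈ C, c ∈ m ^ n ∧ x - c ∈ m ^ (n + 1) := by
    intro n
    induction n with
    | zero =>
      intro x _
      obtain ⟨c, h, h'⟩ := h0 x
      exact ⟨c, h, by simp, by simpa using h'⟩
    | succ n ih =>
      intro x hx
      rw [pow_succ'] at hx
      refine Submodule.mul_induction_on hx (fun a ha b hb => ?_) (fun x y hx hy => ?_)
      · obtain ⟨c, hc1, hc2, hc3⟩ := h1 a ha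
        obtain ⟨d, hd1, hd2, hd3⟩ := ih b hb
        refine ⟨c * d, C.mul_mem hc1 hd1, by rw [pow_succ']; exact Ideal.mul_mem_mul hc2 hd2, ?_⟩
        rw [show a * b - c * d = (a - c) * b + c * (b - d) by ring]
        refine Ideal.add_mem _ ?_ ?_
        · rw [show n + 1 + 1 = 2 + n by omega, pow_add]; exact Ideal.mul_mem_mul hc3 hb
        · rw [show n + 1 + 1 = (n + 1) + 1 by rfl, pow_succ' m (n + 1)]; exact Ideal.mul_mem_mul hc2 hd3
      · obtain ⟨c, h1, h2, h3⟩ := hx
        obtain ⟨d, e1, e2, e3⟩ := hy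
        exact ⟨c + d, C.add_mem h1 e1, Ideal.add_mem _ h2 e2, by rw [add_sub_add_comm]; exact Ideal.add_mem _ h3 e3⟩
  obtain ⟨N, hN⟩ : IsNilpotent m := by
    rw [hm, ← IsLocalRing.ringJacobson_eq_maximalIdeal]
    exact IsSemiprimaryRing.isNilpotent
  have hall : ∀ (n : ℕ) (a : A), ∃ c ∈ C, a - c ∈ m ^ n := by
    intro n
    induction n with
    | zero => exact fun a => ⟨0, C.zero_mem, by simp⟩
    | succ n ih =>
      intro a
      obtain ⟨c, hc1, hc2⟩ := ih a
      obtain ⟨d, hd1, -, hd3⟩ := hk n _ hc2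
      exact ⟨c + d, C.add_mem hc1 hd1, by rwa [← sub_sub]⟩
  have htop : C = ⊤ := top_le_iff.1 fun a _ => by
    obtain ⟨c, hc1, hc2⟩ := hall N a
    rw [hN, Ideal.zero_eq_bot, Ideal.mem_bot, sub_eq_zero] at hc2
    exact hc2 ▸ hc1
  exact ⟨⟨t.image l ∪ s, by rw [Finset.coe_union]; exact htop⟩⟩

end Groth.Agent.S9338
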