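import Groth.Statements.S9340
import Groth.Agent.Lib.FtPoint.Basic

set_option autoImplicit false
universe u
open FtPts

namespace Groth.Agent.S9340

open CategoryTheory

open AlgebraicGeometry CategoryTheory in
/-- A surjective morphism locally of finite type maps the set of finite type points of the source onto
the set of finite type points of the target. -/
theorem result {T S : Scheme.{u}} (f : T ⟶ S) [LocallyOfFiniteType f] [Surjective f] :
    f.base '' {t : ↑T | LocallyOfFiniteType (T.fromSpecResidueField t)} =
      {s : ↑S | LocallyOfFiniteType (S.fromSpecResidueField s)} := by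
  refine subset_antisymm ?_ fun s hs => ?_
  · rintro _ ⟨t, ht, rfl⟩
    have : LocallyOfFiniteType (T.fromSpecResidueField t) := ht
    exact Groth.Agent.Lib.FtPoint.Basic.locallyOfFiniteType_fromSpecResidueField_image
      (K := T.residueField t) (T.fromSpecResidueField t ≫ f) (congrArg f.base (Scheme.fromSpecResidueField_apply t _))
  · have : LocallyOfFiniteType (S.fromSpecResidueField s) := hs
    obtain ⟨U, -, hu, hc⟩ := Groth.Agent.Lib.FtPoint.Basic.exists_isClosed (S := S) (s := s)
    obtain ⟨C, hC, hCe⟩ := isClosed_induced_iff.1 hc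
    have hl : IsLocallyClosed (f.base ⁻¹' {s}) := by
      refine ⟨f.base ⁻¹' U, f.base ⁻¹' C, U.isOpen.preimage f.continuous, hC.preimage f.continuous, ?_⟩
      ext t
      simp only [Set.mem_preimage, Set.mem_inter_iff, Set.mem_singleton_iff]
      constructor
      · intro e
        have : (⟨s, hu⟩ : U) ∈ Subtype.val ⁻¹' C := hCe.ge rfl
        exact ⟨e ▸ hu, e ▸ this⟩
      · rintro ⟨h1, h2⟩
        have : (⟨f.base t, h1⟩ : U) ∈ Subtype.val ⁻¹' C := h2
        exact congrArg Subtype.val (hCe.le this)
    obtain ⟨t₀, ht₀⟩ := f.surjective s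
    obtain ⟨t, ht, ht'⟩ := Groth.Agent.Lib.FtPoint.Basic.exists_ftPoint_of_isLocallyClosed hl ⟨t₀, ht₀⟩
    exact ⟨t, ht', ht⟩

end Groth.Agent.S9340
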