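import Groth.Statements.S9345
import Mathlib

set_option autoImplicit false
universe u
open Dom

namespace Groth.Agent.S9345

open AlgebraicGeometry CategoryTheory in
/-- For a morphism f : X → S whose source has only finitely many irreducible components, the image of f
is dense exactly when it contains the generic point of each irreducible component of S, and then S
too has finitely many. -/
theorem result {X S : Scheme.{u}} (f : X ⟶ S)
    (hX : (irreducibleComponents (↑X : Type u)).Finite) :
    (IsDominant f ↔ ∀ s : ↑S, closure {s} ∈ irreducibleComponents (↑S : Type u) → s ∈ Set.range f.base) ∧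
      (IsDominant f → (irreducibleComponents (↑S : Type u)).Finite) := by
  have key : IsDominant f → ∀ s : ↑S, closure {s} ∈ irreducibleComponents (↑S : Type u) →
      ∃ Z ∈ irreducibleComponents (↑X : Type u), ∃ ξ, closure ({ξ} : Set X) = Z ∧ f.base ξ = s := by
    intro hf s hs
    let g : irreducibleComponents (↑X : Type u) → X := fun Z => Z.2.1.genericPoint
    haveI := hX.to_subtype
    have hg : ∀ Z : irreducibleComponents (↑X : Type u), closure ({g Z} : Set X) = Z.1 := fun Z =>
      (Z.2.1.isGenericPoint_genericPoint_closure).def.trans (isClosed_of_mem_irreducibleComponents _ Z.2).closure_eq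
    have hsub : Set.range f.base ⊆ ⋃ Z : irreducibleComponents (↑X : Type u), closure ({f.base (g Z)} : Set S) := by
      rintro _ ⟨x, rfl⟩
      obtain ⟨Z, hZ, hxZ⟩ : ∃ Z ∈ irreducibleComponents (↑X : Type u), x ∈ Z :=
        ⟨irreducibleComponent x, irreducibleComponent_mem_irreducibleComponents x, mem_irreducibleComponent⟩
      refine Set.mem_iUnion.mpr ⟨⟨Z, hZ⟩, ?_⟩
      have h1 : g ⟨Z, hZ⟩ ⤳ x := specializes_iff_mem_closure.mpr ((hg ⟨Z, hZ⟩).symm ▸ hxZ)
      exact (h1.map f.continuous).mem_closure
    have hcl : IsClosed (⋃ Z : irreducibleComponents (↑X : Type u), closure ({f.base (g Z)} : Set S)) :=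
      isClosed_iUnion_of_finite fun _ => isClosed_closure
    have hs' : s ∈ ⋃ Z : irreducibleComponents (↑X : Type u), closure ({f.base (g Z)} : Set S) :=
      closure_minimal hsub hcl (f.denseRange s)
    obtain ⟨Z, hZ⟩ := Set.mem_iUnion.mp hs'
    refine ⟨Z.1, Z.2, g Z, hg Z, ?_⟩
    have h1 : closure ({s} : Set S) ⊆ closure {f.base (g Z)} := closure_minimal (Set.singleton_subset_iff.mpr hZ) isClosed_closure
    have h2 := hs.2 isIrreducible_singleton.closure h1
    exact (specializes_iff_closure_subset.mpr h1).antisymm (specializes_iff_closure_subset.mpr h2) |>.eq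
  refine ⟨⟨fun hf s hs => ?_, fun h => ⟨fun y => ?_⟩⟩, fun hf => ?_⟩
  · obtain ⟨_, _, ξ, -, rfl⟩ := key hf s hs
    exact ⟨ξ, rfl⟩
  · have hY := irreducibleComponent_mem_irreducibleComponents y
    obtain ⟨w, hw⟩ := QuasiSober.sober hY.1 isClosed_irreducibleComponent
    have : w ∈ Set.range f.base := h w (hw.def.symm ▸ hY)
    refine closure_mono (Set.singleton_subset_iff.mpr this) ?_
    rw [hw.def]
    exact mem_irreducibleComponent
  · refine (hX.image fun Z => closure (f.base '' Z)).subset fun W hW => ?_
    obtain ⟨w, hw⟩ := QuasiSober.sober hW.1 (isClosed_of_mem_irreducibleComponents _ hW)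
    obtain ⟨Z, hZ, ξ, hξ, hfξ⟩ := key hf w (hw.def.symm ▸ hW)
    refine ⟨Z, hZ, ?_⟩
    show closure (f.base '' Z) = W
    rw [← hξ, closure_image_closure f.continuous, Set.image_singleton, hfξ, hw.def]

end Groth.Agent.S9345
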