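import Groth.Statements.S9346
import Mathlib

set_option autoImplicit false
universe u
open Dom

namespace Groth.Agent.S9346

open AlgebraicGeometry CategoryTheory in
/-- For a morphism f : X → Y between integral schemes, these six conditions coincide: (1) f is dominant;
(2) f sends the generic point of X to that of Y; (3) there exist affine opens U ⊆ X, V ⊆ Y with U
nonempty and U ⊆ f⁻¹V such that the induced ring map on sections is injective; (4) the same for all
such pairs; (5) for some x ∈ X the map of local rings O_{Y,f x} → O_{X,x} is injective; (6) the same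
for all x. -/
theorem result {X Y : Scheme.{u}} [AlgebraicGeometry.IsIntegral X] [AlgebraicGeometry.IsIntegral Y] (f : X ⟶ Y) :
    [IsDominant f,
      f.base (genericPoint ↑X) = genericPoint ↑Y,
      ∃ (U : X.Opens) (V : Y.Opens) (hUV : U ≤ f ⁻¹ᵁ V), IsAffineOpen U ∧ IsAffineOpen V ∧ (U : Set ↑X).Nonempty ∧
        Function.Injective (f.appLE V U hUV),
      ∀ (U : X.Opens) (V : Y.Opens) (hUV : U ≤ f ⁻¹ᵁ V), IsAffineOpen U → IsAffineOpen V → (U : Set ↑X).Nonempty →
        Function.Injective (f.appLE V U hUV),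
      ∃ x : ↑X, Function.Injective (f.stalkMap x),
      ∀ x : ↑X, Function.Injective (f.stalkMap x)].TFAE := by
  have key : f.base (genericPoint ↑X) = genericPoint ↑Y → ∀ (U : X.Opens) (V : Y.Opens) (hUV : U ≤ f ⁻¹ᵁ V),
      (U : Set ↑X).Nonempty → Function.Injective (f.appLE V U hUV) := by
    intro h U V hUV hne
    rw [injective_iff_map_eq_zero]
    intro s hs
    have hηU : genericPoint ↑X ∈ U :=
      ((genericPoint_spec X).mem_open_set_iff U.2).mpr (by simpa using hne)
    rw [← basicOpen_eq_bot_iff]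
    ext z
    simp only [TopologicalSpace.Opens.coe_bot, Set.mem_empty_iff_false, iff_false]
    intro hz
    have hηY : genericPoint ↑Y ∈ Y.basicOpen s :=
      ((genericPoint_spec Y).mem_open_set_iff (Y.basicOpen s).2).mpr ⟨z, trivial, hz⟩
    have h2 : genericPoint ↑X ∈ U ⊓ f ⁻¹ᵁ Y.basicOpen s := ⟨hηU, (show f.base (genericPoint ↑X) ∈ Y.basicOpen s by rw [h]; exact hηY)⟩
    rw [← Scheme.basicOpen_appLE f U V hUV s, hs, Scheme.basicOpen_zero] at h2
    exact h2
  tfae_have 1 → 2 := fun h =>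
    ((genericPoint_spec X).image f.continuous).eq (by
      rw [isGenericPoint_def, (genericPoint_spec Y).def, Set.image_univ, h.denseRange.closure_range])
  tfae_have 2 → 1 := fun h => ⟨fun y => by
    refine closure_mono (Set.singleton_subset_iff.mpr (show genericPoint ↑Y ∈ Set.range f.base from ⟨_, h⟩)) ?_
    rw [(genericPoint_spec Y).def]; trivial⟩
  tfae_have 2 → 4 := fun h U V hUV _ _ hne => key h U V hUV hne
  tfae_have 2 → 6 := by
    intro h x
    rw [injective_iff_map_eq_zero]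
    intro a ha
    obtain ⟨V, hxV, s, rfl⟩ := Y.presheaf.exists_germ_eq a
    rw [Scheme.Hom.germ_stalkMap_apply, ← map_zero (X.presheaf.germ (f ⁻¹ᵁ V) x hxV).hom] at ha
    obtain ⟨W, hxW, i₁, i₂, hW⟩ := X.presheaf.germ_eq x hxV hxV _ _ ha
    rw [map_zero] at hW
    have hWV : W ≤ f ⁻¹ᵁ V := i₁.le
    have hinj := key h W V hWV ⟨x, hxW⟩
    have : f.appLE V W hWV s = 0 := hW
    rw [hinj (this.trans (map_zero _).symm), map_zero]
  tfae_have 6 → 5 := fun h => ⟨genericPoint ↑X, h _⟩
  tfae_have 5 → 3 := by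
    rintro ⟨x, hx⟩
    obtain ⟨V, hV, hxV, -⟩ := exists_isAffineOpen_mem_and_subset (X := Y) (x := f.base x) (U := ⊤) trivial
    obtain ⟨U, hU, hxU, hUV⟩ := exists_isAffineOpen_mem_and_subset (X := X) (x := x) (U := f ⁻¹ᵁ V) hxV
    refine ⟨U, V, hUV, hU, hV, ⟨x, hxU⟩, ?_⟩
    haveI : Nonempty V := ⟨⟨_, hxV⟩⟩
    intro a b hab
    apply germ_injective_of_isIntegral Y (f.base x) hxV
    apply hx
    rw [Scheme.Hom.germ_stalkMap_apply, Scheme.Hom.germ_stalkMap_apply]
    have e : ∀ c, X.presheaf.germ (f ⁻¹ᵁ V) x hxV (f.app V c) = X.presheaf.germ U x hxU (f.appLE V U hUV c) :=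
      fun c => (X.presheaf.germ_res_apply (homOfLE hUV) x hxU _).symm
    rw [e, e, hab]
  tfae_have 4 → 3 := by
    intro h
    obtain ⟨V, hV, hxV, -⟩ := exists_isAffineOpen_mem_and_subset (X := Y) (x := f.base (genericPoint ↑X)) (U := ⊤) trivial
    obtain ⟨U, hU, hxU, hUV⟩ := exists_isAffineOpen_mem_and_subset (X := X) (x := genericPoint ↑X) (U := f ⁻¹ᵁ V) hxV
    exact ⟨U, V, hUV, hU, hV, ⟨_, hxU⟩, h U V hUV hU hV ⟨_, hxU⟩⟩
  tfae_have 3 → 2 := by
    rintro ⟨U, V, hUV, hU, hV, hne, hinj⟩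
    have hηU : genericPoint ↑X ∈ U :=
      ((genericPoint_spec X).mem_open_set_iff U.2).mpr (by simpa using hne)
    by_contra hne'
    have hfV : f.base (genericPoint ↑X) ∈ V := hUV hηU
    obtain ⟨s, hsne, hs⟩ : ∃ s : Γ(Y, V), s ≠ 0 ∧ f.base (genericPoint ↑X) ∉ Y.basicOpen s := by
      by_contra! hc
      apply hne'
      refine ((genericPoint_spec Y).eq ?_).symm
      rw [isGenericPoint_def, Set.eq_univ_iff_forall]
      intro y
      refine (dense_iff_inter_open.mpr fun O hO hOne => ?_) y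
      obtain ⟨z, hz⟩ := hOne
      have hηO : genericPoint ↑Y ∈ O := ((genericPoint_spec Y).mem_open_set_iff hO).mpr ⟨z, trivial, hz⟩
      have hηV : genericPoint ↑Y ∈ V := ((genericPoint_spec Y).mem_open_set_iff V.2).mpr ⟨_, trivial, hfV⟩
      obtain ⟨s, hs1, hs2⟩ := hV.exists_basicOpen_le (V := ⟨O, hO⟩) ⟨genericPoint ↑Y, hηO⟩ hηV
      have : s ≠ 0 := by rintro rfl; rw [Scheme.basicOpen_zero] at hs2; exact hs2
      exact ⟨_, hs1 (hc s this), rfl⟩
    apply hsne
    apply hinj
    rw [map_zero, ← basicOpen_eq_bot_iff, Scheme.basicOpen_appLE]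
    ext z
    simp only [TopologicalSpace.Opens.coe_bot, Set.mem_empty_iff_false, iff_false]
    rintro ⟨hzU, hz⟩
    exact hs (((genericPoint_spec X).specializes (Set.mem_univ z)).map f.continuous |>.mem_open (Y.basicOpen s).2 hz)
  tfae_finish

end Groth.Agent.S9346
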