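import Groth.Statements.S9348
import Mathlib.AlgebraicGeometry.Morphisms.QuasiCompact
import Mathlib.AlgebraicGeometry.Morphisms.UnderlyingMap
import Mathlib.AlgebraicGeometry.PullbackCarrier

set_option autoImplicit false
universe u
open Dom

namespace Groth.Agent.S9348

open AlgebraicGeometry CategoryTheory in
/-- Let f : X → Y be a morphism and g : Y' → Y open and surjective. If the base change f' : X ×_Y Y' →
Y' of f is quasi-compact, then so is f. -/
theorem result {X Y X' Y' : Scheme.{u}} (f : X ⟶ Y) (g : Y' ⟶ Y) [Surjective g]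
    (hg : IsOpenMap g.base) (g' : X' ⟶ X) (f' : X' ⟶ Y') (hsq : IsPullback g' f' f g) [QuasiCompact f'] :
    QuasiCompact f := by
  refine quasiCompact_iff _ |>.2 fun U hU hUc => ?_
  obtain ⟨t, ht⟩ : ∃ t : Finset { W : Y'.Opens // IsCompact (W : Set Y') ∧ W ≤ g ⁻¹ᵁ ⟨U, hU⟩ },
      U ⊆ ⋃ W ∈ t, g '' (W.1 : Set Y') := by
    refine hUc.elim_finite_subcover
      (fun W : { W : Y'.Opens // IsCompact (W : Set Y') ∧ W ≤ g ⁻¹ᵁ ⟨U, hU⟩ } => g '' (W.1 : Set Y'))
      (fun W => hg _ W.1.isOpen) fun y hy => ?_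
    obtain ⟨y', rfl⟩ := g.surjective y
    obtain ⟨_, ⟨V, hV, rfl⟩, hyV, hVU⟩ :=
      Y'.isBasis_affineOpens.exists_subset_of_mem_open (show y' ∈ g ⁻¹' U from hy) (hU.preimage g.continuous)
    exact Set.mem_iUnion.2 ⟨⟨V, IsAffineOpen.isCompact hV, hVU⟩, y', hyV, rfl⟩
  have : f ⁻¹' U = ⋃ W ∈ t, g' '' (f' ⁻¹' (W.1 : Set Y')) := by
    ext x
    simp only [Set.mem_iUnion, Set.mem_image, Set.mem_preimage]
    constructor
    · intro hx
      obtain ⟨W, hW, w, hw, hwx⟩ := Set.mem_iUnion₂.1 (ht hx)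
      obtain ⟨z, hz1, hz2⟩ := Scheme.Pullback.exists_preimage_pullback (f := f) (g := g) x w hwx.symm
      refine ⟨W, hW, hsq.isoPullback.inv z, ?_, ?_⟩
      · rw [← Scheme.Hom.comp_apply, CategoryTheory.IsPullback.isoPullback_inv_snd, hz2]
        exact hw
      · rw [← Scheme.Hom.comp_apply, CategoryTheory.IsPullback.isoPullback_inv_fst, hz1]
    · rintro ⟨W, -, a, ha, rfl⟩
      rw [← Scheme.Hom.comp_apply, hsq.w, Scheme.Hom.comp_apply]
      exact W.2.2 ha
  rw [this]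
  exact t.isCompact_biUnion fun W _ => (f'.isCompact_preimage W.2.1).image g'.continuous

end Groth.Agent.S9348
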