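import Groth.Statements.S9351
import Mathlib.RingTheory.Ideal.Pure
import Mathlib.RingTheory.Ideal.Operations
import Mathlib.AlgebraicGeometry.IdealSheaf.Functorial
import Mathlib.AlgebraicGeometry.Morphisms.Flat
import Mathlib.AlgebraicGeometry.Morphisms.UniversallyOpen
import Mathlib.AlgebraicGeometry.Morphisms.ClosedImmersion

set_option autoImplicit false
universe u
open FlatMod
open CategoryTheory AlgebraicGeometry TopologicalSpace

namespace Groth.Agent.S9351

noncomputable section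

variable {X : Scheme.{u}}

/-- Sections with zero germ at every point of `Z`. -/
def van (Z : Set X) (U : X.affineOpens) : Ideal Γ(X, U.1) :=
  ⨅ (z : X) (hz : z ∈ U.1) (_ : z ∈ Z), RingHom.ker (X.presheaf.germ U.1 z hz).hom

theorem mem_van {Z : Set X} {U : X.affineOpens} {s : Γ(X, U.1)} :
    s ∈ van Z U ↔ ∀ z (hz : z ∈ U.1), z ∈ Z → X.presheaf.germ U.1 z hz s = 0 := by
  simp only [van, Submodule.mem_iInf, RingHom.mem_ker]

theorem germ_isUnit_iff {U : X.Opens} {z : X} (hz : z ∈ U) (a : Γ(X, U)) :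
    z ∈ X.basicOpen a ↔ IsUnit (X.presheaf.germ U z hz a) := X.mem_basicOpen a z hz

theorem exists_mul_eq_zero {U : X.Opens} (hU : IsAffineOpen U) {z : X} (hz : z ∈ U) {s : Γ(X, U)}
    (h : X.presheaf.germ U z hz s = 0) : ∃ a : Γ(X, U), z ∈ X.basicOpen a ∧ a * s = 0 := by
  let _ := TopCat.Presheaf.algebra_section_stalk X.presheaf (⟨z, hz⟩ : U)
  have := hU.isLocalization_stalk ⟨z, hz⟩
  obtain ⟨⟨a, ha⟩, e⟩ := (IsLocalization.map_eq_zero_iff (hU.primeIdealOf ⟨z, hz⟩).asIdeal.primeCompl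
    (X.presheaf.stalk z) s).mp h
  exact ⟨a, (germ_isUnit_iff hz a).mpr (IsLocalization.map_units (X.presheaf.stalk z)
    (⟨a, ha⟩ : (hU.primeIdealOf ⟨z, hz⟩).asIdeal.primeCompl)), e⟩

theorem not_mem_iff {U : X.Opens} (hU : IsAffineOpen U) (p : PrimeSpectrum Γ(X, U)) (a : Γ(X, U)) :
    hU.fromSpec p ∈ X.basicOpen a ↔ a ∉ p.asIdeal := by
  change p ∈ hU.fromSpec ⁻¹ᵁ X.basicOpen a ↔ _
  rw [hU.fromSpec_preimage_basicOpen]
  exact Iff.rfl

/-- An element with zero germ on `Z` is absorbed by any ideal cutting out `Z`. -/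
theorem key {Z : Set X} {U : X.affineOpens} {x : Γ(X, U.1)} (hx : x ∈ van Z U) (K : Ideal Γ(X, U.1))
    (hK : ∀ z ∈ U.1, z ∉ Z → ∃ s ∈ K, z ∈ X.basicOpen s) : ∃ y ∈ K, x = x * y := by
  have htop : (LinearMap.ker (LinearMap.toSpanSingleton Γ(X, U.1) Γ(X, U.1) x) : Ideal Γ(X, U.1)) ⊔ K = ⊤ := by
    by_contra hne
    obtain ⟨m, hm, hle⟩ := Ideal.exists_le_maximal _ hne
    let z := U.2.fromSpec ⟨m, hm.isPrime⟩
    have hz : z ∈ U.1 := by
      have : z ∈ Set.range U.2.fromSpec := ⟨_, rfl⟩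
      rwa [U.2.range_fromSpec] at this
    by_cases hzZ : z ∈ Z
    · obtain ⟨a, ha, hax⟩ := exists_mul_eq_zero U.2 hz (mem_van.mp hx z hz hzZ)
      exact (not_mem_iff U.2 _ a).mp ha (hle (Submodule.mem_sup_left
        (LinearMap.mem_ker.mpr hax)))
    · obtain ⟨s, hs, hsz⟩ := hK z hz hzZ
      exact (not_mem_iff U.2 _ s).mp hsz (hle (Submodule.mem_sup_right hs))
  obtain ⟨a, ha, y, hy, e⟩ := Submodule.mem_sup.mp (htop.ge (Submodule.mem_top (x := (1 : Γ(X, U.1)))))
  refine ⟨y, hy, ?_⟩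
  rw [LinearMap.mem_ker, LinearMap.toSpanSingleton_apply, smul_eq_mul] at ha
  calc x = x * (a + y) := by rw [e, mul_one]
    _ = x * y := by rw [mul_add, mul_comm x a, ha, zero_add]

section Exists

variable {Z : Set X} (hZc : IsClosed Z) (hZ : StableUnderGeneralization Z)

include hZc hZ in
theorem exists_mem_van (U : X.affineOpens) {z : X} (hzU : z ∈ U.1) (hz : z ∉ Z) :
    ∃ s ∈ van Z U, z ∈ X.basicOpen s := by
  obtain ⟨b, hb, hzb⟩ := U.2.exists_basicOpen_le (V := ⟨Zᶜ, hZc.isOpen_compl⟩) ⟨z, hz⟩ hzU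
  have hnil : ∀ q : X, q ∈ U.1 → q ∈ Z → ∃ (a : Γ(X, U.1)) (n : ℕ), q ∈ X.basicOpen a ∧ a * b ^ n = 0 := by
    intro q hq hqZ
    let _ := TopCat.Presheaf.algebra_section_stalk X.presheaf (⟨q, hq⟩ : U.1)
    have := U.2.isLocalization_stalk ⟨q, hq⟩
    obtain ⟨n, hn⟩ : IsNilpotent (X.presheaf.germ U.1 q hq b) := by
      rw [nilpotent_iff_mem_prime]
      intro P hP
      by_contra hbP
      let p : PrimeSpectrum Γ(X, U.1) := ⟨P.comap (X.presheaf.germ U.1 q hq).hom, Ideal.IsPrime.comap _⟩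
      have hsp : U.2.fromSpec p ⤳ q := by
        refine (congrArg (U.2.fromSpec p ⤳ ·) (U.2.fromSpec_primeIdealOf ⟨q, hq⟩)).mp ?_
        refine Specializes.map ((PrimeSpectrum.le_iff_specializes _ _).mp ?_) U.2.fromSpec.continuous
        intro a ha
        by_contra hna
        exact hP.ne_top (Ideal.eq_top_of_isUnit_mem _ ha (IsLocalization.map_units (X.presheaf.stalk q)
          (⟨a, hna⟩ : (U.2.primeIdealOf ⟨q, hq⟩).asIdeal.primeCompl)))
      exact hb ((not_mem_iff U.2 p b).mpr hbP) (hZ hsp hqZ)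
    rw [← map_pow] at hn
    obtain ⟨a, ha, e⟩ := exists_mul_eq_zero U.2 hq hn
    exact ⟨a, n, ha, e⟩
  choose a n ha hab using fun q : {q : X // q ∈ U.1 ∧ q ∈ Z} => hnil q q.2.1 q.2.2
  obtain ⟨t, ht⟩ := (U.2.isCompact.inter_right hZc).elim_finite_subcover
    (fun q : {q : X // q ∈ U.1 ∧ q ∈ Z} => (X.basicOpen (a q) : Set X)) (fun q => (X.basicOpen (a q)).2)
    (fun q hq => Set.mem_iUnion.mpr ⟨⟨q, hq⟩, ha ⟨q, hq⟩⟩)
  refine ⟨b ^ (t.sup n + 1), mem_van.mpr fun q hq hqZ => ?_, ?_⟩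
  · obtain ⟨i, hi, hqi⟩ := Set.mem_iUnion₂.mp (ht ⟨hq, hqZ⟩)
    refine ((germ_isUnit_iff hq (a i)).mp hqi).mul_right_eq_zero.mp ?_
    obtain ⟨d, hd⟩ := le_iff_exists_add.mp ((Finset.le_sup (f := n) hi).trans (Nat.le_add_right _ 1))
    rw [← map_mul, hd, pow_add, ← mul_assoc, hab i, zero_mul, map_zero]
  · rw [germ_isUnit_iff hzU, map_pow]
    exact ((germ_isUnit_iff hzU b).mp hzb).pow _

/-- The flat closed subscheme on `Z`. -/
def flatIdeal : X.IdealSheafData :=
  Scheme.IdealSheafData.mkOfMemSupportIff (van Z)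
    (fun U f => by
      apply le_antisymm
      · refine Ideal.map_le_iff_le_comap.mpr fun s hs => mem_van.mpr fun z hz hzZ => ?_
        exact (X.presheaf.germ_res_apply _ z hz s).trans (mem_van.mp hs z (X.basicOpen_le f hz) hzZ)
      · intro x hx
        obtain ⟨y, hy, e⟩ := key (U := X.affineBasicOpen f) hx
          ((van Z U).map (X.presheaf.map (homOfLE <| X.basicOpen_le f).op).hom) fun z hz hzZ => by
            obtain ⟨s, hs, hzs⟩ := exists_mem_van hZc hZ U (X.basicOpen_le f hz) hzZ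
            refine ⟨_, Ideal.mem_map_of_mem _ hs, ?_⟩
            exact (X.basicOpen_res s (homOfLE (X.basicOpen_le f)).op).ge ⟨hz, hzs⟩
        rw [e]
        exact Ideal.mul_mem_left _ _ hy)
    Z
    fun U z hz => by
      rw [Scheme.mem_zeroLocus_iff]
      refine ⟨fun hzZ s hs hzs => ?_, fun h => by_contra fun hzZ => ?_⟩
      · have := (germ_isUnit_iff hz s).mp hzs
        rw [mem_van.mp hs z hz hzZ] at this
        exact not_isUnit_zero this
      · obtain ⟨s, hs, hzs⟩ := exists_mem_van hZc hZ U hz hzZ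
        exact h s hs hzs

theorem flat_flatIdeal : Flat (flatIdeal hZc hZ).subschemeι := by
  set I := flatIdeal hZc hZ
  rw [HasRingHomProperty.iff_exists_appLE (P := @Flat)
    (RingHom.Flat.stableUnderComposition.stableUnderCompositionWithLocalizationAway
      RingHom.Flat.holdsForLocalizationAway).left]
  intro z
  obtain ⟨U, hU, hzU, -⟩ := exists_isAffineOpen_mem_and_subset (x := I.subschemeι z) (U := ⊤) trivial
  refine ⟨⟨U, hU⟩, ⟨_, hU.preimage I.subschemeι⟩, hzU, le_rfl, ?_⟩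
  rw [← Scheme.Hom.app_eq_appLE, I.subschemeι_app ⟨U, hU⟩, CommRingCat.hom_comp]
  have : (van Z ⟨U, hU⟩).Pure := Ideal.Pure.of_inf_eq_mul _ fun J _ => by
    refine le_antisymm (fun x hx => ?_) Ideal.mul_le_inf
    obtain ⟨y, hy, e⟩ := key hx.1 _ fun z hz hzZ => exists_mem_van hZc hZ ⟨U, hU⟩ hz hzZ
    rw [e, mul_comm x y]
    exact Ideal.mul_mem_mul hy hx.2
  exact (RingHom.flat_algebraMap_iff.mpr this : RingHom.Flat (algebraMap Γ(X, U) (Γ(X, U) ⧸ van Z ⟨U, hU⟩))).comp
    (RingHom.Flat.of_bijective (ConcreteCategory.bijective_of_isIso (I.subschemeObjIso ⟨U, hU⟩).inv))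

end Exists

theorem ideal_eq_of_flat (I : X.IdealSheafData) [Flat I.subschemeι] (U : X.affineOpens) :
    I.ideal U = van (I.support : Set X) U := by
  have hf : RingHom.Flat (Ideal.Quotient.mk (I.ideal U)) := by
    have h := I.subschemeι.flat_appLE U.2 (U.2.preimage I.subschemeι) le_rfl
    rw [← Scheme.Hom.app_eq_appLE, I.subschemeι_app U, CommRingCat.hom_comp] at h
    have h2 := RingHom.Flat.respectsIso.left _ (I.subschemeObjIso U).commRingCatIsoToRingEquiv h
    exact (congrArg RingHom.Flat (RingHom.ext fun r =>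
      ((I.subschemeObjIso U).commRingCatIsoToRingEquiv.apply_symm_apply _))).mp h2
  have : (I.ideal U).Pure := hf
  apply le_antisymm
  · intro x hx
    refine mem_van.mpr fun z hz hzI => ?_
    obtain ⟨y, hy, e⟩ := Ideal.exists_eq_mul_of_pure hx
    have hm : z ∈ X.zeroLocus (U := U.1) (I.ideal U : Set Γ(X, U.1)) ∩ U.1 := by
      rw [← I.coe_support_inter]; exact ⟨hzI, hz⟩
    have hy' : ¬ IsUnit (X.presheaf.germ U.1 z hz y) := fun hu =>
      (X.mem_zeroLocus_iff _ z).mp hm.1 y hy ((germ_isUnit_iff hz y).mpr hu)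
    have h1 : IsUnit (1 - X.presheaf.germ U.1 z hz y) :=
      IsLocalRing.isUnit_one_sub_self_of_mem_nonunits _ hy'
    refine h1.mul_left_eq_zero.mp ?_
    rw [mul_sub, mul_one, ← map_mul, ← e, sub_self]
  · intro x hx
    obtain ⟨y, hy, e⟩ := key hx (I.ideal U) fun z hz hzI => by
      by_contra! hall
      have hm : z ∈ X.zeroLocus (U := U.1) (I.ideal U : Set Γ(X, U.1)) ∩ U.1 :=
        ⟨(X.mem_zeroLocus_iff _ z).mpr hall, hz⟩
      rw [← I.coe_support_inter] at hm
      exact hzI hm.1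
    rw [e]
    exact Ideal.mul_mem_left _ _ hy

open AlgebraicGeometry CategoryTheory in
/-- On a scheme X, taking supports is a bijection from the closed subschemes Z ⊆ X with Z → X flat
(indexed by their quasi-coherent ideal sheaves) onto the closed subsets of X stable under
generalization; and any morphism g : Y → X with image inside such a Z factors through Z. -/
theorem result (X : Scheme.{u}) :
    Set.BijOn (fun I : X.IdealSheafData => I.support) {I : X.IdealSheafData | Flat I.subschemeι}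
        {Z : TopologicalSpace.Closeds ↑X | StableUnderGeneralization (Z : Set ↑X)} ∧
      ∀ I : X.IdealSheafData, Flat I.subschemeι → ∀ (Y : Scheme.{u}) (g : Y ⟶ X),
        Set.range g.base ⊆ (I.support : Set ↑X) → ∃ g' : Y ⟶ I.subscheme, g' ≫ I.subschemeι = g := by
  refine ⟨⟨fun I (hI : Flat I.subschemeι) => ?_, fun I (hI : Flat I.subschemeι) J (hJ : Flat J.subschemeι) h => ?_,
    fun Z hZ => ?_⟩, fun I hI Y g hg => ?_⟩
  · intro a b hba ha
    have ha' : a ∈ Set.range I.subschemeι := by rw [I.range_subschemeι]; exact ha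
    obtain ⟨a, rfl⟩ := ha'
    obtain ⟨c, -, hc⟩ := Flat.generalizingMap I.subschemeι hba
    have : b ∈ Set.range I.subschemeι := ⟨c, hc⟩
    rwa [I.range_subschemeι] at this
  · refine Scheme.IdealSheafData.ext (funext fun U => ?_)
    rw [ideal_eq_of_flat I U, ideal_eq_of_flat J U]
    exact congrArg (fun Z : Closeds X => van (Z : Set X) U) h
  · exact ⟨flatIdeal Z.isClosed hZ, flat_flatIdeal Z.isClosed hZ, SetLike.coe_injective rfl⟩
  · refine ⟨IsClosedImmersion.lift I.subschemeι g ?_, IsClosedImmersion.lift_fac _ _ _⟩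
    rw [I.ker_subschemeι]
    refine Scheme.IdealSheafData.le_ofIdeals_iff.mpr fun U s hs => ?_
    rw [RingHom.mem_ker]
    rw [ideal_eq_of_flat I U, mem_van] at hs
    refine TopCat.Presheaf.section_ext Y.sheaf _ _ _ fun y hy => ?_
    show Y.presheaf.germ _ y hy (g.app U.1 s) = Y.presheaf.germ _ y hy 0
    rw [← Scheme.Hom.germ_stalkMap_apply, hs (g y) hy (hg ⟨y, rfl⟩), map_zero, map_zero]

end

end Groth.Agent.S9351
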