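import Groth.Statements.S9352
import Groth.Agent.Lib.FlatFinite.Rank
import Groth.Agent.Lib.Modules.AffineSections
import Groth.Agent.Lib.QCoh.Pushforward
import Groth.Agent.H81.PushLocFree
import Groth.Agent.S9351

set_option autoImplicit false
universe u
open FlatMod

namespace Groth.Agent.S9352

open AlgebraicGeometry CategoryTheory in
open Groth.Agent.H81.PushLocFree in
/-- For a scheme X, every finite type flat quasi-coherent O_X-module is finite locally free if and only
if every closed subset of X that is stable under generalization is open. -/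
theorem result (X : Scheme.{u}) :
    (∀ F : X.Modules, Coh.IsQCoh F → CohB1.IsFT F → FlatMod.IsFlat F → FlatMod.IsFinLocFree F) ↔
      ∀ Z : Set ↑X, IsClosed Z → StableUnderGeneralization Z → IsOpen Z := by
  constructor
  · intro h Z hZc hZg
    obtain ⟨hbij, -⟩ := Groth.Agent.S9351.result X
    obtain ⟨I, hI, hIZ⟩ := hbij.surjOn (show (⟨Z, hZc⟩ : TopologicalSpace.Closeds X) ∈
      {W : TopologicalSpace.Closeds X | StableUnderGeneralization (W : Set X)} from hZg)
    replace hIZ : (I.support : Set X) = Z := congrArg (fun W : TopologicalSpace.Closeds X => (W : Set X)) hIZ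
    let ι := I.subschemeι
    haveI : Flat ι := hI
    let F : X.Modules := push ι
    haveI := Groth.Agent.Lib.TensorMod.QCohInv.isQCoh_structureModule I.subscheme
    haveI : F.IsQuasicoherent := Groth.Agent.Lib.QCoh.Pushforward.isQCoh_pushforward ι
    have hfin : ∀ U : X.Opens, IsAffineOpen U → Module.Finite Γ(X, U) Γ(F, U) := by
      intro U hU
      letI := (ι.app U).hom.toAlgebra
      haveI : Module.Finite Γ(X, U) Γ(I.subscheme, ι ⁻¹ᵁ U) :=
        Module.Finite.of_surjective (Algebra.linearMap _ _) (I.subschemeι_app_surjective ⟨U, hU⟩)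
      exact Module.Finite.equiv (sectionsEquiv ι U)
    have hflat : FlatMod.IsFlat F := by
      refine Groth.Agent.Lib.Modules.AffineSections.isFlat_of_sections fun x => ?_
      obtain ⟨U, hU, hx, -⟩ := exists_isAffineOpen_mem_and_subset (X := X) (x := x) (U := ⊤) trivial
      refine ⟨U, hU, hx, ?_⟩
      letI := (ι.app U).hom.toAlgebra
      haveI : Module.Flat Γ(X, U) Γ(I.subscheme, ι ⁻¹ᵁ U) := by
        have := HasRingHomProperty.appLE @Flat ι inferInstance ⟨U, hU⟩ ⟨ι ⁻¹ᵁ U, hU.preimage ι⟩ le_rfl
        rw [← Scheme.Hom.app_eq_appLE] at this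
        exact this
      exact Module.Flat.of_linearEquiv (sectionsEquiv ι U).symm
    have hFLF := h F inferInstance (Groth.Agent.Lib.CohBasics.Affine.isFiniteType_of_finite_sections fun x => by
      obtain ⟨U, hU, hx, -⟩ := exists_isAffineOpen_mem_and_subset (X := X) (x := x) (U := ⊤) trivial
      exact ⟨U, hU, hx, hfin U hU⟩) hflat
    refine isOpen_iff_mem_nhds.mpr fun x hxZ => ?_
    obtain ⟨U, hU, hx, -⟩ := exists_isAffineOpen_mem_and_subset (X := X) (x := x) (U := ⊤) trivial
    obtain ⟨hfi, hpr⟩ := Groth.Agent.Lib.Modules.AffineSections.finite_projective_sections hFLF hU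
    letI := (ι.app U).hom.toAlgebra
    let J := I.ideal ⟨U, hU⟩
    have hJ : J = RingHom.ker (algebraMap Γ(X, U) Γ(I.subscheme, ι ⁻¹ᵁ U)) :=
      (I.ker_subschemeι_app ⟨U, hU⟩).symm
    let q : (Γ(X, U) ⧸ RingHom.ker (algebraMap Γ(X, U) Γ(I.subscheme, ι ⁻¹ᵁ U))) ≃ₗ[Γ(X, U)] Γ(F, U) :=
      (LinearEquiv.ofBijective (Submodule.liftQ _ (Algebra.linearMap Γ(X, U) Γ(I.subscheme, ι ⁻¹ᵁ U)) le_rfl)
        ⟨LinearMap.ker_eq_bot.mp (Submodule.ker_liftQ_eq_bot _ _ _ le_rfl), fun y => by
          obtain ⟨a, rfl⟩ := I.subschemeι_app_surjective ⟨U, hU⟩ y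
          exact ⟨Submodule.Quotient.mk a, rfl⟩⟩).trans (sectionsEquiv ι U)
    haveI := Module.finitePresentation_of_projective Γ(X, U) Γ(F, U)
    have hopen : IsOpen (PrimeSpectrum.zeroLocus (J : Set Γ(X, U))) := by
      have h1 : PrimeSpectrum.zeroLocus (J : Set Γ(X, U)) = Module.support Γ(X, U) Γ(F, U) := by
        rw [← LinearEquiv.support_eq q, Module.support_eq_zeroLocus, Ideal.annihilator_quotient, hJ]
      rw [h1]
      have h2 : Module.support Γ(X, U) Γ(F, U) = (Module.rankAtStalk Γ(F, U)) ⁻¹' {n | 0 < n} := by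
        ext p
        exact (Module.rankAtStalk_pos_iff_mem_support p).symm
      rw [h2]
      exact Module.isLocallyConstant_rankAtStalk _
    have himg := hU.fromSpec.isOpenEmbedding.isOpenMap _ hopen
    have heq : (hU.fromSpec '' PrimeSpectrum.zeroLocus (J : Set Γ(X, U))) = Z ∩ U := by
      rw [hU.fromSpec_image_zeroLocus, ← hIZ]
      exact (I.coe_support_inter ⟨U, hU⟩).symm
    exact Filter.mem_of_superset ((heq ▸ himg).mem_nhds ⟨hxZ, hx⟩) Set.inter_subset_left
  · intro hop F hq hFT hflat
    haveI : F.IsQuasicoherent := hq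
    haveI : SheafOfModules.IsFiniteType (R := X.ringCatSheaf) F := hFT
    let r : X → ℕ := fun x => Module.finrank (X.presheaf.stalk x) (F.presheaf.stalk x)
    have hr : ∀ (U : X.Opens) (hU : IsAffineOpen U) (x : X) (hx : x ∈ U),
        Module.rankAtStalk Γ(F, U) (hU.primeIdealOf ⟨x, hx⟩) = r x := by
      intro U hU x hx
      haveI := Groth.Agent.Lib.CohBasics.Affine.finite_sections (M := F) hU
      haveI := Groth.Agent.Lib.Modules.AffineSections.flat_sections hflat hU
      letI := Groth.Agent.Lib.StalkLoc.Basic.moduleSections F hx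
      letI := TopCat.Presheaf.algebra_section_stalk X.presheaf (⟨x, hx⟩ : U)
      haveI := Groth.Agent.Lib.StalkLoc.Basic.isScalarTower_sections F hx
      haveI := hU.isLocalization_stalk ⟨x, hx⟩
      haveI := Groth.Agent.Lib.StalkLoc.Basic.isLocalizedModule_germ (M := F) hU hx
      have hb := IsLocalizedModule.isBaseChange (hU.primeIdealOf ⟨x, hx⟩).asIdeal.primeCompl
        (X.presheaf.stalk x) (Groth.Agent.Lib.StalkLoc.Basic.germₗ F hx)
      haveI : Module.Finite (X.presheaf.stalk x) (F.presheaf.stalk x) :=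
        Module.Finite.of_isLocalizedModule (hU.primeIdealOf ⟨x, hx⟩).asIdeal.primeCompl
          (Groth.Agent.Lib.StalkLoc.Basic.germₗ F hx)
      haveI : Module.Flat (X.presheaf.stalk x) (F.presheaf.stalk x) := hflat x
      haveI : Module.Free (X.presheaf.stalk x) (F.presheaf.stalk x) := Module.free_of_flat_of_isLocalRing
      have h1 := Module.rankAtStalk_isBaseChange hb (IsLocalRing.closedPoint (X.presheaf.stalk x))
      rw [Module.rankAtStalk_eq_finrank_of_free] at h1
      refine Eq.trans ?_ (h1.symm.trans (by simp [r]))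
      refine congrArg _ (PrimeSpectrum.ext ?_)
      exact (IsLocalization.AtPrime.comap_maximalIdeal _ _).symm
    let S : ℕ → Set X := fun n => {x | n < r x}
    have hcl : ∀ n, IsClosed (S n) := by
      intro n
      rw [← isOpen_compl_iff, isOpen_iff_mem_nhds]
      intro x hx
      obtain ⟨U, hU, hxU, -⟩ := exists_isAffineOpen_mem_and_subset (X := X) (x := x) (U := ⊤) trivial
      haveI := Groth.Agent.Lib.CohBasics.Affine.finite_sections (M := F) hU
      haveI := Groth.Agent.Lib.Modules.AffineSections.flat_sections hflat hU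
      obtain ⟨f, hf, π, hπ⟩ := Groth.Agent.Lib.FlatFinite.exists_surjective (M := Γ(F, U)) (hU.primeIdealOf ⟨x, hxU⟩)
      have hxf : x ∈ X.basicOpen f := by
        have h0 : hU.primeIdealOf ⟨x, hxU⟩ ∈ hU.fromSpec ⁻¹ᵁ X.basicOpen f := by
          rw [hU.fromSpec_preimage_basicOpen]
          exact (PrimeSpectrum.mem_basicOpen _ _).mpr hf
        have h' : hU.fromSpec (hU.primeIdealOf ⟨x, hxU⟩) ∈ X.basicOpen f := h0
        rwa [hU.fromSpec_primeIdealOf] at h' 
      refine Filter.mem_of_superset ((X.basicOpen f).2.mem_nhds hxf) fun y hy => ?_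
      have hyU : y ∈ U := X.basicOpen_le f hy
      have hp : f ∉ (hU.primeIdealOf ⟨y, hyU⟩).asIdeal := by
        have : hU.primeIdealOf ⟨y, hyU⟩ ∈ hU.fromSpec ⁻¹ᵁ X.basicOpen f := by
          show hU.fromSpec _ ∈ X.basicOpen f
          rw [hU.fromSpec_primeIdealOf ⟨y, hyU⟩]; exact hy
        rw [hU.fromSpec_preimage_basicOpen] at this
        exact (PrimeSpectrum.mem_basicOpen _ _).mp this
      obtain ⟨q, hq⟩ := (PrimeSpectrum.localization_away_comap_range (Localization.Away f) f).ge
        (show hU.primeIdealOf ⟨y, hyU⟩ ∈ PrimeSpectrum.basicOpen f from hp)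
      have h2 := Groth.Agent.Lib.FlatFinite.rankAtStalk_le_of_surjective π hπ q
      rw [Groth.Agent.Lib.FlatFinite.rankAtStalk_localized, hq, hr U hU y hyU, hr U hU x hxU] at h2
      exact fun hy' => hx (Nat.lt_of_lt_of_le hy' h2)
    have hgen : ∀ n, StableUnderGeneralization (S n) := by
      intro n x y hyx hx
      obtain ⟨U, hU, hxU, -⟩ := exists_isAffineOpen_mem_and_subset (X := X) (x := x) (U := ⊤) trivial
      haveI := Groth.Agent.Lib.CohBasics.Affine.finite_sections (M := F) hU
      haveI := Groth.Agent.Lib.Modules.AffineSections.flat_sections hflat hU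
      have hyU : y ∈ U := hyx.mem_open U.2 hxU
      have hle : hU.primeIdealOf ⟨y, hyU⟩ ≤ hU.primeIdealOf ⟨x, hxU⟩ := by
        refine (PrimeSpectrum.le_iff_specializes _ _).mpr
          (hU.fromSpec.isOpenEmbedding.isInducing.specializes_iff.mp ?_)
        rw [hU.fromSpec_primeIdealOf, hU.fromSpec_primeIdealOf]
        exact hyx
      show n < r y
      rw [← hr U hU y hyU, Module.rankAtStalk_eq_of_le_of_finite_of_flat _ hle, hr U hU x hxU]
      exact hx
    refine Groth.Agent.Lib.Modules.AffineSections.isFinLocFree_of_sections fun x => ?_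
    obtain ⟨U, hU, hxU, -⟩ := exists_isAffineOpen_mem_and_subset (X := X) (x := x) (U := ⊤) trivial
    haveI := Groth.Agent.Lib.CohBasics.Affine.finite_sections (M := F) hU
    haveI := Groth.Agent.Lib.Modules.AffineSections.flat_sections hflat hU
    refine ⟨U, hU, hxU, inferInstance, Groth.Agent.Lib.FlatFinite.projective_of_isLocallyConstant ?_⟩
    have hrc : IsLocallyConstant r := IsLocallyConstant.iff_isOpen_fiber.mpr fun n => by
      have h1 : r ⁻¹' {n} = (if n = 0 then Set.univ else S (n - 1)) ∩ (S n)ᶜ := by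
        ext y
        rcases n with _ | n <;> simp [S] <;> omega
      rw [h1]
      refine IsOpen.inter ?_ (hcl n).isOpen_compl
      split
      · exact isOpen_univ
      · exact hop _ (hcl _) (hgen _)
    have he : Module.rankAtStalk Γ(F, U) = fun p => r (hU.fromSpec p) := funext fun p => by
      have hpU : hU.fromSpec p ∈ U := hU.opensRange_fromSpec.le ⟨p, rfl⟩
      rw [← hr U hU _ hpU]
      exact congrArg _ (hU.fromSpec.isOpenEmbedding.injective (hU.fromSpec_primeIdealOf ⟨_, hpU⟩)).symm
    rw [he]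
    exact hrc.comp_continuous hU.fromSpec.continuous

end Groth.Agent.S9352
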