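import Groth.Statements.S9356
import Groth.Agent.Lib.Cyc.LocalDim
import Groth.Agent.Lib.Cyc.InducedDimFun

set_option autoImplicit false
universe u
open FibDim

namespace Groth.Agent.S9356

open AlgebraicGeometry CategoryTheory in
/-- Let f : X → S be locally of finite type and x ⤳ x' a nontrivial specialization of points of the
fibre X_s. Then dim_x(X_s) ≤ dim_{x'}(X_s) and dim O_{X_s,x} < dim O_{X_s,x'}. (The assertion on
transcendence degrees of residue fields is a separate statement.) -/
theorem result {X S : Scheme.{u}} (f : X ⟶ S) [LocallyOfFiniteType f] (s : S)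
    (x x' : ↑(f.fiber s)) (hsp : x ⤳ x') (hne : x ≠ x') :
    FlatMor.localDim ↑(f.fiber s) x ≤ FlatMor.localDim ↑(f.fiber s) x' ∧
      ringKrullDim ((f.fiber s).presheaf.stalk x) < ringKrullDim ((f.fiber s).presheaf.stalk x') := by
  refine ⟨Groth.Agent.Lib.Cyc.LocalDim.localDim_mono hsp, ?_⟩
  have : LocallyOfFiniteType (X := f.fiber s) (Y := Spec (CommRingCat.of (S.residueField s)))
      (f.fiberToSpecResidueField s) := MorphismProperty.pullback_snd _ _ ‹_›
  have : IsLocallyNoetherian (f.fiber s) :=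
    LocallyOfFiniteType.isLocallyNoetherian (Y := Spec (CommRingCat.of (S.residueField s)))
      (f.fiberToSpecResidueField s)
  have h1 := Groth.Agent.Lib.Cyc.InducedDimFun.height_genPrime x' x hsp
  rw [← h1, ← IsLocalRing.maximalIdeal_height_eq_ringKrullDim]
  have := RingHom.ker_isPrime (Cyc.specMap x' x hsp)
  have hlt : RingHom.ker (Cyc.specMap x' x hsp) < IsLocalRing.maximalIdeal _ := by
    refine lt_of_le_of_ne (IsLocalRing.le_maximalIdeal this.ne_top) fun he => hne ?_
    have he' : Groth.Agent.Lib.Cyc.DimFun.genPrime x' x hsp = IsLocalRing.closedPoint _ :=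
      PrimeSpectrum.ext he
    rw [← Groth.Agent.Lib.Cyc.DimFun.fromSpecStalk_genPrime x' x hsp]
    rw [show Groth.Agent.Lib.Cyc.DimFun.genPrime x' x hsp = IsLocalRing.closedPoint _ from he']
    exact Scheme.fromSpecStalk_closedPoint
  have h2 := Ideal.height_add_one_le_of_lt_of_isPrime hlt
  obtain ⟨a, ha⟩ := ENat.ne_top_iff_exists.mp (Ideal.height_ne_top
    (I := RingHom.ker (Cyc.specMap x' x hsp)) this.ne_top)
  obtain ⟨b, hb⟩ := ENat.ne_top_iff_exists.mp (Ideal.height_ne_top
    (I := IsLocalRing.maximalIdeal ((f.fiber s).presheaf.stalk x'))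
    (IsLocalRing.maximalIdeal.isMaximal _).ne_top)
  rw [← ha, ← hb] at h2 ⊢
  have : a + 1 ≤ b := by exact_mod_cast h2
  exact_mod_cast (show a < b by omega)

end Groth.Agent.S9356
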