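import Groth.Statements.S9360
import Groth.Agent.H75.RedSub
import Mathlib.AlgebraicGeometry.Morphisms.SchemeTheoreticallyDominant


set_option autoImplicit false
universe u
open SchDense

namespace Groth.Agent.S9360

open AlgebraicGeometry CategoryTheory in
/-- Let U ⊆ X be a reduced open subscheme. Then the scheme-theoretic closure of U in X is X if and only
if U is scheme-theoretically dense in X (for every open W the scheme-theoretic closure of U ∩ W in W
is W); and in that case X is reduced. -/
theorem result (X : Scheme.{u}) (U : X.Opens) [IsReduced (↑U : Scheme.{u})] :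
    (IsSchemeTheoreticallyDominant U.ι ↔
        ∀ W : X.Opens, IsSchemeTheoreticallyDominant (X.homOfLE (inf_le_right : U ⊓ W ≤ W))) ∧
      (IsSchemeTheoreticallyDominant U.ι → IsReduced X) := by
  have key : IsSchemeTheoreticallyDominant U.ι → IsReduced X ∧ Dense (U : Set X) := fun h => by
    have hI : Scheme.IdealSheafData.vanishingIdeal (⟨closure (Set.range U.ι), isClosed_closure⟩ :
        TopologicalSpace.Closeds X) = ⊥ :=
      (Groth.Agent.H75.RedKer.ker_eq_vanishingIdeal U.ι).symm.trans h.ker_eq_bot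
    have hred := Groth.Agent.H75.RedSub.isReduced_vanishingIdeal
      (⟨closure (Set.range U.ι), isClosed_closure⟩ : TopologicalSpace.Closeds X)
    rw [hI] at hred
    have : IsIso (⊥ : X.IdealSheafData).subschemeι :=
      IsClosedImmersion.isIso_iff_ker_eq_bot.mpr (by simp)
    refine ⟨isReduced_of_isOpenImmersion (inv (⊥ : X.IdealSheafData).subschemeι), ?_⟩
    have := congrArg (fun I : X.IdealSheafData => (I.support : Set X)) hI
    simp only [Scheme.IdealSheafData.coe_support_vanishingIdeal,
      Scheme.IdealSheafData.support_bot, TopologicalSpace.Closeds.coe_top] at this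
    rw [dense_iff_closure_eq, ← this, TopologicalSpace.Closeds.coe_mk, Scheme.Opens.range_ι]
  refine ⟨⟨fun h W => ?_, fun h => ?_⟩, fun h => (key h).1⟩
  · obtain ⟨hX, hU⟩ := key h
    have : IsDominant (X.homOfLE (inf_le_right : U ⊓ W ≤ W)) := ⟨fun w => by
      rw [mem_closure_iff]
      intro o ho hwo
      obtain ⟨y, ⟨w', hw', rfl⟩, hyU⟩ := hU.inter_open_nonempty (Subtype.val '' o)
        (W.2.isOpenEmbedding_subtypeVal.isOpenMap _ ho) ⟨w.1, w, hwo, rfl⟩
      let z : ((U ⊓ W : X.Opens) : Scheme.{u}) := ⟨w'.1, hyU, w'.2⟩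
      have hz : X.homOfLE (inf_le_right : U ⊓ W ≤ W) z = w' := by
        apply Subtype.ext
        change (X.homOfLE (inf_le_right : U ⊓ W ≤ W) ≫ W.ι) z = w'.1
        rw [Scheme.homOfLE_ι]; rfl
      exact ⟨_, hz ▸ hw', z, rfl⟩⟩
    exact IsSchemeTheoreticallyDominant.of_isDominant _
  · have e : (X.isoOfEq (inf_top_eq U)).inv ≫
        X.homOfLE (inf_le_right : U ⊓ ⊤ ≤ ⊤) ≫ (⊤ : X.Opens).ι = U.ι := by
      rw [Scheme.homOfLE_ι]; simp
    have := h ⊤
    have : IsIso (⊤ : X.Opens).ι := by
      rw [← Scheme.topIso_hom]; infer_instance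
    rw [← e]
    infer_instance

end Groth.Agent.S9360
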