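import Groth.Statements.S9361
import Mathlib

set_option autoImplicit false
universe u
open SchImage

namespace Groth.Agent.S9361

open AlgebraicGeometry CategoryTheory in
/-- Let f : X → Y be separated, V ⊆ Y a retrocompact open and s : V → X a section of f over V. If Y' ⊆ X
is the scheme-theoretic image of s, then Y' → Y is an isomorphism over V. -/
theorem result {X Y : Scheme.{u}} (f : X ⟶ Y) [IsSeparated f] (V : Y.Opens) [QuasiCompact V.ι]
    (s : (↑V : Scheme.{u}) ⟶ X) (hs : s ≫ f = V.ι) :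
    IsIso ((s.imageι ≫ f) ∣_ V) := by
  haveI : QuasiCompact s := by
    haveI : QuasiCompact (s ≫ f) := hs ▸ inferInstance
    exact QuasiCompact.of_comp s f
  haveI : IsSchemeTheoreticallyDominant s.toImage := by
    refine ⟨Scheme.IdealSheafData.ext_of_iSup_eq_top
      (fun U : X.affineOpens => ⟨s.imageι ⁻¹ᵁ U.1, U.2.preimage s.imageι⟩) ?_ fun U => ?_⟩
    · rw [← Scheme.Hom.preimage_iSup, iSup_affineOpens_eq_top, Scheme.Hom.preimage_top]
    · rw [Scheme.Hom.ker_apply, Scheme.IdealSheafData.ideal_bot]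
      exact (RingHom.injective_iff_ker_eq_bot _).mp (s.toImage_app_injective U)
  let g := s.imageι ≫ f
  haveI : IsSeparated (g ∣_ V) := IsZariskiLocalAtTarget.restrict (inferInstance : IsSeparated g) V
  let ZW := g ⁻¹ᵁ V
  have htop : s.toImage ⁻¹ᵁ ZW = ⊤ := by
    rw [← Scheme.Hom.comp_preimage, show s.toImage ≫ g = V.ι by rw [Scheme.Hom.toImage_imageι_assoc, hs],
      Scheme.Opens.ι_preimage_self]
  let r := s.toImage ∣_ ZW
  haveI : IsSchemeTheoreticallyDominant r :=
    IsSchemeTheoreticallyDominant.of_isPullback (isPullback_morphismRestrict s.toImage ZW).flip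
  haveI : IsIso (r ≫ g ∣_ V) := by
    haveI : IsIso (s.toImage ⁻¹ᵁ ZW).ι := by rw [htop, ← Scheme.topIso_hom]; infer_instance
    have e : r ≫ g ∣_ V = (s.toImage ⁻¹ᵁ ZW).ι := by
      rw [← cancel_mono V.ι, Category.assoc, morphismRestrict_ι, morphismRestrict_ι_assoc]
      rw [show s.toImage ≫ g = V.ι by rw [Scheme.Hom.toImage_imageι_assoc, hs]]
    rw [e]; infer_instance
  haveI : IsClosedImmersion r := IsClosedImmersion.of_comp r (g ∣_ V)
  haveI : IsIso r := IsClosedImmersion.isIso_iff_ker_eq_bot.mpr r.ker_eq_bot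
  exact IsIso.of_isIso_comp_left r (g ∣_ V)

end Groth.Agent.S9361
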