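import Groth.Statements.S9362
import Groth.Agent.Lib.QCoh.Closure
import Groth.Agent.Lib.Modules.StalkModule

set_option autoImplicit false
universe u
open QCohSub

namespace Groth.Agent.S9362

open Groth.Agent.Lib CategoryTheory CategoryTheory.Limits AlgebraicGeometry in
theorem coimage_qcoh {X : Scheme.{u}} {H G F : X.Modules} [H.IsQuasicoherent] [F.IsQuasicoherent]
    (j : G ⟶ F) [Mono j] (φ : H ⟶ G) : (Abelian.coimage φ).IsQuasicoherent := by
  haveI : (kernel φ).IsQuasicoherent := by
    haveI := QCoh.Closure.isQCoh_kernel (φ ≫ j)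
    exact (SheafOfModules.isQuasicoherent.{u} X.ringCatSheaf).prop_of_iso (kernelCompMono φ j)
      inferInstance
  exact QCoh.Closure.isQCoh_cokernel _

open Groth.Agent.Lib CategoryTheory CategoryTheory.Limits AlgebraicGeometry in
theorem exists_fac {X : Scheme.{u}} {K L G : X.Modules} (a : K ⟶ G) (b : L ⟶ G) [Mono b]
    (h : ∀ x, LinearMap.range (Modules.StalkModule.stalkMapₗ a x) ≤
      LinearMap.range (Modules.StalkModule.stalkMapₗ b x)) : ∃ l : K ⟶ L, l ≫ b = a := by
  refine ⟨Abelian.monoLift b a ?_, Abelian.monoLift_comp b a _⟩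
  refine Modules.StalkModule.hom_ext_stalkMapₗ fun z => LinearMap.ext fun w => ?_
  obtain ⟨v, hv⟩ := h z ⟨w, rfl⟩
  rw [Modules.StalkModule.stalkMapₗ_comp, LinearMap.comp_apply, ← hv, ← LinearMap.comp_apply,
    ← Modules.StalkModule.stalkMapₗ_comp, cokernel.condition]
  simp

open AlgebraicGeometry CategoryTheory in
/-- Let F be a quasi-coherent O_X-module and G ⊆ F an O_X-submodule. There is a quasi-coherent submodule
G' ⊆ G such that Hom(H, G') → Hom(H, G) is bijective for every quasi-coherent O_X-module H; in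
particular G' is the largest quasi-coherent submodule of F contained in G (it is unique up to unique
isomorphism over G). -/
theorem result (X : Scheme.{u}) (F G : X.Modules) (hF : Coh.IsQCoh F) (j : G ⟶ F) [Mono j] :
    ∃ (G' : X.Modules) (k : G' ⟶ G), Coh.IsQCoh G' ∧ Mono k ∧
      ∀ H : X.Modules, Coh.IsQCoh H → Function.Bijective (fun φ : H ⟶ G' => φ ≫ k) := by
  classical
  haveI := hF
  let Idx := {S : ∀ x : X, Submodule (X.presheaf.stalk x) (G.presheaf.stalk x) //
    ∃ (K : X.Modules) (k : K ⟶ G), K.IsQuasicoherent ∧ Mono k ∧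
      ∀ x, LinearMap.range (Lib.Modules.StalkModule.stalkMapₗ k x) = S x}
  let K : Idx → X.Modules := fun S => S.2.choose
  let k : ∀ S : Idx, K S ⟶ G := fun S => S.2.choose_spec.choose
  have hk : ∀ S : Idx, (K S).IsQuasicoherent ∧ Mono (k S) ∧
      ∀ x, LinearMap.range (Lib.Modules.StalkModule.stalkMapₗ (k S) x) = S.1 x :=
    fun S => S.2.choose_spec.choose_spec
  let d : ∐ K ⟶ G := Limits.Sigma.desc k
  haveI : (∐ K).IsQuasicoherent :=
    Lib.QCoh.Closure.isQCoh_of_isColimit (Limits.coproductIsCoproduct K) fun S => (hk S.as).1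
  refine ⟨Abelian.coimage d, Abelian.factorThruCoimage d, coimage_qcoh j d, inferInstance,
    fun H hH => ⟨fun a b h => (cancel_mono (Abelian.factorThruCoimage d)).mp h, fun φ => ?_⟩⟩
  haveI := hH
  let S : Idx := ⟨fun x => LinearMap.range
      (Lib.Modules.StalkModule.stalkMapₗ (Abelian.factorThruCoimage φ) x),
    _, Abelian.factorThruCoimage φ, coimage_qcoh j φ, inferInstance, fun _ => rfl⟩
  haveI := (hk S).2.1
  obtain ⟨l, hl⟩ := exists_fac (Abelian.factorThruCoimage φ) (k S) fun x => ((hk S).2.2 x).ge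
  refine ⟨Abelian.coimage.π φ ≫ l ≫ Limits.Sigma.ι K S ≫ Abelian.coimage.π d, ?_⟩
  simp only [Category.assoc]
  rw [Abelian.coimage.fac, Limits.Sigma.ι_desc, hl, Abelian.coimage.fac]

end Groth.Agent.S9362
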