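import Groth.Statements.S9363
import Groth.Agent.Lib.Synt92.MorCrit

set_option autoImplicit false
universe u
open Synt

namespace Groth.Agent.S9363

open AlgebraicGeometry CategoryTheory in
/-- f : X → S is syntomic if and only if, for every affine open V of S and every affine open U of X
mapped into V, the induced map O_S(V) → O_X(U) makes O_X(U) a syntomic algebra over O_S(V). -/
theorem result {X S : Scheme.{u}} (f : X ⟶ S) :
    Synt.IsSyntomicMor f ↔
      ∀ (U : X.affineOpens) (V : S.affineOpens) (e : U.1 ≤ f ⁻¹ᵁ V.1),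
        letI := (f.appLE V.1 U.1 e).hom.toAlgebra
        Synt.IsSyntomic Γ(S, V.1) Γ(X, U.1) := by
  refine ⟨fun h U V e => Lib.Synt92.MorCrit.isSyntomic_appLE f
    (Lib.Synt92.MorCrit.isCIMorphism_of_isSyntomicMor f h) U V e, fun h x => ?_⟩
  obtain ⟨V, hV, hxV, -⟩ := exists_isAffineOpen_mem_and_subset (X := S) (x := f x) (U := ⊤) trivial
  obtain ⟨U, hxU, hUV⟩ := Lib.Synt92.MorCrit.exists_chart f x hxV
  exact ⟨U, ⟨V, hV⟩, hUV, hxU, h U ⟨V, hV⟩ hUV⟩

end Groth.Agent.S9363
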