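import Groth.Statements.S9368
import Groth.Agent.Lib.Synt92.MorOverField

set_option autoImplicit false
universe u
open Synt

namespace Groth.Agent.S9368

open AlgebraicGeometry CategoryTheory in
/-- For X locally of finite type over a field k with structure morphism p, the following are equivalent:
(1) p is syntomic; (2) every x ∈ X has an affine open neighbourhood whose coordinate ring is a
global complete intersection over k; (3) each stalk O_{X,x} is a complete intersection ring over k
(k-algebra structures induced by p). -/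
theorem result (k : Type u) [Field k] (X : Scheme.{u}) (p : X ⟶ Spec (CommRingCat.of k)) [LocallyOfFiniteType p] :
    [Synt.IsSyntomicMor p,
      ∀ x : ↑X, ∃ U : X.affineOpens, x ∈ U.1 ∧
        letI := ((Scheme.ΓSpecIso (CommRingCat.of k)).inv ≫ p.appLE ⊤ U.1 le_top).hom.toAlgebra
        Synt.IsGlobalCI k Γ(X, U.1),
      ∀ x : ↑X,
        letI := ((Scheme.ΓSpecIso (CommRingCat.of k)).inv ≫ p.appLE ⊤ ⊤ le_top ≫ X.presheaf.germ ⊤ x trivial).hom.toAlgebra
        Synt.IsCIOver k (X.presheaf.stalk x)].TFAE := by
  have h23 := fun x => Lib.Synt92.MorOverField.exists_globalCI_iff p x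
  have h13 : Synt.IsSyntomicMor p ↔ ∀ x : ↑X,
      letI := ((Scheme.ΓSpecIso (CommRingCat.of k)).inv ≫ p.appLE ⊤ ⊤ le_top ≫
        X.presheaf.germ ⊤ x trivial).hom.toAlgebra
      Synt.IsCIOver k (X.presheaf.stalk x) := by
    haveI : LocallyOfFinitePresentation p := inferInstance
    rw [Lib.Synt92.MorCrit.isSyntomicMor_iff]
    exact ⟨fun h x => (Lib.Synt92.MorOverField.isCI_iff p x).1 (h.2.2 x),
      fun h => ⟨inferInstance, inferInstance, fun x => (Lib.Synt92.MorOverField.isCI_iff p x).2 (h x)⟩⟩
  tfae_have 1 → 3 := h13.1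
  tfae_have 3 → 2 := fun h x => (h23 x).2 (h x)
  tfae_have 2 → 1 := fun h => h13.2 fun x => (h23 x).1 (h x)
  tfae_finish

end Groth.Agent.S9368
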