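import Groth.Statements.S9378
import Groth.Agent.Lib.CohBasics.Affine
import Groth.Agent.Lib.CechRes.PullSec
import Groth.Agent.Lib.Ideal.Comap
import Groth.Agent.Lib.QFDual.AnnBaseChange
import Groth.Agent.Lib.Modules.TensorSec
import Mathlib.RingTheory.Localization.Ideal

set_option autoImplicit false
universe u
open QCohSub

namespace Groth.Agent.S9378

section Helpers

open AlgebraicGeometry CategoryTheory Opposite TopologicalSpace TensorProduct
open Groth.Agent.Lib
open Groth.Agent.Lib.TensorMod.Dual (rs rf rs_smul)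

variable {X Y : Scheme.{u}}

/-- On a chart, the inverse image of the annihilator ideal is the annihilator of the pullback. -/
theorem chart (f : Y ⟶ X) [Flat f] (F : X.Modules) [F.IsQuasicoherent]
    [SheafOfModules.IsFiniteType (R := X.ringCatSheaf) F] (J : X.IdealSheafData)
    (hJ : ∀ U : X.affineOpens, J.ideal U = Module.annihilator Γ(X, U.1) Γ(F, U.1))
    (U : X.affineOpens) (W : Y.affineOpens) (e : W.1 ≤ f ⁻¹ᵁ U.1) :
    (J.comap f).ideal W =
      Module.annihilator Γ(Y, W.1) Γ((Scheme.Modules.pullback f).obj F, W.1) := by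
  rw [Groth.Agent.Lib.Ideal.Comap.ideal_comap f J U W e, hJ U]
  letI : Algebra Γ(X, U.1) Γ(Y, W.1) := (f.appLE U.1 W.1 e).hom.toAlgebra
  letI : Module Γ(X, U.1) Γ((Scheme.Modules.pullback f).obj F, W.1) :=
    Module.compHom _ (f.appLE U.1 W.1 e).hom
  haveI : IsScalarTower Γ(X, U.1) Γ(Y, W.1) Γ((Scheme.Modules.pullback f).obj F, W.1) :=
    IsScalarTower.of_algebraMap_smul fun _ _ => rfl
  haveI : Module.Flat Γ(X, U.1) Γ(Y, W.1) := f.flat_appLE U.2 W.2 e
  haveI : Module.Finite Γ(X, U.1) Γ(F, U.1) := CohBasics.Affine.finite_sections U.2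
  have hb := CechRes.PullSec.isBaseChange_mu f F U.2 W.2 e
  refine le_antisymm (Ideal.map_le_iff_le_comap.2 fun r hr => ?_) ?_
  · rw [Ideal.mem_comap, Module.mem_annihilator]
    rw [Module.mem_annihilator] at hr
    intro y
    obtain ⟨z, rfl⟩ := hb.equiv.surjective y
    rw [← map_smul]
    refine (congrArg hb.equiv ?_).trans (map_zero _)
    induction z using TensorProduct.induction_on with
    | zero => rw [smul_zero]
    | add a b ha hb => rw [smul_add, ha, hb, add_zero]
    | tmul b m =>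
      show algebraMap Γ(X, U.1) Γ(Y, W.1) r • (b ⊗ₜ[Γ(X, U.1)] m) = 0
      rw [IsScalarTower.algebraMap_smul, ← TensorProduct.tmul_smul, hr, TensorProduct.tmul_zero]
  · rw [← hb.equiv.annihilator_eq]
    exact QFDual.AnnBaseChange.annihilator_baseChange_of_flat (B := Γ(X, U.1))

/-- Membership in an ideal is local on a cover by basic opens. -/
theorem mem_ideal_of_cover {I : Y.IdealSheafData} {V : Y.affineOpens} (x : Γ(Y, V.1))
    (h : ∀ p : V.1, ∃ a : Γ(Y, V.1), p.1 ∈ Y.basicOpen a ∧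
      rf (Y.basicOpen_le a) x ∈ I.ideal (Y.affineBasicOpen a)) :
    x ∈ I.ideal V := by
  let K : Ideal Γ(Y, V.1) := Submodule.colon (I.ideal V) ({x} : Set Γ(Y, V.1))
  suffices hK : K = ⊤ by
    have h1 : (1 : Γ(Y, V.1)) ∈ K := hK ▸ Submodule.mem_top
    rw [Submodule.mem_colon] at h1
    simpa using h1 x rfl
  rw [← Ideal.radical_eq_top, ← top_le_iff]
  choose a ha hx using h
  have hspan : Ideal.span (Set.range a) = ⊤ := by
    rw [← V.2.iSup_basicOpen_eq_self_iff]
    refine le_antisymm (iSup_le fun i => Y.basicOpen_le _) fun p hp => ?_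
    exact Opens.mem_iSup.2 ⟨⟨_, ⟨p, hp⟩, rfl⟩, ha ⟨p, hp⟩⟩
  rw [← hspan, Ideal.span_le]
  rintro _ ⟨p, rfl⟩
  haveI := V.2.isLocalization_basicOpen (a p)
  have h2 := hx p
  rw [← I.map_ideal (Y.affineBasicOpen_le (a p))] at h2
  obtain ⟨⟨⟨w, hw⟩, ⟨_, n, rfl⟩⟩, hn⟩ :=
    (IsLocalization.mem_map_algebraMap_iff (Submonoid.powers (a p)) Γ(Y, Y.basicOpen (a p))).1 h2
  obtain ⟨⟨_, m, rfl⟩, hm⟩ := (IsLocalization.eq_iff_exists (Submonoid.powers (a p))
    Γ(Y, Y.basicOpen (a p))).1 ((map_mul _ x (a p ^ n)).trans hn)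
  refine ⟨m + n, ?_⟩
  rw [Submodule.mem_colon]
  intro z hz
  rw [Set.mem_singleton_iff] at hz
  subst hz
  rw [smul_eq_mul]
  have h3 : a p ^ (m + n) * z = a p ^ m * w := by
    rw [← hm, pow_add]; ring
  rw [h3]
  exact Ideal.mul_mem_left _ _ hw

theorem main (f : Y ⟶ X) [Flat f] (F : X.Modules) [F.IsQuasicoherent]
    [SheafOfModules.IsFiniteType (R := X.ringCatSheaf) F] (J : X.IdealSheafData)
    (hJ : ∀ U : X.affineOpens, J.ideal U = Module.annihilator Γ(X, U.1) Γ(F, U.1))
    (V : Y.affineOpens) :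
    (J.comap f).ideal V =
      Module.annihilator Γ(Y, V.1) Γ((Scheme.Modules.pullback f).obj F, V.1) := by
  let M := (Scheme.Modules.pullback f).obj F
  haveI : M.IsQuasicoherent := QCoh.Pullback.isQCoh_pullback f F
  have hcov : ∀ p : V.1, ∃ a : Γ(Y, V.1), p.1 ∈ Y.basicOpen a ∧
      (J.comap f).ideal (Y.affineBasicOpen a) =
        Module.annihilator Γ(Y, Y.basicOpen a) Γ(M, Y.basicOpen a) := by
    intro p
    obtain ⟨U, hU, hpU, -⟩ := exists_isAffineOpen_mem_and_subset (X := X) (x := f p.1) (U := ⊤) trivial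
    obtain ⟨a, ha, hpa⟩ := V.2.exists_basicOpen_le (⟨p.1, hpU⟩ : (f ⁻¹ᵁ U : Y.Opens)) p.2
    exact ⟨a, hpa, chart f F J hJ ⟨U, hU⟩ (Y.affineBasicOpen a) ha⟩
  choose a ha heq using hcov
  refine le_antisymm (fun x hx => Module.mem_annihilator.2 fun m => ?_) fun x hx => ?_
  · refine Modules.TensorSec.section_ext M _ _ fun p hp => ?_
    refine ⟨_, Y.basicOpen_le (a ⟨p, hp⟩), ha ⟨p, hp⟩, ?_⟩
    rw [rs_smul]
    refine Eq.trans ?_ (map_zero (M.presheaf.map _).hom).symm
    refine Module.mem_annihilator.1 ?_ _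
    refine (heq ⟨p, hp⟩).le ?_
    exact (J.comap f).ideal_le_comap_ideal (Y.affineBasicOpen_le (a ⟨p, hp⟩)) hx
  · refine mem_ideal_of_cover x fun p => ⟨a p, ha p, ?_⟩
    suffices key : rf (Y.basicOpen_le (a p)) x ∈
        Module.annihilator Γ(Y, Y.basicOpen (a p)) Γ(M, Y.basicOpen (a p)) from (heq p).ge key
    refine Module.mem_annihilator.2 fun t => ?_
    obtain ⟨n, s, hs⟩ := (QCoh.Localizing.localizes_of_isAffineOpen M V.2 (a p)).ext' t
    have hu : IsUnit (rf (Y.basicOpen_le (a p)) (a p)) :=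
      RingedSpace.isUnit_res_basicOpen Y.toLocallyRingedSpace.toRingedSpace (a p)
    refine (hu.pow n).smul_eq_zero.1 ?_
    rw [smul_smul, mul_comm, ← smul_smul]
    refine (congrArg (rf (Y.basicOpen_le (a p)) x • ·) hs.symm).trans ?_
    refine ((rs_smul M (Y.basicOpen_le (a p)) x s).symm).trans ?_
    rw [Module.mem_annihilator.1 hx s]
    exact map_zero _

end Helpers

open AlgebraicGeometry CategoryTheory Opposite in
/-- Let f : Y → X be flat and F a quasi-coherent O_X-module of finite type, where the ideal sheaf J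
(given by annihilators on affine opens) defines the scheme-theoretic support of F. Then the inverse
image ideal sheaf of J along f cuts out the scheme-theoretic support of f^*F. -/
theorem result {Y X : Scheme.{u}} (f : Y ⟶ X) [Flat f] (F : X.Modules)
    (hq : Coh.IsQCoh F) (hft : CohB1.IsFT F) (J : X.IdealSheafData)
    (hJ : ∀ U : X.affineOpens, J.ideal U = Module.annihilator Γ(X, U.1) Γ(F, U.1)) :
    ∀ V : Y.affineOpens, (J.comap f).ideal V =
      Module.annihilator Γ(Y, V.1) Γ((Scheme.Modules.pullback f).obj F, V.1) := by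
  haveI : F.IsQuasicoherent := hq
  haveI : SheafOfModules.IsFiniteType (R := X.ringCatSheaf) F := hft
  exact main f F J hJ

end Groth.Agent.S9378
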