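import Groth.Statements.S9380
import Groth.Agent.Lib.RelSpecBasics.Gamma
import Groth.Agent.Lib.AffAlgBij.Basic

set_option autoImplicit false
universe u
open QAff

namespace Groth.Agent.S9380

open AlgebraicGeometry CategoryTheory in
/-- A quasi-compact quasi-separated morphism f : X → S is quasi-affine if and only if the canonical
S-morphism X → Spec_S(f_*O_X) (the one inducing the comparison map on direct-image algebras) exists
as a quasi-compact open immersion. -/
theorem result {X S : Scheme.{u}} (f : X ⟶ S) [QuasiCompact f] [QuasiSeparated f] :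
    MoreMor.IsQuasiAffineHom f ↔
      ∃ (c : X ⟶ (RelSpec.QCAlg.directImage f).spec) (e : c ≫ (RelSpec.QCAlg.directImage f).π = f),
        (RelSpec.QCAlg.directImage f).gammaMap = AffAlg.algHom (RelSpec.QCAlg.directImage f).π f c e ∧
          QuasiCompact c ∧ IsOpenImmersion c := by
  let A := RelSpec.QCAlg.directImage f
  obtain ⟨⟨c, e⟩, hω⟩ := Groth.Agent.Lib.AffAlgBij.surjective (f := A.π) (g := f)
    ⟨A.gammaMap, A.π_c_gammaMap⟩
  have he : A.gammaMap = AffAlg.algHom A.π f c e := (congrArg Subtype.val hω).symm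
  -- the comparison over an affine open
  have key : ∀ (c : X ⟶ A.spec) (e : c ≫ A.π = f), A.gammaMap = AffAlg.algHom A.π f c e →
      ∀ U : S.Opens, IsAffineOpen U →
        (IsOpenImmersion ((f ⁻¹ᵁ U : Scheme.{u}).toSpecΓ) ↔ IsOpenImmersion (c ∣_ (A.π ⁻¹ᵁ U))) := by
    intro c e he U hU
    haveI : IsAffine (A.π ⁻¹ᵁ U : Scheme.{u}) := hU.preimage A.π
    haveI := Groth.Agent.Lib.RelSpecBasics.Gamma.isIso_gammaAff A U hU
    have hk := Groth.Agent.Lib.AffAlgBij.resLE_appTop_of_algHom c e U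
    rw [← he, A.gammaMap_app U hU] at hk
    have hk' : IsIso ((c.resLE (A.π ⁻¹ᵁ U) (f ⁻¹ᵁ U) (Groth.Agent.Lib.AffAlgBij.le_preimage c e U)).appTop) := by
      rw [hk]; exact inferInstanceAs (IsIso ((A.π ⁻¹ᵁ U).topIso.hom ≫ A.gammaAff U hU ≫ (f ⁻¹ᵁ U).topIso.inv))
    revert hk'
    generalize Groth.Agent.Lib.AffAlgBij.le_preimage c e U = le
    revert le
    rw [show f ⁻¹ᵁ U = c ⁻¹ᵁ (A.π ⁻¹ᵁ U) by rw [← Scheme.Hom.comp_preimage, e]]
    intro le hk
    rw [Scheme.Hom.resLE_eq_morphismRestrict] at hk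
    have h1 := Scheme.toSpecΓ_naturality (c ∣_ (A.π ⁻¹ᵁ U))
    rw [← MorphismProperty.cancel_right_of_respectsIso @IsOpenImmersion (c ∣_ (A.π ⁻¹ᵁ U))
      ((A.π ⁻¹ᵁ U : Scheme.{u}).toSpecΓ), h1,
      MorphismProperty.cancel_right_of_respectsIso @IsOpenImmersion]
  have hcov : ⨆ U : S.affineOpens, A.π ⁻¹ᵁ U.1 = ⊤ := by
    rw [← A.π.preimage_iSup, iSup_affineOpens_eq_top]; rfl
  constructor
  · intro hf
    refine ⟨c, e, he, ?_, ?_⟩
    · haveI : QuasiCompact (c ≫ A.π) := by rw [e]; infer_instance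
      exact QuasiCompact.of_comp c A.π
    · refine (IsZariskiLocalAtTarget.iff_of_iSup_eq_top (P := @IsOpenImmersion) _ hcov).2 fun U => ?_
      refine (key c e he U.1 U.2).1 ?_
      haveI := hf.2 U.1 U.2
      infer_instance
  · rintro ⟨c, e, he, hqc, hop⟩
    refine ⟨inferInstance, fun U hU => ?_⟩
    haveI : IsOpenImmersion ((f ⁻¹ᵁ U : Scheme.{u}).toSpecΓ) :=
      (key c e he U hU).2 (IsZariskiLocalAtTarget.restrict hop _)
    haveI : CompactSpace (f ⁻¹ᵁ U : Scheme.{u}) :=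
      isCompact_iff_compactSpace.mp (f.isCompact_preimage hU.isCompact)
    exact { }

end Groth.Agent.S9380
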