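import Groth.Statements.S9381
import Groth.Agent.Lib.Cyc.FieldDim

set_option autoImplicit false
universe u
open FibDim

namespace Groth.Agent.S9381

open AlgebraicGeometry CategoryTheory in
/-- Let f : X → S be locally of finite type and x ⤳ x' a nontrivial specialization of points of X in the
same fibre (f x = f x'). Then trdeg_{κ(f x)} κ(x) > trdeg_{κ(f x')} κ(x'). -/
theorem result {X S : Scheme.{u}} (f : X ⟶ S) [LocallyOfFiniteType f] (x x' : X)
    (hsp : x ⤳ x') (hne : x ≠ x') (hfx : f.base x = f.base x') :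
    @Algebra.trdeg (S.residueField (f.base x')) (X.residueField x') _ _ (f.residueFieldMap x').hom.toAlgebra <
      @Algebra.trdeg (S.residueField (f.base x)) (X.residueField x) _ _ (f.residueFieldMap x).hom.toAlgebra := by
  open Groth.Agent.Lib.Cyc in
  obtain ⟨z, hz⟩ := FieldDim.exists_fiberι_eq f x (f x) rfl
  open Groth.Agent.Lib.Cyc in
  obtain ⟨z', hz'⟩ := FieldDim.exists_fiberι_eq f x' (f x) hfx.symm
  have : LocallyOfFiniteType (X := f.fiber (f x)) (Y := Spec (CommRingCat.of (S.residueField (f x))))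
      (f.fiberToSpecResidueField (f x)) := MorphismProperty.pullback_snd _ _ ‹_›
  have hsp' : z ⤳ z' := (Groth.Agent.Lib.Cyc.FieldDim.fiber_specializes_iff f _ z z').mpr
    (by rw [hz, hz']; exact hsp)
  have hlt := Groth.Agent.Lib.Cyc.DimFun.lt_of_specializes
    (Groth.Agent.Lib.Cyc.FieldDim.isDimFun_fdelta (K := S.residueField (f x))
      (f.fiberToSpecResidueField (f x))) hsp' (fun e => hne (by rw [← hz, ← hz', e]))
  have h1 := Groth.Agent.Lib.Cyc.FieldDim.trdegAt_eq_fdelta (K := S.residueField (f x))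
    (f.fiberToSpecResidueField (f x)) z
  have h2 := Groth.Agent.Lib.Cyc.FieldDim.trdegAt_eq_fdelta (K := S.residueField (f x))
    (f.fiberToSpecResidueField (f x)) z'
  rw [Groth.Agent.Lib.Cyc.FieldDim.trdegAt_fiber, hz] at h1
  rw [Groth.Agent.Lib.Cyc.FieldDim.trdegAt_fiber, hz'] at h2
  show Groth.Agent.Lib.Cyc.Residue.trdegAt f x' < Groth.Agent.Lib.Cyc.Residue.trdegAt f x
  rw [h1, h2, Nat.cast_lt]
  have := Groth.Agent.Lib.Cyc.FieldDim.fdelta_nonneg (K := S.residueField (f x))
    (f.fiberToSpecResidueField (f x)) z'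
  omega

end Groth.Agent.S9381
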