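import Groth.Statements.S9382
import Mathlib.AlgebraicGeometry.IdealSheaf.Subscheme
import Mathlib.AlgebraicGeometry.Morphisms.ClosedImmersion

set_option autoImplicit false
universe u
open QCohSub

namespace Groth.Agent.S9382

open AlgebraicGeometry CategoryTheory in
/-- For closed subschemes Z, Y ⊆ X with ideal sheaves I, J, the scheme-theoretic intersection (ideal
sheaf I ⊔ J) together with its inclusions into Z and Y forms a cartesian square over X. -/
theorem result (X : Scheme.{u}) (I J : X.IdealSheafData) :
    IsPullback (Scheme.IdealSheafData.inclusion (le_sup_left : I ≤ I ⊔ J))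
      (Scheme.IdealSheafData.inclusion (le_sup_right : J ≤ I ⊔ J)) I.subschemeι J.subschemeι := by
  let K := I ⊔ J
  let p := Scheme.IdealSheafData.inclusion (le_sup_left : I ≤ K)
  let q := Scheme.IdealSheafData.inclusion (le_sup_right : J ≤ K)
  have hp : p ≫ I.subschemeι = K.subschemeι := Scheme.IdealSheafData.inclusion_subschemeι _
  have hq : q ≫ J.subschemeι = K.subschemeι := Scheme.IdealSheafData.inclusion_subschemeι _
  refine ⟨⟨hp.trans hq.symm⟩, ⟨Limits.PullbackCone.IsLimit.mk _ (fun s => ?_) (fun s => ?_) (fun s => ?_) (fun s m h1 h2 => ?_)⟩⟩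
  · have hle : K ≤ (s.fst ≫ I.subschemeι).ker := sup_le
      (I.ker_subschemeι.symm.le.trans (Scheme.Hom.le_ker_comp _ _))
      (by rw [s.condition]; exact J.ker_subschemeι.symm.le.trans (Scheme.Hom.le_ker_comp _ _))
    exact (s.fst ≫ I.subschemeι).toImage ≫ Scheme.IdealSheafData.inclusion hle
  · rw [← cancel_mono I.subschemeι, Category.assoc, hp, Category.assoc,
      Scheme.IdealSheafData.inclusion_subschemeι]
    exact Scheme.Hom.toImage_imageι _
  · rw [← cancel_mono J.subschemeι, Category.assoc, hq, Category.assoc,
      Scheme.IdealSheafData.inclusion_subschemeι]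
    exact (Scheme.Hom.toImage_imageι _).trans s.condition
  · rw [← cancel_mono K.subschemeι, Category.assoc, Scheme.IdealSheafData.inclusion_subschemeι, ← hp,
      reassoc_of% h1]
    exact (Scheme.Hom.toImage_imageι _).symm

end Groth.Agent.S9382
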