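import Groth.Statements.S9385
import Groth.Agent.H75.RedSub
import Mathlib.AlgebraicGeometry.Morphisms.SchemeTheoreticallyDominant


set_option autoImplicit false
universe u
open SchDense

namespace Groth.Agent.S9385

open AlgebraicGeometry CategoryTheory in
/-- Let h : Z → X be an immersion, and suppose that either Z is reduced or h is quasi-compact. Write Z̄
⊆ X for the scheme-theoretic image of h. Then Z → Z̄ is an open immersion identifying Z with a
scheme-theoretically dense (in the for-every-open sense) and topologically dense open subscheme of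
Z̄. -/
theorem result {Z X : Scheme.{u}} (h : Z ⟶ X) [IsImmersion h]
    (hyp : QuasiCompact h ∨ IsReduced Z) :
    ∃ hI : IsOpenImmersion h.toImage,
      (∀ W : h.image.Opens, IsSchemeTheoreticallyDominant
          (h.image.homOfLE (inf_le_right : @Scheme.Hom.opensRange _ _ h.toImage hI ⊓ W ≤ W))) ∧
        DenseRange h.toImage.base := by
  have : IsImmersion (h.toImage ≫ h.imageι) := by rw [h.toImage_imageι]; infer_instance
  have : IsImmersion h.toImage := IsImmersion.of_comp h.toImage h.imageι
  rcases hyp with hq | hr
  · -- the quasi-compact case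
    have : QuasiCompact h.toImage := inferInstance
    have : IsSchemeTheoreticallyDominant h.toImage := ⟨by
      refine le_bot_iff.mp fun U x hx => ?_
      have h0 : (h.toImage.app U.1).hom x = 0 := h.toImage.ideal_ker_le U hx
      have hinj : Function.Injective (h.toImage.app U.1) := by
        intro a b hab
        apply TopCat.Presheaf.section_ext h.image.sheaf
        intro y hy
        apply h.stalkFunctor_toImage_injective y
        erw [TopCat.Presheaf.stalkFunctor_map_germ_apply, TopCat.Presheaf.stalkFunctor_map_germ_apply]
        exact congrArg _ hab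
      exact Submodule.mem_bot _ |>.mpr (hinj (h0.trans (map_zero _).symm))⟩
    let O := h.toImage.coborderRange
    have hl : IsPullback h.toImage.liftCoborder (𝟙 Z) O.ι h.toImage := by
      refine ⟨⟨by rw [Scheme.Hom.liftCoborder_ι, Category.id_comp]⟩, ⟨CategoryTheory.Limits.PullbackCone.IsLimit.mk _ (fun s => s.snd) (fun s => ?_)
        (fun s => Category.comp_id _) (fun s m _ hm => (Category.comp_id m).symm.trans hm)⟩⟩
      rw [← cancel_mono O.ι, Category.assoc, Scheme.Hom.liftCoborder_ι, s.condition]
    have : IsSchemeTheoreticallyDominant h.toImage.liftCoborder :=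
      IsSchemeTheoreticallyDominant.of_isPullback hl.flip
    have : IsIso h.toImage.liftCoborder :=
      IsClosedImmersion.isIso_iff_ker_eq_bot.mpr (Scheme.Hom.ker_eq_bot _)
    have hopen : IsOpenImmersion h.toImage := by
      rw [← h.toImage.liftCoborder_ι]; infer_instance
    refine ⟨hopen, fun W => ?_, Scheme.Hom.denseRange h.toImage⟩
    have hι : IsSchemeTheoreticallyDominant (h.toImage.opensRange).ι := by
      rw [show (h.toImage.opensRange).ι = h.toImage.isoOpensRange.inv ≫ h.toImage by
        rw [Iso.eq_inv_comp, Scheme.Hom.isoOpensRange_hom_ι]]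
      infer_instance
    have hqc : QuasiCompact (h.toImage.opensRange).ι := by
      rw [show (h.toImage.opensRange).ι = h.toImage.isoOpensRange.inv ≫ h.toImage by
        rw [Iso.eq_inv_comp, Scheme.Hom.isoOpensRange_hom_ι]]
      infer_instance
    exact IsSchemeTheoreticallyDominant.of_isPullback (isPullback_opens_inf h.toImage.opensRange W)
  · -- the reduced case
    have hsub : IsReduced h.image := by
      have := Groth.Agent.H75.RedSub.isReduced_vanishingIdeal
        (⟨closure (Set.range h), isClosed_closure⟩ : TopologicalSpace.Closeds X)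
      rw [← Groth.Agent.H75.RedKer.ker_eq_vanishingIdeal h] at this
      exact this
    have hd : DenseRange h.toImage := fun g => by
      rw [h.imageι.isEmbedding.isInducing.closure_eq_preimage_closure_image, Set.mem_preimage,
        ← Set.range_comp, ← TopCat.coe_comp, ← Scheme.Hom.comp_base, h.toImage_imageι,
        ← Groth.Agent.H75.RedKer.coe_support_ker h, ← Scheme.IdealSheafData.range_subschemeι]
      exact ⟨g, rfl⟩
    have : IsDominant h.toImage := ⟨hd⟩
    have hopen := Groth.Agent.H75.RedSub.isOpenImmersion_of_isImmersion_of_isDominant h.toImage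
    refine ⟨hopen, fun W => ?_, hd⟩
    have : IsDominant (h.image.homOfLE (inf_le_right : h.toImage.opensRange ⊓ W ≤ W)) := ⟨fun w => by
      rw [mem_closure_iff]
      intro o ho hwo
      obtain ⟨y, ⟨w', hw', rfl⟩, hyU⟩ := Dense.inter_open_nonempty hd (Subtype.val '' o)
        (W.2.isOpenEmbedding_subtypeVal.isOpenMap _ ho) ⟨w.1, w, hwo, rfl⟩
      let z : ((h.toImage.opensRange ⊓ W : h.image.Opens) : Scheme.{u}) := ⟨w'.1, hyU, w'.2⟩
      have hz : h.image.homOfLE (inf_le_right : h.toImage.opensRange ⊓ W ≤ W) z = w' := by
        apply Subtype.ext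
        change (h.image.homOfLE (inf_le_right : h.toImage.opensRange ⊓ W ≤ W) ≫ W.ι) z = w'.1
        rw [Scheme.homOfLE_ι]; rfl
      exact ⟨_, hz ▸ hw', z, rfl⟩⟩
    exact IsSchemeTheoreticallyDominant.of_isDominant _

end Groth.Agent.S9385
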