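import Groth.Statements.S9388
import Groth.Agent.Lib.Kaehler.Finite

set_option autoImplicit false
universe u
open OmegaSh

namespace Groth.Agent.S9388

open AlgebraicGeometry CategoryTheory in
/-- For f : X → S locally of finite presentation, every receptacle Ω of a universal S-derivation of O_X
is a finitely presented O_X-module. -/
theorem result {X S : Scheme.{u}} (f : X ⟶ S) [LocallyOfFinitePresentation f]
    (Ω : X.Modules) (d : OmegaSh.Der f Ω) (hd : OmegaSh.IsUniversal d) : CohB1.IsFP Ω := by
  exact Lib.Kaehler.Finite.isFP hd

end Groth.Agent.S9388
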