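import Groth.Statements.S9395
import Groth.Agent.H18.N1
import Mathlib.RingTheory.Polynomial.Basic
import Mathlib.RingTheory.Noetherian.Basic

set_option autoImplicit false
set_option linter.style.haveILetI false
universe u
open CAlg

namespace Groth.Agent.S9395

/-- For a Noetherian domain R, if the Laurent polynomial ring R[X, 1/X] (the localization of R[X] away
from X) is N-1, then R is N-1. -/
theorem result (R : Type u) [CommRing R] [IsDomain R] [IsNoetherianRing R]
    (S : Type u) [CommRing S] [IsDomain S] [Algebra (Polynomial R) S]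
    [IsLocalization.Away (Polynomial.X : Polynomial R) S] (h : CAlg.IsN1 S) : CAlg.IsN1 R := by
  classical
  let F := FractionRing S
  let k := FractionRing R
  haveI : IsNoetherianRing S :=
    IsLocalization.isNoetherianRing (Submonoid.powers (Polynomial.X : Polynomial R)) S inferInstance
  have hP : Function.Injective (algebraMap (Polynomial R) F) := by
    rw [IsScalarTower.algebraMap_eq (Polynomial R) S F]
    exact (IsFractionRing.injective S F).comp (IsLocalization.injective S
      (powers_le_nonZeroDivisors_of_noZeroDivisors Polynomial.X_ne_zero))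
  let g : R →+* F := (algebraMap (Polynomial R) F).comp Polynomial.C
  have hg : Function.Injective g := fun a b e => Polynomial.C_injective (hP e)
  let ψ : k →+* F := IsFractionRing.lift (A := R) (g := g) hg
  have hψ : ∀ a, ψ (algebraMap R k a) = g a := fun a => IsFractionRing.lift_algebraMap hg a
  haveI hCl : Module.Finite S (integralClosure S F) := h
  let T : Set F := ψ '' (integralClosure R k : Set k)
  have hT : ∀ z ∈ T, z ∈ Subalgebra.toSubmodule (integralClosure S F) := by
    rintro _ ⟨w, hw, rfl⟩
    obtain ⟨q, hqm, hq⟩ := hw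
    refine ⟨q.map ((algebraMap (Polynomial R) S).comp Polynomial.C), hqm.map _, ?_⟩
    have h1 := congrArg ψ hq
    rw [Polynomial.hom_eval₂, map_zero] at h1
    rw [Polynomial.eval₂_map]
    rw [show (algebraMap S F).comp ((algebraMap (Polynomial R) S).comp Polynomial.C) =
        ψ.comp (algebraMap R k) from RingHom.ext fun a => by
      simp only [RingHom.comp_apply, hψ, g]
      exact (IsScalarTower.algebraMap_apply (Polynomial R) S F _).symm]
    exact h1
  have hfg : (Submodule.span S T).FG := by
    haveI : IsNoetherian S (Subalgebra.toSubmodule (integralClosure S F)) :=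
      isNoetherian_of_isNoetherianRing_of_finite S _
    exact isNoetherian_submodule.1 this _ (Submodule.span_le.2 hT)
  obtain ⟨s, hsT, hspan⟩ := (Submodule.fg_span_iff_fg_span_finset_subset T).1 hfg
  choose w hw hwz using fun z : s => hsT z.2
  refine Groth.Agent.H18.N1.isN1_of_finite k ?_
  let σ : Finset (integralClosure R k) := Finset.univ.image fun z : s => ⟨w z, hw z⟩
  refine ⟨σ, top_le_iff.1 ?_⟩
  rintro ⟨r, hr⟩ -
  have hrT : ψ r ∈ Submodule.span S (s : Set F) := hspan ▸ Submodule.subset_span ⟨r, hr, rfl⟩
  obtain ⟨c, hc⟩ := Submodule.mem_span_finset'.1 hrT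
  obtain ⟨⟨_, n, rfl⟩, hn⟩ := IsLocalization.exist_integer_multiples
    (Submonoid.powers (Polynomial.X : Polynomial R)) Finset.univ c
  choose f hf using fun z => hn z (Finset.mem_univ z)
  obtain ⟨d, hd⟩ := IsLocalization.exist_integer_multiples (nonZeroDivisors R) Finset.univ w
  choose a' ha' using fun z => hd z (Finset.mem_univ z)
  obtain ⟨a, b, hb, hab⟩ := IsFractionRing.div_surjective R r
  have hb0 : algebraMap R k b ≠ 0 := IsFractionRing.to_map_ne_zero_of_mem_nonZeroDivisors hb
  have hd0 : algebraMap R k d ≠ 0 := IsFractionRing.to_map_ne_zero_of_mem_nonZeroDivisors d.2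
  have hrb : r * algebraMap R k b = algebraMap R k a := by rw [← hab, div_mul_cancel₀ _ hb0]
  have key : Polynomial.X ^ n * Polynomial.C (a * (d : R)) =
      ∑ z, f z * Polynomial.C (b * a' z) := by
    apply hP
    rw [map_mul, map_sum]
    simp only [map_mul]
    have h1 : ∀ z : s, algebraMap (Polynomial R) F (f z) =
        algebraMap (Polynomial R) F (Polynomial.X ^ n) * algebraMap S F (c z) := by
      intro z
      rw [IsScalarTower.algebraMap_apply (Polynomial R) S F, hf z, Algebra.smul_def, map_mul,
        ← IsScalarTower.algebraMap_apply]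
    have hgC : ∀ y : R, algebraMap (Polynomial R) F (Polynomial.C y) = g y := fun y => rfl
    rw [show algebraMap (Polynomial R) F (Polynomial.C a) * algebraMap (Polynomial R) F (Polynomial.C (d : R))
      = ψ r * (g b * g d) by rw [hgC, hgC, ← hψ, ← hψ, ← hψ, ← hrb, map_mul]; ring, ← hc,
      Finset.sum_mul, Finset.mul_sum]
    refine Finset.sum_congr rfl fun z _ => ?_
    have h2 : g (a' z) = g d * (z : F) := by
      rw [← hwz z, ← hψ, ← hψ, ← map_mul, ha' z, Algebra.smul_def]
    rw [h1, hgC, hgC, h2, Algebra.smul_def]
    ring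
  have hev := congrArg (Polynomial.eval 1) key
  simp only [Polynomial.eval_mul, Polynomial.eval_pow, Polynomial.eval_X, one_pow, one_mul,
    Polynomial.eval_C, Polynomial.eval_finsetSum] at hev
  have hrw : r = ∑ z, (f z).eval 1 • w z := by
    refine mul_right_cancel₀ (mul_ne_zero hb0 hd0) ?_
    rw [← mul_assoc, hrb, ← map_mul, hev, map_sum, Finset.sum_mul]
    refine Finset.sum_congr rfl fun z _ => ?_
    rw [map_mul, map_mul, ha' z, Algebra.smul_def, Algebra.smul_def]
    ring
  have : (⟨r, hr⟩ : integralClosure R k) = ∑ z, (f z).eval 1 • (⟨w z, hw z⟩ : integralClosure R k) :=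
    Subtype.ext (by push_cast; exact hrw)
  rw [this]
  exact sum_mem fun z _ => Submodule.smul_mem _ _
    (Submodule.subset_span (Finset.mem_image_of_mem _ (Finset.mem_univ z)))

end Groth.Agent.S9395
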