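import Groth.Statements.S9398
import Groth.Agent.H18.Catenary
import Groth.Agent.Lib.Excellent.Nagata
import Mathlib.RingTheory.EssentialFiniteness

set_option autoImplicit false
universe u
open CAlg

namespace Groth.Agent.S9398

/-- An algebra essentially of finite type over a universally Japanese ring is universally Japanese. -/
theorem result (R : Type u) [CommRing R]
    (hR : CAlg.IsUniversallyJapanese R) (T : Type u) [CommRing T] [Algebra R T]
    [Algebra.EssFiniteType R T] : CAlg.IsUniversallyJapanese T := by
  intro S _ _ _ hS
  let T₀ := Algebra.EssFiniteType.subalgebra R T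
  letI : Algebra R S := ((algebraMap T S).comp (algebraMap R T)).toAlgebra
  haveI : IsScalarTower R T S := .of_algebraMap_eq' rfl
  haveI : IsScalarTower R T₀ S := .of_algebraMap_eq fun r => by
    rw [IsScalarTower.algebraMap_apply R T S, IsScalarTower.algebraMap_apply R T₀ T]
    rfl
  obtain ⟨D, hD, M, hM⟩ := Groth.Agent.Lib.Excellent.Localization.exists_model (A' := T)
    (Algebra.EssFiniteType.submonoid R T) (A := ↥T₀) S
  haveI : Algebra.FiniteType R D := Algebra.FiniteType.trans (R := R) (S := ↥T₀) (A := D) inferInstance hD
  exact Groth.Agent.Lib.Excellent.Nagata.isN2_of_isLocalization M (hR D inferInstance)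

end Groth.Agent.S9398
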