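import Groth.Statements.S9401
import Groth.Agent.Lib.Cohen.Unramified
import Groth.Agent.S9407
import Mathlib.RingTheory.Flat.FaithfullyFlat.Algebra
import Mathlib.RingTheory.Smooth.Flat

set_option autoImplicit false
set_option linter.style.haveILetI false
universe u
open CAlg

namespace Groth.Agent.S9401

/-- The Nagata property descends along smooth ring maps that are surjective on spectra. -/
theorem result (R : Type u) [CommRing R] (S : Type u)
    [CommRing S] [Algebra R S] [Algebra.Smooth R S]
    (hs : Function.Surjective (PrimeSpectrum.comap (algebraMap R S))) (hS : CAlg.IsNagata S) :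
    CAlg.IsNagata R := by
  classical
  haveI : Module.Flat R S := inferInstance
  haveI : Module.FaithfullyFlat R S := Module.FaithfullyFlat.of_comap_surjective hs
  haveI := hS.1
  have hmono : Function.Injective (fun I : Ideal R => I.map (algebraMap R S)) :=
    fun I J h => by
      have := congrArg (Ideal.comap (algebraMap R S)) h
      rwa [Ideal.comap_map_eq_self_of_faithfullyFlat, Ideal.comap_map_eq_self_of_faithfullyFlat] at this
  haveI : IsNoetherianRing R :=
    isNoetherian_iff.2 <| (show StrictMono (fun I : Ideal R => I.map (algebraMap R S)) from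
      (fun I J hIJ => lt_of_le_of_ne (Ideal.map_mono hIJ.le) fun e => hIJ.ne (hmono e))).wellFoundedGT.wf
  refine ⟨inferInstance, fun p _ => ?_⟩
  haveI : IsDomain (R ⧸ p) := Ideal.Quotient.isDomain p
  intro L _ _ _ _ hfin
  let A := R ⧸ p
  let C := TensorProduct R A S
  haveI : Module.FaithfullyFlat A C := inferInstance
  haveI : Algebra.Smooth A C := inferInstance
  have hC : CAlg.IsNagata C := Groth.Agent.Lib.Cohen.Unramified.isNagata_of_surjective hS
    (Algebra.TensorProduct.includeRight : S →ₐ[R] C).toRingHom fun z => by
      induction z using TensorProduct.induction_on with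
      | zero => exact ⟨0, map_zero _⟩
      | add x y hx hy =>
        obtain ⟨a, rfl⟩ := hx
        obtain ⟨b, rfl⟩ := hy
        exact ⟨a + b, map_add _ _ _⟩
      | tmul a s =>
        obtain ⟨r, rfl⟩ := Ideal.Quotient.mk_surjective a
        refine ⟨r • s, ?_⟩
        change TensorProduct.tmul R (1 : A) (r • s) = _
        rw [← TensorProduct.smul_tmul]
        congr 1
        change Ideal.Quotient.mk p (r * 1) = _
        rw [mul_one]
  haveI : IsReduced (TensorProduct A L C) := Groth.Agent.S9407.result L (TensorProduct A L C)
  haveI : IsReduced (TensorProduct A C L) :=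
    isReduced_of_injective (Algebra.TensorProduct.comm A C L) (AlgEquiv.injective _)
  exact Groth.Agent.Lib.Cohen.Unramified.finite_of_isReduced_tensor C hC (FractionRing A) L inferInstance

end Groth.Agent.S9401
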