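import Groth.Statements.S9403
import Mathlib.RingTheory.Filtration
import Mathlib.RingTheory.Derivation.Basic
import Mathlib.Tactic.LinearCombination

set_option autoImplicit false
set_option linter.style.haveILetI false
universe u
open CAlg

namespace Groth.Agent.S9403

/-- Let R → S be a ring map with S a Noetherian local ring which is an algebra over the rationals, and f
∈ S such that some S-linear form on the module of differentials of S over R sends df to 1 (df spans
a free direct summand of rank one). Then f is a nonzerodivisor of S. (The published statement asks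
only that S·df be a direct summand of the module of differentials, which also holds for the
rationals with a square-zero element adjoined, where f is a zero divisor; this row asks for an
S-linear form on the differentials sending df to 1, as the published proof uses.) -/
theorem result (R : Type u) [CommRing R]
    (S : Type u) [CommRing S] [IsLocalRing S] [IsNoetherianRing S] [Algebra R S] [Algebra ℚ S]
    (f : S) (θ : Ω[S⁄R] →ₗ[S] S) (hθ : θ (KaehlerDifferential.D R S f) = 1) : f ∈ nonZeroDivisors S := by
  by_cases hu : IsUnit f
  · exact hu.mem_nonZeroDivisors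
  let D : Derivation R S S := θ.compDer (KaehlerDifferential.D R S)
  have hDf : D f = 1 := hθ
  have key : ∀ g : S, f * g = 0 → ∀ n : ℕ, ∃ h : S, g = f ^ n * h := by
    intro g hg n
    induction n with
    | zero => exact ⟨g, by simp⟩
    | succ n ih =>
      obtain ⟨h, rfl⟩ := ih
      have h0 : f ^ (n + 1) * h = 0 := by rw [pow_succ', mul_assoc]; exact hg
      have h1 := congrArg D h0
      rw [D.leibniz, D.leibniz_pow, hDf, map_zero, smul_eq_mul, smul_eq_mul, nsmul_eq_mul,
        smul_eq_mul, mul_one, Nat.add_sub_cancel] at h1
      obtain ⟨c, hc⟩ : ∃ c : S, c * ((n + 1 : ℕ) : S) = 1 :=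
        ⟨algebraMap ℚ S ((n + 1 : ℕ) : ℚ)⁻¹, by
          rw [← map_natCast (algebraMap ℚ S) (n + 1), ← map_mul,
            inv_mul_cancel₀ (Nat.cast_ne_zero.2 n.succ_ne_zero), map_one]⟩
      refine ⟨-(c * D h), ?_⟩
      push_cast at hc h1 ⊢
      linear_combination c * h1 - (f ^ n * h) * hc
  have main : ∀ g : S, f * g = 0 → g = 0 := by
    intro g hg'
    have hm : g ∈ ⨅ n : ℕ, (Ideal.span {f} : Ideal S) ^ n := by
      refine Submodule.mem_iInf _ |>.2 fun n => ?_
      rw [Ideal.span_singleton_pow, Ideal.mem_span_singleton']
      obtain ⟨h, hh⟩ := key g hg' n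
      exact ⟨h, by rw [hh, mul_comm]⟩
    rwa [Ideal.iInf_pow_eq_bot_of_isLocalRing _ (by rwa [Ne, Ideal.span_singleton_eq_top]),
      Ideal.mem_bot] at hm
  exact mem_nonZeroDivisors_iff.2 ⟨main, fun g hg => main g (by rw [mul_comm]; exact hg)⟩

end Groth.Agent.S9403
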