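import Groth.Statements.S9404
import Groth.Agent.Lib.Henselian.PurInsepTensor
import Groth.Agent.H2.PurInsepLocal

set_option autoImplicit false
universe u
open CAlg

namespace Groth.Agent.S9404

open TensorProduct in
/-- For local homomorphisms of local rings A → B and A → C with A → C integral, if the residue field of
C or that of B is purely inseparable over the residue field of A, then B ⊗_A C is local and both
structure maps into it are local. -/
theorem result (A : Type u) [CommRing A]
    [IsLocalRing A] (B : Type u) [CommRing B] [IsLocalRing B] [Algebra A B]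
    [IsLocalHom (algebraMap A B)] (C : Type u) [CommRing C] [IsLocalRing C] [Algebra A C]
    [IsLocalHom (algebraMap A C)] [Algebra.IsIntegral A C]
    (h : IsPurelyInseparable (IsLocalRing.ResidueField A) (IsLocalRing.ResidueField C) ∨
      IsPurelyInseparable (IsLocalRing.ResidueField A) (IsLocalRing.ResidueField B)) :
    IsLocalRing (B ⊗[A] C) ∧
      IsLocalHom (Algebra.TensorProduct.includeLeft : B →ₐ[A] B ⊗[A] C).toRingHom ∧
      IsLocalHom (Algebra.TensorProduct.includeRight : C →ₐ[A] B ⊗[A] C).toRingHom := by
  haveI hl : IsLocalRing (B ⊗[A] C) := by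
    rcases h with h | h
    · haveI := h
      obtain ⟨hloc, -, -⟩ := Lib.Henselian.PurInsepTensor.exists_isLocalRing_tensor A C B
      haveI := hloc
      exact (Algebra.TensorProduct.comm A C B).toRingEquiv.isLocalRing
    · haveI := h
      exact H2.PurInsepLocal.isLocalRing A B C
  haveI := IsLocalRing.maximalIdeal.isMaximal (B ⊗[A] C)
  refine ⟨hl, ⟨fun b hb => ?_⟩, ⟨fun c hc => ?_⟩⟩
  · by_contra hn
    have h1 : b ∈ (IsLocalRing.maximalIdeal (B ⊗[A] C)).comap
        (Algebra.TensorProduct.includeLeft : B →ₐ[A] B ⊗[A] C).toRingHom := by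
      rw [H2.PurInsepLocal.comap_left]; exact hn
    exact h1 hb
  · by_contra hn
    have h1 : c ∈ (IsLocalRing.maximalIdeal (B ⊗[A] C)).comap
        (Algebra.TensorProduct.includeRight : C →ₐ[A] B ⊗[A] C).toRingHom := by
      rw [H2.PurInsepLocal.comap_right]; exact hn
    exact h1 hc


end Groth.Agent.S9404
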