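import Groth.Statements.S9405
import Groth.Agent.H24.CompleteFinite
import Groth.Agent.Lib.Henselian.LocalRing

set_option autoImplicit false
universe u
open CAlg

namespace Groth.Agent.S9405

/-- A module-finite algebra S over a complete Noetherian local ring R is a finite product of complete
Noetherian local rings; precisely, S has finitely many maximal ideals, S maps bijectively onto the
product of its localizations at them, and each of these localizations is Noetherian and complete for
its maximal ideal. -/
theorem result (R : Type u) [CommRing R]
    [IsLocalRing R] [IsNoetherianRing R] [IsAdicComplete (IsLocalRing.maximalIdeal R) R]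
    (S : Type u) [CommRing S] [Algebra R S] [Module.Finite R S] :
    Finite (MaximalSpectrum S) ∧
      Function.Bijective
        (algebraMap S ((m : MaximalSpectrum S) → Localization.AtPrime m.asIdeal)) ∧
      ∀ m : MaximalSpectrum S, IsNoetherianRing (Localization.AtPrime m.asIdeal) ∧
        IsAdicComplete (IsLocalRing.maximalIdeal (Localization.AtPrime m.asIdeal))
          (Localization.AtPrime m.asIdeal) := by
  haveI : HenselianLocalRing R :=
    Lib.Henselian.LocalRing.henselianLocalRing_of_henselianRing (R := R)
  haveI := Lib.Henselian.Finite.finite_maximalSpectrum R (B := S)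
  have hbij := Lib.Henselian.Finite.toPiLocalization_bijective (A := R) (B := S)
  refine ⟨inferInstance, hbij, fun m => ?_⟩
  haveI : Module.Finite R (Localization.AtPrime m.asIdeal) := by
    refine Module.Finite.of_surjective
      (IsScalarTower.toAlgHom R S (Localization.AtPrime m.asIdeal)).toLinearMap fun y => ?_
    classical
    obtain ⟨x, hx⟩ := hbij.2 (Pi.single m y)
    refine ⟨x, ?_⟩
    show algebraMap S _ x = y
    rw [← Pi.single_eq_same (M := fun n : MaximalSpectrum S => Localization.AtPrime n.asIdeal) m y,
      ← hx]
    rfl
  exact ⟨IsNoetherianRing.of_finite R _, H24.CompleteFinite.isAdicComplete_maximalIdeal (R := R)⟩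

end Groth.Agent.S9405
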