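import Groth.Statements.S9408
import Groth.Agent.H2.Rigid.GeomRegAlg

set_option autoImplicit false
universe u
open CAlg

namespace Groth.Agent.S9408

/-- Over a field k, geometric regularity ascends along smooth maps of k-algebras: for A Noetherian and
geometrically regular over k and B smooth over A, B is geometrically regular over k. -/
theorem result (k : Type u) [Field k] (A : Type u) [CommRing A]
    [Algebra k A] [IsNoetherianRing A] (B : Type u) [CommRing B] [Algebra k B] [Algebra A B]
    [IsScalarTower k A B] [Algebra.Smooth A B] (hA : CAlg.IsGeometricallyRegular k A) :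
    CAlg.IsGeometricallyRegular k B := by
  have : IsNoetherianRing B := Algebra.FiniteType.isNoetherianRing A B
  refine Groth.Agent.H2.Rigid.GeomRegAlg.LocAdic.geometricallyRegular fun Q _ C _ _ J hJ ψ hψ => ?_
  obtain ⟨t, ht⟩ := hψ
  let p := Q.comap (algebraMap A B)
  let φ := Localization.localRingHom p Q (algebraMap A B) rfl
  have hφ : ∀ a, φ (algebraMap A _ a) = algebraMap B _ (algebraMap A B a) :=
    Localization.localRingHom_to_map p Q (algebraMap A B) rfl
  have : IsLocalHom φ := Localization.isLocalHom_localRingHom _ Q _ rfl
  let φk : Localization.AtPrime p →ₐ[k] Localization.AtPrime Q :=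
    { φ with
      commutes' := fun c => by
        show φ (algebraMap k _ c) = _
        rw [IsScalarTower.algebraMap_apply k A (Localization.AtPrime p), hφ,
          ← IsScalarTower.algebraMap_apply k A B, ← IsScalarTower.algebraMap_apply] }
  obtain ⟨v, hv⟩ := Groth.Agent.H2.Rigid.GeomRegAlg.locAdic_of_geometricallyRegular hA p C J hJ (ψ.comp φk) ⟨t, fun x hx => ht _ (by
    have h1 : (IsLocalRing.maximalIdeal (Localization.AtPrime p)).map φ ≤
        IsLocalRing.maximalIdeal (Localization.AtPrime Q) := IsLocalRing.map_maximalIdeal_le φ
    refine Ideal.pow_right_mono h1 t ?_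
    rw [← Ideal.map_pow]
    exact Ideal.mem_map_of_mem _ hx)⟩
  let _ : Algebra A C := (v.toRingHom.comp (algebraMap A (Localization.AtPrime p))).toAlgebra
  have : IsScalarTower k A C := IsScalarTower.of_algebraMap_eq' (RingHom.ext fun c => by
    show algebraMap k C c = v (algebraMap A _ (algebraMap k A c))
    rw [← IsScalarTower.algebraMap_apply, v.commutes])
  let ψA : Localization.AtPrime Q →ₐ[A] C ⧸ J :=
    { ψ.toRingHom with
      commutes' := fun a => by
        show ψ (algebraMap A _ a) = Ideal.Quotient.mk J (v (algebraMap A _ a))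
        have := AlgHom.congr_fun hv (algebraMap A _ a)
        exact (congrArg ψ ((IsScalarTower.algebraMap_apply A B _ a).trans (hφ a).symm)).trans this.symm }
  have : Algebra.FormallySmooth B (Localization.AtPrime Q) := Algebra.FormallySmooth.of_isLocalization Q.primeCompl
  have : Algebra.FormallySmooth A (Localization.AtPrime Q) := Algebra.FormallySmooth.comp A B _
  obtain ⟨χ, hχ⟩ := Algebra.FormallySmooth.exists_lift J ⟨2, hJ⟩ ψA
  exact ⟨χ.restrictScalars k, AlgHom.ext fun z => AlgHom.congr_fun hχ z⟩

end Groth.Agent.S9408
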