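import Groth.Statements.S9409
import Groth.Agent.H2.Rigid.GeomRegAlg

set_option autoImplicit false
universe u
open CAlg

namespace Groth.Agent.S9409

/-- Adic formal smoothness passes to a directed union of fields. -/
theorem adic_union (k : Type u) [Field k] {ι : Type u} (K : ι → Type u) [∀ i, Field (K i)]
    [∀ i, Algebra (K i) k]
    (hdir : ∀ i j, ∃ l, Set.range (algebraMap (K i) k) ⊆ Set.range (algebraMap (K l) k) ∧
      Set.range (algebraMap (K j) k) ⊆ Set.range (algebraMap (K l) k))
    (hcov : ∀ x : k, ∃ i, x ∈ Set.range (algebraMap (K i) k))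
    (A' : Type u) [CommRing A'] [IsLocalRing A'] [IsNoetherianRing A'] [Algebra k A']
    [∀ i, Algebra (K i) A'] (htow : ∀ i, IsScalarTower (K i) k A')
    (hloc : ∀ i, CAlgX.IsAdicFormallySmooth (K i) A' (IsLocalRing.maximalIdeal A')) :
    CAlgX.IsAdicFormallySmooth k A' (IsLocalRing.maximalIdeal A') := by
  obtain ⟨i₀, -⟩ := hcov 0
  let R := IsLocalRing.ResidueField A'
  have hbc : ∀ i, ∀ x : K i, algebraMap k A' (algebraMap (K i) k x) = algebraMap (K i) A' x :=
    fun i x => by have := htow i; rw [← IsScalarTower.algebraMap_apply]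
  refine Lib.SymGr.RegularField.iff_regular_and_injective_int.2
    ⟨(Lib.SymGr.RegularField.iff_regular_and_injective_int.1 (hloc i₀)).1, ?_⟩
  -- the comparison maps
  let g : ∀ i, TensorProduct (K i) A' (KaehlerDifferential ℤ (K i)) →ₗ[A'] TensorProduct k A' (KaehlerDifferential ℤ k) :=
    fun i => have := htow i
      LinearMap.liftBaseChange A' (((TensorProduct.mk k A' (KaehlerDifferential ℤ k) 1).restrictScalars (K i)).comp
        (KaehlerDifferential.map ℤ ℤ (K i) k))
  have hg : ∀ i (a : A') (x : K i), g i (TensorProduct.tmul (K i) a (KaehlerDifferential.D ℤ (K i) x)) =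
      TensorProduct.tmul k a (KaehlerDifferential.D ℤ k (algebraMap (K i) k x)) := fun i a x => by
    have := htow i
    simp [g, TensorProduct.smul_tmul']
  have hcomp : ∀ i, (KaehlerDifferential.mapBaseChange ℤ k A').comp (g i) =
      KaehlerDifferential.mapBaseChange ℤ (K i) A' := fun i => by
    have := htow i
    refine TensorProduct.AlgebraTensorModule.ext fun a ω => ?_
    have hω : ω ∈ Submodule.span (K i) (Set.range (KaehlerDifferential.D ℤ (K i))) := by
      rw [KaehlerDifferential.span_range_derivation]; trivial
    induction hω using Submodule.span_induction generalizing a with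
    | mem _ hx => obtain ⟨x, rfl⟩ := hx; simp [hg, hbc]
    | zero => simp
    | add x y _ _ hx hy => rw [TensorProduct.tmul_add, map_add, map_add, hx a, hy a]
    | smul c x _ hx => rw [← TensorProduct.smul_tmul]; exact hx _
  classical
  -- every element comes from one of the subfields
  let Q : TensorProduct A' R (TensorProduct k A' (KaehlerDifferential ℤ k)) → Prop := fun z =>
    ∃ F : Finset k, ∀ i, (↑F : Set k) ⊆ Set.range (algebraMap (K i) k) →
      z ∈ LinearMap.range ((g i).lTensor R)
  have hadd : ∀ x y, Q x → Q y → Q (x + y) := fun x y ⟨F, hF⟩ ⟨G, hG⟩ => ⟨F ∪ G, fun i hi =>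
    add_mem (hF i fun b hb => hi (Finset.mem_coe.2 (Finset.mem_union_left _ hb)))
      (hG i fun b hb => hi (Finset.mem_coe.2 (Finset.mem_union_right _ hb)))⟩
  have hQ : ∀ z, Q z := by
    intro z
    induction z using TensorProduct.induction_on with
    | zero => exact ⟨∅, fun i _ => zero_mem _⟩
    | add x y hx hy => exact hadd _ _ hx hy
    | tmul r m =>
      induction m using TensorProduct.induction_on with
      | zero => exact ⟨∅, fun i _ => by rw [TensorProduct.tmul_zero]; exact zero_mem _⟩
      | add x y hx hy => rw [TensorProduct.tmul_add]; exact hadd _ _ hx hy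
      | tmul a ω =>
        have hω : ω ∈ Submodule.span k (Set.range (KaehlerDifferential.D ℤ k)) := by
          rw [KaehlerDifferential.span_range_derivation]; trivial
        induction hω using Submodule.span_induction generalizing a with
        | mem _ hx =>
          obtain ⟨b, rfl⟩ := hx
          refine ⟨{b}, fun i hi => ?_⟩
          obtain ⟨x, rfl⟩ := hi (Finset.mem_coe.2 (Finset.mem_singleton_self b))
          exact ⟨TensorProduct.tmul A' r (TensorProduct.tmul (K i) a (KaehlerDifferential.D ℤ (K i) x)),
            by rw [LinearMap.lTensor_tmul, hg]⟩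
        | zero => exact ⟨∅, fun i _ => by rw [TensorProduct.tmul_zero, TensorProduct.tmul_zero]; exact zero_mem _⟩
        | add x y _ _ hx hy => rw [TensorProduct.tmul_add, TensorProduct.tmul_add]; exact hadd _ _ (hx a) (hy a)
        | smul c x _ hx => rw [← TensorProduct.smul_tmul]; exact hx _
  have hfin : ∀ F : Finset k, ∃ i, (↑F : Set k) ⊆ Set.range (algebraMap (K i) k) := by
    intro F
    induction F using Finset.induction_on with
    | empty => exact ⟨i₀, by simp⟩
    | insert b F _ ih =>
      obtain ⟨i, hi⟩ := ih
      obtain ⟨j, hj⟩ := hcov b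
      obtain ⟨l, hil, hjl⟩ := hdir i j
      refine ⟨l, ?_⟩
      rw [Finset.coe_insert, Set.insert_subset_iff]
      exact ⟨hjl hj, hi.trans hil⟩
  rw [injective_iff_map_eq_zero]
  intro z hz
  obtain ⟨F, hF⟩ := hQ z
  obtain ⟨i, hi⟩ := hfin F
  obtain ⟨w, rfl⟩ := hF i hi
  have hw : (KaehlerDifferential.mapBaseChange ℤ (K i) A').lTensor R w = 0 := by
    rw [← hcomp i, LinearMap.lTensor_comp]; exact hz
  rw [(injective_iff_map_eq_zero _).1 (Lib.SymGr.RegularField.iff_regular_and_injective_int.1 (hloc i)).2 w hw, map_zero]


/-- Let k be a field written as a directed union of subfields k_i (given as fields mapping to k whose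
images form a directed family covering k) and A a Noetherian k-algebra. Geometric regularity of A
over every one of the k_i implies that A is also geometrically regular as a k-algebra. -/
theorem result (k : Type u) [Field k] {ι : Type u}
    (K : ι → Type u) [∀ i, Field (K i)] [∀ i, Algebra (K i) k]
    (hdir : ∀ i j, ∃ l, Set.range (algebraMap (K i) k) ⊆ Set.range (algebraMap (K l) k) ∧
      Set.range (algebraMap (K j) k) ⊆ Set.range (algebraMap (K l) k))
    (hcov : ∀ x : k, ∃ i, x ∈ Set.range (algebraMap (K i) k))
    (A : Type u) [CommRing A] [Algebra k A] [IsNoetherianRing A] [∀ i, Algebra (K i) A]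
    [∀ i, IsScalarTower (K i) k A] (h : ∀ i, CAlg.IsGeometricallyRegular (K i) A) :
    CAlg.IsGeometricallyRegular k A := by
  refine Groth.Agent.H2.Rigid.GeomRegAlg.LocAdic.geometricallyRegular fun P _ => ?_
  exact adic_union k K hdir hcov (Localization.AtPrime P)
    (fun i => IsScalarTower.of_algebraMap_eq fun x => by
      rw [IsScalarTower.algebraMap_apply k A (Localization.AtPrime P),
        IsScalarTower.algebraMap_apply (K i) A (Localization.AtPrime P),
        ← IsScalarTower.algebraMap_apply (K i) k A])
    fun i => Groth.Agent.H2.Rigid.GeomRegAlg.locAdic_of_geometricallyRegular (h i) P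

end Groth.Agent.S9409
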