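import Groth.Statements.S9410
import Groth.Agent.H2.Rigid.GeomRegAlg
import Mathlib.RingTheory.Etale.Field

set_option autoImplicit false
universe u
open CAlg

namespace Groth.Agent.S9410

/-- Given a separable algebraic field extension k'/k and a Noetherian k'-algebra A, geometric regularity
of A over k' is equivalent to geometric regularity of A over k. -/
theorem result (k : Type u) [Field k] (k' : Type u)
    [Field k'] [Algebra k k'] [Algebra.IsSeparable k k'] (A : Type u) [CommRing A] [Algebra k' A]
    [Algebra k A] [IsScalarTower k k' A] [IsNoetherianRing A] :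
    CAlg.IsGeometricallyRegular k A ↔ CAlg.IsGeometricallyRegular k' A := by
  have : Algebra.FormallyEtale k k' := Algebra.FormallyEtale.of_isSeparable k k'
  rw [Groth.Agent.H2.Rigid.GeomRegAlg.geometricallyRegular_iff_locAdic, Groth.Agent.H2.Rigid.GeomRegAlg.geometricallyRegular_iff_locAdic]
  constructor
  · intro h P _ C _ _ J hJ ψ hψ
    let _ : Algebra k C := ((algebraMap k' C).comp (algebraMap k k')).toAlgebra
    have : IsScalarTower k k' C := IsScalarTower.of_algebraMap_eq' rfl
    obtain ⟨χ, hχ⟩ := h P C J hJ (ψ.restrictScalars k) hψ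
    have key : χ.comp (IsScalarTower.toAlgHom k k' (Localization.AtPrime P)) = IsScalarTower.toAlgHom k k' C :=
      Algebra.FormallyUnramified.ext J ⟨2, hJ⟩ fun c => by
        exact (AlgHom.congr_fun hχ (algebraMap k' _ c)).trans (ψ.commutes c)
    exact ⟨{ χ.toRingHom with commutes' := fun c => AlgHom.congr_fun key c },
      AlgHom.ext fun z => AlgHom.congr_fun hχ z⟩
  · intro h P _ C _ _ J hJ ψ hψ
    obtain ⟨θ, hθ⟩ := Algebra.FormallySmooth.exists_lift J ⟨2, hJ⟩
      (ψ.comp (IsScalarTower.toAlgHom k k' (Localization.AtPrime P)))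
    let _ : Algebra k' C := θ.toRingHom.toAlgebra
    obtain ⟨χ, hχ⟩ := h P C J hJ
      { ψ.toRingHom with commutes' := fun c => (AlgHom.congr_fun hθ c).symm } hψ
    refine ⟨{ χ.toRingHom with commutes' := fun c => ?_ }, AlgHom.ext fun z => AlgHom.congr_fun hχ z⟩
    show χ (algebraMap k (Localization.AtPrime P) c) = algebraMap k C c
    rw [IsScalarTower.algebraMap_apply k k' (Localization.AtPrime P), χ.commutes]
    exact θ.commutes c

end Groth.Agent.S9410
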