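import Groth.Statements.S9411
import Groth.Agent.S2690
import Groth.Agent.S9413
import Groth.Agent.Lib.Excellent.NormalFibres
import Mathlib.LinearAlgebra.TensorProduct.Quotient
import Mathlib.RingTheory.Polynomial.Tower
import Mathlib.Algebra.Polynomial.Identities

set_option autoImplicit false
set_option linter.style.haveILetI false
universe u
open EGA4
open scoped TensorProduct

namespace Groth.Agent.S9411

/-- Let k'/k be a separable algebraic field extension and A a k'-algebra. Geometric normality of A over
k' is equivalent to geometric normality of A over k. -/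
theorem result (k : Type u) [Field k] (k' : Type u) [Field k']
    [Algebra k k'] [Algebra.IsSeparable k k'] (A : Type u) [CommRing A] [Algebra k' A]
    [Algebra k A] [IsScalarTower k k' A] :
    EGA4.IsGeomNormal k A ↔ EGA4.IsGeomNormal k' A := by
  constructor
  · intro h L _ _ _
    letI : Algebra k L := ((algebraMap k' L).comp (algebraMap k k')).toAlgebra
    haveI : IsScalarTower k k' L := .of_algebraMap_eq' rfl
    have hL : EGA4.IsNormalRing L := fun p _ =>
      ⟨IsLocalization.isDomain_localization p.primeCompl_le_nonZeroDivisors,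
        isIntegrallyClosed_of_isLocalization _ p.primeCompl p.primeCompl_le_nonZeroDivisors⟩
    have h1 : EGA4.IsNormalRing (L ⊗[k] A) :=
      Groth.Agent.Lib.Excellent.NormalFibres.isoInvariant_isNormalRing _ _
        (Algebra.TensorProduct.comm k A L).toRingEquiv (Groth.Agent.S9413.result k A L h hL)
    exact aux k k' L A h1
  · intro h L _ _ hfin
    haveI := hfin
    haveI : Algebra.IsGeometricallyReduced k k' := sepGeomReduced k k'
    have h1 : EGA4.IsNormalRing (k' ⊗[k] L) := by
      refine Groth.Agent.S2690.result k L k' ?_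
      exact fun p _ => ⟨IsLocalization.isDomain_localization p.primeCompl_le_nonZeroDivisors,
        isIntegrallyClosed_of_isLocalization _ p.primeCompl p.primeCompl_le_nonZeroDivisors⟩
    have h2 : EGA4.IsNormalRing (A ⊗[k'] (k' ⊗[k] L)) := Groth.Agent.S9413.result k' A (k' ⊗[k] L) h h1
    exact Groth.Agent.Lib.Excellent.NormalFibres.isoInvariant_isNormalRing _ _
      ((Algebra.TensorProduct.cancelBaseChange k k' k' A L).toRingEquiv.trans
        (Algebra.TensorProduct.comm k A L).toRingEquiv) h2
where
  sepGeomReduced (k k' : Type u) [Field k] [Field k'] [Algebra k k'] [Algebra.IsSeparable k k'] :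
      Algebra.IsGeometricallyReduced k k' := by
    refine Algebra.IsGeometricallyReduced.of_forall_fg fun B ⟨s, hs⟩ => ?_
    let K₀ := IntermediateField.adjoin k (s : Set k')
    have hle : B ≤ K₀.toSubalgebra := hs ▸ Algebra.adjoin_le (IntermediateField.subset_adjoin k (s : Set k'))
    haveI : Algebra.EssFiniteType k K₀ := IntermediateField.essFiniteType_iff.2 ⟨s, rfl⟩
    haveI : Algebra.FormallyUnramified k K₀ := Algebra.FormallyUnramified.of_isSeparable k K₀
    haveI : Algebra.IsGeometricallyReduced k K₀ := by
      rw [Algebra.isGeometricallyReduced_field_iff]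
      exact Algebra.FormallyUnramified.isReduced_of_field (AlgebraicClosure k) _
    exact Algebra.IsGeometricallyReduced.of_injective (B := K₀) (Subalgebra.inclusion hle)
      (Subalgebra.inclusion_injective hle)
  aux (k k' L A : Type u) [Field k] [Field k'] [Algebra k k'] [Algebra.IsSeparable k k'] [CommRing L]
      [Algebra k L] [Algebra k' L] [IsScalarTower k k' L] [CommRing A] [Algebra k A] [Algebra k' A]
      [IsScalarTower k k' A] (h : EGA4.IsNormalRing (L ⊗[k] A)) : EGA4.IsNormalRing (L ⊗[k'] A) := by
    let π : L ⊗[k] A →ₐ[k] L ⊗[k'] A := Algebra.TensorProduct.mapOfCompatibleSMul k' k k L A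
    have hπ : Function.Surjective π := Algebra.TensorProduct.mapOfCompatibleSMul_surjective k' k k L A
    let x₁ : k' →ₐ[k] L ⊗[k] A :=
      (Algebra.TensorProduct.includeLeft : L →ₐ[k] L ⊗[k] A).comp (IsScalarTower.toAlgHom k k' L)
    let x₂ : k' →ₐ[k] L ⊗[k] A :=
      (Algebra.TensorProduct.includeRight : A →ₐ[k] L ⊗[k] A).comp (IsScalarTower.toAlgHom k k' A)
    have hker : ∀ d : L ⊗[k] A, π d = 0 → d ∈ Ideal.span (Set.range fun x : k' => x₁ x - x₂ x) := by
      intro d hd
      have hd' : d ∈ (TensorProduct.mapOfCompatibleSMul k' k k' L A).ker := hd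
      rw [TensorProduct.AlgebraTensorModule.ker_mapOfCompatibleSMul] at hd'
      clear hd
      induction hd' using Submodule.span_induction with
      | mem z hz =>
        obtain ⟨a, m, n, rfl⟩ := hz
        have : (a • m) ⊗ₜ[k] n - m ⊗ₜ[k] (a • n) = (m ⊗ₜ[k] n) * (x₁ a - x₂ a) := by
          simp only [x₁, x₂, AlgHom.comp_apply, IsScalarTower.coe_toAlgHom',
            Algebra.TensorProduct.includeLeft_apply, Algebra.TensorProduct.includeRight_apply,
            mul_sub, Algebra.TensorProduct.tmul_mul_tmul, mul_one, Algebra.smul_def]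
          rw [mul_comm m, mul_comm n]
        rw [this]
        exact Ideal.mul_mem_left _ _ (Ideal.subset_span ⟨a, rfl⟩)
      | zero => exact Ideal.zero_mem _
      | add _ _ _ _ hx hy => exact Ideal.add_mem _ hx hy
      | smul c _ _ hx =>
        rw [← algebraMap_smul (L ⊗[k] A) c, smul_eq_mul]
        exact Ideal.mul_mem_left _ _ hx
    intro Q _
    let q := Q.comap π.toRingHom
    have hkill : ∀ d : L ⊗[k] A, π d = 0 → ∃ s ∈ q.primeCompl, s * d = 0 := by
      have hker' : ∀ {d : L ⊗[k] A}, d ∈ Ideal.span (Set.range fun x : k' => x₁ x - x₂ x) → π d = 0 := by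
        intro d hd
        refine (Ideal.span_le (I := RingHom.ker π.toRingHom)).2 ?_ hd
        rintro _ ⟨x, rfl⟩
        show π (x₁ x - x₂ x) = 0
        simp only [x₁, x₂, π, AlgHom.comp_apply, IsScalarTower.coe_toAlgHom', map_sub,
          Algebra.TensorProduct.includeLeft_apply, Algebra.TensorProduct.includeRight_apply,
          Algebra.TensorProduct.mapOfCompatibleSMul_tmul]
        rw [Algebra.algebraMap_eq_smul_one, Algebra.algebraMap_eq_smul_one, TensorProduct.smul_tmul, sub_self]
      intro d hd
      have hd' := hker d hd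
      induction hd' using Submodule.span_induction with
      | mem z hz =>
        obtain ⟨x, rfl⟩ := hz
        let f := minpoly k x
        have h1 : Polynomial.aeval (x₁ x) f = 0 := by
          rw [Polynomial.aeval_algHom_apply, minpoly.aeval, map_zero]
        have h2 : Polynomial.aeval (x₂ x) f = 0 := by
          rw [Polynomial.aeval_algHom_apply, minpoly.aeval, map_zero]
        obtain ⟨c, hc⟩ := Polynomial.binomExpansion (f.map (algebraMap k (L ⊗[k] A))) (x₂ x) (x₁ x - x₂ x)
        rw [add_sub_cancel, Polynomial.derivative_map, Polynomial.eval_map_algebraMap,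
          Polynomial.eval_map_algebraMap, Polynomial.eval_map_algebraMap, h1, h2, zero_add] at hc
        refine ⟨Polynomial.aeval (x₂ x) f.derivative + c * (x₁ x - x₂ x), ?_, ?_⟩
        · intro hs
          have hdq : x₁ x - x₂ x ∈ q := by
            rw [Ideal.mem_comap, show π.toRingHom (x₁ x - x₂ x) = π (x₁ x - x₂ x) from rfl, hd]
            exact Q.zero_mem
          have h3 := (Ideal.add_mem_iff_left q (q.mul_mem_left c hdq)).1 hs
          refine Ideal.IsPrime.ne_top (inferInstance : q.IsPrime) (Ideal.eq_top_of_isUnit_mem q h3 ?_)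
          rw [Polynomial.aeval_algHom_apply]
          exact (isUnit_iff_ne_zero.2 ((Algebra.IsSeparable.isSeparable k x).aeval_derivative_ne_zero
            (minpoly.aeval k x))).map x₂
        · linear_combination -hc
      | zero => exact ⟨1, q.primeCompl.one_mem, mul_zero 1⟩
      | add y z hy hz ihy ihz =>
        obtain ⟨s, hs, hs'⟩ := ihy (hker' hy)
        obtain ⟨t, ht, ht'⟩ := ihz (hker' hz)
        exact ⟨s * t, q.primeCompl.mul_mem hs ht, by linear_combination t * hs' + s * ht'⟩
      | smul c y hy ihy =>
        obtain ⟨s, hs, hs'⟩ := ihy (hker' hy)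
        exact ⟨s, hs, by rw [smul_eq_mul]; linear_combination c * hs'⟩
    letI : Algebra (L ⊗[k] A) (Localization.AtPrime Q) :=
      ((algebraMap (L ⊗[k'] A) (Localization.AtPrime Q)).comp π.toRingHom).toAlgebra
    haveI : IsLocalization q.primeCompl (Localization.AtPrime Q) := by
      refine ⟨fun y => IsLocalization.map_units (Localization.AtPrime Q) (⟨π y.1, y.2⟩ : Q.primeCompl), fun z => ?_,
        fun {a b} hab => ?_⟩
      · obtain ⟨⟨a, ⟨s, hs⟩⟩, hz⟩ := IsLocalization.surj Q.primeCompl z
        obtain ⟨a, rfl⟩ := hπ a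
        obtain ⟨s, rfl⟩ := hπ s
        exact ⟨⟨a, ⟨s, hs⟩⟩, hz⟩
      · obtain ⟨⟨c, hc⟩, hca⟩ := (IsLocalization.eq_iff_exists Q.primeCompl (Localization.AtPrime Q)).1 hab
        obtain ⟨c, rfl⟩ := hπ c
        obtain ⟨s, hs, hs'⟩ := hkill (c * a - c * b) (by
          rw [map_sub, map_mul, map_mul, sub_eq_zero]; exact hca)
        exact ⟨⟨s * c, q.primeCompl.mul_mem hs hc⟩, by linear_combination hs'⟩
    exact Groth.Agent.Lib.Excellent.NormalRing.isoInvariant_domainIntClosed _ _
      (IsLocalization.algEquiv q.primeCompl (Localization.AtPrime q) (Localization.AtPrime Q)).toRingEquiv (h q)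

end Groth.Agent.S9411
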