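import Groth.Statements.S9414
import Groth.Agent.H20.KaehlerGens

set_option autoImplicit false
universe u
open CAlg

namespace Groth.Agent.S9414

open TensorProduct in
/-- For an algebraically closed field k, a finite type k-algebra S and a maximal ideal m of S with
residue field κ = S/m, the κ-vector spaces κ ⊗_S Ω_{S/k} and m/m² have the same dimension. -/
theorem result (k : Type u) [Field k]
    [IsAlgClosed k] (S : Type u) [CommRing S] [Algebra k S] [Algebra.FiniteType k S]
    (m : Ideal S) [m.IsMaximal] :
    Module.finrank (S ⧸ m) ((S ⧸ m) ⊗[S] Ω[S⁄k]) = Module.finrank (S ⧸ m) m.Cotangent := by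
  classical
  have : Module.Finite k (S ⧸ m) := by
    let := Ideal.Quotient.field m
    exact finite_of_finite_type_of_isJacobsonRing k (S ⧸ m)
  have hk : Function.Surjective (algebraMap k (S ⧸ m)) :=
    (IsAlgClosed.algebraMap_bijective_of_isIntegral (k := k) (K := S ⧸ m)).2
  obtain ⟨c, hc⟩ := Groth.Agent.H20.KaehlerGens.exists_retraction (k := k) m hk
  obtain ⟨D, hD⟩ := Groth.Agent.H20.KaehlerGens.exists_derivation_cotangent m c hc
  let L : (S ⧸ m) ⊗[S] Ω[S⁄k] →ₗ[S ⧸ m] m.Cotangent :=
    LinearMap.liftBaseChange (S ⧸ m) D.liftKaehlerDifferential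
  have hzero : ∀ s ∈ m, ∀ z : (S ⧸ m) ⊗[S] Ω[S⁄k], s • z = 0 := fun s hs z => by
    rw [← algebraMap_smul (S ⧸ m) s z, Ideal.Quotient.algebraMap_eq,
      Ideal.Quotient.eq_zero_iff_mem.mpr hs, zero_smul]
  let g : m →ₗ[S] (S ⧸ m) ⊗[S] Ω[S⁄k] :=
    { toFun := fun x => (1 : S ⧸ m) ⊗ₜ[S] KaehlerDifferential.D k S (x : S)
      map_add' := fun x y => by simp [TensorProduct.tmul_add]
      map_smul' := fun s x => by
        rw [RingHom.id_apply, SetLike.val_smul, smul_eq_mul, Derivation.leibniz,
          TensorProduct.tmul_add, TensorProduct.tmul_smul, TensorProduct.tmul_smul,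
          hzero _ x.2, add_zero] }
  have hrange : ∀ z, z ∈ LinearMap.range g := by
    intro z
    induction z using TensorProduct.induction_on with
    | zero => exact zero_mem _
    | add x y hx hy => exact add_mem hx hy
    | tmul a ω =>
      obtain ⟨s, rfl⟩ := Ideal.Quotient.mk_surjective a
      have : Ideal.Quotient.mk m s ⊗ₜ[S] ω = s • ((1 : S ⧸ m) ⊗ₜ[S] ω) := by
        rw [TensorProduct.smul_tmul', Algebra.smul_def, mul_one, Ideal.Quotient.algebraMap_eq]
      rw [this]
      clear this
      refine Submodule.smul_mem _ _ ?_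
      have hω : ω ∈ Submodule.span S (Set.range (KaehlerDifferential.D k S)) := by
        rw [KaehlerDifferential.span_range_derivation]; trivial
      induction hω using Submodule.span_induction with
      | zero => simp
      | add a b _ _ ha hb => rw [TensorProduct.tmul_add]; exact add_mem ha hb
      | smul a v _ hv => rw [TensorProduct.tmul_smul]; exact Submodule.smul_mem _ a hv
      | mem v hv =>
        obtain ⟨x, rfl⟩ := hv
        have hx : x - algebraMap k S (c x) ∈ m := by
          rw [hc, map_sub, AlgHom.commutes]; exact sub_self _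
        exact ⟨⟨_, hx⟩, by simp [g]⟩
  have hL : ∀ x : m, L (g x) = m.toCotangent x := fun x => by
    simp only [L, g, LinearMap.coe_mk, AddHom.coe_mk, LinearMap.liftBaseChange_tmul, one_smul,
      Derivation.liftKaehlerDifferential_comp_D]
    exact hD _ x.2
  have hinj : Function.Injective L := by
    rw [injective_iff_map_eq_zero]
    intro z hz
    obtain ⟨y, rfl⟩ := hrange z
    rw [hL] at hz
    have hy : y ∈ (m • ⊤ : Submodule S m) :=
      (Submodule.Quotient.mk_eq_zero _).mp hz
    refine Submodule.smul_induction_on hy (fun s hs n _ => ?_) fun a b ha hb => ?_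
    · rw [map_smul, hzero s hs]
    · rw [map_add, ha, hb, add_zero]
  have hsurj : Function.Surjective L := fun v => by
    obtain ⟨x, rfl⟩ := m.toCotangent_surjective v
    exact ⟨g x, hL x⟩
  exact (LinearEquiv.ofBijective L ⟨hinj, hsurj⟩).finrank_eq

end Groth.Agent.S9414
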