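import Groth.Statements.S9415
import Groth.Agent.Lib.JacCrit.FieldGeom

set_option autoImplicit false
universe u
open CAlg

namespace Groth.Agent.S9415

open TensorProduct IsLocalRing

/-- Let R be a Noetherian local algebra over a field k whose residue field κ is a finitely generated,
separable (that is, geometrically reduced) field extension of k. Then the map from m/m² (m the
maximal ideal, realised as the kernel of R → κ) to κ ⊗_R Ω_{R/k} sending the class of x to 1 ⊗ dx is
injective. -/
theorem result (k : Type u) [Field k] (R : Type u)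
    [CommRing R] [IsLocalRing R] [IsNoetherianRing R] [Algebra k R]
    [Algebra.EssFiniteType k (IsLocalRing.ResidueField R)]
    [Algebra.IsGeometricallyReduced k (IsLocalRing.ResidueField R)] :
    Function.Injective
      (KaehlerDifferential.kerCotangentToTensor k R (IsLocalRing.ResidueField R)) := by
  have : Algebra.FormallySmooth k (ResidueField R) :=
    Groth.Agent.Lib.JacCrit.FieldGeom.formallySmooth k (ResidueField R)
  let m : Ideal R := maximalIdeal R
  have hker : RingHom.ker (algebraMap R (ResidueField R)) = m := Ideal.mk_ker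
  have hle : m ^ 2 ≤ m := Ideal.pow_le_self two_ne_zero
  let π : (R ⧸ m ^ 2) →ₐ[k] ResidueField R := Ideal.Quotient.factorₐ k hle
  have hsurj : Function.Surjective π := Ideal.Quotient.factor_surjective hle
  have hπ : ∀ r : R, π (Ideal.Quotient.mk _ r) = IsLocalRing.residue R r := fun r => rfl
  have hnil : IsNilpotent (RingHom.ker (π : (R ⧸ m ^ 2) →+* ResidueField R)) := by
    refine ⟨2, le_bot_iff.1 ?_⟩
    rw [show (RingHom.ker (π : (R ⧸ m ^ 2) →+* ResidueField R)) = m.map (Ideal.Quotient.mk (m ^ 2)) from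
      ?_, ← Ideal.map_pow, Ideal.map_quotient_self]
    refine le_antisymm (fun x hx => ?_) ?_
    · obtain ⟨r, rfl⟩ := Ideal.Quotient.mk_surjective x
      refine Ideal.mem_map_of_mem _ ?_
      rw [RingHom.mem_ker] at hx
      exact Ideal.Quotient.eq_zero_iff_mem.1 hx
    · rw [Ideal.map_le_iff_le_comap]
      intro r hr
      exact RingHom.mem_ker.2 (Ideal.Quotient.eq_zero_iff_mem.2 hr)
  let s : ResidueField R →ₐ[k] R ⧸ m ^ 2 :=
    Algebra.FormallySmooth.liftOfSurjective (AlgHom.id k _) π hsurj hnil
  have hs : ∀ c, π (s c) = c := fun c =>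
    Algebra.FormallySmooth.liftOfSurjective_apply (AlgHom.id k _) π hsurj hnil c
  -- the retraction `r ↦ r - s (residue r)`
  let δ : R → R ⧸ m ^ 2 := fun r => Ideal.Quotient.mk _ r - s (IsLocalRing.residue R r)
  have hδ : ∀ r, δ r ∈ RingHom.ker (π : (R ⧸ m ^ 2) →+* ResidueField R) := fun r => by
    simp [δ, RingHom.mem_ker, hπ, hs]
  have hsq : ∀ a b : R ⧸ m ^ 2, a ∈ RingHom.ker (π : (R ⧸ m ^ 2) →+* ResidueField R) →
      b ∈ RingHom.ker (π : (R ⧸ m ^ 2) →+* ResidueField R) → a * b = 0 := fun a b ha hb => by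
    obtain ⟨a, rfl⟩ := Ideal.Quotient.mk_surjective a
    obtain ⟨b, rfl⟩ := Ideal.Quotient.mk_surjective b
    rw [← map_mul, Ideal.Quotient.eq_zero_iff_mem, sq]
    exact Ideal.mul_mem_mul (Ideal.Quotient.eq_zero_iff_mem.1 ha) (Ideal.Quotient.eq_zero_iff_mem.1 hb)
  let D : Derivation k R (R ⧸ m ^ 2) := Derivation.mk'
    { toFun := δ
      map_add' := fun a b => by simp only [δ, map_add]; abel
      map_smul' := fun c a => by
        have h1 : IsLocalRing.residue R (c • a) = c • IsLocalRing.residue R a :=
          (Ideal.Quotient.mkₐ k m).toLinearMap.map_smul c a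
        have h2 : Ideal.Quotient.mk (m ^ 2) (c • a) = c • Ideal.Quotient.mk (m ^ 2) a :=
          (Ideal.Quotient.mkₐ k (m ^ 2)).toLinearMap.map_smul c a
        simp only [δ, RingHom.id_apply, h1, h2, map_smul, smul_sub] }
    (fun a b => by
      have h := hsq _ _ (hδ a) (hδ b)
      show δ (a * b) = a • δ b + b • δ a
      simp only [Algebra.smul_def, Ideal.Quotient.algebraMap_eq, δ, map_mul] at h ⊢
      linear_combination (-1 : R ⧸ m ^ 2) * h)
  rw [injective_iff_map_eq_zero]
  intro z hz
  obtain ⟨⟨x, hx⟩, rfl⟩ := Ideal.toCotangent_surjective _ z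
  rw [KaehlerDifferential.kerCotangentToTensor_toCotangent] at hz
  have hxm : x ∈ m := hker ▸ hx
  -- `dx` lies in `m • Ω`
  have hdx : KaehlerDifferential.D k R x ∈ (m • ⊤ : Submodule R Ω[R⁄k]) := by
    have hz' : (Ideal.Quotient.mk m (1 : R)) ⊗ₜ[R] KaehlerDifferential.D k R x = 0 := by
      rw [map_one]
      exact hz
    have := congrArg (TensorProduct.quotTensorEquivQuotSMul Ω[R⁄k] m) hz'
    rw [TensorProduct.quotTensorEquivQuotSMul_mk_tmul, map_zero, one_smul] at this
    exact (Submodule.Quotient.mk_eq_zero _).1 this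
  have hmem : ∀ ω, D.liftKaehlerDifferential ω ∈
      RingHom.ker (π : (R ⧸ m ^ 2) →+* ResidueField R) := by
    intro ω
    have hω : ω ∈ Submodule.span R (Set.range (KaehlerDifferential.D k R)) := by
      rw [KaehlerDifferential.span_range_derivation]; trivial
    induction hω using Submodule.span_induction with
    | mem y hy =>
      obtain ⟨r, rfl⟩ := hy
      rw [Derivation.liftKaehlerDifferential_comp_D]
      exact hδ r
    | zero => simp
    | add a b _ _ ha hb => rw [map_add]; exact add_mem ha hb
    | smul r a _ ha =>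
      rw [map_smul, Algebra.smul_def]
      exact Ideal.mul_mem_left _ _ ha
  have hker0 : (m • ⊤ : Submodule R Ω[R⁄k]) ≤ LinearMap.ker D.liftKaehlerDifferential := by
    rw [Submodule.smul_le]
    intro r hr ω _
    rw [LinearMap.mem_ker, map_smul, Algebra.smul_def]
    exact hsq _ _ (by rw [Ideal.Quotient.algebraMap_eq, RingHom.mem_ker]
                      exact Ideal.Quotient.eq_zero_iff_mem.2 hr) (hmem ω)
  have h0 := LinearMap.mem_ker.1 (hker0 hdx)
  rw [Derivation.liftKaehlerDifferential_comp_D] at h0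
  have hx0 : IsLocalRing.residue R x = 0 := Ideal.Quotient.eq_zero_iff_mem.2 hxm
  have h0' : Ideal.Quotient.mk (m ^ 2) x = 0 := by
    have e : D x = δ x := rfl
    rw [e] at h0
    simpa [δ, hx0] using h0
  rw [Ideal.toCotangent_eq_zero]
  show x ∈ RingHom.ker (algebraMap R (ResidueField R)) ^ 2
  rw [hker]
  exact Ideal.Quotient.eq_zero_iff_mem.1 h0'

end Groth.Agent.S9415
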