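import Groth.Statements.S9416
import Mathlib.RingTheory.IntegralClosure.IntegrallyClosed
import Mathlib.FieldTheory.IntermediateField.Adjoin.Basic
import Mathlib.Algebra.CharP.Frobenius
import Mathlib.Algebra.CharP.Algebra
import Mathlib.Algebra.Field.ZMod
import Mathlib.Data.Nat.Prime.Factorial
import Mathlib.Data.Nat.Choose.Basic
import Mathlib.Tactic.LinearCombination

set_option autoImplicit false
universe u
open CAlg

namespace Groth.Agent.S9416

section

variable {R K : Type u} [CommRing R] [IsDomain R] [Field K] [Algebra R K] [IsFractionRing R K]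
variable (p : ℕ) [Fact p.Prime] [CharP K p] (D : Derivation ℤ K K) (a : K)

theorem D_pow_char (c : K) : D (c ^ p) = 0 := by
  rw [D.leibniz_pow, nsmul_eq_mul, CharP.cast_eq_zero, zero_mul]

/-- Iterated formal derivatives of `∑ cᵢ aⁱ` are in `R` after multiplying by powers of `D a`. -/
theorem mem_range_iter (hD : ∀ r : R, ∃ s : R, D (algebraMap R K r) = algebraMap R K s)
    (haR : a ∈ (algebraMap R K).range) (m : ℕ) (c : ℕ → K) (hc : ∀ i, D (c i) = 0)
    (hz : ∑ i ∈ Finset.range m, c i * a ^ i ∈ (algebraMap R K).range) :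
    ∀ j, D a ^ (2 * j) * ∑ i ∈ Finset.range m, c i * (i.descFactorial j : K) * a ^ (i - j) ∈
      (algebraMap R K).range := by
  have hDmem : ∀ z ∈ (algebraMap R K).range, D z ∈ (algebraMap R K).range := by
    rintro _ ⟨r, rfl⟩
    obtain ⟨s, hs⟩ := hD r
    exact ⟨s, hs.symm⟩
  intro j
  induction j with
  | zero => simpa using hz
  | succ j ih =>
    set w : ℕ → K := fun j => ∑ i ∈ Finset.range m, c i * (i.descFactorial j : K) * a ^ (i - j)
    have hw : D (w j) = w (j + 1) * D a := by
      simp only [w, map_sum, Finset.sum_mul]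
      refine Finset.sum_congr rfl fun i _ => ?_
      rw [D.leibniz, D.leibniz, D.map_natCast, hc, D.leibniz_pow, Nat.descFactorial_succ,
        show i - j - 1 = i - (j + 1) by omega]
      simp only [smul_zero, add_zero, nsmul_eq_mul, smul_eq_mul, Nat.cast_mul]
      ring
    have hDa : D a ∈ (algebraMap R K).range := hDmem a haR
    show D a ^ (2 * (j + 1)) * w (j + 1) ∈ (algebraMap R K).range
    have e : D a ^ (2 * (j + 1)) * w (j + 1) =
        D a * D (D a ^ (2 * j) * w j) - ((2 * j : ℕ) : K) * D (D a) * (D a ^ (2 * j) * w j) := by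
      rw [D.leibniz, D.leibniz_pow, hw]
      simp only [nsmul_eq_mul, smul_eq_mul]
      rcases Nat.eq_zero_or_pos j with rfl | hj
      · simp; ring
      · have : D a ^ (2 * j) = D a ^ (2 * j - 1) * D a := by
          rw [← pow_succ]; congr 1; omega
        rw [Nat.mul_succ, pow_add, this]; push_cast; ring
    rw [e]
    exact sub_mem (mul_mem hDa (hDmem _ ih))
      (mul_mem (mul_mem (natCast_mem _ _) (hDmem _ hDa)) ih)

end

/-- Multiplying by a power of `(D a)²` clears denominators of integral elements. -/
theorem clear_denominators {R : Type u} [CommRing R] [IsDomain R] [IsIntegrallyClosed R]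
    {K : Type u} [Field K] [Algebra R K] [IsFractionRing R K] (p : ℕ) [Fact p.Prime] [CharP K p]
    (D : Derivation ℤ K K) (hD : ∀ r : R, ∃ s : R, D (algebraMap R K r) = algebraMap R K s)
    {L : Type u} [Field L] [Algebra K L] [Algebra R L] [IsScalarTower R K L]
    (a₀ : R) (x : L) (hx : x ^ p = algebraMap R L a₀) (s : R)
    (hs : algebraMap R K s = D (algebraMap R K a₀) ^ 2) :
    ∀ m, m ≤ p → ∀ k : ℕ → K, IsIntegral R (∑ i ∈ Finset.range m, algebraMap K L (k i) * x ^ i) →
      algebraMap R L (s ^ m) * ∑ i ∈ Finset.range m, algebraMap K L (k i) * x ^ i ∈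
        Submodule.span R (Set.range fun i : Fin p => x ^ (i : ℕ)) := by
  have hp : p.Prime := Fact.out
  have : CharP L p := charP_of_injective_algebraMap (algebraMap K L).injective p
  intro m
  induction m with
  | zero => intro _ k _; simp
  | succ j ih =>
    intro hj k hint
    set y := ∑ i ∈ Finset.range (j + 1), algebraMap K L (k i) * x ^ i
    have hyp : y ^ p = algebraMap K L
        (∑ i ∈ Finset.range (j + 1), k i ^ p * algebraMap R K a₀ ^ i) := by
      rw [sum_pow_char, map_sum]
      refine Finset.sum_congr rfl fun i _ => ?_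
      rw [mul_pow, ← pow_mul, mul_comm i p, pow_mul, hx, map_mul, map_pow, map_pow,
        IsScalarTower.algebraMap_apply R K L]
    have hz : ∑ i ∈ Finset.range (j + 1), k i ^ p * algebraMap R K a₀ ^ i ∈
        (algebraMap R K).range := by
      have h1 : IsIntegral R (y ^ p) := hint.pow p
      rw [hyp, isIntegral_algebraMap_iff (algebraMap K L).injective] at h1
      exact IsIntegrallyClosed.isIntegral_iff.1 h1
    have h2 := mem_range_iter D (algebraMap R K a₀) hD ⟨a₀, rfl⟩ (j + 1) (fun i => k i ^ p)
      (fun i => D_pow_char p D (k i)) hz j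
    rw [Finset.sum_range_succ, Finset.sum_eq_zero (s := Finset.range j) fun i hi => by
        rw [Nat.descFactorial_eq_zero_iff_lt.2 (Finset.mem_range.1 hi)]; simp,
      zero_add, Nat.sub_self, pow_zero, mul_one, Nat.descFactorial_self, pow_mul, ← hs] at h2
    obtain ⟨r, hr⟩ := h2
    have hfac : ((j.factorial : ℕ) : ZMod p) ≠ 0 := by
      rw [Ne, ZMod.natCast_eq_zero_iff]
      exact fun h => by have := (Nat.Prime.dvd_factorial hp).1 h; omega
    obtain ⟨t, ht⟩ : ∃ t : ℕ, (t : K) * (j.factorial : K) = 1 := by
      refine ⟨((j.factorial : ZMod p)⁻¹).val, ?_⟩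
      have h := inv_mul_cancel₀ hfac
      have h' := congrArg (ZMod.castHom (dvd_refl p) K) h
      simpa [ZMod.natCast_val] using h'
    have hsk : algebraMap R K s * k j ∈ (algebraMap R K).range := by
      refine IsIntegrallyClosed.isIntegral_iff.1 (IsIntegral.of_pow hp.pos ?_)
      have e : (algebraMap R K s * k j) ^ p = algebraMap R K (s ^ (p - j) * (t : R) * r) := by
        rw [map_mul, map_mul, map_pow, map_natCast, hr, mul_pow,
          show algebraMap R K s ^ p = algebraMap R K s ^ (p - j) * algebraMap R K s ^ j by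
            rw [← pow_add]; congr 1; omega]
        linear_combination -(algebraMap R K s ^ (p - j) * algebraMap R K s ^ j * k j ^ p) * ht
      rw [e]; exact isIntegral_algebraMap
    obtain ⟨r', hr'⟩ := hsk
    have e2 : algebraMap R L s * y - algebraMap R L r' * x ^ j =
        ∑ i ∈ Finset.range j, algebraMap K L (algebraMap R K s * k i) * x ^ i := by
      simp only [y, IsScalarTower.algebraMap_apply R K L, hr', map_mul, Finset.sum_range_succ,
        mul_add, Finset.mul_sum, mul_assoc]
      abel
    have hint' : IsIntegral R (∑ i ∈ Finset.range j, algebraMap K L (algebraMap R K s * k i) * x ^ i) := by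
      rw [← e2]
      exact (isIntegral_algebraMap.mul hint).sub (isIntegral_algebraMap.mul
        ((IsIntegral.of_pow hp.pos (hx ▸ isIntegral_algebraMap)).pow j))
    have h3 := ih (by omega) _ hint'
    rw [← e2] at h3
    have e3 : algebraMap R L (s ^ (j + 1)) * y =
        algebraMap R L (s ^ j) * (algebraMap R L s * y - algebraMap R L r' * x ^ j) +
          (s ^ j * r') • x ^ j := by
      rw [Algebra.smul_def, map_mul, pow_succ, map_mul]; ring
    rw [e3]
    exact Submodule.add_mem _ h3 (Submodule.smul_mem _ _ (Submodule.subset_span ⟨⟨j, by omega⟩, rfl⟩))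

/-- Suppose R is a normal Noetherian domain whose field of fractions K has prime characteristic p > 0, D
a derivation of K preserving R, and a ∈ K with D(a) ≠ 0. For a field L generated over K by an
element x with x^p = a, the integral closure of R in L is module-finite over R. -/
theorem result (R : Type u) [CommRing R]
    [IsDomain R] [IsNoetherianRing R] [IsIntegrallyClosed R] (K : Type u) [Field K] [Algebra R K]
    [IsFractionRing R K] (p : ℕ) [Fact p.Prime] [CharP K p] (D : Derivation ℤ K K)
    (hD : ∀ r : R, ∃ s : R, D (algebraMap R K r) = algebraMap R K s) (a : K) (ha : D a ≠ 0)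
    (L : Type u) [Field L] [Algebra K L] [Algebra R L] [IsScalarTower R K L] (x : L)
    (hx : x ^ p = algebraMap K L a) (hgen : IntermediateField.adjoin K {x} = ⊤) :
    Module.Finite R (integralClosure R L) := by
  classical
  have hp : p.Prime := Fact.out
  obtain ⟨n₀, d₀, hd₀, rfl⟩ := IsFractionRing.div_surjective (A := R) a
  have hd : algebraMap R K d₀ ≠ 0 := IsFractionRing.to_map_ne_zero_of_mem_nonZeroDivisors hd₀
  set a₀ : R := n₀ * d₀ ^ (p - 1)
  set x' : L := algebraMap R L d₀ * x
  have hxa : algebraMap R K a₀ = algebraMap R K d₀ ^ p * (algebraMap R K n₀ / algebraMap R K d₀) := by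
    simp only [a₀, map_mul, map_pow]
    rw [show algebraMap R K d₀ ^ p = algebraMap R K d₀ ^ (p - 1) * algebraMap R K d₀ by
      rw [← pow_succ, Nat.sub_add_cancel hp.one_le]]
    field_simp
  have hx' : x' ^ p = algebraMap R L a₀ := by
    simp only [x', mul_pow, hx, IsScalarTower.algebraMap_apply R K L, hxa, map_mul, map_pow]
  have hDa : D (algebraMap R K a₀) ≠ 0 := by
    rw [hxa, D.leibniz, D_pow_char p D, smul_zero, add_zero, smul_eq_mul]
    exact mul_ne_zero (pow_ne_zero _ hd) ha
  obtain ⟨s₁, hs₁⟩ := hD a₀
  have hs : algebraMap R K (s₁ ^ 2) = D (algebraMap R K a₀) ^ 2 := by rw [map_pow, hs₁]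
  have hxint : IsIntegral K x := IsIntegral.of_pow hp.pos (hx ▸ isIntegral_algebraMap)
  have hspan : ∀ y : L, ∃ k : ℕ → K, y = ∑ i ∈ Finset.range p, algebraMap K L (k i) * x' ^ i := by
    intro y
    have hy : y ∈ Algebra.adjoin K {x} := by
      rw [← IntermediateField.adjoin_simple_toSubalgebra_of_isAlgebraic hxint.isAlgebraic, hgen]
      trivial
    rw [Algebra.adjoin_singleton_eq_range_aeval] at hy
    obtain ⟨P, rfl⟩ := hy
    set M : Polynomial K :=
      Polynomial.X ^ p - Polynomial.C (algebraMap R K n₀ / algebraMap R K d₀)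
    have hM : M.Monic := Polynomial.monic_X_pow_sub_C _ hp.ne_zero
    have hMd : M.natDegree = p := Polynomial.natDegree_X_pow_sub_C
    have hred : Polynomial.aeval x P = Polynomial.aeval x (P %ₘ M) := by
      conv_lhs => rw [← Polynomial.modByMonic_add_div P M]
      simp [M, hx]
    have hlt : (P %ₘ M).natDegree < p := hMd ▸ Polynomial.natDegree_modByMonic_lt P hM
      (fun h => by
        have h' := congrArg Polynomial.natDegree h
        rw [hMd, Polynomial.natDegree_one] at h'
        exact hp.ne_zero h')
    refine ⟨fun i => (P %ₘ M).coeff i / algebraMap R K d₀ ^ i, ?_⟩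
    show Polynomial.aeval x P = _
    rw [hred, Polynomial.aeval_eq_sum_range' hlt]
    refine Finset.sum_congr rfl fun i _ => ?_
    simp only [x', Algebra.smul_def, mul_pow, map_div₀, map_pow, IsScalarTower.algebraMap_apply R K L]
    have : algebraMap K L (algebraMap R K d₀) ≠ 0 := (map_ne_zero _).2 hd
    field_simp
  let N := Submodule.span R (Set.range fun i : Fin p => x' ^ (i : ℕ))
  have : Module.Finite R ↥N := Module.Finite.span_of_finite R (Set.finite_range _)
  let μ : integralClosure R L →ₗ[R] ↥N :=
    LinearMap.codRestrict N ((LinearMap.mulLeft R (algebraMap R L ((s₁ ^ 2) ^ p))).comp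
      (integralClosure R L).val.toLinearMap) fun y => by
      obtain ⟨k, hk⟩ := hspan (y : L)
      show algebraMap R L ((s₁ ^ 2) ^ p) * (y : L) ∈ N
      rw [hk]
      exact clear_denominators p D hD a₀ x' hx' (s₁ ^ 2) hs p le_rfl k (hk ▸ y.2)
  refine Module.Finite.of_injective μ fun y z h => Subtype.ext ?_
  have hne : algebraMap R L ((s₁ ^ 2) ^ p) ≠ 0 := by
    rw [IsScalarTower.algebraMap_apply R K L, map_pow _ (s₁ ^ 2), hs]
    exact (map_ne_zero _).2 (pow_ne_zero _ (pow_ne_zero _ hDa))
  exact mul_left_cancel₀ hne (congrArg Subtype.val h)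

end Groth.Agent.S9416
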