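import Groth.Statements.S9424
import Mathlib.RingTheory.Kaehler.Basic

set_option autoImplicit false
universe u
open CAlg

namespace Groth.Agent.S9424

/-- A directed colimit of formally unramified R-algebras is formally unramified over R. The colimit is
encoded by compatible R-algebra maps S_i → S which are jointly surjective and whose kernels die
further along the system. -/
theorem result {ι : Type u} [Preorder ι] [IsDirected ι (· ≤ ·)] [Nonempty ι]
    (R : Type u) [CommRing R] (G : ι → Type u) [∀ i, CommRing (G i)] [∀ i, Algebra R (G i)]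
    (f : ∀ i j, i ≤ j → (G i →ₐ[R] G j)) (S : Type u) [CommRing S] [Algebra R S]
    (g : ∀ i, G i →ₐ[R] S) (hg : ∀ i j (h : i ≤ j), (g j).comp (f i j h) = g i)
    (hsurj : ∀ s : S, ∃ i, ∃ x : G i, g i x = s)
    (hker : ∀ i (x : G i), g i x = 0 → ∃ j, ∃ h : i ≤ j, f i j h x = 0)
    (h : ∀ i, Algebra.FormallyUnramified R (G i)) : Algebra.FormallyUnramified R S := by
  refine ⟨subsingleton_of_forall_eq 0 fun w => ?_⟩
  have hw : w ∈ Submodule.span S (Set.range (KaehlerDifferential.D R S)) :=
    KaehlerDifferential.span_range_derivation R S ▸ Submodule.mem_top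
  induction hw using Submodule.span_induction with
  | mem x hx =>
    obtain ⟨s, rfl⟩ := hx
    obtain ⟨i, y, rfl⟩ := hsurj s
    let := (g i).toRingHom.toAlgebra
    have : IsScalarTower R (G i) S := IsScalarTower.of_algebraMap_eq fun r => ((g i).commutes r).symm
    have := h i
    rw [show g i y = algebraMap (G i) S y from rfl, ← KaehlerDifferential.map_D R R (G i) S,
      Subsingleton.elim (KaehlerDifferential.D R (G i) y) 0, map_zero]
  | zero => rfl
  | add a b _ _ ha hb => rw [ha, hb, add_zero]
  | smul a b _ hb => rw [hb, smul_zero]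

end Groth.Agent.S9424
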