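import Groth.Statements.S9425
import Mathlib.RingTheory.Kaehler.Basic
import Mathlib.RingTheory.Etale.Basic

set_option autoImplicit false
universe u
open CAlg

namespace Groth.Agent.S9425

/-- A directed colimit of formally étale R-algebras is formally étale over R. The colimit is encoded by
compatible R-algebra maps S_i → S which are jointly surjective and whose kernels die further along
the system. -/
theorem result {ι : Type u} [Preorder ι] [IsDirected ι (· ≤ ·)] [Nonempty ι]
    (R : Type u) [CommRing R] (G : ι → Type u) [∀ i, CommRing (G i)] [∀ i, Algebra R (G i)]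
    (f : ∀ i j, i ≤ j → (G i →ₐ[R] G j)) (S : Type u) [CommRing S] [Algebra R S]
    (g : ∀ i, G i →ₐ[R] S) (hg : ∀ i j (h : i ≤ j), (g j).comp (f i j h) = g i)
    (hsurj : ∀ s : S, ∃ i, ∃ x : G i, g i x = s)
    (hker : ∀ i (x : G i), g i x = 0 → ∃ j, ∃ h : i ≤ j, f i j h x = 0)
    (h : ∀ i, Algebra.FormallyEtale R (G i)) : Algebra.FormallyEtale R S := by
  classical
  have hfu : Algebra.FormallyUnramified R S := by
    refine ⟨subsingleton_of_forall_eq 0 fun w => ?_⟩
    have hw : w ∈ Submodule.span S (Set.range (KaehlerDifferential.D R S)) :=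
      KaehlerDifferential.span_range_derivation R S ▸ Submodule.mem_top
    induction hw using Submodule.span_induction with
    | mem x hx =>
      obtain ⟨s, rfl⟩ := hx
      obtain ⟨i, y, rfl⟩ := hsurj s
      let := (g i).toRingHom.toAlgebra
      have : IsScalarTower R (G i) S := IsScalarTower.of_algebraMap_eq fun r => ((g i).commutes r).symm
      have := h i
      rw [show g i y = algebraMap (G i) S y from rfl, ← KaehlerDifferential.map_D R R (G i) S,
        Subsingleton.elim (KaehlerDifferential.D R (G i) y) 0, map_zero]
    | zero => rfl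
    | add a b _ _ ha hb => rw [ha, hb, add_zero]
    | smul a b _ hb => rw [hb, smul_zero]
  refine Algebra.FormallyEtale.iff_comp_bijective.mpr fun B _ _ I hI => ⟨?_, fun φ => ?_⟩
  · intro a b hab
    exact Algebra.FormallyUnramified.comp_injective I hI hab
  · choose ψ hψ using fun i => (Algebra.FormallyEtale.comp_bijective R (G i) I hI).2 (φ.comp (g i))
    have hc : ∀ i j (hij : i ≤ j), (ψ j).comp (f i j hij) = ψ i := fun i j hij => by
      refine (Algebra.FormallyEtale.comp_bijective R (G i) I hI).1 ?_
      simp only [hψ i, ← AlgHom.comp_assoc, hψ j]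
      rw [AlgHom.comp_assoc, hg i j hij]
    have hwd : ∀ i j (x : G i) (y : G j), g i x = g j y → ψ i x = ψ j y := by
      intro i j x y hxy
      obtain ⟨k, hik, hjk⟩ := exists_ge_ge i j
      have h0 : g k (f i k hik x - f j k hjk y) = 0 := by
        rw [map_sub, ← AlgHom.comp_apply, ← AlgHom.comp_apply (g k) (f j k hjk), hg, hg, hxy, sub_self]
      obtain ⟨l, hkl, hl⟩ := hker k _ h0
      rw [map_sub, sub_eq_zero] at hl
      rw [← hc i k hik, ← hc j k hjk, AlgHom.comp_apply, AlgHom.comp_apply, ← hc k l hkl,
        AlgHom.comp_apply, AlgHom.comp_apply, hl]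
    choose i x hx using hsurj
    have key : ∀ j (y : G j), ψ (i (g j y)) (x (g j y)) = ψ j y := fun j y => hwd _ _ _ _ (hx _)
    let Φ : S →ₐ[R] B :=
      { toFun := fun s => ψ (i s) (x s)
        map_one' := by
          have := key (Classical.arbitrary ι) 1
          rwa [map_one, map_one] at this
        map_zero' := by
          have := key (Classical.arbitrary ι) 0
          rwa [map_zero, map_zero] at this
        map_mul' := fun a b => by
          obtain ⟨k, hak, hbk⟩ := exists_ge_ge (i a) (i b)
          have := key k (f (i a) k hak (x a) * f (i b) k hbk (x b))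
          rw [map_mul, map_mul, ← AlgHom.comp_apply, ← AlgHom.comp_apply (g k) (f (i b) k hbk), hg, hg,
            hx, hx, ← AlgHom.comp_apply (ψ k) (f (i a) k hak), ← AlgHom.comp_apply (ψ k) (f (i b) k hbk),
            hc, hc] at this
          exact this
        map_add' := fun a b => by
          obtain ⟨k, hak, hbk⟩ := exists_ge_ge (i a) (i b)
          have := key k (f (i a) k hak (x a) + f (i b) k hbk (x b))
          rw [map_add, map_add, ← AlgHom.comp_apply, ← AlgHom.comp_apply (g k) (f (i b) k hbk), hg, hg,
            hx, hx, ← AlgHom.comp_apply (ψ k) (f (i a) k hak), ← AlgHom.comp_apply (ψ k) (f (i b) k hbk),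
            hc, hc] at this
          exact this
        commutes' := fun r => by
          have := key (Classical.arbitrary ι) (algebraMap R _ r)
          rwa [AlgHom.commutes, AlgHom.commutes] at this }
    refine ⟨Φ, AlgHom.ext fun s => ?_⟩
    have := AlgHom.congr_fun (hψ (i s)) (x s)
    simp only [AlgHom.comp_apply] at this ⊢
    rw [hx] at this
    exact this

end Groth.Agent.S9425
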