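import Groth.Statements.S9427


set_option autoImplicit false
universe u
open OmegaSh

namespace Groth.Agent.S9427


open scoped TensorProduct
/-- A derivation on the base extends uniquely to a universal first order thickening. -/
theorem existsUnique_ext {A B B' : Type u} [CommRing A] [CommRing B] [CommRing B'] [Algebra A B]
    [Algebra A B'] {π : B' →ₐ[A] B} (h : OmegaSh.IsUnivThickeningRing A B B' π)
    {M : Type u} [AddCommGroup M] [Module B M] (e : A →+ M)
    (he : ∀ a a', e (a * a') = algebraMap A B a • e a' + algebraMap A B a' • e a) :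
    ∃! D : B' →+ M, (∀ x y, D (x * y) = π x • D y + π y • D x) ∧
      ∀ a, D (algebraMap A B' a) = e a := by
  letI : Module Bᵐᵒᵖ M := Module.compHom _ ((RingHom.id B).fromOpposite mul_comm)
  haveI : IsCentralScalar B M := ⟨fun _ _ => rfl⟩
  let ψ : A →+* TrivSqZeroExt B M :=
    { toFun := fun a => TrivSqZeroExt.inl (algebraMap A B a) + TrivSqZeroExt.inr (e a)
      map_one' := by
        have h1 := he 1 1
        rw [mul_one, (algebraMap A B).map_one, one_smul, left_eq_add] at h1
        ext <;> simp [h1]
      map_mul' := fun a a' => by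
        ext
        · simp
        · simp [he]
      map_zero' := by ext <;> simp
      map_add' := fun a a' => by ext <;> simp }
  letI : Algebra A (TrivSqZeroExt B M) := ψ.toAlgebra
  let fstH : TrivSqZeroExt B M →ₐ[A] B :=
    { toFun := TrivSqZeroExt.fst
      map_one' := rfl
      map_mul' := fun x y => TrivSqZeroExt.fst_mul x y
      map_zero' := rfl
      map_add' := fun x y => rfl
      commutes' := fun a => by
        change TrivSqZeroExt.fst (ψ a) = _
        simp [ψ] }
  have hI : RingHom.ker fstH.toRingHom ^ 2 = ⊥ := by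
    rw [pow_two, eq_bot_iff, Ideal.mul_le]
    intro x hx y hy
    have hx' : x.fst = 0 := hx
    have hy' : y.fst = 0 := hy
    rw [Ideal.mem_bot]
    ext <;> simp [hx', hy']
  let a : B →ₐ[A] TrivSqZeroExt B M ⧸ RingHom.ker fstH.toRingHom :=
    { toRingHom := (Ideal.Quotient.mk _).comp (TrivSqZeroExt.inlHom B M)
      commutes' := fun r => by
        refine (Ideal.Quotient.eq (I := RingHom.ker fstH.toRingHom)).2 ?_
        change TrivSqZeroExt.fst (_ - ψ r) = 0
        simp [ψ] }
  obtain ⟨L, hL, hLu⟩ := h.2.2 _ _ hI a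
  have hfst : ∀ x, (L x).fst = π x := fun x => by
    have h1 := Ideal.Quotient.eq.1 (AlgHom.congr_fun hL x :
      Ideal.Quotient.mk _ (L x) = Ideal.Quotient.mk _ (TrivSqZeroExt.inl (π x)))
    have h2 : TrivSqZeroExt.fst (L x - TrivSqZeroExt.inl (π x)) = 0 := h1
    simpa [sub_eq_zero] using h2
  refine ⟨⟨⟨fun x => (L x).snd, by simp⟩, fun x y => by simp⟩, ⟨fun x y => ?_, fun r => ?_⟩, ?_⟩
  · change (L (x * y)).snd = π x • (L y).snd + π y • (L x).snd
    rw [map_mul, TrivSqZeroExt.snd_mul, hfst, hfst]
    rfl
  · change (L (algebraMap A B' r)).snd = e r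
    rw [L.commutes]
    change (ψ r).snd = e r
    simp [ψ]
  · rintro D ⟨hD, hDe⟩
    have hD1 : D 1 = 0 := by
      have h1 := hD 1 1
      rw [mul_one, map_one π, one_smul, left_eq_add] at h1
      exact h1
    let L' : B' →ₐ[A] TrivSqZeroExt B M :=
      { toFun := fun x => TrivSqZeroExt.inl (π x) + TrivSqZeroExt.inr (D x)
        map_one' := by ext <;> simp [hD1]
        map_mul' := fun x y => by ext <;> simp [hD]
        map_zero' := by ext <;> simp
        map_add' := fun x y => by ext <;> simp
        commutes' := fun r => by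
          change _ = ψ r
          ext <;> simp [ψ, hDe] }
    have hL' : L' = L := hLu L' (by
      ext x
      refine Ideal.Quotient.eq.2 ?_
      change TrivSqZeroExt.fst (L' x - TrivSqZeroExt.inl (π x)) = 0
      simp [L'])
    ext x
    change D x = (L x).snd
    rw [← hL']
    simp [L']

/-- A universal first order thickening is formally unramified over the base. -/
theorem formallyUnramified {A B B' : Type u} [CommRing A] [CommRing B] [CommRing B'] [Algebra A B]
    [Algebra A B'] [Algebra B' B] [IsScalarTower A B' B]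
    (h : OmegaSh.IsUnivThickeningRing A B B' (IsScalarTower.toAlgHom A B' B)) :
    Algebra.FormallyUnramified A B' := by
  obtain ⟨J, hJ⟩ : ∃ J, J = RingHom.ker (algebraMap B' B) := ⟨_, rfl⟩
  have hq : ∀ ω : Ω[B'⁄A], (1 : B) ⊗ₜ[B'] ω = 0 := by
    intro ω
    let D : B' →+ B ⊗[B'] Ω[B'⁄A] :=
      ⟨⟨fun x => (1 : B) ⊗ₜ[B'] KaehlerDifferential.D A B' x, by simp⟩,
        fun x y => by simp [TensorProduct.tmul_add]⟩
    have hmul : ∀ x y, D (x * y) = IsScalarTower.toAlgHom A B' B x • D y +
        IsScalarTower.toAlgHom A B' B y • D x := fun x y => by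
      change (1 : B) ⊗ₜ[B'] KaehlerDifferential.D A B' (x * y) = algebraMap B' B x • (_ ⊗ₜ _) +
        algebraMap B' B y • (_ ⊗ₜ _)
      rw [Derivation.leibniz, TensorProduct.tmul_add, TensorProduct.tmul_smul,
        TensorProduct.tmul_smul, algebraMap_smul, algebraMap_smul]
    obtain ⟨D0, -, hu⟩ := existsUnique_ext h (0 : A →+ B ⊗[B'] Ω[B'⁄A]) (by simp)
    have hz : D = 0 := (hu D ⟨hmul, fun r => by simp [D]⟩).trans
      (hu 0 ⟨by simp, by simp⟩).symm
    have hsp : ω ∈ Submodule.span B' (Set.range (KaehlerDifferential.D A B')) := by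
      rw [KaehlerDifferential.span_range_derivation]; exact Submodule.mem_top
    induction hsp using Submodule.span_induction with
    | mem v hv => obtain ⟨x, rfl⟩ := hv; exact DFunLike.congr_fun hz x
    | zero => simp
    | add v w _ _ hv hw => simp [TensorProduct.tmul_add, hv, hw]
    | smul r v _ hv => rw [TensorProduct.tmul_smul, hv, smul_zero]
  have hJtop : (J • ⊤ : Submodule B' Ω[B'⁄A]) = ⊤ := by
    refine eq_top_iff.2 fun ω _ => ?_
    have h1 : (1 : B' ⧸ J) ⊗ₜ[B'] ω = 0 := by
      subst hJ
      let e : B ≃ₐ[B'] B' ⧸ RingHom.ker (algebraMap B' B) :=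
        (Ideal.quotientKerAlgEquivOfSurjective (f := Algebra.ofId B' B) h.1).symm
      have he1 : e 1 = 1 := map_one e
      have := congrArg (LinearMap.rTensor Ω[B'⁄A] e.toLinearMap) (hq ω)
      simpa [he1] using this
    have h2 := congrArg (TensorProduct.quotTensorEquivQuotSMul Ω[B'⁄A] J) h1
    rw [map_zero, ← map_one (Ideal.Quotient.mk J),
      TensorProduct.quotTensorEquivQuotSMul_mk_tmul, one_smul] at h2
    exact (Submodule.Quotient.mk_eq_zero _).1 h2
  have hJ2 : J * J = ⊥ := by
    rw [← pow_two, hJ]
    exact h.2.1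
  refine ⟨subsingleton_of_forall_eq 0 fun ω => ?_⟩
  have h3 : (⊤ : Submodule B' Ω[B'⁄A]) = ⊥ := by
    calc (⊤ : Submodule B' Ω[B'⁄A]) = J • (J • ⊤) := by rw [hJtop, hJtop]
      _ = ⊥ := by rw [← Submodule.smul_assoc, smul_eq_mul, hJ2, Submodule.bot_smul]
  exact (Submodule.eq_bot_iff _).1 h3 ω Submodule.mem_top


/-- Let R → A → B be ring maps with A → B formally unramified, and let B' → B be a universal first order
thickening of B relative to A (B a B'-algebra through it). Then A → B' is formally unramified, and
base changing to B the natural B'-linear map B' ⊗_A Ω_{A/R} → Ω_{B'/R} gives a bijection B ⊗_{B'}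
(B' ⊗_A Ω_{A/R}) → B ⊗_{B'} Ω_{B'/R}. -/
theorem result
    (R : Type u) [CommRing R] (A : Type u) [CommRing A] [Algebra R A] (B : Type u) [CommRing B]
    [Algebra A B] [Algebra.FormallyUnramified A B] (B' : Type u) [CommRing B'] [Algebra A B']
    [Algebra R B'] [IsScalarTower R A B'] [Algebra B' B] [IsScalarTower A B' B]
    (h : OmegaSh.IsUnivThickeningRing A B B' (IsScalarTower.toAlgHom A B' B)) :
    Algebra.FormallyUnramified A B' ∧
      Function.Bijective ((KaehlerDifferential.mapBaseChange R A B').baseChange B) := by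
  haveI hU : Algebra.FormallyUnramified A B' := formallyUnramified h
  refine ⟨hU, ?_, ?_⟩
  swap
  · have hs : Function.Surjective (KaehlerDifferential.mapBaseChange R A B') := fun y =>
      (KaehlerDifferential.exact_mapBaseChange_map R A B' y).1 (Subsingleton.elim _ _)
    exact LinearMap.lTensor_surjective B hs
  let e : A →+ B ⊗[B'] (B' ⊗[A] Ω[A⁄R]) :=
    ⟨⟨fun a => (1 : B) ⊗ₜ[B'] ((1 : B') ⊗ₜ[A] KaehlerDifferential.D R A a), by simp⟩,
      fun a a' => by simp [TensorProduct.tmul_add]⟩
  have he : ∀ a a', e (a * a') = algebraMap A B a • e a' + algebraMap A B a' • e a := fun a a' => by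
    change (1 : B) ⊗ₜ[B'] ((1 : B') ⊗ₜ[A] KaehlerDifferential.D R A (a * a')) =
      algebraMap A B a • (_ ⊗ₜ _) + algebraMap A B a' • (_ ⊗ₜ _)
    have key : ∀ (a : A) (v : Ω[A⁄R]), (1 : B) ⊗ₜ[B'] ((1 : B') ⊗ₜ[A] (a • v)) =
        algebraMap A B a • ((1 : B) ⊗ₜ[B'] ((1 : B') ⊗ₜ[A] v)) := fun a v => by
      rw [TensorProduct.tmul_smul, ← algebraMap_smul B' a ((1 : B') ⊗ₜ[A] v),
        TensorProduct.tmul_smul, IsScalarTower.algebraMap_apply A B' B, algebraMap_smul B (algebraMap A B' a)]
    rw [Derivation.leibniz, TensorProduct.tmul_add, TensorProduct.tmul_add, key, key]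
  obtain ⟨D, ⟨hmul, hDe⟩, -⟩ := existsUnique_ext h e he
  have hDA : ∀ r : R, D (algebraMap R B' r) = 0 := fun r => by
    rw [IsScalarTower.algebraMap_apply R A B', hDe]
    simp [e]
  have hmul' : ∀ x y, D (x * y) = x • D y + y • D x := fun x y => by
    rw [hmul, IsScalarTower.coe_toAlgHom', algebraMap_smul, algebraMap_smul]
  letI : Module R (B ⊗[B'] (B' ⊗[A] Ω[A⁄R])) := Module.compHom _ (algebraMap R B')
  haveI : IsScalarTower R B' (B ⊗[B'] (B' ⊗[A] Ω[A⁄R])) :=
    IsScalarTower.of_algebraMap_smul fun r m => rfl
  let δ : Derivation R B' (B ⊗[B'] (B' ⊗[A] Ω[A⁄R])) := Derivation.mk'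
    { toFun := D
      map_add' := map_add D
      map_smul' := fun r x => by
        rw [Algebra.smul_def, hmul', hDA, smul_zero, add_zero, algebraMap_smul]
        rfl }
    hmul'
  have key : ∀ t, (δ.liftKaehlerDifferential.liftBaseChange B)
      ((KaehlerDifferential.mapBaseChange R A B').baseChange B t) = t := fun t => by
    induction t using TensorProduct.induction_on with
    | zero => simp
    | add t s ht hs => rw [map_add, map_add, ht, hs]
    | tmul b m =>
      induction m using TensorProduct.induction_on with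
      | zero => simp
      | add m n hm hn => rw [TensorProduct.tmul_add, map_add, map_add, hm, hn]
      | tmul c ω =>
        have hsp : ω ∈ Submodule.span A (Set.range (KaehlerDifferential.D R A)) := by
          rw [KaehlerDifferential.span_range_derivation]; exact Submodule.mem_top
        induction hsp using Submodule.span_induction generalizing c with
        | mem v hv =>
          obtain ⟨a, rfl⟩ := hv
          rw [LinearMap.baseChange_tmul, KaehlerDifferential.mapBaseChange_tmul,
            LinearMap.liftBaseChange_tmul, map_smul, KaehlerDifferential.map_D,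
            Derivation.liftKaehlerDifferential_comp_D]
          change b • c • D (algebraMap A B' a) = _
          rw [hDe]
          simp [e, TensorProduct.smul_tmul']
          rw [TensorProduct.smul_tmul, TensorProduct.smul_tmul', smul_eq_mul, mul_one]
        | zero => simp
        | add v w _ _ hv hw =>
          rw [TensorProduct.tmul_add, TensorProduct.tmul_add, map_add, map_add, hv, hw]
        | smul a v _ hv => rw [← TensorProduct.smul_tmul]; exact hv _
  exact Function.LeftInverse.injective key

end Groth.Agent.S9427
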