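import Groth.Statements.S9430
import Groth.Agent.Lib.Synt92.FieldUnion

set_option autoImplicit false
universe u
open Synt

namespace Groth.Agent.S9430

/-- For a field extension K/k, every finite subset of K lies in a k-subalgebra of K which is a global
complete intersection over k; so K is the directed union of its k-subalgebras that are global
complete intersections over k. -/
theorem result (k : Type u) [Field k] (K : Type u)
    [Field K] [Algebra k K] (E : Finset K) :
    ∃ A : Subalgebra k K, (↑E : Set K) ⊆ (A : Set K) ∧ Synt.IsGlobalCI k A := by
  exact Groth.Agent.Lib.Synt92.FieldUnion.exists_isGlobalCI E

end Groth.Agent.S9430
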