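import Groth.Statements.S9433
import Groth.Agent.Lib.Henselian.Roots
import Mathlib.RingTheory.Unramified.LocalStructure
import Mathlib.RingTheory.Etale.StandardEtale

set_option autoImplicit false
universe u
open CAlg

namespace Groth.Agent.S9433

/-- Let R → S be a local homomorphism of local rings with S the localization of an étale R-algebra at a
prime, inducing an isomorphism of residue fields. Then for some t in the maximal ideal of R the maps
R/t^nR → S/t^nS are bijective for all n ≥ 1. -/
theorem result (R : Type u) [CommRing R] [IsLocalRing R] (T : Type u) [CommRing T] [Algebra R T]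
    [Algebra.Etale R T] (q : Ideal T) [q.IsPrime] (S : Type u) [CommRing S] [IsLocalRing S]
    [Algebra T S] [IsLocalization.AtPrime S q] [Algebra R S] [IsScalarTower R T S]
    [IsLocalHom (algebraMap R S)]
    (hres : Function.Bijective (IsLocalRing.ResidueField.map (algebraMap R S))) :
    ∃ t ∈ IsLocalRing.maximalIdeal R, ∀ n : ℕ, 1 ≤ n →
      Function.Bijective (Ideal.quotientMap ((Ideal.span {t ^ n}).map (algebraMap R S))
        (algebraMap R S) Ideal.le_comap_map) := by
  classical
  obtain ⟨g, hg, hstd⟩ := Algebra.IsEtaleAt.exists_isStandardEtale (R := R) q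
  obtain ⟨P⟩ := hstd.nonempty_standardEtalePresentation
  have hgu : IsUnit (algebraMap T S g) := IsLocalization.map_units S (⟨g, hg⟩ : q.primeCompl)
  let ι : Localization.Away g →ₐ[R] S :=
    IsLocalization.Away.liftAlgHom (S := Localization.Away g) g (f := IsScalarTower.toAlgHom R T S) hgu
  have hι : ∀ x, ι (algebraMap T (Localization.Away g) x) = algebraMap T S x := fun x => by
    simp [ι, IsLocalization.Away.liftAlgHom]
  have hxS : P.HasMap (ι P.x) := P.hasMap.map ι
  set x := ι P.x with hx
  let kS := IsLocalRing.ResidueField S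
  let κ : S →+* kS := IsLocalRing.residue S
  obtain ⟨abar, habar⟩ := hres.2 (κ x)
  obtain ⟨a, rfl⟩ := IsLocalRing.residue_surjective abar
  have hak : κ (algebraMap R S a) = κ x := by rw [← habar]; rfl
  have hev : ∀ p : Polynomial R, κ (algebraMap R S (p.eval a)) = κ (Polynomial.aeval x p) := fun p => by
    rw [← Polynomial.coe_aeval_eq_eval, ← Polynomial.aeval_algebraMap_apply, Polynomial.aeval_def,
      Polynomial.aeval_def, Polynomial.hom_eval₂, Polynomial.hom_eval₂, hak]
  have hunit : ∀ p : Polynomial R, IsUnit (Polynomial.aeval x p) → IsUnit (p.eval a) := fun p hp => by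
    by_contra h
    have h1 : algebraMap R S (p.eval a) ∈ IsLocalRing.maximalIdeal S :=
      map_nonunit (algebraMap R S) _ h
    rw [← IsLocalRing.residue_eq_zero_iff] at h1
    rw [show IsLocalRing.residue S (algebraMap R S (p.eval a)) = κ (Polynomial.aeval x p) from hev p] at h1
    exact ((IsLocalRing.residue_eq_zero_iff _).1 h1) hp
  set t := P.f.eval a with ht
  have htm : t ∈ IsLocalRing.maximalIdeal R := by
    intro hu
    have h1 : IsUnit (κ (algebraMap R S t)) := (hu.map (algebraMap R S)).map κ
    rw [ht, hev, hxS.1, map_zero] at h1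
    exact not_isUnit_zero h1
  have hfa : IsUnit (P.f.derivative.eval a) := hunit _ hxS.isUnit_derivative_f
  have hga : IsUnit (P.g.eval a) := hunit _ hxS.2
  refine ⟨t, htm, fun n hn => ?_⟩
  -- surjectivity modulo t
  let St := S ⧸ Ideal.span {algebraMap R S t}
  let A1 := R ⧸ Ideal.span {t}
  have hmap1 : P.HasMap (Ideal.Quotient.mk (Ideal.span {t}) a : A1) := by
    refine ⟨?_, ?_⟩
    · rw [← Ideal.Quotient.algebraMap_eq, Polynomial.aeval_algebraMap_apply, Polynomial.coe_aeval_eq_eval,
        Ideal.Quotient.algebraMap_eq, Ideal.Quotient.eq_zero_iff_mem, ← ht]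
      exact Ideal.mem_span_singleton_self t
    · rw [← Ideal.Quotient.algebraMap_eq, Polynomial.aeval_algebraMap_apply, Polynomial.coe_aeval_eq_eval]
      exact hga.map _
  have hxa : Ideal.Quotient.mk (Ideal.span {algebraMap R S t}) x =
      Ideal.Quotient.mk _ (algebraMap R S a) := by
    rw [Ideal.Quotient.eq]
    set F := P.f.map (algebraMap R S) with hF
    obtain ⟨c, hc⟩ := Polynomial.sub_dvd_eval_sub (algebraMap R S a) x F
    have h0 : F.eval x = 0 := by rw [hF, Polynomial.eval_map_algebraMap, hxS.1]
    have h1 : F.eval (algebraMap R S a) = algebraMap R S t := by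
      rw [hF, Polynomial.eval_map_algebraMap, Polynomial.aeval_algebraMap_apply,
        Polynomial.coe_aeval_eq_eval]
    obtain ⟨d, hd⟩ := Polynomial.binomExpansion F x (algebraMap R S a - x)
    rw [add_sub_cancel, h0, zero_add, h1] at hd
    have hu : IsUnit (F.derivative.eval x + d * (algebraMap R S a - x)) := by
      by_contra hh
      have hh' : κ (F.derivative.eval x + d * (algebraMap R S a - x)) = 0 :=
        (IsLocalRing.residue_eq_zero_iff _).2 hh
      rw [map_add, map_mul, map_sub, hak, sub_self, mul_zero, add_zero] at hh'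
      have hder : IsUnit (F.derivative.eval x) := by
        rw [hF, Polynomial.derivative_map, Polynomial.eval_map_algebraMap]
        exact hxS.isUnit_derivative_f
      exact ((IsLocalRing.residue_eq_zero_iff _).1 hh') hder
    obtain ⟨v, hv⟩ := hu
    refine Ideal.mem_span_singleton'.2 ⟨-(↑v⁻¹), ?_⟩
    calc -↑v⁻¹ * algebraMap R S t = -↑v⁻¹ * ((↑v) * (algebraMap R S a - x)) := by rw [hd, hv]; ring
      _ = x - algebraMap R S a := by rw [← mul_assoc, neg_mul, Units.inv_mul]; ring
  let j1 : A1 →ₐ[R] St := Ideal.Quotient.liftₐ _ (Algebra.ofId R St) fun r hr => by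
    obtain ⟨c, rfl⟩ := Ideal.mem_span_singleton'.1 hr
    change Ideal.Quotient.mk _ (algebraMap R S (c * t)) = 0
    rw [map_mul, Ideal.Quotient.eq_zero_iff_mem]
    exact Ideal.mul_mem_left _ _ (Ideal.mem_span_singleton_self _)
  have hfact : (Ideal.Quotient.mkₐ R (Ideal.span {algebraMap R S t})).comp ι =
      (j1.comp (P.lift _ hmap1)).comp P.equivRing.toAlgHom := by
    refine P.hom_ext ?_
    simp only [AlgHom.comp_apply, AlgHom.coe_coe, AlgEquiv.coe_toAlgHom, P.equivRing_x, StandardEtalePair.lift_X]
    exact hxa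
  have hsurj1 : ∀ z : S, ∃ r : R, z - algebraMap R S r ∈ Ideal.span {algebraMap R S t} := by
    have hT : ∀ y : T, ∃ r : R, algebraMap T S y - algebraMap R S r ∈ Ideal.span {algebraMap R S t} := by
      intro y
      obtain ⟨r, hr⟩ := Ideal.Quotient.mk_surjective
        (P.lift _ hmap1 (P.equivRing (algebraMap T (Localization.Away g) y)))
      refine ⟨r, ?_⟩
      rw [← Ideal.Quotient.eq, ← hι]
      exact (AlgHom.congr_fun hfact _).trans (congrArg j1 hr).symm
    intro z
    obtain ⟨y, s, rfl⟩ := IsLocalization.exists_mk'_eq q.primeCompl z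
    obtain ⟨r₁, hr₁⟩ := hT y
    obtain ⟨r₂, hr₂⟩ := hT s
    have hr₂u : IsUnit r₂ := by
      by_contra h
      have hsu : IsUnit (algebraMap T S s) := IsLocalization.map_units S s
      have hle : Ideal.span {algebraMap R S t} ≤ IsLocalRing.maximalIdeal S := by
        rw [Ideal.span_le, Set.singleton_subset_iff]
        exact map_nonunit (algebraMap R S) _ htm
      have hm := Ideal.add_mem _ (hle hr₂) (map_nonunit (algebraMap R S) _ h)
      rw [sub_add_cancel] at hm
      exact hm hsu
    obtain ⟨v, rfl⟩ := hr₂u
    refine ⟨r₁ * ↑v⁻¹, ?_⟩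
    have hid : IsLocalization.mk' S y s - algebraMap R S (r₁ * ↑v⁻¹) =
        algebraMap R S ↑v⁻¹ * (algebraMap T S y - algebraMap R S r₁ -
          IsLocalization.mk' S y s * (algebraMap T S s - algebraMap R S ↑v)) := by
      have e1 : algebraMap R S ↑v⁻¹ * algebraMap R S ↑v = 1 := by rw [← map_mul, Units.inv_mul, map_one]
      rw [map_mul]
      linear_combination (algebraMap R S ↑v⁻¹) * (IsLocalization.mk'_spec S y s) -
        (IsLocalization.mk' S y s) * e1
    rw [hid]
    exact Ideal.mul_mem_left _ _ (Ideal.sub_mem _ hr₁ (Ideal.mul_mem_left _ _ hr₂))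
  have hsurj : ∀ (k : ℕ) (z : S), ∃ r : R, ∃ w : S, z = algebraMap R S r + algebraMap R S (t ^ k) * w := by
    intro k
    induction k with
    | zero => exact fun z => ⟨0, z, by simp⟩
    | succ k ih =>
      intro z
      obtain ⟨r, w, hw⟩ := ih z
      obtain ⟨r', hr'⟩ := hsurj1 w
      obtain ⟨c, hc⟩ := Ideal.mem_span_singleton'.1 hr'
      refine ⟨r + t ^ k * r', c, ?_⟩
      rw [hw, eq_add_of_sub_eq hc.symm]
      simp only [map_add, map_mul, map_pow]
      ring
  refine ⟨?_, fun z => ?_⟩
  · -- injectivity
    let An := R ⧸ Ideal.span {t ^ n}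
    let I : Ideal An := Ideal.span {Ideal.Quotient.mk _ t}
    haveI : HenselianRing An I := Lib.Henselian.Basic.henselianRing_of_nil fun w hw => by
      obtain ⟨c, rfl⟩ := Ideal.mem_span_singleton'.1 hw
      refine ⟨n, ?_⟩
      rw [mul_pow, ← map_pow,
        Ideal.Quotient.eq_zero_iff_mem.2 (Ideal.mem_span_singleton_self (t ^ n)), mul_zero]
    have hmk : ∀ p : Polynomial R, (p.map (algebraMap R An)).eval (algebraMap R An a) = algebraMap R An (p.eval a) :=
      fun p => Polynomial.eval_map_apply ..
    obtain ⟨a', ha', haa⟩ := Lib.Henselian.Roots.exists_root_lift I (P.f.map (algebraMap R An))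
      (a₀ := algebraMap R An a) (by rw [hmk]; exact Ideal.mem_span_singleton_self _)
      (by rw [Polynomial.derivative_map, hmk]; exact (hfa.map _).map _)
    haveI : Nontrivial An := Ideal.Quotient.nontrivial_iff.2 fun h => by
      rw [Ideal.span_singleton_eq_top, isUnit_pow_iff (by omega)] at h
      exact htm h
    haveI : IsLocalRing An := IsLocalRing.of_surjective' (Ideal.Quotient.mk _) Ideal.Quotient.mk_surjective
    have hle : Ideal.span {t ^ n} ≤ IsLocalRing.maximalIdeal R := by
      rw [Ideal.span_le, Set.singleton_subset_iff]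
      exact Ideal.pow_mem_of_mem _ htm _ (by omega)
    let τ : An →ₐ[R] kS := Ideal.Quotient.liftₐ _ (Algebra.ofId R kS) fun r hr =>
      (IsLocalRing.residue_eq_zero_iff _).2 (map_nonunit (algebraMap R S) r (hle hr))
    haveI : IsLocalHom τ.toRingHom := ⟨fun w hw => by
      obtain ⟨r, rfl⟩ := Ideal.Quotient.mk_surjective w
      have hr : IsUnit r := by
        by_contra h
        have : τ (Ideal.Quotient.mk _ r) = 0 :=
          (IsLocalRing.residue_eq_zero_iff _).2 (map_nonunit (algebraMap R S) r h)
        exact hw.ne_zero this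
      exact hr.map _⟩
    have hτa : τ a' = κ x := by
      have h1 : τ a' - τ (algebraMap R An a) = 0 := by
        rw [← map_sub]
        obtain ⟨c, hc⟩ := Ideal.mem_span_singleton'.1 haa
        rw [← hc, map_mul]
        exact mul_eq_zero_of_right _
          ((IsLocalRing.residue_eq_zero_iff _).2 (map_nonunit (algebraMap R S) t htm))
      rw [sub_eq_zero] at h1
      rw [h1]
      exact hak
    have hmapn : P.HasMap a' := by
      refine ⟨by rw [← Polynomial.eval_map_algebraMap]; exact ha', ?_⟩
      refine isUnit_of_map_unit τ.toRingHom _ ?_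
      change IsUnit (τ (Polynomial.aeval a' P.g))
      rw [← Polynomial.aeval_algHom_apply, hτa]
      have h := hxS.2.map κ
      rwa [Polynomial.aeval_def, Polynomial.hom_eval₂] at h
    let ψ : Localization.Away g →ₐ[R] An := (P.lift a' hmapn).comp P.equivRing.toAlgHom
    let ψT : T →+* An := ψ.toRingHom.comp (algebraMap T (Localization.Away g))
    have hτψ : τ.comp ψ = ((Algebra.ofId S kS).restrictScalars R).comp ι := by
      refine P.hom_ext ?_
      simp only [ψ, AlgHom.comp_apply, AlgHom.coe_coe, AlgEquiv.coe_toAlgHom, P.equivRing_x,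
        StandardEtalePair.lift_X, hτa]
      rfl
    have hu : ∀ s : q.primeCompl, IsUnit (ψT s) := fun s => by
      refine isUnit_of_map_unit τ.toRingHom _ ?_
      change IsUnit (τ (ψ (algebraMap T (Localization.Away g) s)))
      rw [← AlgHom.comp_apply, hτψ]
      exact (show IsUnit (ι (algebraMap T (Localization.Away g) s)) by
        rw [hι]; exact IsLocalization.map_units S s).map (algebraMap S kS)
    let π : S →+* An := IsLocalization.lift hu
    have hπ : ∀ r, π (algebraMap R S r) = algebraMap R An r := fun r => by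
      rw [IsScalarTower.algebraMap_apply R T S, IsLocalization.lift_eq]
      change ψ (algebraMap T (Localization.Away g) (algebraMap R T r)) = _
      rw [← IsScalarTower.algebraMap_apply, ψ.commutes]
    refine Ideal.quotientMap_injective' fun r hr => ?_
    rw [Ideal.mem_comap, Ideal.map_span, Set.image_singleton] at hr
    obtain ⟨c, hc⟩ := Ideal.mem_span_singleton'.1 hr
    have := congrArg π hc
    rw [map_mul, hπ, hπ, Ideal.Quotient.algebraMap_eq,
      Ideal.Quotient.eq_zero_iff_mem.2 (Ideal.mem_span_singleton_self (t ^ n)), mul_zero] at this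
    exact Ideal.Quotient.eq_zero_iff_mem.1 this.symm
  · obtain ⟨z, rfl⟩ := Ideal.Quotient.mk_surjective z
    obtain ⟨r, w, hw⟩ := hsurj n z
    refine ⟨Ideal.Quotient.mk _ r, ?_⟩
    rw [Ideal.quotientMap_mk, Ideal.Quotient.eq, hw, sub_add_cancel_left]
    exact Ideal.neg_mem_iff _ |>.2 (Ideal.mul_mem_right _ _
      (Ideal.mem_map_of_mem _ (Ideal.mem_span_singleton_self _)))

end Groth.Agent.S9433
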