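import Groth.Statements.S9434
import Mathlib.RingTheory.Unramified.LocalStructure
import Mathlib.RingTheory.AdjoinRoot
import Mathlib.RingTheory.Flat.FaithfullyFlat.Basic
import Mathlib.RingTheory.Finiteness.ModuleFinitePresentation
import Mathlib.FieldTheory.IsAlgClosed.AlgebraicClosure
import Mathlib.RingTheory.LocalRing.ResidueField.Ideal
import Mathlib.RingTheory.FinitePresentation

set_option autoImplicit false
universe u
open CAlg

namespace Groth.Agent.S9434

open Polynomial

theorem exists_splitting : ∀ (d : ℕ) (A : Type u) [CommRing A] [Nontrivial A] (f : A[X]), f.Monic → f.natDegree = d →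
    ∃ (B : Type u) (_ : CommRing B) (_ : Algebra A B) (_ : Module.Finite A B) (_ : Module.Free A B)
      (_ : Nontrivial B) (r : Fin d → B), f.map (algebraMap A B) = ∏ i, (X - C (r i)) := by
  intro d
  induction d with
  | zero =>
    intro A _ _ f hf hd
    exact ⟨A, inferInstance, Algebra.id A, inferInstance, inferInstance, inferInstance, Fin.elim0,
      by rw [hf.natDegree_eq_zero.mp hd]; simp⟩
  | succ d ih =>
    intro A _ _ f hf hd
    let A₁ := AdjoinRoot f
    haveI : Module.Free A A₁ := hf.free_adjoinRoot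
    haveI : Module.Finite A A₁ := hf.finite_adjoinRoot
    haveI : Nontrivial A₁ := Ideal.Quotient.nontrivial_iff.mpr fun h => by
      have h1 : IsUnit f := Ideal.span_singleton_eq_top.mp h
      rw [hf.eq_one_of_isUnit h1, natDegree_one] at hd
      omega
    have hroot : (f.map (algebraMap A A₁)).IsRoot (AdjoinRoot.root f) := by
      rw [IsRoot, eval_map, AdjoinRoot.algebraMap_eq]
      exact AdjoinRoot.eval₂_root f
    obtain ⟨f₁, hf₁⟩ := dvd_iff_isRoot.mpr hroot
    have hm₁ : f₁.Monic := (monic_X_sub_C _).of_mul_monic_left (hf₁ ▸ hf.map _)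
    have hd₁ : f₁.natDegree = d := by
      have h1 := congrArg natDegree hf₁
      rw [(monic_X_sub_C _).natDegree_mul hm₁, natDegree_X_sub_C, hf.natDegree_map, hd] at h1
      omega
    obtain ⟨B, _, _, _, _, _, r, hr⟩ := ih A₁ f₁ hm₁ hd₁
    letI : Algebra A B := ((algebraMap A₁ B).comp (algebraMap A A₁)).toAlgebra
    haveI : IsScalarTower A A₁ B := .of_algebraMap_eq fun _ => rfl
    refine ⟨B, inferInstance, inferInstance, Module.Finite.trans A₁ B, Module.Free.trans (R := A) (S := A₁) (M := B),
      inferInstance, Fin.cons (algebraMap A₁ B (AdjoinRoot.root f)) r, ?_⟩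
    rw [IsScalarTower.algebraMap_eq A A₁ B, ← Polynomial.map_map, hf₁, Polynomial.map_mul,
      Polynomial.map_sub, map_X, map_C, hr, Fin.prod_univ_succ]
    simp

/-- Let R → S be a local homomorphism of local rings with S the localization of an étale R-algebra at a
prime. Then there is a finite, finitely presented, faithfully flat R-algebra S' such that for every
maximal ideal m' of S' the structure map R → S'_{m'} factors through some R-algebra map S → S'_{m'}. -/
theorem result (R : Type u) [CommRing R] [IsLocalRing R] (T : Type u) [CommRing T] [Algebra R T]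
    [Algebra.Etale R T] (q : Ideal T) [q.IsPrime] (S : Type u) [CommRing S] [IsLocalRing S]
    [Algebra T S] [IsLocalization.AtPrime S q] [Algebra R S] [IsScalarTower R T S]
    [IsLocalHom (algebraMap R S)] :
    ∃ (S' : Type u) (_ : CommRing S') (_ : Algebra R S'),
      Module.Finite R S' ∧ Algebra.FinitePresentation R S' ∧ Module.FaithfullyFlat R S' ∧
        ∀ (m' : Ideal S') [m'.IsMaximal], Nonempty (S →ₐ[R] Localization.AtPrime m') := by
  classical
  obtain ⟨a, ha, hstd⟩ := Algebra.IsEtaleAt.exists_isStandardEtale (R := R) q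
  let Ta := Localization.Away a
  let pr : StandardEtalePresentation R Ta := hstd.nonempty_standardEtalePresentation.some
  haveI : Nontrivial R := inferInstance
  obtain ⟨S', _, _, _, _, _, root, hroot⟩ := exists_splitting _ R pr.P.f pr.P.monic_f rfl
  haveI : Module.FinitePresentation R S' := Module.finitePresentation_of_projective R S'
  refine ⟨S', inferInstance, inferInstance, inferInstance, inferInstance,
    inferInstance, fun m' hm' => ?_⟩
  let K0 := AlgebraicClosure q.ResidueField
  let β₀ : T →ₐ[R] K0 := IsScalarTower.toAlgHom R T K0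
  have hq0 : ∀ t : T, β₀ t = 0 ↔ t ∈ q := fun t => by
    show algebraMap T K0 t = 0 ↔ _
    rw [IsScalarTower.algebraMap_apply T q.ResidueField K0, map_eq_zero, Ideal.algebraMap_residueField_eq_zero]
  let β : Ta →ₐ[R] K0 := IsLocalization.liftAlgHom (M := Submonoid.powers a) (f := β₀) fun y => by
    obtain ⟨_, k, rfl⟩ := y
    show IsUnit (β₀ (a ^ k))
    rw [map_pow]
    exact (isUnit_iff_ne_zero.mpr fun h => ha ((hq0 a).mp h)).pow k
  let θ : K0 := β pr.x
  have hθ : aeval θ pr.P.f = 0 := (pr.hasMap.map β).1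
  let κ := R ⧸ IsLocalRing.maximalIdeal R
  letI : Field κ := Ideal.Quotient.field _
  have hm0 : IsLocalRing.maximalIdeal R ≤ RingHom.ker (algebraMap R K0) := fun r hr => by
    show algebraMap R K0 r = 0
    rw [IsScalarTower.algebraMap_apply R T K0]
    refine (hq0 _).mpr (by_contra fun h => ?_)
    have hu : IsUnit (algebraMap R S r) := by
      rw [IsScalarTower.algebraMap_apply R T S]
      exact IsLocalization.map_units S (⟨_, h⟩ : q.primeCompl)
    exact hr (isUnit_of_map_unit (algebraMap R S) r hu)
  have hm1 : IsLocalRing.maximalIdeal R ≤ RingHom.ker (algebraMap R (S' ⧸ m')) := by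
    have := Ideal.isMaximal_comap_of_isIntegral_of_isMaximal (R := R) m'
    intro r hr
    rw [← IsLocalRing.eq_maximalIdeal this] at hr
    exact Ideal.Quotient.eq_zero_iff_mem.mpr hr
  letI : Field (S' ⧸ m') := Ideal.Quotient.field m'
  letI : Algebra κ K0 := (Ideal.Quotient.lift _ (algebraMap R K0) fun r hr => hm0 hr).toAlgebra
  letI : Algebra κ (S' ⧸ m') := (Ideal.Quotient.lift _ (algebraMap R (S' ⧸ m')) fun r hr => hm1 hr).toAlgebra
  haveI : IsScalarTower R κ K0 := .of_algebraMap_eq fun _ => rfl
  haveI : IsScalarTower R κ (S' ⧸ m') := .of_algebraMap_eq fun _ => rfl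
  haveI : Module.Finite R (S' ⧸ m') := Module.Finite.of_surjective (Ideal.Quotient.mkₐ R m').toLinearMap Ideal.Quotient.mk_surjective
  haveI : Module.Finite κ (S' ⧸ m') := Module.Finite.of_restrictScalars_finite R κ _
  let σ : (S' ⧸ m') →ₐ[κ] K0 := IsAlgClosed.lift
  let ρ : S' →ₐ[R] K0 := (σ.restrictScalars R).comp (Ideal.Quotient.mkₐ R m')
  obtain ⟨i, hi⟩ : ∃ i, ρ (root i) = θ := by
    have h1 : Polynomial.aeval θ pr.P.f = ∏ i, (θ - ρ (root i)) := by
      have h2 := congrArg (fun p => Polynomial.eval θ (p.map ρ.toRingHom)) hroot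
      simp only [Polynomial.map_map, AlgHom.toRingHom_eq_coe, AlgHom.comp_algebraMap, Polynomial.map_prod,
        Polynomial.eval_prod, Polynomial.map_sub, Polynomial.map_X, Polynomial.map_C, Polynomial.eval_sub,
        Polynomial.eval_X, Polynomial.eval_C, RingHom.coe_coe] at h2
      rwa [Polynomial.eval_map, ← Polynomial.aeval_def] at h2
    rw [hθ] at h1
    obtain ⟨i, -, hi⟩ := Finset.prod_eq_zero_iff.mp h1.symm
    exact ⟨i, (sub_eq_zero.mp hi).symm⟩
  let L := Localization.AtPrime m'
  have hρ : ∀ y : S', ρ y = 0 ↔ y ∈ m' := fun y => by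
    show σ (Ideal.Quotient.mk m' y) = 0 ↔ _
    rw [map_eq_zero_iff σ σ.toRingHom.injective, Ideal.Quotient.eq_zero_iff_mem]
  let res : L →ₐ[R] K0 := IsLocalization.liftAlgHom (M := m'.primeCompl) (f := ρ) fun y =>
    isUnit_iff_ne_zero.mpr fun h => y.2 ((hρ _).mp h)
  have hres : ∀ y : S', res (algebraMap S' L y) = ρ y := fun y => IsLocalization.lift_eq _ y
  have hresu : ∀ z : L, res z ≠ 0 → IsUnit z := by
    intro z hz
    by_contra h
    obtain ⟨y, t, rfl⟩ := IsLocalization.exists_mk'_eq m'.primeCompl z
    have hy : y ∈ m' := by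
      by_contra hy
      exact h ((IsLocalization.AtPrime.isUnit_mk'_iff L m' y t).mpr hy)
    apply hz
    have h1 := congrArg res (IsLocalization.mk'_spec L y t)
    rw [map_mul, hres, hres, (hρ y).mpr hy] at h1
    exact (mul_eq_zero.mp h1).resolve_right fun h => t.2 ((hρ _).mp h)
  let ξ : L := algebraMap S' L (root i)
  have hξ0 : Polynomial.aeval ξ pr.P.f = 0 := by
    have h2 : Polynomial.aeval (root i) pr.P.f = 0 := by
      rw [Polynomial.aeval_def, ← Polynomial.eval_map, hroot, Polynomial.eval_prod]
      exact Finset.prod_eq_zero (Finset.mem_univ i) (by simp)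
    rw [Polynomial.aeval_algebraMap_apply, h2, map_zero]
  have hξ : pr.P.HasMap ξ := by
    refine ⟨hξ0, hresu _ ?_⟩
    rw [← Polynomial.aeval_algHom_apply, hres, hi]
    exact (pr.hasMap.map β).2.ne_zero
  let ψ : Ta →ₐ[R] L := (pr.P.lift ξ hξ).comp pr.equivRing.toAlgHom
  have hψ : res.comp ψ = β := by
    have h1 : (res.comp (pr.P.lift ξ hξ)) = β.comp pr.equivRing.symm.toAlgHom := by
      apply pr.P.hom_ext
      simp only [AlgHom.comp_apply, StandardEtalePair.lift_X]
      rw [hres, hi]
      exact congrArg β pr.equivRing_symm_X.symm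
    refine AlgHom.ext fun z => ?_
    have := AlgHom.congr_fun h1 (pr.equivRing z)
    simpa [ψ] using this
  let χ : T →ₐ[R] L := ψ.comp (IsScalarTower.toAlgHom R T Ta)
  exact ⟨IsLocalization.liftAlgHom (M := q.primeCompl) (f := χ) fun y => hresu _ (by
    have : res (χ y) = β₀ y := (AlgHom.congr_fun hψ _).trans (IsLocalization.lift_eq _ _)
    rw [this]
    exact fun h => y.2 ((hq0 _).mp h))⟩

end Groth.Agent.S9434
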