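import Groth.Statements.S9436
import Groth.Agent.Lib.Henselian.EtaleLift

set_option autoImplicit false
universe u
open CAlg

namespace Groth.Agent.S9436

open TensorProduct in
/-- Étale algebras lift along surjections: for an ideal I of R and an étale (R/I)-algebra S̄ there is an
étale R-algebra S with (R/I) ⊗_R S ≅ S̄ over R/I. -/
theorem result (R : Type u) [CommRing R] (I : Ideal R) (Sb : Type u)
    [CommRing Sb] [Algebra (R ⧸ I) Sb] [Algebra.Etale (R ⧸ I) Sb] :
    ∃ (S : Type u) (_ : CommRing S) (_ : Algebra R S), Algebra.Etale R S ∧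
      Nonempty (((R ⧸ I) ⊗[R] S) ≃ₐ[R ⧸ I] Sb) := Groth.Agent.Lib.Henselian.EtaleLift.exists_etale_lift_tensor I Sb

end Groth.Agent.S9436
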