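import Groth.Statements.S9439
import Groth.Agent.Lib.Regular.Descent
import Groth.Agent.Lib.Excellent.CompletionNoetherian
import Mathlib.RingTheory.RingHom.Flat
import Mathlib.RingTheory.Regular.Flat

set_option autoImplicit false
universe u
open CAlg

namespace Groth.Agent.S9439

open IsLocalRing
open scoped TensorProduct

/-- At an associated prime of a reduced quotient `S/pS` the extension of `p` is the maximal ideal. -/
theorem main {R S : Type u} [CommRing R] [IsNoetherianRing R] [CommRing S] [IsNoetherianRing S]
    [Algebra R S] [Module.Flat R S] (p : Ideal R) [p.IsPrime]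
    [IsDomain (Localization.AtPrime p)] [IsDiscreteValuationRing (Localization.AtPrime p)]
    (hred : IsReduced (S ⧸ p.map (algebraMap R S)))
    (q : Ideal S) [q.IsPrime] (hq : q ∈ associatedPrimes S (S ⧸ p.map (algebraMap R S))) :
    ∃ _ : IsDomain (Localization.AtPrime q), IsDiscreteValuationRing (Localization.AtPrime q) := by
  classical
  let I := p.map (algebraMap R S)
  obtain ⟨-, z, hz⟩ := (isAssociatedPrime_iff_exists_injective_linearMap _ _).mp hq
  let y : S ⧸ I := z 1
  have hann : ∀ s : S, s ∈ q ↔ s • y = 0 := fun s => by
    rw [← map_smul]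
    constructor
    · intro hs
      rw [show s • (1 : S ⧸ q) = 0 from by
        rw [Algebra.smul_def, mul_one]; exact Ideal.Quotient.eq_zero_iff_mem.mpr hs, map_zero]
    · intro h
      have := hz (h.trans (map_zero z).symm)
      rw [Algebra.smul_def, mul_one] at this
      exact Ideal.Quotient.eq_zero_iff_mem.mp this
  have hy : y ≠ 0 := fun h => (inferInstance : q.IsPrime).ne_top
    ((Ideal.eq_top_iff_one _).mpr ((hann 1).mpr (by rw [h, smul_zero])))
  have hIq : I ≤ q := fun s hs => (hann s).mpr (by
    obtain ⟨x, hx⟩ := Ideal.Quotient.mk_surjective y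
    rw [← hx, Algebra.smul_def, Ideal.Quotient.algebraMap_eq, ← map_mul,
      Ideal.Quotient.eq_zero_iff_mem]
    exact Ideal.mul_mem_right _ _ hs)
  -- `q` contracts to `p`
  have hqp : q.comap (algebraMap R S) = p := by
    refine le_antisymm (fun r hr => ?_) (Ideal.map_le_iff_le_comap.mp hIq)
    by_contra hrp
    have hinj : IsSMulRegular (R ⧸ p) r := fun a b hab => by
      haveI : IsDomain (R ⧸ p) := Ideal.Quotient.isDomain p
      simp only [Algebra.smul_def, Ideal.Quotient.algebraMap_eq] at hab
      exact mul_left_cancel₀ (mt Ideal.Quotient.eq_zero_iff_mem.mp hrp) hab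
    have h2 : IsSMulRegular (S ⊗[R] (R ⧸ p)) r := IsSMulRegular.lTensor S hinj
    let e : S ⊗[R] (R ⧸ p) ≃ₗ[R] S ⧸ I :=
      (TensorProduct.tensorQuotEquivQuotSMul S p).trans ((Submodule.quotEquivOfEq _ _
        (Ideal.smul_top_eq_map p)).trans (Submodule.Quotient.restrictScalarsEquiv R I))
    refine hy (e.symm.injective (h2 ?_))
    show r • e.symm y = r • e.symm 0
    rw [← LinearEquiv.map_smul, ← LinearEquiv.map_smul, smul_zero, ← algebraMap_smul S r,
      (hann _).mp hr]
  -- the maximal ideal of the local ring
  haveI : q.LiesOver p := ⟨hqp.symm⟩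
  let φ := Localization.localRingHom p q (algebraMap R S) hqp.symm
  letI := φ.toAlgebra
  haveI : IsLocalHom (algebraMap (Localization.AtPrime p) (Localization.AtPrime q)) :=
    Localization.isLocalHom_localRingHom p q (algebraMap R S) hqp.symm
  haveI : Module.Flat (Localization.AtPrime p) (Localization.AtPrime q) :=
    RingHom.Flat.localRingHom (RingHom.flat_algebraMap_iff.mpr inferInstance) q p hqp.symm
  haveI : IsNoetherianRing (Localization.AtPrime q) :=
    IsLocalization.isNoetherianRing q.primeCompl _ inferInstance
  have hm : (maximalIdeal (Localization.AtPrime p)).map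
      (algebraMap (Localization.AtPrime p) (Localization.AtPrime q)) =
      maximalIdeal (Localization.AtPrime q) := by
    rw [← Localization.AtPrime.map_eq_maximalIdeal (I := p), Ideal.map_map,
      ← Localization.AtPrime.map_eq_maximalIdeal (I := q)]
    have hcomp : (algebraMap (Localization.AtPrime p) (Localization.AtPrime q)).comp
        (algebraMap R (Localization.AtPrime p)) =
        (algebraMap S (Localization.AtPrime q)).comp (algebraMap R S) :=
      RingHom.ext fun r => Localization.localRingHom_to_map p q (algebraMap R S) hqp.symm r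
    rw [hcomp, ← Ideal.map_map]
    refine le_antisymm (Ideal.map_mono hIq) (Ideal.map_le_iff_le_comap.mpr fun s hs => ?_)
    obtain ⟨x, hx⟩ := Ideal.Quotient.mk_surjective y
    have hxs : s * x ∈ I := by
      rw [← Ideal.Quotient.eq_zero_iff_mem, map_mul, hx]
      exact (Algebra.smul_def s y).symm.trans ((hann s).mp hs)
    have hxq : x ∉ q := fun hxq => hy (by
      have hxx : x * x ∈ I := by
        rw [← Ideal.Quotient.eq_zero_iff_mem, map_mul, hx]
        refine Eq.trans ?_ ((hann x).mp hxq)
        rw [Algebra.smul_def, Ideal.Quotient.algebraMap_eq, hx]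
      rw [← hx]
      exact hred.eq_zero _ ⟨2, by rw [pow_two, ← map_mul]; exact Ideal.Quotient.eq_zero_iff_mem.mpr hxx⟩)
    rw [Ideal.mem_comap]
    refine (Ideal.mul_unit_mem_iff_mem _ (IsLocalization.map_units (Localization.AtPrime q)
      (⟨x, hxq⟩ : q.primeCompl))).mp ?_
    rw [← map_mul]
    exact Ideal.mem_map_of_mem _ hxs
  have h := (Lib.Regular.Descent.isDiscreteValuationRing_iff).mp
    ⟨inferInstance, (inferInstance : IsDiscreteValuationRing (Localization.AtPrime p))⟩
  exact (Lib.Regular.Descent.isDiscreteValuationRing_iff).mpr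
    ⟨(Lib.Regular.Descent.isRegularLocalRing_iff (Localization.AtPrime q) hm).mp h.1,
      (Lib.Regular.Descent.ringKrullDim_eq (Localization.AtPrime q) hm).trans h.2⟩


/-- Let R be a Noetherian local ring, R^ its completion and p a prime with R_p a discrete valuation ring
and with R^/pR^ reduced (p analytically unramified: the completion of R/p, which is R^/pR^, is
reduced). Then the localization of R^ at any associated prime of R^/pR^ is a discrete valuation
ring. -/
theorem result
    (R : Type u) [CommRing R] [IsLocalRing R] [IsNoetherianRing R] (p : Ideal R) [p.IsPrime]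
    [IsDomain (Localization.AtPrime p)] [IsDiscreteValuationRing (Localization.AtPrime p)]
    (hp : IsReduced (AdicCompletion (IsLocalRing.maximalIdeal R) R ⧸
      p.map (algebraMap R (AdicCompletion (IsLocalRing.maximalIdeal R) R))))
    (q : Ideal (AdicCompletion (IsLocalRing.maximalIdeal R) R)) [q.IsPrime]
    (hq : q ∈ associatedPrimes (AdicCompletion (IsLocalRing.maximalIdeal R) R)
      (AdicCompletion (IsLocalRing.maximalIdeal R) R ⧸
        p.map (algebraMap R (AdicCompletion (IsLocalRing.maximalIdeal R) R)))) :
    ∃ _ : IsDomain (Localization.AtPrime q), IsDiscreteValuationRing (Localization.AtPrime q) := by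
  haveI : IsNoetherianRing (AdicCompletion (IsLocalRing.maximalIdeal R) R) := inferInstance
  exact main p hp q hq

end Groth.Agent.S9439
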