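import Groth.Statements.S9440
import Groth.Agent.Lib.Cohen.NagataLocal

set_option autoImplicit false
set_option linter.style.haveILetI false
universe u
open CAlg

namespace Groth.Agent.S9440

/-- (1) ⇔ (3): a Noetherian local ring R is a Nagata ring if and only if for every finite local
homomorphism R → S of local rings with S a domain, the completion of S is reduced. -/
theorem result (R : Type u) [CommRing R]
    [IsLocalRing R] [IsNoetherianRing R] :
    CAlg.IsNagata R ↔ ∀ (S : Type u) [CommRing S] [IsDomain S] [IsLocalRing S] [Algebra R S]
      [IsLocalHom (algebraMap R S)] [Module.Finite R S],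
      IsReduced (AdicCompletion (IsLocalRing.maximalIdeal S) S) := by
  refine ⟨fun hR S _ _ _ _ _ _ => ?_, fun h => ?_⟩
  · exact Groth.Agent.Lib.Cohen.NagataLocal.isReduced_completion_of_finite R hR S
  · exact Groth.Agent.Lib.Cohen.NagataLocal.isNagata_of_forall R h

end Groth.Agent.S9440
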