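import Groth.Statements.S9443
import Mathlib
import Groth.Agent.H24.PowerSeries

set_option autoImplicit false
universe u
open CAlg

namespace Groth.Agent.S9443

/-- A complete regular local ring R with a coefficient field k (a subfield mapping isomorphically onto
the residue field) is k-isomorphic to a power series ring over k in finitely many variables
(existence of an isomorphism only; the number of variables is then the dimension of R). -/
theorem result (R : Type u)
    [CommRing R] [IsRegularLocalRing R] [IsAdicComplete (IsLocalRing.maximalIdeal R) R]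
    (k : Type u) [Field k] [Algebra k R]
    (hk : Function.Bijective (algebraMap k (IsLocalRing.ResidueField R))) :
    ∃ d : ℕ, Nonempty (R ≃ₐ[k] MvPowerSeries (Fin d) k) := by
  classical
  obtain ⟨s, hcard, hs⟩ := Submodule.FG.exists_span_finset_card_eq_spanFinrank (p := IsLocalRing.maximalIdeal R) (IsNoetherian.noetherian _)
  refine ⟨s.card, ?_⟩
  let b : Fin s.card → R := fun i => (s.equivFin.symm i : R)
  have hb : Set.range b = (s : Set R) := by
    ext x
    exact ⟨fun ⟨i, hi⟩ => hi ▸ (s.equivFin.symm i).2, fun hx => ⟨s.equivFin ⟨x, hx⟩, by simp [b]⟩⟩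
  obtain ⟨ψ, hψ⟩ := Groth.Agent.H24.PowerSeries.exists_hom (A := k) (IsLocalRing.maximalIdeal R) b
    (fun i => hs ▸ Submodule.subset_span (s.equivFin.symm i).2)
  have := Groth.Agent.H24.PowerSeries.isAdicComplete k (Fin s.card)
  haveI := Groth.Agent.H24.PowerSeries.isRegularLocalRing_fin k s.card
  have hmap : (IsLocalRing.maximalIdeal (MvPowerSeries (Fin s.card) k)).map ψ.toRingHom = IsLocalRing.maximalIdeal R := by
    rw [Groth.Agent.H24.PowerSeries.maximalIdeal_eq k (Fin s.card), Ideal.map_span, ← Set.range_comp]
    conv_rhs => rw [← hs, ← hb]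
    exact congrArg (fun v => Ideal.span (Set.range v)) (funext hψ)
  have hsurj : Function.Surjective ψ := by
    refine Groth.Agent.H24.PowerSeries.surjective_of_cotangent ψ.toRingHom ?_ hmap.le
      (hmap.symm ▸ le_sup_left)
    intro q
    obtain ⟨c, hc⟩ := hk.2 q
    refine ⟨algebraMap k _ c, ?_⟩
    simp only [RingHom.comp_apply, AlgHom.toRingHom_eq_coe, RingHom.coe_coe, AlgHom.commutes]
    exact hc
  have hinj : Function.Injective ψ := Groth.Agent.H24.PowerSeries.injective_of_spanFinrank ψ.toRingHom hsurj
    (by rw [Groth.Agent.H24.PowerSeries.spanFinrank_maximalIdeal]; exact hcard)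
  exact ⟨(AlgEquiv.ofBijective ψ ⟨hinj, hsurj⟩).symm⟩

end Groth.Agent.S9443
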