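import Groth.Statements.S9444
import Mathlib
import Groth.Agent.S9443
import Groth.Agent.H24.CoefficientField

set_option autoImplicit false
universe u
open CAlg

namespace Groth.Agent.S9444

/-- A complete regular local ring containing a field (that is, containing the prime field F_p or ℚ) is
isomorphic to a power series ring in finitely many variables over its residue field (existence of an
isomorphism only). -/
theorem result (R : Type u)
    [CommRing R] [IsRegularLocalRing R] [IsAdicComplete (IsLocalRing.maximalIdeal R) R]
    (k₀ : Type u) [Field k₀] [Algebra k₀ R] :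
    ∃ d : ℕ, Nonempty (R ≃+* MvPowerSeries (Fin d) (IsLocalRing.ResidueField R)) := by
  obtain ⟨σ, hσ⟩ := Groth.Agent.H24.CoefficientField.exists_coefficientField R k₀
  letI := σ.toAlgebra
  have hk : Function.Bijective (algebraMap (IsLocalRing.ResidueField R) (IsLocalRing.ResidueField R)) :=
    Function.bijective_id
  obtain ⟨d, ⟨e⟩⟩ := S9443.result R (IsLocalRing.ResidueField R) (by
    refine ⟨RingHom.injective _, fun x => ⟨x, ?_⟩⟩
    exact hσ x)
  exact ⟨d, ⟨e.toRingEquiv⟩⟩

end Groth.Agent.S9444
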