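import Groth.Statements.S9445
import Groth.Agent.H21.EtalePow

set_option autoImplicit false
universe u
open CAlg

namespace Groth.Agent.S9445

open TensorProduct in
/-- For ring maps R → S → S' with S → S' formally étale and k ≥ 0, let J' ⊆ S' ⊗_R S' be the kernel of
multiplication and I ⊆ S' ⊗_R S its preimage under the map induced by S → S' (I is the kernel of S'
⊗_R S → S', and (S' ⊗_R S)/I^{k+1} is S' ⊗_S P^k_{S/R}); then (S' ⊗_R S)/I^{k+1} → (S' ⊗_R
S')/J'^{k+1} is bijective. (The consequence S' ⊗_S Ω_{S/R} ≅ Ω_{S'/R} is Mathlib's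
KaehlerDifferential.isBaseChange_of_formallyEtale.) -/
theorem result (R : Type u) [CommRing R]
    (S : Type u) [CommRing S] [Algebra R S] (S' : Type u) [CommRing S'] [Algebra R S']
    [Algebra S S'] [IsScalarTower R S S'] [Algebra.FormallyEtale S S'] (k : ℕ) :
    Function.Bijective (Ideal.quotientMap (KaehlerDifferential.ideal R S' ^ (k + 1))
      (Algebra.TensorProduct.map (AlgHom.id S' S') (IsScalarTower.toAlgHom R S S')).toRingHom
      (Ideal.le_comap_pow
        (Algebra.TensorProduct.map (AlgHom.id S' S') (IsScalarTower.toAlgHom R S S')).toRingHom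
        (K := KaehlerDifferential.ideal R S') (k + 1))) := by
  haveI := Groth.Agent.H21.EtalePow.formallyEtale_map R S S'
  letI : Algebra (S' ⊗[R] S) (S' ⊗[R] S') :=
    (Algebra.TensorProduct.map (AlgHom.id S' S') (IsScalarTower.toAlgHom R S S')).toRingHom.toAlgebra
  refine Groth.Agent.H21.EtalePow.bijective (S' ⊗[R] S) (S' ⊗[R] S') (KaehlerDifferential.ideal R S')
    (fun y => ?_) (k + 1) _
  obtain ⟨z, rfl⟩ := Ideal.Quotient.mk_surjective y
  refine ⟨Algebra.TensorProduct.lmul' R z ⊗ₜ 1, ?_⟩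
  show Ideal.Quotient.mk _ (Algebra.TensorProduct.map (AlgHom.id S' S')
    (IsScalarTower.toAlgHom R S S') (Algebra.TensorProduct.lmul' R z ⊗ₜ 1)) = _
  rw [Ideal.Quotient.eq, KaehlerDifferential.ideal, RingHom.mem_ker, map_sub]
  simp

end Groth.Agent.S9445
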