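import Groth.Statements.S9446
import Groth.Agent.H20.Descent
import Mathlib.RingTheory.Smooth.IntegralClosure
import Mathlib.RingTheory.Smooth.Basic
import Mathlib.Algebra.Polynomial.Lifts
import Mathlib.RingTheory.FinitePresentation

set_option autoImplicit false
universe u
open CAlg

namespace Groth.Agent.S9446

open scoped TensorProduct
open Groth.Agent.H20.Descent

theorem natural {R S T B : Type u} [CommRing R] [CommRing S] [CommRing T] [CommRing B] [Algebra R S]
    [Algebra R T] [Algebra R B] (h : S →ₐ[R] T) (z : S ⊗[R] integralClosure R B) :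
    ((TensorProduct.toIntegralClosure R T B (Algebra.TensorProduct.map h (AlgHom.id R _) z)) : T ⊗[R] B) =
      Algebra.TensorProduct.map h (AlgHom.id R B) ((TensorProduct.toIntegralClosure R S B z) : S ⊗[R] B) := by
  induction z using TensorProduct.induction_on with
  | zero => simp
  | tmul x y => simp [TensorProduct.toIntegralClosure]
  | add x y hx hy => simp only [map_add, Subalgebra.coe_add, hx, hy]

theorem comm_map {R S T B : Type u} [CommRing R] [CommRing S] [CommRing T] [CommRing B] [Algebra R S]
    [Algebra R T] [Algebra R B] (h : S →ₐ[R] T) (w : S ⊗[R] B) :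
    Algebra.TensorProduct.comm R T B (Algebra.TensorProduct.map h (AlgHom.id R B) w) =
      Algebra.TensorProduct.map (AlgHom.id R B) h (Algebra.TensorProduct.comm R S B w) := by
  induction w using TensorProduct.induction_on with
  | zero => simp
  | tmul x y => simp
  | add x y hx hy => simp only [map_add, hx, hy]

section

variable {R S : Type u} [CommRing R] [CommRing S] [Algebra R S] (hS : Smoothing.IndSmooth R S)

structure Idx (R S : Type u) [CommRing R] [CommRing S] [Algebra R S] : Type u where
  n : ℕ
  rel : Finset (MvPolynomial (Fin n) R)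
  v : Fin n → S
  hv : ∀ p ∈ rel, MvPolynomial.aeval v p = 0

noncomputable abbrev Pres (i : Idx R S) : Type u :=
  MvPolynomial (Fin i.n) R ⧸ Ideal.span (i.rel : Set (MvPolynomial (Fin i.n) R))

noncomputable def presHom (i : Idx R S) : Pres i →ₐ[R] S :=
  Ideal.Quotient.liftₐ _ (MvPolynomial.aeval i.v) fun _ hp =>
    (Ideal.span_le (I := RingHom.ker (MvPolynomial.aeval (R := R) i.v))).mpr (fun p hp => i.hv p hp) hp

include hS in
theorem exists_system : ∃ (ι : Type u) (_ : Nonempty ι) (G : ι → Type u) (_ : ∀ i, CommRing (G i))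
    (_ : ∀ i, Algebra R (G i)) (g : ∀ i, G i →ₐ[R] S), (∀ i, Algebra.Smooth R (G i)) ∧ IsColim g := by
  classical
  have key : ∀ i : Idx R S, ∃ (B : Type u) (_ : CommRing B) (_ : Algebra R B),
      Algebra.Smooth R B ∧ ∃ (g : Pres i →ₐ[R] B) (h : B →ₐ[R] S), h.comp g = presHom i := fun i =>
    hS (Pres i) (Algebra.FinitePresentation.quotient ⟨i.rel, rfl⟩) (presHom i)
  choose G hG hGa hsm m g hg using key
  have fac : ∀ (P : Type u) [CommRing P] [Algebra R P] [Algebra.FinitePresentation R P] (f : P →ₐ[R] S),
      ∃ i, ∃ e : P →ₐ[R] G i, (g i).comp e = f := by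
    intro P _ _ _ f
    obtain ⟨n, π, hπ, hker⟩ := Algebra.FinitePresentation.out (R := R) (A := P)
    obtain ⟨F, hF⟩ := hker
    have hev : MvPolynomial.aeval (fun a => f (π (MvPolynomial.X a))) = f.comp π :=
      MvPolynomial.algHom_ext fun a => by simp
    let i : Idx R S := ⟨n, F, fun a => f (π (MvPolynomial.X a)), fun p hp => by
      rw [hev, AlgHom.comp_apply]
      have : p ∈ RingHom.ker π.toRingHom := hF ▸ Ideal.subset_span hp
      rw [show π p = 0 from this, map_zero]⟩
    let e₀ : MvPolynomial (Fin n) R →ₐ[R] G i := (m i).comp (Ideal.Quotient.mkₐ R _)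
    have hle : RingHom.ker π.toRingHom ≤ RingHom.ker e₀.toRingHom := by
      rw [← hF, Ideal.span_le]
      intro p hp
      show m i (Ideal.Quotient.mk _ p) = 0
      rw [Ideal.Quotient.eq_zero_iff_mem.mpr (Ideal.subset_span hp), map_zero]
    refine ⟨i, AlgHom.liftOfSurjective π hπ e₀ hle, (AlgHom.cancel_right hπ).mp ?_⟩
    rw [AlgHom.comp_assoc, AlgHom.liftOfSurjective_comp, ← hev, ← AlgHom.comp_assoc, hg]
    rfl
  refine ⟨Idx R S, ⟨⟨0, ∅, Fin.elim0, by simp⟩⟩, G, hG, hGa, g, hsm, ?_, ?_, ?_⟩
  · intro i j
    haveI := hsm i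
    haveI := hsm j
    haveI : Algebra.FinitePresentation R (G i ⊗[R] G j) := Algebra.FinitePresentation.trans R (G i) _
    obtain ⟨k, e, he⟩ := fac (G i ⊗[R] G j) (Algebra.TensorProduct.lift (g i) (g j) fun _ _ => .all _ _)
    exact ⟨k, ⟨e.comp Algebra.TensorProduct.includeLeft, by
        rw [← AlgHom.comp_assoc, he, Algebra.TensorProduct.lift_comp_includeLeft]⟩,
      e.comp Algebra.TensorProduct.includeRight, by
        rw [← AlgHom.comp_assoc, he]; exact AlgHom.ext fun y => by simp⟩
  · intro a
    obtain ⟨k, e, he⟩ := fac (MvPolynomial (Fin 1) R) (MvPolynomial.aeval fun _ => a)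
    exact ⟨k, e (MvPolynomial.X 0), by rw [← AlgHom.comp_apply, he]; simp⟩
  · intro i x hx
    haveI := hsm i
    haveI : Algebra.FinitePresentation R (G i ⧸ Ideal.span {x}) :=
      Algebra.FinitePresentation.quotient (Submodule.fg_span_singleton x)
    obtain ⟨k, e, he⟩ := fac (G i ⧸ Ideal.span {x}) (Ideal.Quotient.liftₐ _ (g i) fun y hy => by
      obtain ⟨c, rfl⟩ := Ideal.mem_span_singleton'.mp hy
      rw [map_mul, hx, mul_zero])
    refine ⟨k, e.comp (Ideal.Quotient.mkₐ R _), by rw [← AlgHom.comp_assoc, he]; rfl, ?_⟩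
    rw [AlgHom.comp_apply, Ideal.Quotient.mkₐ_eq_mk,
      Ideal.Quotient.eq_zero_iff_mem.mpr (Ideal.mem_span_singleton_self x), map_zero]

end

/-- If S is ind-smooth over R (every R-algebra map into S from a finitely presented R-algebra factors
through a smooth R-algebra) then for every R-algebra B the canonical map S ⊗_R A → A', from the base
change of the integral closure A of R in B to the integral closure A' of S in S ⊗_R B, is bijective. -/
theorem result (R : Type u) [CommRing R] (S : Type u)
    [CommRing S] [Algebra R S] (hS : Smoothing.IndSmooth R S) (B : Type u) [CommRing B]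
    [Algebra R B] : Function.Bijective (TensorProduct.toIntegralClosure R S B) := by
  classical
  obtain ⟨ι, hne, G, _, _, g, hsm, H⟩ := exists_system hS
  have hb : ∀ i, Function.Bijective (TensorProduct.toIntegralClosure R (G i) B) := fun i =>
    haveI := hsm i
    TensorProduct.toIntegralClosure_bijective_of_smooth
  have kill : ∀ i (w : G i ⊗[R] B), Algebra.TensorProduct.map (g i) (AlgHom.id R B) w = 0 →
      ∃ j, ∃ h : G i →ₐ[R] G j, (g j).comp h = g i ∧ Algebra.TensorProduct.map h (AlgHom.id R B) w = 0 := by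
    intro i w hw
    have h1 := congrArg (Algebra.TensorProduct.comm R S B) hw
    rw [comm_map, map_zero] at h1
    obtain ⟨j, h, hh, hj⟩ := H.tensor_ker B (Algebra.TensorProduct.comm R (G i) B w) h1
    refine ⟨j, h, hh, (Algebra.TensorProduct.comm R (G j) B).injective ?_⟩
    rw [comm_map, map_zero]
    exact hj
  constructor
  · rw [injective_iff_map_eq_zero]
    intro z hz
    obtain ⟨i, x, hx⟩ := (H.tensor (integralClosure R B)).surj (Algebra.TensorProduct.comm R S _ z)
    let x' := (Algebra.TensorProduct.comm R (G i) (integralClosure R B)).symm x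
    have hx' : Algebra.TensorProduct.map (g i) (AlgHom.id R _) x' = z := by
      apply (Algebra.TensorProduct.comm R S (integralClosure R B)).injective
      rw [comm_map, AlgEquiv.apply_symm_apply]
      exact hx
    obtain ⟨j, h, hh, hj⟩ := kill i (TensorProduct.toIntegralClosure R (G i) B x')
      (by rw [← natural, hx', hz]; rfl)
    rw [← natural] at hj
    have h0 : Algebra.TensorProduct.map h (AlgHom.id R _) x' = 0 :=
      (hb j).1 (by rw [map_zero]; exact Subtype.ext hj)
    rw [← hx', ← hh, ← AlgHom.id_comp (AlgHom.id R (integralClosure R B)), Algebra.TensorProduct.map_comp,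
      AlgHom.comp_apply, h0, map_zero]
  · rintro ⟨w, hw⟩
    obtain ⟨q, hq, hq0⟩ := hw
    obtain ⟨i, y, hy⟩ := (H.tensor B).surj (Algebra.TensorProduct.comm R S B w)
    let w₁ := (Algebra.TensorProduct.comm R (G i) B).symm y
    have hw₁ : Algebra.TensorProduct.map (g i) (AlgHom.id R B) w₁ = w := by
      apply (Algebra.TensorProduct.comm R S B).injective
      rw [comm_map, AlgEquiv.apply_symm_apply]
      exact hy
    obtain ⟨j, h, hh, hs⟩ := H.exists_lift i q.coeffs
    have hlift : q ∈ Polynomial.lifts (g j).toRingHom := by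
      rw [Polynomial.lifts_iff_coeff_lifts]
      intro n
      by_cases hn : q.coeff n = 0
      · exact ⟨0, by rw [map_zero, hn]⟩
      · obtain ⟨x, hx⟩ := hs _ (Polynomial.coeff_mem_coeffs hn)
        exact ⟨x, hx⟩
    obtain ⟨p, hp, -, hmon⟩ := Polynomial.lifts_and_natDegree_eq_and_monic hlift hq
    let w₂ := Algebra.TensorProduct.map h (AlgHom.id R B) w₁
    have hw₂ : Algebra.TensorProduct.map (g j) (AlgHom.id R B) w₂ = w := by
      rw [← AlgHom.comp_apply, ← Algebra.TensorProduct.map_comp, hh, AlgHom.id_comp, hw₁]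
    obtain ⟨k, e, he, hk⟩ := kill j (Polynomial.aeval w₂ p) (by
      rw [Polynomial.aeval_def]
      refine (Polynomial.hom_eval₂ p _ (Algebra.TensorProduct.map (g j) (AlgHom.id R B)).toRingHom _).trans ?_
      refine Eq.trans ?_ hq0
      rw [← hp, Polynomial.eval₂_map]
      congr 1
      )
    let w₃ := Algebra.TensorProduct.map e (AlgHom.id R B) w₂
    have hint : IsIntegral (G k) w₃ := by
      refine ⟨p.map e.toRingHom, hmon.map _, ?_⟩
      rw [Polynomial.eval₂_map]
      refine Eq.trans ?_ hk
      rw [Polynomial.aeval_def]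
      refine Eq.trans ?_ (Polynomial.hom_eval₂ p _ (Algebra.TensorProduct.map e (AlgHom.id R B)).toRingHom _).symm
      congr 1
    obtain ⟨x, hx⟩ := (hb k).2 ⟨w₃, hint⟩
    refine ⟨Algebra.TensorProduct.map (g k) (AlgHom.id R _) x, Subtype.ext ?_⟩
    rw [natural, hx]
    show Algebra.TensorProduct.map (g k) (AlgHom.id R B) w₃ = w
    rw [← AlgHom.comp_apply, ← Algebra.TensorProduct.map_comp, he, AlgHom.id_comp, hw₂]

end Groth.Agent.S9446
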