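import Groth.Statements.S9450
import Mathlib.RingTheory.Smooth.Basic
import Mathlib.RingTheory.Kaehler.Basic
import Mathlib.LinearAlgebra.TensorProduct.Quotient
import Mathlib
-- import your own Groth.Agent.* helpers here

set_option autoImplicit false
universe u
open CAlg

namespace Groth.Agent.S9450

/-- For ring maps A → B → C with A → C surjective and A → B formally smooth, writing I = ker(A → C) and
J = ker(B → C), the sequence 0 → I/I² → J/J² → C ⊗_B Ω_{B/A} → 0 is split exact: the first map is
injective and admits an A-linear retraction, its range is the kernel of the second map (class of x ↦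
1 ⊗ dx), and the second map is surjective. -/
theorem result (A : Type u) [CommRing A]
    (B : Type u) [CommRing B] [Algebra A B] [Algebra.FormallySmooth A B] (C : Type u) [CommRing C]
    [Algebra B C] [Algebra A C] [IsScalarTower A B C] (hC : Function.Surjective (algebraMap A C)) :
    Function.Injective (Ideal.mapCotangent (RingHom.ker (algebraMap A C))
        (RingHom.ker (algebraMap B C)) (Algebra.ofId A B)
        (le_of_eq (congrArg RingHom.ker (IsScalarTower.algebraMap_eq A B C)))) ∧
      (∃ r : (RingHom.ker (algebraMap B C)).Cotangent →ₗ[A] (RingHom.ker (algebraMap A C)).Cotangent,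
        r ∘ₗ (Ideal.mapCotangent (RingHom.ker (algebraMap A C)) (RingHom.ker (algebraMap B C))
          (Algebra.ofId A B)
          (le_of_eq (congrArg RingHom.ker (IsScalarTower.algebraMap_eq A B C)))) = LinearMap.id) ∧
      LinearMap.range (Ideal.mapCotangent (RingHom.ker (algebraMap A C))
          (RingHom.ker (algebraMap B C)) (Algebra.ofId A B)
          (le_of_eq (congrArg RingHom.ker (IsScalarTower.algebraMap_eq A B C)))) =
        LinearMap.ker ((KaehlerDifferential.kerCotangentToTensor A B C).restrictScalars A) ∧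
      Function.Surjective (KaehlerDifferential.kerCotangentToTensor A B C) := by
  set I := RingHom.ker (algebraMap A C) with hI
  set J := RingHom.ker (algebraMap B C) with hJ
  have hle : I ≤ J.comap (Algebra.ofId A B) := le_of_eq (congrArg RingHom.ker (IsScalarTower.algebraMap_eq A B C))
  -- section `B → A / I²`
  let π : (A ⧸ I ^ 2) →ₐ[A] C := Ideal.Quotient.liftₐ _ (Algebra.ofId A C) fun a ha => Ideal.pow_le_self two_ne_zero ha
  have hπ : Function.Surjective π := fun c => by
    obtain ⟨a, rfl⟩ := hC c
    exact ⟨Ideal.Quotient.mk _ a, rfl⟩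
  have hπn : IsNilpotent (RingHom.ker (π : (A ⧸ I ^ 2) →+* C)) := by
    refine ⟨2, eq_bot_iff.2 ?_⟩
    have h1 : RingHom.ker (π : (A ⧸ I ^ 2) →+* C) ≤ I.map (Ideal.Quotient.mk (I ^ 2)) := by
      intro z hz
      obtain ⟨a, rfl⟩ := Ideal.Quotient.mk_surjective z
      exact Ideal.mem_map_of_mem _ hz
    refine (Ideal.pow_right_mono h1 2).trans ?_
    rw [← Ideal.map_pow, Ideal.map_quotient_self]
  let σ : B →ₐ[A] A ⧸ I ^ 2 := Algebra.FormallySmooth.liftOfSurjective (IsScalarTower.toAlgHom A B C) π hπ hπn
  have hσ : ∀ b, π (σ b) = algebraMap B C b := fun b =>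
    AlgHom.congr_fun (Algebra.FormallySmooth.comp_liftOfSurjective (IsScalarTower.toAlgHom A B C) π hπ hπn) b
  have hσmem : ∀ x ∈ J, σ x ∈ I.cotangentIdeal := by
    intro x hx
    obtain ⟨a, ha⟩ := Ideal.Quotient.mk_surjective (σ x)
    rw [← ha]
    refine Submodule.mem_map_of_mem (f := (Ideal.Quotient.mk (I ^ 2)).toSemilinearMap) ?_
    show algebraMap A C a = 0
    have := hσ x
    rw [← ha] at this
    exact this.trans hx
  have hsq : ∀ z ∈ J ^ 2, σ z = 0 := by
    intro z hz
    have h1 : J.map (σ : B →+* A ⧸ I ^ 2) ≤ I.cotangentIdeal := Ideal.map_le_of_le_comap (fun x hx => hσmem x hx)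
    have : σ z ∈ I.cotangentIdeal ^ 2 := by
      have h2 := Ideal.mem_map_of_mem (σ : B →+* A ⧸ I ^ 2) hz
      rw [Ideal.map_pow] at h2
      exact Ideal.pow_right_mono h1 2 h2
    rw [Ideal.cotangentIdeal_square] at this
    exact (Ideal.mem_bot).1 this
  let r₀ : J →ₗ[A] I.Cotangent :=
    (I.cotangentEquivIdeal.symm.toLinearMap.restrictScalars A).comp
      ((σ.toLinearMap.comp (J.subtype.restrictScalars A)).codRestrict (I.cotangentIdeal.restrictScalars A) fun x => hσmem _ x.2)
  have hr₀ : ∀ x : J, (I.cotangentEquivIdeal (r₀ x) : A ⧸ I ^ 2) = σ x := by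
    intro x
    exact congrArg Subtype.val (I.cotangentEquivIdeal.apply_symm_apply _)
  let r : J.Cotangent →ₗ[A] I.Cotangent :=
    Submodule.liftQ ((J • ⊤ : Submodule B J).restrictScalars A) r₀ (by
      intro x hx
      have hx' : (x : B) ∈ J ^ 2 := by
        rw [← Ideal.toCotangent_eq_zero]
        exact (Submodule.Quotient.mk_eq_zero _).2 hx
      apply I.cotangentEquivIdeal.injective
      apply Subtype.ext
      rw [hr₀, hsq _ hx', map_zero]
      rfl)
  have hr : ∀ x : J, (I.cotangentEquivIdeal (r (J.toCotangent x)) : A ⧸ I ^ 2) = σ x := fun x => hr₀ x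
  have hretr : r ∘ₗ Ideal.mapCotangent I J (Algebra.ofId A B) hle = LinearMap.id := by
    refine LinearMap.ext fun z => ?_
    obtain ⟨a, rfl⟩ := Ideal.toCotangent_surjective _ z
    apply I.cotangentEquivIdeal.injective
    apply Subtype.ext
    rw [LinearMap.comp_apply, Ideal.mapCotangent_toCotangent, hr, LinearMap.id_apply]
    show σ (algebraMap A B a) = _
    rw [AlgHom.commutes]
    rfl
  have hinj : Function.Injective (Ideal.mapCotangent I J (Algebra.ofId A B) hle) := fun x y hxy => by
    simpa using (LinearMap.congr_fun hretr x).symm.trans ((congrArg r hxy).trans (LinearMap.congr_fun hretr y))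
  have hsurjBC : Function.Surjective (algebraMap B C) := fun c => by
    obtain ⟨a, rfl⟩ := hC c
    exact ⟨algebraMap A B a, (IsScalarTower.algebraMap_apply A B C a).symm⟩
  refine ⟨hinj, ⟨r, hretr⟩, le_antisymm ?_ ?_, ?_⟩
  · rintro _ ⟨z, rfl⟩
    obtain ⟨a, rfl⟩ := Ideal.toCotangent_surjective _ z
    simp [KaehlerDifferential.kerCotangentToTensor_toCotangent]
  · -- the kernel
    intro z hz
    obtain ⟨x, rfl⟩ := Ideal.toCotangent_surjective _ z
    simp only [LinearMap.mem_ker, LinearMap.restrictScalars_apply,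
      KaehlerDifferential.kerCotangentToTensor_toCotangent] at hz
    let φ : (A ⧸ I ^ 2) →ₐ[A] B ⧸ J ^ 2 :=
      Ideal.Quotient.liftₐ _ ((Ideal.Quotient.mkₐ A (J ^ 2)).comp (Algebra.ofId A B)) fun a ha => by
        rw [AlgHom.comp_apply, Ideal.Quotient.mkₐ_eq_mk, Ideal.Quotient.eq_zero_iff_mem]
        exact (Ideal.pow_right_mono (Ideal.map_le_of_le_comap hle) 2) (Ideal.map_pow (Algebra.ofId A B : A →+* B) I 2 ▸ Ideal.mem_map_of_mem _ ha)
    let d : B →ₗ[A] B ⧸ J ^ 2 := (Ideal.Quotient.mkₐ A (J ^ 2)).toLinearMap - (φ.comp σ).toLinearMap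
    have hdJ : ∀ b, d b ∈ J.cotangentIdeal := by
      intro b
      obtain ⟨a, ha⟩ := Ideal.Quotient.mk_surjective (σ b)
      have e : d b = Ideal.Quotient.mk (J ^ 2) (b - algebraMap A B a) := by
        simp [d, φ, ← ha]
      rw [e]
      refine Submodule.mem_map_of_mem (f := (Ideal.Quotient.mk (J ^ 2)).toSemilinearMap) ?_
      show algebraMap B C (b - algebraMap A B a) = 0
      rw [map_sub, sub_eq_zero, ← hσ b, ← ha, ← IsScalarTower.algebraMap_apply]
      rfl
    have hmul : ∀ u v, u ∈ J.cotangentIdeal → v ∈ J.cotangentIdeal → u * v = 0 := fun u v hu hv => by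
      have := Ideal.mul_mem_mul hu hv
      rwa [← pow_two, Ideal.cotangentIdeal_square, Ideal.mem_bot] at this
    let der : Derivation A B (B ⧸ J ^ 2) := Derivation.mk' d fun b c => by
      have h := hmul _ _ (hdJ b) (hdJ c)
      simp only [d, LinearMap.sub_apply, AlgHom.toLinearMap_apply, Ideal.Quotient.mkₐ_eq_mk, map_mul,
        AlgHom.comp_apply, Algebra.smul_def, Ideal.Quotient.algebraMap_eq] at h ⊢
      linear_combination (-1 : B ⧸ J ^ 2) * h
    have hl : ∀ w : Ω[B⁄A], der.liftKaehlerDifferential w ∈ J.cotangentIdeal.restrictScalars B := by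
      intro w
      have hw : w ∈ Submodule.span B (Set.range (KaehlerDifferential.D A B)) := by
        rw [KaehlerDifferential.span_range_derivation]; trivial
      induction hw using Submodule.span_induction with
      | mem w hw => obtain ⟨b, rfl⟩ := hw; rw [Derivation.liftKaehlerDifferential_comp_D]; exact hdJ b
      | zero => rw [map_zero]; exact zero_mem _
      | add u v _ _ hu hv => rw [map_add]; exact add_mem hu hv
      | smul c u _ hu => rw [map_smul]; exact Submodule.smul_mem _ c hu
    have hdx : KaehlerDifferential.D A B x ∈ J • (⊤ : Submodule B Ω[B⁄A]) := by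
      let e : (B ⧸ J) ≃ₗ[B] C :=
        (Ideal.quotientKerAlgEquivOfSurjective (f := Algebra.ofId B C) hsurjBC).toLinearEquiv
      rw [← Submodule.Quotient.mk_eq_zero, ← TensorProduct.quotTensorEquivQuotSMul_mk_one_tmul,
        LinearEquiv.map_eq_zero_iff]
      apply (e.rTensor Ω[B⁄A]).injective
      rw [map_zero, LinearEquiv.rTensor_tmul, show e 1 = 1 from map_one (Ideal.quotientKerAlgEquivOfSurjective (f := Algebra.ofId B C) hsurjBC)]
      exact hz
    have hzero : der.liftKaehlerDifferential (KaehlerDifferential.D A B x) = 0 := by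
      refine Submodule.smul_induction_on (p := fun w => der.liftKaehlerDifferential w = 0) hdx (fun j hj w _ => ?_) (fun u v hu hv => by rw [map_add, hu, hv, add_zero])
      rw [map_smul, Algebra.smul_def]
      exact hmul _ _ (Submodule.mem_map_of_mem (f := (Ideal.Quotient.mk (J ^ 2)).toSemilinearMap) hj) (hl w)
    rw [Derivation.liftKaehlerDifferential_comp_D] at hzero
    obtain ⟨a, ha⟩ := Ideal.toCotangent_surjective _ (r (J.toCotangent x))
    refine ⟨r (J.toCotangent x), ?_⟩
    rw [← ha, Ideal.mapCotangent_toCotangent, Ideal.toCotangent_eq]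
    have h2 := hr x
    rw [← ha] at h2
    have h3 : φ (σ x) = Ideal.Quotient.mk (J ^ 2) (algebraMap A B a) := by
      rw [← h2]; rfl
    have h4 : Ideal.Quotient.mk (J ^ 2) (x : B) - φ (σ x) = 0 := hzero
    rw [h3, sub_eq_zero] at h4
    exact Ideal.Quotient.eq.1 h4.symm
  · intro t
    haveI := KaehlerDifferential.subsingleton_of_surjective A C hC
    exact ((KaehlerDifferential.exact_kerCotangentToTensor_mapBaseChange A B C hsurjBC) t).1 (Subsingleton.elim _ _)

end Groth.Agent.S9450
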