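import Groth.Statements.S9451
import Groth.Agent.H20.DescentModel
import Mathlib.Algebra.Category.Ring.FilteredColimits
import Mathlib.CategoryTheory.Limits.ConcreteCategory.Basic

set_option autoImplicit false
universe u
open CategoryTheory CategoryTheory.Limits TensorProduct
open CAlg

namespace Groth.Agent.S9451

/-- Let (A_i) be a filtered system of rings with colimit A and B a smooth A-algebra. Then some stage A_i
carries a smooth A_i-algebra B_i with B isomorphic to A ⊗_{A_i} B_i as A-algebras (the base change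
along the colimit map A_i → A; existence of an isomorphism). -/
theorem result {I : Type u} [SmallCategory I] [IsFiltered I]
    (D : I ⥤ CommRingCat.{u}) (c : Cocone D) (hc : IsColimit c) (B : Type u) [CommRing B]
    [Algebra c.pt B] [Algebra.Smooth c.pt B] :
    ∃ (i : I) (Bi : Type u) (_ : CommRing Bi) (_ : Algebra (D.obj i) Bi),
      Algebra.Smooth (D.obj i) Bi ∧
      (letI : Algebra (D.obj i) c.pt := (c.ι.app i).hom.toAlgebra
       Nonempty (B ≃ₐ[c.pt] (c.pt ⊗[D.obj i] Bi))) := by
  haveI := IsFiltered.nonempty (C := I)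
  refine Groth.Agent.H20.Descent.exists_smooth_model (G := fun i => (D.obj i : Type u)) (A := c.pt) (g := fun i => (c.ι.app i).hom) ?_ B
  have hw : ∀ {i j : I} (φ : i ⟶ j) (x : D.obj i),
      (c.ι.app j).hom ((D.map φ).hom x) = (c.ι.app i).hom x := fun φ x =>
    congrArg (fun m => CommRingCat.Hom.hom m x) (c.w φ)
  refine ⟨fun i j => ⟨IsFiltered.max i j,
      ⟨(D.map (IsFiltered.leftToMax i j)).hom.toIntAlgHom, AlgHom.ext fun x => hw _ x⟩,
      (D.map (IsFiltered.rightToMax i j)).hom.toIntAlgHom, AlgHom.ext fun x => hw _ x⟩,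
    fun a => Limits.Concrete.isColimit_exists_rep D hc a, fun i x hx => ?_⟩
  obtain ⟨k, f, f', hff⟩ := (Limits.Concrete.isColimit_rep_eq_iff_exists D hc x (0 : D.obj i)).mp
    (by change (c.ι.app i).hom x = (c.ι.app i).hom 0; rw [map_zero]; exact hx)
  refine ⟨k, (D.map f).hom.toIntAlgHom, AlgHom.ext fun x => hw _ x, ?_⟩
  change (D.map f).hom x = 0
  exact hff.trans (map_zero (D.map f').hom)

end Groth.Agent.S9451
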