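import Groth.Statements.S9452
import Groth.Agent.Lib.Unram.EtaleSplit

set_option autoImplicit false
universe u
open Unram

namespace Groth.Agent.S9452

open TensorProduct in
/-- Let R → S be of finite type and unramified at a prime q lying over p. Then there are an étale
R-algebra R', a prime p' of R' over p and an R'-algebra isomorphism e : R' ⊗_R S ≅ A × B with R' → A
surjective and p'A a prime ideal of A lying over p' whose pull-back along S → R' ⊗_R S ≅ A × B → A
is q. -/
theorem result (R : Type u) [CommRing R]
    (S : Type u) [CommRing S] [Algebra R S] [Algebra.FiniteType R S] (q : Ideal S) [q.IsPrime]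
    [Algebra.IsUnramifiedAt R q] :
    ∃ (R' : Type u) (_ : CommRing R') (_ : Algebra R R') (_ : Algebra.Etale R R') (p' : Ideal R')
      (_ : p'.IsPrime) (_ : p'.LiesOver (q.under R)) (A : Type u) (_ : CommRing A) (_ : Algebra R' A)
      (B : Type u) (_ : CommRing B) (_ : Algebra R' B) (e : (R' ⊗[R] S) ≃ₐ[R'] (A × B)),
      Function.Surjective (algebraMap R' A) ∧ (p'.map (algebraMap R' A)).IsPrime ∧
        (p'.map (algebraMap R' A)).comap (algebraMap R' A) = p' ∧
        (p'.map (algebraMap R' A)).comap (((RingHom.fst A B).comp e.toRingHom).comp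
          (Algebra.TensorProduct.includeRight : S →ₐ[R] R' ⊗[R] S).toRingHom) = q := by
  obtain ⟨f, hf, P, φ, hφ⟩ := Algebra.IsUnramifiedAt.exists_hasStandardEtaleSurjectionOn (R := R) q
  let _ : Algebra P.Ring (Localization.Away f) := φ.toRingHom.toAlgebra
  have : IsScalarTower R P.Ring (Localization.Away f) := .of_algebraMap_eq fun x => (φ.commutes x).symm
  have : Algebra.Etale S (Localization.Away f) := Algebra.Etale.of_isLocalizationAway f
  obtain ⟨B, _, _, e, he⟩ :=
    Groth.Agent.Lib.Unram.EtaleSplit.exists_prod R S P.Ring (Localization.Away f) hφ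
  have hd : Disjoint (Submonoid.powers f : Set S) q := Set.disjoint_left.mpr fun a ha haq => by
    obtain ⟨n, rfl⟩ := ha
    exact hf (‹q.IsPrime›.mem_of_pow_mem n haq)
  let Q : Ideal (Localization.Away f) := q.map (algebraMap S (Localization.Away f))
  have hQ : Q.IsPrime :=
    IsLocalization.isPrime_of_isPrime_disjoint (Submonoid.powers f) _ q inferInstance hd
  have hQq : Q.comap (algebraMap S (Localization.Away f)) = q :=
    IsLocalization.under_map_of_isPrime_disjoint (Submonoid.powers f) _ inferInstance hd
  let p' : Ideal P.Ring := Q.comap (algebraMap P.Ring (Localization.Away f))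
  have hmap : p'.map (algebraMap P.Ring (Localization.Away f)) = Q :=
    Ideal.map_comap_of_surjective _ hφ Q
  have hlies : p'.LiesOver (q.under R) := ⟨by
    change q.comap (algebraMap R S) = p'.comap (algebraMap R P.Ring)
    rw [← hQq]
    ext r
    simp only [Ideal.mem_comap, p', ← IsScalarTower.algebraMap_apply]⟩
  refine ⟨P.Ring, inferInstance, inferInstance, inferInstance, p', inferInstance, hlies,
    Localization.Away f, inferInstance, inferInstance, B, inferInstance, inferInstance, e, hφ,
    hmap ▸ hQ, by rw [hmap], ?_⟩
  rw [hmap]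
  conv_rhs => rw [← hQq]
  congr 1
  exact RingHom.ext he

end Groth.Agent.S9452
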