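import Groth.Statements.S9455
import Groth.Agent.Lib.Cohen.Exists
import Mathlib.RingTheory.Smooth.Basic
import Mathlib.RingTheory.WittVector.Identities
import Mathlib.Data.ZMod.Basic

set_option autoImplicit false
universe u
open CAlg

namespace Groth.Agent.S9455

set_option maxHeartbeats 1000000

open IsLocalRing EGA41 Groth.Agent.Lib.PBasis.Basic

lemma indep_pow {R : Type u} [CommRing R] [IsLocalRing R] {p : ℕ} [Fact p.Prime] {ι : Type u} {b : ι → R}
    (hb : Groth.Agent.Lib.Cohen.Powers.IsPLift p b) (m : ℕ) :
    ∀ (s : Finset (ι →₀ ℕ)), (∀ e ∈ s, ∀ i, e i < p ^ m) → ∀ c : (ι →₀ ℕ) → ResidueField R,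
      (∑ e ∈ s, c e ^ p ^ m * pMonomial (fun i => residue R (b i)) e) = 0 → ∀ e ∈ s, c e = 0 := by
  classical
  haveI := Groth.Agent.Lib.Cohen.Powers.charP hb
  have hp : p.Prime := Fact.out
  induction m with
  | zero =>
    intro s hs c hc e he
    have h0 : ∀ e ∈ s, e = 0 := fun e he => Finsupp.ext fun i => by simpa using hs e he i
    rw [Finset.sum_eq_single e (fun e' he' hne => absurd ((h0 e' he').trans (h0 e he).symm) hne) (fun h => absurd he h),
      h0 e he, pMonomial_zero, mul_one, pow_zero, pow_one] at hc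
    rw [h0 e he]; exact hc
  | succ m ih =>
    intro s hs c hc
    let x : ι → ResidueField R := fun i => residue R (b i)
    let r : (ι →₀ ℕ) → Exp p ι := fun e =>
      ⟨e.mapRange (· % p) (Nat.zero_mod p), fun i => by simpa using Nat.mod_lt _ hp.pos⟩
    let q : (ι →₀ ℕ) → (ι →₀ ℕ) := fun e => e.mapRange (· / p) (Nat.zero_div p)
    have hqr : ∀ e, e = p • q e + (r e).1 := fun e => Finsupp.ext fun i => by
      simpa [q, r] using (Nat.div_add_mod (e i) p).symm
    let S : Exp p ι → ResidueField R := fun t => ∑ e ∈ s.filter (fun e => r e = t), c e ^ p ^ m * pMonomial x (q e)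
    let d : Exp p ι →₀ ResidueField R := Finsupp.onFinset (s.image r) S fun t ht => by
      by_contra hne
      exact ht (Finset.sum_eq_zero fun e he => absurd (Finset.mem_filter.1 he)
        (fun h => hne (Finset.mem_image.2 ⟨e, h.1, h.2⟩)))
    have hd : d = 0 := by
      refine hb.indep d ?_
      rw [Finsupp.onFinset_sum _ (fun t => by rw [zero_pow hp.ne_zero, zero_mul])]
      rw [← hc, ← Finset.sum_fiberwise_of_maps_to (g := r) (t := s.image r) (fun e he => Finset.mem_image_of_mem r he)]
      refine Finset.sum_congr rfl fun t _ => ?_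
      show S t ^ p * _ = _
      simp only [S, sum_pow_char, Finset.sum_mul]
      refine Finset.sum_congr rfl fun e he => ?_
      rw [Finset.mem_filter] at he
      have hmon : pMonomial x e = pMonomial x (q e) ^ p * pMonomial x (r e).1 := by
        conv_lhs => rw [hqr e, pMonomial_add]
        congr 1
        simp only [pMonomial, Finsupp.prod]
        rw [Finsupp.support_smul_eq hp.ne_zero, ← Finset.prod_pow]
        exact Finset.prod_congr rfl fun i _ => by rw [Finsupp.smul_apply, smul_eq_mul, ← pow_mul, mul_comm]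
      rw [show pMonomial (fun i => residue R (b i)) e = pMonomial x e from rfl, hmon, ← he.2, mul_pow, ← pow_mul,
        ← pow_succ, mul_assoc]
    intro e he
    have hS : S (r e) = 0 := DFunLike.congr_fun hd (r e)
    let s' := s.filter fun e' => r e' = r e
    have hinj : Set.InjOn q s' := fun a ha a' ha' h => by
      rw [hqr a, hqr a', h, (Finset.mem_filter.1 ha).2, (Finset.mem_filter.1 ha').2]
    have := ih (s'.image q) (fun t ht i => by
      obtain ⟨a, ha, rfl⟩ := Finset.mem_image.1 ht
      have := hs a (Finset.mem_filter.1 ha).1 i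
      simp only [q, Finsupp.mapRange_apply]
      exact Nat.div_lt_of_lt_mul (by rwa [← pow_succ'])) (fun t => c (p • t + (r e).1)) (by
      rw [Finset.sum_image hinj, ← hS]
      refine Finset.sum_congr rfl fun a ha => ?_
      rw [← (Finset.mem_filter.1 ha).2, ← hqr a]) (q e) (Finset.mem_image_of_mem q (Finset.mem_filter.2 ⟨he, rfl⟩))
    rwa [← hqr e] at this

lemma pow_add_sq_zero {C : Type*} [CommRing C] (y ε : C) (hε : ε * ε = 0) (M : ℕ) :
    (y + ε) ^ M = y ^ M + (M : C) * y ^ (M - 1) * ε := by
  induction M with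
  | zero => simp
  | succ M ih =>
    rw [pow_succ, ih]
    rcases M with _ | M
    · simp
    · try simp only [Nat.add_sub_cancel, Nat.cast_succ]
      push_cast
      linear_combination ((M : C) + 1) * y ^ M * hε

lemma term_eq {C : Type*} [CommRing C] {p n i : ℕ} (hpn : (p : C) ^ n = 0) (hi : i ≤ n) (y ε : C) (hε : ε * ε = 0) :
    (p : C) ^ i * (y + ε) ^ p ^ (n - i) = (p : C) ^ i * y ^ p ^ (n - i) := by
  rw [pow_add_sq_zero y ε hε, mul_add, Nat.cast_pow, ← mul_assoc, ← mul_assoc, ← pow_add, Nat.add_sub_cancel' hi,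
    hpn, zero_mul, zero_mul, add_zero]

lemma term_zero {C : Type*} [CommRing C] {p n i : ℕ} (hp : 1 < p) (hpn : (p : C) ^ n = 0) (hi : i ≤ n) (u : C) :
    (p : C) ^ i * ((p : C) * u) ^ p ^ (n - i) = 0 := by
  have := Nat.lt_pow_self (n := n - i) hp
  rw [mul_pow, ← mul_assoc, ← pow_add, pow_eq_zero_of_le (by omega) hpn, zero_mul]

theorem exists_lift {R : Type u} [CommRing R] [IsLocalRing R] (p : ℕ) [Fact p.Prime] (n : ℕ) (hn : 1 ≤ n)
    (hmR : maximalIdeal R = Ideal.span {(p : R)}) (hpn : (p : R) ^ n = 0)
    (htor : ∀ i, i ≤ n → ∀ x : R, (p : R) ^ i * x = 0 → ∃ y, x = (p : R) ^ (n - i) * y)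
    (C : Type u) [CommRing C] (N : Ideal C) (hpC : (p : C) ^ n = 0) (hN : N ^ 2 = ⊥) (f : R →+* C ⧸ N) :
    ∃ h : R →+* C, ∀ x, Ideal.Quotient.mk N (h x) = f x := by
  classical
  have hp : p.Prime := Fact.out
  have hsq : ∀ ε ∈ N, ε * ε = 0 := fun ε h => by
    have := Ideal.mul_mem_mul h h; rwa [← pow_two, hN, Ideal.mem_bot] at this
  obtain ⟨ι, b, hb⟩ := Groth.Agent.Lib.Cohen.Exists.exists_pLift R p (hmR ▸ Ideal.mem_span_singleton_self _)
  let π := Ideal.Quotient.mk N
  choose c hc using fun i => Ideal.Quotient.mk_surjective (I := N) (f (b i))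
  let w : WittVector p R →+* R := WittVector.ghostComponent n
  let wC : WittVector p C →+* C := WittVector.ghostComponent n
  have hgh : ∀ {S : Type u} [CommRing S] (x : WittVector p S),
      WittVector.ghostComponent n x = ∑ i ∈ Finset.range (n + 1), (p : S) ^ i * x.coeff i ^ p ^ (n - i) := by
    intro S _ x
    rw [WittVector.ghostComponent_apply, aeval_wittPolynomial]
  have hkerC : RingHom.ker (WittVector.map π : WittVector p C →+* _) ≤ RingHom.ker wC := by
    intro x hx
    rw [RingHom.mem_ker] at hx ⊢
    show WittVector.ghostComponent n x = 0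
    rw [hgh]
    refine Finset.sum_eq_zero fun i hi => ?_
    have hxi : x.coeff i ∈ N := Ideal.Quotient.eq_zero_iff_mem.1 (by
      have := congrArg (fun z : WittVector p (C ⧸ N) => z.coeff i) hx
      simpa [WittVector.map_coeff] using this)
    have := term_eq hpC (Nat.lt_succ_iff.1 (Finset.mem_range.1 hi)) 0 (x.coeff i) (hsq _ hxi)
    rw [zero_add, zero_pow (pow_ne_zero _ hp.ne_zero), mul_zero] at this
    exact this
  let g : WittVector p (C ⧸ N) →+* C :=
    (WittVector.map π : WittVector p C →+* _).liftOfSurjective (WittVector.map_surjective π Ideal.Quotient.mk_surjective) ⟨wC, hkerC⟩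
  have hg : ∀ x, g (WittVector.map π x) = wC x := fun x =>
    RingHom.liftOfRightInverse_comp_apply _ _ _ ⟨wC, hkerC⟩ x
  let θ : WittVector p R →+* C := g.comp (WittVector.map f)
  let V : {S : Type u} → [CommRing S] → WittVector p S →+ WittVector p S := fun {S} _ => WittVector.verschiebung
  have hV : ∀ {S : Type u} [CommRing S] (i : ℕ), i ≤ n → ∀ x : WittVector p S,
      WittVector.ghostComponent n ((⇑(V (S := S)))^[i] x) = (p : S) ^ i * WittVector.ghostComponent (n - i) x := by
    intro S _ i
    induction i with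
    | zero => intro _ x; simp
    | succ i ih =>
      intro hi x
      rw [Function.iterate_succ_apply, ih (by omega), show n - i = (n - (i + 1)) + 1 by omega,
        WittVector.ghostComponent_verschiebung, pow_succ, mul_assoc]
  have hmapV : ∀ {S T : Type u} [CommRing S] [CommRing T] (φ : S →+* T) (i : ℕ) (x : WittVector p S),
      WittVector.map φ ((⇑(V (S := S)))^[i] x) = (⇑(V (S := T)))^[i] (WittVector.map φ x) := by
    intro S T _ _ φ i
    induction i with
    | zero => intro x; rfl
    | succ i ih =>
      intro x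
      rw [Function.iterate_succ_apply, ih, Function.iterate_succ_apply]
      exact congrArg _ (WittVector.map_verschiebung φ x)
  have hteich : ∀ {S : Type u} [CommRing S] (i : ℕ), i ≤ n → ∀ y : S,
      WittVector.ghostComponent n ((⇑(V (S := S)))^[i] (WittVector.teichmuller p y)) = (p : S) ^ i * y ^ p ^ (n - i) := by
    intro S _ i hi y
    rw [hV i hi, WittVector.ghostComponent_teichmuller]
  have hθt : ∀ i, i ≤ n → ∀ (y : R) (y' : C), π y' = f y →
      θ ((⇑(V (S := R)))^[i] (WittVector.teichmuller p y)) = (p : C) ^ i * y' ^ p ^ (n - i) := by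
    intro i hi y y' hy
    show g (WittVector.map f _) = _
    rw [hmapV, WittVector.map_teichmuller, ← hy, ← WittVector.map_teichmuller, ← hmapV, hg]
    exact hteich i hi y'
  have hθV : ∀ i, i ≤ n → ∀ x, ∃ u, θ ((⇑(V (S := R)))^[i] x) = (p : C) ^ i * u := by
    intro i hi x
    obtain ⟨x', hx'⟩ := WittVector.map_surjective π Ideal.Quotient.mk_surjective (WittVector.map f x)
    refine ⟨WittVector.ghostComponent (n - i) x', ?_⟩
    show g (WittVector.map f _) = _
    rw [hmapV, ← hx', ← hmapV, hg]
    exact hV i hi x'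
  let Φ : MvPolynomial ι (WittVector p R) →+* R := MvPolynomial.eval₂Hom w b
  let G : MvPolynomial ι (WittVector p R) →+* C := MvPolynomial.eval₂Hom θ c
  have hπθ : ∀ x, π (θ x) = f (w x) := by
    intro x
    obtain ⟨x', hx'⟩ := WittVector.map_surjective π Ideal.Quotient.mk_surjective (WittVector.map f x)
    show π (g (WittVector.map f x)) = f (WittVector.ghostComponent n x)
    rw [← hx', hg]
    show π (WittVector.ghostComponent n x') = _
    rw [hgh, hgh, map_sum, map_sum]
    refine Finset.sum_congr rfl fun i _ => ?_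
    have := congrArg (fun z : WittVector p (C ⧸ N) => z.coeff i) hx'
    simp only [WittVector.map_coeff] at this
    simp only [map_mul, map_pow, map_natCast, this]
  have hπG : π.comp G = f.comp Φ := MvPolynomial.ringHom_ext
    (fun r => by simp [G, Φ, hπθ]) (fun i => by simpa [G, Φ, π] using hc i)
  -- surjectivity
  have hsurj : Function.Surjective Φ := by
    have hU : ∀ z : ResidueField R, ∃ F, residue R (Φ F) = z := fun z => by
      obtain ⟨v, hv, rfl⟩ := Groth.Agent.Lib.Cohen.Powers.exists_residue hb n z
      have hle : Groth.Agent.Lib.Cohen.Powers.U p b n ≤ Φ.range := Subring.closure_le.2 (by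
        rintro _ (⟨y, rfl⟩ | ⟨i, rfl⟩)
        · refine ⟨MvPolynomial.C (WittVector.teichmuller p y), ?_⟩
          simp [Φ, w, WittVector.ghostComponent_teichmuller]
        · exact ⟨MvPolynomial.X i, by simp [Φ]⟩)
      obtain ⟨F, hF⟩ := hle hv
      exact ⟨F, by rw [hF]⟩
    have step : ∀ k (x : R), ∃ F y, x = Φ F + (p : R) ^ k * y := by
      intro k
      induction k with
      | zero => intro x; exact ⟨0, x, by simp⟩
      | succ k ih =>
        intro x
        obtain ⟨F, y, rfl⟩ := ih x
        obtain ⟨F', hF'⟩ := hU (residue R y)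
        obtain ⟨z, hz⟩ : ∃ z, y - Φ F' = (p : R) * z := by
          have : y - Φ F' ∈ maximalIdeal R := by rw [← residue_eq_zero_iff, map_sub, hF', sub_self]
          rw [hmR, Ideal.mem_span_singleton] at this
          exact this
        refine ⟨F + (p : MvPolynomial ι (WittVector p R)) ^ k * F', z, ?_⟩
        rw [map_add, map_mul, map_pow, map_natCast]
        linear_combination (p : R) ^ k * hz
    intro x
    obtain ⟨F, y, rfl⟩ := step n x
    exact ⟨F, by rw [hpn, zero_mul, add_zero]⟩
  -- the kernel
  have key : ∀ j i, i + j = n → ∀ F : MvPolynomial ι (WittVector p R),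
      (∀ e, ∃ x, F.coeff e = (⇑(V (S := R)))^[i] x) → Φ F = 0 → G F = 0 := by
    intro j
    induction j with
    | zero =>
      intro i hi F hF _
      rw [F.as_sum, map_sum]
      refine Finset.sum_eq_zero fun e _ => ?_
      obtain ⟨x, hx⟩ := hF e
      obtain ⟨u, hu⟩ := hθV i (by omega) x
      rw [show G (MvPolynomial.monomial e (F.coeff e)) = θ (F.coeff e) * e.prod (fun l k => c l ^ k) from MvPolynomial.eval₂Hom_monomial ..,
        hx, hu, show i = n by omega, hpC, zero_mul, zero_mul]
    | succ j ih =>
      intro i hij F hF hΦF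
      choose x hx using hF
      let m := n - i
      have hm : 0 < p ^ m := pow_pos hp.pos m
      let r : (ι →₀ ℕ) → (ι →₀ ℕ) := fun e => e.mapRange (· % p ^ m) (Nat.zero_mod _)
      let q : (ι →₀ ℕ) → (ι →₀ ℕ) := fun e => e.mapRange (· / p ^ m) (Nat.zero_div _)
      have hqr : ∀ e, e = p ^ m • q e + r e := fun e => Finsupp.ext fun l => by
        simpa [q, r] using (Nat.div_add_mod (e l) (p ^ m)).symm
      let z : (ι →₀ ℕ) → R := fun e => (x e).coeff 0 * pMonomial b (q e)
      let T := F.support.image r
      let Z : (ι →₀ ℕ) → R := fun t => ∑ e ∈ F.support.filter (fun e => r e = t), z e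
      have hdec : ∀ y : WittVector p R, ∃ y', y = WittVector.teichmuller p (y.coeff 0) + V y' := fun y => by
        refine ⟨(y - WittVector.teichmuller p (y.coeff 0)).shift 1, ?_⟩
        have h0 : (y - WittVector.teichmuller p (y.coeff 0)).coeff 0 = 0 := by
          show WittVector.constantCoeff (y - WittVector.teichmuller p (y.coeff 0)) = 0
          rw [map_sub, sub_eq_zero]
          exact (WittVector.teichmuller_coeff_zero p _).symm
        have := WittVector.eq_iterate_verschiebung (x := y - WittVector.teichmuller p (y.coeff 0)) (n := 1)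
          (fun l hl => by rw [Nat.lt_one_iff.1 hl]; exact h0)
        rw [Function.iterate_one] at this
        rw [← this]; exact (add_sub_cancel _ _).symm
      choose x' hx' using fun e => hdec (x e)
      choose y' hy' using fun t => hdec (∑ e ∈ F.support.filter (fun e => r e = t), WittVector.teichmuller p (z e))
      have hy0 : ∀ t, (∑ e ∈ F.support.filter (fun e => r e = t), WittVector.teichmuller p (z e)).coeff 0 = Z t := by
        intro t
        show WittVector.constantCoeff (∑ e ∈ F.support.filter (fun e => r e = t), WittVector.teichmuller p (z e)) = Z t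
        rw [map_sum]
        exact Finset.sum_congr rfl fun e _ => WittVector.teichmuller_coeff_zero p _
      let Vi : WittVector p R →+ WittVector p R :=
        { toFun := (⇑(V (S := R)))^[i], map_zero' := iterate_map_zero _ i, map_add' := iterate_map_add _ i }
      let F' : MvPolynomial ι (WittVector p R) :=
        (∑ e ∈ F.support, MvPolynomial.monomial e (Vi (V (x' e)))) + ∑ t ∈ T, MvPolynomial.monomial t (Vi (V (y' t)))
      have main : ∀ {S : Type u} [CommRing S] (χ : WittVector p R →+* S) (d : ι → S),
          (∀ e, χ (Vi (WittVector.teichmuller p ((x e).coeff 0))) * pMonomial d e =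
            χ (Vi (WittVector.teichmuller p (z e))) * pMonomial d (r e)) →
          MvPolynomial.eval₂Hom χ d F = (∑ t ∈ T, χ (Vi (WittVector.teichmuller p (Z t))) * pMonomial d t) +
            MvPolynomial.eval₂Hom χ d F' := by
        intro S _ χ d hd
        simp only [F', map_add, map_sum, MvPolynomial.eval₂Hom_monomial]
        rw [add_left_comm, ← Finset.sum_add_distrib]
        conv_lhs => rw [F.as_sum, map_sum]
        have hg2 : ∀ t ∈ T, χ (Vi (WittVector.teichmuller p (Z t))) * pMonomial d t + χ (Vi (V (y' t))) * pMonomial d t =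
            ∑ e ∈ F.support.filter (fun e => r e = t), χ (Vi (WittVector.teichmuller p (z e))) * pMonomial d (r e) := by
          intro t _
          rw [← add_mul, ← map_add, ← map_add, ← hy0, ← hy', map_sum, map_sum, Finset.sum_mul]
          exact Finset.sum_congr rfl fun e he => by rw [(Finset.mem_filter.1 he).2]
        refine Eq.trans ?_ (congrArg _ (Finset.sum_congr rfl hg2).symm)
        rw [Finset.sum_fiberwise_of_maps_to (g := r) (fun e he => Finset.mem_image_of_mem r he), ← Finset.sum_add_distrib]
        refine Finset.sum_congr rfl fun e _ => ?_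
        rw [MvPolynomial.eval₂Hom_monomial, hx e, show (⇑(V (S := R)))^[i] (x e) = Vi (x e) from rfl]
        conv_lhs => rw [hx' e, map_add, map_add, add_mul]
        rw [add_comm]
        exact congrArg₂ (· + ·) rfl (hd e)
      have hmon : ∀ {S : Type u} [CommRing S] (d : ι → S) e, pMonomial d e = pMonomial d (q e) ^ p ^ m * pMonomial d (r e) := by
        intro S _ d e
        conv_lhs => rw [hqr e, pMonomial_add]
        congr 1
        simp only [pMonomial, Finsupp.prod]
        rw [Finsupp.support_smul_eq hm.ne', ← Finset.prod_pow]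
        exact Finset.prod_congr rfl fun l _ => by rw [Finsupp.smul_apply, smul_eq_mul, ← pow_mul, mul_comm]
      have hw := main w b fun e => by
        show WittVector.ghostComponent n ((⇑(V (S := R)))^[i] _) * _ = WittVector.ghostComponent n ((⇑(V (S := R)))^[i] _) * _
        rw [hteich i (by omega), hteich i (by omega), hmon b e]
        show _ = (p : R) ^ i * ((x e).coeff 0 * pMonomial b (q e)) ^ p ^ (n - i) * _
        rw [mul_pow]; ring
      choose L hL using fun y : R => Ideal.Quotient.mk_surjective (I := N) (f y)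
      have hθ := main θ c fun e => by
        show θ ((⇑(V (S := R)))^[i] _) * _ = θ ((⇑(V (S := R)))^[i] _) * _
        rw [hθt i (by omega) _ _ (hL ((x e).coeff 0)), hθt i (by omega) (z e) (L ((x e).coeff 0) * pMonomial c (q e)) (by
          rw [map_mul, map_mul]
          refine congrArg₂ (· * ·) (hL _) ?_
          rw [map_pMonomial, map_pMonomial]
          simp only [π, hc]), hmon c e, mul_pow]
        ring
      have hF' : ∀ e, ∃ y, F'.coeff e = (⇑(V (S := R)))^[i + 1] y := by
        intro e
        have hVi : ∀ y, (⇑(V (S := R)))^[i + 1] y = Vi (V y) := fun y => Function.iterate_succ_apply _ i y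
        refine ⟨(if e ∈ F.support then x' e else 0) + if e ∈ T then y' e else 0, ?_⟩
        simp only [hVi, map_add, F', MvPolynomial.coeff_add, MvPolynomial.coeff_sum, MvPolynomial.coeff_monomial,
          Finset.sum_ite_eq']
        congr 1 <;> split_ifs <;> simp
      have hdiv : ∃ u, Φ F' = (p : R) ^ (i + 1) * u := by
        rw [F'.as_sum, map_sum]
        refine dvd_def.1 (Finset.dvd_sum fun e _ => ?_)
        obtain ⟨y, hy⟩ := hF' e
        simp only [Φ, MvPolynomial.eval₂Hom_monomial, hy]
        exact Dvd.dvd.mul_right ⟨_, hV (i + 1) (by omega) y⟩ _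
      have hZ : ∀ t ∈ T, ∃ u, Z t = (p : R) * u := by
        obtain ⟨u, hu⟩ := hdiv
        have hsum : (p : R) ^ i * ((∑ t ∈ T, Z t ^ p ^ m * pMonomial b t) + (p : R) * u) = 0 := by
          have hΦF0 : MvPolynomial.eval₂Hom w b F = 0 := hΦF
          rw [mul_add, ← mul_assoc, ← pow_succ, ← hu, ← hΦF0, hw, Finset.mul_sum]
          refine congrArg (· + Φ F') (Finset.sum_congr rfl fun t _ => ?_)
          show _ = WittVector.ghostComponent n ((⇑(V (S := R)))^[i] _) * _
          rw [hteich i (by omega), mul_assoc]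
        obtain ⟨y, hy⟩ := htor i (by omega) _ hsum
        have h0 : ∑ t ∈ T, residue R (Z t) ^ p ^ m * pMonomial (fun l => residue R (b l)) t = 0 := by
          have hpr : residue R (p : R) = 0 := by rw [residue_eq_zero_iff, hmR]; exact Ideal.mem_span_singleton_self _
          have := congrArg (residue R) hy
          simpa [map_sum, hpr, zero_pow (show n - i ≠ 0 by omega),
            Groth.Agent.Lib.Cohen.Powers.residue_pMonomial] using this
        intro t ht
        have := indep_pow hb m T (fun t ht l => by
          obtain ⟨e, _, rfl⟩ := Finset.mem_image.1 ht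
          simpa [r] using Nat.mod_lt _ hm) (fun t => residue R (Z t)) h0 t ht
        rw [residue_eq_zero_iff, hmR, Ideal.mem_span_singleton] at this
        exact this
      have hw0 : ∑ t ∈ T, w (Vi (WittVector.teichmuller p (Z t))) * pMonomial b t = 0 := by
        refine Finset.sum_eq_zero fun t ht => ?_
        obtain ⟨u, hu⟩ := hZ t ht
        show WittVector.ghostComponent n ((⇑(V (S := R)))^[i] _) * _ = 0
        rw [hteich i (by omega), hu, term_zero hp.one_lt hpn (by omega), zero_mul]
      have hθ0 : ∑ t ∈ T, θ (Vi (WittVector.teichmuller p (Z t))) * pMonomial c t = 0 := by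
        refine Finset.sum_eq_zero fun t ht => ?_
        obtain ⟨u, hu⟩ := hZ t ht
        show θ ((⇑(V (S := R)))^[i] _) * _ = 0
        rw [hθt i (by omega) (Z t) ((p : C) * L u) (by rw [map_mul, map_natCast, hu, map_mul, map_natCast, hL]),
          term_zero hp.one_lt hpC (by omega), zero_mul]
      rw [hw0, zero_add] at hw
      rw [hθ0, zero_add] at hθ
      show MvPolynomial.eval₂Hom θ c F = 0
      rw [hθ]
      exact ih (i + 1) (by omega) F' hF' (hw.symm.trans hΦF)
  have hker : RingHom.ker Φ ≤ RingHom.ker G := fun F hF =>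
    key n 0 (zero_add n) F (fun e => ⟨_, rfl⟩) hF
  refine ⟨Φ.liftOfSurjective hsurj ⟨G, hker⟩, fun x => ?_⟩
  obtain ⟨F, rfl⟩ := hsurj x
  rw [RingHom.liftOfRightInverse_comp_apply _ _ _ ⟨G, hker⟩ F]
  exact RingHom.congr_fun hπG F


/-- If Λ is a Cohen ring (a complete discrete valuation ring with maximal ideal generated by a prime
number p) then Λ/p^nΛ is formally smooth over ℤ/p^nℤ for every n ≥ 1; the ℤ/p^nℤ-algebra structure
on Λ/p^nΛ is the unique one and is taken as a hypothesis. -/
theorem result (Λ : Type u) [CommRing Λ] [IsDomain Λ]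
    [IsDiscreteValuationRing Λ] [IsAdicComplete (IsLocalRing.maximalIdeal Λ) Λ] (p : ℕ)
    (hp : p.Prime) (hm : IsLocalRing.maximalIdeal Λ = Ideal.span {(p : Λ)}) (n : ℕ) (hn : 1 ≤ n)
    [Algebra (ZMod (p ^ n)) (Λ ⧸ Ideal.span {((p : Λ) ^ n)})] :
    Algebra.FormallySmooth (ZMod (p ^ n)) (Λ ⧸ Ideal.span {((p : Λ) ^ n)}) := by
  haveI := Fact.mk hp
  have hpne : (p : Λ) ≠ 0 := fun h => IsDiscreteValuationRing.not_a_field Λ (by rw [hm, h]; simp)
  let I : Ideal Λ := Ideal.span {((p : Λ) ^ n)}
  have hpm : (p : Λ) ∈ IsLocalRing.maximalIdeal Λ := hm ▸ Ideal.mem_span_singleton_self _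
  haveI : Nontrivial (Λ ⧸ I) := Ideal.Quotient.nontrivial_iff.2 fun h => (IsLocalRing.maximalIdeal.isMaximal Λ).ne_top
    (top_le_iff.1 (h ▸ (Ideal.span_singleton_le_iff_mem _).2 (Ideal.pow_mem_of_mem _ hpm n hn)))
  haveI : IsLocalRing (Λ ⧸ I) := IsLocalRing.of_surjective' _ Ideal.Quotient.mk_surjective
  have hmR : IsLocalRing.maximalIdeal (Λ ⧸ I) = Ideal.span {((p : ℕ) : Λ ⧸ I)} := by
    rw [← IsLocalRing.map_maximalIdeal_of_surjective (Ideal.Quotient.mk I) Ideal.Quotient.mk_surjective, hm,
      Ideal.map_span, Set.image_singleton, map_natCast]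
  have hpn : ((p : ℕ) : Λ ⧸ I) ^ n = 0 := by
    rw [← map_natCast (Ideal.Quotient.mk I), ← map_pow]
    exact Ideal.Quotient.eq_zero_iff_mem.2 (Ideal.mem_span_singleton_self _)
  refine (Algebra.FormallySmooth.iff_comp_surjective).2 fun C _ _ N hN f => ?_
  obtain ⟨h, hh⟩ := exists_lift p n hn hmR hpn (fun i hi x hx => by
    obtain ⟨x, rfl⟩ := Ideal.Quotient.mk_surjective x
    rw [← map_natCast (Ideal.Quotient.mk I), ← map_pow, ← map_mul, Ideal.Quotient.eq_zero_iff_mem,
      Ideal.mem_span_singleton, show n = i + (n - i) by omega, pow_add,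
      mul_dvd_mul_iff_left (pow_ne_zero _ hpne)] at hx
    obtain ⟨y, hy⟩ := hx
    exact ⟨Ideal.Quotient.mk I y, by rw [hy, map_mul, map_pow, map_natCast]⟩) C N (by
      rw [← map_natCast (algebraMap (ZMod (p ^ n)) C), ← map_pow, ← Nat.cast_pow, ZMod.natCast_self, map_zero]) hN
    f.toRingHom
  let hA : (Λ ⧸ I) →ₐ[ZMod (p ^ n)] C :=
    { h with commutes' := fun r => RingHom.congr_fun (RingHom.ext_zmod (h.comp (algebraMap _ _)) (algebraMap _ C)) r }
  exact ⟨hA, AlgHom.ext fun x => hh x⟩

end Groth.Agent.S9455
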