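import Groth.Statements.S9457
import Groth.Agent.Lib.Henselian.EtaleDecomp

set_option autoImplicit false
universe u
open CAlg

namespace Groth.Agent.S9457

open TensorProduct in
/-- For a finite type ring map R → S and a prime p of R there are an étale R-algebra R', a prime p' of
R' over p with trivial residue field extension κ(p) = κ(p') (the image of R generates κ(p') as a
field), and a decomposition R' ⊗_R S ≅ A_1 × ⋯ × A_n × B of R'-algebras in which every A_i is finite
over R' with exactly one prime lying over p' and R' → B is quasi-finite at no prime of B lying over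
p'. -/
theorem result (R : Type u) [CommRing R]
    (S : Type u) [CommRing S] [Algebra R S] [Algebra.FiniteType R S] (p : Ideal R) [p.IsPrime] :
    ∃ (R' : Type u) (_ : CommRing R') (_ : Algebra R R') (_ : Algebra.Etale R R') (p' : Ideal R')
      (_ : p'.IsPrime) (_ : p'.LiesOver p) (n : ℕ) (A : Fin n → Type u) (_ : ∀ i, CommRing (A i))
      (_ : ∀ i, Algebra R' (A i)) (B : Type u) (_ : CommRing B) (_ : Algebra R' B),
      Subfield.closure (Set.range (algebraMap R p'.ResidueField)) = ⊤ ∧
      Nonempty ((R' ⊗[R] S) ≃ₐ[R'] ((∀ i, A i) × B)) ∧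
        (∀ i, Module.Finite R' (A i) ∧
          ∃! r : Ideal (A i), r.IsPrime ∧ r.comap (algebraMap R' (A i)) = p') ∧
        ∀ (q : Ideal B) [q.IsPrime], q.comap (algebraMap R' B) = p' →
          ¬ Algebra.QuasiFiniteAt R' q := by
  obtain ⟨R', _, _, _, P, _, _, n, A, _, _, B, _, _, hbij, he, hA, hB⟩ :=
    Lib.Henselian.EtaleDecomp.decomp S p
  exact ⟨R', inferInstance, inferInstance, inferInstance, P, inferInstance, inferInstance, n, A,
    inferInstance, inferInstance, B, inferInstance, inferInstance,
    Lib.Henselian.EtaleDecomp.subfield_closure_eq_top P hbij, he, hA, fun q _ h => hB q h⟩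

end Groth.Agent.S9457
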