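import Groth.Statements.S9458
import Groth.Agent.Lib.Henselian.HenselBaseChange

set_option autoImplicit false
universe u
open Hensel

namespace Groth.Agent.S9458

open Groth.Agent.Lib.Henselian IsLocalRing TensorProduct

/-- Let R → S be of finite type and quasi-finite at a prime q lying over p, and let R_p^h, S_q^h be
henselizations of the local rings, S_q^h carrying the compatible R_p^h-algebra structure (the
canonical local map R_p^h → S_q^h). Then S_q^h is finite over R_p^h. (The published statement also
identifies S_q^h with a localization of R_p^h ⊗_{R_p} S_q; this row states only that S_q^h is finite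
over R_p^h.) -/
theorem result (R : Type u) [CommRing R] (S : Type u)
    [CommRing S] [Algebra R S] [Algebra.FiniteType R S] (p : Ideal R) [p.IsPrime] (q : Ideal S)
    [q.IsPrime] [q.LiesOver p] [Algebra.QuasiFiniteAt R q]
    (Rh : Type u) [CommRing Rh] [IsLocalRing Rh] [Algebra (Localization.AtPrime p) Rh]
    [IsLocalHom (algebraMap (Localization.AtPrime p) Rh)]
    [Hensel.IsHenselization (Localization.AtPrime p) Rh]
    (Sh : Type u) [CommRing Sh] [IsLocalRing Sh] [Algebra (Localization.AtPrime q) Sh]
    [IsLocalHom (algebraMap (Localization.AtPrime q) Sh)]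
    [Hensel.IsHenselization (Localization.AtPrime q) Sh]
    [Algebra (Localization.AtPrime p) (Localization.AtPrime q)]
    [IsScalarTower R (Localization.AtPrime p) (Localization.AtPrime q)]
    [Algebra Rh Sh] [Algebra (Localization.AtPrime p) Sh]
    [IsScalarTower (Localization.AtPrime p) Rh Sh]
    [IsScalarTower (Localization.AtPrime p) (Localization.AtPrime q) Sh] :
    Module.Finite Rh Sh := by
  classical
  let : Algebra R Rh := ((algebraMap (Localization.AtPrime p) Rh).comp (algebraMap R _)).toAlgebra
  let : Algebra S Sh := ((algebraMap (Localization.AtPrime q) Sh).comp (algebraMap S _)).toAlgebra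
  let : Algebra R Sh := ((algebraMap S Sh).comp (algebraMap R S)).toAlgebra
  have : IsScalarTower R (Localization.AtPrime p) Rh := IsScalarTower.of_algebraMap_eq' rfl
  have : IsScalarTower S (Localization.AtPrime q) Sh := IsScalarTower.of_algebraMap_eq' rfl
  have : IsScalarTower R S Sh := IsScalarTower.of_algebraMap_eq' rfl
  have : IsScalarTower R Rh Sh := IsScalarTower.of_algebraMap_eq fun a => by
    rw [IsScalarTower.algebraMap_apply R (Localization.AtPrime p) Rh,
      ← IsScalarTower.algebraMap_apply (Localization.AtPrime p) Rh Sh,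
      IsScalarTower.algebraMap_apply (Localization.AtPrime p) (Localization.AtPrime q) Sh,
      ← IsScalarTower.algebraMap_apply R (Localization.AtPrime p) (Localization.AtPrime q),
      IsScalarTower.algebraMap_apply R S (Localization.AtPrime q),
      ← IsScalarTower.algebraMap_apply S (Localization.AtPrime q) Sh,
      ← IsScalarTower.algebraMap_apply R S Sh]
  let φ : Rh ⊗[R] S →ₐ[Rh] Sh := Algebra.TensorProduct.lift (Algebra.ofId Rh Sh)
    (IsScalarTower.toAlgHom R S Sh) fun _ _ => Commute.all _ _
  let Q := (maximalIdeal Sh).comap φ.toRingHom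
  have hq : ∀ s, algebraMap S Sh s ∈ maximalIdeal Sh ↔ s ∈ q := fun s => by
    rw [IsScalarTower.algebraMap_apply S (Localization.AtPrime q) Sh,
      ← IsLocalization.AtPrime.to_map_mem_maximal_iff (Localization.AtPrime q) q s]
    simp
  have hRp : ∀ a, algebraMap R Sh a ∈ maximalIdeal Sh ↔ a ∈ p := fun a => by
    rw [IsScalarTower.algebraMap_apply R S Sh, hq, Ideal.LiesOver.over (P := q) (p := p), Ideal.mem_comap]
  have hRpSh : IsLocalHom ((algebraMap Rh Sh).comp (algebraMap (Localization.AtPrime p) Rh)) := by
    refine ((local_hom_TFAE _).out 0 2 rfl rfl).mpr ?_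
    rw [← Localization.AtPrime.map_eq_maximalIdeal, Ideal.map_map, Ideal.map_le_iff_le_comap]
    intro a ha
    rw [Ideal.mem_comap, RingHom.comp_apply, RingHom.comp_apply,
      ← IsScalarTower.algebraMap_apply R (Localization.AtPrime p) Rh, ← IsScalarTower.algebraMap_apply]
    exact (hRp a).mpr ha
  have : IsLocalHom (algebraMap Rh Sh) := HenselBaseChange.isLocalHom_of_comp
    (Henselization.map_maximalIdeal (R := Localization.AtPrime p) (S := Rh)) _
  have := (‹Hensel.IsHenselization (Localization.AtPrime q) Sh›).henselian
  have := (‹Hensel.IsHenselization (Localization.AtPrime p) Rh›).henselian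
  have hQm : Q.LiesOver (maximalIdeal Rh) := ⟨by
    rw [Ideal.under_def, Ideal.comap_comap,
      show φ.toRingHom.comp (algebraMap Rh _) = algebraMap Rh Sh from φ.comp_algebraMap,
      ((local_hom_TFAE (algebraMap Rh Sh)).out 0 4 rfl rfl).mp inferInstance]⟩
  have : Algebra.QuasiFiniteAt Rh Q := Algebra.QuasiFiniteAt.baseChange q _ (by
    ext s
    rw [Ideal.mem_comap, Ideal.mem_comap]
    exact ((hq s).symm.trans (by simp [φ])))
  let L := Localization.AtPrime Q
  have : Module.Finite Rh L := QFLocalization.finite_localization Q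
  have : HenselianLocalRing L := LocalRing.henselianLocalRing_of_isIntegral Rh L
  have hu : ∀ y : Q.primeCompl, IsUnit (φ y) := fun y => not_not.mp fun hy => y.2 hy
  let π : L →ₐ[Rh] Sh := IsLocalization.liftAlgHom (M := Q.primeCompl) (f := φ) hu
  have hπd : ∀ d, π (algebraMap _ L d) = φ d := fun d => IsLocalization.lift_eq _ d
  have : IsLocalHom π.toRingHom := ⟨fun x hx => by
    obtain ⟨c, t, rfl⟩ := IsLocalization.exists_mk'_eq Q.primeCompl x
    refine (IsLocalization.AtPrime.isUnit_mk'_iff (S := L) Q c t).mpr fun hc => hc ?_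
    show IsUnit (φ c)
    rw [← hπd, ← IsLocalization.mk'_spec L c t, map_mul]
    exact hx.mul ((hπd t).symm ▸ hu t)⟩
  let ιS : S →+* L := (algebraMap (Rh ⊗[R] S) L).comp
    (Algebra.TensorProduct.includeRight : S →ₐ[R] Rh ⊗[R] S).toRingHom
  have hπS : π.toRingHom.comp ιS = algebraMap S Sh := RingHom.ext fun s => (hπd _).trans (by simp [φ])
  have huS : ∀ y : q.primeCompl, IsUnit (ιS y) := fun y => IsUnit.of_map π.toRingHom _ (by
    rw [← RingHom.comp_apply, hπS]
    exact not_not.mp fun hn => y.2 ((hq y).mp hn))
  let θ : Localization.AtPrime q →+* L := IsLocalization.lift huS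
  have hθ : π.toRingHom.comp θ = algebraMap (Localization.AtPrime q) Sh :=
    IsLocalization.ringHom_ext q.primeCompl (by
      rw [RingHom.comp_assoc, IsLocalization.lift_comp, hπS, ← IsScalarTower.algebraMap_eq])
  have hbij := HenselBaseChange.bijective π.toRingHom θ hθ fun g hg hgθ => by
    have hgS : g.comp ιS = ιS := by
      rw [← IsLocalization.lift_comp huS (S := Localization.AtPrime q), ← RingHom.comp_assoc]
      exact congrArg (RingHom.comp · _) hgθ
    have : IsLocalHom (algebraMap Rh L) := ⟨fun x hx => isUnit_of_map_unit (algebraMap Rh Sh) x (by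
      rw [← π.commutes]
      exact hx.map π.toRingHom)⟩
    have hgR : g.comp (algebraMap Rh L) = algebraMap Rh L := by
      refine ((‹Hensel.IsHenselization (Localization.AtPrime p) Rh›).universal L
        ((algebraMap Rh L).comp (algebraMap (Localization.AtPrime p) Rh)) (RingHom.isLocalHom_comp _ _)).unique ?_ rfl
      refine IsLocalization.ringHom_ext p.primeCompl (RingHom.ext fun a => ?_)
      have h1 : algebraMap Rh L (algebraMap R Rh a) = ιS (algebraMap R S a) := by
        rw [IsScalarTower.algebraMap_apply Rh (Rh ⊗[R] S) L]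
        refine congrArg (algebraMap _ L) ?_
        show algebraMap Rh (Rh ⊗[R] S) (algebraMap R Rh a) =
          (Algebra.TensorProduct.includeRight : S →ₐ[R] Rh ⊗[R] S) (algebraMap R S a)
        rw [AlgHom.commutes, ← IsScalarTower.algebraMap_apply]
      show g (algebraMap Rh L _) = algebraMap Rh L _
      rw [← IsScalarTower.algebraMap_apply R (Localization.AtPrime p) Rh, h1]
      exact RingHom.congr_fun hgS _
    refine IsLocalization.ringHom_ext Q.primeCompl (RingHom.ext fun d => ?_)
    show g (algebraMap _ L d) = algebraMap _ L d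
    induction d using TensorProduct.induction_on with
    | zero => simp
    | tmul x s =>
      have e : x ⊗ₜ[R] s = algebraMap Rh (Rh ⊗[R] S) x * ((1 : Rh) ⊗ₜ[R] s) := by simp
      rw [e, map_mul, map_mul, ← IsScalarTower.algebraMap_apply Rh (Rh ⊗[R] S) L]
      exact congrArg₂ (· * ·) (RingHom.congr_fun hgR x) (RingHom.congr_fun hgS s)
    | add x y hx hy => rw [map_add, map_add, hx, hy]
  exact Module.Finite.equiv (AlgEquiv.ofBijective π hbij).toLinearEquiv

end Groth.Agent.S9458
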