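import Groth.Statements.S9459
import Groth.Agent.Lib.Henselian.HenselBaseChange

set_option autoImplicit false
universe u
open Hensel

namespace Groth.Agent.S9459

open Groth.Agent.Lib.Henselian IsLocalRing

open TensorProduct in
/-- Let R → S be a ring map, q a prime of S over p, and R^h, S^h henselizations of R_p and S_q, S^h
carrying the compatible R^h-algebra structure (the canonical map R^h → S^h). Let φ : R^h ⊗_R S → S^h
be the induced map and Q the preimage under φ of the maximal ideal (a prime lying over the maximal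
ideal of R^h and over q). Then S^h is a henselization of the local ring (R^h ⊗_R S)_Q: for every
henselization E of (R^h ⊗_R S)_Q there is a ring isomorphism E ≅ S^h compatible with the two maps
from R^h ⊗_R S. -/
theorem result (R : Type u) [CommRing R] (S : Type u)
    [CommRing S] [Algebra R S] (p : Ideal R) [p.IsPrime] (q : Ideal S) [q.IsPrime] [q.LiesOver p]
    (Rh : Type u) [CommRing Rh] [IsLocalRing Rh] [Algebra (Localization.AtPrime p) Rh]
    [IsLocalHom (algebraMap (Localization.AtPrime p) Rh)]
    [Hensel.IsHenselization (Localization.AtPrime p) Rh] [Algebra R Rh]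
    [IsScalarTower R (Localization.AtPrime p) Rh]
    (Sh : Type u) [CommRing Sh] [IsLocalRing Sh] [Algebra (Localization.AtPrime q) Sh]
    [IsLocalHom (algebraMap (Localization.AtPrime q) Sh)]
    [Hensel.IsHenselization (Localization.AtPrime q) Sh] [Algebra S Sh]
    [IsScalarTower S (Localization.AtPrime q) Sh] [Algebra R Sh] [IsScalarTower R S Sh]
    [Algebra Rh Sh] [IsScalarTower R Rh Sh]
    (E : Type u) [CommRing E] [IsLocalRing E]
    [Algebra (Localization.AtPrime (Ideal.comap (Algebra.TensorProduct.lift (IsScalarTower.toAlgHom R Rh Sh) (IsScalarTower.toAlgHom R S Sh)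
          (fun _ _ => Commute.all _ _)) (IsLocalRing.maximalIdeal Sh))) E]
    [IsLocalHom (algebraMap (Localization.AtPrime
      (Ideal.comap (Algebra.TensorProduct.lift (IsScalarTower.toAlgHom R Rh Sh) (IsScalarTower.toAlgHom R S Sh)
          (fun _ _ => Commute.all _ _)) (IsLocalRing.maximalIdeal Sh))) E)]
    [Hensel.IsHenselization (Localization.AtPrime
      (Ideal.comap (Algebra.TensorProduct.lift (IsScalarTower.toAlgHom R Rh Sh) (IsScalarTower.toAlgHom R S Sh)
          (fun _ _ => Commute.all _ _)) (IsLocalRing.maximalIdeal Sh))) E] :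
    ∃ e : E ≃+* Sh, ∀ d : Rh ⊗[R] S,
      e (algebraMap (Localization.AtPrime
        (Ideal.comap (Algebra.TensorProduct.lift (IsScalarTower.toAlgHom R Rh Sh) (IsScalarTower.toAlgHom R S Sh)
          (fun _ _ => Commute.all _ _)) (IsLocalRing.maximalIdeal Sh))) E
        (algebraMap (Rh ⊗[R] S) _ d)) = (Algebra.TensorProduct.lift (IsScalarTower.toAlgHom R Rh Sh) (IsScalarTower.toAlgHom R S Sh)
          (fun _ _ => Commute.all _ _)) d := by
  classical
  let φ := Algebra.TensorProduct.lift (IsScalarTower.toAlgHom R Rh Sh) (IsScalarTower.toAlgHom R S Sh)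
    (fun _ _ => Commute.all _ _)
  let Q := Ideal.comap φ (maximalIdeal Sh)
  let L₀ := Localization.AtPrime Q
  change ∃ e : E ≃+* Sh, ∀ d : Rh ⊗[R] S, e (algebraMap L₀ E (algebraMap (Rh ⊗[R] S) L₀ d)) = φ d
  have hq : ∀ s, algebraMap S Sh s ∈ maximalIdeal Sh ↔ s ∈ q := fun s => by
    rw [IsScalarTower.algebraMap_apply S (Localization.AtPrime q) Sh,
      ← IsLocalization.AtPrime.to_map_mem_maximal_iff (Localization.AtPrime q) q s]
    simp
  have hRp : ∀ a, algebraMap R Sh a ∈ maximalIdeal Sh ↔ a ∈ p := fun a => by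
    rw [IsScalarTower.algebraMap_apply R S Sh, hq, Ideal.LiesOver.over (P := q) (p := p), Ideal.mem_comap]
  have hRpSh : IsLocalHom ((algebraMap Rh Sh).comp (algebraMap (Localization.AtPrime p) Rh)) := by
    refine ((local_hom_TFAE _).out 0 2 rfl rfl).mpr ?_
    rw [← Localization.AtPrime.map_eq_maximalIdeal, Ideal.map_map, Ideal.map_le_iff_le_comap]
    intro a ha
    rw [Ideal.mem_comap, RingHom.comp_apply, RingHom.comp_apply,
      ← IsScalarTower.algebraMap_apply R (Localization.AtPrime p) Rh, ← IsScalarTower.algebraMap_apply]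
    exact (hRp a).mpr ha
  have : IsLocalHom (algebraMap Rh Sh) := HenselBaseChange.isLocalHom_of_comp
    (Henselization.map_maximalIdeal (R := Localization.AtPrime p) (S := Rh)) _
  have hu : ∀ y : Q.primeCompl, IsUnit (φ y) := fun y => not_not.mp fun hy => y.2 hy
  let f₀ : L₀ →+* Sh := IsLocalization.lift (M := Q.primeCompl) (g := φ.toRingHom) hu
  have hf₀ : ∀ d, f₀ (algebraMap _ L₀ d) = φ d := fun d => IsLocalization.lift_eq _ d
  have : IsLocalHom f₀ := ⟨fun x hx => by
    obtain ⟨c, t, rfl⟩ := IsLocalization.exists_mk'_eq Q.primeCompl x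
    refine (IsLocalization.AtPrime.isUnit_mk'_iff (S := L₀) Q c t).mpr fun hc => hc ?_
    show IsUnit (φ c)
    rw [← hf₀, ← IsLocalization.mk'_spec L₀ c t, map_mul]
    exact hx.mul ((hf₀ t).symm ▸ hu t)⟩
  let ιS : S →+* E := ((algebraMap L₀ E).comp (algebraMap (Rh ⊗[R] S) L₀)).comp
    (Algebra.TensorProduct.includeRight : S →ₐ[R] Rh ⊗[R] S).toRingHom
  let ιR : Rh →+* E := ((algebraMap L₀ E).comp (algebraMap (Rh ⊗[R] S) L₀)).comp
    (Algebra.TensorProduct.includeLeftRingHom : Rh →+* Rh ⊗[R] S)
  have hext : ∀ g : E →+* E, g.comp ιR = ιR → g.comp ιS = ιS → g.comp (algebraMap L₀ E) = algebraMap L₀ E := by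
    intro g hgR hgS
    refine IsLocalization.ringHom_ext Q.primeCompl (RingHom.ext fun d => ?_)
    induction d using TensorProduct.induction_on with
    | zero => simp
    | tmul x s =>
      have e : x ⊗ₜ[R] s = (x ⊗ₜ[R] (1 : S)) * ((1 : Rh) ⊗ₜ[R] s) := by simp
      simp only [RingHom.comp_apply]
      rw [e, map_mul, map_mul, map_mul]
      exact congrArg₂ (· * ·) (RingHom.congr_fun hgR x) (RingHom.congr_fun hgS s)
    | add x y hx hy => rw [map_add, map_add, hx, hy]
  have hsq : ιR.comp (algebraMap R Rh) = ιS.comp (algebraMap R S) := RingHom.ext fun a => by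
    simp only [ιR, ιS, RingHom.comp_apply]
    congr 2
    show (Algebra.TensorProduct.includeLeft : Rh →ₐ[R] Rh ⊗[R] S) (algebraMap R Rh a) =
      (Algebra.TensorProduct.includeRight : S →ₐ[R] Rh ⊗[R] S) (algebraMap R S a)
    rw [AlgHom.commutes, AlgHom.commutes]
  have := (‹Hensel.IsHenselization (Localization.AtPrime q) Sh›).henselian
  have := (‹Hensel.IsHenselization L₀ E›).henselian
  obtain ⟨π, hπ, -⟩ := (‹Hensel.IsHenselization L₀ E›).universal Sh f₀ inferInstance
  have : IsLocalHom (π.comp (algebraMap L₀ E)) := hπ.symm ▸ ‹IsLocalHom f₀›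
  have : IsLocalHom π := HenselBaseChange.isLocalHom_of_comp (Henselization.map_maximalIdeal L₀ E) π
  have hπd : ∀ d, π (algebraMap L₀ E (algebraMap _ L₀ d)) = φ d := fun d =>
    (RingHom.congr_fun hπ _).trans (hf₀ d)
  have hπS : π.comp ιS = algebraMap S Sh := RingHom.ext fun s => (hπd _).trans (by simp [φ])
  have hπR : π.comp ιR = algebraMap Rh Sh := RingHom.ext fun s => (hπd _).trans (by simp [φ])
  have huS : ∀ y : q.primeCompl, IsUnit (ιS y) := fun y => IsUnit.of_map π _ (by
    rw [← RingHom.comp_apply, hπS]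
    exact not_not.mp fun hn => y.2 ((hq y).mp hn))
  let θ : Localization.AtPrime q →+* E := IsLocalization.lift huS
  have hθ : π.comp θ = algebraMap (Localization.AtPrime q) Sh := IsLocalization.ringHom_ext q.primeCompl (by
    rw [RingHom.comp_assoc, IsLocalization.lift_comp, hπS, ← IsScalarTower.algebraMap_eq])
  refine ⟨RingEquiv.ofBijective π (HenselBaseChange.bijective π θ hθ fun g hg hgθ => ?_), hπd⟩
  have hgS : g.comp ιS = ιS := by
    rw [← IsLocalization.lift_comp huS (S := Localization.AtPrime q), ← RingHom.comp_assoc]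
    exact congrArg (RingHom.comp · _) hgθ
  have : IsLocalHom ιR := ⟨fun x hx => isUnit_of_map_unit (algebraMap Rh Sh) x (by
    rw [← hπR]
    exact hx.map π)⟩
  have hgR : g.comp ιR = ιR := by
    refine ((‹Hensel.IsHenselization (Localization.AtPrime p) Rh›).universal E
      (ιR.comp (algebraMap (Localization.AtPrime p) Rh)) (RingHom.isLocalHom_comp _ _)).unique ?_ rfl
    refine IsLocalization.ringHom_ext p.primeCompl ?_
    refine RingHom.ext fun a => ?_
    have h1 : ιR (algebraMap R Rh a) = ιS (algebraMap R S a) := RingHom.congr_fun hsq a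
    show g (ιR _) = ιR _
    rw [← IsScalarTower.algebraMap_apply R (Localization.AtPrime p) Rh, h1]
    exact RingHom.congr_fun hgS _
  exact ((‹Hensel.IsHenselization L₀ E›).universal E (algebraMap L₀ E) inferInstance).unique
    (hext g hgR hgS) (RingHom.id_comp _)

end Groth.Agent.S9459
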