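import Groth.Statements.S9460
import Groth.Agent.Lib.Henselian.HenselBaseChange
import Groth.Agent.Lib.Henselian.StrictBaseChange

set_option autoImplicit false
universe u
open Hensel

namespace Groth.Agent.S9460

open Groth.Agent.Lib.Henselian IsLocalRing

open TensorProduct in
/-- Let R → S be a ring map, q a prime of S over p, and R^{sh}, S^{sh} strict henselizations of R_p and
S_q, S^{sh} carrying a compatible R^{sh}-algebra structure (a map R^{sh} → S^{sh} over R; these
correspond to the embeddings of separable closures in the published statement). Let φ : R^{sh} ⊗_R S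
→ S^{sh} be the induced map and Q the preimage under φ of the maximal ideal (a prime over the
maximal ideal of R^{sh} and over q). Then S^{sh} is a strict henselization of (R^{sh} ⊗_R S)_Q:
every strict henselization E of that local ring admits a ring isomorphism E ≅ S^{sh} compatible with
the two maps from R^{sh} ⊗_R S. -/
theorem result (R : Type u) [CommRing R]
    (S : Type u) [CommRing S] [Algebra R S] (p : Ideal R) [p.IsPrime] (q : Ideal S) [q.IsPrime]
    [q.LiesOver p]
    (Rh : Type u) [CommRing Rh] [IsLocalRing Rh] [Algebra (Localization.AtPrime p) Rh]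
    [IsLocalHom (algebraMap (Localization.AtPrime p) Rh)]
    [Hensel.IsStrictHenselization (Localization.AtPrime p) Rh] [Algebra R Rh]
    [IsScalarTower R (Localization.AtPrime p) Rh]
    (Sh : Type u) [CommRing Sh] [IsLocalRing Sh] [Algebra (Localization.AtPrime q) Sh]
    [IsLocalHom (algebraMap (Localization.AtPrime q) Sh)]
    [Hensel.IsStrictHenselization (Localization.AtPrime q) Sh] [Algebra S Sh]
    [IsScalarTower S (Localization.AtPrime q) Sh] [Algebra R Sh] [IsScalarTower R S Sh]
    [Algebra Rh Sh] [IsScalarTower R Rh Sh]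
    (E : Type u) [CommRing E] [IsLocalRing E]
    [Algebra (Localization.AtPrime (Ideal.comap (Algebra.TensorProduct.lift (IsScalarTower.toAlgHom R Rh Sh) (IsScalarTower.toAlgHom R S Sh)
          (fun _ _ => Commute.all _ _)) (IsLocalRing.maximalIdeal Sh))) E]
    [IsLocalHom (algebraMap (Localization.AtPrime
      (Ideal.comap (Algebra.TensorProduct.lift (IsScalarTower.toAlgHom R Rh Sh) (IsScalarTower.toAlgHom R S Sh)
          (fun _ _ => Commute.all _ _)) (IsLocalRing.maximalIdeal Sh))) E)]
    [Hensel.IsStrictHenselization (Localization.AtPrime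
      (Ideal.comap (Algebra.TensorProduct.lift (IsScalarTower.toAlgHom R Rh Sh) (IsScalarTower.toAlgHom R S Sh)
          (fun _ _ => Commute.all _ _)) (IsLocalRing.maximalIdeal Sh))) E] :
    ∃ e : E ≃+* Sh, ∀ d : Rh ⊗[R] S,
      e (algebraMap (Localization.AtPrime
        (Ideal.comap (Algebra.TensorProduct.lift (IsScalarTower.toAlgHom R Rh Sh) (IsScalarTower.toAlgHom R S Sh)
          (fun _ _ => Commute.all _ _)) (IsLocalRing.maximalIdeal Sh))) E
        (algebraMap (Rh ⊗[R] S) _ d)) = (Algebra.TensorProduct.lift (IsScalarTower.toAlgHom R Rh Sh) (IsScalarTower.toAlgHom R S Sh)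
          (fun _ _ => Commute.all _ _)) d := by
  classical
  let φ := Algebra.TensorProduct.lift (IsScalarTower.toAlgHom R Rh Sh) (IsScalarTower.toAlgHom R S Sh)
    (fun _ _ => Commute.all _ _)
  let Q := Ideal.comap φ (maximalIdeal Sh)
  let L₀ := Localization.AtPrime Q
  change ∃ e : E ≃+* Sh, ∀ d : Rh ⊗[R] S, e (algebraMap L₀ E (algebraMap (Rh ⊗[R] S) L₀ d)) = φ d
  have hq : ∀ s, algebraMap S Sh s ∈ maximalIdeal Sh ↔ s ∈ q := fun s => by
    rw [IsScalarTower.algebraMap_apply S (Localization.AtPrime q) Sh,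
      ← IsLocalization.AtPrime.to_map_mem_maximal_iff (Localization.AtPrime q) q s]
    simp
  have hRp : ∀ a, algebraMap R Sh a ∈ maximalIdeal Sh ↔ a ∈ p := fun a => by
    rw [IsScalarTower.algebraMap_apply R S Sh, hq, Ideal.LiesOver.over (P := q) (p := p), Ideal.mem_comap]
  have hRpSh : IsLocalHom ((algebraMap Rh Sh).comp (algebraMap (Localization.AtPrime p) Rh)) := by
    refine ((local_hom_TFAE _).out 0 2 rfl rfl).mpr ?_
    rw [← Localization.AtPrime.map_eq_maximalIdeal, Ideal.map_map, Ideal.map_le_iff_le_comap]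
    intro a ha
    rw [Ideal.mem_comap, RingHom.comp_apply, RingHom.comp_apply,
      ← IsScalarTower.algebraMap_apply R (Localization.AtPrime p) Rh, ← IsScalarTower.algebraMap_apply]
    exact (hRp a).mpr ha
  have : IsLocalHom (algebraMap Rh Sh) := HenselBaseChange.isLocalHom_of_comp
    (StrictHenselization.map_maximalIdeal (R := Localization.AtPrime p) (S := Rh)) _
  have hu : ∀ y : Q.primeCompl, IsUnit (φ y) := fun y => not_not.mp fun hy => y.2 hy
  let f₀ : L₀ →+* Sh := IsLocalization.lift (M := Q.primeCompl) (g := φ.toRingHom) hu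
  have hf₀ : ∀ d, f₀ (algebraMap _ L₀ d) = φ d := fun d => IsLocalization.lift_eq _ d
  have : IsLocalHom f₀ := ⟨fun x hx => by
    obtain ⟨c, t, rfl⟩ := IsLocalization.exists_mk'_eq Q.primeCompl x
    refine (IsLocalization.AtPrime.isUnit_mk'_iff (S := L₀) Q c t).mpr fun hc => hc ?_
    show IsUnit (φ c)
    rw [← hf₀, ← IsLocalization.mk'_spec L₀ c t, map_mul]
    exact hx.mul ((hf₀ t).symm ▸ hu t)⟩
  let ιS : S →+* E := ((algebraMap L₀ E).comp (algebraMap (Rh ⊗[R] S) L₀)).comp
    (Algebra.TensorProduct.includeRight : S →ₐ[R] Rh ⊗[R] S).toRingHom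
  let ιR : Rh →+* E := ((algebraMap L₀ E).comp (algebraMap (Rh ⊗[R] S) L₀)).comp
    (Algebra.TensorProduct.includeLeftRingHom : Rh →+* Rh ⊗[R] S)
  have hext : ∀ g : E →+* E, g.comp ιR = ιR → g.comp ιS = ιS → g.comp (algebraMap L₀ E) = algebraMap L₀ E := by
    intro g hgR hgS
    refine IsLocalization.ringHom_ext Q.primeCompl (RingHom.ext fun d => ?_)
    induction d using TensorProduct.induction_on with
    | zero => simp
    | tmul x s =>
      have e : x ⊗ₜ[R] s = (x ⊗ₜ[R] (1 : S)) * ((1 : Rh) ⊗ₜ[R] s) := by simp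
      simp only [RingHom.comp_apply]
      rw [e, map_mul, map_mul, map_mul]
      exact congrArg₂ (· * ·) (RingHom.congr_fun hgR x) (RingHom.congr_fun hgS s)
    | add x y hx hy => rw [map_add, map_add, hx, hy]
  have hsq : ιR.comp (algebraMap R Rh) = ιS.comp (algebraMap R S) := RingHom.ext fun a => by
    simp only [ιR, ιS, RingHom.comp_apply]
    congr 2
    show (Algebra.TensorProduct.includeLeft : Rh →ₐ[R] Rh ⊗[R] S) (algebraMap R Rh a) =
      (Algebra.TensorProduct.includeRight : S →ₐ[R] Rh ⊗[R] S) (algebraMap R S a)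
    rw [AlgHom.commutes, AlgHom.commutes]
  have hR : StrictData.Data R Rh := StrictData.of_localization (p := p)
  have hS : StrictData.Data S Sh := StrictData.of_localization (p := q)
  have hE : StrictData.Data L₀ E := StrictData.of_isStrictHenselization
  have := hS.henselian
  have := hE.henselian
  have := hS.sepClosed
  have := hE.sepClosed
  have := (‹Hensel.IsStrictHenselization L₀ E›).isSepClosure.separable
  let : Algebra (ResidueField L₀) (ResidueField Sh) := (ResidueField.map f₀).toAlgebra
  let τ : ResidueField E →ₐ[ResidueField L₀] ResidueField Sh := IsSepClosed.lift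
  obtain ⟨π, ⟨hπ, hπτ⟩, -⟩ := (‹Hensel.IsStrictHenselization L₀ E›).universal Sh f₀ τ.toRingHom
    (RingHom.ext fun x => τ.commutes x)
  have : IsLocalHom π := ⟨fun x hx => by
    by_contra hu
    have h := hπτ x
    rw [(residue_eq_zero_iff x).mpr hu, map_zero] at h
    exact (hx.map (residue Sh)).ne_zero h⟩
  have hπd : ∀ d, π (algebraMap L₀ E (algebraMap _ L₀ d)) = φ d := fun d =>
    (RingHom.congr_fun hπ _).trans (hf₀ d)
  have hπS : π.comp ιS = algebraMap S Sh := RingHom.ext fun s => (hπd _).trans (by simp [φ])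
  have hπR : π.comp ιR = algebraMap Rh Sh := RingHom.ext fun s => (hπd _).trans (by simp [φ])
  refine ⟨RingEquiv.ofBijective π (StrictData.bijective hS π ιS hπS fun g hgS hres => ?_), hπd⟩
  have : IsLocalHom ιR := ⟨fun x hx => isUnit_of_map_unit (algebraMap Rh Sh) x (by
    rw [← hπR]
    exact hx.map π)⟩
  have hgR : g.comp ιR = ιR := StrictBaseChange.ringHom_ext_of_data hR _ _
    (by rw [RingHom.comp_assoc, hsq, ← RingHom.comp_assoc, hgS]) fun x => hres _
  exact StrictData.eq_id hE g (hext g hgR hgS) hres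

end Groth.Agent.S9460
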