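import Groth.Statements.S9469
import Groth.Agent.Lib.Henselian.LimPrime

set_option autoImplicit false
universe u
open Hensel

namespace Groth.Agent.S9469

open Groth.Agent.Lib.Henselian.LimPrime TensorProduct

/-- Let R be a ring and p a prime of R. Consider pairs (S, q) with S an étale R-algebra and q a prime of
S lying over p such that κ(p) → κ(q) is bijective; a morphism of pairs is an R-algebra map pulling
the second prime back to the first. Then any two parallel morphisms of pairs φ, ψ : (S₁, q₁) → (S₂,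
q₂) are coequalized by a morphism of pairs (S₂, q₂) → (S₃, q₃). -/
theorem result (R : Type u) [CommRing R]
    (p : Ideal R) [p.IsPrime] (S₁ : Type u) [CommRing S₁] [Algebra R S₁] [Algebra.Etale R S₁] (q₁ : Ideal S₁) [q₁.IsPrime] (hq₁ : p = q₁.comap (algebraMap R S₁))
    (hq₁κ : Function.Bijective (Ideal.ResidueField.map p q₁ (algebraMap R S₁) hq₁))
    (S₂ : Type u) [CommRing S₂] [Algebra R S₂] [Algebra.Etale R S₂] (q₂ : Ideal S₂) [q₂.IsPrime] (hq₂ : p = q₂.comap (algebraMap R S₂))
    (hq₂κ : Function.Bijective (Ideal.ResidueField.map p q₂ (algebraMap R S₂) hq₂))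
    (φ ψ : S₁ →ₐ[R] S₂) (hφ : q₂.comap φ.toRingHom = q₁) (hψ : q₂.comap ψ.toRingHom = q₁) :
    ∃ (S₃ : Type u) (_ : CommRing S₃) (_ : Algebra R S₃) (_ : Algebra.Etale R S₃) (q₃ : Ideal S₃)
      (_ : q₃.IsPrime) (hq₃ : p = q₃.comap (algebraMap R S₃)),
      Function.Bijective (Ideal.ResidueField.map p q₃ (algebraMap R S₃) hq₃) ∧
        ∃ χ : S₂ →ₐ[R] S₃, q₃.comap χ.toRingHom = q₂ ∧ χ.comp φ = χ.comp ψ := by
  obtain ⟨γ₁, h₁⟩ := exists_pt p q₁ hq₁ hq₁κ
  obtain ⟨γ₂, h₂⟩ := exists_pt p q₂ hq₂ hq₂κ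
  have hφγ : γ₂.comp φ = γ₁ := pt_unique p _ _ (by rw [h₁, ← hφ, ← h₂]; rfl)
  have hψγ : γ₂.comp ψ = γ₁ := pt_unique p _ _ (by rw [h₁, ← hψ, ← h₂]; rfl)
  let μ := Algebra.TensorProduct.productMap φ ψ
  let u := μ (Algebra.FormallyUnramified.elem R S₁)
  have hcomp : γ₂.comp μ = γ₁.comp (Algebra.TensorProduct.lmul' R) := Algebra.TensorProduct.ext' fun a b => by
    simp [μ, ← AlgHom.comp_apply, hφγ, hψγ]
  have hu : IsUnit (γ₂ u) := by
    rw [show γ₂ u = γ₁ (Algebra.TensorProduct.lmul' R (Algebra.FormallyUnramified.elem R S₁)) from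
      AlgHom.congr_fun hcomp _, Algebra.FormallyUnramified.lmul_elem, map_one]
    exact isUnit_one
  have : Algebra.Etale S₂ (Localization.Away u) := Algebra.Etale.of_isLocalizationAway u
  have : Algebra.Etale R (Localization.Away u) := Algebra.Etale.comp R S₂ _
  let γ : Localization.Away u →ₐ[R] p.ResidueField :=
    IsLocalization.Away.liftAlgHom (S := Localization.Away u) u (f := γ₂) hu
  have hγ : ∀ z, γ (algebraMap S₂ (Localization.Away u) z) = γ₂ z := fun z =>
    IsLocalization.lift_eq (S := Localization.Away u) _ z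
  refine ⟨Localization.Away u, inferInstance, inferInstance, this, _, instIsPrimeKer p γ, comap_ker p γ,
    bijective_of_pt p γ, IsScalarTower.toAlgHom R S₂ (Localization.Away u), ?_, AlgHom.ext fun x => ?_⟩
  · rw [← h₂]; ext x; simp [hγ]
  · simp only [AlgHom.comp_apply, IsScalarTower.coe_toAlgHom']
    have h := congrArg μ (Algebra.FormallyUnramified.one_tmul_mul_elem (R := R) x)
    simp only [map_mul, μ, Algebra.TensorProduct.productMap_apply_tmul, map_one, one_mul, mul_one] at h
    refine (IsLocalization.Away.algebraMap_isUnit (S := Localization.Away u) u).mul_left_cancel ?_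
    rw [← map_mul, ← map_mul, mul_comm u, mul_comm u]
    exact congrArg _ h.symm

end Groth.Agent.S9469
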