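import Groth.Statements.S9473
import Groth.Agent.Lib.Henselian.StrictBaseChange

set_option autoImplicit false
universe u
open Hensel

namespace Groth.Agent.S9473

open Groth.Agent.Lib.Henselian
attribute [local instance] Algebra.TensorProduct.rightAlgebra

open TensorProduct in
/-- Let A → B and A → C be ring maps, D = B ⊗_A C, and p_D a prime of D with images p_B, p_C, p_A in B,
C, A. Let A^{sh}, B^{sh}, C^{sh}, D^{sh} be strict henselizations of the local rings A_{p_A},
B_{p_B}, C_{p_C}, D_{p_D}, equipped with local homomorphisms A^{sh} → B^{sh} → D^{sh} and A^{sh} →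
C^{sh} → D^{sh} forming a commutative square compatible with A → B → D and A → C → D (such maps are
the ones attached to a compatible choice of residue-field embeddings into one separably closed
field, and are unique given that choice). If B_{p_B}, an A_{p_A}-algebra through the induced map, is
a filtered colimit of quasi-finite A_{p_A}-algebras — every finite subset of B_{p_B} lies in an
A_{p_A}-subalgebra of finite type which is quasi-finite — then the induced A^{sh}-algebra map B^{sh}
⊗_{A^{sh}} C^{sh} → D^{sh} is bijective. -/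
theorem result (A B C : Type u) [CommRing A] [CommRing B]
    [CommRing C] [Algebra A B] [Algebra A C]
    (pA : Ideal A) [pA.IsPrime] (pB : Ideal B) [pB.IsPrime] [pB.LiesOver pA]
    (pC : Ideal C) [pC.IsPrime] [pC.LiesOver pA]
    (pD : Ideal (B ⊗[A] C)) [pD.IsPrime] [pD.LiesOver pB]
    (hDC : pD.comap (Algebra.TensorProduct.includeRight : C →ₐ[A] B ⊗[A] C).toRingHom = pC)
    (Ash : Type u) [CommRing Ash] [IsLocalRing Ash] [Algebra (Localization.AtPrime pA) Ash]
    [IsLocalHom (algebraMap (Localization.AtPrime pA) Ash)]
    [Hensel.IsStrictHenselization (Localization.AtPrime pA) Ash] [Algebra A Ash]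
    [IsScalarTower A (Localization.AtPrime pA) Ash]
    (Bsh : Type u) [CommRing Bsh] [IsLocalRing Bsh] [Algebra (Localization.AtPrime pB) Bsh]
    [IsLocalHom (algebraMap (Localization.AtPrime pB) Bsh)]
    [Hensel.IsStrictHenselization (Localization.AtPrime pB) Bsh] [Algebra B Bsh]
    [IsScalarTower B (Localization.AtPrime pB) Bsh] [Algebra A Bsh] [IsScalarTower A B Bsh]
    [Algebra Ash Bsh] [IsScalarTower A Ash Bsh] [IsLocalHom (algebraMap Ash Bsh)]
    (Csh : Type u) [CommRing Csh] [IsLocalRing Csh] [Algebra (Localization.AtPrime pC) Csh]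
    [IsLocalHom (algebraMap (Localization.AtPrime pC) Csh)]
    [Hensel.IsStrictHenselization (Localization.AtPrime pC) Csh] [Algebra C Csh]
    [IsScalarTower C (Localization.AtPrime pC) Csh] [Algebra A Csh] [IsScalarTower A C Csh]
    [Algebra Ash Csh] [IsScalarTower A Ash Csh] [IsLocalHom (algebraMap Ash Csh)]
    (Dsh : Type u) [CommRing Dsh] [IsLocalRing Dsh] [Algebra (Localization.AtPrime pD) Dsh]
    [IsLocalHom (algebraMap (Localization.AtPrime pD) Dsh)]
    [Hensel.IsStrictHenselization (Localization.AtPrime pD) Dsh] [Algebra (B ⊗[A] C) Dsh]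
    [IsScalarTower (B ⊗[A] C) (Localization.AtPrime pD) Dsh]
    [Algebra Bsh Dsh] [IsLocalHom (algebraMap Bsh Dsh)] [Algebra B Dsh] [IsScalarTower B Bsh Dsh]
    [IsScalarTower B (B ⊗[A] C) Dsh]
    [Algebra Csh Dsh] [IsLocalHom (algebraMap Csh Dsh)]
    (hC : ∀ c : C, algebraMap Csh Dsh (algebraMap C Csh c) = algebraMap (B ⊗[A] C) Dsh (1 ⊗ₜ[A] c))
    [Algebra Ash Dsh] [IsScalarTower Ash Bsh Dsh] [IsScalarTower Ash Csh Dsh]
    [Algebra (Localization.AtPrime pA) (Localization.AtPrime pB)]
    [IsScalarTower A (Localization.AtPrime pA) (Localization.AtPrime pB)]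
    (hB : ∀ s : Finset (Localization.AtPrime pB),
      ∃ B₀ : Subalgebra (Localization.AtPrime pA) (Localization.AtPrime pB),
        (↑s : Set (Localization.AtPrime pB)) ⊆ ↑B₀ ∧
          Algebra.FiniteType (Localization.AtPrime pA) ↥B₀ ∧
            Algebra.QuasiFinite (Localization.AtPrime pA) ↥B₀) :
    Function.Bijective (Algebra.TensorProduct.lift (IsScalarTower.toAlgHom Ash Bsh Dsh)
      (IsScalarTower.toAlgHom Ash Csh Dsh) (fun _ _ => Commute.all _ _)) := by
  have hA : StrictData.Data A Ash := StrictData.of_localization (p := pA)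
  have hB' : StrictData.Data B Bsh := StrictData.of_localization (p := pB)
  have hC' : StrictData.Data C Csh := StrictData.of_localization (p := pC)
  have hD : StrictData.Data (B ⊗[A] C) Dsh := StrictData.of_localization (p := pD)
  have : Algebra.IsIntegral Ash Bsh := by
    let : Algebra (Localization.AtPrime pA) Bsh :=
      ((algebraMap (Localization.AtPrime pB) Bsh).comp
        (algebraMap (Localization.AtPrime pA) (Localization.AtPrime pB))).toAlgebra
    have : IsScalarTower (Localization.AtPrime pA) (Localization.AtPrime pB) Bsh :=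
      IsScalarTower.of_algebraMap_eq' rfl
    have : IsScalarTower (Localization.AtPrime pA) Ash Bsh := IsScalarTower.of_algebraMap_eq' <|
      IsLocalization.ringHom_ext pA.primeCompl <| RingHom.ext fun a => by
        simp only [RingHom.comp_apply]
        rw [IsScalarTower.algebraMap_apply (Localization.AtPrime pA) (Localization.AtPrime pB) Bsh,
          ← IsScalarTower.algebraMap_apply A (Localization.AtPrime pA) (Localization.AtPrime pB),
          IsScalarTower.algebraMap_apply A B (Localization.AtPrime pB),
          ← IsScalarTower.algebraMap_apply B (Localization.AtPrime pB) Bsh,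
          ← IsScalarTower.algebraMap_apply A B Bsh,
          ← IsScalarTower.algebraMap_apply A (Localization.AtPrime pA) Ash,
          ← IsScalarTower.algebraMap_apply A Ash Bsh]
    exact StrictBaseChange.isIntegral_of_quasiFinite_subalgebras (Localization.AtPrime pA)
      (Localization.AtPrime pB) Ash Bsh StrictData.of_isStrictHenselization
      StrictData.of_isStrictHenselization hB
  let jB' : B →ₐ[A] Bsh ⊗[Ash] Csh :=
    ((Algebra.TensorProduct.includeLeft : Bsh →ₐ[Ash] Bsh ⊗[Ash] Csh).restrictScalars A).comp
      (IsScalarTower.toAlgHom A B Bsh)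
  let jC' : C →ₐ[A] Bsh ⊗[Ash] Csh :=
    ((Algebra.TensorProduct.includeRight : Csh →ₐ[Ash] Bsh ⊗[Ash] Csh).restrictScalars A).comp
      (IsScalarTower.toAlgHom A C Csh)
  let θ := Algebra.TensorProduct.lift jB' jC' fun _ _ => Commute.all _ _
  refine StrictBaseChange.tensor_bijective hA hB' hC' hD θ.toRingHom
    (algebraMap B (B ⊗[A] C)) (Algebra.TensorProduct.includeRight : C →ₐ[A] B ⊗[A] C).toRingHom
    ?_ ?_ ?_
  · refine RingHom.ext fun d => ?_
    induction d using TensorProduct.induction_on with
    | zero => simp
    | tmul b c =>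
      have e : b ⊗ₜ[A] c = algebraMap B (B ⊗[A] C) b * ((1 : B) ⊗ₜ[A] c) := by simp
      rw [e, map_mul, map_mul, ← hC, ← IsScalarTower.algebraMap_apply,
        IsScalarTower.algebraMap_apply B Bsh Dsh]
      simp [θ, jB', jC']
    | add x y hx hy => rw [map_add, map_add, hx, hy]
  · exact RingHom.ext fun b => by simp [θ, jB']
  · exact RingHom.ext fun c => by simp [θ, jC', RingHom.algebraMap_toAlgebra]

end Groth.Agent.S9473
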