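import Groth.Statements.S9474
import Mathlib.RingTheory.Unramified.Basic
import Mathlib.RingTheory.Extension.Cotangent.Basic
import Mathlib.RingTheory.Adjoin.FG
import Mathlib.RingTheory.FiniteStability
-- import your own Groth.Agent.* helpers here

set_option autoImplicit false
universe u
open CAlg

namespace Groth.Agent.S9474

theorem formallyUnramified_quotient {A : Type u} [CommRing A] {n : ℕ}
    (F : Fin n → MvPolynomial (Fin n) A) (J : Ideal (MvPolynomial (Fin n) A)) (hF : ∀ i, F i ∈ J)
    (hdF : ∀ i k, MvPolynomial.pderiv k (F i) - (if i = k then 1 else 0) ∈ J) :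
    Algebra.FormallyUnramified A (MvPolynomial (Fin n) A ⧸ J) := by
  classical
  let D := (KaehlerDifferential.D A (MvPolynomial (Fin n) A ⧸ J)).compAlgebraMap (MvPolynomial (Fin n) A)
  have hsm : ∀ (p : MvPolynomial (Fin n) A) (w : Ω[(MvPolynomial (Fin n) A ⧸ J)⁄A]),
      p • w = Ideal.Quotient.mk J p • w := fun p w =>
    (IsScalarTower.algebraMap_smul (MvPolynomial (Fin n) A ⧸ J) p w).symm
  have hD : ∀ p, D p = ∑ k, MvPolynomial.pderiv k p • D (MvPolynomial.X k) := by
    intro p
    induction p using MvPolynomial.induction_on with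
    | C r =>
      rw [show (MvPolynomial.C r : MvPolynomial (Fin n) A) = algebraMap A _ r from rfl, D.map_algebraMap]
      simp
    | add p q hp hq => simp only [map_add, hp, hq, add_smul, Finset.sum_add_distrib]
    | mul_X p i hp =>
      rw [D.leibniz, hp]
      simp only [Derivation.leibniz, smul_eq_mul, add_smul, Finset.sum_add_distrib, Finset.smul_sum,
        mul_smul]
      congr 1
      rw [Finset.sum_eq_single i (fun k _ hk => by
        rw [MvPolynomial.pderiv_X_of_ne hk.symm, zero_smul, smul_zero]) (by simp),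
        MvPolynomial.pderiv_X_self, one_smul]
  have hX : ∀ i, D (MvPolynomial.X i) = 0 := by
    intro i
    have h0 : D (F i) = 0 := by
      show KaehlerDifferential.D A _ (Ideal.Quotient.mk J (F i)) = 0
      rw [Ideal.Quotient.eq_zero_iff_mem.2 (hF i), map_zero]
    have hc : ∀ k, Ideal.Quotient.mk J (MvPolynomial.pderiv k (F i)) = if i = k then 1 else 0 := by
      intro k
      rw [Ideal.Quotient.eq.2 (hdF i k)]
      split_ifs
      · exact map_one _
      · exact map_zero _
    rw [hD, Finset.sum_eq_single i (fun k _ hk => by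
      rw [hsm, hc, if_neg hk.symm]
      exact zero_smul (MvPolynomial (Fin n) A ⧸ J) (D (MvPolynomial.X k))) (by simp), hsm, hc, if_pos rfl] at h0
    exact (one_smul (MvPolynomial (Fin n) A ⧸ J) (D (MvPolynomial.X i))).symm.trans h0
  refine ⟨subsingleton_of_forall_eq 0 fun w => ?_⟩
  have hw : w ∈ Submodule.span (MvPolynomial (Fin n) A ⧸ J)
      (Set.range (KaehlerDifferential.D A (MvPolynomial (Fin n) A ⧸ J))) := by
    rw [KaehlerDifferential.span_range_derivation]
    trivial
  induction hw using Submodule.span_induction with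
  | mem v hv =>
    obtain ⟨y, rfl⟩ := hv
    obtain ⟨p, rfl⟩ := Ideal.Quotient.mk_surjective y
    show D p = 0
    rw [hD]
    exact Finset.sum_eq_zero fun k _ => by rw [hX, smul_zero]
  | zero => rfl
  | add a b _ _ ha hb => rw [ha, hb, add_zero]
  | smul c a _ ha => rw [ha, smul_zero]

open TensorProduct in
/-- If R → S is unramified (of finite type with vanishing module of differentials), then there are a
finite type ℤ-algebra R₀, an unramified R₀-algebra S₀, a ring map R₀ → R, and a surjective R-algebra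
map from R ⊗_{R₀} S₀ onto S. -/
theorem result (R : Type u) [CommRing R] (S : Type u)
    [CommRing S] [Algebra R S] [Algebra.Unramified R S] :
    ∃ (R₀ : Type u) (_ : CommRing R₀) (_ : Algebra.FiniteType ℤ R₀) (S₀ : Type u) (_ : CommRing S₀)
      (_ : Algebra R₀ S₀) (_ : Algebra.Unramified R₀ S₀) (_ : Algebra R₀ R)
      (ψ : R ⊗[R₀] S₀ →ₐ[R] S), Function.Surjective ψ := by
  classical
  obtain ⟨n, π, hπ⟩ := Algebra.FiniteType.iff_quotient_mvPolynomial''.mp
    (inferInstance : Algebra.FiniteType R S)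
  let x : Fin n → S := fun i => π (MvPolynomial.X i)
  have hπx : ∀ p, π p = MvPolynomial.aeval x p := fun p =>
    DFunLike.congr_fun (MvPolynomial.aeval_unique π) p
  let P : Algebra.Generators R S (Fin n) := Algebra.Generators.ofSurjective x fun y => by
    obtain ⟨p, rfl⟩ := hπ y
    exact ⟨p, (hπx p).symm⟩
  have hf : ∀ i, ∃ f : MvPolynomial (Fin n) R, MvPolynomial.aeval x f = 0 ∧
      ∀ k, MvPolynomial.aeval x (MvPolynomial.pderiv k f) = if i = k then 1 else 0 := by
    intro i
    obtain ⟨c, hc⟩ := (P.toExtension.exact_cotangentComplex_toKaehler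
      (P.cotangentSpaceBasis i)).1 (Subsingleton.elim _ _)
    obtain ⟨⟨f, hf⟩, rfl⟩ := Algebra.Extension.Cotangent.mk_surjective c
    refine ⟨f, ((P.algebraMap_apply f).symm.trans hf :), fun k => ?_⟩
    rw [Algebra.Extension.cotangentComplex_mk] at hc
    have h := congrArg (fun v => P.cotangentSpaceBasis.repr v k) hc
    simp only [Module.Basis.repr_self] at h
    erw [Algebra.Generators.cotangentSpaceBasis_repr_tmul] at h
    rw [one_mul, Finsupp.single_apply] at h
    exact h
  choose f hf0 hfd using hf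
  let R₁ := Algebra.adjoin ℤ ((Finset.univ.biUnion fun i => (f i).coeffs : Finset R) : Set R)
  have hR₁ : Algebra.FiniteType ℤ R₁ := ⟨(Subalgebra.fg_top R₁).2 (Subalgebra.fg_adjoin_finset _)⟩
  have hmem : ∀ i, ∃ F : MvPolynomial (Fin n) R₁, MvPolynomial.map (algebraMap R₁ R) F = f i := by
    intro i
    refine MvPolynomial.mem_range_map_iff_coeffs_subset.2 fun c hc => ?_
    exact ⟨⟨c, Algebra.subset_adjoin (Finset.mem_coe.2 (Finset.mem_biUnion.2 ⟨i, Finset.mem_univ _, hc⟩))⟩, rfl⟩
  choose F hF using hmem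
  let J : Ideal (MvPolynomial (Fin n) R₁) := Ideal.span (Set.range F) ⊔
    Ideal.span (Set.range fun v : Fin n × Fin n =>
      MvPolynomial.pderiv v.2 (F v.1) - if v.1 = v.2 then 1 else 0)
  let S₁ := MvPolynomial (Fin n) R₁ ⧸ J
  haveI : Algebra.FormallyUnramified R₁ S₁ := formallyUnramified_quotient F J
    (fun i => Ideal.mem_sup_left (Ideal.subset_span ⟨i, rfl⟩))
    (fun i k => Ideal.mem_sup_right (Ideal.subset_span ⟨(i, k), rfl⟩))
  haveI : Algebra.Unramified R₁ S₁ := ⟨inferInstance, inferInstance⟩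
  let χ : S₁ →ₐ[R₁] S := Ideal.Quotient.liftₐ J (MvPolynomial.aeval x) (by
    have hmap : ∀ p : MvPolynomial (Fin n) R₁, MvPolynomial.aeval x p =
        MvPolynomial.aeval x (MvPolynomial.map (algebraMap R₁ R) p) := fun p =>
      (MvPolynomial.aeval_map_algebraMap R x p).symm
    intro a ha
    refine RingHom.mem_ker.1 ((sup_le (a := Ideal.span _) (c := RingHom.ker (MvPolynomial.aeval (R := R₁) x))
      (Ideal.span_le.2 ?_) (Ideal.span_le.2 ?_)) ha)
    · rintro _ ⟨i, rfl⟩
      show MvPolynomial.aeval x (F i) = 0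
      rw [hmap, hF, hf0]
    · rintro _ ⟨⟨i, k⟩, rfl⟩
      show MvPolynomial.aeval x (MvPolynomial.pderiv k (F i) - if i = k then 1 else 0) = 0
      rw [map_sub, hmap, ← MvPolynomial.pderiv_map, hF, hfd]
      split_ifs <;> simp)
  refine ⟨R₁, inferInstance, hR₁, S₁, inferInstance, inferInstance, inferInstance, inferInstance,
    Algebra.TensorProduct.lift (Algebra.ofId R S) χ fun _ _ => Commute.all _ _, fun y => ?_⟩
  obtain ⟨p, rfl⟩ := hπ y
  rw [hπx]
  induction p using MvPolynomial.induction_on with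
  | C r => exact ⟨r ⊗ₜ 1, by simp [Algebra.ofId_apply]⟩
  | add p q hp hq =>
    obtain ⟨a, ha⟩ := hp
    obtain ⟨b, hb⟩ := hq
    exact ⟨a + b, by rw [map_add, map_add, ha, hb]⟩
  | mul_X p i hp =>
    obtain ⟨a, ha⟩ := hp
    refine ⟨a * (1 ⊗ₜ Ideal.Quotient.mk J (MvPolynomial.X i)), ?_⟩
    rw [map_mul, map_mul, ha, Algebra.TensorProduct.lift_tmul, map_one, one_mul]
    congr 1
    show MvPolynomial.aeval x (MvPolynomial.X i) = _
    rw [MvPolynomial.aeval_X, MvPolynomial.aeval_X]

end Groth.Agent.S9474
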