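import Groth.Statements.S9483
import Groth.Agent.H80.Clopen.Nbhd.Punctured

set_option autoImplicit false
set_option backward.isDefEq.respectTransparency false
universe u
open Pi1

namespace Groth.Agent.S9483

open AlgebraicGeometry CategoryTheory CategoryTheory.Limits in
/-- Let A be a Noetherian local ring with maximal ideal m, f ∈ m, U the punctured spectrum of A and U₀
that of A/fA (realised as U ×_{Spec A} Spec(A/fA)). Assume A is (f)-adically complete, f is a
nonzerodivisor and H^1_m(A/fA) is a finite A-module. Then restriction to U₀ from the system of open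
neighbourhoods of U₀ in U is fully faithful: for every open U' ⊆ U through which U₀ ⟶ Spec A factors
(as u') and finite etale covers V', W' of U': every morphism between the restrictions of V' and W'
along u' is, after shrinking U' to a smaller such open U'' (with U₀ ⟶ U'' ⟶ U' composing to u'), the
restriction of a morphism over U'' (compared through the canonical isomorphism between restricting
along u' and restricting in two steps), and two morphisms V' ⟶ W' with the same restriction along u'
agree over some such U''. -/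
theorem result (A : Type u) [CommRing A] [IsNoetherianRing A] [IsLocalRing A] (f : A) (hf : f ∈ IsLocalRing.maximalIdeal A)
    [IsAdicComplete (Ideal.span {f}) A] (hnz : f ∈ nonZeroDivisors A)
    (h1 : Module.Finite A (LocCoh.H (IsLocalRing.maximalIdeal A) 1 (A ⧸ Ideal.span {f}))) :
    ∀ (U' : (Spec (CommRingCat.of A)).Opens) (_ : U' ≤ (FEt.puncturedSpec A)) (u' : pullback (FEt.puncturedSpec A).ι (Spec.map (CommRingCat.ofHom (Ideal.Quotient.mk (Ideal.span {f})))) ⟶ (U' : Scheme.{u}))
      (_ : u' ≫ U'.ι = (pullback.fst (FEt.puncturedSpec A).ι (Spec.map (CommRingCat.ofHom (Ideal.Quotient.mk (Ideal.span {f})))) ≫ (FEt.puncturedSpec A).ι)) (V' W' : FEt.Cat (U' : Scheme.{u})),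
      (∀ φ₀ : (FEt.restrict u').obj V' ⟶ (FEt.restrict u').obj W',
        ∃ (U'' : (Spec (CommRingCat.of A)).Opens) (h : U'' ≤ U') (u'' : pullback (FEt.puncturedSpec A).ι (Spec.map (CommRingCat.ofHom (Ideal.Quotient.mk (Ideal.span {f})))) ⟶ (U'' : Scheme.{u}))
          (hu : u'' ≫ (Spec (CommRingCat.of A)).homOfLE h = u')
          (φ : (FEt.restrict ((Spec (CommRingCat.of A)).homOfLE h)).obj V' ⟶ (FEt.restrict ((Spec (CommRingCat.of A)).homOfLE h)).obj W'),
          (FEt.restrict u'').map φ =
            (MorphismProperty.Over.pullbackComp u'' ((Spec (CommRingCat.of A)).homOfLE h) u' hu.symm).inv.app V' ≫ φ₀ ≫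
              (MorphismProperty.Over.pullbackComp u'' ((Spec (CommRingCat.of A)).homOfLE h) u' hu.symm).hom.app W') ∧
      (∀ φ ψ : V' ⟶ W', (FEt.restrict u').map φ = (FEt.restrict u').map ψ →
        ∃ (U'' : (Spec (CommRingCat.of A)).Opens) (h : U'' ≤ U') (u'' : pullback (FEt.puncturedSpec A).ι (Spec.map (CommRingCat.ofHom (Ideal.Quotient.mk (Ideal.span {f})))) ⟶ (U'' : Scheme.{u})),
          u'' ≫ (Spec (CommRingCat.of A)).homOfLE h = u' ∧
          (FEt.restrict ((Spec (CommRingCat.of A)).homOfLE h)).map φ = (FEt.restrict ((Spec (CommRingCat.of A)).homOfLE h)).map ψ) := by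
  intro U' hU' u' hu V' W'
  obtain ⟨_, hrange, hfU⟩ := Groth.Agent.H80.Clopen.Nbhd.germ_facts f hU' u' hu
  have : TopologicalSpace.NoetherianSpace ↥(Spec (CommRingCat.of A)) :=
    inferInstanceAs (TopologicalSpace.NoetherianSpace (PrimeSpectrum A))
  have hext : Groth.Agent.H80.Clopen.Nbhd.Extends u' :=
    Groth.Agent.H80.Clopen.Nbhd.extends_of_family f hU' hfU u' hrange (fun _ : Unit => A)
      (fun x _ => ⟨(), x, rfl⟩) fun _ => .inr
        ⟨fun _ _ b hb => ⟨0, by
          rw [pow_zero, one_smul]
          exact hnz.1 b (by rwa [smul_eq_mul] at hb)⟩,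
        fun p hp hm => (Groth.Agent.S1763.result A (IsLocalRing.maximalIdeal A)
          (A ⧸ Ideal.span {f})).mp h1 p hp hm⟩
  exact ⟨fun φ₀ => Groth.Agent.H80.Clopen.Nbhd.exists_germ_hom u' hext V' W' φ₀,
    fun φ ψ h => Groth.Agent.H80.Clopen.Nbhd.exists_germ_eq u' V' W' φ ψ h⟩

end Groth.Agent.S9483
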