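import Groth.Statements.S9484
import Groth.Agent.H80.Clopen.Nbhd.Punctured
import Groth.Agent.H80.Clopen.Nbhd.Transform

set_option autoImplicit false
set_option backward.isDefEq.respectTransparency false
universe u
attribute [local instance] HasDerivedCategory.standard
open Pi1

namespace Groth.Agent.S9484

open AlgebraicGeometry CategoryTheory CategoryTheory.Limits in
/-- Let A be a Noetherian local ring with maximal ideal m and a dualizing complex, f ∈ m with A complete
for the (f)-adic topology, U the punctured spectrum of A and U₀ that of A/fA (realised as U ×_{Spec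
A} Spec(A/fA)). Assume dim(A/p) ≥ 3 for every minimal prime p of A with f ∉ p. Then restriction to
U₀ from the system of open neighbourhoods of U₀ in U is fully faithful: for every open U' ⊆ U
through which U₀ ⟶ Spec A factors (as u') and finite etale covers V', W' of U': every morphism
between the restrictions of V' and W' along u' is, after shrinking U' to a smaller such open U''
(with U₀ ⟶ U'' ⟶ U' composing to u'), the restriction of a morphism over U'' (compared through the
canonical isomorphism between restricting along u' and restricting in two steps), and two morphisms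
V' ⟶ W' with the same restriction along u' agree over some such U''. -/
theorem result (A : Type u) [CommRing A] [IsNoetherianRing A] [IsLocalRing A] (f : A) (hf : f ∈ IsLocalRing.maximalIdeal A)
    (hd : ∃ ω : Dual.D A, Dual.IsDualizing A ω) [IsAdicComplete (Ideal.span {f}) A]
    (hc : ∀ p : Ideal A, p ∈ minimalPrimes A → f ∉ p → (3 : WithBot ℕ∞) ≤ ringKrullDim (A ⧸ p)) :
    ∀ (U' : (Spec (CommRingCat.of A)).Opens) (_ : U' ≤ (FEt.puncturedSpec A)) (u' : pullback (FEt.puncturedSpec A).ι (Spec.map (CommRingCat.ofHom (Ideal.Quotient.mk (Ideal.span {f})))) ⟶ (U' : Scheme.{u}))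
      (_ : u' ≫ U'.ι = (pullback.fst (FEt.puncturedSpec A).ι (Spec.map (CommRingCat.ofHom (Ideal.Quotient.mk (Ideal.span {f})))) ≫ (FEt.puncturedSpec A).ι)) (V' W' : FEt.Cat (U' : Scheme.{u})),
      (∀ φ₀ : (FEt.restrict u').obj V' ⟶ (FEt.restrict u').obj W',
        ∃ (U'' : (Spec (CommRingCat.of A)).Opens) (h : U'' ≤ U') (u'' : pullback (FEt.puncturedSpec A).ι (Spec.map (CommRingCat.ofHom (Ideal.Quotient.mk (Ideal.span {f})))) ⟶ (U'' : Scheme.{u}))
          (hu : u'' ≫ (Spec (CommRingCat.of A)).homOfLE h = u')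
          (φ : (FEt.restrict ((Spec (CommRingCat.of A)).homOfLE h)).obj V' ⟶ (FEt.restrict ((Spec (CommRingCat.of A)).homOfLE h)).obj W'),
          (FEt.restrict u'').map φ =
            (MorphismProperty.Over.pullbackComp u'' ((Spec (CommRingCat.of A)).homOfLE h) u' hu.symm).inv.app V' ≫ φ₀ ≫
              (MorphismProperty.Over.pullbackComp u'' ((Spec (CommRingCat.of A)).homOfLE h) u' hu.symm).hom.app W') ∧
      (∀ φ ψ : V' ⟶ W', (FEt.restrict u').map φ = (FEt.restrict u').map ψ →
        ∃ (U'' : (Spec (CommRingCat.of A)).Opens) (h : U'' ≤ U') (u'' : pullback (FEt.puncturedSpec A).ι (Spec.map (CommRingCat.ofHom (Ideal.Quotient.mk (Ideal.span {f})))) ⟶ (U'' : Scheme.{u})),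
          u'' ≫ (Spec (CommRingCat.of A)).homOfLE h = u' ∧
          (FEt.restrict ((Spec (CommRingCat.of A)).homOfLE h)).map φ = (FEt.restrict ((Spec (CommRingCat.of A)).homOfLE h)).map ψ) := by
  intro U' hU' u' hu V' W'
  obtain ⟨_, hrange, hfU⟩ := Groth.Agent.H80.Clopen.Nbhd.germ_facts f hU' u' hu
  have : TopologicalSpace.NoetherianSpace ↥(Spec (CommRingCat.of A)) :=
    inferInstanceAs (TopologicalSpace.NoetherianSpace (PrimeSpectrum A))
  let s := (minimalPrimes.finite_of_isNoetherianRing A).toFinset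
  let e : Fin s.card ≃ s := s.equivFin.symm
  have hmin : ∀ k, (e k).1 ∈ minimalPrimes A := fun k => (Set.Finite.mem_toFinset _).mp (e k).2
  have hex : ∀ k, ∃ (B : Type u) (_ : CommRing B) (_ : Algebra A B), Module.Finite A B ∧
      (∀ p : PrimeSpectrum A, (e k).1 ≤ p.asIdeal →
        ∃ Q : PrimeSpectrum B, PrimeSpectrum.comap (algebraMap A B) Q = p) ∧
      (algebraMap A B f = 0 ∨
        ((∀ a ∈ IsLocalRing.maximalIdeal A, ∀ b : B, f • b = 0 → ∃ l : ℕ, a ^ l • b = 0) ∧
          ∀ p ∈ associatedPrimes A (B ⧸ Ideal.span {algebraMap A B f}),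
            ¬ IsLocalRing.maximalIdeal A ≤ p →
              Module.Finite A (LocCoh.H (IsLocalRing.maximalIdeal A) 1 (A ⧸ p)))) := fun k =>
    haveI : (e k).1.IsPrime := (hmin k).1.1
    Groth.Agent.H80.Clopen.Nbhd.exists_component_algebra hd f hf (e k).1 fun hfP => hc _ (hmin k) hfP
  choose B iR iA hfin hcov hB using hex
  have hext : Groth.Agent.H80.Clopen.Nbhd.Extends u' := by
    refine Groth.Agent.H80.Clopen.Nbhd.extends_of_family f hU' hfU u' hrange B (fun x _ => ?_) hB
    obtain ⟨P, hP, hPle⟩ := Ideal.exists_minimalPrimes_le (I := (⊥ : Ideal A))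
      (J := (x : PrimeSpectrum A).asIdeal) bot_le
    refine ⟨e.symm ⟨P, (Set.Finite.mem_toFinset _).mpr hP⟩, hcov _ _ ?_⟩
    rw [Equiv.apply_symm_apply]
    exact hPle
  exact ⟨fun φ₀ => Groth.Agent.H80.Clopen.Nbhd.exists_germ_hom u' hext V' W' φ₀,
    fun φ ψ h => Groth.Agent.H80.Clopen.Nbhd.exists_germ_eq u' V' W' φ ψ h⟩

end Groth.Agent.S9484
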