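import Groth.Statements.S9485
import Groth.Agent.Lib.FEt.FullyFaithful
import Mathlib.RingTheory.Ideal.KrullsHeightTheorem

set_option autoImplicit false
universe u
open Pi1

namespace Groth.Agent.S9485

open AlgebraicGeometry CategoryTheory CategoryTheory.Limits in
/-- Let A be a Noetherian local ring with maximal ideal m and f ∈ m, U the punctured spectrum of A and
U₀ that of A/fA (realised as U ×_{Spec A} Spec(A/fA)). Let U' ⊆ U be an open through which U₀ ⟶ Spec
A factors (as u'). If dim(A/p) ≥ 2 for every minimal prime p of A which lies in U' and does not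
contain f, then restriction of finite etale covers along u' is faithful. (Such U' exist, e.g. the
complement in U of the one-dimensional irreducible components not meeting U₀, and the condition
passes to smaller such opens, so restriction from the system of these opens is faithful.) -/
theorem result (A : Type u) [CommRing A] [IsNoetherianRing A] [IsLocalRing A] (f : A) (hf : f ∈ IsLocalRing.maximalIdeal A)
    (U' : (Spec (CommRingCat.of A)).Opens) (hU' : U' ≤ FEt.puncturedSpec A)
    (u' : pullback (FEt.puncturedSpec A).ι (Spec.map (CommRingCat.ofHom (Ideal.Quotient.mk (Ideal.span {f})))) ⟶ (U' : Scheme.{u})) (hu' : u' ≫ U'.ι = (pullback.fst (FEt.puncturedSpec A).ι (Spec.map (CommRingCat.ofHom (Ideal.Quotient.mk (Ideal.span {f})))) ≫ (FEt.puncturedSpec A).ι))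
    (hdim : ∀ p : PrimeSpectrum A, p.asIdeal ∈ minimalPrimes A → p ∈ U' → f ∉ p.asIdeal →
      (2 : WithBot ℕ∞) ≤ ringKrullDim (A ⧸ p.asIdeal)) :
    (FEt.restrict u').Faithful := by
  have hmem : ∀ z : (Spec (CommRingCat.of A) : Scheme.{u}), f ∈ (z : PrimeSpectrum A).asIdeal →
      ∃ q, (Spec.map (CommRingCat.ofHom (Ideal.Quotient.mk (Ideal.span {f})))).base q = z := fun z hz => by
    have h1 : (z : PrimeSpectrum A) ∈ Set.range (PrimeSpectrum.comap (Ideal.Quotient.mk (Ideal.span {f}))) := by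
      rw [range_comap_of_surjective _ _ Ideal.Quotient.mk_surjective, Ideal.mk_ker]
      exact (Ideal.span_singleton_le_iff_mem (I := (z : PrimeSpectrum A).asIdeal)).mpr hz
    exact h1
  have hrange : ∀ z : U', f ∈ (z.1 : PrimeSpectrum A).asIdeal → z ∈ Set.range u'.base := fun z hz => by
    obtain ⟨q, hq⟩ := hmem z.1 hz
    obtain ⟨t, ht, -⟩ := Scheme.Pullback.exists_preimage_pullback (f := (FEt.puncturedSpec A).ι)
      (g := Spec.map (CommRingCat.ofHom (Ideal.Quotient.mk (Ideal.span {f})))) ⟨z.1, hU' z.2⟩ q hq.symm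
    refine ⟨t, U'.ι.isOpenEmbedding.injective ?_⟩
    exact (congrArg (fun φ => φ.base t) hu').trans (congrArg (FEt.puncturedSpec A).ι.base ht)
  refine Groth.Agent.Lib.FEt.FullyFaithful.faithful u' fun C hC hne => ?_
  obtain ⟨z, hz⟩ := hne
  obtain ⟨p, hp, hpz⟩ := @Ideal.exists_minimalPrimes_le A _ ⊥ (z.1 : PrimeSpectrum A).asIdeal (z.1 : PrimeSpectrum A).2 bot_le
  let P : (Spec (CommRingCat.of A) : Scheme.{u}) := ⟨p, hp.1.1⟩
  have hPU : P ∈ U' := ((PrimeSpectrum.le_iff_specializes P z.1).mp hpz).mem_open U'.2 z.2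
  have hPC : (⟨P, hPU⟩ : U') ∈ C :=
    ((subtype_specializes_iff (x := (⟨P, hPU⟩ : U')) (y := z)).mpr
      ((PrimeSpectrum.le_iff_specializes P z.1).mp hpz)).mem_open hC.isOpen hz
  by_cases hfp : f ∈ p
  · exact ⟨_, hPC, hrange _ hfp⟩
  have hd := hdim P hp hPU hfp
  have : p.IsPrime := hp.1.1
  have : IsLocalRing (A ⧸ p) := .of_surjective' _ Ideal.Quotient.mk_surjective
  obtain ⟨q, hq⟩ := Ideal.nonempty_minimalPrimes
    (I := Ideal.span {(Ideal.Quotient.mk p f)}) (fun h => by
      rw [Ideal.span_singleton_eq_top] at h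
      obtain ⟨g, hg⟩ := h.exists_right_inv
      obtain ⟨g, rfl⟩ := Ideal.Quotient.mk_surjective g
      rw [← map_mul, ← (Ideal.Quotient.mk p).map_one, Ideal.Quotient.eq] at hg
      have hm : f * g - 1 ∈ IsLocalRing.maximalIdeal A :=
        IsLocalRing.le_maximalIdeal hp.1.1.ne_top hg
      have h1 := sub_mem (Ideal.mul_mem_right g _ hf) hm
      rw [sub_sub_cancel] at h1
      exact (IsLocalRing.maximalIdeal.isMaximal A).ne_top ((Ideal.eq_top_iff_one _).mpr h1))
  have : q.IsPrime := hq.1.1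
  have hq1 := Ideal.height_le_one_of_isPrincipal_of_mem_minimalPrimes (Ideal.span {Ideal.Quotient.mk p f}) q hq
  let Q : (Spec (CommRingCat.of A) : Scheme.{u}) := ⟨q.comap (Ideal.Quotient.mk p), inferInstance⟩
  have hQf : f ∈ (Q : PrimeSpectrum A).asIdeal :=
    hq.1.2 (Ideal.subset_span rfl)
  have hQne : Q ∈ FEt.puncturedSpec A := by
    intro h
    rw [Set.mem_singleton_iff] at h
    have hqm : q = IsLocalRing.maximalIdeal (A ⧸ p) := by
      refine IsLocalRing.eq_maximalIdeal ?_
      rw [← Ideal.map_comap_of_surjective (Ideal.Quotient.mk p) Ideal.Quotient.mk_surjective q]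
      have hQm : q.comap (Ideal.Quotient.mk p) = IsLocalRing.maximalIdeal A :=
        congrArg PrimeSpectrum.asIdeal h
      exact (Ideal.map_eq_top_or_isMaximal_of_surjective _ Ideal.Quotient.mk_surjective
        (hQm ▸ IsLocalRing.maximalIdeal.isMaximal A)).resolve_left (by
          rw [Ideal.map_comap_of_surjective _ Ideal.Quotient.mk_surjective]; exact hq.1.1.ne_top)
    rw [← IsLocalRing.maximalIdeal_height_eq_ringKrullDim, ← hqm] at hd
    have := hd.trans (WithBot.coe_le_coe.mpr hq1)
    norm_cast at this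
  have hQU : Q ∈ U' := by
    obtain ⟨q', hq'⟩ := hmem Q hQf
    obtain ⟨t, ht, -⟩ := Scheme.Pullback.exists_preimage_pullback (f := (FEt.puncturedSpec A).ι)
      (g := Spec.map (CommRingCat.ofHom (Ideal.Quotient.mk (Ideal.span {f})))) ⟨Q, hQne⟩ q' hq'.symm
    have h1 : (U'.ι.base (u'.base t)) = Q :=
      (congrArg (fun φ => φ.base t) hu').trans (congrArg (FEt.puncturedSpec A).ι.base ht)
    exact h1 ▸ (u'.base t).2
  refine ⟨⟨Q, hQU⟩, ((subtype_specializes_iff (x := (⟨P, hPU⟩ : U')) (y := ⟨Q, hQU⟩)).mpr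
    ((PrimeSpectrum.le_iff_specializes P Q).mp ?_)).mem_closed hC.isClosed hPC, hrange _ hQf⟩
  exact (Ideal.mk_ker (I := p)).symm.trans_le (Ideal.ker_le_comap _)

end Groth.Agent.S9485
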