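import Groth.Statements.S9491
import Groth.Agent.Lib.EtSite.EtaleNormalization
import Groth.Agent.Lib.Normalization.InFieldGeneric
import Groth.Agent.Lib.GrpSch.SmoothReduced

set_option autoImplicit false
set_option backward.isDefEq.respectTransparency false
set_option backward.isDefEq.respectTransparency.types false
set_option linter.style.haveILetI false
universe u
open Pi1

namespace Groth.Agent.S9491

section
open AlgebraicGeometry CategoryTheory CategoryTheory.Limits

theorem exists_iso_of_comp {A B Z : Scheme.{u}} (i : A ⟶ B) [IsIso i] (f : B ⟶ Z) (g : A ⟶ Z)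
    [QuasiCompact f] [QuasiSeparated f] [QuasiCompact g] [QuasiSeparated g] (h : g = i ≫ f) :
    ∃ e : g.normalization ⟶ f.normalization, IsIso e ∧ e ≫ f.fromNormalization = g.fromNormalization := by
  have H1 : g = (i ≫ f.toNormalization) ≫ f.fromNormalization := by
    rw [Category.assoc, Scheme.Hom.toNormalization_fromNormalization, h]
  have H2 : f = (inv i ≫ g.toNormalization) ≫ g.fromNormalization := by
    rw [Category.assoc, Scheme.Hom.toNormalization_fromNormalization, h, IsIso.inv_hom_id_assoc]
  refine ⟨g.normalizationDesc _ _ H1, ⟨f.normalizationDesc _ _ H2, ?_, ?_⟩,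
    g.normalizationDesc_comp _ _ _⟩
  · refine Scheme.Hom.normalization.hom_ext g _ _ g.fromNormalization ?_ ?_ (Category.id_comp _)
    · simp
    · simp
  · refine Scheme.Hom.normalization.hom_ext f _ _ f.fromNormalization ?_ ?_ (Category.id_comp _)
    · simp
    · simp

theorem exists_iso_fromSpecStalk {L : Type u} [Field L] {Y : Scheme.{u}}
    (q : Spec (CommRingCat.of L) ⟶ Y) [IsPreimmersion q] (y : Y)
    (hy : q (IsLocalRing.closedPoint L) = y) [IsDomain (Y.presheaf.stalk y)]
    (hf : IsField (Y.presheaf.stalk y)) :
    ∃ s : Spec (CommRingCat.of L) ⟶ Spec (Y.presheaf.stalk y), IsIso s ∧ s ≫ Y.fromSpecStalk y = q := by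
  subst hy
  have hs : Function.Surjective (Scheme.stalkClosedPointTo q).hom :=
    by
    rw [Scheme.stalkClosedPointTo]
    exact (ConcreteCategory.bijective_of_isIso (stalkClosedPointIso (CommRingCat.of L)).hom).2.comp
      (q.stalkMap_surjective _)
  have hi : Function.Injective (Scheme.stalkClosedPointTo q).hom := by
    letI := hf.toField
    exact (Scheme.stalkClosedPointTo q).hom.injective
  haveI : IsIso (Scheme.stalkClosedPointTo q) :=
    (ConcreteCategory.isIso_iff_bijective _).2 ⟨hi, hs⟩
  exact ⟨Spec.map (Scheme.stalkClosedPointTo q), inferInstance,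
    Scheme.Spec_stalkClosedPointTo_fromSpecStalk q⟩

theorem finiteEtale_of_iso {X : Scheme.{u}} [IsIntegral X] (hX : Pi1.IsNormalScheme X)
    {L : Type u} [Field L] (φ : X.functionField →+* L) (g : Spec (CommRingCat.of L) ⟶ X)
    (hg : g = Spec.map (CommRingCat.ofHom φ) ≫ X.fromSpecStalk (genericPoint X))
    [QuasiCompact g] [QuasiSeparated g] {Y : Scheme.{u}} (p : Y ⟶ X) [IsFinite p] [Etale p]
    (eP : Spec (CommRingCat.of L) ⟶ pullback p (X.fromSpecStalk (genericPoint X))) [IsIso eP]
    (heP : eP ≫ pullback.snd _ _ = Spec.map (CommRingCat.ofHom φ)) :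
    Etale g.fromNormalization ∧ IsFinite g.fromNormalization := by
  let j := X.fromSpecStalk (genericPoint X)
  let q : Spec (CommRingCat.of L) ⟶ Y := eP ≫ pullback.fst p j
  have hqp : q ≫ p = g := by
    rw [Category.assoc, pullback.condition, ← Category.assoc, heP, hg]
  have hgpt : ∀ z, g z = genericPoint X := fun z =>
    Groth.Agent.Lib.Normalization.InField.apply_eq φ g hg z
  have huniq : ∀ a : Y, p a = genericPoint X → a = q (IsLocalRing.closedPoint L) := by
    intro a ha
    obtain ⟨x', hx'⟩ : genericPoint X ∈ Set.range j := by
      rw [Scheme.range_fromSpecStalk]; exact specializes_rfl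
    obtain ⟨s, hs, -⟩ :=
      Scheme.Pullback.exists_preimage_pullback (f := p) (g := j) a x' (ha.trans hx'.symm)
    obtain ⟨t, rfl⟩ := eP.surjective s
    rw [Subsingleton.elim t (IsLocalRing.closedPoint L)] at hs
    exact hs.symm
  haveI : Nonempty Y := ⟨q (IsLocalRing.closedPoint L)⟩
  have hgen : ∀ y : Y, q (IsLocalRing.closedPoint L) ⤳ y := fun y => by
    obtain ⟨a, ⟨ha, hay⟩, -⟩ :=
      Groth.Agent.Lib.FEt.NormalCover.existsUnique_generalization hX p y
    exact huniq a ha ▸ hay
  haveI : ConnectedSpace Y :=
    connectedSpace_iff_univ.2 ((isConnected_singleton (x := q (IsLocalRing.closedPoint L))).subset_closure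
      (Set.subset_univ _) (fun y _ => specializes_iff_mem_closure.1 (hgen y)))
  haveI := Groth.Agent.Lib.FEt.NormalCover.isIntegral hX p
  have hqη : q (IsLocalRing.closedPoint L) = genericPoint Y :=
    ((hgen _).antisymm (genericPoint_specializes _)).eq
  obtain ⟨s, hs, hsq⟩ := exists_iso_fromSpecStalk q (genericPoint Y) hqη
    (Field.toIsField Y.functionField)
  haveI := hs
  have hfac : Y.fromSpecStalk (genericPoint Y) ≫ p = inv s ≫ g := by
    rw [← hqp, ← hsq]; simp
  haveI : QuasiCompact (Y.fromSpecStalk (genericPoint Y) ≫ p) := by
    rw [hfac]; infer_instance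
  haveI : QuasiSeparated (Y.fromSpecStalk (genericPoint Y) ≫ p) := by
    rw [hfac]; infer_instance
  obtain ⟨ι, hι, hιc⟩ := Groth.Agent.Lib.EtSite.EtaleNormalization.exists_isOpenImmersion p
    (Groth.Agent.Lib.FEt.NormalCover.isNormalScheme_of_etale hX p)
  haveI := hι
  haveI : IsFinite (ι ≫ (Y.fromSpecStalk (genericPoint Y) ≫ p).fromNormalization) := by
    rw [hιc]; infer_instance
  haveI : IsFinite ι := MorphismProperty.of_postcomp (W := @IsFinite) (W' := @IsSeparated) _
    (Y.fromSpecStalk (genericPoint Y) ≫ p).fromNormalization inferInstance inferInstance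
  haveI : Surjective ι := ⟨Set.range_eq_univ.1 <| IsClopen.eq_univ
    ⟨ι.isClosedMap.isClosed_range, ι.isOpenEmbedding.isOpen_range⟩ (Set.range_nonempty _)⟩
  haveI : IsIso ι := (isIso_iff_isOpenImmersion_and_epi_base ι).2 ⟨hι,
    (TopCat.epi_iff_surjective _).2 ι.surjective⟩
  obtain ⟨e', he', hec⟩ := exists_iso_of_comp s (Y.fromSpecStalk (genericPoint Y) ≫ p) g
    (by rw [← Category.assoc, hsq, hqp])
  haveI := he'
  have hN : g.fromNormalization = (e' ≫ inv ι) ≫ p := by
    rw [Category.assoc, ← hec]; congr 1
    rw [eq_comm, IsIso.inv_comp_eq, hιc]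
  rw [hN]
  exact ⟨inferInstance, inferInstance⟩

end

open AlgebraicGeometry CategoryTheory CategoryTheory.Limits in
/-- The essential image of restriction of finite etale covers from a normal integral scheme X to its
generic point Spec K consists of the finite etale K-schemes whose points are spectra of finite
extensions L of K in which X is unramified. Precisely: let L be a finite field extension of K and Y₀
the object Spec L → Spec K of the category of finite etale covers of Spec K; then Y₀ is isomorphic
to the restriction of a finite etale cover of X if and only if the normalization of X in Spec L is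
finite etale over X. (With full faithfulness of this restriction functor for normal X, this says
that the fundamental group of X is the Galois group of the union M of all finite subextensions of a
separable closure in which X is unramified.) -/
theorem result {X : Scheme.{u}} [IsIntegral X] (hX : Pi1.IsNormalScheme X)
    (L : Type u) [Field L] [Algebra X.functionField L] [FiniteDimensional X.functionField L]
    [QuasiCompact (Spec.map (CommRingCat.ofHom (algebraMap X.functionField L)) ≫ X.fromSpecStalk (genericPoint X))] [QuasiSeparated (Spec.map (CommRingCat.ofHom (algebraMap X.functionField L)) ≫ X.fromSpecStalk (genericPoint X))]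
    (Y₀ : FEt.Cat (Spec X.functionField)) (e : Y₀.left ≅ Spec (CommRingCat.of L))
    (he : e.hom ≫ Spec.map (CommRingCat.ofHom (algebraMap X.functionField L)) = Y₀.hom) :
    (FEt.restrict (X.fromSpecStalk (genericPoint X))).essImage Y₀ ↔
      (Etale (Spec.map (CommRingCat.ofHom (algebraMap X.functionField L)) ≫ X.fromSpecStalk (genericPoint X)).fromNormalization ∧ IsFinite (Spec.map (CommRingCat.ofHom (algebraMap X.functionField L)) ≫ X.fromSpecStalk (genericPoint X)).fromNormalization) := by
  let j := X.fromSpecStalk (genericPoint X)
  let φ : X.functionField →+* L := algebraMap X.functionField L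
  let g := Spec.map (CommRingCat.ofHom φ) ≫ j
  have hgQC : QuasiCompact g := ‹_›
  have hgQS : QuasiSeparated g := ‹_›
  constructor
  · rintro ⟨Y, ⟨eY⟩⟩
    haveI : IsIso eY.inv.left := inferInstanceAs (IsIso ((MorphismProperty.Over.forget FEt.prop.{u} ⊤ _ ⋙ Over.forget _).map eY.inv))
    let eP : Spec (CommRingCat.of L) ⟶ pullback Y.hom j := e.inv ≫ eY.inv.left
    have heP : eP ≫ pullback.snd Y.hom j = Spec.map (CommRingCat.ofHom φ) := by
      have h1 : eY.inv.left ≫ pullback.snd Y.hom j = Y₀.hom := MorphismProperty.Over.w eY.inv
      rw [Category.assoc, h1, ← he, Iso.inv_hom_id_assoc]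
    exact @finiteEtale_of_iso X _ hX L _ φ g rfl hgQC hgQS Y.left Y.hom Y.prop.1 Y.prop.2 eP
      (inferInstanceAs (IsIso (e.inv ≫ eY.inv.left))) heP
  · rintro ⟨hE, hF⟩
    haveI : Etale g.fromNormalization := hE
    haveI : IsFinite g.fromNormalization := hF
    haveI : IsIntegral g.normalization := Groth.Agent.Lib.Normalization.InField.isIntegral_normalization g
    haveI : IsPreimmersion g.toNormalization := by
      have hsurj : Function.Surjective (Scheme.stalkClosedPointTo g.toNormalization).hom := fun y => by
        have h : y ∈ Set.range (Scheme.stalkClosedPointTo g.toNormalization).hom := by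
          rw [Groth.Agent.Lib.Normalization.InFieldGeneric.range_stalkClosedPointTo φ g rfl]
          exact Algebra.IsIntegral.isIntegral (R := X.functionField) y
        exact h
      haveI : IsIso (Scheme.stalkClosedPointTo g.toNormalization) :=
        (ConcreteCategory.isIso_iff_bijective _).2
          ⟨Groth.Agent.Lib.Normalization.InFieldGeneric.injective_stalkClosedPointTo φ g rfl, hsurj⟩
      have h := Scheme.Spec_stalkClosedPointTo_fromSpecStalk g.toNormalization
      rw [← h]
      infer_instance
    let P := pullback g.fromNormalization j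
    let u : Spec (CommRingCat.of L) ⟶ P := pullback.lift g.toNormalization (Spec.map (CommRingCat.ofHom φ))
      (by rw [Scheme.Hom.toNormalization_fromNormalization])
    haveI : IsPreimmersion (u ≫ pullback.fst g.fromNormalization j) := by
      rw [pullback.lift_fst]; infer_instance
    haveI : IsPreimmersion u := IsPreimmersion.of_comp u (pullback.fst g.fromNormalization j)
    haveI : Surjective u := ⟨fun p => ⟨IsLocalRing.closedPoint L, by
      apply (pullback.fst g.fromNormalization j).isEmbedding.injective
      have h1 : pullback.fst g.fromNormalization j (u (IsLocalRing.closedPoint L)) =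
          g.toNormalization (IsLocalRing.closedPoint L) := by
        rw [← Scheme.Hom.comp_apply, pullback.lift_fst]
      refine h1.trans ((Groth.Agent.Lib.Normalization.InFieldGeneric.toNormalization_eq_genericPoint φ g rfl _).trans
        (Groth.Agent.Lib.Normalization.InFieldGeneric.eq_genericPoint_of_mem_fibre φ g rfl _ ?_).symm)
      rw [← Scheme.Hom.comp_apply, pullback.condition, Scheme.Hom.comp_apply]
      have h2 := Set.mem_range_self (f := j) (pullback.snd g.fromNormalization j p)
      rw [Scheme.range_fromSpecStalk] at h2
      exact (h2.antisymm (genericPoint_specializes _)).eq⟩⟩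
    haveI : IsClosedImmersion u := IsClosedImmersion.of_isPreimmersion u (by
      rw [u.surjective.range_eq]; exact isClosed_univ)
    haveI : IsReduced P := Groth.Agent.Lib.GrpSch.isReduced_of_smooth_field
      (k := X.functionField) (pullback.snd g.fromNormalization j)
    haveI : IsIso u := isIso_of_isClosedImmersion_of_surjective u
    refine ⟨MorphismProperty.Over.mk _ g.fromNormalization ⟨hF, hE⟩, ⟨?_⟩⟩
    refine MorphismProperty.Over.isoMk ((asIso u).symm ≪≫ e.symm) ?_
    show (inv u ≫ e.inv) ≫ Y₀.hom = pullback.snd g.fromNormalization j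
    rw [← he, Category.assoc, Iso.inv_hom_id_assoc, IsIso.inv_comp_eq, pullback.lift_snd]

end Groth.Agent.S9491
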