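import Groth.Statements.S9495
import Mathlib.AlgebraicGeometry.Morphisms.QuasiCompact
import Mathlib.AlgebraicGeometry.PullbackCarrier

set_option autoImplicit false
universe u
open SchMor

namespace Groth.Agent.S9495

open AlgebraicGeometry CategoryTheory in
theorem range_of_isAffine {X : Scheme.{u}} {A : CommRingCat.{u}} (f : X ⟶ Spec A) [QuasiCompact f]
    (H : StableUnderSpecialization (Set.range f)) : IsClosed (Set.range f) := by
  obtain ⟨R, g, hg⟩ := compactSpace_iff_exists.mp (QuasiCompact.compactSpace_of_compactSpace f)
  have e : Set.range f = Set.range (g ≫ f) := by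
    rw [Scheme.Hom.comp_base, TopCat.coe_comp, hg.range_comp]
  rw [e] at H ⊢
  obtain ⟨φ, hφ⟩ := Spec.homEquiv.symm.surjective (g ≫ f)
  rw [← hφ] at H ⊢
  exact PrimeSpectrum.isClosed_range_of_stableUnderSpecialization φ.hom H

open AlgebraicGeometry in
open CategoryTheory in
/-- For a quasi-compact morphism of schemes f : X → S, the image f(X) is closed in S if and only if it
is stable under specialization. -/
theorem result
    {X S : Scheme.{u}} (f : X ⟶ S) [QuasiCompact f] :
    IsClosed (Set.range f) ↔ StableUnderSpecialization (Set.range f) := by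
  refine ⟨fun h => h.stableUnderSpecialization, fun H => ?_⟩
  refine (TopologicalSpace.IsOpenCover.isClosed_iff_coe_preimage
    (TopologicalSpace.IsOpenCover.mk (iSup_affineOpens_eq_top S))).mpr fun W => ?_
  let e := W.2.fromSpec
  let g : CategoryTheory.Limits.pullback f e ⟶ Spec Γ(S, W.1) := CategoryTheory.Limits.pullback.snd f e
  have hr : Set.range g = e ⁻¹' Set.range f := Scheme.Pullback.range_snd f e
  haveI : QuasiCompact g := CategoryTheory.MorphismProperty.pullback_snd _ _ inferInstance
  have hs : StableUnderSpecialization (Set.range g) := by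
    rw [hr]
    exact fun a b hab ha => H (hab.map e.continuous) ha
  have hc := range_of_isAffine g hs
  rw [hr] at hc
  have h2 : e ⁻¹' Set.range f = W.2.isoSpec.inv ⁻¹' ((Subtype.val : W.1 → S) ⁻¹' Set.range f) := rfl
  rw [h2] at hc
  exact (W.2.isoSpec.inv.homeomorph.isClosed_preimage).mp hc

end Groth.Agent.S9495
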