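import Groth.Statements.S9499
import Groth.Agent.Lib.MonoField.Sigma

set_option autoImplicit false
universe u
open SchMor

namespace Groth.Agent.S9499

open AlgebraicGeometry in
open CategoryTheory in
/-- Let (k_i) be a finite family of fields and f : X → Spec(∏_i k_i) a monomorphism of schemes. Then
there are a subset I of the index set and an isomorphism X ≅ Spec(∏_{i∈I} k_i) over Spec(∏_i k_i),
where Spec(∏_{i∈I} k_i) maps to Spec(∏_i k_i) through the projection ring homomorphism ∏_i k_i →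
∏_{i∈I} k_i. -/
theorem result
    {ι : Type u} [Finite ι] (k : ι → Type u) [∀ i, Field (k i)]
    {X : Scheme.{u}} (f : X ⟶ Spec (CommRingCat.of (Π i, k i))) [Mono f] :
    ∃ (I : Set ι) (e : X ≅ Spec (CommRingCat.of (Π i : I, k i))),
      e.hom ≫ Spec.map (CommRingCat.ofHom (Pi.ringHom fun i : I => Pi.evalRingHom k i.1)) = f := by
  let R : ι → CommRingCat.{u} := fun i => CommRingCat.of (k i)
  let f' : X ⟶ ∐ fun i => Spec (CommRingCat.of (k i)) := f ≫ inv (sigmaSpec R)
  obtain ⟨I, e, he⟩ := Groth.Agent.MonoField.exists_sigma k f'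
  let R' : I → CommRingCat.{u} := fun i => CommRingCat.of (k i.1)
  refine ⟨I, e ≪≫ asIso (sigmaSpec R'), ?_⟩
  have h : sigmaSpec R' ≫ Spec.map (CommRingCat.ofHom (Pi.ringHom fun i : I => Pi.evalRingHom k i.1)) =
      Limits.Sigma.desc (fun j : I => Limits.Sigma.ι (fun i => Spec (CommRingCat.of (k i))) j.1) ≫ sigmaSpec R := by
    refine Limits.Sigma.hom_ext _ _ fun j => ?_
    rw [ι_sigmaSpec_assoc]
    rw [Limits.Sigma.ι_desc_assoc]
    refine Eq.trans ?_ (ι_sigmaSpec R j.1).symm
    rw [← Spec.map_comp]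
    rfl
  show (e.hom ≫ sigmaSpec R') ≫ _ = _
  rw [Category.assoc]
  refine (congrArg (e.hom ≫ ·) h).trans ?_
  refine (Category.assoc _ _ _).symm.trans ?_
  rw [he]
  simp [f']

end Groth.Agent.S9499
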