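import Groth.Statements.S9500
import Groth.Agent.Lib.MonoField.Sigma

set_option autoImplicit false
universe u
open SchMor

namespace Groth.Agent.S9500

open AlgebraicGeometry in
open CategoryTheory Limits in
/-- Let (k_i)_{i ∈ ι} be a family of fields, X = ∐_i Spec(k_i) the disjoint union, and f : Y → X a
monomorphism of schemes. Then there are a subset J of ι and an isomorphism Y ≅ ∐_{j ∈ J} Spec(k_j)
over X, where ∐_{j ∈ J} Spec(k_j) maps to X by the coproduct inclusions. -/
theorem result
    {ι : Type u} (k : ι → Type u) [∀ i, Field (k i)]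
    {Y : Scheme.{u}} (f : Y ⟶ ∐ fun i => Spec (CommRingCat.of (k i))) [Mono f] :
    ∃ (J : Set ι) (e : Y ≅ ∐ fun j : J => Spec (CommRingCat.of (k j.1))),
      e.hom ≫ Sigma.desc (fun j : J => Sigma.ι (fun i => Spec (CommRingCat.of (k i))) j.1) = f := by
  exact Groth.Agent.MonoField.exists_sigma k f

end Groth.Agent.S9500
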