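import Groth.Statements.S9501
import Groth.Agent.Lib.ModelFibre.MaxPoint
import Mathlib.AlgebraicGeometry.Fiber

set_option autoImplicit false
universe u
open SchMor

namespace Groth.Agent.S9501

open AlgebraicGeometry CategoryTheory Limits IsLocalRing in
theorem surjective_stalkMap_fiberι {X S : Scheme.{u}} (f : X ⟶ S) (s : S) (y : ↥(f.fiber s)) :
    Function.Surjective ((f.fiberι s).stalkMap y).hom :=
  haveI : IsPreimmersion (f.fiberι s) := MorphismProperty.pullback_fst _ _ inferInstance
  (f.fiberι s).stalkMap_surjective y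

open CategoryTheory IsLocalRing in
theorem comp_eq_zero {A B C D : CommRingCat.{u}} [IsLocalRing A] (c : A ⟶ B) [IsLocalHom c.hom]
    (d : B ⟶ C) [IsLocalHom d.hom] (e : C ⟶ D) (hC : IsField C) {a : A} (ha : a ∈ maximalIdeal A) :
    (c ≫ d ≫ e).hom a = 0 := by
  have h : d.hom (c.hom a) = 0 := by
    by_contra h
    obtain ⟨b, hb⟩ := hC.mul_inv_cancel h
    exact (mem_maximalIdeal a).mp ha
      ((isUnit_map_iff c.hom a).mp ((isUnit_map_iff d.hom _).mp (IsUnit.of_mul_eq_one b hb)))
  show e.hom (d.hom (c.hom a)) = 0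
  rw [h, map_zero]

open AlgebraicGeometry CategoryTheory Limits IsLocalRing in
theorem le_ker {X S : Scheme.{u}} (f : X ⟶ S) (s : S) (y : ↥(f.fiber s)) :
    Ideal.map (f.stalkMap ((f.fiberι s).base y)).hom
        (maximalIdeal (S.presheaf.stalk (f.base ((f.fiberι s).base y)))) ≤
      RingHom.ker ((f.fiberι s).stalkMap y).hom := by
  refine Ideal.map_le_iff_le_comap.mpr fun a ha => ?_
  rw [Ideal.mem_comap, RingHom.mem_ker]
  let t := f.fiberToSpecResidueField s y
  have hfield : IsField ((Spec (S.residueField s)).presheaf.stalk t) :=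
    Groth.Agent.Lib.ModelFibre.MaxPoint.isField_stalk fun z _ =>
      Subsingleton.elim (α := PrimeSpectrum _) _ _
  have e := Scheme.Hom.stalkMap_congr_hom _ _ (f.fiber_fac s) y
  rw [Scheme.Hom.stalkMap_comp, Scheme.Hom.stalkMap_comp] at e
  have h1 := congrArg (fun g => CommRingCat.Hom.hom g a) e
  refine h1.trans ?_
  haveI hl : IsLocalHom ((S.fromSpecResidueField s).stalkMap (f.fiberToSpecResidueField s y)).hom :=
    (S.fromSpecResidueField s).toLRSHom.prop _
  exact @comp_eq_zero _ _ _ _ _ _ inferInstance _ hl _ hfield _ ha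

open AlgebraicGeometry CategoryTheory Limits IsLocalRing in
theorem ker_le {X S : Scheme.{u}} (f : X ⟶ S) (s : S) (a : ↥(f.fiber s)) :
    RingHom.ker ((f.fiberι s).stalkMap a).hom ≤
    Ideal.map (f.stalkMap ((f.fiberι s).base a)).hom
        (maximalIdeal (S.presheaf.stalk (f.base ((f.fiberι s).base a)))) := by
  haveI : IsPreimmersion (f.fiberι s) := MorphismProperty.pullback_fst _ _ inferInstance
  set x := (f.fiberι s).base a with hx
  set J := Ideal.map (f.stalkMap x).hom (maximalIdeal (S.presheaf.stalk (f.base x))) with hJ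
  have hxs : f x = s := by
    have : x ∈ Set.range (f.fiberι s) := ⟨a, rfl⟩
    rw [Scheme.Hom.range_fiberι] at this
    exact this
  have : Nontrivial (X.presheaf.stalk x ⧸ J) :=
    Ideal.Quotient.nontrivial_iff.2 fun h => RingHom.ker_ne_top _ (top_le_iff.1 (h.ge.trans (le_ker f s a)))
  have : IsLocalRing (X.presheaf.stalk x ⧸ J) :=
    .of_surjective' (Ideal.Quotient.mk J) Ideal.Quotient.mk_surjective
  let Q : CommRingCat.{u} := CommRingCat.of (X.presheaf.stalk x ⧸ J)
  have : IsLocalRing Q := ‹IsLocalRing (X.presheaf.stalk x ⧸ J)›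
  let mk : X.presheaf.stalk x ⟶ Q := CommRingCat.ofHom (Ideal.Quotient.mk J)
  have : IsLocalHom mk.hom := .of_surjective (Ideal.Quotient.mk J) Ideal.Quotient.mk_surjective
  let q : S.residueField (f x) ⟶ Q := CommRingCat.ofHom
    (Ideal.Quotient.lift (maximalIdeal (S.presheaf.stalk (f x))) ((Ideal.Quotient.mk J).comp (f.stalkMap x).hom)
      fun r hr => Ideal.Quotient.eq_zero_iff_mem.2 (Ideal.mem_map_of_mem _ hr))
  have hq : S.residue (f x) ≫ q = f.stalkMap x ≫ mk := by ext r; rfl
  let h : Spec Q ⟶ f.fiber s := pullback.lift (Spec.map mk ≫ X.fromSpecStalk x)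
    (Spec.map ((S.residueFieldCongr hxs.symm).hom ≫ q)) (by
      rw [Spec.map_comp, Category.assoc, Category.assoc,
        Scheme.residueFieldCongr_fromSpecResidueField, Scheme.fromSpecResidueField,
        ← Spec.map_comp_assoc, hq, Spec.map_comp, Category.assoc,
        Scheme.SpecMap_stalkMap_fromSpecStalk])
  have hhι : h ≫ f.fiberι s = Spec.map mk ≫ X.fromSpecStalk x := pullback.lift_fst _ _ _
  have hpt : h (closedPoint Q) = a := by
    apply (f.fiberι s).isEmbedding.injective
    rw [← Scheme.Hom.comp_apply, hhι, Scheme.Hom.comp_apply]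
    have : Spec.map mk (closedPoint Q) = closedPoint (X.presheaf.stalk x) :=
      IsLocalRing.comap_closedPoint mk.hom
    rw [this, Scheme.fromSpecStalk_closedPoint]
  let ψ : (f.fiber s).presheaf.stalk a ⟶ Q :=
    (f.fiber s).presheaf.stalkSpecializes (specializes_of_eq hpt) ≫ Scheme.stalkClosedPointTo h
  have key : (f.fiberι s).stalkMap a ≫ ψ = mk := by
    apply Spec.map_injective
    rw [← cancel_mono (X.fromSpecStalk x), Spec.map_comp, Category.assoc,
      Scheme.SpecMap_stalkMap_fromSpecStalk, ← hhι, ← Category.assoc]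
    congr 1
    simp only [ψ, Spec.map_comp, Category.assoc,
      Scheme.SpecMap_stalkSpecializes_fromSpecStalk, Scheme.Spec_stalkClosedPointTo_fromSpecStalk]
  intro r hr
  have : mk.hom r = 0 := by
    rw [← key]
    show ψ.hom (((f.fiberι s).stalkMap a).hom r) = 0
    rw [RingHom.mem_ker.1 hr, map_zero]
  exact Ideal.Quotient.eq_zero_iff_mem.1 this

open AlgebraicGeometry in
open CategoryTheory in
/-- Let f : X → S be a morphism of schemes, s a point of S and y a point of the fibre X_s = X ×_S Spec
κ(s), mapping to the point x of X (so that f(x) = s). Then the homomorphism of local rings O_{X,x} →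
O_{X_s,y} induced by the projection X_s → X is surjective, with kernel the ideal generated by the
image of the maximal ideal of O_{S,f(x)}; in other words O_{X_s,y} is identified with O_{X,x}/m_s
O_{X,x} = O_{X,x} ⊗_{O_{S,s}} κ(s). -/
theorem result
    {X S : Scheme.{u}} (f : X ⟶ S) (s : S) (y : ↥(f.fiber s)) :
    Function.Surjective ((f.fiberι s).stalkMap y).hom ∧
      RingHom.ker ((f.fiberι s).stalkMap y).hom =
        Ideal.map (f.stalkMap ((f.fiberι s).base y)).hom
          (IsLocalRing.maximalIdeal (S.presheaf.stalk (f.base ((f.fiberι s).base y)))) := by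
  exact ⟨surjective_stalkMap_fiberι f s y, le_antisymm (ker_le f s y) (le_ker f s y)⟩

end Groth.Agent.S9501
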