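import Groth.Statements.S9502
import Groth.Agent.Lib.LRSClosed.Scheme

set_option autoImplicit false
universe u
open SchMor

namespace Groth.Agent.S9502

open AlgebraicGeometry in
open CategoryTheory in
/-- Let f : X → Y be a morphism of schemes such that (1) the underlying continuous map of f is a
homeomorphism onto a closed subset of Y and (2) the map of sheaves of rings O_Y → f_*O_X is
surjective (locally surjective on sections). Then f is a closed immersion in the sense of locally
ringed spaces: (1) and (2) hold and (3) the kernel of O_Y → f_*O_X is locally generated by sections,
i.e. around every point of Y there are sections of O_Y killed in f_*O_X whose germs generate the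
kernel of the stalk map O_{Y,y} → (f_*O_X)_y at every nearby point y. (For a morphism of schemes (1)
and (2) alone already give surjective stalk maps; the content of this row is condition (3).) -/
theorem result
    {X Y : Scheme.{u}} (f : X ⟶ Y) (h1 : Topology.IsClosedEmbedding f)
    (h2 : TopCat.Presheaf.IsLocallySurjective f.c) :
    LRSImm.IsClosedImmersion f.toLRSHom := by
  exact Groth.Agent.Lib.LRSClosed.isClosedImmersion_of_scheme f h1 h2

end Groth.Agent.S9502
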