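import Groth.Statements.S9503
import Groth.Agent.Lib.QCoh.Tilde
import Groth.Agent.Lib.HomFP.QCoh
import Groth.Agent.Lib.Exchange.HomAdj
import Groth.Agent.Lib.ProjKoszul.Surj
import Groth.Agent.S9827

set_option autoImplicit false
universe u
open AffSch

namespace Groth.Agent.S9503

section Helpers

open AlgebraicGeometry CategoryTheory Opposite TopologicalSpace
open Groth.Agent.Lib Groth.Agent.Lib.QCoh.Tilde
open Groth.Agent.Lib.RefHull.SecHom Groth.Agent.Lib.RefHull.HomSh
open Groth.Agent.Lib.TensorMod.Dual (rs rf rs_self)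

theorem app_add_left {X : Scheme.{u}} {F G : X.Modules} {U V : X.Opens}
    (g g' : Γ(_root_.RefHull.homSh F G, U)) (hV : V ≤ U) (m : Γ(F, V)) :
    app (g + g') hV m = app g hV m + app g' hV m :=
  sec_ext fun y hy => by rw [map_add, germ_app, germ_app, germ_app]; rfl

theorem nonempty_homSh_tilde_iso {R : CommRingCat.{u}} (M : ModuleCat.{u} R)
    (hM : CohB1.IsFP (tilde M)) (G : (Spec R).Modules) [G.IsQuasicoherent] :
    Nonempty (_root_.RefHull.homSh (tilde M) G ≅
      tilde (ModuleCat.of R (M →ₗ[R] (specΓ R).obj G))) := by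
  let H := _root_.RefHull.homSh (tilde M) G
  haveI : H.IsQuasicoherent :=
    HomFP.isQCoh_homSh_of_isFP hM (inferInstanceAs G.IsQuasicoherent)
  let η : M ⟶ (specΓ R).obj (tilde M) := (sectionsTildeIso (R := R)).hom.app M
  let Ψ : (specΓ R).obj H →ₗ[R] (M →ₗ[R] (specΓ R).obj G) :=
    { toFun := fun g =>
        { toFun := fun m => app (U := ⊤) (show Γ(H, ⊤) from g) le_rfl (η m)
          map_add' := fun m m' => (congrArg (app (U := ⊤) (show Γ(H, ⊤) from g) le_rfl) (map_add η.hom m m')).trans
            (map_add _ _ _)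
          map_smul' := fun r m => (congrArg (app (U := ⊤) (show Γ(H, ⊤) from g) le_rfl) (map_smul η.hom r m)).trans
            (map_smul (app (U := ⊤) (show Γ(H, ⊤) from g) le_rfl) ((Scheme.ΓSpecIso R).inv r)
              (show Γ(tilde M, ⊤) from η m)) }
      map_add' := fun g g' => LinearMap.ext fun m =>
        app_add_left (U := ⊤) (show Γ(H, ⊤) from g) (show Γ(H, ⊤) from g') le_rfl (η m)
      map_smul' := fun r g => LinearMap.ext fun m => by
        refine (app_smul_left (U := ⊤) ((Scheme.ΓSpecIso R).inv r) (show Γ(H, ⊤) from g) le_rfl (η m)).trans ?_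
        exact congrArg (· • _) (TensorMod.Dual.rf_self _ _) }
  haveI : IsIso η := ((sectionsTildeIso (R := R)).app M).isIso_hom
  have hη : Function.Bijective η := ConcreteCategory.bijective_of_isIso η
  have hΨ : Function.Bijective Ψ := by
    refine ⟨fun g g' h => ?_, fun φ => ?_⟩
    · refine sec_ext_of_affine (isAffineOpen_top _) (le_rfl : (⊤ : (Spec R).Opens) ≤ ⊤) fun x => ?_
      obtain ⟨m, rfl⟩ := hη.2 x
      have hm := LinearMap.congr_fun h m
      exact (congrArg (app (U := ⊤) (show Γ(H, ⊤) from g) le_rfl) (rs_self (tilde M) le_rfl (η m))).trans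
        (Eq.trans hm
          (congrArg (app (U := ⊤) (show Γ(H, ⊤) from g') le_rfl) (rs_self (tilde M) le_rfl (η m))).symm)
    · let ψ : M ⟶ (specΓ R).obj G := ConcreteCategory.ofHom φ
      let f : tilde M ⟶ G := ((specAdj R).homEquiv M G).symm ψ
      have hf : η ≫ (specΓ R).map f = ψ := by
        have h1 := ((specAdj R).homEquiv M G).apply_symm_apply ψ
        rw [Adjunction.homEquiv_unit] at h1
        exact h1
      let g : Γ(H, ⊤) := (ZarCoh.Exchange.HomAdj.curry
        ((TensorMod.Basic.rightUnit (tilde M)).hom ≫ f)).app ⊤ (TensorMod.Gen.one _ ⊤)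
      refine ⟨g, LinearMap.ext fun m => ?_⟩
      show app g le_rfl (η m) = φ m
      refine (congrArg (fun s => app s le_rfl (η m)) (ZarCoh.Exchange.HomAdj.curry_app _ _)).trans ?_
      refine (ZarCoh.Exchange.HomAdj.app_currySec _ le_rfl _ _).trans ?_
      refine (congrArg (TensorMod.Free.pairM _ (show Γ(tilde M, ⊤) from η m)) (rs_self _ _ _)).trans ?_
      refine (TensorMod.Free.pairM_comp _ _ _ _).trans ?_
      refine (congrArg (f.app ⊤) ((ProjKoszul.Surj.pairM_rightUnit_hom _ _ (1 : Γ(Spec R, ⊤))).trans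
        (one_smul _ _))).trans ?_
      exact ConcreteCategory.congr_hom hf m
  exact ⟨(isoTildeSections H).symm ≪≫
    (tilde.functor R).mapIso (LinearEquiv.ofBijective Ψ hΨ).toModuleIso⟩

end Helpers

open AlgebraicGeometry in
open CategoryTheory in
/-- Let A be a commutative ring, M a finitely presented A-module and N an A-module, with associated
O_X-modules M~ and N~ on X = Spec A, and let Hom_{O_X}(M~, -) denote the sheaf-Hom functor (the
right adjoint of M~ ⊗ -, assumed to exist). Then Hom_{O_X}(M~, N~) is isomorphic to the O_X-module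
associated to the A-module Hom_A(M, N) (existence of an isomorphism only; the prelude's sheaf Hom is
a chosen right adjoint, so no particular map is singled out). -/
theorem result
    (A : Type u) [CommRing A] (M N : Type u) [AddCommGroup M] [Module A M]
    [Module.FinitePresentation A M] [AddCommGroup N] [Module A N]
    [DCoh.HasSheafHom (tilde (R := CommRingCat.of A) (ModuleCat.of A M))] :
    Nonempty ((DCoh.sheafHom (tilde (R := CommRingCat.of A) (ModuleCat.of A M))).obj
        (tilde (R := CommRingCat.of A) (ModuleCat.of A N)) ≅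
      tilde (R := CommRingCat.of A) (ModuleCat.of A (M →ₗ[A] N))) := by
  let R : CommRingCat.{u} := CommRingCat.of A
  let M' : ModuleCat.{u} R := ModuleCat.of A M
  let N' : ModuleCat.{u} R := ModuleCat.of A N
  haveI : Module.FinitePresentation R M' := inferInstanceAs (Module.FinitePresentation A M)
  obtain ⟨e₁⟩ := ZarCoh.Exchange.HomAdj.nonempty_sheafHom_iso (A' := tilde M') (B' := tilde N')
    (CategoryTheory.Iso.refl (tilde M')) (CategoryTheory.Iso.refl (tilde N'))
  obtain ⟨e₂⟩ := nonempty_homSh_tilde_iso M' ((Groth.Agent.S9827.result R M').2 inferInstance)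
    (tilde N')
  exact ⟨e₁ ≪≫ e₂ ≪≫ (tilde.functor R).mapIso
      (LinearEquiv.congrRight ((Groth.Agent.Lib.QCoh.Tilde.sectionsTildeIso (R := R)).app N').toLinearEquiv.symm).toModuleIso⟩

end Groth.Agent.S9503
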