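import Groth.Statements.S9507
import Groth.Prelude.Def_W4stkremschemesLRS
import Mathlib.Topology.Sheaves.SheafCondition.UniqueGluing
import Mathlib.Geometry.RingedSpace.LocallyRingedSpace

set_option autoImplicit false
universe u
open LRSImm

namespace Groth.Agent.S9507

section
set_option maxHeartbeats 1000000
open CategoryTheory AlgebraicGeometry TopologicalSpace Opposite

variable {Z X Y : LocallyRingedSpace.{u}}

/-- A section of `O_Z` is locally the image of a section of `O_X`. -/
theorem exists_local_lift (i : Z ⟶ X) (hi : LRSImm.IsClosedImmersion i) (V : Opens Z.toTopCat)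
    (s : Z.presheaf.obj (op V)) (z : Z.toTopCat) (hz : z ∈ V) :
    ∃ (U : Opens X.toTopCat) (h : (Opens.map i.base).obj U ≤ V) (r : X.presheaf.obj (op U)),
      i.base z ∈ U ∧ i.c.app (op U) r = Z.presheaf.map (homOfLE h).op s := by
  obtain ⟨W, hW, hWV⟩ := hi.1.isEmbedding.toIsInducing.isOpen_iff.mp V.isOpen
  let U' : Opens X.toTopCat := ⟨W, hW⟩
  have hle : (Opens.map i.base).obj U' ≤ V := fun a ha => hWV.le ha
  obtain ⟨U, hU, ⟨r, hr⟩, hxU⟩ := (TopCat.Presheaf.isLocallySurjective_iff i.c).1 hi.2.1 U'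
    (Z.presheaf.map (homOfLE hle).op s) (i.base z) (hWV.ge hz)
  refine ⟨U, ((Opens.map i.base).map (homOfLE (show U ≤ U' from hU))).le.trans hle, r, hxU, hr.trans ?_⟩
  show Z.presheaf.map _ (Z.presheaf.map _ s) = _
  rw [← ConcreteCategory.comp_apply, ← Z.presheaf.map_comp]
  rfl

theorem uniq (i : Z ⟶ X) (hi : LRSImm.IsClosedImmersion i) (g g' : Y ⟶ Z)
    (h : g' ≫ i = g ≫ i) : g' = g := by
  obtain ⟨⟨gb, gc⟩, gl⟩ := g
  obtain ⟨⟨gb', gc'⟩, gl'⟩ := g'
  have hb : gb' = gb := by
    ext y
    exact hi.1.injective (congrArg (fun k : Y ⟶ X => k.base y) h)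
  subst hb
  have hc : ∀ (U : Opens X.toTopCat) (r : X.presheaf.obj (op U)),
      gc'.app (op ((Opens.map i.base).obj U)) (i.c.app (op U) r) =
        gc.app (op ((Opens.map i.base).obj U)) (i.c.app (op U) r) := by
    have h1 := congrArg (fun k : Y ⟶ X => k.toHom) h
    injection h1 with _ h2
    intro U r
    exact congrArg (fun (c : X.presheaf ⟶ _) => c.app (op U) r) h2
  suffices gc' = gc by subst this; rfl
  ext V s
  refine Y.sheaf.eq_of_locally_eq'
    (fun a : {U : Opens X.toTopCat // (Opens.map i.base).obj U ≤ V ∧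
        ∃ h : (Opens.map i.base).obj U ≤ V, ∃ r : X.presheaf.obj (op U),
          i.c.app (op U) r = Z.presheaf.map (homOfLE h).op s} =>
      (Opens.map gb').obj ((Opens.map i.base).obj a.1)) _
    (fun a => (Opens.map gb').map (homOfLE a.2.1)) (fun y hy => ?_) _ _ fun a => ?_
  · obtain ⟨U, hU, r, hzU, hr⟩ := exists_local_lift i hi (V) s (gb' y) hy
    exact Opens.mem_iSup.mpr ⟨⟨U, hU, hU, r, hr⟩, hzU⟩
  · obtain ⟨hU, hU', r, hr⟩ := a.2
    have n1 := ConcreteCategory.congr_hom (gc'.naturality (homOfLE hU).op) s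
    have n2 := ConcreteCategory.congr_hom (gc.naturality (homOfLE hU).op) s
    exact n1.symm.trans (((congrArg (gc'.app _) hr.symm).trans
      ((hc a.1 r).trans (congrArg (gc.app _) hr))).trans n2)

theorem exists_factor (i : Z ⟶ X) (hi : LRSImm.IsClosedImmersion i) (f : Y ⟶ X)
    (hf : ∀ (U : Opens X.toTopCat) (s : X.presheaf.obj (op U)),
      i.c.app (op U) s = 0 → f.c.app (op U) s = 0) : ∃ g : Y ⟶ Z, g ≫ i = f := by
  obtain ⟨⟨fb, fc⟩, fl⟩ := f
  have hrange : ∀ y, ∃ z, i.base z = fb y := by
    intro y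
    by_contra hy
    let U : Opens X.toTopCat := ⟨(Set.range i.base)ᶜ, hi.1.isClosed_range.isOpen_compl⟩
    have hU : (Opens.map i.base).obj U = ⊥ := by
      ext z
      simp [U]
    have h1 : i.c.app (op U) (1 : X.presheaf.obj (op U)) = 0 := by
      refine Z.sheaf.eq_of_locally_eq' (fun a : Empty => a.elim) _ (fun a => a.elim)
        (fun z hz => ?_) _ _ fun a => a.elim
      rw [hU] at hz
      exact hz.elim
    have h2 : fc.app (op U) (1 : X.presheaf.obj (op U)) = 0 := hf U 1 h1
    have h3 := congrArg (fun t => Y.presheaf.germ ((Opens.map fb).obj U) y hy t) h2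
    simp only [map_one, map_zero] at h3
    exact one_ne_zero h3
  choose g0f hg0 using hrange
  let g0 : Y.toTopCat ⟶ Z.toTopCat := TopCat.ofHom ⟨g0f, hi.1.isEmbedding.continuous_iff.mpr (by
    rw [show (i.base : Z.toTopCat → X.toTopCat) ∘ g0f = fb from funext hg0]
    exact fb.hom.continuous)⟩
  have hfb : fb = g0 ≫ i.base := by ext y; exact (hg0 y).symm
  clear_value g0
  clear hg0 g0f
  subst hfb
  replace hf : ∀ (U : Opens X.toTopCat) (s : X.presheaf.obj (op U)),
      i.c.app (op U) s = 0 → fc.app (op U) s = 0 := hf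
  have rrY : ∀ {A B C : Opens Y.toTopCat} (h : B ≤ A) (h' : C ≤ B) (t : Y.presheaf.obj (op A)),
      Y.presheaf.map (homOfLE h').op (Y.presheaf.map (homOfLE h).op t) =
        Y.presheaf.map (homOfLE (h'.trans h)).op t := by
    intro A B C h h' t
    rw [← ConcreteCategory.comp_apply, ← Y.presheaf.map_comp]
    rfl
  have rrZ : ∀ {A B C : Opens Z.toTopCat} (h : B ≤ A) (h' : C ≤ B) (t : Z.presheaf.obj (op A)),
      Z.presheaf.map (homOfLE h').op (Z.presheaf.map (homOfLE h).op t) =
        Z.presheaf.map (homOfLE (h'.trans h)).op t := by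
    intro A B C h h' t
    rw [← ConcreteCategory.comp_apply, ← Z.presheaf.map_comp]
    rfl
  have natI : ∀ {A B : Opens X.toTopCat} (h : B ≤ A) (r : X.presheaf.obj (op A)),
      i.c.app (op B) (X.presheaf.map (homOfLE h).op r) =
        Z.presheaf.map (homOfLE ((Opens.map i.base).map (homOfLE h)).le).op (i.c.app (op A) r) :=
    fun h r => ConcreteCategory.congr_hom (i.c.naturality (homOfLE h).op) r
  have natF : ∀ {A B : Opens X.toTopCat} (h : B ≤ A) (r : X.presheaf.obj (op A)),
      fc.app (op B) (X.presheaf.map (homOfLE h).op r) =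
        Y.presheaf.map (homOfLE ((Opens.map (g0 ≫ i.base)).map (homOfLE h)).le).op (fc.app (op A) r) :=
    fun h r => ConcreteCategory.congr_hom (fc.naturality (homOfLE h).op) r
  let Good : ∀ (V : Opens Z.toTopCat), Z.presheaf.obj (op V) →
      Y.presheaf.obj (op ((Opens.map g0).obj V)) → Prop := fun V s t =>
    ∀ (U : Opens X.toTopCat) (h : (Opens.map i.base).obj U ≤ V) (r : X.presheaf.obj (op U)),
      i.c.app (op U) r = Z.presheaf.map (homOfLE h).op s →
        Y.presheaf.map (homOfLE ((Opens.map g0).map (homOfLE h)).le).op t = fc.app (op U) r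
  have hex : ∀ V s, ∃! t, Good V s t := by
    intro V s
    let ι := {p : (U : Opens X.toTopCat) × X.presheaf.obj (op U) //
      ∃ h : (Opens.map i.base).obj p.1 ≤ V, i.c.app (op p.1) p.2 = Z.presheaf.map (homOfLE h).op s}
    have hcov : (Opens.map g0).obj V ≤
        ⨆ a : ι, (Opens.map g0).obj ((Opens.map i.base).obj a.1.1) := by
      intro y hy
      obtain ⟨U, hU, r, hzU, hr⟩ := exists_local_lift i hi V s (g0 y) hy
      exact Opens.mem_iSup.mpr ⟨⟨⟨U, r⟩, hU, hr⟩, hzU⟩
    obtain ⟨t, ht, htu⟩ := Y.sheaf.existsUnique_gluing'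
      (fun a : ι => (Opens.map g0).obj ((Opens.map i.base).obj a.1.1)) ((Opens.map g0).obj V)
      (fun a => (Opens.map g0).map (homOfLE a.2.1)) hcov (fun a => fc.app (op a.1.1) a.1.2)
      (fun a b => by
        obtain ⟨ha, ha'⟩ := a.2
        obtain ⟨hb, hb'⟩ := b.2
        have h0 : i.c.app (op (a.1.1 ⊓ b.1.1))
            (X.presheaf.map (homOfLE (inf_le_left : a.1.1 ⊓ b.1.1 ≤ a.1.1)).op a.1.2 -
              X.presheaf.map (homOfLE (inf_le_right : a.1.1 ⊓ b.1.1 ≤ b.1.1)).op b.1.2) = 0 := by
          rw [map_sub, natI, natI, ha', hb', sub_eq_zero]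
          exact (rrZ _ _ s).trans (rrZ _ _ s).symm
        have h1 := hf _ _ h0
        rw [map_sub, natF, natF, sub_eq_zero] at h1
        exact h1)
    refine ⟨t, fun U h r hr => ht ⟨⟨U, r⟩, h, hr⟩, fun t' ht' => htu t' fun a => ?_⟩
    obtain ⟨h, hr⟩ := a.2
    exact ht' a.1.1 h a.1.2 hr
  choose G hG hGu using fun V s => (hex V s)
  have hG1 : ∀ V, G V 1 = 1 := fun V => (hGu V 1 1 (fun U h r hr => by
    rw [map_one] at hr ⊢
    have h0 : i.c.app (op U) (r - 1) = 0 := by rw [map_sub, hr, map_one, sub_self]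
    have := hf U _ h0
    rw [map_sub, map_one, sub_eq_zero] at this
    exact this.symm)).symm
  have hGadd : ∀ V s s', G V (s + s') = G V s + G V s' := fun V s s' => by
    refine (hGu V (s + s') _ fun U h r hr => ?_).symm
    refine Y.sheaf.eq_of_locally_eq'
      (fun a : {p : (U' : Opens X.toTopCat) × X.presheaf.obj (op U') // p.1 ≤ U ∧
          ∃ h' : (Opens.map i.base).obj p.1 ≤ V,
            i.c.app (op p.1) p.2 = Z.presheaf.map (homOfLE h').op s} =>
        (Opens.map g0).obj ((Opens.map i.base).obj a.1.1)) _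
      (fun a => (Opens.map (g0 ≫ i.base)).map (homOfLE a.2.1)) (fun y hy => ?_) _ _ fun a => ?_
    · obtain ⟨U₁, hU₁, r₁, hz, hr₁⟩ := exists_local_lift i hi V s (g0 y) (h hy)
      refine Opens.mem_iSup.mpr ⟨⟨⟨U ⊓ U₁, X.presheaf.map (homOfLE inf_le_right).op r₁⟩,
        inf_le_left, ((Opens.map i.base).map (homOfLE inf_le_right)).le.trans hU₁, ?_⟩, hy, hz⟩
      rw [natI, hr₁]
      exact rrZ _ _ s
    · obtain ⟨haU, ha, ha'⟩ := a.2
      have hr' : i.c.app (op a.1.1) (X.presheaf.map (homOfLE haU).op r - a.1.2) =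
          Z.presheaf.map (homOfLE ha).op s' := by
        rw [map_sub, natI, hr, ha', map_add, map_add]
        rw [sub_eq_iff_eq_add]
        exact (congrArg₂ (· + ·) (rrZ _ _ s) (rrZ _ _ s')).trans (add_comm _ _)
      have e1 := hG V s a.1.1 ha a.1.2 ha'
      have e2 := hG V s' a.1.1 ha _ hr'
      rw [map_sub, natF] at e2
      refine ((congrArg (Y.presheaf.map _) (map_add (Y.presheaf.map _).hom (G V s) (G V s'))).trans
        (map_add (Y.presheaf.map _).hom _ _)).trans ?_
      refine (congrArg₂ (· + ·) ((rrY _ _ _).trans e1) ((rrY _ _ _).trans e2)).trans ?_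
      exact add_sub_cancel _ _
  have hGmul : ∀ V s s', G V (s * s') = G V s * G V s' := fun V s s' => by
    refine (hGu V (s * s') _ fun U h r hr => ?_).symm
    refine Y.sheaf.eq_of_locally_eq'
      (fun a : {p : (U' : Opens X.toTopCat) × (X.presheaf.obj (op U') × X.presheaf.obj (op U')) //
          p.1 ≤ U ∧ ∃ h' : (Opens.map i.base).obj p.1 ≤ V,
            i.c.app (op p.1) p.2.1 = Z.presheaf.map (homOfLE h').op s ∧
            i.c.app (op p.1) p.2.2 = Z.presheaf.map (homOfLE h').op s'} =>
        (Opens.map g0).obj ((Opens.map i.base).obj a.1.1)) _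
      (fun a => (Opens.map (g0 ≫ i.base)).map (homOfLE a.2.1)) (fun y hy => ?_) _ _ fun a => ?_
    · obtain ⟨U₁, hU₁, r₁, hz₁, hr₁⟩ := exists_local_lift i hi V s (g0 y) (h hy)
      obtain ⟨U₂, hU₂, r₂, hz₂, hr₂⟩ := exists_local_lift i hi V s' (g0 y) (h hy)
      refine Opens.mem_iSup.mpr ⟨⟨⟨U ⊓ (U₁ ⊓ U₂),
        X.presheaf.map (homOfLE (inf_le_right.trans inf_le_left)).op r₁,
        X.presheaf.map (homOfLE (inf_le_right.trans inf_le_right)).op r₂⟩,
        inf_le_left, ((Opens.map i.base).map (homOfLE (inf_le_right.trans inf_le_left))).le.trans hU₁,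
        ?_, ?_⟩, hy, hz₁, hz₂⟩
      · rw [natI, hr₁]; exact rrZ _ _ s
      · rw [natI, hr₂]; exact rrZ _ _ s'
    · obtain ⟨haU, ha, ha₁, ha₂⟩ := a.2
      have h0 : i.c.app (op a.1.1) (X.presheaf.map (homOfLE haU).op r - a.1.2.1 * a.1.2.2) = 0 := by
        rw [map_sub, map_mul, natI, hr, ha₁, ha₂, sub_eq_zero, ← map_mul]
        exact rrZ _ _ (s * s')
      have h1 := hf _ _ h0
      rw [map_sub, map_mul, natF, sub_eq_zero] at h1
      have e1 := hG V s a.1.1 ha a.1.2.1 ha₁
      have e2 := hG V s' a.1.1 ha a.1.2.2 ha₂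
      refine ((congrArg (Y.presheaf.map _) (map_mul (Y.presheaf.map _).hom (G V s) (G V s'))).trans
        (map_mul (Y.presheaf.map _).hom _ _)).trans ?_
      exact (congrArg₂ (· * ·) ((rrY _ _ _).trans e1) ((rrY _ _ _).trans e2)).trans h1.symm
  let Gc : Z.presheaf ⟶ g0 _* Y.presheaf :=
    { app := fun V => CommRingCat.ofHom
        { toFun := G (unop V)
          map_one' := hG1 _
          map_mul' := hGmul _
          map_zero' := by
            have := hGadd (unop V) 0 0
            rwa [add_zero, left_eq_add] at this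
          map_add' := hGadd _ }
      naturality := fun V W k => by
        ext s
        refine (hGu (unop W) _ _ fun U h r hr => ?_).symm
        refine (rrY _ _ _).trans (hG (unop V) s U (h.trans k.unop.le) r (hr.trans ?_))
        exact rrZ k.unop.le h s }
  have hcomp : ∀ (U : Opens X.toTopCat) (r : X.presheaf.obj (op U)),
      G ((Opens.map i.base).obj U) (i.c.app (op U) r) = fc.app (op U) r := by
    intro U r
    have := hG ((Opens.map i.base).obj U) (i.c.app (op U) r) U le_rfl r (by
      exact (ConcreteCategory.congr_hom (Z.presheaf.map_id _) _).symm)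
    exact (ConcreteCategory.congr_hom (Y.presheaf.map_id _) _).symm.trans this
  let g : Y ⟶ Z :=
    { base := g0
      c := Gc
      prop := fun y => ⟨fun a ha => by
        obtain ⟨V, hzV, s, rfl⟩ := Z.presheaf.germ_exist a
        obtain ⟨U, hU, r, hxU, hr⟩ := exists_local_lift i hi V s (g0 y) hzV
        have hs : Z.presheaf.germ V (g0 y) hzV s =
            i.stalkMap (g0 y) (X.presheaf.germ U (i.base (g0 y)) hxU r) := by
          refine Eq.trans ?_ (ConcreteCategory.congr_hom (LocallyRingedSpace.stalkMap_germ i U (g0 y) hxU) r).symm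
          show _ = Z.presheaf.germ _ _ _ (i.c.app (op U) r)
          rw [hr]
          exact (TopCat.Presheaf.germ_res_apply Z.presheaf (homOfLE hU) (g0 y) hxU s).symm
        have hb : IsUnit ((PresheafedSpace.Hom.stalkMap ⟨g0 ≫ i.base, fc⟩ y).hom
            (X.presheaf.germ U (i.base (g0 y)) hxU r)) := by
          have e1 := ConcreteCategory.congr_hom
            (PresheafedSpace.stalkMap_germ (X := Y.toPresheafedSpace) ⟨g0, Gc⟩ V y hzV) s
          have e2 := ConcreteCategory.congr_hom
            (PresheafedSpace.stalkMap_germ (X := Y.toPresheafedSpace) (Y := X.toPresheafedSpace)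
              ⟨g0 ≫ i.base, fc⟩ U y hxU) r
          have key : Y.presheaf.germ ((Opens.map g0).obj V) y hzV (G V s) =
              Y.presheaf.germ ((Opens.map g0).obj ((Opens.map i.base).obj U)) y hxU (fc.app (op U) r) := by
            rw [← hG V s U hU r hr]
            exact (TopCat.Presheaf.germ_res_apply Y.presheaf
              ((Opens.map g0).map (homOfLE hU)) y hxU (G V s)).symm
          have h3 : IsUnit (Y.presheaf.germ ((Opens.map g0).obj V) y hzV (G V s)) :=
            (congrArg IsUnit e1).mp ha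
          rw [key] at h3
          exact (congrArg IsUnit e2).mpr h3
        have := (fl y).map_nonunit _ hb
        rw [hs]
        exact this.map (i.stalkMap (g0 y)).hom⟩ }
  refine ⟨g, LocallyRingedSpace.Hom.ext' (PresheafedSpace.ext _ _ rfl ?_)⟩
  ext U r
  exact (ConcreteCategory.congr_hom (Y.presheaf.map_id _) _).trans (hcomp U r)

end

open AlgebraicGeometry in
open CategoryTheory Opposite TopologicalSpace in
/-- Take a morphism i : Z → X of locally ringed spaces that is a closed immersion (a homeomorphism onto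
a closed subset, O_X → i_*O_Z surjective as a map of sheaves, kernel I locally generated by
sections), and let f : Y → X be a morphism of locally ringed spaces. Then f factors through i if and
only if the composite I → O_X → f_*O_Y vanishes, i.e. every local section of O_X that maps to zero
in i_*O_Z maps to zero in f_*O_Y (equivalently f^*I → O_Y is zero); moreover the factorisation Y → Z
is unique. (The published statement is phrased for the closed subspace cut out by a sheaf of ideals
locally generated by sections; here it is phrased for any closed immersion of locally ringed spaces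
with I the kernel of O_X → i_*O_Z, which is the situation its proof treats.) -/
theorem result
    {Z X Y : LocallyRingedSpace.{u}} (i : Z ⟶ X) (hi : LRSImm.IsClosedImmersion i) (f : Y ⟶ X) :
    ((∃ g : Y ⟶ Z, g ≫ i = f) ↔
      ∀ (U : Opens X.toTopCat) (s : X.presheaf.obj (op U)),
        i.c.app (op U) s = 0 → f.c.app (op U) s = 0) ∧
    ∀ g g' : Y ⟶ Z, g ≫ i = f → g' ≫ i = f → g = g' := by
  refine ⟨⟨?_, exists_factor i hi f⟩, fun g g' hg hg' => uniq i hi g' g (hg.trans hg'.symm)⟩
  rintro ⟨g, rfl⟩ U s hs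
  show g.c.app _ (i.c.app (op U) s) = 0
  rw [hs, map_zero]

end Groth.Agent.S9507
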