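import Groth.Statements.S9508
import Mathlib.AlgebraicGeometry.Morphisms.QuasiSeparated

set_option autoImplicit false
universe u
open SchMor

namespace Groth.Agent.S9508

open AlgebraicGeometry in
open CategoryTheory in
/-- (1) ⇔ (2): A morphism of schemes f : X → S is quasi-separated if and only if, whenever two affine
opens U and V of X both lie in the preimage f⁻¹(W) of one affine open W of S, their intersection U ∩
V is quasi-compact (equivalently, is covered by finitely many affine opens). -/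
theorem result
    {X S : Scheme.{u}} (f : X ⟶ S) :
    QuasiSeparated f ↔
      ∀ (U V : X.affineOpens) (W : S.affineOpens),
        (U : X.Opens) ≤ f ⁻¹ᵁ (W : S.Opens) → (V : X.Opens) ≤ f ⁻¹ᵁ (W : S.Opens) →
          IsCompact ((U : Set X) ∩ (V : Set X)) := by
  constructor
  · intro hf U V W hU hV
    have hq : QuasiSeparated (f ∣_ (W : S.Opens)) := IsZariskiLocalAtTarget.restrict hf _
    haveI : IsAffine (W : S.Opens) := W.2
    haveI : QuasiSeparatedSpace (f ⁻¹ᵁ (W : S.Opens) : Scheme.{u}) :=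
      (HasAffineProperty.iff_of_isAffine (P := @QuasiSeparated)).mp hq
    have h := quasiSeparatedSpace_iff_forall_affineOpens.mp ‹_›
      ⟨(f ⁻¹ᵁ (W : S.Opens)).ι ⁻¹ᵁ U, U.2.preimage_of_isOpenImmersion _ (by rwa [Scheme.Opens.opensRange_ι])⟩
      ⟨(f ⁻¹ᵁ (W : S.Opens)).ι ⁻¹ᵁ V, V.2.preimage_of_isOpenImmersion _ (by rwa [Scheme.Opens.opensRange_ι])⟩
    have h' := h.image (f ⁻¹ᵁ (W : S.Opens)).ι.continuous
    convert h' using 1
    ext x
    exact ⟨fun hx => ⟨⟨x, hU hx.1⟩, ⟨hx.1, hx.2⟩, rfl⟩, fun ⟨y, hy, e⟩ => e ▸ hy⟩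
  · intro h
    rw [IsZariskiLocalAtTarget.iff_of_iSup_eq_top (P := @QuasiSeparated)
      (fun W : S.affineOpens => (W : S.Opens)) (iSup_affineOpens_eq_top S)]
    intro W
    haveI : IsAffine (W : S.Opens) := W.2
    rw [HasAffineProperty.iff_of_isAffine (P := @QuasiSeparated),
      quasiSeparatedSpace_iff_forall_affineOpens]
    intro A B
    rw [(f ⁻¹ᵁ (W : S.Opens)).ι.isOpenEmbedding.isInducing.isCompact_iff,
      Set.image_inter (f ⁻¹ᵁ (W : S.Opens)).ι.isOpenEmbedding.injective]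
    have hle : ∀ C : (f ⁻¹ᵁ (W : S.Opens) : Scheme.{u}).Opens,
        (f ⁻¹ᵁ (W : S.Opens)).ι ''ᵁ C ≤ f ⁻¹ᵁ (W : S.Opens) := fun C x hx => by
      obtain ⟨y, _, rfl⟩ := hx
      exact y.2
    exact h ⟨_, A.2.image_of_isOpenImmersion _⟩ ⟨_, B.2.image_of_isOpenImmersion _⟩ W
      (hle _) (hle _)

end Groth.Agent.S9508
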