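import Groth.Statements.S9509
import Mathlib.AlgebraicGeometry.Morphisms.QuasiSeparated

set_option autoImplicit false
universe u
open SchMor

namespace Groth.Agent.S9509

open AlgebraicGeometry in
theorem inter_isCompact_of_le_affine {X : Scheme.{u}} (T : X.affineOpens) {P Q : X.Opens}
    (hP : IsCompact (P : Set X)) (hQ : IsCompact (Q : Set X)) (hPT : P ≤ T.1) (hQT : Q ≤ T.1) :
    IsCompact ((P : Set X) ∩ Q) := by
  haveI : IsAffine (T.1 : Scheme.{u}) := T.2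
  have := QuasiSeparatedSpace.inter_isCompact (T.1.ι ⁻¹' (P : Set X)) (T.1.ι ⁻¹' (Q : Set X))
    (P.2.preimage T.1.ι.continuous) (by
      rw [T.1.ι.isOpenEmbedding.isInducing.isCompact_iff, Set.image_preimage_eq_of_subset]
      · exact hP
      · rw [Scheme.Opens.range_ι]; exact hPT)
    (Q.2.preimage T.1.ι.continuous) (by
      rw [T.1.ι.isOpenEmbedding.isInducing.isCompact_iff, Set.image_preimage_eq_of_subset]
      · exact hQ
      · rw [Scheme.Opens.range_ι]; exact hQT)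
  rw [T.1.ι.isOpenEmbedding.isInducing.isCompact_iff, ← Set.preimage_inter,
    Set.image_preimage_eq_of_subset] at this
  · exact this
  · rw [Scheme.Opens.range_ι]; exact Set.inter_subset_left.trans hPT

open AlgebraicGeometry in
theorem compact_inter {X : Scheme.{u}} {κ : Type u} (V : κ → X.affineOpens)
    (hVV : ∀ j j', IsCompact ((V j : Set X) ∩ (V j' : Set X))) {T : X.Opens}
    (hT : T ≤ ⨆ j, (V j : X.Opens)) {A B : X.Opens} (hA : IsCompact (A : Set X))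
    (hB : IsCompact (B : Set X)) (hAT : A ≤ T) (hBT : B ≤ T) : IsCompact ((A : Set X) ∩ B) := by
  have loc : ∀ C : X.Opens, IsCompact (C : Set X) → C ≤ T → ∃ s : Set X.affineOpens,
      s.Finite ∧ (∀ a ∈ s, a.1 ≤ C ∧ ∃ j, a.1 ≤ (V j).1) ∧ (C : Set X) ⊆ ⋃ a ∈ s, (a.1 : Set X) := by
    intro C hC hCT
    have h : ∀ x : C, ∃ a : X.affineOpens, x.1 ∈ a.1 ∧ a.1 ≤ C ∧ ∃ j, a.1 ≤ (V j).1 := fun x => by
      obtain ⟨j, hj⟩ := TopologicalSpace.Opens.mem_iSup.mp (hT (hCT x.2))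
      obtain ⟨a, ha, hxa, hle⟩ := exists_isAffineOpen_mem_and_subset (U := C ⊓ (V j).1) (x := x.1)
        ⟨x.2, hj⟩
      exact ⟨⟨a, ha⟩, hxa, fun y hy => (hle hy).1, j, fun y hy => (hle hy).2⟩
    choose a ha haC using h
    obtain ⟨K, hK⟩ := hC.elim_finite_subcover (fun x => ((a x).1 : Set X)) (fun x => (a x).1.2)
      fun y hy => Set.mem_iUnion.mpr ⟨⟨y, hy⟩, ha ⟨y, hy⟩⟩
    refine ⟨a '' ↑K, K.finite_toSet.image a, fun b hb => ?_, fun y hy => ?_⟩
    · obtain ⟨x, -, rfl⟩ := hb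
      exact haC x
    · obtain ⟨x, hx, hyx⟩ := Set.mem_iUnion₂.mp (hK hy)
      exact Set.mem_iUnion₂.mpr ⟨a x, ⟨x, hx, rfl⟩, hyx⟩
  obtain ⟨s, hs, hs1, hs2⟩ := loc A hA hAT
  obtain ⟨t, ht, ht1, ht2⟩ := loc B hB hBT
  have e : (A : Set X) ∩ B = ⋃ p ∈ s ×ˢ t, ((p.1.1 : Set X) ∩ p.2.1) := by
    ext y
    constructor
    · intro hy
      obtain ⟨a, ha, hya⟩ := Set.mem_iUnion₂.mp (hs2 hy.1)
      obtain ⟨b, hb, hyb⟩ := Set.mem_iUnion₂.mp (ht2 hy.2)
      exact Set.mem_iUnion₂.mpr ⟨(a, b), ⟨ha, hb⟩, hya, hyb⟩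
    · intro hy
      obtain ⟨p, hp, hy1, hy2⟩ := Set.mem_iUnion₂.mp hy
      exact ⟨(hs1 _ hp.1).1 hy1, (ht1 _ hp.2).1 hy2⟩
  rw [e]
  refine (hs.prod ht).isCompact_biUnion fun p hp => ?_
  obtain ⟨j, hj⟩ := (hs1 _ hp.1).2
  obtain ⟨j', hj'⟩ := (ht1 _ hp.2).2
  have h1 : IsCompact (((p.1.1 ⊓ ((V j).1 ⊓ (V j').1) : X.Opens)) : Set X) :=
    inter_isCompact_of_le_affine (V j) p.1.2.isCompact (hVV j j') hj inf_le_left
  have h2 := inter_isCompact_of_le_affine (V j') h1 p.2.2.isCompact (inf_le_right.trans inf_le_right) hj'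
  convert h2 using 1
  ext y
  exact ⟨fun hy => ⟨⟨hy.1, hj hy.1, hj' hy.2⟩, hy.2⟩, fun hy => ⟨hy.1.1, hy.2⟩⟩

open AlgebraicGeometry in
open CategoryTheory in
/-- (3) ⇒ (1): Let f : X → S be a morphism of schemes. Suppose S is covered by affine opens W_i, each
preimage f⁻¹(W_i) is covered by affine opens V_{i,j}, and any two V_{i,j}, V_{i,j'} with the same
index i meet in a quasi-compact open (one covered by finitely many affine opens). Then f is
quasi-separated. -/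
theorem result
    {X S : Scheme.{u}} (f : X ⟶ S) {ι : Type u} (W : ι → S.affineOpens)
    (hW : ⨆ i, (W i : S.Opens) = ⊤) {κ : ι → Type u} (V : ∀ i, κ i → X.affineOpens)
    (hV : ∀ i, ⨆ j, (V i j : X.Opens) = f ⁻¹ᵁ (W i : S.Opens))
    (hVV : ∀ i (j j' : κ i), IsCompact ((V i j : Set X) ∩ (V i j' : Set X))) :
    QuasiSeparated f := by
  rw [IsZariskiLocalAtTarget.iff_of_iSup_eq_top (P := @QuasiSeparated) (fun i => (W i : S.Opens)) hW]
  intro i
  haveI : IsAffine (W i : S.Opens) := (W i).2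
  rw [HasAffineProperty.iff_of_isAffine (P := @QuasiSeparated),
    quasiSeparatedSpace_iff_forall_affineOpens]
  intro A B
  let j := (f ⁻¹ᵁ (W i : S.Opens)).ι
  rw [j.isOpenEmbedding.isInducing.isCompact_iff, Set.image_inter j.isOpenEmbedding.injective]
  have hle : ∀ C : (f ⁻¹ᵁ (W i : S.Opens) : Scheme.{u}).Opens, j ''ᵁ C ≤ f ⁻¹ᵁ (W i : S.Opens) :=
    fun C x hx => by
      obtain ⟨y, _, rfl⟩ := hx
      exact y.2
  exact compact_inter (V i) (hVV i) (hV i).ge (A := j ''ᵁ A) (B := j ''ᵁ B)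
    (A.2.image_of_isOpenImmersion _).isCompact (B.2.image_of_isOpenImmersion _).isCompact (hle _) (hle _)

end Groth.Agent.S9509
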