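import Mathlib
import Groth.Statements.S9511
-- import your own Groth.Agent.* helpers here

set_option autoImplicit false
universe u
open LRSImm

namespace Groth.Agent.S9511

open AlgebraicGeometry in
open CategoryTheory TopologicalSpace in
/-- Let X be a locally ringed space and U, V ⊆ X open with X = U ⊔ V (they cover X and are disjoint),
such that the open subspaces X|_U and X|_V are affine schemes. Then X is an affine scheme: the
canonical morphism X → Spec Γ(X, O_X) is an isomorphism of locally ringed spaces. -/
theorem result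
    (X : LocallyRingedSpace.{u}) (U V : Opens X.toTopCat) (hUV : IsCompl U V)
    (A B : CommRingCat.{u})
    (eU : X.restrict U.isOpenEmbedding ≅ (Spec A).toLocallyRingedSpace)
    (eV : X.restrict V.isOpenEmbedding ≅ (Spec B).toLocallyRingedSpace) :
    IsIso X.toΓSpec := by
  have hmem : ∀ x : X.toTopCat, x ∈ U ∨ x ∈ V := fun x => by
    have h : x ∈ U ⊔ V := by rw [hUV.sup_eq_top]; trivial
    exact h
  let Y : Scheme.{u} :=
    { toLocallyRingedSpace := X
      local_affine := fun x => (hmem x).elim
        (fun h => ⟨⟨U, h⟩, A, ⟨eU⟩⟩) (fun h => ⟨⟨V, h⟩, B, ⟨eV⟩⟩) }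
  let U' : Y.Opens := U
  let V' : Y.Opens := V
  have hU : IsAffineOpen U' :=
    IsAffine.of_isIso (Scheme.forgetToLocallyRingedSpace.preimageIso (X := U'.toScheme) (Y := Spec A) eU).hom
  have hV : IsAffineOpen V' :=
    IsAffine.of_isIso (Scheme.forgetToLocallyRingedSpace.preimageIso (X := V'.toScheme) (Y := Spec B) eV).hom
  have hY : IsAffineOpen (⊤ : Y.Opens) := by
    have := hU.sup_of_disjoint hV hUV.disjoint
    rwa [show U' ⊔ V' = ⊤ from hUV.sup_eq_top] at this
  have : IsAffine Y := by
    have : IsAffine (⊤ : Y.Opens).toScheme := hY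
    exact IsAffine.of_isIso Y.topIso.inv
  have h2 : IsIso (Scheme.forgetToLocallyRingedSpace.map Y.toSpecΓ) := inferInstance
  exact h2

end Groth.Agent.S9511
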