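import Groth.Statements.S9513
import Groth.Agent.Lib.AffineBasisSheaf99
-- import your own Groth.Agent.* helpers here

set_option autoImplicit false
universe u
open SchMor

namespace Groth.Agent.S9513

open AlgebraicGeometry in
open CategoryTheory TopologicalSpace Opposite in
/-- (1) ⇔ (3): Let X be a scheme and B the set of affine opens of X, ordered by inclusion; let F be a
presheaf of sets on B (a functor on Bᵒᵖ) and E ∈ B the empty open. Then F is isomorphic to the
restriction to B of a sheaf of sets on X if and only if (a) F(∅) is a singleton and (b) for all U ∈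
B and sections f, g of O_X over U with U = D(f) ∪ D(g), writing V = D(f), W = D(g) and V ∩ W = D(fg)
(all in B), the map F(U) → F(V) × F(W) is injective with image exactly the pairs (s, t) whose
restrictions to D(fg) agree. (The order relations V, W ≤ U and D(fg) ≤ V, W are supplied as
hypotheses; they follow from the equations.) -/
theorem result (X : Scheme.{u})
    (F : (X.affineOpens)ᵒᵖ ⥤ Type u) (E : X.affineOpens) (hE : (E : X.Opens) = ⊥) :
    (∃ G : TopCat.Sheaf (Type u) X.carrier,
        Nonempty ((Monotone.functor (f := fun U : X.affineOpens => (U : X.Opens)) (fun _ _ h => h)).op ⋙ G.1 ≅ F)) ↔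
    ((Nonempty (F.obj (op E)) ∧ Subsingleton (F.obj (op E))) ∧
      ∀ (U V W VW : X.affineOpens) (f g : Γ(X, (U : X.Opens))),
        (V : X.Opens) = X.basicOpen f → (W : X.Opens) = X.basicOpen g →
        (VW : X.Opens) = X.basicOpen (f * g) → (U : X.Opens) = (V : X.Opens) ⊔ (W : X.Opens) →
        ∀ (hV : V ≤ U) (hW : W ≤ U) (h1 : VW ≤ V) (h2 : VW ≤ W),
        Function.Injective (fun s : F.obj (op U) => (F.map (homOfLE hV).op s, F.map (homOfLE hW).op s)) ∧
        Set.range (fun s : F.obj (op U) => (F.map (homOfLE hV).op s, F.map (homOfLE hW).op s)) =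
          {p | F.map (homOfLE h1).op p.1 = F.map (homOfLE h2).op p.2}) := by
  constructor
  · rintro ⟨G, ⟨e⟩⟩
    refine ⟨(Groth.Agent.AffineBasisSheaf99.bot_of_sheaf F E ⟨G, ⟨e⟩⟩).resolve_right
      (fun h => h hE), ?_⟩
    intro U V W VW f g hVf hWg hVWfg hU hV hW h1 h2
    exact Groth.Agent.AffineBasisSheaf99.glue2_of_sheaf F G e U V W VW hU
      (by rw [hVWfg, hVf, hWg, X.basicOpen_mul]) hV hW h1 h2
  · rintro ⟨⟨hne, hsub⟩, h2⟩
    exact ⟨⟨Groth.Agent.AffineBasisSheaf99.ext' F,
      Groth.Agent.AffineBasisSheaf99.isSheaf_ext' F E hE hsub hne h2⟩,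
      ⟨Groth.Agent.AffineBasisSheaf99.extIso F⟩⟩

end Groth.Agent.S9513
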