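import Groth.Statements.S9515
import Groth.Agent.Lib.CohDelta.IdealMul.Main

set_option autoImplicit false
universe u
open CategoryTheory CategoryTheory.Limits AlgebraicGeometry
attribute [local instance] HasDerivedCategory.standard
open Coherent

namespace Groth.Agent.S9515

/-- Let X be a Noetherian scheme, F a quasi-coherent O_X-module, G a coherent O_X-module and I a
quasi-coherent sheaf of ideals, with U the open complement of the closed subset cut out by I. For
every morphism φ : G|_U → F|_U there are an n ≥ 0 and a morphism ψ : I^n G → F whose restriction to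
U is the restriction of the inclusion I^n G → G followed by φ. (Here I^n G ⊆ G is the submodule
sheaf Dual3.idealMul (I^n) G.) -/
theorem result (X : Scheme.{u}) [IsNoetherian X] (F G : X.Modules)
    (hF : Coh.IsQCoh F) (hG : Coh.IsCoh G) (I : X.IdealSheafData)
    (U : X.Opens) (hU : (U : Set X) = (I.support : Set X)ᶜ)
    (φ : (Scheme.Modules.restrictFunctor U.ι).obj G ⟶
      (Scheme.Modules.restrictFunctor U.ι).obj F) :
    ∃ (n : ℕ) (ψ : (Dual3.idealMul (I ^ n)).obj G ⟶ F),
      (Scheme.Modules.restrictFunctor U.ι).map ψ =
        (Scheme.Modules.restrictFunctor U.ι).map (Dual3.idealMulι (I ^ n) G) ≫ φ := by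
  obtain ⟨n, hn⟩ := Groth.Agent.Lib.CohDelta.IdealMul.Main.exists_hom_extension I hG (F := F) hU φ
  exact ⟨n, hn n le_rfl⟩

end Groth.Agent.S9515
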