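import Groth.Statements.S9516
import Groth.Agent.Lib.CohDelta.IdealMul.Main

set_option autoImplicit false
universe u
open CategoryTheory CategoryTheory.Limits AlgebraicGeometry
attribute [local instance] HasDerivedCategory.standard
open Coherent

namespace Groth.Agent.S9516

/-- Let X be a Noetherian scheme, F a quasi-coherent O_X-module, G a coherent O_X-module and I a
quasi-coherent sheaf of ideals, with U the open complement of the closed subset cut out by I. If a
morphism ψ : I^n G → F restricts to zero on U, then ψ vanishes on I^N G for some N: there is a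
morphism ι : I^N G → I^n G commuting with the inclusions into G and with ι ≫ ψ = 0. (Together with
the surjectivity statement this says that colim_n Hom(I^n G, F) → Hom(G|_U, F|_U) is bijective.) -/
theorem result (X : Scheme.{u}) [IsNoetherian X] (F G : X.Modules)
    (hF : Coh.IsQCoh F) (hG : Coh.IsCoh G) (I : X.IdealSheafData)
    (U : X.Opens) (hU : (U : Set X) = (I.support : Set X)ᶜ) (n : ℕ)
    (ψ : (Dual3.idealMul (I ^ n)).obj G ⟶ F)
    (hψ : (Scheme.Modules.restrictFunctor U.ι).map ψ = 0) :
    ∃ (N : ℕ) (ι : (Dual3.idealMul (I ^ N)).obj G ⟶ (Dual3.idealMul (I ^ n)).obj G),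
      ι ≫ Dual3.idealMulι (I ^ n) G = Dual3.idealMulι (I ^ N) G ∧ ι ≫ ψ = 0 := by
  obtain ⟨N, hN⟩ := Groth.Agent.Lib.CohDelta.IdealMul.Main.exists_zero I hG hU n ψ hψ
  exact ⟨N, hN N le_rfl⟩

end Groth.Agent.S9516
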