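import Groth.Statements.S9517
import Groth.Agent.Lib.CohDelta.IdealMul.Artin

set_option autoImplicit false
universe u
open CategoryTheory CategoryTheory.Limits AlgebraicGeometry
attribute [local instance] HasDerivedCategory.standard
open Coherent

namespace Groth.Agent.S9517

/-- Let X be a Noetherian scheme, F a coherent O_X-module, G ⊆ F a quasi-coherent submodule (given by a
monomorphism ι : G → F) and I a quasi-coherent sheaf of ideals. Then there is c ≥ 0 such that for
every n ≥ c the two subobjects I^(n-c)·(I^c F ∩ G) and I^n F ∩ G of F are equal. (Products J·M are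
the submodule sheaves Dual3.idealMul J M; intersections are taken in the lattice of subobjects of
F.) -/
theorem result (X : Scheme.{u}) [IsNoetherian X] (F G : X.Modules) (hF : Coh.IsCoh F)
    (hG : Coh.IsQCoh G) (ι : G ⟶ F) [Mono ι] (I : X.IdealSheafData) :
    ∃ c : ℕ, ∀ n : ℕ, c ≤ n →
      Subobject.mk (Dual3.idealMulι (I ^ (n - c))
          (Subobject.underlying.obj (Subobject.mk (Dual3.idealMulι (I ^ c) F) ⊓ Subobject.mk ι)) ≫
        (Subobject.mk (Dual3.idealMulι (I ^ c) F) ⊓ Subobject.mk ι).arrow) =
      Subobject.mk (Dual3.idealMulι (I ^ n) F) ⊓ Subobject.mk ι := by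
  open Groth.Agent.Lib Groth.Agent.Lib.CohDelta.IdealMul in
  exact (Artin.main X F G hF hG ι I)

end Groth.Agent.S9517
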