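import Groth.Statements.S9521
import Groth.Agent.Lib.CohDelta.IdealMul.FinGen2
import Groth.Agent.Lib.CohDelta.IdealMul.DevTools
import Groth.Agent.S9523

set_option autoImplicit false
universe u
open Coherent

namespace Groth.Agent.S9521

open Groth.Agent.Lib Groth.Agent.Lib.Modules.StalkModule Groth.Agent.Lib.CohDelta.IdealMul
open Groth.Agent.Lib.Devissage.Basic
open CategoryTheory CategoryTheory.Limits AlgebraicGeometry TopologicalSpace Opposite
set_option linter.style.haveILetI false
attribute [local instance] HasFiniteBiproducts.of_hasFiniteProducts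

variable {X : Scheme.{u}}

/-- A bijection of stalks killed by the maximal ideal gives a monomorphism near the point. -/
theorem exists_mono_near [IsNoetherian X] (y : X) {A B : X.Modules} (hA : Coh.IsCoh A)
    (hB : Coh.IsCoh B) (lam : A.presheaf.stalk y →ₗ[X.presheaf.stalk y] B.presheaf.stalk y)
    (hlam : Function.Bijective lam)
    (hkill : ∀ a : X.presheaf.stalk y, ¬ IsUnit a → ∀ v : B.presheaf.stalk y, a • v = 0) :
    ∃ (J : X.IdealSheafData) (ψ : (Dual3.idealMul J).obj A ⟶ B) (U : X.Opens), y ∈ U ∧ Mono ψ ∧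
      ∀ x ∈ U, Function.Bijective (stalkMapₗ ψ x) := by
  obtain ⟨M, α, β, hM, -, hβy, hαβ⟩ := Groth.Agent.H52.DevSummand.bridge hA hB y lam hlam.2 hkill
  have hαy : Function.Bijective (stalkMapₗ α y) := by
    rw [show ⇑(stalkMapₗ α y) = stalkMapₗ β y ∘ lam from funext hαβ]
    exact hβy.comp hlam
  haveI := hM.1.1
  haveI := hA.1
  haveI := hB.1
  let C : Set X := (CohB1.support (kernel α) ∪ CohB1.support (cokernel α)) ∪
    (CohB1.support (kernel β) ∪ CohB1.support (cokernel β))
  haveI := (CohBasics.Closure.isCoh_kernel α hA hM.1.1).2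
  haveI := (CohBasics.Closure.isCoh_cokernel α hA.1 hM.1).2
  haveI := (CohBasics.Closure.isCoh_kernel β hB hM.1.1).2
  haveI := (CohBasics.Closure.isCoh_cokernel β hB.1 hM.1).2
  have hC : IsClosed C := ((Modules.Support.isClosed_support _).union
    (Modules.Support.isClosed_support _)).union
    ((Modules.Support.isClosed_support _).union (Modules.Support.isClosed_support _))
  have hyC : y ∉ C := by
    rintro ((h | h) | (h | h))
    exacts [Groth.Agent.H52.DevSummand.not_mem_support_kernel α hαy.1 h,
      Groth.Agent.H52.DevSummand.not_mem_support_cokernel α hαy.2 h,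
      Groth.Agent.H52.DevSummand.not_mem_support_kernel β hβy.1 h,
      Groth.Agent.H52.DevSummand.not_mem_support_cokernel β hβy.2 h]
  let U : X.Opens := ⟨Cᶜ, hC.isOpen_compl⟩
  let I := Scheme.IdealSheafData.vanishingIdeal (⟨C, hC⟩ : Closeds X)
  have hI : (I.support : Set X) = C := by
    rw [Scheme.IdealSheafData.coe_support_vanishingIdeal]; rfl
  have hU : (U : Set X) = (I.support : Set X)ᶜ := by rw [hI]; rfl
  have bij : ∀ {Q : X.Modules} (f : Q ⟶ M), CohB1.support (kernel f) ⊆ C →
      CohB1.support (cokernel f) ⊆ C → IsIso ((Scheme.Modules.restrictFunctor U.ι).map f) := by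
    intro Q f hk hc
    refine DevExt.isIso_restrict f fun x hx => ?_
    have hk' : Subsingleton ((kernel f).presheaf.stalk x) :=
      Modules.Support.not_mem_support_iff.mp fun h => hx (hk h)
    have hc' : Subsingleton ((cokernel f).presheaf.stalk x) :=
      Modules.Support.not_mem_support_iff.mp fun h => hx (hc h)
    refine ⟨(injective_iff_map_eq_zero _).mpr fun v hv => ?_, fun w => ?_⟩
    · obtain ⟨z, rfl⟩ := Groth.Agent.H52.DevSummand.eq_stalk_kernel f v hv
      rw [Subsingleton.elim z 0, map_zero]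
    · exact (ShortComplex.ab_exact_iff _).mp ((Modules.Stalk.exact_iff_stalk
        (ShortComplex.mk f (cokernel.π f) (cokernel.condition f))).mp
          (ShortComplex.exact_cokernel f) x) w (@Subsingleton.elim _ hc' _ _)
  haveI := bij α (fun x h => Or.inl (Or.inl h)) (fun x h => Or.inl (Or.inr h))
  haveI := bij β (fun x h => Or.inr (Or.inl h)) (fun x h => Or.inr (Or.inr h))
  let R := Scheme.Modules.restrictFunctor U.ι
  obtain ⟨n, ψ, hm, hψ⟩ := DevExt.exists_mono_ext I hA (B := B) hU (R.map α ≫ inv (R.map β))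
  exact ⟨I ^ n, ψ, U, hyC, hm, hψ⟩

open CategoryTheory CategoryTheory.Limits AlgebraicGeometry in
/-- Let X be a Noetherian scheme, i : Z → X a closed immersion with Z an integral scheme, ξ ∈ X the
image of the generic point of Z, and F a coherent O_X-module whose stalk F_ξ is annihilated by the
maximal ideal of O_{X,ξ}. Then one can find r ≥ 0 together with a coherent ideal sheaf I ⊆ O_Z and a
monomorphism of O_X-modules i_*(I^⊕r) → F that becomes an isomorphism when restricted to some open
neighbourhood of ξ. -/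
theorem result (X Z : Scheme.{u}) [IsNoetherian X]
    (i : Z ⟶ X) [IsClosedImmersion i] [IsIntegral Z] (F : X.Modules) (hF : Coh.IsCoh F)
    (hann : ∀ a ∈ IsLocalRing.maximalIdeal (X.presheaf.stalk (i (genericPoint Z))),
      ∀ m : ↑(F.presheaf.stalk (i (genericPoint Z))), a • m = 0) :
    ∃ (r : ℕ) (I : Z.Modules) (ι : I ⟶ Coh.structureModule Z) (φ : (Coh.push i).obj (∐ fun _ : Fin r => I) ⟶ F),
      Mono ι ∧ Coh.IsCoh I ∧ Mono φ ∧
      ∃ U : X.Opens, i (genericPoint Z) ∈ U ∧ IsIso ((Scheme.Modules.restrictFunctor U.ι).map φ) := by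
  classical
  haveI := hF.1
  haveI := hF.2
  let y := i (genericPoint Z)
  haveI := Modules.GenStalk.finite_stalk F y
  haveI : (Coh.structureModule Z).IsQuasicoherent := TensorMod.QCohInv.isQCoh_structureModule Z
  haveI : IsLocallyNoetherian Z := LocallyOfFiniteType.isLocallyNoetherian i
  have hO : Coh.IsCoh (Coh.structureModule Z) :=
    CohBasics.Closure.isCoh_of_finite_sections fun U _ =>
      (inferInstance : Module.Finite Γ(Z, U) Γ(Z, U))
  have hO0 : ¬ IsZero (Coh.structureModule Z) := fun h => by
    have : genericPoint Z ∉ CohB1.support (Coh.structureModule Z) := by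
      rw [Modules.Support.support_eq_empty_iff.mpr h]
      exact Set.notMem_empty _
    haveI : Subsingleton ((Coh.structureModule Z).presheaf.stalk (genericPoint Z)) :=
      Modules.Support.not_mem_support_iff.mp this
    obtain ⟨e⟩ := Cyc.SheafLen.exists_unit_stalk_equiv (genericPoint Z)
    exact not_subsingleton (Z.presheaf.stalk (genericPoint Z)) e.symm.toEquiv.subsingleton
  let B : X.Modules := (Coh.push i).obj (Coh.structureModule Z)
  have hBy : Module.length (X.presheaf.stalk y) (B.presheaf.stalk y) = 1 :=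
    DevExt.length_push_ideal i (Coh.structureModule Z) (𝟙 _) hO0
  obtain ⟨r, ⟨eF⟩⟩ : ∃ r, Nonempty (↑(F.presheaf.stalk y) ≃ₗ[X.presheaf.stalk y] (Fin r → B.presheaf.stalk y)) := by
    rcases subsingleton_or_nontrivial (F.presheaf.stalk y) with h | h
    · haveI : Subsingleton (Fin 0 → B.presheaf.stalk y) := inferInstance
      exact ⟨0, ⟨LinearEquiv.ofSubsingleton _ _⟩⟩
    · obtain ⟨d, -, he⟩ := DevExt.exists_equiv_pi (R := X.presheaf.stalk y) (M := F.presheaf.stalk y)
        (N := B.presheaf.stalk y) (fun a ha => hann a ((IsLocalRing.mem_maximalIdeal a).mpr ha)) hBy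
      exact ⟨d, he⟩
  let G₀ : Z.Modules := ⨁ fun _ : Fin r => Coh.structureModule Z
  have hG₀ : Coh.IsCoh G₀ := DevExt.isCoh_biproduct _ fun _ => hO
  haveI : PreservesLimitsOfSize.{0, 0} (Scheme.Modules.pushforward i) :=
    (Scheme.Modules.pullbackPushforwardAdjunction i).rightAdjoint_preservesLimits
  haveI : (Scheme.Modules.pushforward i).Additive := Functor.additive_of_preserves_binary_products _
  let c : (Scheme.Modules.pushforward i).obj G₀ ≅ ⨁ fun _ : Fin r => B :=
    (Scheme.Modules.pushforward i).mapBiproduct fun _ : Fin r => Coh.structureModule Z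
  let lam := ((stalkLinearEquiv c y).trans (FinGen2.stalkPi (fun _ : Fin r => B) y)).trans eF.symm
  obtain ⟨J, ψ, U, hyU, hψ, hψU⟩ := exists_mono_near y (A := (Coh.push i).obj G₀)
    (Cyc.Dev.SchemeEquiv.isCoh_push i hG₀) hF lam.toLinearMap lam.bijective
    (fun a ha v => hann a ((IsLocalRing.mem_maximalIdeal a).mpr ha) v)
  obtain ⟨e, -⟩ := Groth.Agent.S9523.result i G₀ hG₀.1 J
  let I := (Dual3.idealMul (J.comap i)).obj (Coh.structureModule Z)
  let c' : (∐ fun _ : Fin r => I) ≅ (Dual3.idealMul (J.comap i)).obj G₀ :=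
    (biproduct.isoCoproduct _).symm ≪≫
      ((Dual3.idealMul (J.comap i)).mapBiproduct fun _ : Fin r => Coh.structureModule Z).symm
  refine ⟨r, I, Dual3.idealMulι (J.comap i) _, (Coh.push i).map c'.hom ≫ e.inv ≫ ψ, inferInstance,
    Sec.isCoh_idealMul _ hO, inferInstance, U, hyU, ?_⟩
  haveI : IsIso ((Scheme.Modules.restrictFunctor U.ι).map ψ) := DevExt.isIso_restrict ψ hψU
  rw [Functor.map_comp, Functor.map_comp]
  infer_instance

end Groth.Agent.S9521
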