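import Groth.Statements.S9522
import Groth.Agent.Lib.CohDelta.IdealMul.DevTools

set_option autoImplicit false
set_option linter.style.haveILetI false
universe u
open CategoryTheory CategoryTheory.Limits AlgebraicGeometry
attribute [local instance] HasDerivedCategory.standard
open Coherent

namespace Groth.Agent.S9522

open Groth.Agent.Lib.Devissage.Basic Groth.Agent.Lib.CohDelta.IdealMul.Sec Groth.Agent.Lib.CohDelta.IdealMul.DevExt
  Groth.Agent.Lib.CohDelta.IdealMul.DevTools Groth.Agent.Lib.Modules.StalkModule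

/-- Let X be a Noetherian scheme, Z₀ ⊆ X an irreducible closed subset with generic point ξ, and P an
isomorphism-invariant property of O_X-modules that holds for every zero module and such that (1) for
every short exact sequence 0 → F₁ → F → F₂ → 0 of coherent modules, P(F₁) and P(F₂) imply P(F); (2)
for coherent F, P(F^⊕r) for some r ≥ 1 implies P(F); (3) P holds for i_*I for every closed immersion
i : Z → X with Z integral, i(Z) a proper subset of Z₀, and every quasi-coherent ideal sheaf I ⊆ O_Z;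
(4) there is a coherent module G with support equal to Z₀, whose stalk at ξ is annihilated by the
maximal ideal of O_{X,ξ}, and such that for every quasi-coherent sheaf of ideals J on X with ξ ∉
V(J) there is a quasi-coherent submodule G' ⊆ J·G whose inclusion into G induces an isomorphism on
stalks at ξ and for which P holds. Then P holds for every coherent O_X-module whose support is
contained in Z₀. (The published statement does not ask that P hold for the zero module, although its
proof uses this for a filtration with no steps; without it the conclusion fails for the zero module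
when Z₀ is a closed point: on the spectrum of a field, with P(F) meaning that F is nonzero, every
other hypothesis holds. This row assumes that P holds for every zero module.) -/
theorem result (X : Scheme.{u}) [IsNoetherian X]
    (Z₀ : Set X) (hZ₀ : IsClosed Z₀) (hirr : IsIrreducible Z₀) (ξ : X) (hξ : ξ ∈ Z₀ ∧ closure {ξ} = Z₀)
    (P : X.Modules → Prop) (hP : ∀ M N : X.Modules, Nonempty (M ≅ N) → P M → P N)
    (h₀ : ∀ M : X.Modules, IsZero M → P M)
    (h₁ : ∀ S : ShortComplex X.Modules, S.ShortExact → Coh.IsCoh S.X₁ → Coh.IsCoh S.X₂ → Coh.IsCoh S.X₃ →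
      P S.X₁ → P S.X₃ → P S.X₂)
    (h₂ : ∀ (F : X.Modules) (r : ℕ), Coh.IsCoh F → 1 ≤ r → P (∐ fun _ : Fin r => F) → P F)
    (h₃ : ∀ (Z : Scheme.{u}) (i : Z ⟶ X), IsClosedImmersion i → IsIntegral Z →
      Set.range ⇑i ⊆ Z₀ → Set.range ⇑i ≠ Z₀ →
      ∀ (I : Z.Modules) (ι : I ⟶ Coh.structureModule Z), Mono ι → Coh.IsQCoh I → P ((Coh.push i).obj I))
    (h₄ : ∃ G : X.Modules, Coh.IsCoh G ∧ CohB1.support G = Z₀ ∧
      (∀ a ∈ IsLocalRing.maximalIdeal (X.presheaf.stalk ξ), ∀ m : ↑(G.presheaf.stalk ξ), a • m = 0) ∧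
      ∀ J : X.IdealSheafData, ξ ∉ (J.support : Set X) →
        ∃ (G' : X.Modules) (ι' : G' ⟶ (Dual3.idealMul J).obj G), Mono ι' ∧ Coh.IsQCoh G' ∧
          IsIso ((TopCat.Presheaf.stalkFunctor _ ξ).map (ι' ≫ Dual3.idealMulι J G).mapPresheaf) ∧ P G')
    (F : X.Modules) (hF : Coh.IsCoh F) (hsupp : CohB1.support F ⊆ Z₀) : P F := by
  classical
  obtain ⟨G, hG, hGs, hGk, hGJ⟩ := h₄
  have iso := hP
  have gen : ∀ (T : TopologicalSpace.Closeds X), (T : Set X) ⊆ Z₀ → (T : Set X) ≠ Z₀ →
      ∀ M, CohIn (T : Set X) M → P M := by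
    intro T hT hne M hM
    refine Groth.Agent.Lib.CohDelta.Filtration.devissage P T h₀ iso
      (fun S hS a b c => h₁ S hS a.1 b.1 c.1) (fun Z i hi hZ hr I ι hι hI _ => ?_) M hM
    exact h₃ Z i hi hZ (hr.trans hT)
      (fun e => hne (Set.Subset.antisymm hT (e ▸ hr))) I ι hι hI
  have small : ∀ D, CohIn Z₀ D → ξ ∉ CohB1.support D → P D := by
    intro D hD hξD
    haveI := hD.1.2
    exact gen ⟨CohB1.support D, Groth.Agent.Lib.Modules.Support.isClosed_support D⟩ hD.2
      (fun e => hξD ((Set.ext_iff.mp e ξ).mpr hξ.1)) D ⟨hD.1, subset_rfl⟩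
  refine Groth.Agent.Lib.CohDelta.Filtration.devissage P ⟨Z₀, hZ₀⟩ h₀ iso
    (fun S hS a b c => h₁ S hS a.1 b.1 c.1) (fun Z i hi hZ hr I ι hι hI hne => ?_) F ⟨hF, hsupp⟩
  by_cases heq : Set.range ⇑i = Z₀
  swap
  · exact h₃ Z i hi hZ hr heq I ι hι hI
  have hrange : Set.range i = closure {i (genericPoint Z)} := range_eq_closure i
  have hgp : i (genericPoint Z) = ξ := by
    have h' : closure {i (genericPoint Z)} = closure {ξ} := hrange.symm.trans (heq.trans hξ.2.symm)
    exact (isGenericPoint_closure (x := i (genericPoint Z))).eq h'.symm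
  subst hgp
  have hA : CohIn (closure {i (genericPoint Z)}) ((Coh.push i).obj I) := cohIn_push_ideal i I ι
  have hGc : CohIn (closure {i (genericPoint Z)}) G := ⟨hG, (hGs.trans hξ.2.symm).le⟩
  haveI : Nontrivial (G.presheaf.stalk (i (genericPoint Z))) :=
    not_subsingleton_iff_nontrivial.mp (hGs ▸ hξ.1 : i (genericPoint Z) ∈ CohB1.support G)
  obtain ⟨d, hd, hB, J, hyJ, ⟨n, ψ, hψ, hψy⟩, -⟩ :=
    exists_mono_both (i (genericPoint Z)) hGc
      (fun a ha m => hGk a ((IsLocalRing.mem_maximalIdeal a).mpr ha) m) hA (length_push_ideal i I ι hne)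
  obtain ⟨G', ι', hι', hG'q, hiso, hPG'⟩ := hGJ (J ^ n) (fun h => hyJ (support_pow_subset J n h))
  have hJG : CohIn (closure {i (genericPoint Z)}) ((Dual3.idealMul (J ^ n)).obj G) :=
    ⟨isCoh_idealMul _ hG, (Groth.Agent.Lib.Modules.Support.support_subset_of_mono
      (Dual3.idealMulι (J ^ n) G)).trans hGc.2⟩
  haveI : G'.IsQuasicoherent := hG'q
  have hG' : CohIn (closure {i (genericPoint Z)}) G' :=
    ⟨Groth.Agent.Lib.CohBasics.Closure.isCoh_of_mono ι' hJG.1,
      (Groth.Agent.Lib.Modules.Support.support_subset_of_mono ι').trans hJG.2⟩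
  haveI := hB.1.1
  have hbij : Function.Bijective (stalkMapₗ (ι' ≫ ψ) (i (genericPoint Z))) := by
    rw [stalkMapₗ_comp, LinearMap.coe_comp]
    refine hψy.comp ?_
    have h := (ConcreteCategory.isIso_iff_bijective _).mp hiso
    haveI := hG.1
    have h2 : Function.Bijective (stalkMapₗ (ι' ≫ Dual3.idealMulι (J ^ n) G) (i (genericPoint Z))) := h
    rw [stalkMapₗ_comp, LinearMap.coe_comp] at h2
    exact (Function.Bijective.of_comp_iff' (stalk_ι_bijective J G n hyJ) _).mp h2
  have hC := cokernel_small (ι' ≫ ψ) hG' hB hbij.2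
  have hPB : P (∐ fun _ : Fin d => (Coh.push i).obj I) :=
    h₁ _ (exists_ses_mono (ι' ≫ ψ)) hG'.1 hB.1 hC.1.1 hPG'
      (small _ ⟨hC.1.1, hC.1.2.trans hξ.2.le⟩ hC.2)
  exact h₂ _ d hA.1 hd hPB

end Groth.Agent.S9522
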