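import Groth.Statements.S9525
import Groth.Agent.Lib.RefHull.Open
import Groth.Agent.Lib.Modules.Support
import Groth.Agent.Lib.Modules.Local
import Groth.Agent.Lib.CohBasics.Closure

set_option autoImplicit false
universe u
open Coherent

namespace Groth.Agent.S9525

open CategoryTheory CategoryTheory.Limits AlgebraicGeometry in
/-- The stalk maps of a restriction are the stalk maps. -/
theorem stalk_restrict_iff {X : Scheme.{u}} {F G : X.Modules} (φ : G ⟶ F) (U : X.Opens) (y : (U : Scheme.{u})) :
    (Function.Injective ((TopCat.Presheaf.stalkFunctor _ (U.ι y)).map φ.mapPresheaf).hom →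
      Function.Injective ((Lib.Modules.Stalk.stalkFunctor (U : Scheme.{u}) y).map
        ((Scheme.Modules.restrictFunctor U.ι).map φ))) ∧
    (Function.Bijective ((TopCat.Presheaf.stalkFunctor _ (U.ι y)).map φ.mapPresheaf).hom →
      Function.Bijective ((Lib.Modules.Stalk.stalkFunctor (U : Scheme.{u}) y).map
        ((Scheme.Modules.restrictFunctor U.ι).map φ))) := by
  let e := Lib.Modules.Local.restrictStalkIso U.ι y
  have h := e.hom.naturality φ
  have bG : Function.Bijective (e.hom.app G) := (ConcreteCategory.isIso_iff_bijective _).1 inferInstance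
  have bF : Function.Bijective (e.hom.app F) := (ConcreteCategory.isIso_iff_bijective _).1 inferInstance
  have hc : (e.hom.app F) ∘ ((Lib.Modules.Stalk.stalkFunctor (U : Scheme.{u}) y).map
      ((Scheme.Modules.restrictFunctor U.ι).map φ)) =
      ((TopCat.Presheaf.stalkFunctor _ (U.ι y)).map φ.mapPresheaf).hom ∘ (e.hom.app G) :=
    funext fun z => ConcreteCategory.congr_hom h z
  exact ⟨fun hi => Function.Injective.of_comp (f := e.hom.app F) (hc ▸ hi.comp bG.1),
    fun hb => (Function.Bijective.of_comp_iff' bF _).1 (hc ▸ hb.comp bG)⟩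

open CategoryTheory CategoryTheory.Limits AlgebraicGeometry in
/-- A coherent module vanishing at a point vanishes nearby. -/
theorem exists_isZero {X : Scheme.{u}} {F : X.Modules} (hF : Coh.IsCoh F) (x : X)
    (h : Subsingleton ↑(F.presheaf.stalk x)) :
    ∃ U : X.Opens, x ∈ U ∧ IsZero ((Scheme.Modules.restrictFunctor U.ι).obj F) := by
  haveI := hF.2
  refine ⟨⟨(CohB1.support F)ᶜ, (Lib.Modules.Support.isClosed_support F).isOpen_compl⟩,
    Lib.Modules.Support.not_mem_support_iff.2 h, ?_⟩
  refine Lib.Modules.Stalk.isZero_iff_stalk_subsingleton.2 fun y => ?_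
  haveI : Subsingleton ↑(F.presheaf.stalk (Scheme.Opens.ι _ y)) := Lib.Modules.Support.not_mem_support_iff.1 y.2
  exact (Lib.Modules.StalkRestrict.restrictStalkAddEquiv _ F y).toEquiv.subsingleton


open CategoryTheory CategoryTheory.Limits AlgebraicGeometry in
/-- Let X be a locally Noetherian scheme, F and G coherent O_X-modules, φ : G → F a morphism and x ∈ X.
(1) If F_x = 0 there is an open neighbourhood U of x with F|_U = 0. (2) If the stalk map φ_x : G_x →
F_x is injective there is an open neighbourhood U of x with φ|_U injective. (4) If φ_x is bijective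
there is an open neighbourhood U of x with φ|_U an isomorphism. (Part (3), surjectivity, is the
finite-type statement valid on any ringed space and is not restated.) -/
theorem result (X : Scheme.{u}) [IsLocallyNoetherian X]
    (F G : X.Modules) (hF : Coh.IsCoh F) (hG : Coh.IsCoh G) (φ : G ⟶ F) (x : X) :
    (Subsingleton ↑(F.presheaf.stalk x) →
      ∃ U : X.Opens, x ∈ U ∧ IsZero ((Scheme.Modules.restrictFunctor U.ι).obj F)) ∧
    (Function.Injective ((TopCat.Presheaf.stalkFunctor _ x).map φ.mapPresheaf).hom →
      ∃ U : X.Opens, x ∈ U ∧ Mono ((Scheme.Modules.restrictFunctor U.ι).map φ)) ∧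
    (Function.Bijective ((TopCat.Presheaf.stalkFunctor _ x).map φ.mapPresheaf).hom →
      ∃ U : X.Opens, x ∈ U ∧ IsIso ((Scheme.Modules.restrictFunctor U.ι).map φ)) := by
  refine ⟨exists_isZero hF x, fun hinj => ?_, fun hbij => ?_⟩
  · have hK : Coh.IsCoh (kernel φ) := Lib.CohBasics.Closure.isCoh_kernel φ hG hF.1
    have hsub : Subsingleton ↑((kernel φ).presheaf.stalk x) := by
      refine subsingleton_of_forall_eq 0 fun z => ?_
      have h0 : ((Lib.Modules.Stalk.stalkFunctor X x).map φ)
          ((Lib.Modules.Stalk.stalkFunctor X x).map (kernel.ι φ) z) = 0 := by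
        refine (ConcreteCategory.comp_apply ((Lib.Modules.Stalk.stalkFunctor X x).map (kernel.ι φ))
          ((Lib.Modules.Stalk.stalkFunctor X x).map φ) z).symm.trans ?_
        rw [← Functor.map_comp, kernel.condition, Functor.map_zero]
        rfl
      have h1 : (Lib.Modules.Stalk.stalkFunctor X x).map (kernel.ι φ) z = 0 :=
        hinj (h0.trans (map_zero _).symm)
      exact (Lib.Modules.Stalk.mono_iff_stalk_injective (kernel.ι φ)).1 inferInstance x
        (h1.trans (map_zero _).symm)
    obtain ⟨U, hxU, hU⟩ := exists_isZero hK x hsub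
    refine ⟨U, hxU, (Lib.Modules.Stalk.mono_iff_stalk_injective _).2 fun y => ?_⟩
    refine (stalk_restrict_iff φ U y).1 ((injective_iff_map_eq_zero _).2 fun w hw => ?_)
    have hs : Subsingleton ↑((kernel φ).presheaf.stalk (U.ι y)) :=
      haveI := Lib.Modules.Stalk.isZero_iff_stalk_subsingleton.1 hU y
      (Lib.Modules.StalkRestrict.restrictStalkAddEquiv U.ι (kernel φ) y).symm.toEquiv.subsingleton
    have hex := (Lib.Modules.Stalk.exact_iff_stalk
      (ShortComplex.mk (kernel.ι φ) φ (kernel.condition φ))).1
      (ShortComplex.exact_of_f_is_kernel _ (kernelIsKernel φ)) (U.ι y)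
    obtain ⟨z, hz⟩ := (ShortComplex.ab_exact_iff _).1 hex w hw
    exact hz.symm.trans ((congrArg _ (@Subsingleton.elim _ hs z 0)).trans (map_zero _))
  · refine ⟨⟨{y : X | Function.Bijective (RefHull.stalkMapₗ φ y)}, Lib.RefHull.Open.isOpen_bijective hG hF φ⟩,
      hbij, (Lib.Modules.Stalk.isIso_iff_stalk_bijective _).2 fun y => ?_⟩
    exact (stalk_restrict_iff φ _ y).2 y.2

end Groth.Agent.S9525
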