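import Groth.Statements.S9526
import Groth.Agent.Lib.CohDelta.IdealMul.DevTools
import Groth.Agent.Lib.Modules.ExtendFT

set_option autoImplicit false
universe u
open Coherent

namespace Groth.Agent.S9526

open Groth.Agent.Lib Groth.Agent.Lib.Modules.StalkModule Groth.Agent.Lib.CohDelta.IdealMul
open Groth.Agent.Lib.Modules.ExtendFT Groth.Agent.Lib.Modules.SubStalk
open CategoryTheory CategoryTheory.Limits AlgebraicGeometry TopologicalSpace Opposite
set_option linter.style.haveILetI false

variable {X : Scheme.{u}}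

/-- Finitely many stalk elements come from sections over one affine open. -/
theorem exists_affine_sections (M : X.Modules) (x : X) {n : ℕ} (v : Fin n → M.presheaf.stalk x) :
    ∃ (W : X.Opens) (_ : IsAffineOpen W) (hx : x ∈ W) (t : Fin n → Γ(M, W)),
      ∀ k, M.presheaf.germ W x hx (t k) = v k := by
  choose O hxO t ht using fun k => TopCat.Presheaf.exists_germ_eq M.presheaf (v k)
  obtain ⟨W, hW, hxW, hWO⟩ := exists_isAffineOpen_mem_and_subset
    (U := Finset.univ.inf O) (x := x) (by
      rw [← SetLike.mem_coe, Opens.coe_finset_inf, Finset.inf_set_eq_iInter]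
      simpa using hxO)
  have hk : ∀ k, W ≤ O k := fun k => le_trans (fun y hy => hWO hy) (Finset.inf_le (Finset.mem_univ k))
  exact ⟨W, hW, hxW, fun k => M.presheaf.map (homOfLE (hk k)).op (t k),
    fun k => (TopCat.Presheaf.germ_res_apply _ (homOfLE (hk k)) x hxW (t k)).trans (ht k)⟩

/-- A submodule of finite type with prescribed stalk at a point. -/
theorem exists_sub_stalk (M : X.Modules) [M.IsQuasicoherent]
    (hX : ∀ x : X, ∃ U : X.Opens, x ∈ U ∧ NoetherianSpace (U : Set X)) (x : X)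
    (N : Submodule (X.presheaf.stalk x) (M.presheaf.stalk x)) (hN : N.FG) :
    ∃ (K : X.Modules) (i : K ⟶ M), Mono i ∧ K.IsQuasicoherent ∧ CohB1.IsFT K ∧
      LinearMap.range (stalkMapₗ i x) = N := by
  classical
  obtain ⟨n, v, hv⟩ := Submodule.fg_iff_exists_fin_generating_family.mp hN
  obtain ⟨U, hU, hxU, t, ht⟩ := exists_affine_sections M x v
  letI : LinearOrder (AffIdx X) := (exists_wellFoundedLT (α := AffIdx X)).choose
  haveI : WellFoundedLT (AffIdx X) := (exists_wellFoundedLT (α := AffIdx X)).choose_spec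
  let S₀ : Family M := fun y =>
    if hy : y ∈ U then Submodule.span _ (Set.range fun k => M.presheaf.germ U y hy (t k)) else ⊥
  have hcov : ⨆ l : AffIdx X, l.toOpens = ⊤ := eq_top_iff.mpr fun y _ => by
    obtain ⟨W, hW, hy, -⟩ := exists_isAffineOpen_mem_and_subset (U := ⊤) (x := y) trivial
    exact Opens.mem_iSup.mpr ⟨⟨W, hW⟩, hy⟩
  have h := isLocFG_total (fun l : AffIdx X => l.toOpens) U S₀ (fun l => l.isAffine)
    (fun l => isCompact_of_le_affine hX l.isAffine inf_le_left)
    (IsLocFG.of_affine hU t fun y hy => dif_pos hy) hcov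
  refine ⟨_, ι _, inferInstance, isQCoh_subMod h, isFT_subMod h, ?_⟩
  rw [range_stalkMapₗ_ι h (x := x) trivial, total_of_mem _ _ _ hxU]
  simp only [S₀, dif_pos hxU]
  rw [funext ht, hv]

open CategoryTheory CategoryTheory.Limits AlgebraicGeometry in
/-- Let X be a locally Noetherian scheme, F and G coherent O_X-modules, x ∈ X and ψ : G_x → F_x an
O_{X,x}-linear map. Then there are an open neighbourhood U of x and a morphism φ : G|_U → F|_U with
φ_x = ψ (the stalk map of φ at x, composed with the canonical identifications of the stalks of G|_U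
and F|_U at x with G_x and F_x, is ψ). -/
theorem result (X : Scheme.{u}) [IsLocallyNoetherian X]
    (F G : X.Modules) (hF : Coh.IsCoh F) (hG : Coh.IsCoh G) (x : X)
    (ψ : ↑(G.presheaf.stalk x) →ₗ[X.presheaf.stalk x] ↑(F.presheaf.stalk x)) :
    ∃ (U : X.Opens) (hx : x ∈ U)
      (φ : (Scheme.Modules.restrictFunctor U.ι).obj G ⟶ (Scheme.Modules.restrictFunctor U.ι).obj F),
      (Scheme.Modules.restrictStalkNatIso U.ι (⟨x, hx⟩ : U)).inv.app G ≫
          (TopCat.Presheaf.stalkFunctor _ (⟨x, hx⟩ : U)).map φ.mapPresheaf ≫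
            (Scheme.Modules.restrictStalkNatIso U.ι (⟨x, hx⟩ : U)).hom.app F =
        AddCommGrpCat.ofHom ψ.toAddMonoidHom := by
  haveI := hF.1
  haveI := hG.1
  haveI := hG.2
  haveI := Modules.GenStalk.finite_stalk G x
  haveI : (G ⊞ F).IsQuasicoherent := QCoh.Closure.isQCoh_biprod
  have hX : ∀ y : X, ∃ U : X.Opens, y ∈ U ∧ NoetherianSpace (U : Set X) := fun y => by
    obtain ⟨W, hW, hy, -⟩ := exists_isAffineOpen_mem_and_subset (U := (⊤ : X.Opens)) (x := y) trivial
    haveI := IsLocallyNoetherian.component_noetherian ⟨W, hW⟩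
    exact ⟨W, hy, noetherianSpace_of_isAffineOpen W hW⟩
  let lam : ↑(G.presheaf.stalk x) →ₗ[X.presheaf.stalk x] ↑((G ⊞ F).presheaf.stalk x) :=
    stalkMapₗ (biprod.inl : G ⟶ G ⊞ F) x + stalkMapₗ (biprod.inr : F ⟶ G ⊞ F) x ∘ₗ ψ
  obtain ⟨K, i, hi, hKq, hKf, hK⟩ :=
    exists_sub_stalk (G ⊞ F) hX x (LinearMap.range lam) (by
      rw [LinearMap.range_eq_map]; exact Module.Finite.fg_top.map lam)
  haveI := hKq
  let p : K ⟶ G := i ≫ biprod.fst
  let q : K ⟶ F := i ≫ biprod.snd
  have hinj := (mono_iff_stalkMapₗ_injective i).mp inferInstance x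
  have hc : ∀ {A B D : X.Modules} (f : A ⟶ B) (g : B ⟶ D) (v : A.presheaf.stalk x),
      stalkMapₗ g x (stalkMapₗ f x v) = stalkMapₗ (f ≫ g) x v := fun f g v => by
    rw [stalkMapₗ_comp]; rfl
  have hfst : ∀ g, stalkMapₗ (biprod.fst : G ⊞ F ⟶ G) x (lam g) = g := fun g => by
    simp only [lam, LinearMap.add_apply, LinearMap.comp_apply, map_add]
    rw [hc, hc, biprod.inl_fst, biprod.inr_fst, stalkMapₗ_zero, LinearMap.zero_apply, add_zero,
      stalkMapₗ_id]
    rfl
  have hsnd : ∀ g, stalkMapₗ (biprod.snd : G ⊞ F ⟶ F) x (lam g) = ψ g := fun g => by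
    simp only [lam, LinearMap.add_apply, LinearMap.comp_apply, map_add]
    rw [hc, hc, biprod.inl_snd, biprod.inr_snd, stalkMapₗ_zero, LinearMap.zero_apply, zero_add,
      stalkMapₗ_id]
    rfl
  have hval : ∀ k, stalkMapₗ i x k = lam (stalkMapₗ p x k) := fun k => by
    obtain ⟨g, hg⟩ : stalkMapₗ i x k ∈ LinearMap.range lam := hK ▸ ⟨k, rfl⟩
    rw [← hg, stalkMapₗ_comp, LinearMap.comp_apply, ← hg, hfst]
  have hq : ∀ k, stalkMapₗ q x k = ψ (stalkMapₗ p x k) := fun k => by
    rw [← hsnd, ← hval, stalkMapₗ_comp, LinearMap.comp_apply]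
  have hp : Function.Bijective (stalkMapₗ p x) := by
    refine ⟨fun a b h => hinj (by rw [hval, hval, h]), fun g => ?_⟩
    obtain ⟨k, hk⟩ : lam g ∈ LinearMap.range (stalkMapₗ i x) := hK.symm ▸ ⟨g, rfl⟩
    exact ⟨k, by rw [stalkMapₗ_comp, LinearMap.comp_apply, hk, hfst]⟩
  let C : Set X := CohB1.support (kernel p) ∪ CohB1.support (cokernel p)
  haveI := (CohBasics.Closure.isCoh_kernel p ⟨hKq, hKf⟩ hG.1).2
  haveI := (CohBasics.Closure.isCoh_cokernel p hKq hG).2
  have hC : IsClosed C :=
    (Modules.Support.isClosed_support _).union (Modules.Support.isClosed_support _)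
  have hxC : x ∉ C := by
    rintro (h | h)
    exacts [Groth.Agent.H52.DevSummand.not_mem_support_kernel p hp.1 h,
      Groth.Agent.H52.DevSummand.not_mem_support_cokernel p hp.2 h]
  let U : X.Opens := ⟨Cᶜ, hC.isOpen_compl⟩
  let R := Scheme.Modules.restrictFunctor U.ι
  haveI : IsIso (R.map p) := DevExt.isIso_restrict p fun y hy => by
    have hk' : Subsingleton ((kernel p).presheaf.stalk y) :=
      Modules.Support.not_mem_support_iff.mp fun h => hy (Or.inl h)
    have hc' : Subsingleton ((cokernel p).presheaf.stalk y) :=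
      Modules.Support.not_mem_support_iff.mp fun h => hy (Or.inr h)
    refine ⟨(injective_iff_map_eq_zero _).mpr fun v hv => ?_, fun w => ?_⟩
    · obtain ⟨z, rfl⟩ := Groth.Agent.H52.DevSummand.eq_stalk_kernel p v hv
      rw [Subsingleton.elim z 0, map_zero]
    · exact (ShortComplex.ab_exact_iff _).mp ((Modules.Stalk.exact_iff_stalk
        (ShortComplex.mk p (cokernel.π p) (cokernel.condition p))).mp
          (ShortComplex.exact_cokernel p) y) w (@Subsingleton.elim _ hc' _ _)
  refine ⟨U, hxC, inv (R.map p) ≫ R.map q, ?_⟩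
  let e := Scheme.Modules.restrictStalkNatIso U.ι (⟨x, hxC⟩ : U)
  let T := Modules.Stalk.stalkFunctor (U : Scheme.{u}) (⟨x, hxC⟩ : U)
  let T' := Modules.Stalk.stalkFunctor X x
  haveI : Epi (T'.map p) := (AddCommGrpCat.epi_iff_surjective _).mpr hp.2
  refine (cancel_epi (T'.map p)).mp ?_
  have n1 : T'.map p ≫ e.inv.app G = e.inv.app K ≫ T.map (R.map p) := e.inv.naturality p
  have n2 : T.map (R.map q) ≫ e.hom.app F = e.hom.app K ≫ T'.map q := e.hom.naturality q
  show T'.map p ≫ e.inv.app G ≫ T.map (inv (R.map p) ≫ R.map q) ≫ e.hom.app F = _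
  refine ((Category.assoc _ _ _).symm.trans ((congrArg (· ≫ _) n1).trans (Category.assoc _ _ _))).trans ?_
  refine (congrArg (e.inv.app K ≫ ·) (((Category.assoc _ _ _).symm.trans (congrArg (· ≫ e.hom.app F)
    ((T.map_comp _ _).symm.trans (congrArg T.map (IsIso.hom_inv_id_assoc _ _))))).trans n2)).trans ?_
  refine (Iso.inv_hom_id_app_assoc e K _).trans ?_
  ext k
  exact hq k

end Groth.Agent.S9526
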