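import Groth.Statements.S9527
import Groth.Agent.H18.Sec.HomIso
import Groth.Agent.H22.HomDepth
import Groth.Agent.Lib.RefHull.Reflexive

set_option autoImplicit false
universe u
open CategoryTheory CategoryTheory.Limits AlgebraicGeometry
attribute [local instance] HasDerivedCategory.standard
open Coherent

namespace Groth.Agent.S9527

/-- The stalk of the internal Hom of coherent modules. -/
theorem exists_stalkEquiv {X : Scheme.{u}} [IsLocallyNoetherian X] (F G : X.Modules) (hF : Coh.IsCoh F)
    [DCoh.HasSheafHom F] (x : X) :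
    Nonempty (((DCoh.sheafHom F).obj G).presheaf.stalk x ≃ₗ[X.presheaf.stalk x]
      (F.presheaf.stalk x →ₗ[X.presheaf.stalk x] G.presheaf.stalk x)) := by
  obtain ⟨e⟩ := H18.Sec.HomIso.nonempty_iso F G
  exact ⟨(Lib.Modules.StalkModule.stalkLinearEquiv e x).trans
    (LinearEquiv.ofBijective _ (Lib.RefHull.HomSh.evalStalk_bijective (G := G) hF x))⟩


/-- Let X be a locally Noetherian scheme, F and G coherent O_X-modules, x ∈ X, and H = Hom_{O_X}(F, G)
the sheaf Hom. (1) If depth G_x ≥ 1 then depth H_x ≥ 1. (2) If depth G_x ≥ 2 then depth H_x ≥ 2.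
(Depths over the local ring O_{X,x}; the sheaf Hom is the right adjoint of F ⊗ − under its existence
binder; the zero module has depth ∞ in this convention.) -/
theorem result (X : Scheme.{u}) [IsLocallyNoetherian X] (F G : X.Modules)
    (hF : Coh.IsCoh F) (hG : Coh.IsCoh G) [DCoh.HasSheafHom F] (x : X) :
    ((1 : ℕ∞) ≤ LocCoh.depth (X.presheaf.stalk x) ↑(G.presheaf.stalk x) →
      (1 : ℕ∞) ≤ LocCoh.depth (X.presheaf.stalk x) ↑(((DCoh.sheafHom F).obj G).presheaf.stalk x)) ∧
    ((2 : ℕ∞) ≤ LocCoh.depth (X.presheaf.stalk x) ↑(G.presheaf.stalk x) →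
      (2 : ℕ∞) ≤ LocCoh.depth (X.presheaf.stalk x) ↑(((DCoh.sheafHom F).obj G).presheaf.stalk x)) := by
  obtain ⟨e⟩ := exists_stalkEquiv F G hF x
  haveI := Lib.RefHull.Reflexive.finite_stalk hF x
  haveI := Lib.RefHull.Reflexive.finite_stalk hG x
  rw [Lib.Depth.Basic.depth_congr e]
  exact H22.HomDepth.depth_ge (M := F.presheaf.stalk x)

end Groth.Agent.S9527
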