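import Groth.Statements.S9529
import Groth.Agent.H18.Sec.HomIso
import Groth.Agent.H22.HomDepth
import Groth.Agent.Lib.RefHull.Reflexive

set_option autoImplicit false
universe u
open CategoryTheory CategoryTheory.Limits AlgebraicGeometry
attribute [local instance] HasDerivedCategory.standard
open Coherent

namespace Groth.Agent.S9529

/-- The stalk of the internal Hom of coherent modules. -/
theorem exists_stalkEquiv {X : Scheme.{u}} [IsLocallyNoetherian X] (F G : X.Modules) (hF : Coh.IsCoh F)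
    [DCoh.HasSheafHom F] (x : X) :
    Nonempty (((DCoh.sheafHom F).obj G).presheaf.stalk x ≃ₗ[X.presheaf.stalk x]
      (F.presheaf.stalk x →ₗ[X.presheaf.stalk x] G.presheaf.stalk x)) := by
  obtain ⟨e⟩ := H18.Sec.HomIso.nonempty_iso F G
  exact ⟨(Lib.Modules.StalkModule.stalkLinearEquiv e x).trans
    (LinearEquiv.ofBijective _ (Lib.RefHull.HomSh.evalStalk_bijective (G := G) hF x))⟩

/-- Serre conditions of `Hom`, at one local ring. -/
theorem min_le {R : Type u} [CommRing R] [IsNoetherianRing R] [IsLocalRing R] (M N : Type u) [AddCommGroup M]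
    [Module R M] [Module.Finite R M] [AddCommGroup N] [Module R N] [Module.Finite R N] (k : ℕ) (hk : k = 1 ∨ k = 2)
    (h : min (k : WithBot ℕ∞) (Module.supportDim R N) ≤ ((LocCoh.depth R N : ℕ∞) : WithBot ℕ∞)) :
    min (k : WithBot ℕ∞) (Module.supportDim R (M →ₗ[R] N)) ≤
      ((LocCoh.depth R (M →ₗ[R] N) : ℕ∞) : WithBot ℕ∞) := by
  obtain ⟨b, a, F, G, hF, -⟩ := H22.HomDepth.exists_exact (R := R) (M := M) (N := N)
  have hd : Module.supportDim R (M →ₗ[R] N) ≤ Module.supportDim R N := by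
    refine (Module.supportDim_le_of_injective F hF).trans ?_
    refine Order.krullDim_le_of_strictMono (fun q => ⟨q.1, H22.HomDepth.support_pi_subset b q.2⟩) fun _ _ h => h
  have hge := H22.HomDepth.depth_ge (R := R) (M := M) (N := N)
  generalize Module.supportDim R N = dN at h hd
  generalize Module.supportDim R (M →ₗ[R] N) = dH at hd ⊢
  generalize LocCoh.depth R N = eN at h hge
  generalize LocCoh.depth R (M →ₗ[R] N) = eH at hge ⊢
  rcases le_or_gt dH 0 with h0 | h0
  · exact (min_le_right _ _).trans (h0.trans (WithBot.coe_nonneg.2 zero_le))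
  obtain ⟨n, rfl⟩ : ∃ n : ℕ∞, dH = n := ⟨_, (WithBot.coe_unbot dH h0.ne_bot).symm⟩
  obtain ⟨m, rfl⟩ : ∃ m : ℕ∞, dN = m := ⟨_, (WithBot.coe_unbot dN (h0.trans_le hd).ne_bot).symm⟩
  have hn : (1 : ℕ∞) ≤ n := Order.one_le_iff_pos.2 (WithBot.coe_pos.1 h0)
  have hnm : n ≤ m := WithBot.coe_le_coe.1 hd
  have e1 : ∀ c : ℕ∞, min (k : WithBot ℕ∞) (c : WithBot ℕ∞) = ((min (k : ℕ∞) c : ℕ∞) : WithBot ℕ∞) := fun c =>
    (WithBot.coe_min (k : ℕ∞) c).symm
  rw [e1, WithBot.coe_le_coe] at h ⊢
  rcases hk with rfl | rfl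
  · exact (min_le_left _ _).trans (hge.1 (le_trans (le_min le_rfl (hn.trans hnm)) (by simpa using h)))
  · rcases lt_or_ge (1 : ℕ∞) n with h2 | h2
    · have h2' : (2 : ℕ∞) ≤ n := Order.add_one_le_of_lt h2
      exact (min_le_left _ _).trans (hge.2 (le_trans (le_min le_rfl (h2'.trans hnm)) (by simpa using h)))
    · exact ((min_le_right _ _).trans h2).trans
        (hge.1 (le_trans (le_min (show (1 : ℕ∞) ≤ ((2 : ℕ) : ℕ∞) by norm_num) (hn.trans hnm)) (by simpa using h)))


/-- Let X be a locally Noetherian scheme, F and G coherent O_X-modules and H = Hom_{O_X}(F, G). If G has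
property (S_1), so has H; if G has property (S_2), so has H. Here a coherent module M has (S_k) when
depth M_x ≥ min(k, dim Supp M_x) for every x ∈ X, with M_x regarded as a module over O_{X,x} (the
zero module has depth ∞ and support dimension −∞); the sheaf Hom is the right adjoint of F ⊗ − under
its existence binder. -/
theorem result (X : Scheme.{u}) [IsLocallyNoetherian X] (F G : X.Modules)
    (hF : Coh.IsCoh F) (hG : Coh.IsCoh G) [DCoh.HasSheafHom F] (k : ℕ) (hk : k = 1 ∨ k = 2)
    (hS : ∀ x : X, min (k : WithBot ℕ∞) (Module.supportDim (X.presheaf.stalk x) ↑(G.presheaf.stalk x)) ≤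
      ((LocCoh.depth (X.presheaf.stalk x) ↑(G.presheaf.stalk x) : ℕ∞) : WithBot ℕ∞)) (x : X) :
    min (k : WithBot ℕ∞)
        (Module.supportDim (X.presheaf.stalk x) ↑(((DCoh.sheafHom F).obj G).presheaf.stalk x)) ≤
      ((LocCoh.depth (X.presheaf.stalk x) ↑(((DCoh.sheafHom F).obj G).presheaf.stalk x) : ℕ∞) :
        WithBot ℕ∞) := by
  obtain ⟨e⟩ := exists_stalkEquiv F G hF x
  haveI := Lib.RefHull.Reflexive.finite_stalk hF x
  haveI := Lib.RefHull.Reflexive.finite_stalk hG x
  rw [Lib.Depth.Basic.depth_congr e, Module.supportDim_eq_of_equiv e]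
  exact min_le _ _ k hk (hS x)

end Groth.Agent.S9529
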