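import Groth.Statements.S9534
import Groth.Agent.H78.Formal.SectLimit

set_option autoImplicit false
universe u
open CategoryTheory CategoryTheory.Limits AlgebraicGeometry Opposite
open Algz

namespace Groth.Agent.S9534

/-- Let A be a Noetherian ring, I ⊆ 𝔞 ideals, U = Spec A ∖ V(𝔞), (F_n) an object of Coh(U, I O_U), and M
= lim_n H^0(U, F_n). Assume (a) the system H^0(U, F_n) is Mittag-Leffler, (b) the limit topology of
M agrees with the I-adic one, i.e. for every k some kernel of M → H^0(U, F_n) lies in I^k M, and (c)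
for each n, the A-submodule of H^0(U, F_n) given by the image of M is finitely generated. Then (F_n)
canonically extends to Spec A. (The addendum for I-adically complete A is not restated.) -/
theorem result (A : Type u) [CommRing A] [IsNoetherianRing A] (I 𝔞 : Ideal A) (hI𝔞 : I ≤ 𝔞)
    (G : ℕᵒᵖ ⥤ (↑(LocCoh.puncturedOpen A 𝔞) : Scheme.{u}).Modules) (hG : Formal.IsCohFormal I G)
    (ha : ARSys.IsML (Algz.sectMod A (LocCoh.puncturedOpen A 𝔞) G))
    (hb : ∀ k : ℕ, ∃ n : ℕ, LinearMap.ker (limit.π (Algz.sectMod A (LocCoh.puncturedOpen A 𝔞) G) (op n)).hom ≤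
      I ^ k • (⊤ : Submodule A ↑(limit (Algz.sectMod A (LocCoh.puncturedOpen A 𝔞) G))))
    (hc : ∀ n : ℕ, Module.Finite A ↥(LinearMap.range (limit.π (Algz.sectMod A (LocCoh.puncturedOpen A 𝔞) G) (op n)).hom)) :
    Algz.CanonicallyExtends A I (LocCoh.puncturedOpen A 𝔞) G := by
  exact Groth.Agent.H78.Formal.SectLimit.canonicallyExtends G _ rfl
    (Groth.Agent.H78.Formal.SectTower.killed (LocCoh.puncturedOpen A 𝔞) G hG) ha hb hc

end Groth.Agent.S9534
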