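import Groth.Statements.S9537
import Groth.Agent.H2.Completion.Main
import Groth.Agent.H2.Completion.KerCoker
import Groth.Agent.S0829
import Groth.Agent.S0851
import Mathlib.RingTheory.AdicCompletion.Completeness

set_option autoImplicit false
universe u
open CategoryTheory CategoryTheory.Limits AlgebraicGeometry Opposite
open Algz

namespace Groth.Agent.S9537

/-- Let A be a Noetherian ring, I ⊆ 𝔞 ideals, U = Spec A ∖ V(𝔞), and α a morphism between objects (F_n),
(F'_n) of Coh(U, I O_U) such that one fixed power of I kills the kernel and the cokernel of every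
component of α. Then (F_n) extends to Spec A if and only if (F'_n) does. (Part (2), the same
equivalence for being the completion of a coherent module, is the content of the two existence
results for maps into and out of a completion and is not restated.) -/
theorem result (A : Type u) [CommRing A] [IsNoetherianRing A] (I 𝔞 : Ideal A) (hI𝔞 : I ≤ 𝔞)
    (G G' : ℕᵒᵖ ⥤ (↑(LocCoh.puncturedOpen A 𝔞) : Scheme.{u}).Modules) (hG : Formal.IsCohFormal I G) (hG' : Formal.IsCohFormal I G')
    (α : G ⟶ G') (hα : Formal2.KerCokerKilledByIPow I α) :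
    @Algz.Extends A _ (Spec (CommRingCat.of A)) ⟨𝟙 (Spec (CommRingCat.of A))⟩ I (LocCoh.puncturedOpen A 𝔞) G ↔ @Algz.Extends A _ (Spec (CommRingCat.of A)) ⟨𝟙 (Spec (CommRingCat.of A))⟩ I (LocCoh.puncturedOpen A 𝔞) G' := by
  have hfg : I.FG := IsNoetherian.noetherian I
  haveI := Lib.Excellent.CompletionNoetherian.isNoetherianRing_adicCompletion I
  haveI : IsAdicComplete I (A ⧸ I) :=
    { haus' := fun x hx => by
        have h := SModEq.zero.1 (hx 1)
        rwa [pow_one, Ideal.smul_top_eq_map, Ideal.Quotient.algebraMap_eq, Ideal.map_quotient_self,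
          Submodule.restrictScalars_bot, Submodule.mem_bot] at h
      prec' := fun f hf => ⟨f 1, fun m => by
        rcases Nat.eq_zero_or_pos m with rfl | h
        · rw [pow_zero, Ideal.one_eq_top, Submodule.top_smul]; exact SModEq.top
        · have h' := hf h
          rw [pow_one, Ideal.smul_top_eq_map, Ideal.Quotient.algebraMap_eq, Ideal.map_quotient_self,
            Submodule.restrictScalars_bot, SModEq.bot] at h'
          rw [← h']⟩ }
  have hq := Lib.Adic.RigLoc.bijective_quotientMap I I
  haveI : IsAdicComplete (I.map (algebraMap A (AdicCompletion I A))) (AdicCompletion I A) :=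
    (IsAdicComplete.map_algebraMap_iff _ _).mpr (AdicCompletion.isAdicComplete hfg)
  letI := H2.Completion.Setup.overA A (AdicCompletion I A)
    (H2.Completion.Setup.mor (A := A) (AdicCompletion I A) ⁻¹ᵁ LocCoh.puncturedOpen A 𝔞)
  let B := AdicCompletion I A
  let U := LocCoh.puncturedOpen A 𝔞
  haveI := H2.Completion.Setup.flat_mor (A := A) (B := B)
  haveI : Flat (H2.Completion.Main.g B U) :=
    MorphismProperty.of_isPullback (P := @Flat)
      (isPullback_morphismRestrict (H2.Completion.Setup.mor (A := A) B) U).flip ‹_›
  haveI : IsNoetherian (H2.Completion.Setup.mor (A := A) B ⁻¹ᵁ U : Scheme.{u}) :=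
    H2.Completion.Setup.isNoetherian_opens _
  have hg := H2.Completion.Setup.restr_hf (B := B) U
  have hP := H2.Completion.KerCoker.pullback (H2.Completion.Main.g B U) hg α hα
  constructor
  · intro h
    obtain ⟨F, hF, ⟨e⟩⟩ := H2.Completion.Main.exists_completion_of_extends (B := B) U G h
    obtain ⟨F', -, β, hF', -, -⟩ := S0851.result A I _ F hF _
      (H78.Formal.Extend.isCohFormal_pullback hg hG') _ (H2.Completion.KerCoker.of_iso_comp e _ hP)
    exact H2.Completion.Main.extends_of_completion U G' hq hG' ⟨F', hF', ⟨β⟩⟩
  · intro h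
    obtain ⟨F, hF, ⟨e⟩⟩ := H2.Completion.Main.exists_completion_of_extends (B := B) U G' h
    obtain ⟨F', -, β, hF', -, -⟩ := S0829.result A I _ F hF _
      (H78.Formal.Extend.isCohFormal_pullback hg hG) _ (H2.Completion.KerCoker.of_comp_iso _ e.symm hP)
    exact H2.Completion.Main.extends_of_completion U G hq hG ⟨F', hF', ⟨β.symm⟩⟩

end Groth.Agent.S9537
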