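import Groth.Statements.S9539
import Groth.Agent.H2.Completion.Main
import Mathlib.RingTheory.AdicCompletion.Completeness

set_option autoImplicit false
universe u
open CategoryTheory CategoryTheory.Limits AlgebraicGeometry Opposite
open Algz

namespace Groth.Agent.S9539

/-- Let A be a Noetherian ring, I ⊆ 𝔞 ideals, U = Spec A ∖ V(𝔞), (F_n) an object of Coh(U, I O_U); let
A' be the I-adic completion of A, f : Spec A' → Spec A and U' the inverse image of U. Then (F_n)
extends to Spec A if and only if the pullback of (F_n) to U' is isomorphic to the completion, for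
the ideal I A', of a coherent O_{U'}-module. -/
theorem result (A : Type u) [CommRing A] [IsNoetherianRing A] (I 𝔞 : Ideal A) (hI𝔞 : I ≤ 𝔞)
    (G : ℕᵒᵖ ⥤ (↑(LocCoh.puncturedOpen A 𝔞) : Scheme.{u}).Modules) (hG : Formal.IsCohFormal I G) :
    @Algz.Extends A _ (Spec (CommRingCat.of A)) ⟨𝟙 (Spec (CommRingCat.of A))⟩ I (LocCoh.puncturedOpen A 𝔞) G ↔
      ∃ F' : (↑(Spec.map (CommRingCat.ofHom (algebraMap A (AdicCompletion I A))) ⁻¹ᵁ (LocCoh.puncturedOpen A 𝔞)) : Scheme.{u}).Modules, Coh.IsCoh F' ∧
        Nonempty (Formal.completion (I.map (algebraMap A (AdicCompletion I A))) F' ≅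
          G ⋙ Scheme.Modules.pullback (morphismRestrict (Spec.map (CommRingCat.ofHom (algebraMap A (AdicCompletion I A)))) (LocCoh.puncturedOpen A 𝔞))) := by
  have hfg : I.FG := IsNoetherian.noetherian I
  haveI := Lib.Excellent.CompletionNoetherian.isNoetherianRing_adicCompletion I
  haveI : IsAdicComplete I (A ⧸ I) :=
    { haus' := fun x hx => by
        have h := SModEq.zero.1 (hx 1)
        rwa [pow_one, Ideal.smul_top_eq_map, Ideal.Quotient.algebraMap_eq, Ideal.map_quotient_self,
          Submodule.restrictScalars_bot, Submodule.mem_bot] at h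
      prec' := fun f hf => ⟨f 1, fun m => by
        rcases Nat.eq_zero_or_pos m with rfl | h
        · rw [pow_zero, Ideal.one_eq_top, Submodule.top_smul]; exact SModEq.top
        · have h' := hf h
          rw [pow_one, Ideal.smul_top_eq_map, Ideal.Quotient.algebraMap_eq, Ideal.map_quotient_self,
            Submodule.restrictScalars_bot, SModEq.bot] at h'
          rw [← h']⟩ }
  have hq := Lib.Adic.RigLoc.bijective_quotientMap I I
  haveI : IsAdicComplete (I.map (algebraMap A (AdicCompletion I A))) (AdicCompletion I A) :=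
    (IsAdicComplete.map_algebraMap_iff _ _).mpr (AdicCompletion.isAdicComplete hfg)
  letI := H2.Completion.Setup.overA A (AdicCompletion I A)
    (H2.Completion.Setup.mor (A := A) (AdicCompletion I A) ⁻¹ᵁ LocCoh.puncturedOpen A 𝔞)
  have hc := H2.Completion.ChangeBase.completion_iso (algebraMap A (AdicCompletion I A))
    (X := (H2.Completion.Setup.mor (A := A) (AdicCompletion I A) ⁻¹ᵁ LocCoh.puncturedOpen A 𝔞 : Scheme.{u}))
    rfl I
  constructor
  · intro h
    obtain ⟨F, hF, ⟨e⟩⟩ := H2.Completion.Main.exists_completion_of_extends (B := AdicCompletion I A)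
      (LocCoh.puncturedOpen A 𝔞) G h
    obtain ⟨c⟩ := hc F
    exact ⟨F, hF, ⟨c.symm ≪≫ e⟩⟩
  · rintro ⟨F, hF, ⟨e⟩⟩
    obtain ⟨c⟩ := hc F
    exact H2.Completion.Main.extends_of_completion (LocCoh.puncturedOpen A 𝔞) G hq hG ⟨F, hF, ⟨c ≪≫ e⟩⟩

end Groth.Agent.S9539
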