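import Groth.Statements.S9541
import Groth.Agent.H2.FormalColimMain

set_option autoImplicit false
universe u
open CategoryTheory
open Formal2

namespace Groth.Agent.S9541

open Groth.Agent.H2.SectLim Groth.Agent.H2.FormalColimMain AlgebraicGeometry
open Groth.Agent.H20.TildeSections (res res_res)

variable {A : Type u} [CommRing A] (I : Ideal A) {M' M : Type u} [AddCommGroup M'] [Module A M']
  [AddCommGroup M] [Module A M]

/-- The induced map on levels. -/
noncomputable def bar (f : M' →ₗ[A] M) (n : ℕ) : quotPow A I M' n →ₗ[A] quotPow A I M n :=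
  Submodule.mapQ _ _ f (Submodule.map_le_iff_le_comap.1 (by
    rw [Submodule.map_smul'']
    exact Submodule.smul_mono le_rfl le_top))

theorem bar_π (f : M' →ₗ[A] M) (n : ℕ) : bar I f n ∘ₗ quotPowπ A I M' n = quotPowπ A I M n ∘ₗ f :=
  LinearMap.ext fun m => by simp [bar, Submodule.mapQ_apply]

theorem bar_tr (f : M' →ₗ[A] M) (n : ℕ) :
    bar I f n ∘ₗ quotPowTrans A I M' n = quotPowTrans A I M n ∘ₗ bar I f (n + 1) := LinearMap.ext fun z => by
  obtain ⟨m, rfl⟩ := Submodule.Quotient.mk_surjective _ z
  simp [bar, quotPowTrans, Submodule.mapQ_apply]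

theorem bar_comp {P : Type u} [AddCommGroup P] [Module A P] (f : M' →ₗ[A] M) (g : M →ₗ[A] P) (n : ℕ)
    (h : g ∘ₗ f = 0) : bar I g n ∘ₗ bar I f n = 0 := LinearMap.ext fun z => by
  obtain ⟨m, rfl⟩ := Submodule.Quotient.mk_surjective _ z
  have : g (f m) = 0 := LinearMap.congr_fun h m
  simp [bar, Submodule.mapQ_apply, this]

/-- The transition over several steps. -/
noncomputable def far (M : Type u) [AddCommGroup M] [Module A M] (n k : ℕ) :
    quotPow A I M (n + k) →ₗ[A] quotPow A I M n :=
  Submodule.mapQ _ _ LinearMap.id (by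
    rw [Submodule.comap_id]
    exact Submodule.smul_mono_left (Ideal.pow_le_pow_right (by omega)))

theorem far_eq {U : (Spec (CommRingCat.of A)).Opens} (y : ∀ n, S (quotPow A I M n) U)
    (hy : ∀ n, smap (quotPowTrans A I M n) U (y (n + 1)) = y n) (n k : ℕ) :
    smap (far I M n k) U (y (n + k)) = y n := by
  induction k with
  | zero =>
    have e : far I M n 0 = (1 : A) • LinearMap.id := LinearMap.ext fun z => by
      obtain ⟨m, rfl⟩ := Submodule.Quotient.mk_surjective _ z
      simp [far, Submodule.mapQ_apply]
    rw [e, smap_smul_id, one_smul]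
    rfl
  | succ k ih =>
    have e : far I M n (k + 1) = far I M n k ∘ₗ quotPowTrans A I M (n + k) := LinearMap.ext fun z => by
      obtain ⟨m, rfl⟩ := Submodule.Quotient.mk_surjective _ z
      simp [far, quotPowTrans, Submodule.mapQ_apply]
    rw [e, ← smap_comp]
    exact (congrArg _ (hy (n + k))).trans ih

theorem exists_kill [IsNoetherianRing A] [Module.Finite A M] (f : M' →ₗ[A] M) (hf : Function.Injective f) :
    ∃ k, ∀ n, ∀ z : quotPow A I M' (n + k), bar I f (n + k) z = 0 → far I M' n k z = 0 := by
  obtain ⟨k, hk⟩ := Ideal.exists_pow_inf_eq_pow_smul I (LinearMap.range f)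
  refine ⟨k, fun n z hz => ?_⟩
  obtain ⟨m, rfl⟩ := Submodule.Quotient.mk_surjective _ z
  have hz' : f m ∈ I ^ (n + k + 1) • (⊤ : Submodule A M) ⊓ LinearMap.range f :=
    ⟨(Submodule.Quotient.mk_eq_zero _).1 hz, m, rfl⟩
  rw [hk (n + k + 1) (by omega), show n + k + 1 - k = n + 1 by omega] at hz'
  have h2 := Submodule.smul_mono (le_refl (I ^ (n + 1))) inf_le_right hz'
  rw [← Submodule.map_top, ← Submodule.map_smul''] at h2
  obtain ⟨w, hw, hwm⟩ := h2
  rw [hf hwm] at hw
  exact (Submodule.Quotient.mk_eq_zero _).2 hw

end Groth.Agent.S9541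

namespace Groth.Agent.S9541

open Groth.Agent.H2.SectLim Groth.Agent.H2.FormalColimMain
open Groth.Agent.H20.TildeSections (res res_res)

open AlgebraicGeometry in
/-- Second assertion, for the short exact sequence of coherent modules on U attached to a short exact
sequence 0 → M' → M → M'' → 0 of finite A-modules; I ⊆ 𝔞 ideals of a Noetherian ring A, U = Spec A ∖
V(𝔞). If the comparison map (colimit over the opens V ⊆ U containing U ∩ V(I) of the sections over
V, to the limit of the sections of the quotients by powers of I over U) is bijective for M and for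
M'', then it is bijective for M'. (The published sentence reads 'if the middle and left arrows are
isomorphisms, so is the left'; the diagram chase its proof describes, with both rows left exact,
gives the left arrow from the middle and right ones, which is what is stated here.) -/
theorem result (A : Type u) [CommRing A] [IsNoetherianRing A] (I 𝔞 : Ideal A) (hI : I ≤ 𝔞)
    (M' M M'' : Type u) [AddCommGroup M'] [Module A M'] [AddCommGroup M] [Module A M] [AddCommGroup M''] [Module A M'']
    [Module.Finite A M'] [Module.Finite A M] [Module.Finite A M'']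
    (f : M' →ₗ[A] M) (g : M →ₗ[A] M'') (hf : Function.Injective f) (hg : Function.Surjective g)
    (hfg : LinearMap.range f = LinearMap.ker g)
    (h : Formal2.FormalCohColimBijective A I M 0 (LocCoh.puncturedOpen A 𝔞))
    (h'' : Formal2.FormalCohColimBijective A I M'' 0 (LocCoh.puncturedOpen A 𝔞)) :
    Formal2.FormalCohColimBijective A I M' 0 (LocCoh.puncturedOpen A 𝔞) := by
  let U := LocCoh.puncturedOpen A 𝔞
  have hgf : g ∘ₗ f = 0 := LinearMap.ext fun m => LinearMap.mem_ker.1 (hfg.le (LinearMap.mem_range_self f m))
  refine ⟨fun V hV x hx => ?_, fun y hy => ?_⟩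
  · obtain ⟨V', hV', he⟩ := h.1 V hV ((ev M V).symm (smap f V (ev M' V x))) fun n => by
      refine (ev _ V).injective ?_
      rw [ev_map, AddEquiv.apply_symm_apply, smap_comp, ← bar_π I f n, ← smap_comp, ← ev_map, hx n,
        map_zero, map_zero, map_zero]
    refine ⟨V', hV', (ev M' V').injective (smap_injective hf V' ?_)⟩
    have he' := congrArg (ev M V') he
    rw [ev_res, AddEquiv.apply_symm_apply, map_zero] at he'
    rw [ev_res, smap_res, map_zero, map_zero]
    exact he'
  · let y' : ∀ n, S (quotPow A I M' n) U := fun n => ev _ U (y n)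
    have hy' : ∀ n, smap (quotPowTrans A I M' n) U (y' (n + 1)) = y' n := fun n => by
      rw [← ev_map]
      exact congrArg _ (hy n)
    obtain ⟨V, hV, x, hx⟩ := h.2 (fun n => (ev _ U).symm (smap (bar I f n) U (y' n))) fun n => by
      refine (ev _ U).injective ?_
      rw [ev_map, AddEquiv.apply_symm_apply, AddEquiv.apply_symm_apply, smap_comp, ← bar_tr, ← smap_comp, hy']
    have hx' : ∀ n, res _ hV.1 (smap (bar I f n) U (y' n)) = smap (quotPowπ A I M n) V (ev M V x) := fun n => by
      have := congrArg (ev _ V) (hx n)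
      rwa [ev_res, ev_map, AddEquiv.apply_symm_apply] at this
    obtain ⟨V', hV', he⟩ := h''.1 V hV ((ev M'' V).symm (smap g V (ev M V x))) fun n => by
      refine (ev _ V).injective ?_
      rw [ev_map, AddEquiv.apply_symm_apply, smap_comp, ← bar_π I g n, ← smap_comp, ← hx' n, smap_res,
        smap_comp, bar_comp I f g n hgf, smap_zero, map_zero, map_zero]
    have he' : smap g V' (res _ hV'.2 (ev M V x)) = 0 := by
      have := congrArg (ev M'' V') he
      rw [ev_res, AddEquiv.apply_symm_apply, map_zero] at this
      rw [smap_res]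
      exact this
    obtain ⟨X, hX⟩ := smap_exact hf (LinearMap.exact_iff.2 hfg.symm) V' he'
    refine ⟨V', hV'.1, (ev M' V').symm X, fun n => (ev _ V').injective ?_⟩
    rw [ev_res, ev_map, AddEquiv.apply_symm_apply, ← sub_eq_zero]
    obtain ⟨k, hk⟩ := exists_kill I f hf
    let d : ∀ n, S (quotPow A I M' n) V' := fun n =>
      res _ hV'.1.1 (y' n) - smap (quotPowπ A I M' n) V' X
    have hd : smap (bar I f (n + k)) V' (d (n + k)) = 0 := by
      rw [map_sub, smap_res, smap_comp, bar_π, ← smap_comp, hX, smap_res (quotPowπ A I M (n + k)), ← hx',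
        res_res, sub_self]
    obtain ⟨t, ht⟩ := smap_exact (φ := (LinearMap.ker (bar I f (n + k))).subtype) Subtype.val_injective
      (LinearMap.exact_subtype_ker_map _) V' hd
    have h0 : smap (far I M' n k) V' (d (n + k)) = 0 := by
      rw [← ht, smap_comp, show far I M' n k ∘ₗ (LinearMap.ker (bar I f (n + k))).subtype = 0 from
        LinearMap.ext fun z => hk n z.1 z.2, smap_zero]
    rw [map_sub, smap_res, far_eq I y' hy', smap_comp] at h0
    rw [show far I M' n k ∘ₗ quotPowπ A I M' (n + k) = quotPowπ A I M' n from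
      LinearMap.ext fun m => by simp [far, Submodule.mapQ_apply]] at h0
    exact h0

end Groth.Agent.S9541
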