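import Groth.Statements.S9544
import Groth.Agent.Lib.PuncturedLC.FullyFaithful

set_option autoImplicit false
universe u
open CategoryTheory
attribute [local instance] HasDerivedCategory.standard
open Formal2

namespace Groth.Agent.S9544

open AlgebraicGeometry Opposite in
/-- Let A be a Noetherian ring with a dualizing complex, f an element of an ideal 𝔞 with A complete for
the f-adic topology, U = Spec A ∖ V(𝔞), and assume depth A_𝔭 + dim (A/𝔭)_𝔮 > 2 for every prime 𝔭 not
containing f and every prime 𝔮 ⊇ 𝔭 + 𝔞. Then the completion functor for the ideal (f) is fully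
faithful on finite locally free O_U-modules. -/
theorem result (A : Type u) [CommRing A]
    [IsNoetherianRing A] (𝔞 : Ideal A) (f : A) (hf : f ∈ 𝔞) [IsAdicComplete (Ideal.span {f}) A]
    (hω : ∃ ω : Dual.D A, Dual.IsDualizing A ω)
    (h₂ : ∀ (p : Ideal A) [p.IsPrime], f ∉ p → ∀ (q : Ideal A) [q.IsPrime], p ≤ q → 𝔞 ≤ q →
      ((2 : ℕ) : WithBot ℕ∞) < ((LocCoh.depth (Localization.AtPrime p) (Localization.AtPrime p) : ℕ∞) : WithBot ℕ∞) +
        Formal2.dimBetween A p q) :
    ∀ (E E' : (↑(LocCoh.puncturedOpen A 𝔞) : Scheme.{u}).Modules), FlatMod.IsFinLocFree E → FlatMod.IsFinLocFree E' →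
      ∀ ψ : Formal.completion (Ideal.span {f}) E ⟶ Formal.completion (Ideal.span {f}) E',
        ∃! φ : E ⟶ E', ∀ n : ℕ, Formal.modPowπ (Ideal.span {f}) (n + 1) E ≫ ψ.app (op n) = φ ≫ Formal.modPowπ (Ideal.span {f}) (n + 1) E' := by
  intro E E' hE hE' ψ
  obtain ⟨ω, hω⟩ := hω
  exact Groth.Agent.Lib.PuncturedLC.FullyFaithful.hom_of_models 𝔞 _
    (fun E hE M _ _ _ e => Groth.Agent.Lib.PuncturedLC.FullyFaithful.of_depth_add_dim 𝔞 f hf hω h₂ E hE M e) E E' hE hE' ψ

end Groth.Agent.S9544
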