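import Groth.Statements.S9551
import Groth.Agent.H78.Formal.SectLimit

set_option autoImplicit false
universe u
open CategoryTheory CategoryTheory.Limits AlgebraicGeometry Opposite
open Algz

namespace Groth.Agent.S9551

/-- Let A be a Noetherian ring, I ⊆ 𝔞 ideals, U = Spec A ∖ V(𝔞) with inclusion j, (F_n) an object of
Coh(U, I O_U) and M = lim_n H^0(U, F_n). If the system H^0(U, F_n) is Mittag-Leffler, then for every
n the canonical map from M~|_U to F_n, adjoint (under the tilde and restriction adjunctions) to the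
projection M → H^0(U, F_n) = Γ(Spec A, j_*F_n), is an epimorphism. (The source states surjectivity
of (M/I^nM)~|_U → F_n; the map from M~|_U factors through it after the epimorphism M~ → (M/I^nM)~,
so the two surjectivity statements are equivalent.) -/
theorem result (A : Type u) [CommRing A] [IsNoetherianRing A] (I 𝔞 : Ideal A) (hI𝔞 : I ≤ 𝔞)
    (G : ℕᵒᵖ ⥤ (↑(LocCoh.puncturedOpen A 𝔞) : Scheme.{u}).Modules) (hG : Formal.IsCohFormal I G)
    (ha : ARSys.IsML (Algz.sectMod A (LocCoh.puncturedOpen A 𝔞) G)) (n : ℕ) :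
    Epi (((Scheme.Modules.restrictAdjunction (LocCoh.puncturedOpen A 𝔞).ι).homEquiv _ (G.obj (op n))).symm
      (((tilde.adjunction (R := CommRingCat.of A)).homEquiv (limit (Algz.sectMod A (LocCoh.puncturedOpen A 𝔞) G))
        ((Scheme.Modules.pushforward (LocCoh.puncturedOpen A 𝔞).ι).obj (G.obj (op n)))).symm
          (limit.π (Algz.sectMod A (LocCoh.puncturedOpen A 𝔞) G) (op n)))) := by
  obtain ⟨e⟩ := Groth.Agent.H78.Formal.SectTower.nonempty_iso (LocCoh.puncturedOpen A 𝔞) G hG
  haveI := (hG.1 n).1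
  haveI := Groth.Agent.Lib.QCoh.Pushforward.isQCoh_pushforward
    (f := (LocCoh.puncturedOpen A 𝔞).ι) (M := G.obj (op n))
  exact Groth.Agent.H78.Formal.SectLimit.epi_adjoint (R := CommRingCat.of A) _ _ _
    (Groth.Agent.H78.Formal.SectLimit.epi_fromLimit hG _ e ha n)

end Groth.Agent.S9551
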