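import Groth.Statements.S9553
import Groth.Agent.H78.Formal.SectInj
import Groth.Agent.Lib.QCoh.Pushforward

set_option autoImplicit false
universe u
open CategoryTheory CategoryTheory.Limits AlgebraicGeometry Opposite
open Algz

namespace Groth.Agent.S9553

/-- Let A be a Noetherian ring, I ⊆ 𝔞 ideals, U = Spec A ∖ V(𝔞) with inclusion j, (F_n) an object of
Coh(U, I O_U), M = lim_n H^0(U, F_n) and G_n = (M/I^(n+1)M)~ (positions shifted by one). Assume the
limit topology of M agrees with the I-adic one: for every k some kernel of M → H^0(U, F_n) lies in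
I^k M. Let ℓ_n : M/I^(n+1)M → H^0(U, F_n) = Γ(Spec A, j_*F_n) be the factorisations of the
projections (they exist since F_n is killed by I^(n+1); they are pinned here by that property) and
G_n → j_*F_n the adjoint maps. Then (i) each G_n|_U is coherent, and (ii) the resulting morphism
(G_n|_U) → (F_n) of inverse systems is a monomorphism in Coh(U, I O_U) (an abelian category), in the
form the printed proof establishes: for every f ∈ 𝔞, a family of sections of the G_n over D(f),
compatible under the transition maps, whose images in the Γ(D(f), j_*F_n) = Γ(D(f) ∩ U, F_n) all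
vanish, is zero. -/
theorem result (A : Type u) [CommRing A] [IsNoetherianRing A] (I 𝔞 : Ideal A) (hI𝔞 : I ≤ 𝔞)
    (G : ℕᵒᵖ ⥤ (↑(LocCoh.puncturedOpen A 𝔞) : Scheme.{u}).Modules) (hG : Formal.IsCohFormal I G)
    (hb : ∀ k : ℕ, ∃ n : ℕ, LinearMap.ker (limit.π (Algz.sectMod A (LocCoh.puncturedOpen A 𝔞) G) (op n)).hom ≤
      I ^ k • (⊤ : Submodule A ↑(limit (Algz.sectMod A (LocCoh.puncturedOpen A 𝔞) G))))
    (ℓ : ∀ n : ℕ, ModuleCat.of A (Formal2.quotPow A I ↑(limit (Algz.sectMod A (LocCoh.puncturedOpen A 𝔞) G)) n) ⟶ (Algz.sectMod A (LocCoh.puncturedOpen A 𝔞) G).obj (op n))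
    (hℓ : ∀ n : ℕ, ModuleCat.ofHom (Formal2.quotPowπ A I ↑(limit (Algz.sectMod A (LocCoh.puncturedOpen A 𝔞) G)) n) ≫ ℓ n = limit.π (Algz.sectMod A (LocCoh.puncturedOpen A 𝔞) G) (op n)) :
    (∀ n : ℕ, Coh.IsCoh ((Scheme.Modules.restrictFunctor (LocCoh.puncturedOpen A 𝔞).ι).obj (Formal2.tmod A (Formal2.quotPow A I ↑(limit (Algz.sectMod A (LocCoh.puncturedOpen A 𝔞) G)) n)))) ∧
    ∀ (f : A), f ∈ 𝔞 →
      ∀ x : (∀ n : ℕ, (Scheme.Modules.presheaf (Formal2.tmod A (Formal2.quotPow A I ↑(limit (Algz.sectMod A (LocCoh.puncturedOpen A 𝔞) G)) n))).obj (op (PrimeSpectrum.basicOpen f : (Spec (CommRingCat.of A)).Opens))),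
        (∀ n : ℕ, Scheme.Modules.Hom.app (Formal2.tmodMap A (Formal2.quotPowTrans A I ↑(limit (Algz.sectMod A (LocCoh.puncturedOpen A 𝔞) G)) n)) (PrimeSpectrum.basicOpen f : (Spec (CommRingCat.of A)).Opens) (x (n + 1)) = x n) →
        (∀ n : ℕ, Scheme.Modules.Hom.app
            (((tilde.adjunction (R := CommRingCat.of A)).homEquiv (ModuleCat.of A (Formal2.quotPow A I ↑(limit (Algz.sectMod A (LocCoh.puncturedOpen A 𝔞) G)) n))
              ((Scheme.Modules.pushforward (LocCoh.puncturedOpen A 𝔞).ι).obj (G.obj (op n)))).symm (ℓ n))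
            (PrimeSpectrum.basicOpen f : (Spec (CommRingCat.of A)).Opens) (x n) = 0) →
        ∀ n : ℕ, x n = 0 := by
  obtain ⟨e⟩ := Groth.Agent.H78.Formal.SectTower.nonempty_iso (LocCoh.puncturedOpen A 𝔞) G hG
  refine ⟨fun n => ?_, fun f _hf x hx hℓx n => ?_⟩
  · obtain ⟨j, hj⟩ := hb (n + 1)
    exact Groth.Agent.H78.Formal.SectInj.isCoh_quot hG _ e hj
  let X := Algz.sectMod A (LocCoh.puncturedOpen A 𝔞) G
  let P : ℕ → Submodule A ↑(limit X) := fun k => I ^ (k + 1) • ⊤
  have hmono : ∀ {a b : ℕ}, a ≤ b → P b ≤ P a := fun h =>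
    Submodule.smul_mono_left (Ideal.pow_le_pow_right (Nat.succ_le_succ h))
  have htr : ∀ {a b : ℕ} (h : a ≤ b),
      Scheme.Modules.Hom.app (Formal2.tmodMap A (Submodule.factor (hmono h)))
        (PrimeSpectrum.basicOpen f : (Spec (CommRingCat.of A)).Opens) (x b) = x a := by
    intro a b h
    induction h with
    | refl =>
      have e1 : Formal2.tmodMap A (Submodule.factor (hmono (le_refl a))) =
          𝟙 (Formal2.tmod A (Formal2.quotPow A I ↑(limit X) a)) := by
        have e0 : (ModuleCat.ofHom (Submodule.factor (hmono (le_refl a))) :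
            ModuleCat.of A (↑(limit X) ⧸ P a) ⟶ ModuleCat.of A (↑(limit X) ⧸ P a)) = 𝟙 _ :=
          ModuleCat.hom_ext (Submodule.linearMap_qext _ rfl)
        exact (congrArg (tilde.functor (CommRingCat.of A)).map e0).trans
          ((tilde.functor (CommRingCat.of A)).map_id _)
      rw [e1]
      rfl
    | @step b h ih =>
      rw [← ih, ← hx b]
      have e1 : Formal2.tmodMap A (Submodule.factor (hmono (Nat.le_trans h (Nat.le_succ b)))) =
          Formal2.tmodMap A (Formal2.quotPowTrans A I ↑(limit X) b) ≫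
            Formal2.tmodMap A (Submodule.factor (hmono h)) := by
        rw [← Groth.Agent.H78.Formal.SectInj.tmodMap_comp]
        exact congrArg _ (Groth.Agent.H78.Formal.SectInj.factor_comp_quotPowTrans A I _ (hmono h)
          (hmono (Nat.le_trans h (Nat.le_succ b))))
      exact (Groth.Agent.H78.Formal.Elem.app_eq e1 _ _).trans
        (Groth.Agent.H78.Formal.SectInj.comp_app_apply _ _ _ _)
  obtain ⟨j₀, hj₀⟩ := hb (n + 1)
  have hj : LinearMap.ker (limit.π X (op (max n j₀))).hom ≤ P n := fun m hm => hj₀ (by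
    rw [LinearMap.mem_ker] at hm ⊢
    rw [← limit.w X (homOfLE (le_max_right n j₀)).op, ModuleCat.hom_comp, LinearMap.comp_apply, hm,
      map_zero])
  rw [← htr (le_max_left n j₀)]
  haveI := (hG.1 (max n j₀)).1
  haveI := Groth.Agent.Lib.QCoh.Pushforward.isQCoh_pushforward
    (f := (LocCoh.puncturedOpen A 𝔞).ι) (M := G.obj (op (max n j₀)))
  refine Groth.Agent.H78.Formal.SectInj.map_app_eq_zero (R := CommRingCat.of A) f (ℓ (max n j₀))
    (ModuleCat.ofHom (Submodule.factor (hmono (le_max_left n j₀)))) (fun y hy => ?_) _ (hℓx _)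
  obtain ⟨m, rfl⟩ := (P (max n j₀)).mkQ_surjective y
  have hm : m ∈ LinearMap.ker (limit.π X (op (max n j₀))).hom := by
    rw [LinearMap.mem_ker]
    exact (congrArg (fun φ : limit X ⟶ X.obj (op (max n j₀)) => φ.hom m) (hℓ (max n j₀))).symm.trans hy
  exact (Submodule.Quotient.mk_eq_zero (P n)).mpr (hj hm)

end Groth.Agent.S9553
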