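import Groth.Statements.S9556
import Groth.Agent.Lib.Unram.SplitFamily

set_option autoImplicit false
universe u
open EtLocal

namespace Groth.Agent.S9556

open Groth.Agent.Lib.Unram.SplitNhd Groth.Agent.Lib.Unram.SplitFamily

open AlgebraicGeometry CategoryTheory Limits in
/-- Let f : X ⟶ S be a separated morphism of schemes, s a point of S and x_1, …, x_n pairwise distinct
points of X over s such that f is unramified at each x_i (some open neighbourhood of x_i is locally
of finite type and formally unramified over S). Then there are an étale morphism g : U ⟶ S, a point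
u of U over s, and a decomposition of X_U = X ×_S U into pairwise disjoint open subschemes W and
finitely many V_k which together cover X_U, such that each V_k ⟶ U is a closed immersion whose image
contains u and no point of W over u maps to any of the x_i. -/
theorem result {X S : Scheme.{u}} (f : X ⟶ S)
    [IsSeparated f] (s : S)
    {ι : Type} [Finite ι] (x : ι → ↑X) (hinj : Function.Injective x) (hs : ∀ i, f (x i) = s)
    (hx : ∀ i, ∃ W : X.Opens, x i ∈ W ∧ LocallyOfFiniteType (W.ι ≫ f) ∧ FormallyUnramified (W.ι ≫ f)) :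
    ∃ (U : Scheme.{u}) (g : U ⟶ S) (u : U), Etale g ∧ g u = s ∧
      ∃ (K : Type) (_ : Finite K) (W : (pullback f g).Opens) (V : K → (pullback f g).Opens),
        W ⊔ (⨆ k, V k) = ⊤ ∧ (∀ k, Disjoint W (V k)) ∧ (∀ k k', k ≠ k' → Disjoint (V k) (V k')) ∧
        (∀ k, IsClosedImmersion ((V k).ι ≫ pullback.snd f g) ∧
          ∃ w : ↑(pullback f g), w ∈ V k ∧ pullback.snd f g w = u) ∧
        (∀ (w : ↑(pullback f g)) (i : ι), w ∈ W → pullback.snd f g w = u → pullback.fst f g w ≠ x i) := by
  choose O hxO hft hfu using hx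
  obtain ⟨U, g, u, hg, hgu, K, hK, V, hV⟩ := exists_family f s x O hxO hs hft hfu
  obtain ⟨U', h, u', hh, hu', hdis⟩ := exists_disjoint f g u hinj hV
  have hV' : ∀ i, IsSplit f (h ≫ g) u' (x i) (O i) _ := fun i => (hV i).comp h u' hu'
  let W' : (Σ i, K i) → (pullback f (h ≫ g)).Opens := fun k => refineMap f g h ⁻¹ᵁ V k.1 k.2
  have hcl : ∀ k, IsClosed (W' k : Set ↑(pullback f (h ≫ g))) := fun k => by
    have := (hV' k.1).closed k.2
    have := IsClosedImmersion.of_comp (W' k).ι (pullback.snd f (h ≫ g))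
    rw [← Scheme.Opens.range_ι]
    exact (W' k).ι.isClosedEmbedding.isClosed_range
  refine ⟨U', h ≫ g, u', MorphismProperty.comp_mem @Etale _ _ hh hg,
    by rw [Scheme.Hom.comp_apply, hu', hgu],
    Σ i, K i, inferInstance, ⟨(⋃ k, (W' k : Set ↑(pullback f (h ≫ g))))ᶜ,
      (isClosed_iUnion_of_finite hcl).isOpen_compl⟩, W', ?_, fun k => ?_, hdis,
    fun k => ⟨(hV' k.1).closed k.2, ?_⟩, fun w i hw hwu hwx => ?_⟩
  · refine eq_top_iff.mpr fun w _ => ?_
    by_cases hw : w ∈ ⋃ k, (W' k : Set ↑(pullback f (h ≫ g)))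
    · obtain ⟨k, hk⟩ := Set.mem_iUnion.mp hw
      exact Or.inr (TopologicalSpace.Opens.mem_iSup.mpr ⟨k, hk⟩)
    · exact Or.inl hw
  · rw [disjoint_iff, eq_bot_iff]
    rintro w ⟨hw, hw'⟩
    exact absurd (Set.mem_iUnion.mpr ⟨k, hw'⟩) hw
  · obtain ⟨w, hw, hwu, -⟩ := (hV' k.1).point k.2
    exact ⟨w, hw, hwu⟩
  · obtain ⟨k, hk⟩ := (hV' i).cover w hwu hwx
    exact hw (Set.mem_iUnion.mpr ⟨⟨i, k⟩, hk⟩)

end Groth.Agent.S9556
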