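import Groth.Statements.S9558
import Groth.Agent.Lib.Unram.SplitFamily

set_option autoImplicit false
universe u
open EtLocal

namespace Groth.Agent.S9558

open Groth.Agent.Lib.Unram.SplitNhd Groth.Agent.Lib.Unram.SplitFamily

open AlgebraicGeometry CategoryTheory Limits in
/-- Let f : X ⟶ S be a separated morphism of schemes, s a point of S and x_1, …, x_n pairwise distinct
points of X over s such that f is étale at each x_i (the restriction of f to some open neighbourhood
of x_i is étale). Then there are an étale morphism g : U ⟶ S, a point u of U over s, and a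
decomposition of X_U = X ×_S U into pairwise disjoint open subschemes W and finitely many V_k which
together cover X_U, such that each V_k ⟶ U is an isomorphism and no point of W over u maps to any of
the x_i. -/
theorem result {X S : Scheme.{u}} (f : X ⟶ S)
    [IsSeparated f] (s : S)
    {ι : Type} [Finite ι] (x : ι → ↑X) (hinj : Function.Injective x) (hs : ∀ i, f (x i) = s)
    (hx : ∀ i, ∃ W : X.Opens, x i ∈ W ∧ Etale (W.ι ≫ f)) :
    ∃ (U : Scheme.{u}) (g : U ⟶ S) (u : U), Etale g ∧ g u = s ∧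
      ∃ (K : Type) (_ : Finite K) (W : (pullback f g).Opens) (V : K → (pullback f g).Opens),
        W ⊔ (⨆ k, V k) = ⊤ ∧ (∀ k, Disjoint W (V k)) ∧ (∀ k k', k ≠ k' → Disjoint (V k) (V k')) ∧
        (∀ k, IsIso ((V k).ι ≫ pullback.snd f g)) ∧
        (∀ (w : ↑(pullback f g)) (i : ι), w ∈ W → pullback.snd f g w = u → pullback.fst f g w ≠ x i) := by
  choose O hxO hO using hx
  obtain ⟨U, g, u, hg, hgu, K, hK, V, hV⟩ :=
    exists_family f s x O hxO hs (fun i => have := hO i; inferInstance)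
      (fun i => have := hO i; inferInstance)
  obtain ⟨U', h, u', hh, hu', hdis⟩ := exists_disjoint f g u hinj hV
  have hV' : ∀ i, IsSplit f (h ≫ g) u' (x i) (O i) _ := fun i => (hV i).comp h u' hu'
  obtain ⟨U'', h', u'', hh', hu'', hiso⟩ := exists_isIso f (h ≫ g) u' hO hV'
  have hV'' : ∀ i, IsSplit f (h' ≫ h ≫ g) u'' (x i) (O i) _ := fun i => (hV' i).comp h' u'' hu''
  let W' : (Σ i, K i) → (pullback f (h' ≫ h ≫ g)).Opens := fun k =>
    refineMap f (h ≫ g) h' ⁻¹ᵁ (refineMap f g h ⁻¹ᵁ V k.1 k.2)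
  have hcl : ∀ k, IsClosed (W' k : Set ↑(pullback f (h' ≫ h ≫ g))) := fun k => by
    have := (hV'' k.1).closed k.2
    have := IsClosedImmersion.of_comp (W' k).ι (pullback.snd f (h' ≫ h ≫ g))
    rw [← Scheme.Opens.range_ι]
    exact (W' k).ι.isClosedEmbedding.isClosed_range
  refine ⟨U'', h' ≫ h ≫ g, u'',
    MorphismProperty.comp_mem @Etale _ _ hh' (MorphismProperty.comp_mem @Etale _ _ hh hg),
    by rw [Scheme.Hom.comp_apply, hu'', Scheme.Hom.comp_apply, hu', hgu],
    Σ i, K i, inferInstance, ⟨(⋃ k, (W' k : Set ↑(pullback f (h' ≫ h ≫ g))))ᶜ,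
      (isClosed_iUnion_of_finite hcl).isOpen_compl⟩, W', ?_, fun k => ?_, fun k k' hne => ?_,
    fun k => hiso k.1 k.2, fun w i hw hwu hwx => ?_⟩
  · refine eq_top_iff.mpr fun w _ => ?_
    by_cases hw : w ∈ ⋃ k, (W' k : Set ↑(pullback f (h' ≫ h ≫ g)))
    · obtain ⟨k, hk⟩ := Set.mem_iUnion.mp hw
      exact Or.inr (TopologicalSpace.Opens.mem_iSup.mpr ⟨k, hk⟩)
    · exact Or.inl hw
  · rw [disjoint_iff, eq_bot_iff]
    rintro w ⟨hw, hw'⟩
    exact absurd (Set.mem_iUnion.mpr ⟨k, hw'⟩) hw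
  · rw [disjoint_iff, eq_bot_iff]
    rintro w ⟨hw, hw'⟩
    exact (hdis k k' hne).le_bot
      (show refineMap f (h ≫ g) h' w ∈ _ ⊓ _ from ⟨hw, hw'⟩)
  · obtain ⟨k, hk⟩ := (hV'' i).cover w hwu hwx
    exact hw (Set.mem_iUnion.mpr ⟨⟨i, k⟩, hk⟩)

end Groth.Agent.S9558
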