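import Groth.Statements.S9560
import Groth.Agent.Lib.Unram.StalkTower

set_option autoImplicit false
universe u
open EtLocal

namespace Groth.Agent.S9560

open Groth.Agent.Lib.Unram.AtPrime Groth.Agent.Lib.Unram.StalkTower

/-- Suppose A is a Noetherian ring and B is a finite-type A-algebra, and consider a prime q of B lying
over the prime p of A, where B_q carries its A_p-algebra structure. Then B is étale at q over A (the
local ring B_q is formally étale over A) if and only if the local homomorphism A_p → B_q is étale,
which means three things: B_q is A_p-flat, the ideal p B_q equals the maximal ideal of B_q, and the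
residue field of q is a finite separable extension of the residue field of p (that B_q is
essentially of finite type over A_p holds automatically). -/
theorem result (A B : Type u) [CommRing A] [CommRing B]
    [Algebra A B] [IsNoetherianRing A] [Algebra.FiniteType A B]
    (p : Ideal A) [p.IsPrime] (q : Ideal B) [q.IsPrime] [q.LiesOver p]
    [Algebra (Localization.AtPrime p) (Localization.AtPrime q)]
    [Localization.AtPrime.IsLiesOverAlgebra p q] :
    Algebra.IsEtaleAt A q ↔
      Module.Flat (Localization.AtPrime p) (Localization.AtPrime q) ∧
        p.map (algebraMap A (Localization.AtPrime q)) = IsLocalRing.maximalIdeal (Localization.AtPrime q) ∧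
        Module.Finite p.ResidueField q.ResidueField ∧
        Algebra.IsSeparable p.ResidueField q.ResidueField := by
  have : Algebra.FinitePresentation A B := Algebra.FinitePresentation.of_finiteType.mp inferInstance
  rw [isEtaleAt_iff, Module.flat_iff_of_isLocalization (Localization.AtPrime p) p.primeCompl,
    Algebra.isUnramifiedAt_iff_map_eq A p q]
  constructor
  · rintro ⟨hfl, hsep, hm⟩
    have : Algebra.IsUnramifiedAt A q := (Algebra.isUnramifiedAt_iff_map_eq A p q).mpr ⟨hsep, hm⟩
    exact ⟨hfl, hm, inferInstance, hsep⟩
  · rintro ⟨hfl, hm, -, hsep⟩
    exact ⟨hfl, hsep, hm⟩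

end Groth.Agent.S9560
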