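import Groth.Statements.S9567
import Mathlib.AlgebraicGeometry.Morphisms.Etale
import Mathlib.RingTheory.Unramified.LocalStructure

set_option autoImplicit false
universe u
open EtLocal

namespace Groth.Agent.S9567

open AlgebraicGeometry CategoryTheory in
/-- Let φ : X ⟶ Y be any morphism of schemes, x a point of X and V an affine open neighbourhood of φ(x),
with ring R = Γ(Y, V). If φ is étale on some open neighbourhood of x, then there are an affine open
neighbourhood U of x with φ(U) ⊆ V, a monic polynomial p over R and an open immersion j of U into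
Spec of (R[t]/(p))[1/p′] (the localization of R[t]/(p) away from the image of the derivative of p)
such that j followed by the projection to Spec R is the morphism U → Spec R induced by φ. -/
theorem result {X Y : Scheme.{u}} (φ : X ⟶ Y) (x : X)
    (V : Y.Opens) (hV : IsAffineOpen V) (hxV : φ.base x ∈ V)
    (hφ : ∃ W : X.Opens, x ∈ W ∧ Etale (W.ι ≫ φ)) :
    ∃ (U : X.Opens) (hU : IsAffineOpen U) (_ : x ∈ U) (e : U ≤ φ ⁻¹ᵁ V)
      (p : Polynomial Γ(Y, V)) (_ : p.Monic)
      (j : U.toScheme ⟶ Spec (CommRingCat.of (Localization.Away (AdjoinRoot.mk p (Polynomial.derivative p))))),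
      IsOpenImmersion j ∧
        j ≫ Spec.map (CommRingCat.ofHom
            (algebraMap Γ(Y, V) (Localization.Away (AdjoinRoot.mk p (Polynomial.derivative p))))) =
          hU.isoSpec.hom ≫ Spec.map (φ.appLE V U e) := by
  obtain ⟨W, hxW, hW⟩ := hφ
  obtain ⟨U₁, hU₁, hxU₁, hle⟩ := exists_isAffineOpen_mem_and_subset
    (x := x) (U := W ⊓ φ ⁻¹ᵁ V) ⟨hxW, hxV⟩
  have e₁ : U₁ ≤ φ ⁻¹ᵁ V := fun z hz => (hle hz).2
  have he : (φ.appLE V U₁ e₁).hom.Etale := by
    have : Etale (U₁.ι ≫ φ) := by
      rw [← Scheme.homOfLE_ι X (fun z hz => (hle hz).1 : U₁ ≤ W), Category.assoc]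
      exact MorphismProperty.comp_mem @Etale _ _ inferInstance hW
    have h1 : Etale (hU₁.fromSpec ≫ φ) := by
      rw [← IsAffineOpen.isoSpec_inv_ι, Category.assoc]
      exact MorphismProperty.comp_mem @Etale _ _ inferInstance this
    rw [← hV.SpecMap_appLE_fromSpec φ hU₁ e₁] at h1
    exact HasRingHomProperty.Spec_iff.mp
      (MorphismProperty.of_postcomp (W := @Etale) (W' := @Etale) _ hV.fromSpec inferInstance h1)
  let _ : Algebra Γ(Y, V) Γ(X, U₁) := (φ.appLE V U₁ e₁).hom.toAlgebra
  have : Algebra.Etale Γ(Y, V) Γ(X, U₁) := he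
  obtain ⟨h, hh, hstd⟩ := Algebra.IsEtaleAt.exists_isStandardEtale (R := Γ(Y, V))
    (hU₁.primeIdealOf ⟨x, hxU₁⟩).asIdeal
  have hU : IsAffineOpen (X.basicOpen h) := hU₁.basicOpen h
  have hxU : x ∈ X.basicOpen h := by
    have h3 : hU₁.primeIdealOf ⟨x, hxU₁⟩ ∈ hU₁.fromSpec ⁻¹ᵁ X.basicOpen h := by
      rw [hU₁.fromSpec_preimage_basicOpen]; exact hh
    change hU₁.fromSpec (hU₁.primeIdealOf ⟨x, hxU₁⟩) ∈ X.basicOpen h at h3
    rwa [hU₁.fromSpec_primeIdealOf] at h3
  have e : X.basicOpen h ≤ φ ⁻¹ᵁ V := (X.basicOpen_le h).trans e₁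
  obtain ⟨⟨S⟩⟩ := hstd
  have := hU₁.isLocalization_basicOpen h
  let _ : Algebra Γ(Y, V) Γ(X, X.basicOpen h) := (φ.appLE V (X.basicOpen h) e).hom.toAlgebra
  have : IsScalarTower Γ(Y, V) Γ(X, U₁) Γ(X, X.basicOpen h) := .of_algebraMap_eq fun a => by
    simp only [RingHom.algebraMap_toAlgebra]
    rw [← ConcreteCategory.comp_apply, Scheme.Hom.appLE_map]
  let P := S.P
  let ε : P.Ring ≃ₐ[Γ(Y, V)] Γ(X, X.basicOpen h) :=
    S.equivRing.symm.trans
      ((IsLocalization.algEquiv (.powers h) (Localization.Away h) Γ(X, X.basicOpen h)).restrictScalars Γ(Y, V))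
  let L := Localization.Away (AdjoinRoot.mk P.f (Polynomial.derivative P.f))
  let κ : L →ₐ[Γ(Y, V)] P.Ring :=
    IsLocalization.Away.liftAlgHom (AdjoinRoot.mk P.f (Polynomial.derivative P.f))
      (f := AdjoinRoot.liftAlgHom _ _ P.X P.hasMap_X.1) (by
        rw [AdjoinRoot.liftAlgHom_mk]
        exact P.hasMap_X.isUnit_derivative_f)
  let j : (X.basicOpen h).toScheme ⟶ Spec (CommRingCat.of L) :=
    hU.isoSpec.hom ≫ Spec.map (CommRingCat.ofHom (ε.toAlgHom.comp κ).toRingHom)
  refine ⟨X.basicOpen h, hU, hxU, e, P.f, P.monic_f, j, ?_, ?_⟩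
  · have : IsIso (CommRingCat.ofHom ε.toRingEquiv.toRingHom) :=
      (ε.toRingEquiv.toCommRingCatIso).isIso_hom
    have hκ : IsOpenImmersion (Spec.map (CommRingCat.ofHom κ.toRingHom)) := by
      let A₁ := Localization.Away (AdjoinRoot.mk P.f P.g)
      have : IsOpenImmersion (Spec.map (CommRingCat.ofHom (algebraMap (AdjoinRoot P.f) L))) :=
        IsOpenImmersion.of_isLocalization (AdjoinRoot.mk P.f (Polynomial.derivative P.f))
      have : IsOpenImmersion (Spec.map (CommRingCat.ofHom (algebraMap (AdjoinRoot P.f) A₁))) :=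
        IsOpenImmersion.of_isLocalization (AdjoinRoot.mk P.f P.g)
      have : IsIso (CommRingCat.ofHom P.equivAwayAdjoinRoot.toRingEquiv.toRingHom) :=
        (P.equivAwayAdjoinRoot.toRingEquiv.toCommRingCatIso).isIso_hom
      have hc : (P.equivAwayAdjoinRoot.toAlgHom.comp κ).toRingHom.comp (algebraMap (AdjoinRoot P.f) L) =
          algebraMap (AdjoinRoot P.f) A₁ := by
        have : ((P.equivAwayAdjoinRoot.toAlgHom.comp κ).comp
            (IsScalarTower.toAlgHom Γ(Y, V) (AdjoinRoot P.f) L)) =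
            IsScalarTower.toAlgHom Γ(Y, V) (AdjoinRoot P.f) A₁ := by
          apply AdjoinRoot.algHom_ext
          simp [κ, A₁, StandardEtalePair.equivAwayAdjoinRoot]
        exact congr_arg AlgHom.toRingHom this
      have : IsOpenImmersion (Spec.map (CommRingCat.ofHom P.equivAwayAdjoinRoot.toRingEquiv.toRingHom) ≫
          Spec.map (CommRingCat.ofHom κ.toRingHom) ≫
          Spec.map (CommRingCat.ofHom (algebraMap (AdjoinRoot P.f) L))) := by
        rw [← Spec.map_comp, ← Spec.map_comp, ← CommRingCat.ofHom_comp, ← CommRingCat.ofHom_comp]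
        change IsOpenImmersion (Spec.map (CommRingCat.ofHom
          ((P.equivAwayAdjoinRoot.toAlgHom.comp κ).toRingHom.comp (algebraMap (AdjoinRoot P.f) L))))
        rw [hc]
        infer_instance
      have h2 : IsOpenImmersion (Spec.map (CommRingCat.ofHom κ.toRingHom) ≫
          Spec.map (CommRingCat.ofHom (algebraMap (AdjoinRoot P.f) L))) :=
        (MorphismProperty.cancel_left_of_respectsIso @IsOpenImmersion _ _).mp this
      exact IsOpenImmersion.of_comp _
        (Spec.map (CommRingCat.ofHom (algebraMap (AdjoinRoot P.f) L)))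
    change IsOpenImmersion (hU.isoSpec.hom ≫ Spec.map (CommRingCat.ofHom κ.toRingHom ≫
      CommRingCat.ofHom ε.toRingEquiv.toRingHom))
    rw [Spec.map_comp]
    infer_instance
  · rw [Category.assoc, ← Spec.map_comp, ← CommRingCat.ofHom_comp]
    congr 2
    ext a
    exact (ε.toAlgHom.comp κ).commutes a

end Groth.Agent.S9567
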