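import Groth.Statements.S9568
import Mathlib.RingTheory.Localization.Finiteness

set_option autoImplicit false
universe u
open EtLocal

namespace Groth.Agent.S9568

open TensorProduct

/-- Let A be a ring, φ a surjection from the polynomial ring P = A[x_1, …, x_n] onto an A-algebra B with
kernel I, q a prime of B and 𝔮 its preimage in P. Then the localization at q of the module of
differentials Ω_{B/A} vanishes if and only if the images of the differentials dg, g ∈ I, span the
localization of Ω_{P/A} at 𝔮 over P_𝔮. (Geometrically: for f locally of finite type, the stalk of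
Ω_{X/Y} at x vanishes iff near x the scheme X is a closed subscheme of an affine space over the base
cut out by an ideal whose germs at the point have differentials generating the stalk of Ω of the
affine space; the published statement also lists the equivalence with f being unramified at x and
with the diagonal being a local isomorphism at x, which this row does not restate. The published
statement asks for one such presentation near the point; this row states the equivalence for every
presentation, which is what the published proof shows and which implies the existential form.) -/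
theorem result {A B : Type u} [CommRing A] [CommRing B]
    [Algebra A B] (n : ℕ) (φ : MvPolynomial (Fin n) A →ₐ[A] B) (hφ : Function.Surjective φ)
    (q : Ideal B) [q.IsPrime] :
    Subsingleton (LocalizedModule q.primeCompl (KaehlerDifferential A B)) ↔
      Submodule.span (Localization.AtPrime (q.comap φ.toRingHom))
        ((LocalizedModule.mkLinearMap (q.comap φ.toRingHom).primeCompl
            (KaehlerDifferential A (MvPolynomial (Fin n) A))) ''
          ((KaehlerDifferential.D A (MvPolynomial (Fin n) A)) '' (RingHom.ker φ.toRingHom : Set (MvPolynomial (Fin n) A)))) = ⊤ := by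
  let P := MvPolynomial (Fin n) A
  let _ : Algebra P B := φ.toRingHom.toAlgebra
  have : IsScalarTower A P B := .of_algebraMap_eq fun a => (φ.commutes a).symm
  have hsurj : Function.Surjective (algebraMap P B) := hφ
  let I : Ideal P := RingHom.ker φ.toRingHom
  let 𝔮 : Ideal P := q.comap φ.toRingHom
  let π : KaehlerDifferential A P →ₗ[P] KaehlerDifferential A B := KaehlerDifferential.map A A P B
  let N : Submodule P (KaehlerDifferential A P) :=
    Submodule.span P ((KaehlerDifferential.D A P) '' (I : Set P))
  let Lq := Localization.AtPrime 𝔮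
  let ν := LocalizedModule.mkLinearMap 𝔮.primeCompl (KaehlerDifferential A P)
  have hspan : N.localized' Lq 𝔮.primeCompl ν =
      Submodule.span Lq (ν '' ((KaehlerDifferential.D A P) '' (I : Set P))) :=
    Submodule.localized'_span ..
  have hNker : ∀ x ∈ N, π x = 0 := fun x hx => by
    refine (Submodule.span_le.mpr ?_ : N ≤ LinearMap.ker π) hx
    rintro _ ⟨g, hg, rfl⟩
    have hg0 : algebraMap P B g = 0 := hg
    simp [π, LinearMap.mem_ker, KaehlerDifferential.map_D, hg0]
  have hker : ∀ x, π x = 0 → ∃ y ∈ N, x - y ∈ I • (⊤ : Submodule P (KaehlerDifferential A P)) :=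
    fun x hx => by
    obtain ⟨c, hc⟩ := (KaehlerDifferential.exact_kerCotangentToTensor_mapBaseChange A P B hsurj
      (1 ⊗ₜ x)).mp (by rw [KaehlerDifferential.mapBaseChange_tmul, one_smul]; exact hx)
    obtain ⟨g, rfl⟩ := Ideal.toCotangent_surjective _ c
    rw [KaehlerDifferential.kerCotangentToTensor_toCotangent] at hc
    refine ⟨_, Submodule.subset_span ⟨g.1, g.2, rfl⟩, ?_⟩
    let e : B ≃ₗ[P] P ⧸ I :=
      ((Ideal.quotientKerAlgEquivOfSurjective (f := Algebra.ofId P B) hsurj).symm).toLinearEquiv
    have he : e 1 = 1 :=
      map_one (Ideal.quotientKerAlgEquivOfSurjective (f := Algebra.ofId P B) hsurj).symm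
    rw [← LinearMap.ker_tensorProductMk, LinearMap.mem_ker, map_sub, sub_eq_zero]
    have h2 := congr_arg (LinearMap.rTensor (KaehlerDifferential A P) e.toLinearMap) hc
    rw [LinearMap.rTensor_tmul, LinearMap.rTensor_tmul] at h2
    erw [he] at h2
    exact h2.symm
  change _ ↔ Submodule.span Lq (ν '' ((KaehlerDifferential.D A P) '' (I : Set P))) = ⊤
  rw [← hspan, IsLocalizedModule.subsingleton_iff q.primeCompl
    (LocalizedModule.mkLinearMap q.primeCompl (KaehlerDifferential A B))]
  constructor
  · intro H
    let J : Ideal Lq := I.map (algebraMap P Lq)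
    have : Algebra.FiniteType A P := inferInstance
    have hfg : (⊤ : Submodule Lq (LocalizedModule 𝔮.primeCompl (KaehlerDifferential A P))).FG :=
      have := Module.Finite.of_isLocalizedModule (Rₚ := Lq) 𝔮.primeCompl ν
      Module.Finite.fg_top
    refine top_le_iff.mp (Submodule.le_of_le_smul_of_le_jacobson_bot (I := J) hfg ?_ ?_)
    · rw [IsLocalRing.jacobson_eq_maximalIdeal ⊥ bot_ne_top, ← Localization.AtPrime.map_eq_maximalIdeal]
      exact Ideal.map_mono fun g hg => by
        change φ g ∈ q
        rw [show φ g = 0 from hg]; exact q.zero_mem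
    · intro z _
      obtain ⟨⟨x, s⟩, rfl⟩ := IsLocalizedModule.mk'_surjective 𝔮.primeCompl ν z
      obtain ⟨r, hr, hr0⟩ := H (π x)
      obtain ⟨t, rfl⟩ := hsurj r
      obtain ⟨y, hy, hyI⟩ := hker (t • x) (by rw [map_smul, ← algebraMap_smul B t, hr0])
      have ht : t ∈ 𝔮.primeCompl := hr
      have hI : ∀ w ∈ I • (⊤ : Submodule P (KaehlerDifferential A P)),
          ν w ∈ J • (⊤ : Submodule Lq (LocalizedModule 𝔮.primeCompl (KaehlerDifferential A P))) := by
        intro w hw
        refine Submodule.smul_induction_on hw (fun a ha m _ => ?_) fun a b ha hb => ?_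
        · rw [map_smul, ← algebraMap_smul Lq a]
          exact Submodule.smul_mem_smul (Ideal.mem_map_of_mem _ ha) trivial
        · rw [map_add]; exact add_mem ha hb
      have hz : Function.uncurry (IsLocalizedModule.mk' ν) (x, s) =
          IsLocalization.mk' Lq 1 (s * ⟨t, ht⟩) • ν (t • x) := by
        rw [← IsLocalizedModule.mk'_one 𝔮.primeCompl ν, IsLocalizedModule.mk'_smul_mk', one_smul,
          mul_one]
        exact IsLocalizedModule.mk'_eq_mk'_iff ν _ _ _ _ |>.mpr ⟨1, by
          simp [Submonoid.smul_def, mul_smul, smul_comm t]⟩
      rw [hz]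
      refine Submodule.smul_mem _ _ ?_
      rw [show t • x = y + (t • x - y) by abel, map_add]
      exact Submodule.add_mem_sup ⟨y, hy, 1, IsLocalizedModule.mk'_one _ _ _⟩ (hI _ hyI)
  · intro H m
    obtain ⟨x, rfl⟩ := KaehlerDifferential.map_surjective_of_surjective A A P B hsurj m
    obtain ⟨y, hy, s, hs⟩ := H.ge (x := ν x) trivial
    rw [IsLocalizedModule.mk'_eq_iff, Submonoid.smul_def, ← map_smul] at hs
    obtain ⟨c, hc⟩ := (IsLocalizedModule.eq_iff_exists 𝔮.primeCompl ν).mp hs
    refine ⟨algebraMap P B ((c * s : 𝔮.primeCompl) : P), (c * s).2, ?_⟩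
    rw [algebraMap_smul, Submonoid.coe_mul, mul_smul]
    change (c : P) • (s : P) • π x = 0
    rw [← map_smul, ← map_smul, show (c : P) • (s : P) • x = (c : P) • y from hc.symm]
    exact hNker _ (N.smul_mem _ hy)

end Groth.Agent.S9568
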