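import Groth.Statements.S9569
import Groth.Agent.Lib.ProjKoszul.Surj
import Groth.Agent.Lib.CurveBundle.Twist
import Groth.Agent.Lib.Exchange.HomAdj

set_option autoImplicit false
universe u
open CategoryTheory CategoryTheory.Limits AlgebraicGeometry TopologicalSpace Opposite
open Constr

namespace Groth.Agent.S9569

section Helpers

open Groth.Agent.Lib Groth.Agent.Lib.TensorMod.Basic Groth.Agent.Lib.Modules.TensorSec
open Groth.Agent.Lib.TensorMod.Dual (rs rf)

variable {X : Scheme.{u}}

theorem comm_tens {M N : X.Modules} {U : X.Opens} (a : Γ(M, U)) (b : Γ(N, U)) :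
    (comm M N).hom.app U (tens a b) = tens b a := by
  rw [ProjKoszul.Surj.tens_eq_η, ProjKoszul.Surj.tens_eq_η]
  exact ProjKoszul.Surj.η_natural _ _

/-- The symmetry of the square of an invertible module is the identity. -/
theorem comm_self {L : X.Modules} (hL : PicF.IsInvertible L) : (comm L L).hom = 𝟙 _ := by
  refine TensorMod.Free.hom_ext_pairM fun U a b => ?_
  rw [← app_tens, ← app_tens, comm_tens]
  change tens b a = tens a b
  refine section_ext _ _ _ fun p hp => ?_
  obtain ⟨W, e, hpW, he⟩ := TensorMod.Gen.isInvertible_iff.1 hL p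
  refine ⟨U ⊓ W, inf_le_left, ⟨hp, hpW⟩, ?_⟩
  simp only [rs_tens]
  obtain ⟨r, hr⟩ := Ample.GenLocus.exists_coord (he.res (inf_le_right : U ⊓ W ≤ W))
    (rs L inf_le_left a)
  obtain ⟨r', hr'⟩ := Ample.GenLocus.exists_coord (he.res (inf_le_right : U ⊓ W ≤ W))
    (rs L inf_le_left b)
  rw [hr, hr']
  simp only [tens_smul_left, tens_smul_right, smul_smul, mul_comm]

/-- A morphism out of `A ⊗ L` is determined after pulling back along generators of `L`. -/
theorem tensor_hom_ext {m : ℕ} {A L Z : X.Modules} (s : Fin m → (Coh.structureModule X ⟶ L))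
    (hs : Epi (Sigma.desc s : FlatMod.freeMod X m ⟶ L)) {a b : CohB1.tensorMod A L ⟶ Z}
    (h : ∀ k, tmap (𝟙 A) (s k) ≫ a = tmap (𝟙 A) (s k) ≫ b) : a = b := by
  refine (ZarCoh.Exchange.HomAdj.homEquiv A Z L).injective ((cancel_epi (Limits.Sigma.desc s)).1
    (Limits.Sigma.hom_ext _ _ fun k => ?_))
  rw [← Category.assoc, ← Category.assoc, Limits.Sigma.ι_desc,
    ← ZarCoh.Exchange.HomAdj.homEquiv_natural, ← ZarCoh.Exchange.HomAdj.homEquiv_natural, h k]

theorem main {L : X.Modules} (hL : PicF.IsInvertible L) {m : ℕ}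
    (s : Fin m → (Coh.structureModule X ⟶ L))
    (hs : Epi (Sigma.desc s : FlatMod.freeMod X m ⟶ L)) :
    Curv2.IsGloballyGenerated
      (CohB1.tensorMod (kernel (Sigma.desc s : FlatMod.freeMod X m ⟶ L)) L) := by
  let φ : FlatMod.freeMod X m ⟶ L := Limits.Sigma.desc s
  let K := kernel φ
  let ι : K ⟶ FlatMod.freeMod X m := kernel.ι φ
  haveI := CurveBundle.Twist.isEquivalence hL
  haveI : Mono (tmap ι (𝟙 L)) := inferInstanceAs (Mono ((tensorBy L).map ι))
  let u : Fin m → (FlatMod.freeMod X m ⟶ CohB1.tensorMod (FlatMod.freeMod X m) L) := fun k =>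
    (rightUnit _).inv ≫ tmap (𝟙 _) (s k) -
      φ ≫ (rightUnit L).inv ≫ tmap (𝟙 L)
        (Limits.Sigma.ι (fun _ : Fin m => Coh.structureModule X) k) ≫ (comm L _).hom
  have hu : ∀ k, u k ≫ tmap φ (𝟙 L) = 0 := fun k => by
    have e1 : (rightUnit (FlatMod.freeMod X m)).inv ≫ tmap φ (𝟙 _) =
        φ ≫ (rightUnit L).inv := by
      rw [Iso.inv_comp_eq, ← rightUnit_natural_assoc, Iso.hom_inv_id, Category.comp_id]
    have e2 : tmap (𝟙 (FlatMod.freeMod X m)) (s k) ≫ tmap φ (𝟙 L) =
        tmap φ (𝟙 _) ≫ tmap (𝟙 L) (s k) := by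
      rw [← tmap_comp, ← tmap_comp]; simp
    have e3 : tmap (𝟙 L) (Limits.Sigma.ι (fun _ : Fin m => Coh.structureModule X) k) ≫
        tmap (𝟙 L) φ = tmap (𝟙 L) (s k) := by
      rw [← tmap_comp, Category.comp_id, Limits.Sigma.ι_desc]
    simp only [u, Preadditive.sub_comp, Category.assoc]
    rw [e2, reassoc_of% e1, ← comm_natural (𝟙 L) φ, reassoc_of% e3, comm_self hL, Category.comp_id,
      sub_self]
  let P := PreservesKernel.iso (tensorBy L) φ
  let v : Fin m → (FlatMod.freeMod X m ⟶ CohB1.tensorMod K L) := fun k =>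
    kernel.lift ((tensorBy L).map φ) (u k) (hu k) ≫ P.inv
  have hP : P.inv ≫ (tensorBy L).map (kernel.ι φ) = kernel.ι ((tensorBy L).map φ) := by
    rw [Iso.inv_comp_eq, PreservesKernel.iso_hom]
    exact (kernelComparison_comp_ι φ (tensorBy L)).symm
  have hv : ∀ k, v k ≫ tmap ι (𝟙 L) = u k := fun k =>
    (Category.assoc _ _ _).trans
      ((congrArg (kernel.lift ((tensorBy L).map φ) (u k) (hu k) ≫ ·) hP).trans (kernel.lift_ι _ _ _))
  have key : ∀ k, tmap (𝟙 K) (s k) = (rightUnit K).hom ≫ ι ≫ v k := fun k => by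
    have e1 : (rightUnit K).hom ≫ ι ≫ (rightUnit (FlatMod.freeMod X m)).inv = tmap ι (𝟙 _) := by
      rw [← rightUnit_natural_assoc, Iso.hom_inv_id, Category.comp_id]
    refine (cancel_mono (tmap ι (𝟙 L))).1 ?_
    rw [Category.assoc, Category.assoc, hv, Preadditive.comp_sub, kernel.condition_assoc φ,
      zero_comp, sub_zero, reassoc_of% e1, ← tmap_comp, ← tmap_comp]
    simp
  let p : (SheafOfModules.free (ULift.{u} (Fin m × Fin m)) : X.Modules) ⟶ CohB1.tensorMod K L :=
    Cofan.IsColimit.desc (SheafOfModules.isColimitFreeCofan (R := X.ringCatSheaf) _)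
      fun d => Limits.Sigma.ι (fun _ : Fin m => Coh.structureModule X) d.down.2 ≫ v d.down.1
  refine ⟨_, p, ⟨fun a b hab => tensor_hom_ext s hs fun k => ?_⟩⟩
  rw [key k]
  refine ((Category.assoc _ _ _).trans (congrArg (_ ≫ ·) (Category.assoc _ _ _))).trans
    (Eq.trans ?_ ((Category.assoc _ _ _).trans (congrArg (_ ≫ ·) (Category.assoc _ _ _))).symm)
  refine congrArg (fun f => _ ≫ ι ≫ f) (Limits.Sigma.hom_ext _ _ fun j => ?_)
  have hf : (SheafOfModules.ιFree (R := X.ringCatSheaf) (ULift.up (k, j)) :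
      Coh.structureModule X ⟶ SheafOfModules.free _) ≫ p =
        Limits.Sigma.ι (fun _ : Fin m => Coh.structureModule X) j ≫ v k :=
    Cofan.IsColimit.fac (SheafOfModules.isColimitFreeCofan (R := X.ringCatSheaf) _) _ _
  refine (Category.assoc _ _ _).symm.trans (Eq.trans ?_ (Category.assoc _ _ _))
  rw [← hf]
  exact (Category.assoc _ _ _).trans ((congrArg (_ ≫ ·) hab).trans (Category.assoc _ _ _).symm)

end Helpers

/-- Let X be a scheme, L an invertible O_X-module and s_0, …, s_n global sections of L, given as module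
maps O_X → L, which generate L: the map O_X^{n+1} → L they induce is an epimorphism. Let F be the
kernel of that map. Then F ⊗ L is globally generated, i.e. it is a quotient of a free O_X-module. -/
theorem result (X : Scheme.{u}) (L : X.Modules) (hL : PicF.IsInvertible L)
    (n : ℕ) (s : Fin (n + 1) → (Coh.structureModule X ⟶ L))
    (hs : Epi (Sigma.desc s : FlatMod.freeMod X (n + 1) ⟶ L)) :
    Curv2.IsGloballyGenerated (CohB1.tensorMod (kernel (Sigma.desc s : FlatMod.freeMod X (n + 1) ⟶ L)) L) := by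
  exact main hL s hs

end Groth.Agent.S9569
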