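import Groth.Statements.S9572
import Groth.Agent.S3596
import Groth.Agent.Lib.ProjQ.Props

set_option linter.style.haveILetI false

set_option autoImplicit false
universe u
open CategoryTheory CategoryTheory.Limits AlgebraicGeometry TopologicalSpace Opposite
open Constr

namespace Groth.Agent.S9572

/-- Let ψ : A → B be a homomorphism of graded rings such that A_d → B_d is bijective for all d ≥ d₀. Let
U(ψ) ⊆ Proj B be the union of the opens D_+(ψ f) over homogeneous f of positive degree, and r_ψ :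
U(ψ) → Proj A the morphism whose restriction to each chart Spec B_(ψ f) is Spec of the induced map
A_(f) → B_(ψ f) followed by the chart of Proj A. Then U(ψ) = Proj B and r_ψ is an isomorphism. (Here
r_ψ is any morphism with that chart description; it is unique.) -/
theorem result {R A : Type u} [CommRing R] [CommRing A] [Algebra R A] (𝒜 : ℕ → Submodule R A) [GradedAlgebra 𝒜]
    {B : Type u} [CommRing B] [Algebra R B] (ℬ : ℕ → Submodule R B) [GradedAlgebra ℬ] (ψ : 𝒜 →+*ᵍ ℬ)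
    (d₀ : ℕ) (hbij : ∀ d : ℕ, d₀ ≤ d → Set.BijOn ψ (𝒜 d) (ℬ d))
    (r : (PCone.dom ψ : Scheme.{u}) ⟶ Proj 𝒜)
    (hr : ∀ (d : ℕ) (f : A) (hd : 0 < d) (hf : f ∈ 𝒜 d),
      PCone.chart ψ hf hd ≫ r =
        Spec.map (CommRingCat.ofHom (HomogeneousLocalization.Away.map ψ f)) ≫ Proj.awayι 𝒜 f hf hd) :
    PCone.dom ψ = ⊤ ∧ IsIso r := by
  have hs : ∀ k, d₀ ≤ k → ∀ b ∈ ℬ k, ∃ a ∈ 𝒜 k, ψ a = b := fun k hk b hb => (hbij k hk).surjOn hb
  have hinj : ∀ k, d₀ ≤ k → ∀ a ∈ 𝒜 k, ψ a = 0 → a = 0 := fun k hk a ha h =>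
    (hbij k hk).injOn ha (zero_mem _) (h.trans (map_zero ψ.toRingHom).symm)
  refine ⟨top_le_iff.1 fun w _ => ?_, ?_⟩
  · obtain ⟨m, b, hm, hb, hbw⟩ := Groth.Agent.Lib.ProjQ.exists_deg_notMem w
    have hb' : b ^ (d₀ + 1) ∈ ℬ ((d₀ + 1) • m) := SetLike.pow_mem_graded _ hb
    obtain ⟨a, ha, e⟩ := hs _ ((Nat.le_succ d₀).trans (Nat.le_mul_of_pos_right _ hm)) _ hb'
    refine Opens.mem_iSup.2 ⟨⟨a, _, Nat.mul_pos d₀.succ_pos hm, ha⟩, ?_⟩
    change ψ a ∉ w.asHomogeneousIdeal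
    rw [e]
    exact fun h' => hbw (w.isPrime.mem_of_pow_mem _ h')
  · have hx : ∀ x : (Proj 𝒜), ∃ (d : ℕ) (f : A), 0 < d ∧ f ∈ 𝒜 d ∧ f ∉ x.asHomogeneousIdeal := fun x =>
      Groth.Agent.Lib.ProjQ.exists_deg_notMem x
    choose d f hd hf hfx using hx
    let 𝒰 : (Proj 𝒜).OpenCover := .mkOfCovers (Proj 𝒜)
      (fun x => Spec (CommRingCat.of (HomogeneousLocalization.Away 𝒜 (f x))))
      (fun x => Proj.awayι 𝒜 (f x) (hf x) (hd x))
      (fun x => ⟨x, (Proj.opensRange_awayι 𝒜 (f x) (hf x) (hd x)).ge (hfx x)⟩) fun x => inferInstance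
    change MorphismProperty.isomorphisms Scheme r
    refine IsZariskiLocalAtTarget.of_openCover (P := MorphismProperty.isomorphisms Scheme) 𝒰 fun x => ?_
    change IsIso (pullback.snd r (Proj.awayι 𝒜 (f x) (hf x) (hd x)))
    haveI : IsIso (CommRingCat.ofHom (HomogeneousLocalization.Away.map ψ (f x))) :=
      (ConcreteCategory.isIso_iff_bijective _).2
        ⟨Groth.Agent.Lib.ProjQ.awayMap_injective ψ hinj (hd x) (hf x),
          Groth.Agent.Lib.ProjQ.awayMap_surjective ψ hs (hd x) (hf x)⟩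
    let c := PCone.chart ψ (hf x) (hd x)
    have hc : c ≫ (PCone.dom ψ).ι = Proj.awayι ℬ (ψ (f x)) (ψ.map_mem (hf x)) (hd x) :=
      IsOpenImmersion.lift_fac _ _ _
    haveI : IsOpenImmersion c := by
      haveI : IsOpenImmersion (c ≫ (PCone.dom ψ).ι) := by rw [hc]; infer_instance
      exact IsOpenImmersion.of_comp c (PCone.dom ψ).ι
    have hpb : IsPullback c (Spec.map (CommRingCat.ofHom (HomogeneousLocalization.Away.map ψ (f x))))
        r (Proj.awayι 𝒜 (f x) (hf x) (hd x)) := by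
      refine (IsOpenImmersion.isPullback _ _ _ _ (hr _ _ (hd x) (hf x)) ?_).flip
      rw [Proj.opensRange_awayι, Groth.Agent.S3596.preimage_basicOpen ψ r hr (hd x) (hf x)]
      refine (congrArg (fun V => (PCone.dom ψ).ι ⁻¹ᵁ V)
        (Proj.opensRange_awayι ℬ _ (ψ.map_mem (hf x)) (hd x)).symm).trans ?_
      ext y
      constructor
      · rintro ⟨z, hz⟩
        exact ⟨z, (PCone.dom ψ).ι.isOpenEmbedding.injective ((congr($hc z)).trans hz)⟩
      · rintro ⟨z, rfl⟩
        exact ⟨z, (congr($hc z)).symm⟩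
    rw [← hpb.isoPullback_inv_snd]
    infer_instance

end Groth.Agent.S9572
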