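import Groth.Statements.S9573
import Groth.Agent.H81.RelProj.Localize
import Groth.Agent.Lib.Modules.Stalk
import Mathlib.AlgebraicGeometry.OpenImmersion
-- import your own Groth.Agent.* helpers here

set_option autoImplicit false
universe u
open CategoryTheory CategoryTheory.Limits AlgebraicGeometry TopologicalSpace Opposite
open scoped HomogeneousIdeal
open Constr

namespace Groth.Agent.S9573


section helpers

set_option linter.style.haveILetI false
set_option linter.unusedSectionVars false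

open HomogeneousLocalization
open scoped HomogeneousIdeal

variable {R A : Type u} [CommRing R] [CommRing A] [Algebra R A] {𝒜 : ℕ → Submodule R A} [GradedAlgebra 𝒜]
    {B : Type u} [CommRing B] [Algebra R B] {ℬ : ℕ → Submodule R B} [GradedAlgebra ℬ] {ψ : 𝒜 →+*ᵍ ℬ} {c : 𝒜 0}
    (hA : Groth.Agent.H81.RelProj.Localize.IsLocHom ψ c)
    (hψ : HomogeneousIdeal.irrelevant ℬ ≤ (HomogeneousIdeal.irrelevant 𝒜).map ψ)

include hA in
theorem isUnit_c : IsUnit (ψ (c : A)) :=
  letI := ψ.toRingHom.toAlgebra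
  haveI : IsLocalization.Away (c : A) B := hA
  IsLocalization.Away.algebraMap_isUnit (S := B) (c : A)

include hA in
theorem notMem_pow (y : ProjectiveSpectrum ℬ) (k : ℕ) :
    (c : A) ^ k ∉ (ProjectiveSpectrum.comap ψ hψ y).asHomogeneousIdeal := fun h => by
  change ψ ((c : A) ^ k) ∈ y.asHomogeneousIdeal.toIdeal at h
  rw [map_pow] at h
  exact y.isPrime.ne_top (Ideal.eq_top_of_isUnit_mem _ h ((isUnit_c hA).pow k))

include hA in
theorem isOpenImmersion_map : IsOpenImmersion (Proj.map ψ hψ) := by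
  refine IsZariskiLocalAtTarget.of_openCover (P := @IsOpenImmersion) (Proj.affineOpenCover 𝒜).openCover
    fun ⟨⟨m, hm⟩, s, hs⟩ => ?_
  replace hs : s ∈ 𝒜 m := hs
  letI := (Away.map ψ s).toAlgebra
  haveI := Groth.Agent.H81.RelProj.Localize.isLocalization_away hA hs
  haveI : IsOpenImmersion (Spec.map (CommRingCat.ofHom (Away.map ψ s))) :=
    IsOpenImmersion.of_isLocalization (fromZeroRingHom 𝒜 (Submonoid.powers s) c)
  have hpb : IsPullback (Spec.map (CommRingCat.ofHom (Away.map ψ s)))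
      (Proj.awayι ℬ (ψ s) (ψ.map_mem hs) hm)
      (Proj.awayι 𝒜 s hs hm) (Proj.map ψ hψ) := by
    refine IsOpenImmersion.isPullback _ _ _ _ (Proj.awayι_comp_map ψ hψ hm s hs) ?_
    rw [Proj.opensRange_awayι, Proj.opensRange_awayι]
    exact Proj.map_preimage_basicOpen _ _ _
  have e := hpb.flip.isoPullback_inv_snd
  change IsOpenImmersion (pullback.snd (Proj.map ψ hψ) (Proj.awayι 𝒜 s hs hm))
  rw [← e]
  infer_instance

include hA in
theorem range_map : Set.range (Proj.map ψ hψ).base =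
    (Proj.toSpecZero 𝒜).base ⁻¹' (PrimeSpectrum.basicOpen c : Set (PrimeSpectrum (𝒜 0))) := by
  refine Set.Subset.antisymm ?_ fun x hx => ?_
  · rintro _ ⟨z, rfl⟩
    obtain ⟨⟨⟨m, hm⟩, s, hs⟩, y, rfl⟩ := (Proj.mapAffineOpenCover ψ hψ).openCover.exists_eq z
    replace hs : s ∈ 𝒜 m := hs
    letI := (Away.map ψ s).toAlgebra
    haveI := Groth.Agent.H81.RelProj.Localize.isLocalization_away hA hs
    have e : Proj.awayι ℬ (ψ s) (ψ.map_mem hs) hm ≫ Proj.map ψ hψ ≫ Proj.toSpecZero 𝒜 =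
        Spec.map (CommRingCat.ofHom ((Away.map ψ s).comp (fromZeroRingHom 𝒜 (Submonoid.powers s)))) := by
      rw [Proj.awayι_comp_map_assoc ψ hψ hm s hs, Proj.awayι_toSpecZero, ← Spec.map_comp]
      rfl
    show (Proj.awayι ℬ (ψ s) (ψ.map_mem hs) hm ≫ Proj.map ψ hψ ≫ Proj.toSpecZero 𝒜) y ∈
      (PrimeSpectrum.basicOpen c : Set (PrimeSpectrum (𝒜 0)))
    rw [e]
    exact fun h => y.isPrime.ne_top (Ideal.eq_top_of_isUnit_mem _ h
      (IsLocalization.Away.algebraMap_isUnit (S := Away ℬ (ψ s)) (fromZeroRingHom 𝒜 (Submonoid.powers s) c)))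
  · obtain ⟨⟨⟨m, hm⟩, s, hs⟩, y, rfl⟩ := (Proj.affineOpenCover 𝒜).openCover.exists_eq x
    replace hs : s ∈ 𝒜 m := hs
    letI := (Away.map ψ s).toAlgebra
    haveI := Groth.Agent.H81.RelProj.Localize.isLocalization_away hA hs
    have h2 : (Proj.awayι 𝒜 s hs hm ≫ Proj.toSpecZero 𝒜) y ∈
        (PrimeSpectrum.basicOpen c : Set (PrimeSpectrum (𝒜 0))) := hx
    rw [Proj.awayι_toSpecZero] at h2
    obtain ⟨y', hy'⟩ : y ∈ Set.range (PrimeSpectrum.comap (Away.map ψ s)) := by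
      rw [show Away.map ψ s = algebraMap _ _ from rfl,
        PrimeSpectrum.localization_away_comap_range _ (fromZeroRingHom 𝒜 (Submonoid.powers s) c)]
      exact h2
    refine ⟨Proj.awayι ℬ (ψ s) (ψ.map_mem hs) hm y', ?_⟩
    have e : Proj.map ψ hψ (Proj.awayι ℬ (ψ s) (ψ.map_mem hs) hm y') =
        Proj.awayι 𝒜 s hs hm (Spec.map (CommRingCat.ofHom (Away.map ψ s)) y') :=
      congrArg (fun f : Spec (CommRingCat.of (Away ℬ (ψ s))) ⟶ Proj 𝒜 => f y')
        (Proj.awayι_comp_map ψ hψ hm s hs)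
    exact e.trans (congrArg _ hy')

include hA in
theorem locMap_injective (y : ProjectiveSpectrum ℬ) : Function.Injective (GrTwist.locMap ψ hψ y) := by
  rw [injective_iff_map_eq_zero]
  intro q hq
  obtain ⟨⟨a, s⟩, rfl⟩ : ∃ p : A × _, Localization.mk p.1 p.2 = q :=
    Localization.induction_on q fun p => ⟨p, rfl⟩
  rw [GrTwist.locMap_mk, Localization.mk_eq_mk', IsLocalization.mk'_eq_zero_iff] at hq
  obtain ⟨⟨t, ht⟩, ht0⟩ := hq
  change t * ψ a = 0 at ht0
  letI := ψ.toRingHom.toAlgebra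
  haveI : IsLocalization.Away (c : A) B := hA
  obtain ⟨⟨t', ⟨_, k, rfl⟩⟩, hk⟩ := IsLocalization.surj (Submonoid.powers (c : A)) t
  change t * ψ ((c : A) ^ k) = ψ t' at hk
  have h0 : algebraMap A B (t' * a) = 0 := by
    rw [map_mul]
    change ψ t' * ψ a = 0
    rw [← hk, mul_right_comm, ht0, zero_mul]
  obtain ⟨⟨_, l, rfl⟩, hl⟩ := (IsLocalization.map_eq_zero_iff (Submonoid.powers (c : A)) B _).1 h0
  rw [Localization.mk_eq_mk', IsLocalization.mk'_eq_zero_iff]
  refine ⟨⟨(c : A) ^ l * t', fun h => ?_⟩, ?_⟩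
  · rcases (ProjectiveSpectrum.comap ψ hψ y).isPrime.mem_or_mem h with h | h
    · exact notMem_pow hA hψ y l h
    · change ψ t' ∈ y.asHomogeneousIdeal.toIdeal at h
      rw [← hk] at h
      rcases y.isPrime.mem_or_mem h with h | h
      · exact ht h
      · exact y.isPrime.ne_top (Ideal.eq_top_of_isUnit_mem _ h (by rw [map_pow]; exact (isUnit_c hA).pow k))
  · change (c : A) ^ l * t' * a = 0
    rw [mul_assoc]
    exact hl

include hA in
theorem comapApp_bijective (n : ℤ) (U : (Proj 𝒜).Opens)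
    (hU : (U : Set (Proj 𝒜)) ⊆ Set.range (Proj.map ψ hψ)) :
    Function.Bijective (GrTwist.comapApp ψ hψ n U (Proj.map ψ hψ ⁻¹ᵁ U) Set.Subset.rfl) := by
  classical
  haveI := isOpenImmersion_map hA hψ
  constructor
  · intro σ σ' h
    refine Subtype.ext (funext fun x => Subtype.ext ?_)
    obtain ⟨y, hy⟩ := hU x.2
    obtain ⟨x, hx⟩ := x
    change Proj.map ψ hψ y = x at hy
    subst hy
    refine locMap_injective hA hψ y ?_
    exact congrArg (fun τ : GrTwist.sectN (𝒜 := ℬ) n (op (Proj.map ψ hψ ⁻¹ᵁ U)) =>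
      ((τ.1 ⟨y, hx⟩ : GrTwist.twistAt ℬ n y) : GrTwist.Loc ℬ y)) h
  intro τ
  have hloc : ∀ x : U, ∃ (O : (Proj 𝒜).Opens) (i j : ℕ) (a : 𝒜 i) (s : 𝒜 j)
      (nin : ∀ z ∈ O, (s : A) ∉ z.asHomogeneousIdeal), x.1 ∈ O ∧ O ≤ U ∧ ((i : ℤ) = j + n ∨ (a : A) = 0) ∧
      ∀ (y : (Proj.map ψ hψ ⁻¹ᵁ U : (Proj ℬ).Opens)) (hy : ProjectiveSpectrum.comap ψ hψ y.1 ∈ O),
        GrTwist.locMap ψ hψ y.1 (Localization.mk (a : A) ⟨(s : A), nin _ hy⟩) = (τ.1 y).1 := by
    intro x
    obtain ⟨y, hy⟩ := hU x.2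
    have hyU : y ∈ Proj.map ψ hψ ⁻¹ᵁ U := by
      show Proj.map ψ hψ y ∈ U
      rw [hy]; exact x.2
    obtain ⟨W, hyW, iW, i, j, ⟨b, hb⟩, ⟨d, hd⟩, hnin, hij, hw⟩ := τ.2 ⟨y, hyU⟩
    obtain ⟨k, a₀, ha₀, ea, hzero⟩ : ∃ (k : ℕ) (a : A), a ∈ 𝒜 i ∧ b * ψ (c : A) ^ k = ψ a ∧ (b = 0 → a = 0) := by
      by_cases hb0 : b = 0
      · exact ⟨0, 0, zero_mem _, by rw [hb0, zero_mul]; exact (map_zero ψ.toRingHom).symm, fun _ => rfl⟩
      · obtain ⟨k, a, ha, hab⟩ := hA.exists_homogeneous hb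
        exact ⟨k, a, ha, hab, fun h => absurd h hb0⟩
    obtain ⟨l, s₀, hs₀, es⟩ := hA.exists_homogeneous hd
    have hck : (c : A) ^ k ∈ 𝒜 0 := by simpa using SetLike.pow_mem_graded k c.2
    have hcl : (c : A) ^ l ∈ 𝒜 0 := by simpa using SetLike.pow_mem_graded l c.2
    refine ⟨Proj.map ψ hψ ''ᵁ W, i, j, ⟨(c : A) ^ l * a₀, by simpa using SetLike.mul_mem_graded hcl ha₀⟩,
      ⟨(c : A) ^ k * s₀, by simpa using SetLike.mul_mem_graded hck hs₀⟩, ?_, ?_, ?_, ?_, ?_⟩
    · rintro _ ⟨w, hwW, rfl⟩ hsw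
      rcases (ProjectiveSpectrum.comap ψ hψ w).isPrime.mem_or_mem hsw with h | h
      · exact notMem_pow hA hψ w k h
      · change ψ s₀ ∈ w.asHomogeneousIdeal.toIdeal at h
        rw [← es] at h
        rcases w.isPrime.mem_or_mem h with h | h
        · exact hnin ⟨w, hwW⟩ h
        · exact w.isPrime.ne_top (Ideal.eq_top_of_isUnit_mem _ h ((isUnit_c hA).pow l))
    · exact ⟨y, hyW, hy⟩
    · rintro _ ⟨w, hwW, rfl⟩
      exact leOfHom iW hwW
    · rcases hij with h | h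
      · exact Or.inl h
      · exact Or.inr (show (c : A) ^ l * a₀ = 0 by rw [hzero h, mul_zero])
    · intro w ⟨w', hwW, hw'⟩
      obtain rfl : w' = w.1 := (Proj.map ψ hψ).isOpenEmbedding.injective hw'
      refine Eq.trans ?_ (hw ⟨w.1, hwW⟩).symm
      erw [GrTwist.locMap_mk]
      rw [Localization.mk_eq_mk_iff, Localization.r_iff_exists]
      refine ⟨1, ?_⟩
      change 1 * (d * ψ.toRingHom ((c : A) ^ l * a₀)) = 1 * (ψ.toRingHom ((c : A) ^ k * s₀) * b)
      rw [map_mul, map_mul, map_pow, map_pow]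
      change 1 * (d * (ψ (c : A) ^ l * ψ a₀)) = 1 * (ψ (c : A) ^ k * ψ s₀ * b)
      rw [← ea, ← es]
      ring
  choose O i j a s nin hxO hOU hij hrep using hloc
  let v : ∀ x : U, GrTwist.twistAt 𝒜 n x.1 := fun x =>
    ⟨Localization.mk (a x : A) ⟨(s x : A), nin x _ (hxO x)⟩, by
      rcases hij x with h | h
      · exact Submodule.subset_span ⟨i x, j x, a x, s x, nin x _ (hxO x), h, rfl⟩
      · rw [h, Localization.mk_zero]; exact zero_mem _⟩
  refine ⟨⟨v, fun x => ⟨O x, hxO x, homOfLE (hOU x), i x, j x, a x, s x, fun z => nin x _ z.2, hij x,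
    fun z => ?_⟩⟩, Subtype.ext (funext fun y => Subtype.ext ?_)⟩
  · obtain ⟨z, hz⟩ := z
    obtain ⟨y, rfl⟩ := hU (hOU x hz)
    refine locMap_injective hA hψ y ?_
    exact (hrep ⟨_, hOU x hz⟩ ⟨y, hOU x hz⟩ (hxO _)).trans (hrep x ⟨y, hOU x hz⟩ hz).symm
  · exact hrep ⟨_, y.2⟩ y (hxO _)

theorem isIso_homEquiv_symm {X Y : Scheme.{u}} (f : X ⟶ Y) [IsOpenImmersion f] {M : Y.Modules} {N : X.Modules}
    (g : M ⟶ (Scheme.Modules.pushforward f).obj N) (hg : IsIso ((Scheme.Modules.restrictFunctor f).map g)) :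
    IsIso (((Scheme.Modules.pullbackPushforwardAdjunction f).homEquiv M N).symm g) := by
  have h : (Scheme.Modules.restrictFunctorIsoPullback f).hom.app M ≫
      ((Scheme.Modules.pullbackPushforwardAdjunction f).homEquiv M N).symm g =
      (Scheme.Modules.restrictFunctor f).map g ≫ (Scheme.Modules.restrictAdjunction f).counit.app N := by
    rw [Adjunction.homEquiv_counit, ← NatTrans.naturality_assoc]
    congr 1
    exact Adjunction.leftAdjointUniq_hom_app_counit _ _ _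
  haveI : IsIso ((Scheme.Modules.restrictFunctorIsoPullback f).hom.app M ≫
      ((Scheme.Modules.pullbackPushforwardAdjunction f).homEquiv M N).symm g) := by
    rw [h]; infer_instance
  exact IsIso.of_isIso_comp_left ((Scheme.Modules.restrictFunctorIsoPullback f).hom.app M) _

end helpers

/-- Let A be a graded ring, g an element of degree zero and ψ : A → B = A_g the localization map, B
carrying the induced grading (B_n consists of the b with g^k b = ψ(a) for some k and some a ∈ A_n).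
Then the morphism r_ψ : Proj B → Proj A induced by ψ is everywhere defined, it is an open immersion
whose image is the inverse image of the basic open D(g) of Spec A_0 under the structure morphism
Proj A → Spec A_0, and for every integer n the canonical map θ : r_ψ^* O_{Proj A}(n) → O_{Proj B}(n)
(adjoint to a/f ↦ ψ(a)/ψ(f)) is an isomorphism. (The containment of B_+ in the ideal generated by
ψ(A_+), through which r_ψ is Proj.map here, follows from the other hypotheses and is carried as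
data.) -/
theorem result {R A : Type u} [CommRing R] [CommRing A] [Algebra R A] (𝒜 : ℕ → Submodule R A) [GradedAlgebra 𝒜]
    {B : Type u} [CommRing B] [Algebra R B] (ℬ : ℕ → Submodule R B) [GradedAlgebra ℬ] (ψ : 𝒜 →+*ᵍ ℬ)
    (g : A) (hg : g ∈ 𝒜 0) [Algebra A B] (hψA : ∀ a : A, ψ a = algebraMap A B a) [IsLocalization.Away g B]
    (hdeg : ∀ (n : ℕ) (b : B), b ∈ ℬ n ↔ ∃ (k : ℕ) (a : A), a ∈ 𝒜 n ∧ ψ g ^ k * b = ψ a)
    (hψ : HomogeneousIdeal.irrelevant ℬ ≤ (HomogeneousIdeal.irrelevant 𝒜).map ψ) :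
    IsOpenImmersion (Proj.map ψ hψ) ∧
      Set.range (Proj.map ψ hψ).base =
        (Proj.toSpecZero 𝒜).base ⁻¹' (PrimeSpectrum.basicOpen (⟨g, hg⟩ : 𝒜 0) : Set (PrimeSpectrum (𝒜 0))) ∧
      ∀ n : ℤ, IsIso (((Scheme.Modules.pullbackPushforwardAdjunction (Proj.map ψ hψ)).homEquiv _ _).symm
        (GrTwist.comap ψ hψ n)) := by
  have hA : Groth.Agent.H81.RelProj.Localize.IsLocHom ψ (⟨g, hg⟩ : 𝒜 0) := by
    have e : ψ.toRingHom.toAlgebra = (inferInstance : Algebra A B) := Algebra.algebra_ext _ _ hψA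
    unfold Groth.Agent.H81.RelProj.Localize.IsLocHom
    rw [e]
    infer_instance
  haveI := isOpenImmersion_map hA hψ
  refine ⟨inferInstance, range_map hA hψ, fun n => isIso_homEquiv_symm _ _ ?_⟩
  refine (Groth.Agent.Lib.Modules.Stalk.isIso_iff_app_bijective _).mpr fun W => ?_
  exact comapApp_bijective hA hψ n ((Proj.map ψ hψ) ''ᵁ W) (Set.image_subset_range _ _)

end Groth.Agent.S9573
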