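import Groth.Statements.S9574
import Groth.Agent.S9572
import Groth.Agent.Lib.ProjQ.Props
import Groth.Agent.Lib.Modules.Stalk

set_option linter.style.haveILetI false
set_option linter.unusedSectionVars false

set_option autoImplicit false
universe u
open CategoryTheory CategoryTheory.Limits AlgebraicGeometry TopologicalSpace Opposite
open scoped HomogeneousIdeal
open Constr

namespace Groth.Agent.S9574

section

variable {R A : Type u} [CommRing R] [CommRing A] [Algebra R A] {𝒜 : ℕ → Submodule R A} [GradedAlgebra 𝒜]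
    {B : Type u} [CommRing B] [Algebra R B] {ℬ : ℕ → Submodule R B} [GradedAlgebra ℬ] {ψ : 𝒜 →+*ᵍ ℬ}
    {d₀ : ℕ} (hbij : ∀ d : ℕ, d₀ ≤ d → Set.BijOn ψ (𝒜 d) (ℬ d))

include hbij in
theorem eq_zero_of_map_pow_mul {d : ℕ} {f : A} (hd : 0 < d) (hf : f ∈ 𝒜 d) {a : A}
    (h : ψ (f ^ (d₀ + 1) * a) = 0) : f ^ (d₀ + 1) * a = 0 := by
  classical
  rw [← DirectSum.sum_support_decompose 𝒜 (f ^ (d₀ + 1) * a)]
  refine Finset.sum_eq_zero fun k _ => ?_
  have hfN : f ^ (d₀ + 1) ∈ 𝒜 ((d₀ + 1) • d) := SetLike.pow_mem_graded _ hf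
  by_cases hk : (d₀ + 1) • d ≤ k
  · have hk' : d₀ ≤ k := ((Nat.le_succ d₀).trans (Nat.le_mul_of_pos_right _ hd)).trans hk
    refine (hbij k hk').injOn (SetLike.coe_mem _) (zero_mem _) ?_
    rw [map_directSumDecompose 𝒜 ℬ ψ, h, DirectSum.decompose_zero]
    exact (map_zero ψ.toRingHom).symm
  · exact DirectSum.coe_decompose_mul_of_left_mem_of_not_le 𝒜 hfN hk

include hbij in
theorem exists_eq_map_pow_mul {d : ℕ} {f : A} (hd : 0 < d) (hf : f ∈ 𝒜 d) (b : B) :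
    ∃ a : A, ψ a = ψ f ^ (d₀ + 1) * b := by
  induction b using DirectSum.Decomposition.inductionOn ℬ with
  | zero => exact ⟨0, by rw [mul_zero]; exact map_zero ψ.toRingHom⟩
  | @homogeneous i b =>
    obtain ⟨a, -, e⟩ := (hbij ((d₀ + 1) • d + i)
      (((Nat.le_succ d₀).trans (Nat.le_mul_of_pos_right _ hd)).trans (Nat.le_add_right _ _))).surjOn
      (SetLike.mul_mem_graded (SetLike.pow_mem_graded _ (ψ.map_mem hf)) b.2)
    exact ⟨a, e⟩
  | add b c hb hc =>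
    obtain ⟨a, ha⟩ := hb
    obtain ⟨a', ha'⟩ := hc
    exact ⟨a + a', by rw [mul_add, ← ha, ← ha']; exact map_add ψ.toRingHom a a'⟩

variable (hψ : HomogeneousIdeal.irrelevant ℬ ≤ (HomogeneousIdeal.irrelevant 𝒜).map ψ)

include hbij in
theorem locMap_injective (y : ProjectiveSpectrum ℬ) : Function.Injective (GrTwist.locMap ψ hψ y) := by
  obtain ⟨d, f, hd, hf, hfx⟩ := Groth.Agent.Lib.ProjQ.exists_deg_notMem (ProjectiveSpectrum.comap ψ hψ y)
  rw [injective_iff_map_eq_zero]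
  intro q hq
  obtain ⟨⟨a, s⟩, rfl⟩ : ∃ p : A × _, Localization.mk p.1 p.2 = q :=
    Localization.induction_on q fun p => ⟨p, rfl⟩
  rw [GrTwist.locMap_mk, Localization.mk_eq_mk', IsLocalization.mk'_eq_zero_iff] at hq
  obtain ⟨⟨t, ht⟩, ht0⟩ := hq
  change t * ψ a = 0 at ht0
  obtain ⟨t', ht'⟩ := exists_eq_map_pow_mul hbij hd hf t
  rw [Localization.mk_eq_mk', IsLocalization.mk'_eq_zero_iff]
  have hfN : ψ f ^ (d₀ + 1) ∉ y.asHomogeneousIdeal := fun h => hfx (y.isPrime.mem_of_pow_mem _ h)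
  have ht'm : t' ∉ (ProjectiveSpectrum.comap ψ hψ y).asHomogeneousIdeal := fun h =>
    (y.isPrime.mem_or_mem ((congrArg (· ∈ y.asHomogeneousIdeal.toIdeal) ht').mp h)).elim hfN ht
  refine ⟨⟨f ^ (d₀ + 1) * t', fun h => ((ProjectiveSpectrum.comap ψ hψ y).isPrime.mem_or_mem h).elim
    (fun h' => hfx ((ProjectiveSpectrum.comap ψ hψ y).isPrime.mem_of_pow_mem _ h')) ht'm⟩, ?_⟩
  change f ^ (d₀ + 1) * t' * a = 0
  rw [mul_assoc]
  refine eq_zero_of_map_pow_mul hbij hd hf ?_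
  change ψ.toRingHom _ = 0
  rw [map_mul, map_mul, map_pow]
  change ψ f ^ (d₀ + 1) * (ψ t' * ψ a) = 0
  rw [ht', mul_assoc, ht0, mul_zero, mul_zero]

include hbij in
theorem comapApp_bijective (n : ℤ) (U : (Proj 𝒜).Opens) [IsIso (Proj.map ψ hψ)] :
    Function.Bijective (GrTwist.comapApp ψ hψ n U (Proj.map ψ hψ ⁻¹ᵁ U) Set.Subset.rfl) := by
  classical
  constructor
  · intro σ σ' h
    refine Subtype.ext (funext fun x => Subtype.ext ?_)
    obtain ⟨y, hy⟩ := (Proj.map ψ hψ).surjective x.1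
    obtain ⟨x, hx⟩ := x
    change Proj.map ψ hψ y = x at hy
    subst hy
    refine locMap_injective hbij hψ y ?_
    exact congrArg (fun τ : GrTwist.sectN (𝒜 := ℬ) n (op (Proj.map ψ hψ ⁻¹ᵁ U)) =>
      ((τ.1 ⟨y, hx⟩ : GrTwist.twistAt ℬ n y) : GrTwist.Loc ℬ y)) h
  intro τ
  have hloc : ∀ x : U, ∃ (O : (Proj 𝒜).Opens) (i j : ℕ) (a : 𝒜 i) (s : 𝒜 j)
      (nin : ∀ z ∈ O, (s : A) ∉ z.asHomogeneousIdeal), x.1 ∈ O ∧ O ≤ U ∧ ((i : ℤ) = j + n ∨ (a : A) = 0) ∧
      ∀ (y : (Proj.map ψ hψ ⁻¹ᵁ U : (Proj ℬ).Opens)) (hy : ProjectiveSpectrum.comap ψ hψ y.1 ∈ O),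
        GrTwist.locMap ψ hψ y.1 (Localization.mk (a : A) ⟨(s : A), nin _ hy⟩) = (τ.1 y).1 := by
    intro x
    obtain ⟨y, hy⟩ := (Proj.map ψ hψ).surjective x.1
    have hyU : y ∈ Proj.map ψ hψ ⁻¹ᵁ U := by
      show Proj.map ψ hψ y ∈ U
      rw [hy]; exact x.2
    obtain ⟨W, hyW, iW, i, j, ⟨b, hb⟩, ⟨c, hc⟩, hnin, hij, hw⟩ := τ.2 ⟨y, hyU⟩
    obtain ⟨d, f, hd, hf, hfx⟩ := Groth.Agent.Lib.ProjQ.exists_deg_notMem (ProjectiveSpectrum.comap ψ hψ y)
    let N := d₀ + 1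
    have hN : d₀ ≤ N • d := (Nat.le_succ d₀).trans (Nat.le_mul_of_pos_right _ hd)
    have hfN : ψ f ^ N ∈ ℬ (N • d) := SetLike.pow_mem_graded _ (ψ.map_mem hf)
    obtain ⟨a, ha, ea⟩ := (hbij (N • d + i) (hN.trans (Nat.le_add_right _ _))).surjOn
      (SetLike.mul_mem_graded hfN hb)
    obtain ⟨s, hs, es⟩ := (hbij (N • d + j) (hN.trans (Nat.le_add_right _ _))).surjOn
      (SetLike.mul_mem_graded hfN hc)
    let W' : (Proj ℬ).Opens := W ⊓ Proj.basicOpen ℬ (ψ f)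
    refine ⟨Proj.map ψ hψ ''ᵁ W', N • d + i, N • d + j, ⟨a, ha⟩, ⟨s, hs⟩, ?_, ?_, ?_, ?_, ?_⟩
    · rintro _ ⟨w, ⟨hwW, hwf⟩, rfl⟩ hsw
      change ψ s ∈ w.asHomogeneousIdeal at hsw
      rw [es] at hsw
      exact (w.isPrime.mem_or_mem hsw).elim (fun h => hwf (w.isPrime.mem_of_pow_mem _ h)) (hnin ⟨w, hwW⟩)
    · exact ⟨y, ⟨hyW, hfx⟩, hy⟩
    · rintro _ ⟨w, ⟨hwW, -⟩, rfl⟩
      exact leOfHom iW hwW
    · rcases hij with h | h
      · exact Or.inl (by push_cast; omega)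
      · refine Or.inr ((hbij _ (hN.trans (Nat.le_add_right _ _))).injOn ha (zero_mem _) ?_)
        rw [ea, show b = 0 from h, mul_zero]
        exact (map_zero ψ.toRingHom).symm
    · intro w ⟨w', ⟨hwW, hwf⟩, hw'⟩
      obtain rfl : w' = w.1 := (Proj.map ψ hψ).isOpenEmbedding.injective hw'
      refine Eq.trans ?_ (hw ⟨w.1, hwW⟩).symm
      rw [GrTwist.locMap_mk, Localization.mk_eq_mk_iff, Localization.r_iff_exists]
      refine ⟨1, ?_⟩
      change 1 * (c * ψ a) = 1 * (ψ s * b)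
      rw [one_mul, one_mul, ea, es]
      ring
  choose O i j a s nin hxO hOU hij hrep using hloc
  let v : ∀ x : U, GrTwist.twistAt 𝒜 n x.1 := fun x =>
    ⟨Localization.mk (a x : A) ⟨(s x : A), nin x _ (hxO x)⟩, by
      rcases hij x with h | h
      · exact Submodule.subset_span ⟨i x, j x, a x, s x, nin x _ (hxO x), h, rfl⟩
      · rw [h, Localization.mk_zero]; exact zero_mem _⟩
  refine ⟨⟨v, fun x => ⟨O x, hxO x, homOfLE (hOU x), i x, j x, a x, s x, fun z => nin x _ z.2, hij x,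
    fun z => ?_⟩⟩, Subtype.ext (funext fun y => Subtype.ext ?_)⟩
  · obtain ⟨z, hz⟩ := z
    obtain ⟨y, rfl⟩ := (Proj.map ψ hψ).surjective z
    refine locMap_injective hbij hψ y ?_
    exact (hrep ⟨_, hOU x hz⟩ ⟨y, hOU x hz⟩ (hxO _)).trans (hrep x ⟨y, hOU x hz⟩ hz).symm
  · exact hrep ⟨_, y.2⟩ y (hxO _)

theorem isEquivalence_pushforward {Y S : Scheme.{u}} (e : Y ⟶ S) [IsIso e] :
    (Scheme.Modules.pushforward e).IsEquivalence :=
  (CategoryTheory.Equivalence.mk (Scheme.Modules.pushforward e) (Scheme.Modules.pushforward (inv e))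
    ((Scheme.Modules.pushforwardId Y).symm ≪≫ Scheme.Modules.pushforwardCongr (IsIso.hom_inv_id e).symm ≪≫
      (Scheme.Modules.pushforwardComp e (inv e)).symm)
    ((Scheme.Modules.pushforwardComp (inv e) e) ≪≫ Scheme.Modules.pushforwardCongr (IsIso.inv_hom_id e) ≪≫
      Scheme.Modules.pushforwardId S)).isEquivalence_functor

end

/-- Let ψ : A → B be a homomorphism of graded rings such that A_d → B_d is bijective for all d ≥ d₀, so
that the induced morphism r_ψ : Proj B → Proj A is everywhere defined and an isomorphism. Then for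
every integer n the canonical map θ : r_ψ^* O_{Proj A}(n) → O_{Proj B}(n), adjoint to the map
O_{Proj A}(n) → (r_ψ)_* O_{Proj B}(n) sending a/f to ψ(a)/ψ(f), is an isomorphism. (This row assumes
in addition that B_+ lies in the ideal generated by ψ(A_+), under which the induced morphism is
defined by the graded homomorphism on all of Proj B; the published statement assumes only the
eventual bijectivity, so it also covers maps such as the inclusion of k ⊕ x²k[x] in k[x], which this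
row excludes.) -/
theorem result {R A : Type u} [CommRing R] [CommRing A] [Algebra R A] (𝒜 : ℕ → Submodule R A) [GradedAlgebra 𝒜]
    {B : Type u} [CommRing B] [Algebra R B] (ℬ : ℕ → Submodule R B) [GradedAlgebra ℬ] (ψ : 𝒜 →+*ᵍ ℬ)
    (d₀ : ℕ) (hbij : ∀ d : ℕ, d₀ ≤ d → Set.BijOn ψ (𝒜 d) (ℬ d))
    (hψ : HomogeneousIdeal.irrelevant ℬ ≤ (HomogeneousIdeal.irrelevant 𝒜).map ψ) (n : ℤ) :
    IsIso (((Scheme.Modules.pullbackPushforwardAdjunction (Proj.map ψ hψ)).homEquiv _ _).symm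
      (GrTwist.comap ψ hψ n)) := by
  have hr : ∀ (d : ℕ) (f : A) (hd : 0 < d) (hf : f ∈ 𝒜 d),
      PCone.chart ψ hf hd ≫ ((PCone.dom ψ).ι ≫ Proj.map ψ hψ) =
        Spec.map (CommRingCat.ofHom (HomogeneousLocalization.Away.map ψ f)) ≫ Proj.awayι 𝒜 f hf hd := by
    intro d f hd hf
    rw [← Category.assoc, PCone.chart, IsOpenImmersion.lift_fac]
    exact Proj.awayι_comp_map ψ hψ hd f hf
  obtain ⟨htop, hiso⟩ := Groth.Agent.S9572.result 𝒜 ℬ ψ d₀ hbij _ hr
  haveI : IsIso (PCone.dom ψ).ι := by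
    have : Function.Surjective (PCone.dom ψ).ι := fun x => ⟨⟨x, htop.ge (Set.mem_univ x)⟩, rfl⟩
    have : Epi (PCone.dom ψ).ι.base := (TopCat.epi_iff_surjective _).2 this
    exact IsOpenImmersion.isIso _
  haveI : IsIso (Proj.map ψ hψ) := IsIso.of_isIso_comp_left (PCone.dom ψ).ι _
  haveI : IsIso (GrTwist.comap ψ hψ n) :=
    (Groth.Agent.Lib.Modules.Stalk.isIso_iff_app_bijective _).mpr fun U => comapApp_bijective hbij hψ n U
  haveI := isEquivalence_pushforward (Proj.map ψ hψ)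
  haveI : (Scheme.Modules.pullback (Proj.map ψ hψ)).IsEquivalence :=
    (Scheme.Modules.pullbackPushforwardAdjunction (Proj.map ψ hψ)).isEquivalence_left_of_isEquivalence_right
  rw [Adjunction.homEquiv_counit]
  infer_instance

end Groth.Agent.S9574
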