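import Groth.Statements.S9578
import Groth.Agent.Lib.ProjTilde.Tensor
import Groth.Agent.H25.PairRestrict.Main

set_option autoImplicit false
universe u
open CategoryTheory CategoryTheory.Limits AlgebraicGeometry TopologicalSpace Opposite
open Constr

namespace Groth.Agent.S9578

open Groth.Agent.Lib.ProjTilde Groth.Agent.Lib.ProjTilde.Frac Groth.Agent.Lib.ProjTilde.Basic TopologicalSpace Opposite
open Groth.Agent.Lib.TensorMod.Dual (rs)

theorem isLocPerfect_at {R A : Type u} [CommRing R] [CommRing A] [Algebra R A] {𝒜 : ℕ → Submodule R A}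
    [GradedAlgebra 𝒜] {M : Type u} [AddCommGroup M] [Module R M] [Module A M] {ℳ : ℕ → Submodule R M}
    [SetLike.GradedSMul 𝒜 ℳ] [DirectSum.Decomposition ℳ]
    {m n : ℤ} {p q : ℕ} {c e : A} (hc : c ∈ 𝒜 p) (he : e ∈ 𝒜 q) (hn : (p : ℤ) = q + n)
    {x : ProjectiveSpectrum 𝒜} (hx : c * e ∉ x.asHomogeneousIdeal) :
    ∃ (U : (Proj 𝒜).Opens) (ε : Γ(GrTilde.tilde 𝒜 𝒜 n, U)), x ∈ U ∧ ∀ (V : (Proj 𝒜).Opens) (h : V ≤ U),
      (∀ τ : Γ(GrTilde.tilde 𝒜 𝒜 n, V), ∃ r : Γ(Proj 𝒜, V), τ = r • rs (GrTilde.tilde 𝒜 𝒜 n) h ε) ∧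
        Function.Bijective fun σ : Γ(GrTilde.tilde 𝒜 ℳ m, V) =>
          (Tensor.prod (W := V) σ (rs (GrTilde.tilde 𝒜 𝒜 n) h ε) : Γ(GrTilde.tilde 𝒜 ℳ (m + n), V)) := by
  let U : (Proj 𝒜).Opens := Proj.basicOpen 𝒜 (c * e)
  let ε : GrTilde.sect 𝒜 𝒜 n (op U) := fracSec U (s := e) (a := c) he (Deg.of_mem hc (Or.inl hn))
    fun y hy => fun h => hy (Ideal.mul_mem_left _ c h)
  refine ⟨U, ε, hx, fun V hV => ⟨fun τ => ?_, ?_⟩⟩
  · obtain ⟨r, hr⟩ := Basic.ofFun_surjective
      (mulSec (n := n) (n' := 0) he hc (by omega) (W := V) (by rwa [mul_comm e c]) τ)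
    refine ⟨r, sect_ext (U := V) fun y => ?_⟩
    have hr' : (r.1 y).val = unitAt y.1 e c _ • val (U := V) τ y := congrArg (fun σ => val σ y) hr
    change val (U := V) τ y = (r.1 y).val • unitAt y.1 c e _
    rw [hr', smul_eq_mul, mul_comm, smul_eq_mul]
    · change (val (U := V) τ y : Twist.Loc 𝒜 y.1) =
        unitAt y.1 c e _ * (unitAt y.1 e c _ * (val (U := V) τ y : Twist.Loc 𝒜 y.1))
      rw [← mul_assoc, unitAt_mul_unitAt y.1 (notMem_right hV y) (notMem_left hV y), one_mul]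
  · exact (mulEquiv (n := m) (n' := m + n) (ℳ := ℳ) hc he (by omega) (W := V) hV).bijective

/-- Let S be a graded ring, M a graded S-module (graded in non-negative degrees here), X = Proj S and d
≥ 1; let W_d ⊆ X be the union of the standard opens D_+(ab) over the pairs of homogeneous elements
a, b with deg a = deg b + d (the open over which the twisting sheaves O_X(nd) are invertible with
compatible multiplications). Then for every integer n the restrictions to W_d of M~(nd) = M~ ⊗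
O_X(nd) and of M(nd)~, the module attached to the shifted module, are isomorphic. (Existence of an
isomorphism only; in the published statement it is the canonical multiplication map M~ ⊗ O_X(nd) →
M(nd)~ that restricts to an isomorphism over W_d. That W_d is the largest open over which the
O_X(nd) are invertible with compatible multiplications is not stated here.) -/
theorem result {R A : Type u} [CommRing R] [CommRing A] [Algebra R A] (𝒜 : ℕ → Submodule R A) [GradedAlgebra 𝒜]
    {M : Type u} [AddCommGroup M] [Module R M] [Module A M] [IsScalarTower R A M] (ℳ : ℕ → Submodule R M)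
    [DirectSum.Decomposition ℳ] [SetLike.GradedSMul 𝒜 ℳ]
    {d : ℕ} (hd : 0 < d) (n : ℤ) :
    Nonempty ((Twist.twistBy 𝒜 (GrTilde.tilde 𝒜 ℳ 0) (n * d)).restrict
        (⨆ (j : ℕ) (a : 𝒜 (j + d)) (b : 𝒜 j), Proj.basicOpen 𝒜 ((a : A) * b)).ι ≅
      (GrTilde.tilde 𝒜 ℳ (n * d)).restrict
        (⨆ (j : ℕ) (a : 𝒜 (j + d)) (b : 𝒜 j), Proj.basicOpen 𝒜 ((a : A) * b)).ι) := by
  classical
  let W : (Proj 𝒜).Opens := ⨆ (j : ℕ) (a : 𝒜 (j + d)) (b : 𝒜 j), Proj.basicOpen 𝒜 ((a : A) * b)
  obtain ⟨e₀⟩ := Groth.Agent.H25.PairRestrict.exists_restrict_iso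
    (Tensor.isPairing ℳ 0 (n * d)) W fun x hx => by
      simp only [W, Opens.mem_iSup] at hx
      obtain ⟨j, a, b, hab⟩ := hx
      rw [Proj.mem_basicOpen] at hab
      have hax : (a : A) ∉ x.asHomogeneousIdeal := fun h => hab (Ideal.mul_mem_right _ _ h)
      have hbx : (b : A) ∉ x.asHomogeneousIdeal := fun h => hab (Ideal.mul_mem_left _ _ h)
      obtain ⟨c, hcdef⟩ : ∃ c : A, c = (a : A) ^ n.toNat * (b : A) ^ (-n).toNat := ⟨_, rfl⟩
      obtain ⟨e, hedef⟩ : ∃ e : A, e = (b : A) ^ n.toNat * (a : A) ^ (-n).toNat := ⟨_, rfl⟩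
      have hc : c ∈ 𝒜 (n.toNat • (j + d) + (-n).toNat • j) := hcdef ▸
        SetLike.mul_mem_graded (SetLike.pow_mem_graded _ a.2) (SetLike.pow_mem_graded _ b.2)
      have he : e ∈ 𝒜 (n.toNat • j + (-n).toNat • (j + d)) := hedef ▸
        SetLike.mul_mem_graded (SetLike.pow_mem_graded _ b.2) (SetLike.pow_mem_graded _ a.2)
      have hdeg : ((n.toNat • (j + d) + (-n).toNat • j : ℕ) : ℤ) =
          (n.toNat • j + (-n).toNat • (j + d) : ℕ) + n * d := by
        have h0 : n = (n.toNat : ℤ) - ((-n).toNat : ℤ) := by omega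
        simp only [smul_eq_mul]
        push_cast
        linear_combination (d : ℤ) * -h0
      have hx : c * e ∉ x.asHomogeneousIdeal := by
        subst hcdef hedef
        exact mul_mem
          (mul_mem (Submonoid.pow_mem x.asHomogeneousIdeal.toIdeal.primeCompl hax _)
            (Submonoid.pow_mem _ hbx _))
          (mul_mem (Submonoid.pow_mem x.asHomogeneousIdeal.toIdeal.primeCompl hbx _)
            (Submonoid.pow_mem _ hax _))
      exact isLocPerfect_at hc he hdeg hx
  exact ⟨(Scheme.Modules.restrictFunctor W.ι).mapIso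
      (Groth.Agent.Lib.TensorMod.Basic.tensorIso (Iso.refl _) (Basic.twistIsoTilde (n * d))) ≪≫ e₀ ≪≫
    eqToIso (by rw [zero_add])⟩

end Groth.Agent.S9578
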