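import Groth.Statements.S9579
import Groth.Agent.Lib.Veronese33.Tilde
-- import your own Groth.Agent.* helpers here

set_option autoImplicit false
universe u
open CategoryTheory CategoryTheory.Limits AlgebraicGeometry TopologicalSpace Opposite
open Constr

namespace Groth.Agent.S9579

/-- Let S be a graded ring, d ≥ 1, S' = S^{(d)} the graded ring with S'_n = S_{nd} (here: a graded ring
S' with an injective algebra homomorphism φ : S' → S carrying S'_n onto S_{nd}), and i : Proj S ≅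
Proj S' the canonical isomorphism (any isomorphism which over each standard open D_+(g), g ∈ S'_n, n
> 0, is induced by S'_(g) ≅ S_(φ g), b/g^k ↦ φ(b)/φ(g)^k). Let M be a graded S-module (graded in
non-negative degrees here) and M' = M^{(d)} the graded S'-module with M'_n = M_{nd}, presented as a
graded S'-module with an injective φ-semilinear map v : M' → M carrying M'_n onto M_{nd} for every
n. Then M~ on Proj S is isomorphic to the inverse image i^*(M'~). (Existence of an isomorphism only;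
the published isomorphism is canonical and compatible with the multiplication maps.) -/
theorem result {R A : Type u} [CommRing R] [CommRing A] [Algebra R A] (𝒜 : ℕ → Submodule R A) [GradedAlgebra 𝒜]
    {B : Type u} [CommRing B] [Algebra R B] (ℬ : ℕ → Submodule R B) [GradedAlgebra ℬ]
    (d : ℕ) (hd : 0 < d) (φ : B →ₐ[R] A) (hφ : Function.Injective φ)
    (hdeg : ∀ n : ℕ, Submodule.map φ.toLinearMap (ℬ n) = 𝒜 (n * d))
    (e : Proj 𝒜 ≅ Proj ℬ)
    (he : ∀ (n : ℕ) (g : B) (hn : 0 < n) (hg : g ∈ ℬ n)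
        (θ : CommRingCat.of (HomogeneousLocalization.Away ℬ g) ⟶ CommRingCat.of (HomogeneousLocalization.Away 𝒜 (φ g))),
        (algebraMap (HomogeneousLocalization.Away 𝒜 (φ g)) (Localization.Away (φ g))).comp θ.hom =
          (Localization.awayMap φ.toRingHom g).comp
            (algebraMap (HomogeneousLocalization.Away ℬ g) (Localization.Away g)) →
        Proj.awayι 𝒜 (φ g) ((hdeg n).le (Submodule.mem_map_of_mem hg)) (Nat.mul_pos hn hd) ≫ e.hom =
          Spec.map θ ≫ Proj.awayι ℬ g hg hn)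
    {M : Type u} [AddCommGroup M] [Module R M] [Module A M] [IsScalarTower R A M] (ℳ : ℕ → Submodule R M)
    [DirectSum.Decomposition ℳ] [SetLike.GradedSMul 𝒜 ℳ]
    {N : Type u} [AddCommGroup N] [Module R N] [Module B N] [IsScalarTower R B N] (𝒩 : ℕ → Submodule R N)
    [DirectSum.Decomposition 𝒩] [SetLike.GradedSMul ℬ 𝒩]
    (v : N →ₛₗ[φ.toRingHom] M) (hv : Function.Injective v)
    (hvdeg : ∀ n : ℕ, (𝒩 n : Set N).image v = (ℳ (n * d) : Set M)) :
    Nonempty (GrTilde.tilde 𝒜 ℳ 0 ≅ (Scheme.Modules.pullback e.hom).obj (GrTilde.tilde ℬ 𝒩 0)) := by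
  have hφd : ∀ i, ∀ b ∈ ℬ i, φ.toRingHom b ∈ 𝒜 (i * d) := fun i b hb => (hdeg i).le (Submodule.mem_map_of_mem hb)
  have hsurj : ∀ i, ∀ a ∈ 𝒜 (i * d), ∃ b ∈ ℬ i, φ.toRingHom b = a := fun i a ha =>
    Submodule.mem_map.1 ((hdeg i).ge ha)
  have he' : ∀ (i : ℕ) (b : B) (hi : 0 < i) (hb : b ∈ ℬ i),
      Proj.awayι 𝒜 (φ.toRingHom b) (hφd i b hb) (Nat.mul_pos hi hd) ≫ e.hom =
        Spec.map (CommRingCat.ofHom (Groth.Agent.Lib.ProjGlue.theta φ.toRingHom hφd hb)) ≫ Proj.awayι ℬ b hb hi :=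
    fun i b hi hb => he i b hi hb (CommRingCat.ofHom (Groth.Agent.Lib.ProjGlue.theta φ.toRingHom hφd hb))
      (RingHom.ext fun z => Groth.Agent.Lib.ProjGlue.val_theta φ.toRingHom hφd hb z)
  obtain ⟨i⟩ := Groth.Agent.Lib.Veronese33.nonempty_iso (ℳ := ℳ) (𝒩 := 𝒩) φ.toRingHom hφd hd hsurj hφ he' v
    (fun i a ha => (Set.ext_iff.1 (hvdeg i) _).1 ⟨a, ha, rfl⟩)
    (fun i m hm => (Set.ext_iff.1 (hvdeg i) m).2 hm) hv 0
  exact ⟨eqToIso (by rw [zero_mul]) ≪≫ i⟩

end Groth.Agent.S9579
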