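import Groth.Statements.S9580
import Groth.Agent.Lib.ProjTilde.Invertible

set_option autoImplicit false
universe u
open CategoryTheory CategoryTheory.Limits AlgebraicGeometry TopologicalSpace Opposite
open Constr

namespace Groth.Agent.S9580

/-- Let S be a graded ring, X = Proj S and Y ⊆ X a quasi-compact open subscheme. Then there is an
integer d ≥ 1 such that Y is contained in the open W_d, the union of the standard opens D_+(ab) over
homogeneous a, b with deg a = deg b + d, and such that the restriction O_Y(nd) of O_X(nd) to Y is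
invertible for every integer n. (The remaining assertions — the multiplication maps among the
O_Y(nd) and M~(nd) are isomorphisms, D_+(f) ∩ Y = Y_s, and the loci Y_s form a basis — are not
stated here.) -/
theorem result {R A : Type u} [CommRing R] [CommRing A] [Algebra R A] (𝒜 : ℕ → Submodule R A) [GradedAlgebra 𝒜]
    (Y : (Proj 𝒜).Opens) (hY : IsCompact (Y : Set (Proj 𝒜))) :
    ∃ d : ℕ, 0 < d ∧
      (∀ y : Proj 𝒜, y ∈ Y → ∃ (i j : ℕ) (a b : A), a ∈ 𝒜 i ∧ b ∈ 𝒜 j ∧ i = j + d ∧ y ∈ Proj.basicOpen 𝒜 (a * b)) ∧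
      ∀ n : ℤ, PicF.IsInvertible ((Twist.twist 𝒜 (n * d)).restrict Y.ι) := by
  classical
  have key : ∀ y : Proj 𝒜, ∃ (e : ℕ) (g : A), 0 < e ∧ g ∈ 𝒜 e ∧ g ∉ y.asHomogeneousIdeal := by
    intro y
    by_contra h
    push Not at h
    refine y.not_irrelevant_le ?_
    rw [HomogeneousIdeal.irrelevant_le]
    exact fun e he g hg => h e g he hg
  choose e g he hg hgy using key
  obtain ⟨t, ht⟩ := hY.elim_finite_subcover (fun y => ((Proj.basicOpen 𝒜 (g y) : (Proj 𝒜).Opens) : Set (Proj 𝒜)))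
    (fun y => (Proj.basicOpen 𝒜 (g y)).isOpen) (fun y _ => Set.mem_iUnion.mpr ⟨y, hgy y⟩)
  refine ⟨∏ y ∈ t, e y, Finset.prod_pos fun y _ => he y, ?_⟩
  have hmain : ∀ y : Proj 𝒜, y ∈ Y → ∃ (i j : ℕ) (a b : A), a ∈ 𝒜 i ∧ b ∈ 𝒜 j ∧ i = j + ∏ z ∈ t, e z ∧
      y ∈ Proj.basicOpen 𝒜 (a * b) := by
    intro y hy
    obtain ⟨z, hz, hyz⟩ := Set.mem_iUnion₂.mp (ht hy)
    obtain ⟨k, hk⟩ := Finset.dvd_prod_of_mem e hz
    refine ⟨k * e z, 0, g z ^ k, 1, ?_, SetLike.GradedOne.one_mem, by rw [hk, zero_add, mul_comm], ?_⟩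
    · simpa [smul_eq_mul] using SetLike.pow_mem_graded k (hg z)
    · rw [mul_one, Proj.mem_basicOpen]
      exact fun h => hyz (y.isPrime.mem_of_pow_mem k h)
  refine ⟨hmain, fun n => Groth.Agent.Lib.ProjTilde.LocTriv.isInvertible_restrict _ fun x hx => ?_⟩
  obtain ⟨i, j, a, b, ha, hb, hij, hxab⟩ := hmain x hx
  exact ⟨Proj.basicOpen 𝒜 (a * b), hxab,
    Groth.Agent.Lib.ProjTilde.Invertible.twist_trivial_basicOpen_mul ha hb hij n le_rfl⟩

end Groth.Agent.S9580
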