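import Groth.Statements.S9581
import Mathlib
import Groth.Agent.H21.WeakAss

set_option autoImplicit false
universe u
open CAlg

namespace Groth.Agent.S9581

theorem exists_iff_isAssociated (L : Type u) [CommRing L] [IsLocalRing L] (N : Type u) [AddCommGroup N] [Module L N] :
    IsLocalRing.maximalIdeal L ∈ FlatCA.weakAss L N ↔ IsAssociatedPrime (IsLocalRing.maximalIdeal L) N := by
  constructor
  · rintro ⟨m, hm⟩
    refine ⟨inferInstance, m, ?_⟩
    have hcol : (⊥ : Submodule L N).colon {m} = (Submodule.span L {m}).annihilator := by
      ext r
      rw [Submodule.mem_colon_singleton, Submodule.mem_bot, Submodule.mem_annihilator_span_singleton]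
    rw [hcol]
    refine le_antisymm ?_ ((Ideal.IsPrime.radical_le_iff inferInstance).mpr hm.1.2)
    rw [Ideal.radical_eq_sInf]
    refine le_sInf fun q hq => ?_
    exact hm.2 ⟨hq.2, hq.1⟩ (IsLocalRing.le_maximalIdeal hq.2.ne_top)
  · rintro ⟨-, m, hm⟩
    have hcol : (⊥ : Submodule L N).colon {m} = (Submodule.span L {m}).annihilator := by
      ext r
      rw [Submodule.mem_colon_singleton, Submodule.mem_bot, Submodule.mem_annihilator_span_singleton]
    rw [hcol] at hm
    refine ⟨m, ⟨inferInstance, hm.symm ▸ Ideal.le_radical⟩, fun q hq _ => ?_⟩
    rw [hm]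
    exact (hq.1.radical_le_iff).mpr hq.2


/-- (1) ⇔ (3): for a ring R, an R-module M and a prime p of R, the prime p is weakly associated to M
(minimal among the primes containing the annihilator of some element of M) if and only if the
localization M_p contains an element whose annihilator in R_p has radical equal to the maximal ideal
p R_p. -/
theorem result {R : Type u} [CommRing R] (M : Type u) [AddCommGroup M] [Module R M] (p : Ideal R) [p.IsPrime] :
    p ∈ FlatCA.weakAss R M ↔ IsAssociatedPrime (IsLocalRing.maximalIdeal (Localization.AtPrime p)) (LocalizedModule p.primeCompl M) := by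
  have hd : Disjoint (p.primeCompl : Set R) (p : Set R) :=
    Set.disjoint_left.mpr fun x hx hxp => hx hxp
  rw [Groth.Agent.H21.WeakAss.mem_weakAss_iff_map p.primeCompl p hd, Localization.AtPrime.map_eq_maximalIdeal]
  refine exists_iff_isAssociated (Localization.AtPrime p) (LocalizedModule p.primeCompl M)

end Groth.Agent.S9581
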