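import Groth.Statements.S9583
import Groth.Agent.H21.WeakAss

set_option autoImplicit false
universe u
open CAlg

namespace Groth.Agent.S9583

/-- For a ring R and a short exact sequence 0 → M' → M → M'' → 0 of R-modules, every prime weakly
associated to M' is weakly associated to M, and every prime weakly associated to M is weakly
associated to M' or to M''. -/
theorem result {R : Type u} [CommRing R] {M' M M'' : Type u} [AddCommGroup M'] [Module R M'] [AddCommGroup M] [Module R M] [AddCommGroup M''] [Module R M''] (f : M' →ₗ[R] M) (g : M →ₗ[R] M'') (hf : Function.Injective f) (hg : Function.Surjective g) (hfg : Function.Exact f g) :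
    FlatCA.weakAss R M' ⊆ FlatCA.weakAss R M ∧ FlatCA.weakAss R M ⊆ FlatCA.weakAss R M' ∪ FlatCA.weakAss R M'' := by
  exact Groth.Agent.H21.WeakAss.short_exact f g hf hfg

end Groth.Agent.S9583
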