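import Groth.Statements.S9586
import Mathlib.RingTheory.Localization.AtPrime.Basic
-- import your own Groth.Agent.* helpers here

set_option autoImplicit false
universe u
open CAlg

namespace Groth.Agent.S9586

open FlatCA in
theorem of_min {R : Type u} [CommRing R] {M : Type u} [AddCommGroup M] [Module R M] {p : Ideal R}
    [p.IsPrime] (hp : p.FG) {m : M}
    (hm : p ∈ (Submodule.span R {m}).annihilator.minimalPrimes) : p ∈ ass R M := by
  classical
  set J := (Submodule.span R {m}).annihilator with hJ
  set L := Localization.AtPrime p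
  have hrad : p.map (algebraMap R L) ≤ (J.map (algebraMap R L)).radical := by
    rw [Ideal.radical_eq_sInf]
    refine le_sInf fun Q ⟨hQ, hQp⟩ => ?_
    have h1 : J ≤ Q.comap (algebraMap R L) := Ideal.map_le_iff_le_comap.mp hQ
    have h2 : Q.comap (algebraMap R L) ≤ p := by
      have := ((IsLocalization.isPrime_iff_isPrime_disjoint p.primeCompl L Q).mp hQp).2
      intro a ha
      by_contra hap
      exact Set.disjoint_left.mp this hap ha
    exact Ideal.map_le_iff_le_comap.mpr (hm.2 ⟨Ideal.IsPrime.comap _, h1⟩ h2)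
  obtain ⟨n, hn⟩ := Ideal.exists_pow_le_of_le_radical_of_fg hrad (Ideal.FG.map hp _)
  have hgood : ∃ n, ∃ s ∉ p, ∀ a ∈ p ^ n, (s * a) • m = 0 := by
    refine ⟨n, ?_⟩
    obtain ⟨t, ht⟩ := Ideal.FG.pow (n := n) hp
    have : ∀ a ∈ t, ∃ s, s ∉ p ∧ s * a ∈ J := by
      intro a ha
      have h1 : algebraMap R L a ∈ J.map (algebraMap R L) := by
        apply hn
        rw [← Ideal.map_pow]
        exact Ideal.mem_map_of_mem _ (ht ▸ Ideal.subset_span ha)
      obtain ⟨s, hs, h'⟩ := (IsLocalization.algebraMap_mem_map_algebraMap_iff p.primeCompl L J a).mp h1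
      exact ⟨s, hs, h'⟩
    choose s hs hsa using this
    refine ⟨∏ a ∈ t.attach, s a.1 a.2, fun h => ?_, fun a ha => ?_⟩
    · obtain ⟨y, -, hy⟩ := (Ideal.IsPrime.prod_mem_iff (hp := ‹p.IsPrime›)).mp h
      exact hs _ _ hy
    · rw [← ht] at ha
      induction ha using Submodule.span_induction with
      | mem y hy =>
        rw [← Finset.prod_erase_mul _ _ (Finset.mem_attach t ⟨y, hy⟩), mul_assoc, mul_smul,
          (Submodule.mem_annihilator_span_singleton m _).mp (hsa y hy), smul_zero]
      | zero => rw [mul_zero, zero_smul]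
      | add a b _ _ ha hb => rw [mul_add, add_smul, ha, hb, add_zero]
      | smul r a _ ha => rw [smul_eq_mul, mul_left_comm, mul_smul, ha, smul_zero]
  obtain ⟨s, hs, hsn⟩ := Nat.find_spec hgood
  cases hk : Nat.find hgood with
  | zero =>
    refine absurd (hm.1.2 ?_) hs
    rw [Submodule.mem_annihilator_span_singleton]
    simpa [hk] using hsn 1
  | succ k =>
    have hmin : ¬ ∃ s ∉ p, ∀ a ∈ p ^ k, (s * a) • m = 0 :=
      Nat.find_min hgood (by omega)
    obtain ⟨t, ht⟩ := Ideal.FG.pow (n := k) hp
    obtain ⟨a, ha, hall⟩ : ∃ a ∈ p ^ k, ∀ r ∉ p, (r * a) • m ≠ 0 := by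
      by_contra hno
      push Not at hno
      have : ∀ a ∈ t, ∃ r, r ∉ p ∧ (r * a) • m = 0 := fun a ha => hno a (ht ▸ Ideal.subset_span ha)
      choose r hr hra using this
      refine hmin ⟨∏ a ∈ t.attach, r a.1 a.2, fun h => ?_, fun a ha => ?_⟩
      · obtain ⟨y, -, hy⟩ := (Ideal.IsPrime.prod_mem_iff (hp := ‹p.IsPrime›)).mp h
        exact hr _ _ hy
      · rw [← ht] at ha
        induction ha using Submodule.span_induction with
        | mem y hy =>
          rw [← Finset.prod_erase_mul _ _ (Finset.mem_attach t ⟨y, hy⟩), mul_assoc, mul_smul,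
            hra y hy, smul_zero]
        | zero => rw [mul_zero, zero_smul]
        | add a b _ _ ha hb => rw [mul_add, add_smul, ha, hb, add_zero]
        | smul r a _ ha => rw [smul_eq_mul, mul_left_comm, mul_smul, ha, smul_zero]
    refine ⟨‹p.IsPrime›, (s * a) • m, le_antisymm (fun x hx => ?_) (fun x hx => ?_)⟩
    · rw [Submodule.mem_annihilator_span_singleton, smul_smul,
        show x * (s * a) = s * (x * a) by ring]
      exact hsn _ (by rw [hk, pow_succ']; exact Ideal.mul_mem_mul hx ha)
    · rw [Submodule.mem_annihilator_span_singleton, smul_smul] at hx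
      by_contra hxp
      exact hall (x * s) (fun h => (Ideal.IsPrime.mem_or_mem ‹_› h).elim hxp hs)
        (by rw [mul_assoc]; exact hx)

/-- For a ring R, an R-module M and a finitely generated prime ideal p of R, p is associated to M (equal
to the annihilator of an element) if and only if p is weakly associated to M (minimal over the
annihilator of an element). -/
theorem result {R : Type u} [CommRing R] (M : Type u) [AddCommGroup M] [Module R M] (p : Ideal R) [p.IsPrime] (hp : p.FG) :
    p ∈ FlatCA.ass R M ↔ p ∈ FlatCA.weakAss R M := by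
  constructor
  · rintro ⟨_, m, hm⟩
    exact ⟨m, ⟨‹_›, hm ▸ le_rfl⟩, fun Q hQ _ => hm ▸ hQ.2⟩
  · rintro ⟨m, hm⟩
    exact of_min hp hm

end Groth.Agent.S9586
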