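import Groth.Statements.S9587
import Groth.Agent.H21.WeakAss

set_option autoImplicit false
universe u
open CAlg

namespace Groth.Agent.S9587

/-- For a ring R, an ideal I of R and an R/I-module M, regarded as an R-module through R → R/I, the
primes of R weakly associated to M are exactly the inverse images of the primes of R/I weakly
associated to M. -/
theorem result {R : Type u} [CommRing R] (I : Ideal R) (M : Type u) [AddCommGroup M] [Module (R ⧸ I) M] [Module R M] [IsScalarTower R (R ⧸ I) M] :
    FlatCA.weakAss R M = Ideal.comap (Ideal.Quotient.mk I) '' FlatCA.weakAss (R ⧸ I) M := by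
  exact Groth.Agent.H21.WeakAss.eq_image_comap (fun J => Ideal.comap_minimalPrimes_eq_of_surjective Ideal.Quotient.mk_surjective J)

end Groth.Agent.S9587
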