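import Groth.Statements.S9592
import Groth.Agent.H21.WeakAssField
-- import your own Groth.Agent.* helpers here

set_option autoImplicit false
universe u
open CAlg

namespace Groth.Agent.S9592

/-- Let K/k be a field extension, R a k-algebra and M an R-module; let R_K = R ⊗_k K (any pushout of k →
K along k → R) and let M_K be the base change of M to R_K. If a prime q of R_K is weakly associated
to M_K, then its inverse image in R is weakly associated to M. -/
theorem result {k K R : Type u} [Field k] [Field K] [Algebra k K] [CommRing R] [Algebra k R] (RK : Type u) [CommRing RK] [Algebra k RK] [Algebra K RK] [Algebra R RK] [IsScalarTower k K RK] [IsScalarTower k R RK] [Algebra.IsPushout k K R RK] (M : Type u) [AddCommGroup M] [Module R M] (MK : Type u) [AddCommGroup MK] [Module RK MK] [Module R MK] [IsScalarTower R RK MK] (f : M →ₗ[R] MK) (hf : IsBaseChange RK f) (q : Ideal RK) [q.IsPrime] (hq : q ∈ FlatCA.weakAss RK MK) :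
    q.comap (algebraMap R RK) ∈ FlatCA.weakAss R M := by
  obtain ⟨z, hz⟩ := hq
  obtain ⟨w, rfl⟩ := hf.equiv.surjective z
  refine Groth.Agent.H21.WeakAssField.comap_mem_weakAss (k := k) (K := K) RK M q ⟨w, ?_⟩
  have h := Groth.Agent.H21.WeakAss.ann_map_injective
    (f := hf.equiv.toLinearMap) hf.equiv.injective w
  exact (show (Submodule.span RK {w}).annihilator = _ from h.symm) ▸ hz

end Groth.Agent.S9592
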