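import Groth.Statements.S9596
import Mathlib.RingTheory.Ideal.AssociatedPrime.Localization

set_option autoImplicit false
universe u
open CAlg

namespace Groth.Agent.S9596

/-- For a Noetherian ring R and any R-module M, a prime which is minimal among the primes in the support
of M is an associated prime of M. -/
theorem result {R : Type u} [CommRing R] [IsNoetherianRing R] (M : Type u) [AddCommGroup M] [Module R M] (p : PrimeSpectrum R) (hp : Minimal (fun q : PrimeSpectrum R => q ∈ Module.support R M) p) :
    p.asIdeal ∈ associatedPrimes R M := by
  obtain ⟨m, hm⟩ := Module.mem_support_iff'.mp hp.1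
  let N : Submodule R M := Submodule.span R {m}
  have hann : ∀ r, r ∈ Module.annihilator R N ↔ r • m = 0 := fun r => by
    rw [Module.mem_annihilator]
    refine ⟨fun h => congrArg Subtype.val (h ⟨m, Submodule.mem_span_singleton_self m⟩), fun h x => ?_⟩
    obtain ⟨a, ha⟩ := Submodule.mem_span_singleton.mp x.2
    exact Subtype.ext (by rw [Submodule.coe_smul, ← ha, smul_comm, h, smul_zero]; rfl)
  have hmin : p.asIdeal ∈ (Module.annihilator R N).minimalPrimes := by
    refine ⟨⟨p.2, fun r hr => ?_⟩, fun q hq hle => ?_⟩
    · by_contra h
      exact hm r h ((hann r).mp hr)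
    · have hqs : (⟨q, hq.1⟩ : PrimeSpectrum R) ∈ Module.support R M :=
        Module.mem_support_iff'.mpr ⟨m, fun r hr h => hr (hq.2 ((hann r).mpr h))⟩
      exact hp.2 hqs hle
  have h := AssociatedPrimes.mem_iff.mp
    (Module.associatedPrimes.minimalPrimes_annihilator_subset_associatedPrimes R N hmin)
  exact h.map_of_injective (f := N.subtype) N.injective_subtype

end Groth.Agent.S9596
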