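import Groth.Statements.S9597
import Mathlib.RingTheory.Ideal.AssociatedPrime.Basic
import Mathlib.RingTheory.Ideal.Operations
import Mathlib.RingTheory.Ideal.Quotient.Operations
import Mathlib.RingTheory.Ideal.Quotient.Noetherian

set_option autoImplicit false
universe u
open CAlg

namespace Groth.Agent.S9597

/-- Let R be a Noetherian ring, M a finite R-module whose associated primes are pairwise incomparable
under inclusion (M has no embedded associated primes), and I the annihilator of M. Then the
associated primes of R/I, viewed as a module over itself, are again pairwise incomparable: R/I has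
no embedded primes either. -/
theorem result {R : Type u} [CommRing R] [IsNoetherianRing R] (M : Type u) [AddCommGroup M] [Module R M] [Module.Finite R M] (hM : ∀ p ∈ associatedPrimes R M, ∀ q ∈ associatedPrimes R M, p ≤ q → p = q) :
    ∀ p ∈ associatedPrimes (R ⧸ Module.annihilator R M) (R ⧸ Module.annihilator R M), ∀ q ∈ associatedPrimes (R ⧸ Module.annihilator R M) (R ⧸ Module.annihilator R M), p ≤ q → p = q := by
  classical
  let I := Module.annihilator R M
  obtain ⟨n, g, hg⟩ := Module.Finite.exists_fin (R := R) (M := M)
  let f : (R ⧸ I) →ₗ[R] (Fin n → M) :=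
    Submodule.liftQ I (LinearMap.pi fun k => LinearMap.toSpanSingleton R M (g k)) fun r hr => by
      ext k
      exact Module.mem_annihilator.1 hr (g k)
  have hf : Function.Injective f := by
    rw [← LinearMap.ker_eq_bot, LinearMap.ker_eq_bot']
    intro z hz
    obtain ⟨r, rfl⟩ := Ideal.Quotient.mk_surjective z
    rw [Ideal.Quotient.eq_zero_iff_mem, Module.mem_annihilator]
    intro m
    have hm : m ∈ Submodule.span R (Set.range g) := hg ▸ Submodule.mem_top
    induction hm using Submodule.span_induction with
    | mem x hx => obtain ⟨k, rfl⟩ := hx; exact congrFun hz k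
    | zero => simp
    | add x y _ _ hx hy => rw [smul_add, hx, hy, add_zero]
    | smul a x _ hx => rw [smul_comm, hx, smul_zero]
  have key : ∀ P ∈ associatedPrimes (R ⧸ I) (R ⧸ I),
      P.comap (Ideal.Quotient.mk I) ∈ associatedPrimes R M := by
    intro P hP
    obtain ⟨hPp, x, hx⟩ := isAssociatedPrime_iff.1 (AssociatedPrimes.mem_iff.1 hP)
    let p := P.comap (Ideal.Quotient.mk I)
    have hpp : p.IsPrime := Ideal.IsPrime.comap _
    have hmem : ∀ r, r ∈ p ↔ ∀ k, r • f x k = 0 := by
      intro r
      have h1 : r ∈ p ↔ r • x = 0 := by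
        rw [Ideal.mem_comap, hx, Submodule.mem_colon_singleton, Submodule.mem_bot]
        rfl
      rw [h1, ← hf.eq_iff, map_zero, map_smul, funext_iff]
      rfl
    have hp : p = ⨅ k, LinearMap.ker (LinearMap.toSpanSingleton R M (f x k)) := by
      ext r
      rw [hmem]
      simp
    have hex : ∃ k, LinearMap.ker (LinearMap.toSpanSingleton R M (f x k)) = p := by
      have hle : Finset.univ.inf (fun k => LinearMap.ker (LinearMap.toSpanSingleton R M (f x k))) ≤ p := by
        rw [hp, Finset.inf_univ_eq_iInf]
      obtain ⟨k, -, hk⟩ := (Ideal.IsPrime.inf_le' hpp).1 hle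
      exact ⟨k, le_antisymm hk (hp ▸ iInf_le _ k)⟩
    obtain ⟨k, hk⟩ := hex
    refine AssociatedPrimes.mem_iff.2 (isAssociatedPrime_iff.2 ⟨hpp, f x k, ?_⟩)
    ext r
    rw [Submodule.mem_colon_singleton, Submodule.mem_bot]
    show r ∈ p ↔ r • f x k = 0
    rw [← hk]
    simp
  intro p hp q hq hpq
  have h := hM _ (key p hp) _ (key q hq) (Ideal.comap_mono hpq)
  exact Ideal.comap_injective_of_surjective _ Ideal.Quotient.mk_surjective h

end Groth.Agent.S9597
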