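import Groth.Statements.S9598
import Groth.Agent.Lib.Dim.Local
import Mathlib.RingTheory.Ideal.AssociatedPrime.Finiteness

set_option autoImplicit false
universe u
open CAlg

namespace Groth.Agent.S9598

/-- For a field k and a finite type k-algebra S with dim S > 0, some element of S is a nonzerodivisor
and a nonunit. -/
theorem result {k S : Type u} [Field k] [CommRing S] [Algebra k S] [Algebra.FiniteType k S] (hdim : 0 < ringKrullDim S) :
    ∃ f : S, f ∈ nonZeroDivisors S ∧ ¬ IsUnit f := by
  have : Nontrivial S := by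
    by_contra h
    rw [not_nontrivial_iff_subsingleton] at h
    simp [ringKrullDim_eq_bot_of_subsingleton] at hdim
  obtain ⟨q, hq, hqd, -⟩ := Groth.Agent.Lib.Dim.Local.exists_ringKrullDim_eq_dimQ k (A := S)
  have hqp : q.IsPrime := hq.1.1
  have : IsNoetherianRing S := Algebra.FiniteType.isNoetherianRing k S
  -- a maximal ideal above q that is not an associated prime
  have hfin : (associatedPrimes S S).Finite := associatedPrimes.finite S S
  by_contra! h
  have hnotmax : ¬ q.IsMaximal := fun hm => by
    rw [Groth.Agent.Lib.Dim.Basic.dimQ_eq_zero_of_isMaximal k q] at hqd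
    simp [hqd] at hdim
  have hsub : ∀ m : Ideal S, m.IsMaximal → m ∈ associatedPrimes S S := by
    intro m hm
    have hsub : (m : Set S) ⊆ ⋃ P ∈ associatedPrimes S S, (P : Set S) := by
      rw [biUnion_associatedPrimes_eq_compl_nonZeroDivisors]
      exact fun x hx hx' => hm.ne_top (Ideal.eq_top_of_isUnit_mem _ hx (h x hx'))
    have hsub' : (m : Set S) ⊆ ⋃ P ∈ (hfin.toFinset : Set (Ideal S)), ((id P : Ideal S) : Set S) := by
      simpa using hsub
    obtain ⟨P, hP, hle⟩ := (Ideal.subset_union_prime ⊥ ⊥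
      fun P hP _ _ => (hfin.mem_toFinset.mp hP).isPrime).mp hsub'
    have hP' := hfin.mem_toFinset.mp hP
    rwa [hm.eq_of_le hP'.isPrime.ne_top hle]
  have hJ : IsJacobsonRing S := isJacobsonRing_of_finiteType (A := k)
  have hq2 := IsJacobsonRing.out hJ hqp.isRadical
  classical
  let T := hfin.toFinset.filter (fun m => q ≤ m ∧ m.IsMaximal)
  have hle : T.inf id ≤ q := by
    conv_rhs => rw [← hq2]
    exact le_sInf fun m hm =>
      Finset.inf_le (f := id) (Finset.mem_filter.mpr ⟨hfin.mem_toFinset.mpr (hsub m hm.2), hm.1, hm.2⟩)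
  obtain ⟨m, hm, hmq⟩ := (Ideal.IsPrime.inf_le' hqp).mp hle
  obtain ⟨-, hqm, hmax⟩ := Finset.mem_filter.mp hm
  exact hnotmax (le_antisymm hqm hmq ▸ hmax)

end Groth.Agent.S9598
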