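import Groth.Statements.S9600
import Groth.Agent.H22.Completion

set_option autoImplicit false
universe u
open CAlg

namespace Groth.Agent.S9600

/-- Let R be a ring, I an ideal of R and 0 → M → N → Q → 0 a short exact sequence of R-modules in which
Q is killed by some power I^c of I. Then on I-adic completions the map M^ → N^ is injective, N^ → Q^
is surjective with kernel equal to the image of M^, and the canonical map Q → Q^ is bijective; so 0
→ M^ → N^ → Q → 0 is again short exact. -/
theorem result {R : Type u} [CommRing R] (I : Ideal R) {M N Q : Type u} [AddCommGroup M] [Module R M] [AddCommGroup N] [Module R N] [AddCommGroup Q] [Module R Q] (i : M →ₗ[R] N) (g : N →ₗ[R] Q) (hi : Function.Injective i) (hg : Function.Surjective g) (hig : Function.Exact i g) (c : ℕ) (hc : ∀ x ∈ I ^ c, ∀ q : Q, x • q = 0) :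
    Function.Injective (AdicCompletion.map I i) ∧ Function.Exact (AdicCompletion.map I i) (AdicCompletion.map I g) ∧ Function.Surjective (AdicCompletion.map I g) ∧ Function.Bijective (AdicCompletion.of I Q) := by
  have hc' : ∀ n, (I ^ (n + c) • ⊤ : Submodule R N).comap i ≤ I ^ n • ⊤ := by
    intro n
    have hle : (I ^ c • ⊤ : Submodule R N) ≤ LinearMap.range i := by
      rw [Submodule.smul_le]
      intro x hx z _
      rw [← LinearMap.exact_iff.1 hig, LinearMap.mem_ker, map_smul]
      exact hc x hx _
    refine le_trans (Submodule.comap_mono (f := i) (?_ : _ ≤ Submodule.map i (I ^ n • ⊤))) ?_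
    · rw [pow_add, ← smul_eq_mul, Submodule.smul_assoc, Submodule.map_smul'', Submodule.map_top]
      exact Submodule.smul_mono le_rfl hle
    · rw [Submodule.comap_map_eq_of_injective hi]
  obtain ⟨h1, h2⟩ := H22.Completion.injective_exact_of_comap_le I hg hig c hc'
  exact ⟨h1, h2, AdicCompletion.map_surjective I hg,
    H22.Completion.bijective_of_of_pow_smul_eq_zero I c hc⟩

end Groth.Agent.S9600
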