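import Groth.Statements.S9602
import Mathlib.RingTheory.AdicCompletion.Algebra
import Mathlib.RingTheory.Jacobson.Ideal
import Mathlib.RingTheory.Nilpotent.Basic

set_option autoImplicit false
universe u
open CAlg

namespace Groth.Agent.S9602

/-- Let R be a ring, I an ideal of R and R^ = lim R/Iⁿ the I-adic completion. An element of R^ whose
image in R/I is invertible is itself invertible in R^; and the kernel of R^ → R/I as well as the
extended ideal I R^ both lie inside the Jacobson radical of R^. -/
theorem result {R : Type u} [CommRing R] (I : Ideal R) :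
    (∀ x : AdicCompletion I R, IsUnit (AdicCompletion.evalOneₐ I x) → IsUnit x) ∧
      RingHom.ker (AdicCompletion.evalOneₐ I).toRingHom ≤ (⊥ : Ideal (AdicCompletion I R)).jacobson ∧
      I.map (algebraMap R (AdicCompletion I R)) ≤ (⊥ : Ideal (AdicCompletion I R)).jacobson := by
  have key : ∀ x : AdicCompletion I R, IsUnit (AdicCompletion.evalOneₐ I x) → IsUnit x := by
    intro x hx
    have hu : ∀ n, IsUnit (x.val n) := by
      intro n
      obtain ⟨a, ha⟩ := Ideal.Quotient.mk_surjective (x.val (max n 1))
      have h1 : IsUnit (Ideal.Quotient.mk I a) := by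
        have e1 : x.val 1 = Ideal.Quotient.mk _ a := by
          have := x.property (le_max_right n 1)
          rw [← this, ← ha]; rfl
        have e2 : AdicCompletion.evalOneₐ I x = Ideal.Quotient.mk I a := by
          rw [← AdicCompletion.factorₐ_evalₐ_one,
            ← AdicCompletion.factor_eval_eq_evalₐ I x (le_of_eq (by rw [smul_eq_mul, Ideal.mul_top]) : I ^ 1 • (⊤ : Ideal R) ≤ I ^ 1)]
          rw [show AdicCompletion.eval I R 1 x = x.val 1 from rfl, e1]
          rfl
        rwa [e2] at hx
      obtain ⟨b, hb⟩ := isUnit_iff_exists_inv.mp h1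
      obtain ⟨b, rfl⟩ := Ideal.Quotient.mk_surjective b
      rw [← map_mul, ← map_one (Ideal.Quotient.mk I), Ideal.Quotient.eq] at hb
      have e3 : x.val n = Ideal.Quotient.mk _ a := by
        have := x.property (le_max_left n 1)
        rw [← this, ← ha]; rfl
      rw [e3]
      have hnil : IsNilpotent (Ideal.Quotient.mk (I ^ n • ⊤ : Ideal R) (a * b - 1)) :=
        ⟨n, by rw [← map_pow, Ideal.Quotient.eq_zero_iff_mem, smul_eq_mul, Ideal.mul_top]
               exact Ideal.pow_mem_pow hb n⟩
      have h2 := hnil.isUnit_add_one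
      rw [← map_one (Ideal.Quotient.mk (I ^ n • ⊤ : Ideal R)), ← map_add, sub_add_cancel, map_mul] at h2
      exact isUnit_of_mul_isUnit_left h2
    have hcomp : ∀ {m n : ℕ} (h : m ≤ n), AdicCompletion.transitionMap I R h (Ring.inverse (x.val n)) = Ring.inverse (x.val m) := by
      intro m n h
      obtain ⟨u, hu'⟩ := hu n
      rw [← hu', Ring.inverse_unit]
      have h3 : x.val m = AdicCompletion.transitionMapₐ I h u := by
        rw [hu']; exact (x.property h).symm
      rw [h3, show AdicCompletion.transitionMapₐ I h (u : R ⧸ (I ^ n • ⊤ : Ideal R)) =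
        ((Units.map (AdicCompletion.transitionMapₐ I h : _ →* _) u : (R ⧸ (I ^ m • ⊤ : Ideal R))ˣ) : R ⧸ (I ^ m • ⊤ : Ideal R)) from rfl,
        Ring.inverse_unit]
      rfl
    refine isUnit_iff_exists_inv.mpr ⟨⟨fun n => Ring.inverse (x.val n), fun h => hcomp h⟩, Subtype.ext (funext fun n => ?_)⟩
    exact Ring.mul_inverse_cancel _ (hu n)
  have hker : RingHom.ker (AdicCompletion.evalOneₐ I).toRingHom ≤ (⊥ : Ideal (AdicCompletion I R)).jacobson := by
    intro x hx
    rw [Ideal.mem_jacobson_bot]
    intro y
    apply key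
    rw [RingHom.mem_ker] at hx
    rw [map_add, map_mul, map_one, show AdicCompletion.evalOneₐ I x = 0 from hx, zero_mul, zero_add]
    exact isUnit_one
  refine ⟨key, hker, le_trans ?_ hker⟩
  rw [Ideal.map_le_iff_le_comap]
  intro r hr
  rw [Ideal.mem_comap, RingHom.mem_ker, ← RingHom.comp_apply, AdicCompletion.evalOneₐ_comp_algebraMap_eq_mk]
  exact Ideal.Quotient.eq_zero_iff_mem.mpr hr

end Groth.Agent.S9602
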