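import Groth.Statements.S9606


set_option autoImplicit false
universe u
open CAlg

namespace Groth.Agent.S9606

/-- Let R → S be a ring map with locally nilpotent kernel such that S is generated over R by elements x
with x² and x³ in the image of R. Then the induced map on spectra is a homeomorphism and every
residue field map κ(p) → κ(q), for q a prime of S with inverse image p, is bijective. -/
theorem result {R S : Type u} [CommRing R] [CommRing S] [Algebra R S]
    (hgen : Algebra.adjoin R {x : S | x ^ 2 ∈ Set.range (algebraMap R S) ∧ x ^ 3 ∈ Set.range (algebraMap R S)} = ⊤)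
    (hker : ∀ r : R, algebraMap R S r = 0 → IsNilpotent r) :
    IsHomeomorph (PrimeSpectrum.comap (algebraMap R S)) ∧
      ∀ (q : Ideal S) [q.IsPrime], Function.Bijective (Ideal.ResidueField.map (q.comap (algebraMap R S)) q (algebraMap R S) rfl) := by
  classical
  have hint : Algebra.IsIntegral R S := by
    refine ⟨fun y => ?_⟩
    have hy : y ∈ Algebra.adjoin R {x : S | x ^ 2 ∈ Set.range (algebraMap R S) ∧ x ^ 3 ∈ Set.range (algebraMap R S)} :=
      hgen ▸ Algebra.mem_top
    refine Algebra.adjoin_le (S := integralClosure R S) ?_ hy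
    rintro x ⟨⟨a, ha⟩, -⟩
    exact IsIntegral.of_pow (n := 2) two_pos (ha ▸ isIntegral_algebraMap)
  have hfr : ∀ (q q' : Ideal S) [q.IsPrime] [q'.IsPrime],
      q.comap (algebraMap R S) = q'.comap (algebraMap R S) → ∀ y : S,
        ∃ c r, c ∉ q.comap (algebraMap R S) ∧ algebraMap R S c * y - algebraMap R S r ∈ q ⊓ q' := by
    intro q q' _ _ hqq y
    have hy : y ∈ Algebra.adjoin R {x : S | x ^ 2 ∈ Set.range (algebraMap R S) ∧ x ^ 3 ∈ Set.range (algebraMap R S)} :=
      hgen ▸ Algebra.mem_top
    induction hy using Algebra.adjoin_induction with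
    | mem x hx =>
      obtain ⟨⟨a, ha⟩, ⟨b, hb⟩⟩ := hx
      by_cases h : a ∈ q.comap (algebraMap R S)
      · refine ⟨1, 0, fun h1 => (Ideal.IsPrime.comap (algebraMap R S)).ne_top ((Ideal.eq_top_iff_one _).mpr h1), ?_⟩
        rw [map_one, one_mul, map_zero, sub_zero]
        have h' : a ∈ q'.comap (algebraMap R S) := hqq ▸ h
        rw [Ideal.mem_comap, ha] at h h'
        exact ⟨Ideal.IsPrime.mem_of_pow_mem ‹_› 2 h, Ideal.IsPrime.mem_of_pow_mem ‹_› 2 h'⟩
      · refine ⟨a, b, h, ?_⟩
        rw [ha, hb, show x ^ 2 * x - x ^ 3 = 0 by ring]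
        exact zero_mem _
    | algebraMap r =>
      refine ⟨1, r, fun h1 => (Ideal.IsPrime.comap (algebraMap R S)).ne_top ((Ideal.eq_top_iff_one _).mpr h1), ?_⟩
      rw [map_one, one_mul, sub_self]; exact zero_mem _
    | add y z _ _ hy hz =>
      obtain ⟨c, r, hc, h1⟩ := hy
      obtain ⟨c', r', hc', h2⟩ := hz
      refine ⟨c * c', c' * r + c * r', fun h => ((Ideal.IsPrime.comap (algebraMap R S)).mem_or_mem h).elim hc hc', ?_⟩
      convert add_mem (Ideal.mul_mem_left _ (algebraMap R S c') h1) (Ideal.mul_mem_left _ (algebraMap R S c) h2) using 1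
      simp only [map_mul, map_add]; ring
    | mul y z _ _ hy hz =>
      obtain ⟨c, r, hc, h1⟩ := hy
      obtain ⟨c', r', hc', h2⟩ := hz
      refine ⟨c * c', r * r', fun h => ((Ideal.IsPrime.comap (algebraMap R S)).mem_or_mem h).elim hc hc', ?_⟩
      convert add_mem (Ideal.mul_mem_right (algebraMap R S c' * z) _ h1) (Ideal.mul_mem_left _ (algebraMap R S r) h2) using 1
      simp only [map_mul]; ring
  refine ⟨?_, fun q _ => ⟨RingHom.injective _, fun z => ?_⟩⟩
  · have hsurj : Function.Surjective (PrimeSpectrum.comap (algebraMap R S)) := by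
      intro p
      obtain ⟨Q, -, hQ, hQ'⟩ := Ideal.exists_ideal_over_prime_of_isIntegral p.asIdeal (⊥ : Ideal S) (fun r hr => by
        obtain ⟨n, hn⟩ := hker r (by simpa using hr)
        exact p.isPrime.mem_of_pow_mem n (hn ▸ p.asIdeal.zero_mem))
      exact ⟨⟨Q, hQ⟩, PrimeSpectrum.ext hQ'⟩
    have hinj : Function.Injective (PrimeSpectrum.comap (algebraMap R S)) := by
      intro q q' h
      have h' : q.asIdeal.comap (algebraMap R S) = q'.asIdeal.comap (algebraMap R S) := congrArg PrimeSpectrum.asIdeal h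
      refine PrimeSpectrum.ext ?_
      ext y
      obtain ⟨c, r, hc, h1, h2⟩ := hfr q.asIdeal q'.asIdeal h' y
      constructor
      · intro hy
        have hr : r ∈ q.asIdeal.comap (algebraMap R S) :=
          (Submodule.sub_mem_iff_right _ (Ideal.mul_mem_left _ _ hy)).mp h1
        rw [h'] at hr hc
        exact (q'.isPrime.mem_or_mem ((Submodule.sub_mem_iff_left q'.asIdeal (show algebraMap R S r ∈ q'.asIdeal from hr)).mp h2)).resolve_left hc
      · intro hy
        have hr : r ∈ q'.asIdeal.comap (algebraMap R S) :=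
          (Submodule.sub_mem_iff_right _ (Ideal.mul_mem_left _ _ hy)).mp h2
        rw [← h'] at hr
        exact (q.isPrime.mem_or_mem ((Submodule.sub_mem_iff_left q.asIdeal (show algebraMap R S r ∈ q.asIdeal from hr)).mp h1)).resolve_left hc
    refine isHomeomorph_iff_continuous_isClosedMap_bijective.mpr ⟨PrimeSpectrum.continuous_comap _, ?_, hinj, hsurj⟩
    exact PrimeSpectrum.isClosedMap_comap_of_isIntegral (algebraMap R S) (Algebra.IsIntegral.isIntegral (R := R))
  · haveI : (q.comap (algebraMap R S)).IsPrime := Ideal.IsPrime.comap _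
    obtain ⟨y, s, -, rfl⟩ := IsFractionRing.div_surjective (S ⧸ q) z
    obtain ⟨y, rfl⟩ := Ideal.Quotient.mk_surjective y
    obtain ⟨s, rfl⟩ := Ideal.Quotient.mk_surjective s
    suffices key : ∀ y, algebraMap (S ⧸ q) q.ResidueField (Ideal.Quotient.mk q y) ∈
        (Ideal.ResidueField.map (q.comap (algebraMap R S)) q (algebraMap R S) rfl).fieldRange by
      exact Subfield.div_mem _ (key y) (key s)
    intro y
    obtain ⟨c, r, hc, h1, -⟩ := hfr q q rfl y
    refine ⟨algebraMap R _ r / algebraMap R _ c, ?_⟩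
    rw [map_div₀, Ideal.ResidueField.map_algebraMap, Ideal.ResidueField.map_algebraMap,
      ← Ideal.Quotient.algebraMap_eq, ← IsScalarTower.algebraMap_apply S (S ⧸ q) q.ResidueField,
      div_eq_iff (fun h : algebraMap S q.ResidueField (algebraMap R S c) = 0 => hc ((Ideal.algebraMap_residueField_eq_zero (I := q)).mp h)), ← map_mul, ← sub_eq_zero, ← map_sub]
    rw [← neg_sub, map_neg, neg_eq_zero, Ideal.algebraMap_residueField_eq_zero, mul_comm]
    exact h1

end Groth.Agent.S9606
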