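import Groth.Statements.S9607
import Mathlib

set_option autoImplicit false
universe u
open CAlg

namespace Groth.Agent.S9607

/-- For a prime number p and integers n, m > 0 there exists an integer a such that (x + y)^(p^a) and p^a
(x + y) both belong to the subring ℤ[x^(p^n), p^n x, y^(p^m), p^m y] of the polynomial ring ℤ[x, y]. -/
theorem result (p : ℕ) (hp : p.Prime) (n m : ℕ) (hn : 0 < n) (hm : 0 < m) :
    ∃ a : ℕ, ((MvPolynomial.X 0 + MvPolynomial.X 1 : MvPolynomial (Fin 2) ℤ) ^ (p ^ a) ∈ Algebra.adjoin ℤ ({MvPolynomial.X 0 ^ (p ^ n), (p : MvPolynomial (Fin 2) ℤ) ^ n * MvPolynomial.X 0, MvPolynomial.X 1 ^ (p ^ m), (p : MvPolynomial (Fin 2) ℤ) ^ m * MvPolynomial.X 1} : Set (MvPolynomial (Fin 2) ℤ)) ∧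
      (p : MvPolynomial (Fin 2) ℤ) ^ a * (MvPolynomial.X 0 + MvPolynomial.X 1) ∈ Algebra.adjoin ℤ ({MvPolynomial.X 0 ^ (p ^ n), (p : MvPolynomial (Fin 2) ℤ) ^ n * MvPolynomial.X 0, MvPolynomial.X 1 ^ (p ^ m), (p : MvPolynomial (Fin 2) ℤ) ^ m * MvPolynomial.X 1} : Set (MvPolynomial (Fin 2) ℤ))) := by
  classical
  set S : Subalgebra ℤ (MvPolynomial (Fin 2) ℤ) := Algebra.adjoin ℤ ({MvPolynomial.X 0 ^ (p ^ n), (p : MvPolynomial (Fin 2) ℤ) ^ n * MvPolynomial.X 0, MvPolynomial.X 1 ^ (p ^ m), (p : MvPolynomial (Fin 2) ℤ) ^ m * MvPolynomial.X 1} : Set (MvPolynomial (Fin 2) ℤ))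
  have g1 : MvPolynomial.X 0 ^ (p ^ n) ∈ S := Algebra.subset_adjoin (by simp)
  have g2 : (p : MvPolynomial (Fin 2) ℤ) ^ n * MvPolynomial.X 0 ∈ S := Algebra.subset_adjoin (by simp)
  have g3 : MvPolynomial.X 1 ^ (p ^ m) ∈ S := Algebra.subset_adjoin (by simp)
  have g4 : (p : MvPolynomial (Fin 2) ℤ) ^ m * MvPolynomial.X 1 ∈ S := Algebra.subset_adjoin (by simp)
  set B := n * p ^ n + m * p ^ m with hB
  set a := B + n + m with ha
  refine ⟨a, ?_, ?_⟩
  swap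
  · rw [mul_add]
    refine add_mem ?_ ?_
    · rw [show a = (a - n) + n by omega, pow_add, mul_assoc]
      exact mul_mem (pow_mem (natCast_mem S p) _) g2
    · rw [show a = (a - m) + m by omega, pow_add, mul_assoc]
      exact mul_mem (pow_mem (natCast_mem S p) _) g4
  have key : ∀ (l i : ℕ), i ≤ p ^ a → ¬ p ^ l ∣ i → p ^ (a - l) ∣ (p ^ a).choose i := by
    intro l i hi hdvd
    have hi0 : i ≠ 0 := fun h => hdvd (h ▸ dvd_zero _)
    obtain ⟨v, u, hu, rfl⟩ := Nat.exists_eq_pow_mul_and_not_dvd hi0 p hp.ne_one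
    have hvl : v < l := by
      by_contra! h
      exact hdvd (dvd_mul_of_dvd_left (pow_dvd_pow p h) u)
    have h1 : p ^ a ∣ (p ^ a).choose (p ^ v * u) * (p ^ v * u) := by
      obtain ⟨j, hj⟩ := Nat.exists_eq_succ_of_ne_zero hi0
      obtain ⟨N, hN⟩ := Nat.exists_eq_succ_of_ne_zero (pow_ne_zero a hp.ne_zero)
      rw [hj, hN, ← Nat.add_one_mul_choose_eq]
      exact dvd_mul_right _ _
    rcases Nat.lt_or_ge a l with h | h
    · simp [show a - l = 0 by omega]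
    have h2 : p ^ v * p ^ (a - v) ∣ p ^ v * ((p ^ a).choose (p ^ v * u) * u) := by
      rw [← pow_add, show v + (a - v) = a by omega]
      convert h1 using 1; ring
    have h3 := Nat.dvd_of_mul_dvd_mul_left (pow_pos hp.pos v) h2
    exact (pow_dvd_pow p (by omega)).trans (((hp.coprime_iff_not_dvd.2 hu).pow_left _).dvd_of_dvd_mul_right h3)
  rw [add_pow]
  refine Subalgebra.sum_mem _ fun i hi => ?_
  rw [Finset.mem_range] at hi
  set j := p ^ a - i with hj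
  have e0 : MvPolynomial.X (R := ℤ) (0 : Fin 2) ^ i = (MvPolynomial.X 0 ^ (p ^ n)) ^ (i / p ^ n) * MvPolynomial.X 0 ^ (i % p ^ n) := by
    rw [← pow_mul, ← pow_add, Nat.div_add_mod]
  have e1 : MvPolynomial.X (R := ℤ) (1 : Fin 2) ^ j = (MvPolynomial.X 1 ^ (p ^ m)) ^ (j / p ^ m) * MvPolynomial.X 1 ^ (j % p ^ m) := by
    rw [← pow_mul, ← pow_add, Nat.div_add_mod]
  have hdiv : p ^ (n * (i % p ^ n) + m * (j % p ^ m)) ∣ (p ^ a).choose i := by
    have hb : n * (i % p ^ n) + m * (j % p ^ m) ≤ B := by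
      rw [hB]
      exact Nat.add_le_add (Nat.mul_le_mul_left n (Nat.mod_lt _ (pow_pos hp.pos n)).le) (Nat.mul_le_mul_left m (Nat.mod_lt _ (pow_pos hp.pos m)).le)
    by_cases hin : p ^ n ∣ i
    · by_cases hjm : p ^ m ∣ j
      · simp [Nat.mod_eq_zero_of_dvd hin, Nat.mod_eq_zero_of_dvd hjm, Nat.dvd_iff_mod_eq_zero.1 hin, Nat.dvd_iff_mod_eq_zero.1 hjm]
      · rw [← Nat.choose_symm (show i ≤ p ^ a by omega), ← hj]
        exact (pow_dvd_pow p (by omega)).trans (key m j (by omega) hjm)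
    · exact (pow_dvd_pow p (by omega)).trans (key n i (by omega) hin)
  obtain ⟨c, hc⟩ := hdiv
  rw [hc, e0, e1]
  push_cast
  have : (MvPolynomial.X 0 ^ (p ^ n)) ^ (i / p ^ n) * (MvPolynomial.X 1 ^ (p ^ m)) ^ (j / p ^ m) * ((p : MvPolynomial (Fin 2) ℤ) ^ n * MvPolynomial.X 0) ^ (i % p ^ n) * ((p : MvPolynomial (Fin 2) ℤ) ^ m * MvPolynomial.X 1) ^ (j % p ^ m) * (c : MvPolynomial (Fin 2) ℤ) ∈ S :=
    mul_mem (mul_mem (mul_mem (mul_mem (pow_mem g1 _) (pow_mem g3 _)) (pow_mem g2 _)) (pow_mem g4 _)) (natCast_mem S c)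
  convert this using 1
  rw [mul_pow, mul_pow, pow_add, pow_mul, pow_mul]
  ring

end Groth.Agent.S9607
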