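import Groth.Statements.S9608
import Mathlib

set_option autoImplicit false
universe u
open CAlg

namespace Groth.Agent.S9608

/-- Let k'/k be a field extension and p a prime number. Then k' is generated over k by elements x for
which some n > 0 has x^(p^n) ∈ k and p^n x ∈ k, if and only if either k' = k, or k has
characteristic p and k'/k is purely inseparable. -/
theorem result {k k' : Type u} [Field k] [Field k'] [Algebra k k'] (p : ℕ) (hp : p.Prime) :
    IntermediateField.adjoin k {x : k' | ∃ n : ℕ, 0 < n ∧ x ^ (p ^ n) ∈ Set.range (algebraMap k k') ∧ (p : k') ^ n * x ∈ Set.range (algebraMap k k')} = ⊤ ↔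
      (Function.Surjective (algebraMap k k') ∨ (CharP k p ∧ IsPurelyInseparable k k')) := by
  by_cases hsurj : Function.Surjective (algebraMap k k')
  · refine iff_of_true ?_ (Or.inl hsurj)
    rw [eq_top_iff]
    intro x _
    obtain ⟨c, rfl⟩ := hsurj x
    exact IntermediateField.algebraMap_mem _ c
  constructor
  · intro h
    by_cases hpk : (p : k) = 0
    · haveI : CharP k p := (CharP.charP_iff_prime_eq_zero hp).mpr hpk
      haveI : Fact p.Prime := ⟨hp⟩
      haveI : ExpChar k p := ExpChar.prime hp
      refine Or.inr ⟨inferInstance, ?_⟩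
      rw [isPurelyInseparable_iff_pow_mem k p]
      intro x
      have hle : IntermediateField.adjoin k {x : k' | ∃ n : ℕ, 0 < n ∧ x ^ (p ^ n) ∈ Set.range (algebraMap k k') ∧ (p : k') ^ n * x ∈ Set.range (algebraMap k k')} ≤ perfectClosure k k' := by
        rw [IntermediateField.adjoin_le_iff]
        rintro y ⟨n, -, ⟨c, hc⟩, -⟩
        exact (mem_perfectClosure_iff_pow_mem p).mpr ⟨n, c, hc⟩
      have hx : x ∈ perfectClosure k k' := hle (h.symm ▸ IntermediateField.mem_top)
      exact (mem_perfectClosure_iff_pow_mem p).mp hx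
    · exfalso
      apply hsurj
      intro x
      have hle : IntermediateField.adjoin k {x : k' | ∃ n : ℕ, 0 < n ∧ x ^ (p ^ n) ∈ Set.range (algebraMap k k') ∧ (p : k') ^ n * x ∈ Set.range (algebraMap k k')} ≤ ⊥ := by
        rw [IntermediateField.adjoin_le_iff]
        rintro y ⟨n, -, -, c, hc⟩
        rw [SetLike.mem_coe, IntermediateField.mem_bot]
        refine ⟨((p : k) ^ n)⁻¹ * c, ?_⟩
        rw [map_mul, hc, map_inv₀, map_pow, map_natCast, ← mul_assoc, inv_mul_cancel₀, one_mul]
        rw [← map_natCast (algebraMap k k'), ← map_pow]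
        exact (map_ne_zero _).mpr (pow_ne_zero _ hpk)
      obtain ⟨c, hc⟩ := IntermediateField.mem_bot.mp (hle (h.symm ▸ IntermediateField.mem_top : x ∈ _))
      exact ⟨c, hc⟩
  · rintro (h | ⟨hc, hpi⟩)
    · exact absurd h hsurj
    haveI : Fact p.Prime := ⟨hp⟩
    haveI : ExpChar k p := ExpChar.prime hp
    rw [eq_top_iff]
    intro x _
    obtain ⟨n, c, hc'⟩ := IsPurelyInseparable.pow_mem k p x
    refine IntermediateField.subset_adjoin _ _ ⟨n + 1, n.succ_pos, ⟨c ^ p, ?_⟩, ⟨0, ?_⟩⟩
    · rw [map_pow, hc', ← pow_mul, ← pow_succ]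
    · rw [map_zero, ← map_natCast (algebraMap k k'), CharP.cast_eq_zero, map_zero, zero_pow n.succ_ne_zero, zero_mul]

end Groth.Agent.S9608
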