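import Groth.Statements.S9610
import Mathlib.LinearAlgebra.Dimension.Basic
import Mathlib.Algebra.Polynomial.AlgebraMap
import Mathlib.Algebra.Polynomial.Monic
import Mathlib.LinearAlgebra.Dimension.Free
import Mathlib.Algebra.Polynomial.Eval.SMul
import Mathlib.Algebra.Polynomial.RingDivision
import Mathlib.Tactic.Tauto

set_option autoImplicit false
universe u
open CAlg

namespace Groth.Agent.S9610

/-- Let k be a field and V a nonzero k-vector space with dim_k V < #k as cardinals. Then every k-linear
endomorphism T of V admits a monic polynomial P over k for which P(T) is not invertible. -/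
theorem result {k V : Type u} [Field k] [AddCommGroup V] [Module k V] [Nontrivial V] (hV : Module.rank k V < Cardinal.mk k) (T : Module.End k V) :
    ∃ P : Polynomial k, P.Monic ∧ ¬ IsUnit (Polynomial.aeval T P) := by
  classical
  by_contra hno
  push Not at hno
  have hunit : ∀ P : Polynomial k, P ≠ 0 → IsUnit (Polynomial.aeval T P) := by
    intro P hP
    have h := hno _ (Polynomial.monic_mul_leadingCoeff_inv hP)
    have e : P = P * Polynomial.C P.leadingCoeff⁻¹ * Polynomial.C P.leadingCoeff := by
      rw [mul_assoc, ← map_mul, inv_mul_cancel₀ (Polynomial.leadingCoeff_ne_zero.2 hP), map_one, mul_one]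
    rw [e, map_mul, Polynomial.aeval_C]
    exact h.mul ((IsUnit.mk0 _ (Polynomial.leadingCoeff_ne_zero.2 hP)).map _)
  obtain ⟨v, hv⟩ := exists_ne (0 : V)
  let L : k → Module.End k V := fun a => Polynomial.aeval T (Polynomial.X - Polynomial.C a)
  have hL : ∀ a, IsUnit (L a) := fun a => hunit _ (Polynomial.X_sub_C_ne_zero a)
  let w : k → V := fun a => (hL a).unit⁻¹.1 v
  have hw : ∀ a, L a (w a) = v := by
    intro a
    show ((hL a).unit.1 * (hL a).unit⁻¹.1) v = v
    rw [Units.mul_inv]; rfl
  refine not_le.2 hV (LinearIndependent.cardinal_le_rank (v := w) (linearIndependent_iff'.2 fun s c hc a ha => ?_))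
  let Q : k → Polynomial k := fun b => ∏ d ∈ s.erase b, (Polynomial.X - Polynomial.C d)
  have h1 : Polynomial.aeval T (∑ b ∈ s, c b • Q b) v = 0 := by
    have h := congrArg (Polynomial.aeval T (∏ d ∈ s, (Polynomial.X - Polynomial.C d))) hc
    rw [map_zero, map_sum] at h
    rw [map_sum, LinearMap.sum_apply]
    refine Eq.trans (Finset.sum_congr rfl fun b hb => ?_) h
    rw [map_smul, map_smul, LinearMap.smul_apply, ← Finset.prod_erase_mul s _ hb, map_mul, Module.End.mul_apply]
    show _ = c b • (Polynomial.aeval T (Q b)) (L b (w b))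
    rw [hw]
  have h2 : (∑ b ∈ s, c b • Q b) = 0 := by
    by_contra hne
    obtain ⟨U, hU⟩ := hunit _ hne
    rw [← hU] at h1
    apply hv
    have := congrArg U⁻¹.1 h1
    rwa [map_zero, ← Module.End.mul_apply, Units.inv_mul] at this
  have h3 := congrArg (Polynomial.eval a) h2
  rw [Polynomial.eval_finsetSum, Finset.sum_eq_single a] at h3
  · simp only [Polynomial.eval_smul, smul_eq_mul, Polynomial.eval_zero] at h3
    refine (mul_eq_zero.1 h3).resolve_right ?_
    simp [Q, Polynomial.eval_prod, Finset.prod_ne_zero_iff, sub_ne_zero]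
    tauto
  · intro b hb hba
    simp [Q, Polynomial.eval_prod, Finset.prod_eq_zero (Finset.mem_erase.2 ⟨hba.symm, ha⟩)]
  · simp [ha]

end Groth.Agent.S9610
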