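import Groth.Statements.S9611
import Mathlib.RingTheory.Jacobson.Ring

set_option autoImplicit false
universe u
open CAlg

namespace Groth.Agent.S9611

/-- Let R be a Jacobson ring, p a prime ideal of R which is not maximal, and f an element of R not in p.
Then the set of primes of R containing p and not containing f is infinite. -/
theorem result {R : Type u} [CommRing R] [IsJacobsonRing R] (p : Ideal R) [p.IsPrime] (hp : ¬ p.IsMaximal) (f : R) (hf : f ∉ p) :
    {q : PrimeSpectrum R | p ≤ q.asIdeal ∧ f ∉ q.asIdeal}.Infinite := by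
  intro hfin
  classical
  set S := {q : PrimeSpectrum R | p ≤ q.asIdeal ∧ f ∉ q.asIdeal ∧ q.asIdeal.IsMaximal} with hS
  have hSf : S.Finite := hfin.subset fun q hq => ⟨hq.1, hq.2.1⟩
  let b : Ideal R := hSf.toFinset.inf fun q => q.asIdeal
  have hle : b * Ideal.span {f} ≤ p := by
    conv_rhs => rw [← IsJacobsonRing.out ‹IsJacobsonRing R› (Ideal.IsPrime.isRadical ‹p.IsPrime›)]
    refine le_sInf fun m hm => ?_
    by_cases hfm : f ∈ m
    · exact Ideal.mul_le_right.trans ((Ideal.span_singleton_le_iff_mem m).mpr hfm)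
    · exact Ideal.mul_le_left.trans (Finset.inf_le (f := fun q : PrimeSpectrum R => q.asIdeal)
        (b := ⟨m, hm.2.isPrime'⟩) (hSf.mem_toFinset.mpr ⟨hm.1, hfm, hm.2⟩))
  rcases (Ideal.IsPrime.mul_le ‹p.IsPrime›).mp hle with h | h
  · obtain ⟨q, hq, hqp⟩ := (Ideal.IsPrime.inf_le' ‹p.IsPrime›).mp h
    obtain ⟨hpq, -, hmax⟩ := hSf.mem_toFinset.mp hq
    exact hp (le_antisymm hpq hqp ▸ hmax)
  · exact hf ((Ideal.span_singleton_le_iff_mem p).mp h)

end Groth.Agent.S9611
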