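import Groth.Statements.S9614
import Groth.Agent.S14442

set_option autoImplicit false
universe u
open CAlg

namespace Groth.Agent.S9614

/-- Let S be an ℕ-graded ring and M a finitely generated graded S-module, graded in nonnegative degrees
(the source allows all integer degrees). If x_1, …, x_n are homogeneous elements of M which generate
M modulo S₊ M (S₊ the irrelevant ideal), then x_1, …, x_n generate M. -/
theorem result {R S : Type u} [CommRing R] [CommRing S] [Algebra R S] (𝒜 : ℕ → Submodule R S) [GradedAlgebra 𝒜]
    (M : Type u) [AddCommGroup M] [Module R M] [Module S M] [IsScalarTower R S M] [Module.Finite S M] (ℳ : ℕ → Submodule R M) [DirectSum.Decomposition ℳ] [SetLike.GradedSMul 𝒜 ℳ]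
    {n : ℕ} (x : Fin n → M) (hx : ∀ i, SetLike.IsHomogeneousElem ℳ (x i))
    (h : Submodule.span S (Set.range x) ⊔ (HomogeneousIdeal.irrelevant 𝒜).toIdeal • (⊤ : Submodule S M) = ⊤) :
    Submodule.span S (Set.range x) = ⊤ := by
  classical
  refine Groth.Agent.S14442.result 𝒜 ℳ _ ?_ (by rw [sup_comm]; exact h)
  intro y hy
  induction hy using Submodule.span_induction with
  | zero => intro i; simp
  | add u v _ _ hu hv => intro i; rw [DirectSum.decompose_add, DirectSum.add_apply, Submodule.coe_add]; exact Submodule.add_mem _ (hu i) (hv i)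
  | mem y hy =>
    intro i
    obtain ⟨j, rfl⟩ := hy
    obtain ⟨d, hd⟩ := hx j
    by_cases hdi : d = i
    · subst hdi; rw [DirectSum.decompose_of_mem_same ℳ hd]; exact Submodule.subset_span ⟨j, rfl⟩
    · rw [DirectSum.decompose_of_mem_ne ℳ hd hdi]; exact Submodule.zero_mem _
  | smul s y _ hy =>
    intro i
    induction s using DirectSum.Decomposition.inductionOn 𝒜 with
    | zero => simp
    | add u v hu hv => rw [add_smul, DirectSum.decompose_add, DirectSum.add_apply, Submodule.coe_add]; exact Submodule.add_mem _ hu hv
    | @homogeneous a s =>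
      rw [← DirectSum.sum_support_decompose ℳ y, Finset.smul_sum, DirectSum.decompose_sum]
      erw [DFinsupp.finset_sum_apply]
      rw [AddSubmonoidClass.coe_finset_sum]
      refine Submodule.sum_mem _ fun l _ => ?_
      have hmem : (s : S) • (DirectSum.decompose ℳ y l : M) ∈ ℳ (a + l) := SetLike.GradedSMul.smul_mem s.2 (DirectSum.decompose ℳ y l).2
      by_cases hil : a + l = i
      · subst hil; rw [DirectSum.decompose_of_mem_same ℳ hmem]; exact Submodule.smul_mem _ _ (hy l)
      · rw [DirectSum.decompose_of_mem_ne ℳ hmem hil]; exact Submodule.zero_mem _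

end Groth.Agent.S9614
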