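import Groth.Statements.S9615
import Mathlib.RingTheory.Polynomial.IsIntegral
import Mathlib.RingTheory.GradedAlgebra.Basic

set_option autoImplicit false
universe u
open CAlg

namespace Groth.Agent.S9615

/-- Let R → S be a homomorphism of ℕ-graded rings, i.e. the structure map carries each graded piece R_i
into S_i. If an element s of S is integral over R, then each homogeneous component of s is integral
over R; so the integral closure of R in S is a graded subring of S. -/
theorem result {R S : Type u} [CommRing R] [CommRing S] [Algebra R S] (ℛ : ℕ → AddSubgroup R) [GradedRing ℛ] (𝒮 : ℕ → AddSubgroup S) [GradedRing 𝒮]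
    (hmap : ∀ i : ℕ, ∀ r ∈ ℛ i, algebraMap R S r ∈ 𝒮 i) (s : S) (hs : IsIntegral R s) (i : ℕ) :
    IsIntegral R ((DirectSum.decompose 𝒮 s i : 𝒮 i) : S) := by
  let φ : S →+* Polynomial S := (DirectSum.toSemiring
    (fun j => (Polynomial.monomial j).toAddMonoidHom.comp (𝒮 j).subtype) Polynomial.monomial_zero_one
    (fun ai aj => (Polynomial.monomial_mul_monomial _ _ _ _).symm)).comp
      (DirectSum.decomposeRingEquiv 𝒮).toRingHom
  let ψ : R →+* Polynomial R := (DirectSum.toSemiring
    (fun j => (Polynomial.monomial j).toAddMonoidHom.comp (ℛ j).subtype) Polynomial.monomial_zero_one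
    (fun ai aj => (Polynomial.monomial_mul_monomial _ _ _ _).symm)).comp
      (DirectSum.decomposeRingEquiv ℛ).toRingHom
  have hφ : ∀ (j : ℕ) (x : 𝒮 j), φ (x : S) = Polynomial.monomial j (x : S) := by
    intro j x
    simp only [φ, RingHom.comp_apply]
    erw [DirectSum.decompose_coe 𝒮 x]
    erw [DirectSum.toSemiring_of]
    rfl
  have hψ : ∀ (j : ℕ) (x : ℛ j), ψ (x : R) = Polynomial.monomial j (x : R) := by
    intro j x
    simp only [ψ, RingHom.comp_apply]
    erw [DirectSum.decompose_coe ℛ x]
    erw [DirectSum.toSemiring_of]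
    rfl
  letI : Algebra (Polynomial R) (Polynomial S) := Polynomial.algebra R S
  have hcomm : φ.comp (algebraMap R S) = (algebraMap (Polynomial R) (Polynomial S)).comp ψ := by
    refine RingHom.ext fun r => ?_
    induction r using DirectSum.Decomposition.inductionOn ℛ with
    | zero => simp
    | @homogeneous j m =>
      show φ ((⟨algebraMap R S m, hmap j m m.2⟩ : 𝒮 j) : S) = Polynomial.map (algebraMap R S) (ψ (m : R))
      rw [hφ, hψ, Polynomial.map_monomial]
    | add a b ha hb => simp only [map_add, ha, hb]
  have hint : IsIntegral (Polynomial R) (φ s) := by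
    obtain ⟨p, hp, hps⟩ := hs
    refine ⟨p.map ψ, hp.map ψ, ?_⟩
    rw [Polynomial.eval₂_map, ← hcomm, ← Polynomial.hom_eval₂, hps, map_zero]
  have hcoef : ∀ t : S, (φ t).coeff i = (DirectSum.decompose 𝒮 t i : S) := by
    intro t
    induction t using DirectSum.Decomposition.inductionOn 𝒮 with
    | zero => simp
    | @homogeneous j m =>
      rw [hφ, Polynomial.coeff_monomial]
      by_cases hji : j = i
      · subst hji
        rw [if_pos rfl, DirectSum.decompose_of_mem_same 𝒮 m.2]
      · rw [if_neg hji, DirectSum.decompose_of_mem_ne 𝒮 m.2 hji]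
    | add a b ha hb =>
      simp only [map_add, Polynomial.coeff_add, ha, hb, DirectSum.decompose_add, DirectSum.add_apply,
        AddSubgroup.coe_add]
  rw [← hcoef]
  exact hint.coeff i

end Groth.Agent.S9615
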