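import Groth.Statements.S9617
import Mathlib.RingTheory.FiniteType
import Mathlib.RingTheory.GradedAlgebra.Basic
import Mathlib.Algebra.Group.Pointwise.Finset.Basic

set_option autoImplicit false
universe u
open CAlg

namespace Groth.Agent.S9617

/-- Let S be an ℕ-graded ring, presented as a graded algebra over a ring A mapping onto S₀, such that S
is of finite type over A, i.e. over S₀. If M is a finitely generated graded S-module, graded in
nonnegative degrees (the source allows all integer degrees), then each graded piece M_n is a finite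
module over A, i.e. over S₀. -/
theorem result {A S : Type u} [CommRing A] [CommRing S] [Algebra A S] (𝒜 : ℕ → Submodule A S) [GradedAlgebra 𝒜]
    (h0 : ∀ s ∈ 𝒜 0, s ∈ Set.range (algebraMap A S)) [Algebra.FiniteType A S]
    (M : Type u) [AddCommGroup M] [Module A M] [Module S M] [IsScalarTower A S M] [Module.Finite S M] (ℳ : ℕ → Submodule A M) [DirectSum.Decomposition ℳ] [SetLike.GradedSMul 𝒜 ℳ] (n : ℕ) :
    Module.Finite A (ℳ n) := by
  classical
  open Pointwise in
    obtain ⟨F, hF⟩ := (Algebra.FiniteType.out : (⊤ : Subalgebra A S).FG)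
    obtain ⟨H, hH⟩ := (Module.Finite.fg_top : (⊤ : Submodule S M).FG)
    -- homogeneous generators of positive degree
    let G : Finset S := F.biUnion fun x => ((DirectSum.decompose 𝒜 x).support.filter (· ≠ 0)).image
      fun d => (DirectSum.decompose 𝒜 x d : S)
    have hG : ∀ x ∈ G, ∃ d, 1 ≤ d ∧ x ∈ 𝒜 d := by
      intro x hx
      simp only [G, Finset.mem_biUnion, Finset.mem_image, Finset.mem_filter] at hx
      obtain ⟨y, -, d, ⟨-, hd⟩, rfl⟩ := hx
      exact ⟨d, Nat.one_le_iff_ne_zero.2 hd, SetLike.coe_mem _⟩
    have hGtop : Algebra.adjoin A (G : Set S) = ⊤ := by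
      rw [eq_top_iff, ← hF, Algebra.adjoin_le_iff]
      intro x hx
      rw [← DirectSum.sum_support_decompose 𝒜 x]
      refine sum_mem fun d hd => ?_
      by_cases h : d = 0
      · subst h
        obtain ⟨a, ha⟩ := h0 _ (SetLike.coe_mem (DirectSum.decompose 𝒜 x 0))
        rw [← ha]
        exact Subalgebra.algebraMap_mem _ a
      · exact Algebra.subset_adjoin (Finset.mem_coe.2 (Finset.mem_biUnion.2 ⟨x, hx,
          Finset.mem_image.2 ⟨d, Finset.mem_filter.2 ⟨hd, h⟩, rfl⟩⟩))
    let P : ℕ → Finset S := fun d => (insert 1 G) ^ d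
    have hmono : ∀ {a b : ℕ}, a ≤ b → P a ⊆ P b := fun h =>
      Finset.pow_subset_pow_right (Finset.mem_insert_self 1 G) h
    have hcl : ∀ s ∈ Submonoid.closure (G : Set S), ∃ d, s ∈ 𝒜 d ∧ s ∈ P d := by
      intro s hs
      induction hs using Submonoid.closure_induction with
      | mem x hx =>
        obtain ⟨d, hd, hxd⟩ := hG x hx
        exact ⟨d, hxd, hmono hd (by simpa [P] using Or.inr hx)⟩
      | one => exact ⟨0, SetLike.one_mem_graded 𝒜, by simp [P]⟩
      | mul x y _ _ hx hy =>
        obtain ⟨d, hxd, hxP⟩ := hx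
        obtain ⟨e, hye, hyP⟩ := hy
        refine ⟨d + e, SetLike.mul_mem_graded hxd hye, ?_⟩
        show x * y ∈ (insert 1 G) ^ (d + e)
        rw [pow_add]
        exact Finset.mul_mem_mul hxP hyP
    let H' : Finset M := H.biUnion fun m => (DirectSum.decompose ℳ m).support.image
      fun d => (DirectSum.decompose ℳ m d : M)
    let T : Finset M := (P n ×ˢ H').image fun p => p.1 • p.2
    let W : Submodule A M := Submodule.span A (T : Set M)
    have hWfg : W.FG := ⟨T, rfl⟩
    let proj : M →ₗ[A] M :=
      (ℳ n).subtype ∘ₗ DirectSum.component A ℕ (fun i => ℳ i) n ∘ₗ (DirectSum.decomposeLinearEquiv ℳ).toLinearMap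
    have hproj : ∀ (x : M) (k : ℕ), x ∈ ℳ k → proj x = if k = n then x else 0 := by
      intro x k hk
      show ((DirectSum.decompose ℳ x n : ℳ n) : M) = _
      split_ifs with h
      · subst h; exact DirectSum.decompose_of_mem_same ℳ hk
      · exact DirectSum.decompose_of_mem_ne ℳ hk h
    have key : ∀ m ∈ H', ∀ s : S, proj (s • m) ∈ W := by
      intro m hm s
      have hs : s ∈ (⊤ : Subalgebra A S).toSubmodule := trivial
      rw [← hGtop, Algebra.adjoin_eq_span] at hs
      induction hs using Submodule.span_induction with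
      | mem x hx =>
        obtain ⟨d, hxd, hxP⟩ := hcl x hx
        obtain ⟨m₀, hm₀, he⟩ : ∃ m₀, ∃ e, m = (DirectSum.decompose ℳ m₀ e : M) := by
          obtain ⟨m₀, -, hm'⟩ := Finset.mem_biUnion.1 hm
          obtain ⟨e, -, he⟩ := Finset.mem_image.1 hm'
          exact ⟨m₀, e, he.symm⟩
        have hmk : m ∈ ℳ hm₀ := he ▸ SetLike.coe_mem _
        have hmem : x • m ∈ ℳ (d + hm₀) := SetLike.GradedSMul.smul_mem hxd hmk
        rw [hproj _ _ hmem]
        split_ifs with h
        · exact Submodule.subset_span (Finset.mem_coe.2 (Finset.mem_image.2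
            ⟨(x, m), Finset.mem_product.2 ⟨hmono (by omega) hxP, hm⟩, rfl⟩))
        · exact zero_mem _
      | zero => rw [zero_smul, map_zero]; exact zero_mem _
      | add x y _ _ hx hy => rw [add_smul, map_add]; exact add_mem hx hy
      | smul a x _ hx => rw [smul_assoc, map_smul]; exact W.smul_mem a hx
    have hle : ℳ n ≤ W := by
      intro x hx
      have hx' : x ∈ (⊤ : Submodule S M) := trivial
      rw [← hH] at hx'
      have hall : ∀ (y : M), y ∈ Submodule.span S (H : Set M) → ∀ s : S, proj (s • y) ∈ W := by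
        intro y hy
        induction hy using Submodule.span_induction with
        | mem m hm =>
          intro s
          rw [← DirectSum.sum_support_decompose ℳ m, Finset.smul_sum, map_sum]
          exact sum_mem fun e he => key _ (Finset.mem_biUnion.2 ⟨m, hm, Finset.mem_image.2 ⟨e, he, rfl⟩⟩) s
        | zero => intro s; rw [smul_zero, map_zero]; exact zero_mem _
        | add x y _ _ hx hy => intro s; rw [smul_add, map_add]; exact add_mem (hx s) (hy s)
        | smul a x _ hx => intro s; rw [smul_smul]; exact hx (s * a)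
      have h := hall x hx' 1
      rwa [one_smul, hproj x n hx, if_pos rfl] at h
    -- `M_n` is the image of `W`
    have heq : ℳ n = W.map proj := by
      refine le_antisymm (fun x hx => ⟨x, hle hx, (hproj x n hx).trans (if_pos rfl)⟩) ?_
      rintro _ ⟨y, -, rfl⟩
      exact SetLike.coe_mem _
    exact Module.Finite.iff_fg.2 (heq ▸ hWfg.map proj)

end Groth.Agent.S9617
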