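import Groth.Statements.S9618
import Groth.Agent.H20.Components

set_option autoImplicit false
universe u
open CAlg

namespace Groth.Agent.S9618

/-- For a ring R and a subset T of Spec R the following are equivalent: (1) T is closed and contains the
connected component of each of its points; (2) T can be written as an intersection of subsets of
Spec R that are both open and closed; (3) T is the common zero locus of some set of idempotent
elements of R (equivalently, of the ideal they generate). -/
theorem result {R : Type u} [CommRing R] (T : Set (PrimeSpectrum R)) :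
    [IsClosed T ∧ ∀ x ∈ T, connectedComponent x ⊆ T,
      ∃ U : Set (Set (PrimeSpectrum R)), (∀ u ∈ U, IsClopen u) ∧ T = ⋂₀ U,
      ∃ E : Set R, (∀ e ∈ E, IsIdempotentElem e) ∧ T = PrimeSpectrum.zeroLocus E].TFAE := by
  tfae_have 1 → 3 := by
    rintro ⟨hcl, hcc⟩
    refine ⟨{e | IsIdempotentElem e ∧ ∀ x ∈ T, e ∈ x.asIdeal}, fun e he => he.1,
      Set.Subset.antisymm (fun x hx e he => he.2 x hx) fun q hq => ?_⟩
    by_contra hqT
    obtain ⟨I, rfl⟩ := (PrimeSpectrum.isClosed_iff_zeroLocus_ideal T).mp hcl
    have htop : Ideal.span (Groth.Agent.H20.Components.idemSet q) ⊔ I = ⊤ := by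
      by_contra hne
      obtain ⟨m, hm, hle⟩ := Ideal.exists_le_maximal _ hne
      let x : PrimeSpectrum R := ⟨m, hm.isPrime'⟩
      have hxT : x ∈ PrimeSpectrum.zeroLocus (I : Set R) := le_sup_right.trans hle
      have hxC : x ∈ connectedComponent q := by
        rw [Groth.Agent.H20.Components.connectedComponent_eq]
        exact fun e he => hle (Ideal.mem_sup_left (Ideal.subset_span he))
      exact hqT (hcc x hxT (by rw [← connectedComponent_eq hxC]; exact mem_connectedComponent))
    obtain ⟨a, ha, i, hi, hai⟩ := Submodule.mem_sup.mp ((Ideal.eq_top_iff_one _).mp htop)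
    obtain ⟨f, hf, hfa⟩ := Groth.Agent.H20.Components.exists_idem_of_mem_span q ha
    have h1f : 1 - f ∈ I := by
      have : 1 - f = (1 - f) * i := by linear_combination (f - 1) * hai - hfa
      rw [this]; exact I.mul_mem_left _ hi
    have hmem : 1 - f ∈ q.asIdeal := hq ⟨hf.1.one_sub, fun x hx => hx h1f⟩
    exact q.2.ne_top ((Ideal.eq_top_iff_one _).mpr (by simpa using q.asIdeal.add_mem hmem hf.2))
  tfae_have 3 → 2 := by
    rintro ⟨E, hE, rfl⟩
    refine ⟨(fun e => PrimeSpectrum.zeroLocus {e}) '' E,
      fun u ⟨e, he, hu⟩ => hu ▸ PrimeSpectrum.isClopen_iff_zeroLocus.mpr ⟨e, hE e he, rfl⟩, ?_⟩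
    ext x
    simp [PrimeSpectrum.mem_zeroLocus, Set.subset_def]
  tfae_have 2 → 1 := by
    rintro ⟨U, hU, rfl⟩
    exact ⟨isClosed_sInter fun u hu => (hU u hu).1, fun x hx =>
      Set.subset_sInter fun u hu => (hU u hu).connectedComponent_subset (hx u hu)⟩
  tfae_finish

end Groth.Agent.S9618
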