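import Groth.Statements.S9619
import Mathlib.RingTheory.Spectrum.Prime.Basic
import Mathlib.Algebra.Ring.Idempotent

set_option autoImplicit false
universe u
open CAlg

namespace Groth.Agent.S9619

/-- For a ring R and two sets E, E' of idempotent elements of R with the same zero locus in Spec R, the
ideals generated by E and by E' are equal. -/
theorem result {R : Type u} [CommRing R] (E E' : Set R) (hE : ∀ e ∈ E, IsIdempotentElem e) (hE' : ∀ e ∈ E', IsIdempotentElem e) (h : PrimeSpectrum.zeroLocus E = PrimeSpectrum.zeroLocus E') :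
    Ideal.span E = Ideal.span E' := by
  suffices h1 : ∀ (E E' : Set R), (∀ e ∈ E, IsIdempotentElem e) →
      PrimeSpectrum.zeroLocus E = PrimeSpectrum.zeroLocus E' → Ideal.span E ≤ Ideal.span E' from
    le_antisymm (h1 E E' hE h) (h1 E' E hE' h.symm)
  intro E E' hE h
  rw [Ideal.span_le]
  intro e he
  have hrad : e ∈ (Ideal.span E').radical := by
    rw [← PrimeSpectrum.vanishingIdeal_zeroLocus_eq_radical, PrimeSpectrum.zeroLocus_span, ← h,
      PrimeSpectrum.mem_vanishingIdeal]
    intro x hx
    exact hx he
  obtain ⟨n, hn⟩ := hrad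
  rcases Nat.eq_zero_or_pos n with rfl | hpos
  · rw [pow_zero] at hn
    rw [(Ideal.eq_top_iff_one _).mpr hn]
    trivial
  · rwa [(hE e he).pow_eq hpos.ne'] at hn

end Groth.Agent.S9619
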