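import Groth.Statements.S9621
import Groth.Agent.H20.Components

set_option autoImplicit false
universe u
open CAlg

namespace Groth.Agent.S9621

/-- Let R be a ring, p a minimal prime of R and W a quasi-compact open subset of Spec R not containing
p. Then there is an f ∈ R, f ∉ p, whose basic open D(f) is disjoint from W. -/
theorem result {R : Type u} [CommRing R] (p : PrimeSpectrum R) (hp : p.asIdeal ∈ minimalPrimes R) (W : Set (PrimeSpectrum R)) (hWo : IsOpen W) (hWc : IsCompact W) (hpW : p ∉ W) :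
    ∃ f : R, f ∉ p.asIdeal ∧ Disjoint (PrimeSpectrum.basicOpen f : Set (PrimeSpectrum R)) W := by
  have key : ∀ q ∈ W, ∃ g : R, g ∉ q.asIdeal ∧ (PrimeSpectrum.basicOpen g : Set _) ⊆ W := fun q hq => by
    obtain ⟨_, ⟨g, rfl⟩, hqg, hgW⟩ :=
      PrimeSpectrum.isTopologicalBasis_basic_opens.exists_subset_of_mem_open hq hWo
    exact ⟨g, hqg, hgW⟩
  choose g hg hgW using key
  have hcov : W ⊆ ⋃ q : W, (PrimeSpectrum.basicOpen (g q q.2) : Set (PrimeSpectrum R)) := fun q hq =>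
    Set.mem_iUnion.mpr ⟨(⟨q, hq⟩ : W), hg q hq⟩
  obtain ⟨t, ht⟩ := hWc.elim_finite_subcover _ (fun q => (PrimeSpectrum.basicOpen _).2) hcov
  have hnil : ∀ x ∈ p.asIdeal, ∃ f ∉ p.asIdeal, IsNilpotent (f * x) := by
    intro x hx
    by_contra! hall
    have hdisj : Disjoint ((⊥ : Ideal R) : Set R) (p.asIdeal.primeCompl ⊔ Submonoid.powers x : Submonoid R) := by
      rw [Set.disjoint_left]
      intro z hz hz'
      rw [SetLike.mem_coe, Ideal.mem_bot] at hz
      subst hz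
      obtain ⟨a, ha, b, ⟨n, hn⟩, hab⟩ := Submonoid.mem_sup.mp hz'
      refine hall a ha ⟨n + 1, ?_⟩
      calc (a * x) ^ (n + 1) = a ^ n * x * (a * x ^ n) := by ring
        _ = 0 := by rw [show x ^ n = b from hn, hab, mul_zero]
    obtain ⟨q, hq, -, hdq⟩ := Ideal.exists_le_prime_disjoint _ _ hdisj
    have hqp : q ≤ p.asIdeal := fun x hx => by
      by_contra hxp
      exact Set.disjoint_left.mp hdq hx (Submonoid.mem_sup_left hxp)
    exact Set.disjoint_left.mp hdq (hp.2 ⟨hq, bot_le⟩ hqp hx) (Submonoid.mem_sup_right ⟨1, pow_one x⟩)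
  have hgp : ∀ q : W, g q q.2 ∈ p.asIdeal := fun q => by
    by_contra h
    exact hpW (hgW q q.2 h)
  choose f hf hfn using fun q : W => hnil _ (hgp q)
  refine ⟨∏ q ∈ t, f q, fun h => ?_, Set.disjoint_left.mpr fun z hz hzW => ?_⟩
  · obtain ⟨q, -, hq⟩ := p.2.prod_mem_iff.mp h
    exact hf q hq
  · obtain ⟨q, hq, hzq⟩ := Set.mem_iUnion₂.mp (ht hzW)
    obtain ⟨n, hn⟩ := hfn q
    rcases z.2.mem_or_mem (z.2.mem_of_pow_mem n (hn ▸ zero_mem _)) with h | h
    · exact hz (z.asIdeal.mem_of_dvd (Finset.dvd_prod_of_mem f hq) h)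
    · exact hzq h

end Groth.Agent.S9621
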