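import Groth.Statements.S9623
import Groth.Agent.H20.GeomIrred

set_option autoImplicit false
universe u
open CAlg

namespace Groth.Agent.S9623

open TensorProduct in
/-- Let k be a separably closed field and R, S two k-algebras with connected (nonempty) spectra. Then
Spec(R ⊗_k S) is connected. -/
theorem result {k R S : Type u} [Field k] [IsSepClosed k] [CommRing R] [CommRing S] [Algebra k R] [Algebra k S]
    [ConnectedSpace (PrimeSpectrum R)] [ConnectedSpace (PrimeSpectrum S)] :
    ConnectedSpace (PrimeSpectrum (R ⊗[k] S)) := by
  haveI : Nontrivial R :=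
    PrimeSpectrum.nonempty_iff_nontrivial.mp (inferInstance : Nonempty (PrimeSpectrum R))
  haveI : Nontrivial S :=
    PrimeSpectrum.nonempty_iff_nontrivial.mp (inferInstance : Nonempty (PrimeSpectrum S))
  apply Groth.Agent.H20.GeomIrred.connectedSpace_tensor
  intro p _
  haveI : ConnectedSpace (PrimeSpectrum (S ⊗[k] p.ResidueField)) := by
    apply Groth.Agent.H20.GeomIrred.connectedSpace_tensor
    intro q _
    haveI := Groth.Agent.Lib.GeomConn.SepClosed.irreducibleSpace_spec_tensor k q.ResidueField p.ResidueField
    infer_instance
  exact Groth.Agent.H20.GeomIrred.connectedSpace_of_ringEquiv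
    (Algebra.TensorProduct.comm k S p.ResidueField).toRingEquiv

end Groth.Agent.S9623
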