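import Groth.Statements.S9626
import Groth.Agent.H20.GeomIrred
import Mathlib.RingTheory.Ideal.GoingDown
import Mathlib.RingTheory.Ideal.MinimalPrime.Localization
import Mathlib.RingTheory.Flat.Stability

set_option autoImplicit false
universe u
open CAlg

namespace Groth.Agent.S9626

open TensorProduct in
/-- Let k be a field, S a k-algebra with Spec(k' ⊗_k S) irreducible for every field extension k'/k, and
R any k-algebra. Then Spec(R ⊗_k S) → Spec(R) induces a bijection on irreducible components: taking
inverse images along R → R ⊗_k S maps the set of minimal primes of R ⊗_k S bijectively onto the set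
of minimal primes of R. Here the test fields range over field extensions in the universe of k; this
is equivalent to the unrestricted notion, since an algebraic closure of k suffices as a test. -/
theorem result {k R S : Type u} [Field k] [CommRing R] [CommRing S] [Algebra k R] [Algebra k S]
    (hS : ∀ (k' : Type u) [Field k'] [Algebra k k'], IrreducibleSpace (PrimeSpectrum (k' ⊗[k] S))) :
    Set.BijOn (Ideal.comap (algebraMap R (R ⊗[k] S))) (minimalPrimes (R ⊗[k] S)) (minimalPrimes R) := by
  haveI : Nontrivial S := by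
    haveI := hS k
    haveI : Nontrivial (k ⊗[k] S) :=
      PrimeSpectrum.nonempty_iff_nontrivial.mp (inferInstance : Nonempty (PrimeSpectrum (k ⊗[k] S)))
    exact (Algebra.TensorProduct.lid k S).injective.nontrivial
  have hinj : Function.Injective (algebraMap R (R ⊗[k] S)) :=
    Algebra.TensorProduct.includeLeft_injective (R := k) (S := R) (A := R) (B := S)
      (algebraMap k S).injective
  refine ⟨fun q hq => ?_, fun q₁ h₁ q₂ h₂ heq => ?_, fun p hp => ?_⟩
  · have hq' : q.IsPrime := hq.1.1
    refine ⟨⟨Ideal.IsPrime.comap _, bot_le⟩, fun p ⟨hp, _⟩ hle => ?_⟩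
    haveI := hp
    haveI : q.LiesOver (q.comap (algebraMap R (R ⊗[k] S))) := ⟨rfl⟩
    obtain ⟨q', hq'le, hq'p, hq'l⟩ :=
      Ideal.exists_ideal_le_liesOver_of_le q (p := p) (q := q.comap (algebraMap R (R ⊗[k] S))) hle
    have : q = q' := le_antisymm (hq.2 ⟨hq'p, bot_le⟩ hq'le) hq'le
    rw [this]
    exact le_of_eq hq'l.over.symm
  · haveI : q₁.IsPrime := h₁.1.1
    haveI : q₂.IsPrime := h₂.1.1
    let p := q₁.comap (algebraMap R (R ⊗[k] S))
    haveI : p.IsPrime := Ideal.IsPrime.comap _
    haveI := hS p.ResidueField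
    have hN := PrimeSpectrum.irreducibleSpace_iff_isPrime_nilradical.mp
      (inferInstance : IrreducibleSpace (PrimeSpectrum (p.ResidueField ⊗[k] S)))
    let φ := Algebra.TensorProduct.map (IsScalarTower.toAlgHom k R p.ResidueField) (AlgHom.id k S)
    have key : ∀ q ∈ minimalPrimes (R ⊗[k] S), q.comap (algebraMap R (R ⊗[k] S)) = p →
        q = (nilradical (p.ResidueField ⊗[k] S)).comap φ := by
      intro q hq hqp
      haveI : q.IsPrime := hq.1.1
      obtain ⟨ψ, hψ⟩ := Groth.Agent.H20.GeomIrred.exists_factor q p hqp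
      have hle : (nilradical (p.ResidueField ⊗[k] S)).comap φ ≤ q := fun z hz => by
        have := (mem_nilradical.mp (Ideal.mem_comap.mp hz)).map ψ
        rw [hψ z] at this
        exact Ideal.algebraMap_residueField_eq_zero.mp this.eq_zero
      exact le_antisymm (hq.2 ⟨Ideal.IsPrime.comap _, bot_le⟩ hle) hle
    exact (key q₁ h₁ rfl).trans (key q₂ h₂ heq.symm).symm
  · obtain ⟨q, hq, hqp⟩ := Ideal.exists_minimalPrimes_comap_eq (I := (⊥ : Ideal (R ⊗[k] S)))
      (algebraMap R (R ⊗[k] S)) p
      (by rw [Ideal.comap_bot_of_injective _ hinj]; exact hp)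
    exact ⟨q, hq, hqp⟩

end Groth.Agent.S9626
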