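import Groth.Statements.S9629
import Groth.Agent.H20.GeomIrred

set_option autoImplicit false
universe u
open CAlg

namespace Groth.Agent.S9629

open TensorProduct in
/-- For a field k and a k-algebra S the following are equivalent: (1) S is geometrically integral, i.e.
k' ⊗_k S is an integral domain for every field extension k'/k; (2) k' ⊗_k S is an integral domain
for every finite field extension k'/k; (3) k̄ ⊗_k S is an integral domain for the algebraic closure
k̄ of k. Here the test fields range over field extensions in the universe of k; this is equivalent
to the unrestricted notion, since an algebraic closure of k suffices as a test. -/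
theorem result {k S : Type u} [Field k] [CommRing S] [Algebra k S] :
    [∀ (k' : Type u) [Field k'] [Algebra k k'], IsDomain (k' ⊗[k] S),
      ∀ (k' : Type u) [Field k'] [Algebra k k'] [Module.Finite k k'], IsDomain (k' ⊗[k] S),
      IsDomain (AlgebraicClosure k ⊗[k] S)].TFAE := by
  tfae_have 1 → 2 := fun h k' _ _ _ => h k'
  tfae_have 2 → 3 := fun h => Groth.Agent.H20.GeomIrred.isDomain_of_algebraic
    fun E _ => h E
  tfae_have 3 → 1 := fun h k' _ _ => by
    haveI := h
    let i : AlgebraicClosure k →ₐ[k] AlgebraicClosure k' := IsAlgClosed.lift
    letI := i.toRingHom.toAlgebra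
    haveI : IsScalarTower k (AlgebraicClosure k) (AlgebraicClosure k') :=
      .of_algebraMap_eq fun c => (i.commutes c).symm
    haveI : IsDomain (AlgebraicClosure k' ⊗[AlgebraicClosure k] (AlgebraicClosure k ⊗[k] S)) := by
      haveI := Groth.Agent.H20.GeomIrred.nontrivial_tensor (AlgebraicClosure k) (AlgebraicClosure k')
        (AlgebraicClosure k ⊗[k] S)
      haveI : NoZeroDivisors (AlgebraicClosure k' ⊗[AlgebraicClosure k] (AlgebraicClosure k ⊗[k] S)) :=
        ⟨fun {a b} => Groth.Agent.Lib.GeomConn.SepClosed.eq_zero_or_eq_zero a b⟩
      exact NoZeroDivisors.to_isDomain _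
    haveI : IsDomain (AlgebraicClosure k' ⊗[k] S) :=
      (Algebra.TensorProduct.cancelBaseChange k (AlgebraicClosure k) (AlgebraicClosure k')
        (AlgebraicClosure k') S).symm.toMulEquiv.isDomain _
    exact Function.Injective.isDomain
      (Algebra.TensorProduct.map (IsScalarTower.toAlgHom k k' (AlgebraicClosure k'))
        (AlgHom.id k S)).toRingHom
      (Groth.Agent.H20.GeomIrred.tensor_map_injective _
        (algebraMap k' (AlgebraicClosure k')).injective _ Function.injective_id)
  tfae_finish

end Groth.Agent.S9629
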