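import Groth.Statements.S9635
import Groth.Agent.H52.FBase.GeomRed
import Groth.Agent.H2.Rigid.H0

set_option autoImplicit false
universe u
open CAlg

namespace Groth.Agent.S9635

open TensorProduct in
/-- Let k ⊆ k' be fields with k' separable algebraic over k, and A a k'-algebra. Then A is geometrically
reduced over k (K ⊗_k A reduced for all field extensions K/k) if and only if A is geometrically
reduced over k' (K ⊗_{k'} A reduced for all field extensions K/k'). Here the test fields K range
over field extensions (of k, respectively of k') in the common universe of k and k'; this is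
equivalent to the unrestricted notions, since an algebraic closure of the base field suffices as a
test. -/
theorem result {k k' A : Type u} [Field k] [Field k'] [Algebra k k'] [Algebra.IsSeparable k k'] [CommRing A] [Algebra k' A] [Algebra k A] [IsScalarTower k k' A] :
    (∀ (K : Type u) [Field K] [Algebra k K], IsReduced (K ⊗[k] A)) ↔
      ∀ (K : Type u) [Field K] [Algebra k' K], IsReduced (K ⊗[k'] A) := by
  constructor
  · intro h K _ _
    letI : Algebra k K := ((algebraMap k' K).comp (algebraMap k k')).toAlgebra
    have : IsScalarTower k k' K := .of_algebraMap_eq fun _ => rfl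
    let R := K ⊗[k] A
    have hR : IsReduced R := h K
    let ι : k' →ₐ[k] R := Algebra.TensorProduct.includeLeft.comp (IsScalarTower.toAlgHom k k' K)
    let κ : k' →ₐ[k] R := Algebra.TensorProduct.includeRight.comp (IsScalarTower.toAlgHom k k' A)
    let J : Ideal R := Ideal.span (Set.range fun a => ι a - κ a)
    have hidem : ∀ a, ∃ e ∈ J, e * e = e ∧ (ι a - κ a) * e = ι a - κ a := by
      intro a
      obtain ⟨r, h1, h2⟩ := Groth.Agent.H2.Rigid.exists_idempotent_of_isIntegral (K := k) (A := R)
        (ι a - κ a) (((Algebra.IsIntegral.isIntegral a).map ι).sub ((Algebra.IsIntegral.isIntegral a).map κ))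
      exact ⟨_, Ideal.mul_mem_right r _ (Ideal.subset_span ⟨a, rfl⟩), h1, h2⟩
    have hfix : ∀ x ∈ J, ∃ e ∈ J, x * e = x := by
      intro x hx
      induction hx using Submodule.span_induction with
      | mem y hy =>
        obtain ⟨a, rfl⟩ := hy
        obtain ⟨e, he, -, h2⟩ := hidem a
        exact ⟨e, he, h2⟩
      | zero => exact ⟨0, J.zero_mem, zero_mul _⟩
      | add x y _ _ hx hy =>
        obtain ⟨e, he, h1⟩ := hx
        obtain ⟨e', he', h2⟩ := hy
        exact ⟨e + e' - e * e', J.sub_mem (J.add_mem he he') (J.mul_mem_right _ he),
          by linear_combination (1 - e') * h1 + (1 - e) * h2⟩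
      | smul r x _ hx =>
        obtain ⟨e, he, h1⟩ := hx
        exact ⟨e, he, by rw [smul_eq_mul, mul_assoc, h1]⟩
    let Q := R ⧸ J
    have hQ : IsReduced Q := by
      constructor
      rintro q ⟨n, hn⟩
      obtain ⟨x, rfl⟩ := Ideal.Quotient.mk_surjective q
      rw [← map_pow, Ideal.Quotient.eq_zero_iff_mem] at hn
      obtain ⟨e, he, hxe⟩ := hfix _ hn
      have h0 : x * (1 - e) = 0 := IsReduced.eq_zero _ ⟨n + 1, by
        rw [mul_pow, pow_succ (1 - e) n,
          show x ^ (n + 1) * ((1 - e) ^ n * (1 - e)) = x * (1 - e) ^ n * (x ^ n - x ^ n * e) by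
            rw [pow_succ]; ring, hxe, sub_self, mul_zero]⟩
      exact Ideal.Quotient.eq_zero_iff_mem.2 (by
        rw [show x = x * e by linear_combination h0]; exact J.mul_mem_left _ he)
    let π : R →ₐ[k] Q := Ideal.Quotient.mkₐ k J
    let f : K →ₐ[k'] Q :=
      { toRingHom := (π.comp Algebra.TensorProduct.includeLeft).toRingHom
        commutes' := fun _ => rfl }
    let g : A →ₐ[k'] Q :=
      { toRingHom := (π.comp Algebra.TensorProduct.includeRight).toRingHom
        commutes' := fun a => by
          show π (κ a) = π (ι a)
          refine (Ideal.Quotient.eq.2 ?_).symm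
          exact Ideal.subset_span ⟨a, rfl⟩ }
    let ψ := Algebra.TensorProduct.lift f g fun _ _ => Commute.all _ _
    let φ : R →ₐ[k] K ⊗[k'] A := Algebra.TensorProduct.lift
      ((Algebra.TensorProduct.includeLeft (R := k') (S := k') (A := K) (B := A)).restrictScalars k)
      ((Algebra.TensorProduct.includeRight (R := k') (A := K) (B := A)).restrictScalars k)
      fun _ _ => Commute.all _ _
    have hφ : ∀ (a : K) (b : A), φ (a ⊗ₜ[k] b) = a ⊗ₜ[k'] b := fun a b => by
      show (a ⊗ₜ[k'] (1 : A)) * ((1 : K) ⊗ₜ[k'] b) = _
      simp
    have hJ : ∀ x ∈ J, φ x = 0 := by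
      intro x hx
      refine (Ideal.span_le (I := RingHom.ker φ)).2 ?_ hx
      rintro _ ⟨a, rfl⟩
      refine (RingHom.mem_ker (f := φ)).2 ?_
      rw [map_sub]
      show φ (algebraMap k' K a ⊗ₜ[k] (1 : A)) - φ ((1 : K) ⊗ₜ[k] algebraMap k' A a) = 0
      rw [hφ, hφ, Algebra.algebraMap_eq_smul_one a, Algebra.algebraMap_eq_smul_one a,
        TensorProduct.smul_tmul, sub_self]
    have hinj : Function.Injective ψ := by
      have : ∀ w, Ideal.Quotient.lift J φ.toRingHom hJ (ψ w) = w := by
        intro w
        induction w using TensorProduct.induction_on with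
        | zero => simp
        | tmul a b =>
          show φ ((a ⊗ₜ[k] (1 : A)) * ((1 : K) ⊗ₜ[k] b)) = _
          rw [Algebra.TensorProduct.tmul_mul_tmul, mul_one, one_mul, hφ]
        | add a b ha hb => rw [map_add, map_add, ha, hb]
      exact Function.LeftInverse.injective this
    exact isReduced_of_injective ψ hinj
  · intro h K _ _
    have hB : IsReduced (k' ⊗[k] K) := by
      have : Algebra.IsGeometricallyReduced k k' := by
        rw [Algebra.isGeometricallyReduced_field_iff]
        exact IsReduced.tensorProduct_of_flat_of_forall_fg fun C hC => by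
          have : Algebra.FiniteType k C := C.fg_iff_finiteType.mp hC
          have : Algebra.IsIntegral k C := Algebra.IsIntegral.of_injective C.val Subtype.val_injective
          have : Module.Finite k C := Algebra.IsIntegral.finite
          letI : Field C := (Algebra.IsIntegral.isField_iff_isField
            (FaithfulSMul.algebraMap_injective k C)).mp (Field.toIsField k) |>.toField
          have : Algebra.IsSeparable k C := Algebra.IsSeparable.of_algHom k k' C.val
          have : Algebra.FormallyUnramified k C := Algebra.FormallyUnramified.of_isSeparable k C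
          exact Algebra.FormallyUnramified.isReduced_of_field (AlgebraicClosure k) _
      exact Groth.Agent.H52.FBase.GeomRed.isReduced_tensor_field K
    have : Algebra.IsGeometricallyReduced k' A := by
      rw [Algebra.isGeometricallyReduced_field_iff]
      exact h _
    have := Groth.Agent.H52.FBase.GeomRed.isReduced_tensor (k := k') (A := A) (B := k' ⊗[k] K)
    have e := (Algebra.TensorProduct.cancelBaseChange k k' A A K).toRingEquiv.symm
    have := isReduced_of_injective e e.injective
    exact isReduced_of_injective (Algebra.TensorProduct.comm k K A) (AlgEquiv.injective _)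


end Groth.Agent.S9635
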