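import Groth.Statements.S9636
import Mathlib.RingTheory.Kaehler.Basic
import Mathlib.Algebra.Polynomial.Identities
import Mathlib.FieldTheory.Separable
import Mathlib.RingTheory.Localization.Defs

set_option autoImplicit false
universe u
open CAlg

namespace Groth.Agent.S9636

open TensorProduct in
/-- Let k'/k be a separable algebraic field extension. Then for some multiplicative subset S of k' ⊗_k
k' the multiplication map k' ⊗_k k' → k' is a localization at S: there is a ring isomorphism S⁻¹(k'
⊗_k k') ≅ k' carrying the localization map to the multiplication map. -/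
theorem result {k k' : Type u} [Field k] [Field k'] [Algebra k k'] [Algebra.IsSeparable k k'] :
    ∃ (S : Submonoid (k' ⊗[k] k')) (e : Localization S ≃+* k'), ∀ x : k' ⊗[k] k', e (algebraMap (k' ⊗[k] k') (Localization S) x) = Algebra.TensorProduct.lmul' (S := k') k x := by
  classical
  let μ : k' ⊗[k] k' →ₐ[k] k' := Algebra.TensorProduct.lmul' (S := k') k
  let S : Submonoid (k' ⊗[k] k') := (nonZeroDivisors k').comap (μ : k' ⊗[k] k' →* k')
  have hS : ∀ t, t ∈ S ↔ μ t ≠ 0 := fun t => mem_nonZeroDivisors_iff_ne_zero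
  have hgen : ∀ a : k', ∃ t ∈ S, t * ((1 : k') ⊗ₜ[k] a - a ⊗ₜ[k] (1 : k')) = 0 := by
    intro a
    let f := minpoly k a
    let z : k' ⊗[k] k' := a ⊗ₜ[k] 1
    let y : k' ⊗[k] k' := (1 : k') ⊗ₜ[k] a - z
    let F := f.map (algebraMap k (k' ⊗[k] k'))
    obtain ⟨c, hc⟩ := Polynomial.binomExpansion F z y
    have h1 : F.eval z = 0 := by
      rw [show F.eval z = Polynomial.aeval ((Algebra.TensorProduct.includeLeft : k' →ₐ[k] k' ⊗[k] k') a) f by
        rw [Polynomial.eval_map_algebraMap]; rfl, Polynomial.aeval_algHom_apply, minpoly.aeval, map_zero]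
    have h2 : F.eval (z + y) = 0 := by
      rw [show z + y = (Algebra.TensorProduct.includeRight : k' →ₐ[k] k' ⊗[k] k') a by simp [y],
        Polynomial.eval_map_algebraMap, Polynomial.aeval_algHom_apply, minpoly.aeval, map_zero]
    rw [h1, h2, zero_add] at hc
    refine ⟨F.derivative.eval z + c * y, (hS _).mpr ?_, ?_⟩
    · rw [map_add, map_mul, show μ y = 0 by simp [y, z, μ], mul_zero, add_zero,
        Polynomial.derivative_map, Polynomial.eval_map_algebraMap, ← Polynomial.aeval_algHom_apply,
        show μ z = a by simp [z, μ]]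
      exact (Algebra.IsSeparable.isSeparable k a).aeval_derivative_ne_zero (minpoly.aeval k a)
    · show (F.derivative.eval z + c * y) * y = 0
      rw [hc]; ring
  have hker : ∀ x, μ x = 0 → ∃ t ∈ S, t * x = 0 := by
    intro x hx
    have hx' : x ∈ Ideal.span (Set.range fun s : k' => (1 : k') ⊗ₜ[k] s - s ⊗ₜ[k] (1 : k')) := by
      rw [KaehlerDifferential.span_range_eq_ideal]; exact hx
    clear hx
    induction hx' using Submodule.span_induction with
    | mem y hy => obtain ⟨a, rfl⟩ := hy; exact hgen a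
    | zero => exact ⟨1, S.one_mem, mul_zero _⟩
    | add a b _ _ ha hb =>
      obtain ⟨t, ht, hta⟩ := ha
      obtain ⟨t', ht', htb⟩ := hb
      refine ⟨t * t', S.mul_mem ht ht', ?_⟩
      rw [mul_add, mul_right_comm, hta, zero_mul, zero_add, mul_assoc, htb, mul_zero]
    | smul c a _ ha =>
      obtain ⟨t, ht, hta⟩ := ha
      exact ⟨t, ht, by rw [smul_eq_mul, mul_left_comm, hta, mul_zero]⟩
  let g : Localization S →+* k' :=
    IsLocalization.lift (M := S) (g := μ.toRingHom) fun y => isUnit_iff_ne_zero.mpr ((hS _).mp y.2)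
  refine ⟨S, RingEquiv.ofBijective g ⟨(injective_iff_map_eq_zero g).mpr fun x hx => ?_, fun y => ?_⟩,
    fun x => IsLocalization.lift_eq _ x⟩
  · obtain ⟨⟨a, s⟩, ha⟩ := IsLocalization.surj S x
    have h := congrArg g ha
    rw [map_mul, hx, zero_mul, IsLocalization.lift_eq] at h
    obtain ⟨t, ht, hta⟩ := hker a h.symm
    refine (IsLocalization.map_units (Localization S) s).mul_left_eq_zero.mp (ha.trans ?_)
    exact (IsLocalization.map_eq_zero_iff S (Localization S) a).mpr ⟨⟨t, ht⟩, hta⟩
  · exact ⟨algebraMap _ _ (y ⊗ₜ[k] (1 : k')), (IsLocalization.lift_eq _ _).trans (by simp [μ])⟩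

end Groth.Agent.S9636
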