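import Groth.Statements.S9641
import Groth.Agent.H20.GeomIrred

set_option autoImplicit false
universe u
open CAlg

namespace Groth.Agent.S9641

open TensorProduct in
/-- Let k be a field and R, S two k-algebras. If R ⊗_k S is not reduced then there are finitely
generated k-subalgebras R' ⊆ R and S' ⊆ S such that R' ⊗_k S' is not reduced. -/
theorem result {k R S : Type u} [Field k] [CommRing R] [CommRing S] [Algebra k R] [Algebra k S] (h : ¬ IsReduced (R ⊗[k] S)) :
    ∃ (R' : Subalgebra k R) (S' : Subalgebra k S), R'.FG ∧ S'.FG ∧ ¬ IsReduced (R' ⊗[k] S') := by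
  obtain ⟨x, hx, hx0⟩ : ∃ x : R ⊗[k] S, IsNilpotent x ∧ x ≠ 0 := by
    by_contra! hc
    exact h ⟨hc⟩
  classical
  obtain ⟨s, hs⟩ := TensorProduct.exists_finset x
  refine ⟨Algebra.adjoin k (s.image Prod.fst : Set R), Algebra.adjoin k (s.image Prod.snd : Set S),
    Subalgebra.fg_adjoin_finset _, Subalgebra.fg_adjoin_finset _, fun hred => ?_⟩
  set R' := Algebra.adjoin k (s.image Prod.fst : Set R)
  set S' := Algebra.adjoin k (s.image Prod.snd : Set S)
  let f := Algebra.TensorProduct.map R'.val S'.val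
  have hf : Function.Injective f :=
    Groth.Agent.H20.GeomIrred.tensor_map_injective _ Subtype.val_injective _ Subtype.val_injective
  obtain ⟨y, hy⟩ : ∃ y, f y = x := by
    change x ∈ f.range
    rw [hs]
    exact sum_mem fun p hp => ⟨(⟨p.1, Algebra.subset_adjoin (Finset.mem_coe.mpr
      (Finset.mem_image_of_mem _ hp))⟩ : R') ⊗ₜ (⟨p.2, Algebra.subset_adjoin (Finset.mem_coe.mpr
      (Finset.mem_image_of_mem _ hp))⟩ : S'), rfl⟩
  rw [← hy] at hx hx0
  have := hred.eq_zero y ((IsNilpotent.map_iff hf).mp hx)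
  exact hx0 (by rw [this, map_zero])

end Groth.Agent.S9641
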