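import Groth.Statements.S9642
import Mathlib.RingTheory.LocalRing.ResidueField.Fiber

set_option autoImplicit false
universe u
open CAlg

namespace Groth.Agent.S9642

/-- In the general form stated there: let R → S be a ring map inducing an open map Spec(S) → Spec(R),
with Spec(R) irreducible, such that for a dense set of primes p of R the fibre ring κ(p) ⊗_R S has
irreducible spectrum. Then Spec(S) is irreducible. The flat and finitely presented case is the
special case in which the map on spectra is open by fppf-openness. -/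
theorem result {R S : Type u} [CommRing R] [CommRing S] [Algebra R S]
    (hopen : IsOpenMap (PrimeSpectrum.comap (algebraMap R S))) [IrreducibleSpace (PrimeSpectrum R)]
    (D : Set (PrimeSpectrum R)) (hD : Dense D) (hfib : ∀ p ∈ D, IrreducibleSpace (PrimeSpectrum (p.asIdeal.Fiber S))) :
    IrreducibleSpace (PrimeSpectrum S) := by
  have hne : Nonempty (PrimeSpectrum S) := by
    obtain ⟨p, hp⟩ := hD.nonempty
    obtain ⟨z⟩ := (hfib p hp).toNonempty
    exact ⟨((PrimeSpectrum.preimageHomeomorphFiber R S p).symm z).1⟩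
  refine @IrreducibleSpace.mk _ _ ⟨?_⟩ hne
  rintro U V hU hV ⟨u, -, hu⟩ ⟨v, -, hv⟩
  obtain ⟨w, -, hwU, hwV⟩ := PreirreducibleSpace.isPreirreducible_univ _ _ (hopen U hU) (hopen V hV)
    ⟨_, trivial, u, hu, rfl⟩ ⟨_, trivial, v, hv, rfl⟩
  obtain ⟨p, hpD, ⟨a, ha, hap⟩, ⟨b, hb, hbp⟩⟩ :=
    hD.exists_mem_open ((hopen U hU).inter (hopen V hV)) ⟨w, hwU, hwV⟩
  let e := PrimeSpectrum.preimageHomeomorphFiber R S p
  have hirr := (hfib p hpD).isPreirreducible_univ
  obtain ⟨z, -, hzU, hzV⟩ := hirr (e.symm ⁻¹' (Subtype.val ⁻¹' U))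
    (e.symm ⁻¹' (Subtype.val ⁻¹' V))
    ((hU.preimage continuous_subtype_val).preimage e.symm.continuous)
    ((hV.preimage continuous_subtype_val).preimage e.symm.continuous)
    ⟨e ⟨a, hap⟩, trivial, by simpa using ha⟩ ⟨e ⟨b, hbp⟩, trivial, by simpa using hb⟩
  exact ⟨(e.symm z).1, trivial, hzU, hzV⟩

end Groth.Agent.S9642
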