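import Groth.Statements.S9643
import Mathlib.RingTheory.Support
import Mathlib.RingTheory.Ideal.Maps

set_option autoImplicit false
universe u
open CAlg

namespace Groth.Agent.S9643

/-- Let R be a Noetherian ring, M a finite R-module and 0 = M_0 ⊆ M_1 ⊆ ⋯ ⊆ M_n = M a chain of
submodules whose successive quotients M_i/M_{i-1} are isomorphic to R/p_i for prime ideals p_i. Then
the primes minimal among p_1, …, p_n are exactly the primes minimal in the support of M. -/
theorem result {R : Type u} [CommRing R] [IsNoetherianRing R] (M : Type u) [AddCommGroup M] [Module R M] [Module.Finite R M]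
    {n : ℕ} (N : Fin (n + 1) → Submodule R M) (hN : Monotone N) (h0 : N 0 = ⊥) (hlast : N (Fin.last n) = ⊤)
    (p : Fin n → PrimeSpectrum R)
    (hquot : ∀ i : Fin n, Nonempty ((↥(N i.succ) ⧸ Submodule.comap (N i.succ).subtype (N i.castSucc)) ≃ₗ[R] (R ⧸ (p i).asIdeal))) :
    {q : PrimeSpectrum R | Minimal (fun x => x ∈ Set.range p) q} = {q : PrimeSpectrum R | Minimal (fun x => x ∈ Module.support R M) q} := by
  classical
  have hquot' : ∀ i : Fin n, Module.support R
      (↥(N i.succ) ⧸ Submodule.comap (N i.succ).subtype (N i.castSucc)) =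
      PrimeSpectrum.zeroLocus ((p i).asIdeal : Set R) := fun i => by
    rw [(hquot i).some.support_eq, Module.support_eq_zeroLocus, Ideal.annihilator_quotient]
  have key : ∀ i : Fin (n + 1), Module.support R (N i) =
      ⋃ (j : Fin n) (_ : j.castSucc < i), PrimeSpectrum.zeroLocus ((p j).asIdeal : Set R) := by
    intro i
    induction i using Fin.induction with
    | zero =>
      rw [h0]
      simp [Module.support_eq_empty_iff]
      infer_instance
    | succ i ih =>
      have hle : N i.castSucc ≤ N i.succ := hN i.castSucc_le_succ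
      rw [Module.support_of_exact
        (f := Submodule.inclusion hle)
        (g := (Submodule.comap (N i.succ).subtype (N i.castSucc)).mkQ)
        (by rw [LinearMap.exact_iff, Submodule.ker_mkQ, Submodule.range_inclusion])
        (Submodule.inclusion_injective hle) (Submodule.mkQ_surjective _), ih, hquot']
      ext q
      simp only [Set.mem_union, Set.mem_iUnion, exists_prop]
      constructor
      · rintro (⟨j, hj, hq⟩ | hq)
        · exact ⟨j, hj.trans i.castSucc_lt_succ, hq⟩
        · exact ⟨i, i.castSucc_lt_succ, hq⟩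
      · rintro ⟨j, hj, hq⟩
        rcases (Fin.castSucc_lt_succ_iff.mp hj).lt_or_eq with h | h
        · exact Or.inl ⟨j, Fin.castSucc_lt_castSucc_iff.mpr h, hq⟩
        · exact Or.inr (h ▸ hq)
  have hsupp : ∀ q, q ∈ Module.support R M ↔ ∃ j, p j ≤ q := by
    intro q
    rw [← (LinearEquiv.ofTop (N (Fin.last n)) hlast).support_eq, key]
    simp only [Set.mem_iUnion, exists_prop, PrimeSpectrum.mem_zeroLocus, SetLike.coe_subset_coe]
    exact ⟨fun ⟨j, _, h⟩ => ⟨j, h⟩, fun ⟨j, h⟩ => ⟨j, j.castSucc_lt_last, h⟩⟩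
  ext q
  simp only [Set.mem_ofPred_eq, Minimal, Set.mem_range, hsupp]
  constructor
  · rintro ⟨⟨j, rfl⟩, hmin⟩
    exact ⟨⟨j, le_rfl⟩, fun y ⟨i, hi⟩ hy => (hmin ⟨i, rfl⟩ (hi.trans hy)).trans hi⟩
  · rintro ⟨⟨j, hj⟩, hmin⟩
    have : p j = q := le_antisymm hj (hmin ⟨j, le_rfl⟩ hj)
    exact ⟨⟨j, this⟩, fun y ⟨i, hi⟩ hy => hmin ⟨i, hi.le⟩ hy⟩

end Groth.Agent.S9643
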