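import Groth.Statements.S9644
import Mathlib.RingTheory.Ideal.AssociatedPrime.Localization
import Mathlib.RingTheory.Ideal.MinimalPrime.Noetherian
import Mathlib.RingTheory.Localization.Module
import Mathlib.RingTheory.Support
import Mathlib.RingTheory.Spectrum.Prime.Topology

set_option autoImplicit false
universe u
open CAlg

namespace Groth.Agent.S9644

theorem mk_eq_zero_iff' {R : Type u} [CommRing R] {S : Submonoid R} {M : Type u} [AddCommGroup M]
    [Module R M] (x : M) (s : S) : LocalizedModule.mk x s = 0 ↔ ∃ u : S, u • x = 0 := by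
  rw [← LocalizedModule.zero_mk 1, LocalizedModule.mk_eq]
  simp

/-- Let R be a Noetherian ring and M a finite R-module. Among the submodules K' of M whose support is
nowhere dense inside Supp(M) there is a largest one, K. The quotient M' = M/K then satisfies
Supp(M') = Supp(M), its associated primes are pairwise incomparable (no embedded ones), and whenever
f ∈ R belongs to every embedded associated prime of M the localized map M_f → M'_f is bijective. -/
theorem result {R : Type u} [CommRing R] [IsNoetherianRing R] (M : Type u) [AddCommGroup M] [Module R M] [Module.Finite R M] :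
    ∃ K : Submodule R M,
      IsGreatest {K' : Submodule R M | ∀ U : Set (PrimeSpectrum R), IsOpen U → U ∩ Module.support R M ⊆ closure (Module.support R ↥K') → U ∩ Module.support R M = ∅} K ∧
      Module.support R (M ⧸ K) = Module.support R M ∧
      (∀ p ∈ associatedPrimes R (M ⧸ K), ∀ q ∈ associatedPrimes R (M ⧸ K), p ≤ q → p = q) ∧
      ∀ f : R, (∀ p ∈ associatedPrimes R M, ¬ Minimal (fun x => x ∈ associatedPrimes R M) p → f ∈ p) →
        Function.Bijective (LocalizedModule.map (Submonoid.powers f) K.mkQ) := by
  classical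
  let A := Module.annihilator R M
  let Mn := A.minimalPrimes
  have hfin : Mn.Finite := Ideal.finite_minimalPrimes_of_isNoetherianRing R A
  have hsuppM : ∀ q : PrimeSpectrum R, q ∈ Module.support R M ↔ A ≤ q.asIdeal := fun q =>
    Module.mem_support_iff_of_finite
  let K : Submodule R M :=
    ⨅ (p : Ideal R) (hp : p ∈ Mn), haveI := hp.isPrime
      LinearMap.ker (LocalizedModule.mkLinearMap p.primeCompl M)
  have hK : ∀ x, x ∈ K ↔ ∀ p ∈ Mn, ∃ s, s ∉ p ∧ s • x = 0 := by
    intro x
    simp only [K, Submodule.mem_iInf, LinearMap.mem_ker]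
    refine forall₂_congr fun p hp => ?_
    haveI := hp.isPrime
    rw [IsLocalizedModule.eq_zero_iff p.primeCompl]
    exact ⟨fun ⟨s, hs⟩ => ⟨s, s.2, hs⟩, fun ⟨s, hs, h⟩ => ⟨⟨s, hs⟩, h⟩⟩
  have hKsupp : ∀ p, ∀ hp : p ∈ Mn, (⟨p, hp.isPrime⟩ : PrimeSpectrum R) ∉ Module.support R K := by
    intro p hp h
    obtain ⟨⟨x, hx⟩, h⟩ := Module.mem_support_iff'.mp h
    obtain ⟨s, hs, hsx⟩ := (hK x).mp hx p hp
    exact h s hs (Subtype.ext hsx)
  have hgreat : ∀ K' : Submodule R M,
      (∀ U : Set (PrimeSpectrum R), IsOpen U → U ∩ Module.support R M ⊆ closure (Module.support R K') →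
        U ∩ Module.support R M = ∅) ↔ K' ≤ K := by
    intro K'
    have hcl : IsClosed (Module.support R K') := by
      rw [Module.support_eq_zeroLocus]
      exact PrimeSpectrum.isClosed_zeroLocus _
    rw [hcl.closure_eq]
    constructor
    · intro h x hx
      rw [hK]
      intro p hp
      by_contra! hno
      let U : Set (PrimeSpectrum R) :=
        (⋃ q ∈ Mn \ {p}, PrimeSpectrum.zeroLocus (q : Set R))ᶜ
      have hU : IsOpen U := ((hfin.subset Set.sdiff_subset).isClosed_biUnion fun q _ =>
        PrimeSpectrum.isClosed_zeroLocus _).isOpen_compl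
      have hp' : (⟨p, hp.isPrime⟩ : PrimeSpectrum R) ∈ U ∩ Module.support R M := by
        refine ⟨?_, (hsuppM _).mpr hp.1.2⟩
        simp only [U, Set.mem_compl_iff, Set.mem_iUnion, not_exists]
        intro q hq hle
        exact hq.2 (le_antisymm hle (hp.2 hq.1.1 hle))
      have hsub : U ∩ Module.support R M ⊆ Module.support R K' := by
        rintro r ⟨hrU, hr⟩
        obtain ⟨q, hq, hqr⟩ := Ideal.exists_minimalPrimes_le ((hsuppM r).mp hr)
        have hqp : q = p := by
          by_contra hne
          exact hrU (Set.mem_biUnion ⟨hq, hne⟩ hqr)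
        subst hqp
        rw [Module.mem_support_iff']
        exact ⟨⟨x, hx⟩, fun s hs h => hno s (fun hsp => hs (hqr hsp)) (congrArg Subtype.val h)⟩
      exact Set.notMem_empty _ (h U hU hsub ▸ hp')
    · intro hle U hU hsub
      refine Set.eq_empty_iff_forall_notMem.mpr fun r ⟨hrU, hr⟩ => ?_
      obtain ⟨p, hp, hpr⟩ := Ideal.exists_minimalPrimes_le ((hsuppM r).mp hr)
      have hpU : (⟨p, hp.isPrime⟩ : PrimeSpectrum R) ∈ U :=
        ((PrimeSpectrum.le_iff_specializes _ _).mp
          (show (⟨p, hp.isPrime⟩ : PrimeSpectrum R) ≤ r from hpr)).mem_open hU hrU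
      exact hKsupp p hp (Module.support_subset_of_injective (Submodule.inclusion hle)
        (Submodule.inclusion_injective hle) (hsub ⟨hpU, (hsuppM _).mpr hp.1.2⟩))
  refine ⟨K, ⟨(hgreat K).mpr le_rfl, fun K' hK' => (hgreat K').mp hK'⟩, ?_, ?_, ?_⟩
  · refine subset_antisymm (Module.support_subset_of_surjective K.mkQ (Submodule.mkQ_surjective K))
      fun r hr => ?_
    obtain ⟨p, hp, hpr⟩ := Ideal.exists_minimalPrimes_le ((hsuppM r).mp hr)
    have h := (hsuppM ⟨p, hp.isPrime⟩).mpr hp.1.2
    rw [Module.support_of_exact (f := K.subtype) (g := K.mkQ)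
      (LinearMap.exact_subtype_mkQ K) K.subtype_injective (Submodule.mkQ_surjective K)] at h
    have h' := h.resolve_left (hKsupp p hp)
    rw [Module.mem_support_iff_of_finite] at h' ⊢
    exact h'.trans hpr
  · have hass : ∀ P ∈ associatedPrimes R (M ⧸ K), P ∈ Mn := by
      intro P hP
      haveI := hP.isPrime
      obtain ⟨y, hy⟩ := (isAssociatedPrime_iff.mp hP).2
      obtain ⟨x, rfl⟩ := K.mkQ_surjective y
      have hx : x ∉ K := fun h => hP.isPrime.ne_top ((Ideal.eq_top_iff_one _).mpr (by
        rw [hy, Submodule.mem_colon_singleton, one_smul, Submodule.mem_bot]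
        exact (Submodule.Quotient.mk_eq_zero K).mpr h))
      rw [hK] at hx
      push Not at hx
      obtain ⟨p, hp, hpx⟩ := hx
      have hAP : A ≤ P := fun a ha => by
        rw [hy, Submodule.mem_colon_singleton, Submodule.mem_bot, ← map_smul,
          Module.mem_annihilator.mp ha x, map_zero]
      have hPp : P ≤ p := fun s hs => by
        rw [hy, Submodule.mem_colon_singleton, Submodule.mem_bot, ← map_smul] at hs
        obtain ⟨t, ht, hts⟩ := (hK _).mp ((Submodule.Quotient.mk_eq_zero K).mp hs) p hp
        rw [smul_smul] at hts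
        by_contra hsp
        exact hpx (t * s) (hp.isPrime.mul_notMem ht hsp) hts
      rwa [le_antisymm hPp (hp.2 ⟨inferInstance, hAP⟩ hPp)]
    intro P hP Q hQ hle
    exact le_antisymm hle ((hass Q hQ).2 ⟨hP.isPrime, (hass P hP).1.2⟩ hle)
  · intro f hf
    refine ⟨?_, LocalizedModule.map_surjective _ _ (Submodule.mkQ_surjective K)⟩
    rw [injective_iff_map_eq_zero]
    intro z hz
    induction z using LocalizedModule.induction_on with
    | h x s =>
      rw [LocalizedModule.map_mk] at hz
      rw [mk_eq_zero_iff'] at hz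
      obtain ⟨⟨_, n, rfl⟩, hn⟩ := hz
      change f ^ n • K.mkQ x = 0 at hn
      rw [← map_smul, Submodule.mkQ_apply, Submodule.Quotient.mk_eq_zero] at hn
      have hrad : f ∈ (Module.annihilator R K).radical := by
        rw [← Ideal.sInf_minimalPrimes, Ideal.mem_sInf]
        intro P hP
        have hPK := Module.associatedPrimes.minimalPrimes_annihilator_subset_associatedPrimes R K hP
        have hPM : P ∈ associatedPrimes R M :=
          associatedPrimes.subset_of_injective K.subtype_injective hPK
        refine hf P hPM fun hmin => ?_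
        have hsP : (⟨P, hP.isPrime⟩ : PrimeSpectrum R) ∈ Module.support R K :=
          Module.mem_support_iff_of_finite.mpr hP.1.2
        have hAP : A ≤ P := (hsuppM ⟨P, hP.isPrime⟩).mp
          (Module.support_subset_of_injective K.subtype K.subtype_injective hsP)
        haveI := hP.isPrime
        obtain ⟨q, hq, hqP⟩ := Ideal.exists_minimalPrimes_le hAP
        have hqM := Module.associatedPrimes.minimalPrimes_annihilator_subset_associatedPrimes R M hq
        obtain rfl : q = P := le_antisymm hqP (hmin.2 hqM hqP)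
        exact hKsupp q hq hsP
      obtain ⟨m, hm⟩ := hrad
      refine (mk_eq_zero_iff' x s).mpr ⟨⟨f ^ (m + n), m + n, rfl⟩, ?_⟩
      show f ^ (m + n) • x = 0
      rw [pow_add, mul_smul]
      exact congrArg Subtype.val (Module.mem_annihilator.mp hm ⟨_, hn⟩)

end Groth.Agent.S9644
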