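import Groth.Statements.S9645
import Mathlib.RingTheory.Localization.Integral
import Mathlib.RingTheory.Polynomial.ScaleRoots

set_option autoImplicit false
universe u
open CAlg

namespace Groth.Agent.S9645

/-- Integral closure commutes with localization. Let A → B be a ring map, S a multiplicative subset of
A, and A_S, B_S the localizations of A at S and of B at the image of S. Then an element x of B_S is
integral over A_S if and only if x·s = b for some s ∈ S and some b ∈ B integral over A (images taken
in B_S); that is, the integral closure of A_S in B_S is S⁻¹B' for B' the integral closure of A in B. -/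
theorem result {A B As Bs : Type u} [CommRing A] [CommRing B] [CommRing As] [CommRing Bs] [Algebra A B] [Algebra A As] [Algebra B Bs] [Algebra As Bs] [Algebra A Bs] [IsScalarTower A B Bs] [IsScalarTower A As Bs]
    (S : Submonoid A) [IsLocalization S As] [IsLocalization (Algebra.algebraMapSubmonoid B S) Bs] (x : Bs) :
    IsIntegral As x ↔ ∃ b : B, IsIntegral A b ∧ ∃ s ∈ S, x * algebraMap A Bs s = algebraMap B Bs b := by
  constructor
  · intro hx
    obtain ⟨⟨b0, t⟩, hbt⟩ := IsLocalization.surj (Algebra.algebraMapSubmonoid B S) x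
    obtain ⟨_, ⟨s0, hs0, rfl⟩⟩ := t
    have hint : IsIntegral As (algebraMap B Bs b0) := by
      rw [← hbt, ← IsScalarTower.algebraMap_apply A B Bs, IsScalarTower.algebraMap_apply A As Bs]
      exact hx.mul isIntegral_algebraMap
    obtain ⟨⟨s1, hs1⟩, hs1i⟩ := IsIntegral.exists_multiple_integral_of_isLocalization S _ hint
    rw [Submonoid.smul_def, Algebra.smul_def, IsScalarTower.algebraMap_apply A B Bs, ← map_mul] at hs1i
    obtain ⟨P, hP, hP0⟩ := hs1i
    set c := algebraMap A B s1 * b0 with hc
    rw [IsScalarTower.algebraMap_eq A B Bs, ← Polynomial.hom_eval₂,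
      IsLocalization.map_eq_zero_iff (Algebra.algebraMapSubmonoid B S)] at hP0
    obtain ⟨⟨_, ⟨u, hu, rfl⟩⟩, huP⟩ := hP0
    refine ⟨algebraMap A B u * c, ?_, u * (s1 * s0), S.mul_mem hu (S.mul_mem hs1 hs0), ?_⟩
    · rcases Nat.eq_zero_or_pos P.natDegree with h0 | h0
      · rw [hP.natDegree_eq_zero.mp h0, Polynomial.eval₂_one, mul_one] at huP
        change algebraMap A B u = 0 at huP
        rw [huP, zero_mul]
        exact isIntegral_zero
      · refine ⟨P.scaleRoots u, (Polynomial.monic_scaleRoots_iff u).mpr hP, ?_⟩
        rw [Polynomial.scaleRoots_eval₂_mul]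
        obtain ⟨d, hd⟩ := Nat.exists_eq_succ_of_ne_zero h0.ne'
        rw [hd, pow_succ, mul_assoc, huP, mul_zero]
    · rw [map_mul (algebraMap B Bs), hc, map_mul (algebraMap B Bs), ← hbt, map_mul, map_mul,
        ← IsScalarTower.algebraMap_apply A B Bs, ← IsScalarTower.algebraMap_apply A B Bs,
        ← IsScalarTower.algebraMap_apply A B Bs]
      ring
  · rintro ⟨b, hb, s, hs, h⟩
    have hu : IsUnit (algebraMap A As s) := IsLocalization.map_units As ⟨s, hs⟩
    obtain ⟨v, hv⟩ := hu.exists_left_inv
    have hx : x = algebraMap As Bs v * algebraMap B Bs b := by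
      rw [← h, IsScalarTower.algebraMap_apply A As Bs, mul_left_comm, ← map_mul, hv, map_one, mul_one]
    rw [hx]
    exact isIntegral_algebraMap.mul ((hb.map (IsScalarTower.toAlgHom A B Bs)).tower_top)

end Groth.Agent.S9645
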