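import Groth.Statements.S9646
import Mathlib.RingTheory.Localization.Integral
import Mathlib.RingTheory.Localization.AtPrime.Basic
import Mathlib.RingTheory.IntegralClosure.IsIntegralClosure.Basic

set_option autoImplicit false
universe u
open CAlg

namespace Groth.Agent.S9646

/-- (2) ⇒ (1): let R → S be a ring map and x ∈ S. If for every prime ideal p of R the image of x in S_p
(the localization of S at the image of R ∖ p) is integral over R_p, then x is integral over R. Here
R_p and S_p are any rings satisfying the localization universal properties. -/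
theorem result {R S : Type u} [CommRing R] [CommRing S] [Algebra R S] (x : S)
    (h : ∀ (p : Ideal R) [p.IsPrime] (Rp Sp : Type u) [CommRing Rp] [CommRing Sp] [Algebra R Rp] [Algebra S Sp] [Algebra Rp Sp] [Algebra R Sp] [IsScalarTower R S Sp] [IsScalarTower R Rp Sp] [IsLocalization.AtPrime Rp p] [IsLocalization (Algebra.algebraMapSubmonoid S p.primeCompl) Sp], IsIntegral Rp (algebraMap S Sp x)) :
    IsIntegral R x := by
  classical
  let J : Ideal R := (Subalgebra.toSubmodule (integralClosure R S)).comap (LinearMap.toSpanSingleton R S x)
  have hJ : J = ⊤ := by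
    by_contra hne
    obtain ⟨p, hp, hle⟩ := Ideal.exists_le_maximal J hne
    haveI := hp.isPrime
    letI : Algebra (Localization.AtPrime p) (Localization (Algebra.algebraMapSubmonoid S p.primeCompl)) := localizationAlgebra p.primeCompl S
    haveI : IsScalarTower R (Localization.AtPrime p) (Localization (Algebra.algebraMapSubmonoid S p.primeCompl)) :=
      IsScalarTower.of_algebraMap_eq' (by
        rw [RingHom.algebraMap_toAlgebra, IsLocalization.map_comp]
        rfl)
    have hx := h p (Localization.AtPrime p) (Localization (Algebra.algebraMapSubmonoid S p.primeCompl))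
    obtain ⟨m, hm⟩ := IsIntegral.exists_multiple_integral_of_isLocalization p.primeCompl _ hx
    rw [Submonoid.smul_def, Algebra.smul_def, IsScalarTower.algebraMap_apply R S, ← map_mul] at hm
    obtain ⟨q, hqm, hq⟩ := hm
    rw [← Polynomial.aeval_def, Polynomial.aeval_algebraMap_apply] at hq
    obtain ⟨⟨_, t, ht, rfl⟩, hst⟩ := (IsLocalization.map_eq_zero_iff (Algebra.algebraMapSubmonoid S p.primeCompl) _ _).1 hq
    have hint : IsIntegral R (algebraMap R S t * (algebraMap R S m * x)) := by
      rcases Nat.eq_zero_or_pos q.natDegree with h0 | h0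
      · rw [hqm.natDegree_eq_zero.1 h0] at hst
        simp at hst
        rw [hst, zero_mul]; exact isIntegral_zero
      · refine ⟨Polynomial.scaleRoots q t, (Polynomial.monic_scaleRoots_iff t).2 hqm, ?_⟩
        obtain ⟨d, hd⟩ := Nat.exists_eq_succ_of_ne_zero h0.ne'
        rw [Polynomial.scaleRoots_eval₂_mul, hd, pow_succ, mul_assoc, ← Polynomial.aeval_def]
        exact mul_eq_zero_of_right _ hst
    refine (Submonoid.mul_mem p.primeCompl ht m.2) (hle ?_)
    show (t * (m : R)) • x ∈ integralClosure R S
    rw [Algebra.smul_def, map_mul, mul_assoc]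
    exact hint
  have h1 : (1 : R) • x ∈ integralClosure R S := (hJ ▸ Submodule.mem_top : (1 : R) ∈ J)
  rwa [one_smul] at h1

end Groth.Agent.S9646
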