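import Groth.Statements.S9647
import Groth.Agent.H20.GeomIrred
import Mathlib.FieldTheory.SeparableClosure
import Mathlib.FieldTheory.PrimitiveElement
import Mathlib.RingTheory.Artinian.Module
import Mathlib.Algebra.Polynomial.Lifts

set_option autoImplicit false
universe u
open CAlg

namespace Groth.Agent.S9647

open TensorProduct in
theorem exists_embedding {k L K : Type u} [Field k] [Field L] [Field K] [Algebra k L]
    [Algebra.IsAlgebraic k L] [Algebra k K] (P : Ideal (L ⊗[k] K)) [P.IsPrime] :
    ∃ i : L →ₐ[k] AlgebraicClosure K,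
      P = RingHom.ker (Algebra.TensorProduct.lift i
        (IsScalarTower.toAlgHom k K (AlgebraicClosure K)) fun _ _ => .all _ _) := by
  letI algK : Algebra K (L ⊗[k] K ⧸ P) :=
    ((Ideal.Quotient.mk P).comp (Algebra.TensorProduct.includeRight.toRingHom)).toAlgebra
  haveI : IsScalarTower k K (L ⊗[k] K ⧸ P) := .of_algebraMap_eq fun c =>
    congrArg (Ideal.Quotient.mk P) (Algebra.TensorProduct.includeRight.commutes c).symm
  haveI : Algebra.IsIntegral K (L ⊗[k] K ⧸ P) := by
    refine ⟨fun z => ?_⟩
    obtain ⟨z, rfl⟩ := Ideal.Quotient.mk_surjective z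
    induction z using TensorProduct.induction_on with
    | zero => rw [map_zero]; exact isIntegral_zero
    | add a b ha hb => rw [map_add]; exact ha.add hb
    | tmul l x =>
      have : Ideal.Quotient.mk P (l ⊗ₜ[k] x) =
          Ideal.Quotient.mk P (l ⊗ₜ[k] 1) * algebraMap K (L ⊗[k] K ⧸ P) x := by
        change _ = _ * Ideal.Quotient.mk P (1 ⊗ₜ[k] x)
        rw [← map_mul, Algebra.TensorProduct.tmul_mul_tmul, mul_one, one_mul]
      rw [this]
      refine IsIntegral.mul ?_ isIntegral_algebraMap
      exact (((Algebra.IsIntegral.isIntegral (R := k) l).map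
        (Algebra.TensorProduct.includeLeft : L →ₐ[k] L ⊗[k] K)).map
          (Ideal.Quotient.mkₐ k P)).tower_top
  haveI : IsDomain (L ⊗[k] K ⧸ P) := Ideal.Quotient.isDomain P
  haveI : Algebra.IsAlgebraic K (L ⊗[k] K ⧸ P) := Algebra.IsIntegral.isAlgebraic
  have hF : IsField (L ⊗[k] K ⧸ P) :=
    isField_of_isIntegral_of_isField' (R := K) (S := L ⊗[k] K ⧸ P) (Field.toIsField K)
  let j : (L ⊗[k] K ⧸ P) →ₐ[K] AlgebraicClosure K := IsAlgClosed.lift
  refine ⟨((j.restrictScalars k).comp (Ideal.Quotient.mkₐ k P)).comp
    Algebra.TensorProduct.includeLeft, ?_⟩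
  ext z
  have hz : Algebra.TensorProduct.lift
      (((j.restrictScalars k).comp (Ideal.Quotient.mkₐ k P)).comp
        Algebra.TensorProduct.includeLeft)
      (IsScalarTower.toAlgHom k K (AlgebraicClosure K)) (fun _ _ => .all _ _) z =
      (j.restrictScalars k).comp (Ideal.Quotient.mkₐ k P) z := by
    induction z using TensorProduct.induction_on with
    | zero => simp
    | add a b ha hb => rw [map_add, map_add, ha, hb]
    | tmul l x =>
      rw [Algebra.TensorProduct.lift_tmul, show l ⊗ₜ[k] x = (l ⊗ₜ[k] (1 : K)) * (1 ⊗ₜ[k] x) by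
        rw [Algebra.TensorProduct.tmul_mul_tmul, mul_one, one_mul], map_mul]
      exact congrArg _ (j.commutes x).symm
  rw [RingHom.mem_ker, hz]
  change _ ↔ j (Ideal.Quotient.mk P z) = 0
  have hj : Function.Injective j := by
    letI := hF.toField
    exact RingHom.injective j.toRingHom
  rw [map_eq_zero_iff j hj, Ideal.Quotient.eq_zero_iff_mem]

open TensorProduct in
/-- Let K/k be a field extension and k^sep a separable algebraic closure of k. Then the automorphism
group of k^sep over k acts transitively on the primes of k^sep ⊗_k K: for any two primes P, Q there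
is a k-automorphism σ of k^sep with Q the inverse image of P under σ ⊗ id_K. -/
theorem result {k K : Type u} [Field k] [Field K] [Algebra k K]
    (P Q : Ideal (SeparableClosure k ⊗[k] K)) [P.IsPrime] [Q.IsPrime] :
    ∃ σ : SeparableClosure k ≃ₐ[k] SeparableClosure k, Q = P.comap (Algebra.TensorProduct.map (σ : SeparableClosure k →ₐ[k] SeparableClosure k) (AlgHom.id k K)) := by
  obtain ⟨i, hi⟩ := exists_embedding P
  obtain ⟨i', hi'⟩ := exists_embedding Q
  letI := i.toRingHom.toAlgebra
  haveI : IsScalarTower k (SeparableClosure k) (AlgebraicClosure K) :=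
    .of_algebraMap_eq fun c => (i.commutes c).symm
  refine ⟨Normal.algHomEquivAut k (AlgebraicClosure K) (SeparableClosure k) i', ?_⟩
  have hσ : i.comp (Normal.algHomEquivAut k (AlgebraicClosure K) (SeparableClosure k) i').toAlgHom
      = i' := by
    refine Eq.trans ?_ ((Normal.algHomEquivAut k (AlgebraicClosure K)
      (SeparableClosure k)).symm_apply_apply i')
    rfl
  conv_lhs => rw [hi']
  rw [hi]
  ext z
  simp only [RingHom.mem_ker, Ideal.mem_comap]
  refine Eq.congr_left (DFunLike.congr_fun (f := Algebra.TensorProduct.lift i'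
      (IsScalarTower.toAlgHom k K (AlgebraicClosure K)) fun _ _ => .all _ _)
    (g := (Algebra.TensorProduct.lift i
      (IsScalarTower.toAlgHom k K (AlgebraicClosure K)) fun _ _ => .all _ _).comp
      (Algebra.TensorProduct.map (Normal.algHomEquivAut k (AlgebraicClosure K)
        (SeparableClosure k) i').toAlgHom (AlgHom.id k K)))
    (Algebra.TensorProduct.ext' fun l x => ?_) z)
  simp only [AlgHom.comp_apply, Algebra.TensorProduct.map_tmul, Algebra.TensorProduct.lift_tmul]
  conv_lhs => rw [← hσ]
  rfl

end Groth.Agent.S9647
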