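import Groth.Statements.S9669
import Groth.Agent.H15.AssFib
import Mathlib.RingTheory.TensorProduct.Finite
import Mathlib.Algebra.Colimit.TensorProduct
import Mathlib.RingTheory.Noetherian.Defs
-- import your own Groth.Agent.* helpers here

set_option autoImplicit false
universe u
open CAlg

namespace Groth.Agent.S9669

/-- Part (4): (A = A_fin = A'_fin): let R → S be a ring map, N an S-module flat over R and p a prime of
R; an associated prime of a module is a prime ideal equal to the annihilator of some element. Then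
the set of associated primes of the S-module N/pN equals the set of associated primes of the
S-module N ⊗_R κ(p) (the fibre module over p, an S-module by restriction of scalars), and every
prime in this set lies over p. -/
theorem result {R S : Type u} [CommRing R] [CommRing S] [Algebra R S] (N : Type u) [AddCommGroup N] [Module S N] [Module R N] [IsScalarTower R S N] [Module.Flat R N] (p : Ideal R) [p.IsPrime] :
    FlatCA.ass S (N ⧸ (p.map (algebraMap R S)) • (⊤ : Submodule S N)) = FlatCA.ass S (FlatCA.fiberMod p S N) ∧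
      ∀ q ∈ FlatCA.ass S (N ⧸ (p.map (algebraMap R S)) • (⊤ : Submodule S N)), q.comap (algebraMap R S) = p := by
  open Groth.Agent.H15.AssFib in
  rw [ass_fiberMod]
  have hone : (1 : R) ∉ p := fun h1 => ‹p.IsPrime›.ne_top ((Ideal.eq_top_iff_one p).2 h1)
  have hker : ∀ n : N, n ⊗ₜ[R] (1 : p.ResidueField) = 0 ↔ n ∈ (p.map (algebraMap R S)) • (⊤ : Submodule S N) :=
    fun n => (Groth.Agent.H15.AssFib.ker N p n).trans
      ⟨fun ⟨t, ht, h⟩ => Groth.Agent.H15.AssFib.mem_of_smul_mem N p n ht h, fun h => ⟨1, hone, by rwa [one_smul]⟩⟩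
  have hiff : ∀ (q : Ideal S) (n : N), (∀ s, s ∈ q ↔ s • (n ⊗ₜ[R] (1 : p.ResidueField)) = 0) ↔
      (∀ s, s ∈ q ↔ s • (Submodule.Quotient.mk n : N ⧸ (p.map (algebraMap R S)) • (⊤ : Submodule S N)) = 0) := by
    intro q n
    simp only [TensorProduct.smul_tmul', hker, Groth.Agent.H15.AssFib.smul_mk_eq_zero_iff]
  refine ⟨Set.ext fun q => ?_, fun q hq => ?_⟩
  · rw [Groth.Agent.H15.AssFib.mem_ass_iff, Groth.Agent.H15.AssFib.mem_ass_iff]
    refine and_congr_right fun hp => ⟨?_, ?_⟩
    · rintro ⟨m, hm⟩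
      obtain ⟨n, rfl⟩ := Submodule.Quotient.mk_surjective _ m
      exact ⟨n ⊗ₜ 1, (hiff q n).2 hm⟩
    · rintro ⟨x, hx⟩
      obtain ⟨t, ht, n, hn⟩ := Groth.Agent.H15.AssFib.surj N p x
      refine ⟨Submodule.Quotient.mk n, (hiff q n).1 fun s => ?_⟩
      rw [hx, ← hn, smul_comm]
      exact ⟨fun h0 => by rw [h0, smul_zero], Groth.Agent.H15.AssFib.smul_eq_zero_imp N p _ ht⟩
  · obtain ⟨hp, m, hm⟩ := Groth.Agent.H15.AssFib.mem_ass_iff.1 hq
    obtain ⟨n, rfl⟩ := Submodule.Quotient.mk_surjective _ m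
    simp only [Groth.Agent.H15.AssFib.smul_mk_eq_zero_iff] at hm
    refine le_antisymm (fun t ht => ?_) fun t ht => (hm _).2 ?_
    · by_contra ht'
      refine hp.ne_top ((Ideal.eq_top_iff_one q).2 ((hm 1).2 ?_))
      rw [one_smul]
      refine Groth.Agent.H15.AssFib.mem_of_smul_mem N p n ht' ?_
      rw [← algebraMap_smul S t n]
      exact (hm _).1 ht
    · exact Submodule.smul_mem_smul (Ideal.mem_map_of_mem _ ht) Submodule.mem_top

end Groth.Agent.S9669
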