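import Groth.Statements.S9648
import Groth.Agent.H15.AssFib
import Mathlib.RingTheory.TensorProduct.Finite
import Mathlib.Algebra.Colimit.TensorProduct
import Mathlib.RingTheory.Noetherian.Defs
import Groth.Agent.S9669
import Groth.Agent.Lib.FlatCA.Impurity
-- import your own Groth.Agent.* helpers here

set_option autoImplicit false
universe u
open CAlg

namespace Groth.Agent.S9648

open TensorProduct in
/-- The inclusion, valid for any ring R: let R → S be a ring map, M an R-module and N an S-module which
is flat over R. For an associated prime p of M (a prime equal to the annihilator of an element) and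
an associated prime Q of the fibre module N ⊗_R κ(p) over the fibre ring S ⊗_R κ(p), the inverse
image of Q in S is an associated prime of N ⊗_R M. -/
theorem result {R S : Type u} [CommRing R] [CommRing S] [Algebra R S] (M : Type u) [AddCommGroup M] [Module R M] (N : Type u) [AddCommGroup N] [Module S N] [Module R N] [IsScalarTower R S N] [Module.Flat R N]
    (p : Ideal R) [p.IsPrime] (hp : p ∈ FlatCA.ass R M) (Q : Ideal (p.Fiber S)) (hQ : Q ∈ FlatCA.ass (p.Fiber S) (FlatCA.fiberMod p S N)) :
    Q.comap (Algebra.TensorProduct.includeRight (R := R) (A := p.ResidueField) (B := S)).toRingHom ∈ FlatCA.ass S (N ⊗[R] M) := by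
  obtain ⟨hQp, x, hx⟩ := hQ
  have hq : Q.comap (Groth.Agent.Lib.FlatCA.Impurity.incl p) ∈ FlatCA.ass S (FlatCA.fiberMod p S N) :=
    Groth.Agent.H15.AssFib.mem_ass_iff.2 ⟨Ideal.IsPrime.comap _, x, fun s => by
      rw [Ideal.mem_comap, hx, Submodule.mem_annihilator_span_singleton, Groth.Agent.Lib.FlatCA.Impurity.incl_smul]⟩
  rw [← (Groth.Agent.S9669.result N p).1, ← Groth.Agent.H15.AssFib.ass_quot_iff] at hq
  obtain ⟨hpp, m, hm⟩ := Groth.Agent.H15.AssFib.mem_ass_iff.1 hp
  let f : (R ⧸ p) →ₗ[R] M := Submodule.liftQ p (LinearMap.toSpanSingleton R M m) fun r hr => (hm r).1 hr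
  have hf : Function.Injective f := by
    rw [← LinearMap.ker_eq_bot]
    exact Submodule.ker_liftQ_eq_bot _ _ _ fun r hr => (hm r).2 hr
  exact Groth.Agent.H15.AssFib.ass_mono (TensorProduct.AlgebraTensorModule.lTensor S N f)
    (Module.Flat.lTensor_preserves_injective_linearMap f hf) hq

end Groth.Agent.S9648
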