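import Groth.Statements.S9649
import Groth.Agent.H21.SepGen
import Mathlib.FieldTheory.IntermediateField.Adjoin.Algebra

set_option autoImplicit false
universe u
open CAlg

namespace Groth.Agent.S9649

/-- A separably generated field extension is separable. Precisely: let K/k be a field extension
admitting a transcendence basis x over whose generated subfield k(x) the field K is separable
algebraic; then every finitely generated subextension K' of K/k also admits such a transcendence
basis. -/
theorem result {k K : Type u} [Field k] [Field K] [Algebra k K]
    (h : ∃ (ι : Type u) (x : ι → K), IsTranscendenceBasis k x ∧ Algebra.IsSeparable (IntermediateField.adjoin k (Set.range x)) K)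
    (K' : IntermediateField k K) (hK' : ∃ s : Finset K, IntermediateField.adjoin k (s : Set K) = K') :
    ∃ (ι : Type u) (x : ι → K'), IsTranscendenceBasis k x ∧ Algebra.IsSeparable (IntermediateField.adjoin k (Set.range x)) K' := by
  obtain ⟨ι, x, hx, hsep⟩ := h
  haveI := hsep
  haveI := Groth.Agent.H21.SepGen.isGeometricallyReduced k K hx.1
  haveI : Algebra.IsGeometricallyReduced k K' :=
    Algebra.IsGeometricallyReduced.of_injective K'.val Subtype.val_injective
  haveI : Algebra.EssFiniteType k K' := IntermediateField.essFiniteType_iff.2 hK'
  obtain ⟨t, ht, htsep⟩ := Groth.Agent.H21.SepGen.exists_separatingBasis k K'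
  refine ⟨t, (↑), ht, ?_⟩
  convert! htsep <;> simp

end Groth.Agent.S9649
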