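import Groth.Statements.S9651
import Groth.Agent.H20.DominantImage
import Mathlib.RingTheory.Spectrum.Prime.ConstructibleSet
import Mathlib.RingTheory.Ideal.Maps

set_option autoImplicit false
universe u
open CAlg

namespace Groth.Agent.S9651

/-- Let R → S be a ring map of finite type, f : Spec(S) → Spec(R) the induced map and E ⊆ Spec(S) a
constructible subset. If ξ ∈ f(E) then f(E) ∩ cl{ξ} contains an open dense subset of the closure
cl{ξ}: some open U of Spec(R) has U ∩ cl{ξ} dense in cl{ξ} and contained in f(E). -/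
theorem result {R S : Type u} [CommRing R] [CommRing S] [Algebra R S] [Algebra.FiniteType R S]
    (E : Set (PrimeSpectrum S)) (hE : Topology.IsConstructible E) (ξ : PrimeSpectrum R) (hξ : ξ ∈ PrimeSpectrum.comap (algebraMap R S) '' E) :
    ∃ U : Set (PrimeSpectrum R), IsOpen U ∧ closure ({ξ} : Set (PrimeSpectrum R)) ⊆ closure (U ∩ closure {ξ}) ∧ U ∩ closure {ξ} ⊆ PrimeSpectrum.comap (algebraMap R S) '' E := by
  classical
  obtain ⟨y, hy, rfl⟩ := hξ
  obtain ⟨D, rfl⟩ := PrimeSpectrum.exists_constructibleSetData_iff.mpr hE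
  obtain ⟨C0, hC0, hyC⟩ := Set.mem_iUnion₂.mp hy
  obtain ⟨hyg, hyf⟩ := hyC
  rw [PrimeSpectrum.mem_zeroLocus, Set.singleton_subset_iff, SetLike.mem_coe] at hyf
  rw [PrimeSpectrum.mem_zeroLocus] at hyg
  let ξ := y.asIdeal.comap (algebraMap R S)
  letI : Algebra (R ⧸ ξ) (S ⧸ y.asIdeal) :=
    (Ideal.quotientMap y.asIdeal (algebraMap R S) le_rfl).toAlgebra
  haveI : IsScalarTower R (R ⧸ ξ) (S ⧸ y.asIdeal) := IsScalarTower.of_algebraMap_eq fun r => rfl
  haveI : Algebra.FiniteType (R ⧸ ξ) (S ⧸ y.asIdeal) :=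
    Algebra.FiniteType.of_restrictScalars_finiteType R _ _
  haveI : FaithfulSMul (R ⧸ ξ) (S ⧸ y.asIdeal) :=
    (faithfulSMul_iff_algebraMap_injective _ _).mpr (Ideal.quotientMap_injective' (H := le_rfl) le_rfl)
  obtain ⟨a, ha, hlift⟩ := Groth.Agent.H20.DominantImage.exists_dense (A := R ⧸ ξ)
    (g := Ideal.Quotient.mk y.asIdeal C0.f) (fun h => hyf (Ideal.Quotient.eq_zero_iff_mem.mp h))
  obtain ⟨a, rfl⟩ := Ideal.Quotient.mk_surjective a
  have haξ : a ∉ ξ := fun h => ha (Ideal.Quotient.eq_zero_iff_mem.mpr h)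
  refine ⟨PrimeSpectrum.basicOpen a, (PrimeSpectrum.basicOpen a).isOpen, ?_, ?_⟩
  · refine closure_mono (Set.singleton_subset_iff.mpr ⟨haξ, ?_⟩)
    exact subset_closure rfl
  · rintro p ⟨hap, hp⟩
    have hle : ξ ≤ p.asIdeal := by
      rw [← specializes_iff_mem_closure, ← PrimeSpectrum.le_iff_specializes] at hp
      exact hp
    have hker : RingHom.ker (Ideal.Quotient.mk ξ) ≤ p.asIdeal := by rwa [Ideal.mk_ker]
    have hpp := Ideal.map_isPrime_of_surjective Ideal.Quotient.mk_surjective hker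
    have hback : (p.asIdeal.map (Ideal.Quotient.mk ξ)).comap (Ideal.Quotient.mk ξ) = p.asIdeal := by
      rw [Ideal.comap_map_of_surjective _ Ideal.Quotient.mk_surjective, ← RingHom.ker_eq_comap_bot,
        sup_eq_left.mpr hker]
    obtain ⟨Q, hQ, hfQ, hQp⟩ := hlift _ hpp fun h => hap (by
      rw [← hback]; exact h)
    refine ⟨⟨Q.comap (Ideal.Quotient.mk y.asIdeal), Ideal.IsPrime.comap _⟩,
      Set.mem_iUnion₂.mpr ⟨C0, hC0, ?_, ?_⟩, PrimeSpectrum.ext ?_⟩
    · rw [PrimeSpectrum.mem_zeroLocus]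
      refine hyg.trans fun x hx => ?_
      rw [SetLike.mem_coe, Ideal.mem_comap, Ideal.Quotient.eq_zero_iff_mem.mpr hx]
      exact Q.zero_mem
    · rw [PrimeSpectrum.mem_zeroLocus, Set.singleton_subset_iff]
      exact hfQ
    · change (Q.comap (Ideal.Quotient.mk y.asIdeal)).comap (algebraMap R S) = p.asIdeal
      rw [← hback, ← hQp]
      rfl

end Groth.Agent.S9651
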