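import Groth.Statements.S9652
import Groth.Agent.S9651
import Groth.Agent.H20.JacobsonImage

set_option autoImplicit false
universe u
open CAlg

namespace Groth.Agent.S9652

/-- Let R and S be Jacobson rings, R → S a ring map of finite type with induced map f : Spec(S) →
Spec(R), and E ⊆ Spec(S) a constructible subset. Writing T₀ for the set of points of a subspace T
which are closed in T, one has f(E)₀ = f(E₀) = (Spec R)₀ ∩ f(E). -/
theorem result {R S : Type u} [CommRing R] [CommRing S] [Algebra R S] [IsJacobsonRing R] [IsJacobsonRing S] [Algebra.FiniteType R S]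
    (E : Set (PrimeSpectrum S)) (hE : Topology.IsConstructible E) :
    {x | x ∈ PrimeSpectrum.comap (algebraMap R S) '' E ∧ closure {x} ∩ PrimeSpectrum.comap (algebraMap R S) '' E = {x}} =
        PrimeSpectrum.comap (algebraMap R S) '' {y | y ∈ E ∧ closure {y} ∩ E = {y}} ∧
      PrimeSpectrum.comap (algebraMap R S) '' {y | y ∈ E ∧ closure {y} ∩ E = {y}} =
        {x | IsClosed ({x} : Set (PrimeSpectrum R))} ∩ PrimeSpectrum.comap (algebraMap R S) '' E := by
  set f := PrimeSpectrum.comap (algebraMap R S) with hf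
  have hset : {y | y ∈ E ∧ closure {y} ∩ E = {y}} =
      {y : PrimeSpectrum S | IsClosed ({y} : Set (PrimeSpectrum S)) ∧ y ∈ E} :=
    Set.ext (Groth.Agent.H20.JacobsonImage.closed_in_iff hE)
  have himg : f '' {y | y ∈ E ∧ closure {y} ∩ E = {y}} =
      {x | IsClosed ({x} : Set (PrimeSpectrum R))} ∩ f '' E := by
    rw [hset]
    refine subset_antisymm ?_ ?_
    · rintro _ ⟨y, ⟨hy, hyE⟩, rfl⟩
      exact ⟨Groth.Agent.H20.JacobsonImage.isClosed_comap hy, y, hyE, rfl⟩
    · rintro x ⟨hx, hxE⟩
      obtain ⟨y, hy, hyc, rfl⟩ := Groth.Agent.H20.JacobsonImage.exists_closed_lift hE hx hxE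
      exact ⟨y, ⟨hyc, hy⟩, rfl⟩
  refine ⟨?_, himg⟩
  rw [himg]
  refine Set.ext fun x => ⟨fun ⟨hx, h⟩ => ⟨?_, hx⟩, fun ⟨hx, hxE⟩ => ⟨hxE, ?_⟩⟩
  · obtain ⟨U, hU, h1, h2⟩ := Groth.Agent.S9651.result E hE x hx
    have hne : (U ∩ closure {x}).Nonempty := by
      by_contra h0
      rw [Set.not_nonempty_iff_eq_empty.mp h0, closure_empty] at h1
      exact h1 (subset_closure rfl)
    have heq : U ∩ closure {x} = {x} := by
      refine (Set.Nonempty.subset_singleton_iff hne).mp ?_
      exact fun z hz => h.subset ⟨hz.2, h2 hz⟩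
    refine isClosed_singleton_of_isLocallyClosed_singleton ?_
    rw [← heq]
    exact hU.isLocallyClosed.inter isClosed_closure.isLocallyClosed
  · change IsClosed ({x} : Set (PrimeSpectrum R)) at hx
    rw [hx.closure_eq, Set.singleton_inter_of_mem hxE]

end Groth.Agent.S9652
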