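import Groth.Statements.S9654
import Mathlib
-- import your own Groth.Agent.* helpers here

set_option autoImplicit false
universe u
open CAlg

namespace Groth.Agent.S9654


theorem isIntegral_of_fg_mem {R T : Type*} [CommRing R] [CommRing T] [Algebra R T] (N : Submodule R T) (hfg : N.FG)
    (h1 : (1 : T) ∈ N) (z : T) (hz : ∀ n ∈ N, z * n ∈ N) : IsIntegral R z := by
  haveI : Module.Finite R N := Module.Finite.iff_fg.mpr hfg
  have hz' : ∀ n ∈ N, (LinearMap.mulLeft R z) n ∈ N := hz
  obtain ⟨p, hp, hpz⟩ := LinearMap.exists_monic_and_aeval_eq_zero R ((LinearMap.mulLeft R z).restrict hz')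
  refine ⟨p, hp, ?_⟩
  have key : ∀ q : Polynomial R, ∀ n : N,
      ((Polynomial.aeval ((LinearMap.mulLeft R z).restrict hz') q n : N) : T) = Polynomial.aeval z q * n := by
    intro q
    induction q using Polynomial.induction_on with
    | C r => intro n; simp [Module.algebraMap_end_apply, Algebra.smul_def]
    | add q1 q2 h1 h2 => intro n; simp [h1, h2, add_mul]
    | monomial k r ih =>
      intro n
      rw [pow_succ, ← mul_assoc, map_mul (Polynomial.aeval ((LinearMap.mulLeft R z).restrict hz')) (Polynomial.C r * Polynomial.X ^ k), map_mul (Polynomial.aeval z) (Polynomial.C r * Polynomial.X ^ k), Module.End.mul_apply, ih]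
      simp [mul_assoc]
  have := key p ⟨1, h1⟩
  rw [hpz] at this
  simpa [Polynomial.aeval_def] using this.symm

theorem integral_of_laurent {R T : Type*} [CommRing R] [CommRing T] [Algebra R T] {a b : T} (hab : a * b = 1) (z : T)
    (hza : z ∈ Algebra.adjoin R {a}) (hzb : z ∈ Algebra.adjoin R {b}) : IsIntegral R z := by
  classical
  rw [Algebra.adjoin_singleton_eq_range_aeval] at hza hzb
  obtain ⟨p, hp⟩ := hza
  obtain ⟨q, hq⟩ := hzb
  replace hp : Polynomial.aeval a p = z := hp
  replace hq : Polynomial.aeval b q = z := hq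
  refine isIntegral_of_fg_mem (Submodule.span R ((Finset.range (p.natDegree + q.natDegree + 1)).image (a ^ ·) : Finset T))
    ⟨_, rfl⟩ (Submodule.subset_span (Finset.mem_coe.mpr (Finset.mem_image.mpr ⟨0, by simp, pow_zero a⟩))) z ?_
  intro n hn
  induction hn using Submodule.span_induction with
  | zero => simp
  | add x y _ _ hx hy => rw [mul_add]; exact add_mem hx hy
  | smul r x _ hx => rw [mul_smul_comm]; exact Submodule.smul_mem _ r hx
  | mem x hx =>
    obtain ⟨i, hi, rfl⟩ := Finset.mem_image.mp (Finset.mem_coe.mp hx)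
    rw [Finset.mem_range] at hi
    rcases lt_or_ge i q.natDegree with h | h
    · rw [← hp, Polynomial.aeval_eq_sum_range, Finset.sum_mul]
      refine Submodule.sum_mem _ fun l hl => ?_
      rw [Finset.mem_range] at hl
      rw [smul_mul_assoc, ← pow_add]
      exact Submodule.smul_mem _ _ (Submodule.subset_span (Finset.mem_coe.mpr (Finset.mem_image.mpr ⟨l + i, by simp; omega, rfl⟩)))
    · rw [← hq, Polynomial.aeval_eq_sum_range, Finset.sum_mul]
      refine Submodule.sum_mem _ fun l hl => ?_
      rw [Finset.mem_range] at hl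
      obtain ⟨i, rfl⟩ : ∃ i', i = l + i' := ⟨i - l, by omega⟩
      rw [smul_mul_assoc, pow_add, ← mul_assoc, ← mul_pow, mul_comm b a, hab, one_pow, one_mul]
      exact Submodule.smul_mem _ _ (Submodule.subset_span (Finset.mem_coe.mpr (Finset.mem_image.mpr ⟨i, by simp; omega, rfl⟩)))

theorem inf_eq_bot {R T S : Type*} [CommRing R] [CommRing T] [CommRing S] [Algebra R T] [Algebra R S]
    {a b : T} (hab : a * b = 1) (g : S →ₐ[R] T) (hg : Function.Injective g) (w : S) (hw : g w = b)
    (hS : IsIntegrallyClosedIn R S) :
    (Algebra.adjoin R {a}).toSubmodule ⊓ (Algebra.adjoin R {b}).toSubmodule = (⊥ : Subalgebra R T).toSubmodule := by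
  refine le_antisymm (fun z hz => ?_) (le_inf (Subalgebra.toSubmodule.monotone bot_le) (Subalgebra.toSubmodule.monotone bot_le))
  obtain ⟨hza, hzb⟩ := hz
  have hint := integral_of_laurent hab z hza hzb
  have hzr : z ∈ g.range := by
    have : Algebra.adjoin R {b} ≤ g.range := Algebra.adjoin_le (by simpa using ⟨w, hw⟩)
    exact this hzb
  obtain ⟨s, rfl⟩ := hzr
  obtain ⟨r, hr⟩ := (isIntegrallyClosedIn_iff.mp hS).2 ((isIntegral_algHom_iff g hg).mp hint)
  show g s ∈ (⊥ : Subalgebra R T)
  rw [← hr, AlgHom.commutes]
  exact Subalgebra.algebraMap_mem _ r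

theorem sup_eq {R T : Type*} [CommRing R] [CommRing T] [Algebra R T] {a b : T} (hab : a * b = 1) :
    (Algebra.adjoin R {a}).toSubmodule ⊔ (Algebra.adjoin R {b}).toSubmodule = (Algebra.adjoin R {a, b}).toSubmodule := by
  refine le_antisymm (sup_le (Subalgebra.toSubmodule.monotone (Algebra.adjoin_mono (by simp)))
    (Subalgebra.toSubmodule.monotone (Algebra.adjoin_mono (by simp)))) ?_
  rw [Algebra.adjoin_eq_span, Submodule.span_le]
  intro t ht
  have : ∃ i j : ℕ, t = a ^ i * b ^ j := by
    induction ht using Submonoid.closure_induction with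
    | mem x hx =>
      rcases hx with rfl | rfl
      · exact ⟨1, 0, by simp⟩
      · exact ⟨0, 1, by simp⟩
    | one => exact ⟨0, 0, by simp⟩
    | mul x y _ _ hx hy =>
      obtain ⟨i, j, rfl⟩ := hx; obtain ⟨i', j', rfl⟩ := hy
      exact ⟨i + i', j + j', by ring⟩
  obtain ⟨i, j, rfl⟩ := this
  rcases le_total i j with h | h
  · obtain ⟨k, rfl⟩ := Nat.exists_eq_add_of_le h
    refine Submodule.mem_sup_right ?_
    rw [pow_add, ← mul_assoc, ← mul_pow, hab, one_pow, one_mul]
    exact Subalgebra.pow_mem _ (Algebra.self_mem_adjoin_singleton R b) k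
  · obtain ⟨k, rfl⟩ := Nat.exists_eq_add_of_le h
    refine Submodule.mem_sup_left ?_
    rw [pow_add, mul_comm (a ^ j), mul_assoc, ← mul_pow, hab, one_pow, mul_one]
    exact Subalgebra.pow_mem _ (Algebra.self_mem_adjoin_singleton R a) k

theorem exists_awayHom {R : Type*} [CommRing R] (x y : R) (hy : y ∈ nonZeroDivisors R) :
    ∃ g : Localization.Away x →ₐ[R] Localization.Away (x * y), Function.Injective g ∧
      g (algebraMap R _ y * IsLocalization.Away.invSelf x) =
        algebraMap R _ (y * y) * IsLocalization.Away.invSelf (x * y) := by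
  have hxy := IsLocalization.Away.algebraMap_isUnit (S := Localization.Away (x * y)) (x * y)
  rw [map_mul] at hxy
  have hux := isUnit_of_mul_isUnit_left hxy
  set g₀ := IsLocalization.Away.lift (S := Localization.Away x) x (g := algebraMap R (Localization.Away (x * y))) hux
  set g : Localization.Away x →ₐ[R] Localization.Away (x * y) :=
    { g₀ with commutes' := fun r => IsLocalization.Away.lift_eq x hux r }
  refine ⟨g, ?_, ?_⟩
  · rw [injective_iff_map_eq_zero]
    intro s hs
    obtain ⟨n, r, hr⟩ := IsLocalization.Away.surj x s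
    have h0 : algebraMap R (Localization.Away (x * y)) r = 0 := by
      rw [← AlgHom.commutes g r, ← hr, map_mul, hs, zero_mul]
    obtain ⟨⟨_, k, rfl⟩, hk⟩ := (IsLocalization.map_eq_zero_iff (Submonoid.powers (x * y)) _ r).mp h0
    have hxr : x ^ k * r = 0 := by
      refine (mul_left_mem_nonZeroDivisors_eq_zero_iff (pow_mem hy k)).mp ?_
      rw [← mul_assoc, ← mul_pow, mul_comm y x]
      exact hk
    have : algebraMap R (Localization.Away x) r = 0 :=
      (IsLocalization.map_eq_zero_iff (Submonoid.powers x) _ r).mpr ⟨⟨_, k, rfl⟩, hxr⟩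
    rw [this] at hr
    exact (((IsLocalization.Away.algebraMap_isUnit x).pow n).mul_left_eq_zero).mp (by rw [← map_pow] at hr ⊢; exact hr)
  · refine hux.mul_right_cancel ?_
    rw [← AlgHom.commutes g x, ← map_mul, mul_assoc, mul_comm (IsLocalization.Away.invSelf x),
      IsLocalization.Away.mul_invSelf, mul_one, AlgHom.commutes, AlgHom.commutes]
    have h1 := IsLocalization.Away.mul_invSelf (S := Localization.Away (x * y)) (x * y)
    simp only [map_mul] at h1 ⊢
    linear_combination (-(algebraMap R (Localization.Away (x * y)) y)) * h1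

theorem main {R T S : Type*} [CommRing R] [CommRing T] [CommRing S] [Algebra R T] [Algebra R S]
    {a b : T} (hab : a * b = 1) (g : S →ₐ[R] T) (hg : Function.Injective g) (w : S) (hw : g w = b)
    (hS : IsIntegrallyClosedIn R S) :
    (Algebra.adjoin R {a}).toSubmodule ⊓ (Algebra.adjoin R {b}).toSubmodule = (⊥ : Subalgebra R T).toSubmodule ∧
    (Algebra.adjoin R {a}).toSubmodule ⊔ (Algebra.adjoin R {b}).toSubmodule = (Algebra.adjoin R {a, b}).toSubmodule :=
  ⟨inf_eq_bot hab g hg w hw hS, sup_eq hab⟩


/-- Let R be a ring and x, y ∈ R nonzerodivisors. In the localization R_{xy} let a = x/y and b = y/x,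
and let R[a], R[b], R[a, b] be the R-subalgebras they generate. If R is integrally closed in R_x or
in R_y, then the sequence 0 → R → R[a] ⊕ R[b] → R[a, b] → 0 (difference map, then sum map) is short
exact; equivalently R[a] ∩ R[b] is the image of R and R[a] + R[b] = R[a, b] inside R_{xy}. -/
theorem result {R : Type u} [CommRing R] (x y : R) (hx : x ∈ nonZeroDivisors R) (hy : y ∈ nonZeroDivisors R)
    (hint : IsIntegrallyClosedIn R (Localization.Away x) ∨ IsIntegrallyClosedIn R (Localization.Away y)) :
    (Algebra.adjoin R {algebraMap R (Localization.Away (x * y)) (x * x) * IsLocalization.Away.invSelf (x * y)}).toSubmodule ⊓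
        (Algebra.adjoin R {algebraMap R (Localization.Away (x * y)) (y * y) * IsLocalization.Away.invSelf (x * y)}).toSubmodule =
        (⊥ : Subalgebra R (Localization.Away (x * y))).toSubmodule ∧
      (Algebra.adjoin R {algebraMap R (Localization.Away (x * y)) (x * x) * IsLocalization.Away.invSelf (x * y)}).toSubmodule ⊔
        (Algebra.adjoin R {algebraMap R (Localization.Away (x * y)) (y * y) * IsLocalization.Away.invSelf (x * y)}).toSubmodule =
        (Algebra.adjoin R {algebraMap R (Localization.Away (x * y)) (x * x) * IsLocalization.Away.invSelf (x * y), algebraMap R (Localization.Away (x * y)) (y * y) * IsLocalization.Away.invSelf (x * y)}).toSubmodule := by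
  have hab : (algebraMap R (Localization.Away (x * y)) (x * x) * IsLocalization.Away.invSelf (x * y)) *
      (algebraMap R (Localization.Away (x * y)) (y * y) * IsLocalization.Away.invSelf (x * y)) = 1 := by
    have h1 := IsLocalization.Away.mul_invSelf (S := Localization.Away (x * y)) (x * y)
    simp only [map_mul] at h1 ⊢
    linear_combination (algebraMap R (Localization.Away (x * y)) x * algebraMap R (Localization.Away (x * y)) y *
      IsLocalization.Away.invSelf (x * y) + 1) * h1
  rcases hint with h | h
  · obtain ⟨g, hg, hgw⟩ := exists_awayHom x y hy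
    exact main hab g hg _ hgw h
  · -- symmetric case, transported along `x * y = y * x`
    obtain ⟨g, hg, hgw⟩ : ∃ g : Localization.Away y →ₐ[R] Localization.Away (x * y), Function.Injective g ∧
        g (algebraMap R _ x * IsLocalization.Away.invSelf y) =
          algebraMap R _ (x * x) * IsLocalization.Away.invSelf (x * y) := by
      have := exists_awayHom y x hx
      rw [mul_comm y x] at this
      exact this
    have h2 := main ((mul_comm _ _).trans hab) g hg _ hgw h
    exact ⟨(inf_comm _ _).trans h2.1, by rw [sup_comm, h2.2, Set.pair_comm]⟩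

end Groth.Agent.S9654
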