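import Groth.Statements.S9655
import Mathlib.RingTheory.EssentialFiniteness
import Mathlib.RingTheory.Valuation.LocalSubring
import Mathlib.RingTheory.Localization.AtPrime.Basic
import Mathlib.RingTheory.LocalRing.ResidueField.Basic
import Mathlib.Tactic

set_option autoImplicit false
universe u
open CAlg

namespace Groth.Agent.S9655

/-- Let R and S be local rings and R → S a ring map, not necessarily local, that is essentially of
finite type. Then for some n there is a maximal ideal m of the polynomial ring R[x_1, …, x_n] lying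
over the maximal ideal of R, together with an R-algebra map φ : R[x_1, …, x_n]_m → S making S a
localization of the image of φ; thus S arises from R[x_1, …, x_n]_m by passing to a quotient and
then localizing. -/
theorem result {R S : Type u} [CommRing R] [CommRing S] [Algebra R S] [IsLocalRing R] [IsLocalRing S] [Algebra.EssFiniteType R S] :
    ∃ (n : ℕ) (m : Ideal (MvPolynomial (Fin n) R)) (_ : m.IsMaximal), m.under R = IsLocalRing.maximalIdeal R ∧
      ∃ (φ : Localization.AtPrime m →ₐ[R] S) (T : Submonoid φ.range), IsLocalization T S := by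
  classical
  obtain ⟨σ, hσ⟩ := (Algebra.essFiniteType_iff R S).1 (inferInstance : Algebra.EssFiniteType R S)
  let κ := IsLocalRing.ResidueField S
  let ρ : S →+* κ := IsLocalRing.residue S
  obtain ⟨V, hV, hVloc⟩ := IsLocalRing.exists_factor_valuationRing (ρ.comp (algebraMap R S))
  let n := Fintype.card σ
  let eσ : Fin n ≃ σ := (Fintype.equivFin σ).symm
  have hgen : ∀ i : Fin n, ∃ y : S, ρ y ∈ V ∧ (y = (eσ i : S) ∨ y * (eσ i : S) = 1) := by
    intro i
    by_cases hi : ρ (eσ i : S) ∈ V
    · exact ⟨_, hi, Or.inl rfl⟩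
    · obtain ⟨u, hu⟩ : IsUnit (eσ i : S) := by
        refine (IsLocalRing.residue_ne_zero_iff_isUnit _).1 fun h0 => hi ?_
        rw [show ρ (eσ i : S) = 0 from h0]
        exact zero_mem _
      refine ⟨(↑u⁻¹ : S), ?_, Or.inr (by rw [← hu, Units.inv_mul])⟩
      rcases V.mem_or_inv_mem (ρ (eσ i : S)) with h | h
      · exact absurd h hi
      · convert h using 1
        rw [map_units_inv, hu]
  choose y hyV hy using hgen
  let ψ : MvPolynomial (Fin n) R →ₐ[R] S := MvPolynomial.aeval y
  have hψV : ∀ p, ρ (ψ p) ∈ V := by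
    intro p
    induction p using MvPolynomial.induction_on with
    | C a => rw [show ψ (MvPolynomial.C a) = algebraMap R S a from ψ.commutes a]; exact hV a
    | add p q hp hq => rw [map_add, map_add]; exact add_mem hp hq
    | mul_X p i hp => rw [map_mul, map_mul, MvPolynomial.aeval_X]; exact mul_mem hp (hyV i)
  let g : MvPolynomial (Fin n) R →+* V := (ρ.comp ψ.toRingHom).codRestrict V.toSubring hψV
  let Q : Ideal (MvPolynomial (Fin n) R) := (IsLocalRing.maximalIdeal V).comap g
  have hQtop : Q ≠ ⊤ := Ideal.comap_ne_top _ (IsLocalRing.maximalIdeal.isMaximal V).ne_top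
  obtain ⟨m, hm, hQm⟩ := Ideal.exists_le_maximal Q hQtop
  haveI := hm
  have hgC : ∀ a : R, g (MvPolynomial.C a) = (ρ.comp (algebraMap R S)).codRestrict V.toSubring hV a :=
    fun a => Subtype.ext (congrArg ρ (ψ.commutes a))
  have hover : m.under R = IsLocalRing.maximalIdeal R := by
    refine le_antisymm (IsLocalRing.le_maximalIdeal ?_) fun a ha => hQm ?_
    · exact Ideal.comap_ne_top _ hm.ne_top
    · show g (MvPolynomial.C a) ∈ IsLocalRing.maximalIdeal V
      rw [hgC]
      exact fun hu => ha (hVloc.map_nonunit a hu)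
  have hunit : ∀ p : m.primeCompl, IsUnit (ψ p) := by
    rintro ⟨p, hp⟩
    refine (IsLocalRing.residue_ne_zero_iff_isUnit _).1 fun h0 => hp (hQm ?_)
    show g p ∈ IsLocalRing.maximalIdeal V
    rw [show g p = 0 from Subtype.ext h0]
    exact zero_mem _
  let φ : Localization.AtPrime m →ₐ[R] S := IsLocalization.liftAlgHom (M := m.primeCompl) (f := ψ) hunit
  have hφy : ∀ i, y i ∈ φ.range := fun i =>
    ⟨algebraMap _ _ (MvPolynomial.X i), by
      show IsLocalization.lift hunit _ = _
      rw [IsLocalization.lift_eq]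
      exact MvPolynomial.aeval_X _ _⟩
  refine ⟨n, m, hm, hover, φ, (IsUnit.submonoid S).comap φ.range.val, ?_⟩
  -- fractions
  let W : Subalgebra R S :=
    { carrier := {s | ∃ t ∈ φ.range, IsUnit t ∧ s * t ∈ φ.range}
      mul_mem' := fun {a b} ⟨t, ht, htu, h⟩ ⟨t', ht', htu', h'⟩ =>
        ⟨t * t', mul_mem ht ht', htu.mul htu', by rw [mul_mul_mul_comm]; exact mul_mem h h'⟩
      add_mem' := fun {a b} ⟨t, ht, htu, h⟩ ⟨t', ht', htu', h'⟩ =>
        ⟨t * t', mul_mem ht ht', htu.mul htu', by
          rw [add_mul, show a * (t * t') = a * t * t' by ring, show b * (t * t') = b * t' * t by ring]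
          exact add_mem (mul_mem h ht') (mul_mem h' ht)⟩
      algebraMap_mem' := fun r => ⟨1, one_mem _, isUnit_one, by rw [mul_one]; exact φ.range.algebraMap_mem r⟩ }
  have hW : Algebra.adjoin R (σ : Set S) ≤ W := by
    refine Algebra.adjoin_le fun s hs => ?_
    obtain ⟨i, hi⟩ := eσ.surjective ⟨s, hs⟩
    have hsi : (eσ i : S) = s := congrArg Subtype.val hi
    rcases hy i with h | h
    · exact ⟨1, one_mem _, isUnit_one, by rw [mul_one, ← hsi, ← h]; exact hφy i⟩
    · rw [hsi] at h
      exact ⟨y i, hφy i, IsUnit.of_mul_eq_one _ h, by rw [mul_comm, h]; exact one_mem _⟩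
  constructor
  constructor
  · exact fun z => z.2
  · intro s
    obtain ⟨t, ht, htu, hst⟩ := hσ s
    obtain ⟨t₁, ht₁, htu₁, h₁⟩ := hW ht
    obtain ⟨t₂, ht₂, htu₂, h₂⟩ := hW hst
    refine ⟨⟨⟨s * t * t₂ * t₁, mul_mem h₂ ht₁⟩,
      ⟨⟨t * t₁ * t₂, mul_mem h₁ ht₂⟩, (htu.mul htu₁).mul htu₂⟩⟩, ?_⟩
    show s * (t * t₁ * t₂) = s * t * t₂ * t₁
    ring
  · intro a b h
    exact ⟨1, by simpa using Subtype.ext h⟩

end Groth.Agent.S9655
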