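import Groth.Statements.S9656
import Mathlib.Algebra.Polynomial.Monic
import Mathlib.Algebra.Polynomial.Eval.Coeff
import Mathlib.Algebra.Polynomial.Degree.Lemmas

set_option autoImplicit false
universe u
open CAlg

namespace Groth.Agent.S9656

/-- Let R_i → S_i be ring maps indexed by a finite type ι, with product map R = Π R_i → S = Π S_i. Then
an element (s_i) of S is integral over R exactly when s_i is integral over R_i for every i; so
integral closure in a finite product is computed factor by factor. -/
theorem result {ι : Type u} [Fintype ι] {R S : ι → Type u} [∀ i, CommRing (R i)] [∀ i, CommRing (S i)] (f : ∀ i, R i →+* S i) (s : ∀ i, S i) :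
    (RingHom.pi fun i => (f i).comp (Pi.evalRingHom R i)).IsIntegralElem s ↔ ∀ i, (f i).IsIntegralElem (s i) := by
  classical
  constructor
  · intro h i
    obtain ⟨p, hp, hpe⟩ := h
    refine ⟨p.map (Pi.evalRingHom R i), hp.map _, ?_⟩
    rw [Polynomial.eval₂_map]
    have := congrArg (Pi.evalRingHom S i) hpe
    rwa [Polynomial.hom_eval₂, map_zero] at this
  · intro h
    choose p hp hpe using h
    let d := Finset.univ.sup fun i => (p i).natDegree
    let q : ∀ i, Polynomial (R i) := fun i => p i * Polynomial.X ^ (d - (p i).natDegree)
    have hqc : ∀ i, (q i).coeff d = 1 := fun i => by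
      have hd : (p i).natDegree + (d - (p i).natDegree) = d := by
        have : (p i).natDegree ≤ d := Finset.le_sup (f := fun i => (p i).natDegree) (Finset.mem_univ i)
        omega
      show (p i * Polynomial.X ^ (d - (p i).natDegree)).coeff d = 1
      conv_lhs => arg 2; rw [← hd]
      rw [Polynomial.coeff_mul_X_pow]
      exact (hp i)
    let c : ℕ → ∀ i, R i := fun n i => (q i).coeff n
    let P : Polynomial (∀ i, R i) := ∑ n ∈ Finset.range (d + 1), Polynomial.monomial n (c n)
    have hcoeff : ∀ n i, P.coeff n i = (q i).coeff n := fun n i => by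
      simp only [P, Polynomial.finsetSum_coeff, Polynomial.coeff_monomial, Finset.sum_ite_eq',
        Finset.mem_range]
      by_cases hn : n < d + 1
      · rw [if_pos hn]
      · rw [if_neg hn, Pi.zero_apply, eq_comm]
        refine Polynomial.coeff_eq_zero_of_natDegree_lt (lt_of_le_of_lt ?_ (by omega : d < n))
        refine Polynomial.natDegree_mul_le.trans ((Nat.add_le_add_left (Polynomial.natDegree_X_pow_le _) _).trans ?_)
        have : (p i).natDegree ≤ d := Finset.le_sup (f := fun i => (p i).natDegree) (Finset.mem_univ i)
        omega
    have hdeg : P.natDegree ≤ d := Polynomial.natDegree_sum_le_of_forall_le _ _ fun n hn =>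
      (Polynomial.natDegree_monomial_le _).trans (by simpa using Nat.lt_succ_iff.mp (Finset.mem_range.mp hn))
    refine ⟨P, Polynomial.monic_of_natDegree_le_of_coeff_eq_one d hdeg ?_, ?_⟩
    · funext i; rw [hcoeff, hqc]; rfl
    · funext i
      have h1 := Polynomial.hom_eval₂ P (RingHom.pi fun i => (f i).comp (Pi.evalRingHom R i))
        (Pi.evalRingHom S i) s
      refine h1.trans ?_
      rw [show (Pi.evalRingHom S i).comp (RingHom.pi fun i => (f i).comp (Pi.evalRingHom R i)) =
        (f i).comp (Pi.evalRingHom R i) from rfl, ← Polynomial.eval₂_map,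
        show P.map (Pi.evalRingHom R i) = q i from Polynomial.ext fun n => by
          rw [Polynomial.coeff_map]; exact hcoeff n i]
      simp [q, Polynomial.eval₂_mul, hpe i]

end Groth.Agent.S9656
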