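import Groth.Statements.S9657
import Groth.Agent.H20.GeomIrred
import Mathlib.RingTheory.PolynomialAlgebra

set_option autoImplicit false
universe u
open CAlg

namespace Groth.Agent.S9657

open TensorProduct Polynomial

section
variable {k K : Type u} [Field k] [Field K] [Algebra k K] {kt Kt : Type u} [Field kt] [Field Kt]
  [Algebra (Polynomial k) kt] [IsFractionRing (Polynomial k) kt] [Algebra (Polynomial K) Kt]
  [IsFractionRing (Polynomial K) Kt] [Algebra kt Kt] [Algebra k kt] [Algebra k Kt]
  [IsScalarTower k (Polynomial k) kt] [IsScalarTower k kt Kt]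

theorem exists_theta
    (hcompat : ∀ p : Polynomial k, algebraMap kt Kt (algebraMap (Polynomial k) kt p) =
      algebraMap (Polynomial K) Kt (Polynomial.map (algebraMap k K) p))
    (L : Type u) [Field L] [Algebra kt L] [Algebra k L] [IsScalarTower k kt L] :
    ∃ Θ : L ⊗[k] K →+* L ⊗[kt] Kt, Function.Injective Θ ∧
      ∀ z, ∃ a v, IsUnit (Θ v) ∧ z * Θ v = Θ a := by
  let φ : K →+* Kt := (algebraMap (Polynomial K) Kt).comp C
  have hφ : ∀ c, φ (algebraMap k K c) = algebraMap k Kt c := fun c => by
    rw [IsScalarTower.algebraMap_apply k kt Kt, IsScalarTower.algebraMap_apply k (Polynomial k) kt,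
      hcompat, Polynomial.algebraMap_eq, map_C]
    rfl
  let iK : K →ₐ[k] Kt := { φ with commutes' := hφ }
  let M : kt ⊗[k] K →ₐ[kt] Kt :=
    Algebra.TensorProduct.lift (Algebra.ofId kt Kt) iK fun _ _ => .all _ _
  let jP : Polynomial k ⊗[k] K →ₐ[k] kt ⊗[k] K :=
    Algebra.TensorProduct.map (IsScalarTower.toAlgHom k (Polynomial k) kt) (AlgHom.id k K)
  have hP : ∀ w, M (jP w) = algebraMap (Polynomial K) Kt
      ((polyEquivTensor k K).symm (Algebra.TensorProduct.comm k (Polynomial k) K w)) := by
    intro w
    induction w using TensorProduct.induction_on with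
    | zero => simp
    | add a b ha hb => simp only [map_add, ha, hb]
    | tmul p c =>
      rw [Algebra.TensorProduct.comm_tmul, polyEquivTensor_symm_apply_tmul_eq_smul, Polynomial.smul_eq_C_mul,
        map_mul, ← hcompat, mul_comm]
      rfl
  have hinj : Function.Injective M := by
    rw [injective_iff_map_eq_zero]
    intro z hz
    obtain ⟨d, w, hd, hw⟩ : ∃ d : Polynomial k, ∃ w, d ≠ 0 ∧
        (algebraMap (Polynomial k) kt d ⊗ₜ[k] (1 : K)) * z = jP w := by
      clear hz
      induction z using TensorProduct.induction_on with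
      | zero => exact ⟨1, 0, one_ne_zero, by simp⟩
      | add a b ha hb =>
        obtain ⟨d, w, hd, hw⟩ := ha
        obtain ⟨d', w', hd', hw'⟩ := hb
        refine ⟨d * d', (d' ⊗ₜ 1) * w + (d ⊗ₜ 1) * w', mul_ne_zero hd hd', ?_⟩
        rw [map_add, map_mul, map_mul jP, map_mul jP, ← hw, ← hw', mul_add]
        simp only [jP, Algebra.TensorProduct.map_tmul, IsScalarTower.toAlgHom_apply, map_one,
          ← mul_assoc, Algebra.TensorProduct.tmul_mul_tmul, mul_one, one_mul]
        rw [mul_comm (algebraMap (Polynomial k) kt d') (algebraMap (Polynomial k) kt d)]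
      | tmul q c =>
        obtain ⟨⟨n, ⟨d, hd⟩⟩, hq⟩ := IsLocalization.surj (nonZeroDivisors (Polynomial k)) q
        refine ⟨d, n ⊗ₜ c, nonZeroDivisors.ne_zero hd, ?_⟩
        rw [Algebra.TensorProduct.tmul_mul_tmul, one_mul, mul_comm, hq]
        rfl
    have hMd : M (algebraMap (Polynomial k) kt d ⊗ₜ[k] (1 : K)) ≠ 0 := by
      simp only [M, Algebra.TensorProduct.lift_tmul, map_one, mul_one, Algebra.ofId_apply]
      exact (map_ne_zero_iff _ (algebraMap kt Kt).injective).mpr
        ((map_ne_zero_iff _ (IsFractionRing.injective (Polynomial k) kt)).mpr hd)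
    have h0 : M (jP w) = 0 := by rw [← hw, map_mul, hz, mul_zero]
    rw [hP, map_eq_zero_iff _ (IsFractionRing.injective (Polynomial K) Kt),
      map_eq_zero_iff _ (polyEquivTensor k K).symm.injective,
      map_eq_zero_iff _ (Algebra.TensorProduct.comm k (Polynomial k) K).injective] at h0
    rw [h0, map_zero] at hw
    have hu : IsUnit (algebraMap (Polynomial k) kt d ⊗ₜ[k] (1 : K)) :=
      (Ne.isUnit ((map_ne_zero_iff _ (IsFractionRing.injective (Polynomial k) kt)).mpr hd)).map
        (Algebra.TensorProduct.includeLeft : kt →ₐ[k] kt ⊗[k] K)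
    exact hu.mul_right_eq_zero.mp hw
  let e := Algebra.TensorProduct.cancelBaseChange k kt L L K
  let Θ : L ⊗[k] K →+* L ⊗[kt] Kt :=
    (Algebra.TensorProduct.map (AlgHom.id kt L) M).toRingHom.comp e.symm.toRingEquiv.toRingHom
  have hΘ : ∀ l c, Θ (l ⊗ₜ c) = l ⊗ₜ φ c := by
    intro l c
    have : e.symm (l ⊗ₜ[k] c) = l ⊗ₜ[kt] ((1 : kt) ⊗ₜ[k] c) := by
      rw [AlgEquiv.symm_apply_eq]
      simp [e]
    change Algebra.TensorProduct.map (AlgHom.id kt L) M (e.symm (l ⊗ₜ[k] c)) = _
    rw [this]
    simp [M, iK]
  refine ⟨Θ, (Groth.Agent.H20.GeomIrred.tensor_map_injective _ Function.injective_id M hinj).comp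
    e.symm.injective, ?_⟩
  have hX : Θ ((algebraMap kt L (algebraMap (Polynomial k) kt X)) ⊗ₜ 1) =
      1 ⊗ₜ[kt] algebraMap (Polynomial K) Kt X := by
    rw [hΘ, map_one, Algebra.algebraMap_eq_smul_one (A := L), TensorProduct.smul_tmul,
      ← Algebra.algebraMap_eq_smul_one (A := Kt), hcompat, map_X]
  have hN : ∀ N : Polynomial K, (1 : L) ⊗ₜ[kt] algebraMap (Polynomial K) Kt N ∈ Θ.range := by
    intro N
    let g : Polynomial K →+* L ⊗[kt] Kt :=
      (Algebra.TensorProduct.includeRight : Kt →ₐ[kt] L ⊗[kt] Kt).toRingHom.comp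
        (algebraMap (Polynomial K) Kt)
    change g N ∈ Θ.range
    induction N using Polynomial.induction_on' with
    | add p q hp hq => rw [map_add]; exact add_mem hp hq
    | monomial n c =>
      rw [← C_mul_X_pow_eq_monomial, map_mul, map_pow]
      exact Subring.mul_mem _ (RingHom.mem_range.mpr ⟨1 ⊗ₜ c, hΘ 1 c⟩)
        (Subring.pow_mem _ (RingHom.mem_range.mpr ⟨_, hX⟩) n)
  intro z
  induction z using TensorProduct.induction_on with
  | zero => exact ⟨0, 1, by rw [map_one]; exact isUnit_one, by rw [map_zero, zero_mul]⟩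
  | add a b ha hb =>
    obtain ⟨a', u, hu, ha⟩ := ha
    obtain ⟨b', v, hv, hb⟩ := hb
    refine ⟨a' * v + b' * u, u * v, by rw [map_mul]; exact hu.mul hv, ?_⟩
    rw [map_mul, map_add, map_mul, map_mul, ← ha, ← hb]
    ring
  | tmul l q =>
    obtain ⟨⟨N, D⟩, hq⟩ := IsLocalization.surj (nonZeroDivisors (Polynomial K)) q
    obtain ⟨a, ha⟩ := hN N
    obtain ⟨v, hv⟩ := hN D
    refine ⟨(l ⊗ₜ 1) * a, v, ?_, ?_⟩
    · rw [hv]
      exact (Ne.isUnit ((map_ne_zero_iff _ (IsFractionRing.injective (Polynomial K) Kt)).mpr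
        (nonZeroDivisors.ne_zero D.2))).map
          (Algebra.TensorProduct.includeRight : Kt →ₐ[kt] L ⊗[kt] Kt)
    · rw [map_mul, ha, hv, hΘ, map_one, Algebra.TensorProduct.tmul_mul_tmul,
        Algebra.TensorProduct.tmul_mul_tmul, hq, mul_one, one_mul]

end

open TensorProduct in
/-- Let K/k be a field extension and let k(t) ⊆ K(t) be the purely transcendental extensions in one
variable, realised as fraction fields of k[t] and K[t] compatibly with k[t] → K[t]. Then K is
geometrically irreducible over k (Spec(k' ⊗_k K) irreducible for every field extension k'/k) if and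
only if K(t) is geometrically irreducible over k(t). Here the test fields range over field
extensions of k, respectively of k(t), in the universe of k; this is equivalent to the unrestricted
notions, since an algebraic closure of the base field suffices as a test. -/
theorem result {k K : Type u} [Field k] [Field K] [Algebra k K]
    (kt Kt : Type u) [Field kt] [Field Kt] [Algebra (Polynomial k) kt] [IsFractionRing (Polynomial k) kt] [Algebra (Polynomial K) Kt] [IsFractionRing (Polynomial K) Kt]
    [Algebra kt Kt] (hcompat : ∀ p : Polynomial k, algebraMap kt Kt (algebraMap (Polynomial k) kt p) = algebraMap (Polynomial K) Kt (Polynomial.map (algebraMap k K) p)) :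
    (∀ (k' : Type u) [Field k'] [Algebra k k'], IrreducibleSpace (PrimeSpectrum (k' ⊗[k] K))) ↔
      ∀ (L : Type u) [Field L] [Algebra kt L], IrreducibleSpace (PrimeSpectrum (L ⊗[kt] Kt)) := by
  letI : Algebra k kt := ((algebraMap (Polynomial k) kt).comp Polynomial.C).toAlgebra
  letI : Algebra k Kt := ((algebraMap kt Kt).comp (algebraMap k kt)).toAlgebra
  haveI : IsScalarTower k (Polynomial k) kt := .of_algebraMap_eq fun c => rfl
  haveI : IsScalarTower k kt Kt := .of_algebraMap_eq fun c => rfl
  constructor
  · intro h L _ _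
    letI : Algebra k L := ((algebraMap kt L).comp (algebraMap k kt)).toAlgebra
    haveI : IsScalarTower k kt L := .of_algebraMap_eq fun c => rfl
    obtain ⟨Θ, hinj, hΘ⟩ := exists_theta hcompat L
    haveI := PrimeSpectrum.irreducibleSpace_iff_isPrime_nilradical.mp (h L)
    haveI : Nontrivial (L ⊗[kt] Kt) := Groth.Agent.H20.GeomIrred.nontrivial_tensor kt L Kt
    rw [PrimeSpectrum.irreducibleSpace_iff_isPrime_nilradical]
    refine ⟨fun he => not_isNilpotent_one (mem_nilradical.mp ((Ideal.eq_top_iff_one _).mp he)),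
      fun {x y} hxy => ?_⟩
    obtain ⟨a, u, hu, ha⟩ := hΘ x
    obtain ⟨b, v, hv, hb⟩ := hΘ y
    have h1 : IsNilpotent (Θ (a * b)) := by
      rw [map_mul, ← ha, ← hb, show x * Θ u * (y * Θ v) = x * y * (Θ u * Θ v) by ring]
      exact Commute.isNilpotent_mul_right (.all _ _) (mem_nilradical.mp hxy)
    have h2 := mem_nilradical.mpr ((IsNilpotent.map_iff hinj).mp h1)
    refine (Ideal.IsPrime.mem_or_mem ‹(nilradical (L ⊗[k] K)).IsPrime› h2).imp (fun h0 => ?_)
      fun h0 => ?_
    · have := (mem_nilradical.mp h0).map Θ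
      rw [← ha] at this
      obtain ⟨w, hw⟩ := hu.exists_right_inv
      rw [mem_nilradical, ← mul_one x, ← hw, ← mul_assoc]
      exact (Commute.all _ _).isNilpotent_mul_right this
    · have := (mem_nilradical.mp h0).map Θ
      rw [← hb] at this
      obtain ⟨w, hw⟩ := hv.exists_right_inv
      rw [mem_nilradical, ← mul_one y, ← hw, ← mul_assoc]
      exact (Commute.all _ _).isNilpotent_mul_right this
  · intro h k' _ _
    let L := FractionRing (Polynomial k')
    have hi : Function.Injective ((algebraMap (Polynomial k') L).comp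
        (Polynomial.mapRingHom (algebraMap k k'))) :=
      (IsFractionRing.injective (Polynomial k') L).comp
        (Polynomial.map_injective _ (algebraMap k k').injective)
    letI : Algebra kt L := (IsFractionRing.lift hi).toAlgebra
    haveI : IsScalarTower k kt L := .of_algebraMap_eq fun c => by
      change _ = IsFractionRing.lift hi (algebraMap (Polynomial k) kt (Polynomial.C c))
      rw [IsFractionRing.lift_algebraMap]
      simp [IsScalarTower.algebraMap_apply k (Polynomial k') L]
    obtain ⟨Θ, hinj, -⟩ := exists_theta hcompat L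
    haveI := h L
    haveI : IrreducibleSpace (PrimeSpectrum (L ⊗[k] K)) :=
      Groth.Agent.H20.GeomIrred.irreducible_of_injective Θ hinj
    exact Groth.Agent.H20.GeomIrred.irreducible_of_injective
      (Algebra.TensorProduct.map (IsScalarTower.toAlgHom k k' L) (AlgHom.id k K)).toRingHom
      (Groth.Agent.H20.GeomIrred.tensor_map_injective _ (algebraMap k' L).injective _
        Function.injective_id)

end Groth.Agent.S9657
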