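import Groth.Statements.S9658
import Mathlib.Algebra.Module.LocalizedModule.Basic
import Mathlib.RingTheory.Ideal.Span
import Mathlib.RingTheory.Ideal.Operations
import Mathlib.Algebra.Module.BigOperators

set_option autoImplicit false
universe u
open CAlg

namespace Groth.Agent.S9658

/-- Let R be a ring, f_1, …, f_n ∈ R generating the unit ideal and M an R-module. With M_i = M_{f_i},
M_ij = M_{f_i f_j} (any localizations, with the canonical compatible maps M → M_i → M_ij), the
sequence 0 → M → ⊕ M_i → ⊕ M_ij is exact: an element of M whose image vanishes in every M_i is zero,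
and every family (m_i ∈ M_i) such that m_i and m_j have the same image in M_ij for all i, j is the
image of an element of M. -/
theorem result {R : Type u} [CommRing R] {ι : Type u} [Fintype ι] (f : ι → R) (hf : Ideal.span (Set.range f) = ⊤)
    (M : Type u) [AddCommGroup M] [Module R M]
    (Mi : ι → Type u) [∀ i, AddCommGroup (Mi i)] [∀ i, Module R (Mi i)] (g : ∀ i, M →ₗ[R] Mi i) [∀ i, IsLocalizedModule (Submonoid.powers (f i)) (g i)]
    (Mij : ι → ι → Type u) [∀ i j, AddCommGroup (Mij i j)] [∀ i j, Module R (Mij i j)] (gij : ∀ i j, M →ₗ[R] Mij i j) [∀ i j, IsLocalizedModule (Submonoid.powers (f i * f j)) (gij i j)]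
    (ρ₁ : ∀ i j, Mi i →ₗ[R] Mij i j) (hρ₁ : ∀ i j, ρ₁ i j ∘ₗ g i = gij i j) (ρ₂ : ∀ i j, Mi j →ₗ[R] Mij i j) (hρ₂ : ∀ i j, ρ₂ i j ∘ₗ g j = gij i j) :
    (∀ m : M, (∀ i, g i m = 0) → m = 0) ∧
      ∀ s : ∀ i, Mi i, (∀ i j, ρ₁ i j (s i) = ρ₂ i j (s j)) → ∃ m : M, ∀ i, g i m = s i := by
  classical
  have hspan : ∀ P : ℕ, ∃ c : ι → R, ∑ i, c i * f i ^ P = 1 := by
    intro P
    have h : Ideal.span (Set.range fun i => f i ^ P) = ⊤ := by
      rw [show (Set.range fun i => f i ^ P) = (fun x => x ^ P) '' Set.range f from Set.range_comp (· ^ P) f]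
      exact Ideal.span_pow_eq_top _ hf P
    exact (Ideal.mem_span_range_iff_exists_fun).1 ((Ideal.eq_top_iff_one _).1 h)
  refine ⟨fun m hm => ?_, fun s hs => ?_⟩
  · have h1 : ∀ i, ∃ k : ℕ, f i ^ k • m = 0 := by
      intro i
      obtain ⟨⟨_, k, rfl⟩, hk⟩ := (IsLocalizedModule.eq_zero_iff (Submonoid.powers (f i)) (g i)).1 (hm i)
      exact ⟨k, hk⟩
    choose k hk using h1
    obtain ⟨c, hc⟩ := hspan (Finset.univ.sup k)
    rw [← one_smul R m, ← hc, Finset.sum_smul]
    refine Finset.sum_eq_zero fun i _ => ?_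
    obtain ⟨d, hd⟩ := Nat.exists_eq_add_of_le (Finset.le_sup (f := k) (Finset.mem_univ i))
    rw [hd, pow_add, mul_smul, mul_comm (f i ^ k i), mul_smul, hk, smul_zero, smul_zero]
  · have h1 : ∀ i, ∃ (k : ℕ) (x : M), f i ^ k • s i = g i x := by
      intro i
      obtain ⟨⟨x, _, k, rfl⟩, hk⟩ := IsLocalizedModule.surj (Submonoid.powers (f i)) (g i) (s i)
      exact ⟨k, x, hk⟩
    choose k x hx using h1
    let N := Finset.univ.sup k
    have hx' : ∀ i, ∃ y : M, f i ^ N • s i = g i y := fun i => by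
      obtain ⟨d, hd⟩ := Nat.exists_eq_add_of_le (Finset.le_sup (f := k) (Finset.mem_univ i))
      refine ⟨f i ^ d • x i, ?_⟩
      rw [map_smul, ← hx, smul_smul, ← pow_add, add_comm]
      exact congrArg (fun z => f i ^ z • s i) hd
    choose y hy using hx'
    have h2 : ∀ p : ι × ι, ∃ K : ℕ, (f p.1 * f p.2) ^ K • (f p.2 ^ N • y p.1) =
        (f p.1 * f p.2) ^ K • (f p.1 ^ N • y p.2) := by
      rintro ⟨i, j⟩
      have he : gij i j (f j ^ N • y i) = gij i j (f i ^ N • y j) := by
        rw [map_smul, map_smul]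
        conv_lhs => rw [← hρ₁ i j, LinearMap.comp_apply, ← hy, map_smul]
        conv_rhs => rw [← hρ₂ i j, LinearMap.comp_apply, ← hy, map_smul]
        rw [hs i j, smul_smul, smul_smul, mul_comm]
      obtain ⟨⟨_, K, rfl⟩, hK⟩ := IsLocalizedModule.exists_of_eq (S := Submonoid.powers (f i * f j)) he
      exact ⟨K, hK⟩
    choose K hK using h2
    let L := Finset.univ.sup K
    let z : ι → M := fun i => f i ^ L • y i
    have hz : ∀ i j, f j ^ (N + L) • z i = f i ^ (N + L) • z j := by
      intro i j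
      obtain ⟨d, hd⟩ := Nat.exists_eq_add_of_le (Finset.le_sup (f := K) (Finset.mem_univ (i, j)))
      have hh := congrArg (fun w => (f i * f j) ^ d • w) (hK (i, j))
      simp only [smul_smul, ← pow_add] at hh
      show f j ^ (N + L) • f i ^ L • y i = f i ^ (N + L) • f j ^ L • y j
      rw [smul_smul, smul_smul]
      have hL : L = d + K (i, j) := by rw [add_comm]; exact hd
      rw [← mul_assoc, ← mul_assoc] at hh
      simp only [← pow_add] at hh
      rw [← hL] at hh
      convert hh using 2 <;> ring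
    obtain ⟨c, hc⟩ := hspan (N + L)
    refine ⟨∑ i, c i • z i, fun j => ?_⟩
    refine IsLocalizedModule.smul_injective (g j) (S := Submonoid.powers (f j)) ⟨f j ^ (N + L), N + L, rfl⟩ ?_
    show f j ^ (N + L) • g j (∑ i, c i • z i) = f j ^ (N + L) • s j
    rw [← map_smul, Finset.smul_sum]
    have : ∑ i, f j ^ (N + L) • c i • z i = z j := by
      conv_rhs => rw [← one_smul R (z j), ← hc, Finset.sum_smul]
      refine Finset.sum_congr rfl fun i _ => ?_
      rw [smul_comm, hz, ← mul_smul]
    rw [this]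
    show g j (f j ^ L • y j) = _
    rw [map_smul, ← hy, smul_smul, ← pow_add, add_comm]

end Groth.Agent.S9658
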