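import Groth.Statements.S9659
import Mathlib.RingTheory.GradedAlgebra.Radical
import Mathlib.RingTheory.Spectrum.Prime.RingHom
import Mathlib.RingTheory.Spectrum.Prime.Topology

set_option autoImplicit false
universe u
open CAlg

namespace Groth.Agent.S9659

open DirectSum in
theorem inv_mem {R S : Type u} [CommRing R] [CommRing S] [Algebra R S] (𝒜 : ℤ → Submodule R S)
    [GradedAlgebra 𝒜] {f v : S} {d : ℤ} (hf : f ∈ 𝒜 d) (hfv : f * v = 1) : v ∈ 𝒜 (-d) := by
  classical
  have h1 : f * (decompose 𝒜 v (-d) : S) = 1 := by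
    have h := DirectSum.coe_decompose_mul_add_of_left_mem 𝒜 (b := v) (j := -d) hf
    rw [add_neg_cancel, hfv, decompose_one, DirectSum.one_def, DirectSum.of_eq_same] at h
    exact h.symm
  have : (decompose 𝒜 v (-d) : S) = v :=
    calc (decompose 𝒜 v (-d) : S) = (f * v) * (decompose 𝒜 v (-d) : S) := by rw [hfv, one_mul]
      _ = v * (f * (decompose 𝒜 v (-d) : S)) := by ring
      _ = v := by rw [h1, mul_one]
  rw [← this]
  exact (decompose 𝒜 v (-d)).2

theorem exists_degreeZero {R S : Type u} [CommRing R] [CommRing S] [Algebra R S]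
    (𝒜 : ℤ → Submodule R S) [GradedAlgebra 𝒜] {f : S} {d : ℤ} (hd : 0 < d) (hf : f ∈ 𝒜 d)
    (hu : IsUnit f) {x : S} {i : ℤ} (hx : x ∈ 𝒜 i) :
    ∃ y ∈ 𝒜 0, ∀ P : Ideal S, P.IsPrime → (y ∈ P ↔ x ∈ P) := by
  obtain ⟨v, hfv⟩ := hu.exists_right_inv
  have hv := inv_mem 𝒜 hf hfv
  have key : ∀ (w : S), IsUnit w → w ∈ 𝒜 (-(i * d)) → ∃ y ∈ 𝒜 0, ∀ P : Ideal S, P.IsPrime → (y ∈ P ↔ x ∈ P) := by
    intro w hw hwm
    refine ⟨x ^ d.toNat * w, ?_, fun P hP => ?_⟩
    · have h := SetLike.GradedMul.mul_mem (SetLike.pow_mem_graded (A := 𝒜) d.toNat hx) hwm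
      rwa [nsmul_eq_mul, Int.toNat_of_nonneg hd.le, mul_comm d i, add_neg_cancel] at h
    · rw [Ideal.mul_unit_mem_iff_mem P hw]
      exact hP.pow_mem_iff_mem _ (by omega)
  rcases le_total 0 i with hi | hi
  · obtain ⟨m, rfl⟩ := Int.eq_ofNat_of_zero_le hi
    refine key (v ^ m) ((IsUnit.of_mul_eq_one_right _ hfv).pow m) ?_
    have h := SetLike.pow_mem_graded (A := 𝒜) m hv
    rwa [nsmul_eq_mul, mul_neg] at h
  · obtain ⟨m, hm⟩ := Int.eq_ofNat_of_zero_le (neg_nonneg.mpr hi)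
    refine key (f ^ m) (hu.pow m) ?_
    have h := SetLike.pow_mem_graded (A := 𝒜) m hf
    rwa [nsmul_eq_mul, ← hm, neg_mul] at h

/-- Let S be a ℤ-graded ring which contains an invertible homogeneous element of positive degree. Then
the set of homogeneous prime ideals of S, with the topology induced from Spec(S), maps
homeomorphically onto Spec(S₀) by p ↦ p ∩ S₀. -/
theorem result {R S : Type u} [CommRing R] [CommRing S] [Algebra R S] (𝒜 : ℤ → Submodule R S) [GradedAlgebra 𝒜]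
    (f : S) (d : ℤ) (hd : 0 < d) (hf : f ∈ 𝒜 d) (hu : IsUnit f) :
    IsHomeomorph (fun p : {p : PrimeSpectrum S // p.asIdeal.IsHomogeneous 𝒜} => PrimeSpectrum.comap (SetLike.GradeZero.subring 𝒜).subtype p.1) := by
  classical
  let φ := (SetLike.GradeZero.subring 𝒜).subtype
  let Φ : {p : PrimeSpectrum S // p.asIdeal.IsHomogeneous 𝒜} → PrimeSpectrum (SetLike.GradeZero.subring 𝒜) :=
    fun p => PrimeSpectrum.comap φ p.1
  have hinj : Function.Injective Φ := by
    intro p q hpq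
    have key : ∀ (p q : {p : PrimeSpectrum S // p.asIdeal.IsHomogeneous 𝒜}), Φ p = Φ q →
        p.1.asIdeal ≤ q.1.asIdeal := by
      intro p q hpq x hx
      rw [← DirectSum.sum_support_decompose 𝒜 x]
      refine Ideal.sum_mem _ fun i _ => ?_
      obtain ⟨y, hy, hP⟩ := exists_degreeZero 𝒜 hd hf hu (DirectSum.decompose 𝒜 x i).2
      have h1 : (⟨y, hy⟩ : SetLike.GradeZero.subring 𝒜) ∈ (Φ p).asIdeal :=
        (hP _ p.1.2).mpr (p.2 i hx)
      rw [hpq] at h1
      exact (hP _ q.1.2).mp h1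
    exact Subtype.ext (PrimeSpectrum.ext (le_antisymm (key p q hpq) (key q p hpq.symm)))
  have hsurj : Function.Surjective Φ := by
    intro p0
    obtain ⟨q, hq⟩ : p0 ∈ Set.range (PrimeSpectrum.comap φ) := by
      rw [PrimeSpectrum.mem_range_comap_iff]
      refine le_antisymm (fun z hz => ?_) Ideal.le_comap_map
      rw [Ideal.mem_comap, Ideal.map, Ideal.span, Submodule.mem_span_iff_exists_finset_subset] at hz
      obtain ⟨c, T, hT, -, hsum⟩ := hz
      choose g hg hgx using fun x : T => (hT x.2 : (x : S) ∈ φ '' p0.asIdeal)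
      have h0 : ∀ x : T, (DirectSum.decompose 𝒜 (c x * (x : S)) 0 : S) =
          (DirectSum.decompose 𝒜 (c x) 0 : S) * x := by
        intro x
        have hxm : (x : S) ∈ 𝒜 0 := by rw [← hgx x]; exact (g x).2
        have h := DirectSum.coe_decompose_mul_add_of_left_mem 𝒜 (b := c x) (j := 0) hxm
        rw [add_zero, mul_comm (x : S) (c x), mul_comm (x : S)] at h
        exact h
      have : z = ∑ x : T, (⟨_, (DirectSum.decompose 𝒜 (c x) 0).2⟩ : SetLike.GradeZero.subring 𝒜) * g x := by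
        apply Subtype.ext
        have h1 : (z : S) = (DirectSum.decompose 𝒜 (z : S) 0 : S) :=
          (DirectSum.decompose_of_mem_same 𝒜 z.2).symm
        rw [h1]
        change (DirectSum.decompose 𝒜 (φ z) 0 : S) = _
        rw [← hsum, ← Finset.sum_coe_sort, DirectSum.decompose_sum, DFinsupp.finsetSum_apply,
          AddSubmonoidClass.coe_finsetSum, AddSubmonoidClass.coe_finsetSum]
        refine Finset.sum_congr rfl fun x _ => ?_
        rw [smul_eq_mul, h0]
        rw [Subring.coe_mul, ← hgx x]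
        rfl
      rw [this]
      exact Ideal.sum_mem _ fun x _ => Ideal.mul_mem_left _ _ (hg x)
    refine ⟨⟨⟨(q.asIdeal.homogeneousCore 𝒜).toIdeal, Ideal.IsPrime.homogeneousCore q.2⟩,
      HomogeneousIdeal.isHomogeneous _⟩, ?_⟩
    rw [← hq]
    refine PrimeSpectrum.ext (Ideal.ext fun z => ⟨fun h => Ideal.toIdeal_homogeneousCore_le 𝒜 _ h,
      fun h => Ideal.mem_homogeneousCore_of_homogeneous_of_mem (x := (z : S)) ⟨0, z.2⟩ h⟩)
  refine ⟨(PrimeSpectrum.continuous_comap φ).comp continuous_subtype_val, ?_, hinj, hsurj⟩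
  refine TopologicalSpace.IsTopologicalBasis.isOpenMap_iff (PrimeSpectrum.isTopologicalBasis_basic_opens.induced Subtype.val) |>.mpr ?_
  rintro _ ⟨_, ⟨x, rfl⟩, rfl⟩
  choose y hy hP using fun i : ℤ => exists_degreeZero 𝒜 hd hf hu (DirectSum.decompose 𝒜 x i).2
  have : Φ '' (Subtype.val ⁻¹' (PrimeSpectrum.basicOpen x : Set (PrimeSpectrum S))) =
      ⋃ i : ℤ, (PrimeSpectrum.basicOpen (⟨y i, hy i⟩ : SetLike.GradeZero.subring 𝒜) : Set _) := by
    ext p0
    constructor
    · rintro ⟨p, hp, rfl⟩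
      by_contra hc
      simp only [Set.mem_iUnion, not_exists] at hc
      refine hp ?_
      rw [← DirectSum.sum_support_decompose 𝒜 x]
      exact Ideal.sum_mem _ fun i _ => (hP i _ p.1.2).mp (not_not.mp (hc i))
    · rintro hp0
      obtain ⟨i, hi⟩ := Set.mem_iUnion.mp hp0
      obtain ⟨p, rfl⟩ := hsurj p0
      exact ⟨p, fun hx => hi ((hP i _ p.1.2).mpr (p.2 i hx)), rfl⟩
  change IsOpen (Φ '' _)
  rw [this]
  exact isOpen_iUnion fun i => (PrimeSpectrum.basicOpen _).isOpen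

end Groth.Agent.S9659
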