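import Groth.Statements.S9661
import Groth.Agent.H2.HilbDegree
import Mathlib.RingTheory.KrullDimension.NonZeroDivisors
import Mathlib.RingTheory.KrullDimension.Polynomial
import Mathlib.RingTheory.KrullDimension.Field

set_option autoImplicit false
universe u
attribute [local instance] MvPolynomial.gradedAlgebra
open CAlg

namespace Groth.Agent.S9661

/-- Let k be a field, d ≥ 1, and I a nonzero homogeneous ideal of the standard-graded polynomial ring
k[X_1, …, X_d]; put M = k[X_1, …, X_d]/I. Then the function n ↦ dim_k M_n (equal to dim_k of the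
degree-n part of the polynomial ring minus dim_k of the degree-n part of I) coincides for all large
n with a polynomial of degree < d - 1, the zero polynomial if d = 1. -/
theorem result {k : Type u} [Field k] (d : ℕ) (hd : 0 < d)
    (I : HomogeneousIdeal (MvPolynomial.homogeneousSubmodule (Fin d) k)) (hI : I ≠ ⊥) :
    ∃ P : Polynomial ℚ, P.degree < ((d - 1 : ℕ) : WithBot ℕ) ∧ ∃ N : ℕ, ∀ n : ℕ, N ≤ n →
      ((Module.finrank k ↥(MvPolynomial.homogeneousSubmodule (Fin d) k n) : ℚ) -
        (Module.finrank k ↥(I.toIdeal.restrictScalars k ⊓ MvPolynomial.homogeneousSubmodule (Fin d) k n) : ℚ)) = P.eval (n : ℚ) := by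
  obtain ⟨n, rfl⟩ : ∃ n, d = n + 1 := ⟨d - 1, by omega⟩
  obtain ⟨P, hP⟩ := H2.HilbDegree.exists_isHP (n := n) (I := I.toIdeal) I.isHomogeneous
  obtain ⟨N, hN⟩ := hP
  refine ⟨P, ?_, N, fun m hm => (hN m hm).symm⟩
  rcases eq_or_ne P 0 with rfl | hP0
  · rw [Polynomial.degree_zero]; exact WithBot.bot_lt_coe _
  have hdim := H2.HilbDegree.IsHP.dim_eq I.isHomogeneous ⟨N, hN⟩ hP0
  obtain ⟨g, hg, hg0⟩ := Submodule.exists_mem_ne_zero_of_ne_bot
    (p := I.toIdeal) (fun h => hI (HomogeneousIdeal.toIdeal_injective (by simpa using h)))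
  have hlt := ringKrullDim_quotient_succ_le_of_nonZeroDivisor (mem_nonZeroDivisors_of_ne_zero hg0)
  have hle := ringKrullDim_le_of_surjective _
    (Ideal.Quotient.factor_surjective ((Ideal.span_singleton_le_iff_mem I.toIdeal).2 hg))
  rw [hdim] at hle
  rw [Lib.Dim.Basic.ringKrullDim_mvPolynomial k, Nat.card_fin] at hlt
  have h : ((P.natDegree + 1 : ℕ) : WithBot ℕ∞) + 1 ≤ ((n + 1 : ℕ) : WithBot ℕ∞) := by
    refine (add_le_add hle le_rfl).trans ?_
    simpa using hlt
  have h' : P.natDegree + 1 + 1 ≤ n + 1 := by exact_mod_cast h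
  rw [Polynomial.degree_eq_natDegree hP0]
  exact_mod_cast (by omega : P.natDegree < n + 1 - 1)

end Groth.Agent.S9661
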