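import Groth.Statements.S9662
import Groth.Agent.H95.K0Hilbert

set_option autoImplicit false
universe u
open CategoryTheory
open CAlg

namespace Groth.Agent.S9662

/-- Let S be a Noetherian ℕ-graded ring, presented as a graded algebra over a ring A mapping onto S₀,
whose irrelevant ideal S₊ is generated as an ideal by the degree-1 part S₁, and let M be a finitely
generated graded S-module, graded in nonnegative degrees. (The published statement allows modules
graded in all integer degrees; this row takes modules graded in degrees ≥ 0, which loses nothing for
large n.) Write K'₀(A) for the Grothendieck group of finite A-modules (the free abelian group on the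
finite A-modules modulo the relations given by short exact sequences) and [M_n] for the class of the
finite A-module M_n. Then n ↦ [M_n] is a numerical polynomial: there are a_0, …, a_{r-1} in K'₀(A)
with [M_n] = Σ_i C(n, i) · a_i for all large n. (When A → S₀ is bijective K'₀(A) is K'₀(S₀), the
group of the published statement; in general the classes are taken after restricting scalars along A
→ S₀.) -/
theorem result {A S : Type u} [CommRing A] [CommRing S] [Algebra A S] [IsNoetherianRing S] (𝒜 : ℕ → Submodule A S) [GradedAlgebra 𝒜]
    (h0 : ∀ s ∈ 𝒜 0, s ∈ Set.range (algebraMap A S))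
    (h1 : (HomogeneousIdeal.irrelevant 𝒜).toIdeal = Ideal.span (𝒜 1 : Set S))
    (M : Type u) [AddCommGroup M] [Module A M] [Module S M] [IsScalarTower A S M] [Module.Finite S M] (ℳ : ℕ → Submodule A M) [DirectSum.Decomposition ℳ] [SetLike.GradedSMul 𝒜 ℳ] :
    ∃ (r : ℕ) (a : Fin r → KZero.K0sub (fun X : ModuleCat.{u} A => Module.Finite A X)) (N : ℕ), ∀ n : ℕ, N ≤ n →
      KZero.clSub (fun X : ModuleCat.{u} A => Module.Finite A X) (ModuleCat.of A ↥(ℳ n)) = ∑ i : Fin r, ((n.choose (i : ℕ) : ℕ) : ℤ) • a i := by
  exact Groth.Agent.H95.K0Hilbert.exists_coeffs 𝒜 ℳ h0 h1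

end Groth.Agent.S9662
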