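import Groth.Statements.S9663
-- import your own Groth.Agent.* helpers here

set_option autoImplicit false
universe u
open CAlg

namespace Groth.Agent.S9663

/-- Let R be a ring and f_i, i in a finite index set, elements of R (no condition on the ideal they
generate). Suppose given for each i an R-module M_i on which f_i acts invertibly, for each pair (i,
j) an R-linear isomorphism ψ_ij : (M_i)_{f_j} → (M_j)_{f_i}, and suppose the cocycle condition ψ_jk
∘ ψ_ij = ψ_ik holds as maps (M_i)_{f_j f_k} → (M_k)_{f_i f_j} for all triples (i, j, k). All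
localizations are given through their universal properties: (M_i)_{f_j} with its map g from M_i;
(M_i)_{f_j f_k} with its map t from M_i and the compatible maps u from (M_i)_{f_j} and v from
(M_i)_{f_k}; and the three localized isomorphisms Ψ₁ (ψ_ij on (M_i)_{f_j f_k}), Ψ₂ (ψ_jk on
(M_j)_{f_i f_k}) and Ψ₃ (ψ_ik on (M_i)_{f_j f_k}) are given as maps compatible with the ψ's. Let M ⊆
Π_i M_i be the submodule of families (m_i) with m_i/1 = ψ_ji(m_j/1) in (M_i)_{f_j} for all i, j.
Then for each i the projection M → M_i exhibits M_i as the localization of M at f_i. -/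
theorem result {R : Type u} [CommRing R] {ι : Type u} [Finite ι] (f : ι → R)
    (Mi : ι → Type u) [∀ i, AddCommGroup (Mi i)] [∀ i, Module R (Mi i)]
    (hMi : ∀ i, IsUnit (algebraMap R (Module.End R (Mi i)) (f i)))
    (Mij : ι → ι → Type u) [∀ i j, AddCommGroup (Mij i j)] [∀ i j, Module R (Mij i j)]
    (g : ∀ i j, Mi i →ₗ[R] Mij i j) [∀ i j, IsLocalizedModule (Submonoid.powers (f j)) (g i j)]
    (ψ : ∀ i j, Mij i j ≃ₗ[R] Mij j i)
    (T : ι → ι → ι → Type u) [∀ i j k, AddCommGroup (T i j k)] [∀ i j k, Module R (T i j k)]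
    (t : ∀ i j k, Mi i →ₗ[R] T i j k) [∀ i j k, IsLocalizedModule (Submonoid.powers (f j * f k)) (t i j k)]
    (u : ∀ i j k, Mij i j →ₗ[R] T i j k) (hu : ∀ i j k, u i j k ∘ₗ g i j = t i j k)
    (v : ∀ i j k, Mij i k →ₗ[R] T i j k) (hv : ∀ i j k, v i j k ∘ₗ g i k = t i j k)
    (Ψ₁ : ∀ i j k, T i j k →ₗ[R] T j i k) (hΨ₁ : ∀ i j k, Ψ₁ i j k ∘ₗ u i j k = u j i k ∘ₗ (ψ i j).toLinearMap)
    (Ψ₂ : ∀ i j k, T j i k →ₗ[R] T k i j) (hΨ₂ : ∀ i j k, Ψ₂ i j k ∘ₗ v j i k = v k i j ∘ₗ (ψ j k).toLinearMap)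
    (Ψ₃ : ∀ i j k, T i j k →ₗ[R] T k i j) (hΨ₃ : ∀ i j k, Ψ₃ i j k ∘ₗ v i j k = u k i j ∘ₗ (ψ i k).toLinearMap)
    (hcoc : ∀ i j k, Ψ₂ i j k ∘ₗ Ψ₁ i j k = Ψ₃ i j k)
    (M : Submodule R (∀ i, Mi i)) (hM : ∀ m : ∀ i, Mi i, m ∈ M ↔ ∀ i j, g i j (m i) = ψ j i (g j i (m j))) (i : ι) :
    IsLocalizedModule (Submonoid.powers (f i)) ((LinearMap.proj i).comp M.subtype : ↥M →ₗ[R] Mi i) := by
  classical
  have := Fintype.ofFinite ι
  have hinv : ∀ a b (z : Mij a b), IsUnit (algebraMap R (Module.End R (Mij a b)) (f b)) := fun a b _ =>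
    IsLocalizedModule.map_units (g a b) ⟨f b, Submonoid.mem_powers _⟩
  have hcancel : ∀ a b (e : ℕ) (z : Mij a b), f b ^ e • z = 0 → z = 0 := fun a b e z hz => by
    have h := ((Module.End.isUnit_iff _).mp ((hinv a b z).pow e)).1
    rw [← map_pow] at h
    exact h (a₂ := 0) (by rw [map_zero]; exact hz)
  -- kernel of a further localisation
  have hker : ∀ a b (z : Mij a b), v a i b z = 0 → ∃ e : ℕ, f i ^ e • z = 0 := by
    intro a b z hz
    obtain ⟨⟨x, ⟨_, e, rfl⟩⟩, hx⟩ := IsLocalizedModule.surj (Submonoid.powers (f b)) (g a b) z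
    have hx' : f b ^ e • z = g a b x := hx
    have h1 : t a i b x = 0 := by
      rw [← hv a i b, LinearMap.comp_apply, ← hx', map_smul, hz, smul_zero]
    obtain ⟨⟨_, e', rfl⟩, he'⟩ := (IsLocalizedModule.eq_zero_iff (Submonoid.powers (f i * f b)) (t a i b)).mp h1
    have he'' : (f i * f b) ^ e' • x = 0 := he'
    refine ⟨e', hcancel a b (e' + e) _ ?_⟩
    have := congrArg (g a b) he''
    rw [map_smul, map_zero, ← hx', smul_smul] at this
    rw [smul_smul]
    rwa [mul_pow, mul_assoc, ← pow_add, mul_comm] at this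
  have hψii : ∀ z, ψ i i z = z := by
    intro z
    have hgsurj : Function.Surjective (g i i) := fun w => by
      obtain ⟨⟨x, ⟨_, e, rfl⟩⟩, hx⟩ := IsLocalizedModule.surj (Submonoid.powers (f i)) (g i i) w
      have hx' : f i ^ e • w = g i i x := hx
      obtain ⟨x', hx''⟩ := ((Module.End.isUnit_iff _).mp ((hMi i).pow e)).2 x
      rw [← map_pow, Module.algebraMap_end_apply] at hx''
      refine ⟨x', sub_eq_zero.mp (hcancel i i e _ ?_)⟩
      rw [smul_sub, hx', ← map_smul, hx'', sub_self]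
    have huv : ∀ w, u i i i w = v i i i w := fun w => by
      obtain ⟨x, rfl⟩ := hgsurj w
      rw [← LinearMap.comp_apply, ← LinearMap.comp_apply, hu, hv]
    have h3 := LinearMap.congr_fun (hΨ₃ i i i) z
    simp only [LinearMap.comp_apply, LinearEquiv.coe_coe, ← huv] at h3
    rw [← hcoc i i i, LinearMap.comp_apply] at h3
    have h1 := LinearMap.congr_fun (hΨ₁ i i i) z
    simp only [LinearMap.comp_apply, LinearEquiv.coe_coe] at h1
    rw [h1] at h3
    have h2 := LinearMap.congr_fun (hΨ₂ i i i) (ψ i i z)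
    simp only [LinearMap.comp_apply, LinearEquiv.coe_coe, ← huv] at h2
    rw [h2] at h3
    have h4 : v i i i (ψ i i (ψ i i z) - ψ i i z) = 0 := by rw [map_sub, ← huv, ← huv, h3, sub_self]
    obtain ⟨e, he⟩ := hker i i _ h4
    exact (ψ i i).injective (sub_eq_zero.mp (hcancel i i e _ he))
  refine ⟨fun s => ?_, fun y => ?_, fun {m m'} h => ?_⟩
  · obtain ⟨_, e, rfl⟩ := s
    rw [map_pow]
    exact (hMi i).pow e
  · -- surjectivity
    choose p hp using fun j => IsLocalizedModule.surj (Submonoid.powers (f i)) (g j i) (ψ i j (g i j y))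
    choose x s hs using fun j => (⟨(p j).1, (p j).2, hp j⟩ : ∃ (a : Mi j) (s : Submonoid.powers (f i)), s • ψ i j (g i j y) = g j i a)
    choose k hk using fun j => (s j).2
    let K := Finset.univ.sup k
    obtain ⟨X, hX⟩ : ∃ X : ∀ j, Mi j, ∀ j, g j i (X j) = f i ^ K • ψ i j (g i j y) := by
      refine ⟨fun j => f i ^ (K - k j) • x j, fun j => ?_⟩
      have hs' : (s j : R) • ψ i j (g i j y) = g j i (x j) := hs j
      rw [map_smul, ← hs', ← hk j, smul_smul, ← pow_add, Nat.sub_add_cancel (Finset.le_sup (Finset.mem_univ j))]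
    have hagree : ∀ j l, v j i l (g j l (X j) - ψ l j (g l j (X l))) = 0 := by
      intro j l
      have e1 : v j i l (g j l (X j)) = f i ^ K • Ψ₁ i j l (t i j l y) := by
        rw [← LinearMap.comp_apply, hv, ← hu j i l, LinearMap.comp_apply, hX, map_smul]
        have := LinearMap.congr_fun (hΨ₁ i j l) (g i j y)
        rw [LinearMap.comp_apply, LinearMap.comp_apply, LinearEquiv.coe_coe] at this
        rw [← this, ← LinearMap.comp_apply (u i j l), hu]
      have e2 : v j i l (ψ l j (g l j (X l))) = f i ^ K • Ψ₁ i j l (t i j l y) := by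
        have a1 := LinearMap.congr_fun (hΨ₂ i l j) (g l j (X l))
        simp only [LinearMap.comp_apply, LinearEquiv.coe_coe] at a1
        rw [← a1, ← LinearMap.comp_apply (v l i j), hv, ← hu l i j, LinearMap.comp_apply, hX, map_smul, map_smul]
        have a2 := LinearMap.congr_fun (hΨ₁ i l j) (g i l y)
        simp only [LinearMap.comp_apply, LinearEquiv.coe_coe] at a2
        rw [← a2, ← LinearMap.comp_apply (Ψ₂ i l j), hcoc, ← LinearMap.comp_apply (u i l j), hu, ← hv i l j,
          LinearMap.comp_apply]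
        have a3 := LinearMap.congr_fun (hΨ₃ i l j) (g i j y)
        simp only [LinearMap.comp_apply, LinearEquiv.coe_coe] at a3
        rw [a3]
        have a4 := LinearMap.congr_fun (hΨ₁ i j l) (g i j y)
        simp only [LinearMap.comp_apply, LinearEquiv.coe_coe] at a4
        rw [← a4, ← LinearMap.comp_apply (u i j l), hu]
      rw [map_sub, e1, e2, sub_self]
    choose e he using fun jl : ι × ι => hker jl.1 jl.2 _ (hagree jl.1 jl.2)
    let E := Finset.univ.sup e
    have hmem : (fun j => f i ^ E • X j) ∈ M := by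
      rw [hM]
      intro j l
      refine sub_eq_zero.mp ?_
      rw [map_smul, map_smul, map_smul, ← smul_sub]
      change f i ^ Finset.univ.sup e • _ = (0 : Mij j l)
      rw [← Nat.sub_add_cancel (Finset.le_sup (f := e) (Finset.mem_univ (j, l))), pow_add, mul_smul, he (j, l), smul_zero]
    refine ⟨(⟨_, hmem⟩, ⟨_, E + K, rfl⟩), ?_⟩
    have hgii : Function.Injective (g i i) := fun a b hab => by
      obtain ⟨⟨_, e, rfl⟩, he⟩ := (IsLocalizedModule.eq_iff_exists (Submonoid.powers (f i)) (g i i)).mp hab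
      have h := ((Module.End.isUnit_iff _).mp ((hMi i).pow e)).1
      rw [← map_pow] at h
      exact h he
    have hXi : X i = f i ^ K • y := hgii (by rw [hX, hψii, map_smul])
    change f i ^ (E + K) • y = f i ^ E • X i
    rw [hXi, pow_add, mul_smul]
  · -- injectivity
    have hz : ∀ j, g j i ((m.1 - m'.1) j) = 0 := fun j => by
      have hd := (hM _).mp (sub_mem m.2 m'.2) j i
      have h0 : (m.1 - m'.1) i = 0 := sub_eq_zero.mpr h
      rw [hd, h0, map_zero, map_zero]
    choose s hs using fun j => (IsLocalizedModule.eq_zero_iff (Submonoid.powers (f i)) (g j i)).mp (hz j)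
    choose k hk using fun j => (s j).2
    refine ⟨⟨_, Finset.univ.sup k, rfl⟩, Subtype.ext (funext fun j => sub_eq_zero.mp ?_)⟩
    have hs' : (s j : R) • (m.1 - m'.1) j = 0 := hs j
    change f i ^ Finset.univ.sup k • m.1 j - f i ^ Finset.univ.sup k • m'.1 j = 0
    rw [← smul_sub, ← Nat.sub_add_cancel (Finset.le_sup (f := k) (Finset.mem_univ j)), pow_add, mul_smul]
    rw [show f i ^ k j • (m.1 j - m'.1 j) = 0 by rw [← hk j] at hs'; exact hs', smul_zero]

end Groth.Agent.S9663
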