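import Groth.Statements.S9664
import Groth.Agent.H15.AssFib
import Groth.Agent.Lib.FlatCA.WeakAss
-- import your own Groth.Agent.* helpers here

set_option autoImplicit false
universe u
open CAlg

namespace Groth.Agent.S9664

/-- Let R → S be a ring map, N an S-module, q a prime of S and p the prime of R below q; an associated
prime of a module is a prime ideal equal to the annihilator of some element. Then q is an associated
prime of the S-module N ⊗_R κ(p) (the fibre module of N over p, an S-module by restriction of
scalars along S → S ⊗_R κ(p)) if and only if q is the inverse image in S of an associated prime of N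
⊗_R κ(p) regarded as a module over the fibre ring S ⊗_R κ(p). -/
theorem result {R S : Type u} [CommRing R] [CommRing S] [Algebra R S] (N : Type u) [AddCommGroup N] [Module S N] [Module R N] [IsScalarTower R S N]
    (p : Ideal R) [p.IsPrime] (q : Ideal S) [q.IsPrime] (hq : q.comap (algebraMap R S) = p) :
    q ∈ FlatCA.ass S (FlatCA.fiberMod p S N) ↔
      ∃ Q ∈ FlatCA.ass (p.Fiber S) (FlatCA.fiberMod p S N),
        Q.comap (Algebra.TensorProduct.includeRight (R := R) (A := p.ResidueField) (B := S)).toRingHom = q := by
  haveI : q.LiesOver p := ⟨hq.symm⟩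
  constructor
  · intro h
    obtain ⟨hp, x, hx⟩ := Groth.Agent.H15.AssFib.mem_ass_iff.1 h
    obtain ⟨hpr, hcomap⟩ := Groth.Agent.Lib.FlatCA.WeakAss.fiberIdeal_prime p q
    refine ⟨FlatCA.fiberIdeal p q, ⟨hpr, x, ?_⟩, hcomap⟩
    rw [← Groth.Agent.Lib.FlatCA.WeakAss.map_comap_incl p (Submodule.span (p.Fiber S) {x}).annihilator]
    show q.map _ = _
    congr 1
    ext s
    rw [Ideal.mem_comap, hx, Submodule.mem_annihilator_span_singleton, Groth.Agent.Lib.FlatCA.Impurity.incl_smul]
  · rintro ⟨Q, ⟨hQ, x, hx⟩, rfl⟩
    refine Groth.Agent.H15.AssFib.mem_ass_iff.2 ⟨Ideal.IsPrime.comap _, x, fun s => ?_⟩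
    show s ∈ Q.comap (Groth.Agent.Lib.FlatCA.Impurity.incl p) ↔ _
    rw [Ideal.mem_comap, hx, Submodule.mem_annihilator_span_singleton, Groth.Agent.Lib.FlatCA.Impurity.incl_smul]

end Groth.Agent.S9664
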