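import Groth.Statements.S9665
import Groth.Agent.H15.AssFib
import Mathlib.RingTheory.TensorProduct.Finite
import Mathlib.Algebra.Colimit.TensorProduct
import Mathlib.RingTheory.Noetherian.Defs
-- import your own Groth.Agent.* helpers here

set_option autoImplicit false
universe u
open CAlg

namespace Groth.Agent.S9665

/-- Part (2): (A_fin ⊆ A): let R → S be a ring map, N an S-module, q a prime of S and p the prime of R
below q; an associated prime of a module is a prime ideal equal to the annihilator of some element.
If q is an associated prime of the S-module N/pN, then q is an associated prime of the S-module N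
⊗_R κ(p) (the fibre module over p, an S-module by restriction of scalars). -/
theorem result {R S : Type u} [CommRing R] [CommRing S] [Algebra R S] (N : Type u) [AddCommGroup N] [Module S N] [Module R N] [IsScalarTower R S N]
    (p : Ideal R) [p.IsPrime] (q : Ideal S) [q.IsPrime] (hq : q.comap (algebraMap R S) = p)
    (h : q ∈ FlatCA.ass S (N ⧸ (p.map (algebraMap R S)) • (⊤ : Submodule S N))) :
    q ∈ FlatCA.ass S (FlatCA.fiberMod p S N) := by
  open Groth.Agent.H15.AssFib in
  rw [ass_fiberMod, mem_ass_iff]
  obtain ⟨hp, m, hm⟩ := Groth.Agent.H15.AssFib.mem_ass_iff.1 h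
  obtain ⟨n, rfl⟩ := Submodule.Quotient.mk_surjective _ m
  refine ⟨hp, n ⊗ₜ 1, fun s => ?_⟩
  rw [hm, Groth.Agent.H15.AssFib.smul_mk_eq_zero_iff, TensorProduct.smul_tmul', Groth.Agent.H15.AssFib.ker (S := S)]
  constructor
  · exact fun hs => ⟨1, fun h1 => ‹p.IsPrime›.ne_top ((Ideal.eq_top_iff_one p).2 h1), by rwa [one_smul]⟩
  · rintro ⟨t, ht, hts⟩
    rw [← Groth.Agent.H15.AssFib.smul_mk_eq_zero_iff, ← hm]
    refine (hp.mem_or_mem ((hm (algebraMap R S t * s)).2 ?_)).resolve_left fun ht' => ht (hq ▸ Ideal.mem_comap.2 ht')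
    rw [Groth.Agent.H15.AssFib.smul_mk_eq_zero_iff, mul_smul, algebraMap_smul]
    exact hts

end Groth.Agent.S9665
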