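import Groth.Statements.S9666
import Groth.Agent.H15.AssFib
import Mathlib.RingTheory.TensorProduct.Finite
import Mathlib.Algebra.Colimit.TensorProduct
import Mathlib.RingTheory.Noetherian.Defs
-- import your own Groth.Agent.* helpers here

set_option autoImplicit false
universe u
open CAlg

namespace Groth.Agent.S9666

/-- Part (3): (A ⊆ A_fin): let R → S be a ring map with S Noetherian, N an S-module, q a prime of S and
p the prime of R below q; an associated prime of a module is a prime ideal equal to the annihilator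
of some element. If q is an associated prime of the S-module N ⊗_R κ(p) (the fibre module over p, an
S-module by restriction of scalars), then q is an associated prime of the S-module N/pN. -/
theorem result {R S : Type u} [CommRing R] [CommRing S] [Algebra R S] (N : Type u) [AddCommGroup N] [Module S N] [Module R N] [IsScalarTower R S N] [IsNoetherianRing S]
    (p : Ideal R) [p.IsPrime] (q : Ideal S) [q.IsPrime] (hq : q.comap (algebraMap R S) = p)
    (h : q ∈ FlatCA.ass S (FlatCA.fiberMod p S N)) :
    q ∈ FlatCA.ass S (N ⧸ (p.map (algebraMap R S)) • (⊤ : Submodule S N)) := by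
  open Groth.Agent.H15.AssFib in
  rw [ass_fiberMod, mem_ass_iff] at h
  obtain ⟨hp, x, hx⟩ := h
  obtain ⟨t, ht, n, hn⟩ := Groth.Agent.H15.AssFib.surj N p x
  have htq : algebraMap R S t ∉ q := fun h' => ht (hq ▸ Ideal.mem_comap.2 h')
  have hmem : ∀ s, s ∈ q ↔ ∃ u : R, u ∉ p ∧ u • s • n ∈ (p.map (algebraMap R S)) • (⊤ : Submodule S N) := by
    intro s
    rw [← Groth.Agent.H15.AssFib.ker, ← TensorProduct.smul_tmul', ← hn, ← algebraMap_smul S t x, ← mul_smul, ← hx]
    exact ⟨fun hs => q.mul_mem_right _ hs, fun hs => (hp.mem_or_mem hs).resolve_right htq⟩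
  obtain ⟨G, hG⟩ : q.FG := IsNoetherian.noetherian q
  have hG' : ∀ g : G, ∃ u : R, u ∉ p ∧ u • (g : S) • n ∈ (p.map (algebraMap R S)) • (⊤ : Submodule S N) :=
    fun g => (hmem g).1 (hG ▸ Submodule.subset_span g.2)
  choose u hu hun using hG'
  classical
  have hu' : (∏ g, u g) ∉ p := (p.primeCompl.prod_mem (fun g _ => hu g) : _ ∈ p.primeCompl)
  refine Groth.Agent.H15.AssFib.mem_ass_iff.2 ⟨hp, Submodule.Quotient.mk ((∏ g, u g) • n), fun s => ?_⟩
  rw [Groth.Agent.H15.AssFib.smul_mk_eq_zero_iff]
  constructor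
  · intro hs
    have hle : q ≤ (((p.map (algebraMap R S)) • (⊤ : Submodule S N)).comap
        (LinearMap.toSpanSingleton S N ((∏ g, u g) • n))) := by
      rw [← hG, Ideal.span_le]
      intro g hg
      change g • (∏ g, u g) • n ∈ (p.map (algebraMap R S)) • (⊤ : Submodule S N)
      obtain ⟨c, hc⟩ := Finset.dvd_prod_of_mem u (Finset.mem_univ (⟨g, hg⟩ : G))
      rw [smul_comm, hc, mul_comm, mul_smul]
      exact Submodule.smul_of_tower_mem _ _ (hun ⟨g, hg⟩)
    exact hle hs
  · intro hs
    exact (hmem s).2 ⟨_, hu', by rwa [smul_comm]⟩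

end Groth.Agent.S9666
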