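import Groth.Statements.S9667
import Groth.Agent.H15.AssFib
import Mathlib.RingTheory.TensorProduct.Finite
import Mathlib.Algebra.Colimit.TensorProduct
import Mathlib.RingTheory.Noetherian.Defs
-- import your own Groth.Agent.* helpers here

set_option autoImplicit false
universe u
open CAlg

namespace Groth.Agent.S9667
open TensorProduct in
theorem kill {R S : Type u} [CommRing R] [CommRing S] [Algebra R S] (N : Type u) [AddCommGroup N] [Module S N]
    [Module R N] [IsScalarTower R S N] {M : Type u} [AddCommGroup M] [Module R M] {M₀ : Submodule R M} (h₀ : M₀.FG)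
    (G : Finset S) (y : N ⊗[R] M₀) (hG : ∀ g ∈ G, g • M₀.subtype.lTensor N y = 0) :
    ∃ (M₁ : Submodule R M) (hle : M₀ ≤ M₁), M₁.FG ∧ ∀ g ∈ G, g • (Submodule.inclusion hle).lTensor N y = 0 := by
  classical
  induction G using Finset.induction_on with
  | empty => exact ⟨M₀, le_rfl, h₀, by simp⟩
  | insert a G ha ih =>
    obtain ⟨M₁, hle, h₁, hM₁⟩ := ih fun g hg => hG g (Finset.mem_insert_of_mem hg)
    have hz : M₁.subtype.lTensor N (a • (Submodule.inclusion hle).lTensor N y) = 0 := by
      have := hG a (Finset.mem_insert_self a G)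
      rw [← this]
      refine ((TensorProduct.AlgebraTensorModule.lTensor S N M₁.subtype).map_smul a _).trans ?_
      congr 1
      show M₁.subtype.lTensor N ((Submodule.inclusion hle).lTensor N y) = _
      rw [← LinearMap.lTensor_comp_apply, Submodule.subtype_comp_inclusion]
    have hz' : M₁.subtype.rTensor N (TensorProduct.comm R N M₁ (a • (Submodule.inclusion hle).lTensor N y)) =
        M₁.subtype.rTensor N 0 := by
      rw [map_zero, ← LinearMap.comm_comp_lTensor_comp_comm_eq]
      simp [hz]
    obtain ⟨M₂, h₂, hle₂, heq⟩ := h₁.exists_rTensor_fg_inclusion_eq hz'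
    refine ⟨M₂, hle.trans hle₂, h₂, fun g hg => ?_⟩
    have hc : (Submodule.inclusion (hle.trans hle₂)).lTensor N y =
        (Submodule.inclusion hle₂).lTensor N ((Submodule.inclusion hle).lTensor N y) := by
      rw [← LinearMap.lTensor_comp_apply]; rfl
    have hs : g • (Submodule.inclusion (hle.trans hle₂)).lTensor N y =
        (Submodule.inclusion hle₂).lTensor N (g • (Submodule.inclusion hle).lTensor N y) := by
      rw [hc]
      exact ((TensorProduct.AlgebraTensorModule.lTensor S N (Submodule.inclusion hle₂)).map_smul g _).symm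
    rw [hs]
    rcases Finset.mem_insert.1 hg with rfl | hg'
    · apply (TensorProduct.comm R N M₂).injective
      rw [map_zero]
      rw [map_zero, ← LinearMap.comm_comp_lTensor_comp_comm_eq] at heq
      simpa using heq
    · rw [hM₁ g hg', map_zero]


open TensorProduct in
/-- Part (3): (B = B_fin): let R → S be a ring map with S Noetherian, N an S-module, M an R-module and q
a prime of S; an associated prime of a module is a prime ideal equal to the annihilator of some
element. If q is an associated prime of the S-module N ⊗_R M, then there is a finitely generated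
R-submodule M' ⊆ M such that q is an associated prime of the S-module N ⊗_R M'. -/
theorem result {R S : Type u} [CommRing R] [CommRing S] [Algebra R S] (N : Type u) [AddCommGroup N] [Module S N] [Module R N] [IsScalarTower R S N] [IsNoetherianRing S]
    (M : Type u) [AddCommGroup M] [Module R M] (q : Ideal S) [q.IsPrime] (h : q ∈ FlatCA.ass S (N ⊗[R] M)) :
    ∃ M' : Submodule R M, M'.FG ∧ q ∈ FlatCA.ass S (N ⊗[R] ↥M') := by
  obtain ⟨hp, x, hx⟩ := Groth.Agent.H15.AssFib.mem_ass_iff.1 h
  obtain ⟨M₀, hM₀, hx'⟩ := TensorProduct.exists_finite_submodule_right_of_setFinite {x} (Set.finite_singleton x)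
  obtain ⟨y, rfl⟩ := hx' rfl
  obtain ⟨G, hG⟩ : q.FG := IsNoetherian.noetherian q
  obtain ⟨M₁, hle, h₁, hk⟩ := kill N (Module.Finite.iff_fg.1 hM₀) G y fun g hg => (hx g).1 (hG ▸ Submodule.subset_span hg)
  refine ⟨M₁, h₁, Groth.Agent.H15.AssFib.mem_ass_iff.2 ⟨hp, (Submodule.inclusion hle).lTensor N y, fun s => ⟨fun hs => ?_, fun hs => ?_⟩⟩⟩
  · have : q ≤ LinearMap.ker (LinearMap.toSpanSingleton S _ ((Submodule.inclusion hle).lTensor N y)) := by
      rw [← hG, Ideal.span_le]
      exact fun g hg => hk g hg
    exact this hs
  · rw [hx]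
    have he : M₁.subtype.lTensor N ((Submodule.inclusion hle).lTensor N y) = M₀.subtype.lTensor N y := by
      rw [← LinearMap.lTensor_comp_apply, Submodule.subtype_comp_inclusion]
    have hl : s • M₁.subtype.lTensor N ((Submodule.inclusion hle).lTensor N y) =
        M₁.subtype.lTensor N (s • (Submodule.inclusion hle).lTensor N y) :=
      ((TensorProduct.AlgebraTensorModule.lTensor S N M₁.subtype).map_smul s _).symm
    rw [← he, hl, hs, map_zero]

end Groth.Agent.S9667
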