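import Groth.Statements.S9670
import Groth.Agent.H15.AssFib
import Mathlib.RingTheory.TensorProduct.Finite
import Mathlib.Algebra.Colimit.TensorProduct
import Mathlib.RingTheory.Noetherian.Defs
import Groth.Agent.S9669
import Mathlib.RingTheory.Ideal.AssociatedPrime.Finiteness
-- import your own Groth.Agent.* helpers here

set_option autoImplicit false
universe u
open CAlg

namespace Groth.Agent.S9670
open TensorProduct in
theorem aux {R S : Type u} [CommRing R] [CommRing S] [Algebra R S] (N : Type u) [AddCommGroup N] [Module S N]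
    [Module R N] [IsScalarTower R S N] [IsNoetherianRing R] [Module.Flat R N]
    (M : Type u) [AddCommGroup M] [Module R M] [hM : Module.Finite R M] :
    ∀ q ∈ FlatCA.ass S (N ⊗[R] M),
      q ∈ FlatCA.ass S (N ⧸ ((q.comap (algebraMap R S)).map (algebraMap R S)) • (⊤ : Submodule S N)) := by
  refine IsNoetherianRing.induction_on_isQuotientEquivQuotientPrime R hM
    (motive := fun M _ _ _ => ∀ q ∈ FlatCA.ass S (N ⊗[R] M),
      q ∈ FlatCA.ass S (N ⧸ ((q.comap (algebraMap R S)).map (algebraMap R S)) • (⊤ : Submodule S N))) ?_ ?_ ?_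
  · intro M _ _ _ _ q hq
    obtain ⟨hp, x, hx⟩ := Groth.Agent.H15.AssFib.mem_ass_iff.1 hq
    exact absurd ((hx 1).2 (Subsingleton.elim _ _)) fun h => hp.ne_top ((Ideal.eq_top_iff_one q).2 h)
  · intro M _ _ _ p' e q hq
    rw [Groth.Agent.H15.AssFib.ass_congr
      (TensorProduct.AlgebraTensorModule.congr (LinearEquiv.refl S N) e)] at hq
    rw [Groth.Agent.H15.AssFib.ass_quot_iff] at hq
    rwa [(Groth.Agent.S9669.result N p'.1).2 q hq]
  · intro M₁ _ _ _ M₂ _ _ _ M₃ _ _ _ f g hf hg hfg h₁ h₃ q hq
    obtain ⟨hp, x, hx⟩ := Groth.Agent.H15.AssFib.mem_ass_iff.1 hq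
    let F := TensorProduct.AlgebraTensorModule.lTensor S N f
    let G := TensorProduct.AlgebraTensorModule.lTensor S N g
    have hF : Function.Injective F := Module.Flat.lTensor_preserves_injective_linearMap f hf
    have hFG : Function.Exact F G := Module.Flat.lTensor_exact N hfg
    by_cases hs : ∃ s, s ∉ q ∧ G (s • x) = 0
    · obtain ⟨s, hsq, hs⟩ := hs
      obtain ⟨y, hy⟩ := (hFG _).1 hs
      refine h₁ q (Groth.Agent.H15.AssFib.mem_ass_iff.2 ⟨hp, y, fun u => ?_⟩)
      rw [← map_eq_zero_iff F hF, map_smul, hy, ← mul_smul, ← hx]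
      exact ⟨fun hu => q.mul_mem_right _ hu, fun hu => (hp.mem_or_mem hu).resolve_right hsq⟩
    · refine h₃ q (Groth.Agent.H15.AssFib.mem_ass_iff.2 ⟨hp, G x, fun u => ?_⟩)
      rw [← map_smul]
      refine ⟨fun hu => by rw [(hx u).1 hu, map_zero], fun hu => ?_⟩
      by_contra huq
      exact hs ⟨u, huq, hu⟩


open TensorProduct in
/-- Part (5): (B_fin ⊆ A_fin): let R → S be a ring map with R Noetherian, N an S-module flat over R, M a
finite R-module, q a prime of S and p the prime of R below q; an associated prime of a module is a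
prime ideal equal to the annihilator of some element. If q is an associated prime of the S-module N
⊗_R M, then q is an associated prime of the S-module N/pN. -/
theorem result {R S : Type u} [CommRing R] [CommRing S] [Algebra R S] (N : Type u) [AddCommGroup N] [Module S N] [Module R N] [IsScalarTower R S N] [IsNoetherianRing R] [Module.Flat R N]
    (M : Type u) [AddCommGroup M] [Module R M] [Module.Finite R M] (p : Ideal R) [p.IsPrime] (q : Ideal S) [q.IsPrime] (hq : q.comap (algebraMap R S) = p)
    (h : q ∈ FlatCA.ass S (N ⊗[R] M)) :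
    q ∈ FlatCA.ass S (N ⧸ (p.map (algebraMap R S)) • (⊤ : Submodule S N)) := by
  subst hq
  exact aux N M q h

end Groth.Agent.S9670
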