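import Groth.Statements.S9671
import Groth.Agent.H21.Homogenize

set_option autoImplicit false
universe u
open CAlg Groth.Agent.H21.Homogenize

namespace Groth.Agent.S9671

/-- Let R be a ring and R' an R-algebra of finite type. Then there are an ℕ-graded R-algebra S such that
R → S₀ is bijective and S is generated as an R-algebra by a finite set of degree-1 elements, an
element f ∈ S₁, and a ring isomorphism e between the degree-zero part S_(f) of the localization S_f
and R' which matches r/1 with the image of r in R' for every r ∈ R (so R' is identified with S_(f)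
as an R-algebra). The published statement also produces, from a finite R'-module, a finite graded
S-module whose degree-zero localization at f recovers it; that half is not part of this row. -/
theorem result (R R' : Type u) [CommRing R] [CommRing R'] [Algebra R R'] [Algebra.FiniteType R R'] :
    ∃ (S : Type u) (_ : CommRing S) (_ : Algebra R S) (𝒜 : ℕ → Submodule R S) (_ : GradedAlgebra 𝒜) (f : S) (_ : f ∈ 𝒜 1) (s : Finset S)
      (e : HomogeneousLocalization.Away 𝒜 f ≃+* R'),
      Function.Injective (algebraMap R S) ∧ (∀ x ∈ 𝒜 0, x ∈ Set.range (algebraMap R S)) ∧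
      (↑s ⊆ (𝒜 1 : Set S)) ∧ Algebra.adjoin R (s : Set S) = ⊤ ∧
      ∀ r : R, (e.symm (algebraMap R R' r)).val = algebraMap S (Localization.Away f) (algebraMap R S r) := by
  obtain ⟨t, ht⟩ := (Algebra.FiniteType.out : (⊤ : Subalgebra R R').FG)
  classical
  let n := t.card
  let ι : Fin n ≃ t := t.equivFin.symm
  let x : Fin n → R' := fun i => (ι i : R')
  have hx : Algebra.adjoin R (Set.range x) = ⊤ := by
    have : Set.range x = (t : Set R') := by
      ext y
      constructor
      · rintro ⟨i, rfl⟩; exact (ι i).2
      · intro hy; exact ⟨ι.symm ⟨y, hy⟩, by simp [x]⟩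
    rw [this, ht]
  obtain ⟨e, he⟩ := exists_equiv x hx
  let g : Option (Fin n) → S R x := fun o => ⟨gens x o, Algebra.subset_adjoin ⟨o, rfl⟩⟩
  refine ⟨S R x, inferInstance, inferInstance, deg R x, gradedAlgebra x, f R x, f_mem x,
    Finset.univ.image g, e, injective_algebraMap x, fun y hy => mem_range_of_deg_zero x y hy, ?_, ?_, he⟩
  · intro y hy
    simp only [Finset.coe_image, Finset.coe_univ, Set.image_univ, Set.mem_range] at hy
    obtain ⟨o, rfl⟩ := hy
    exact ⟨_, rfl⟩
  · rw [Finset.coe_image, Finset.coe_univ, Set.image_univ]
    apply Subalgebra.map_injective (f := (S R x).val) Subtype.val_injective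
    rw [AlgHom.map_adjoin, Algebra.map_top, Subalgebra.range_val, ← Set.range_comp]
    rfl

end Groth.Agent.S9671
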