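import Groth.Statements.S9672
import Groth.Agent.Lib.SchTopo.Closure

set_option autoImplicit false
universe u
open CategoryTheory CategoryTheory.Limits AlgebraicGeometry
open Mor

namespace Groth.Agent.S9672

/-- Let f : Y ⟶ X be quasi-compact and quasi-separated, and write X' for the normalization of X relative
to Y. If x' ∈ X' is the generic point of some irreducible component of X', then there is a point y ∈
Y that is generic in an irreducible component of Y and is sent to x' by the canonical morphism Y ⟶
X'. -/
theorem result {X Y : Scheme.{u}} (f : Y ⟶ X)
    [QuasiCompact f] [QuasiSeparated f] (x' : ↥f.normalization)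
    (hx' : closure {x'} ∈ irreducibleComponents ↥f.normalization) :
    ∃ y : Y, closure {y} ∈ irreducibleComponents ↥Y ∧ f.toNormalization.base y = x' := by
  obtain ⟨y, hy⟩ := Groth.Agent.Lib.SchTopo.Closure.exists_specializes_of_mem_closure_range f.toNormalization (f.toNormalization.denseRange x')
  have key : ∀ z : ↥f.normalization, z ⤳ x' → z = x' := fun z hz =>
    (((specializes_iff_closure_subset.mpr (hx'.2 isIrreducible_singleton.closure (specializes_iff_closure_subset.mp hz))).antisymm hz).eq).symm
  have hZ := irreducibleComponent_mem_irreducibleComponents y
  obtain ⟨w, hw⟩ := QuasiSober.sober hZ.1 isClosed_irreducibleComponent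
  refine ⟨w, hw.def.symm ▸ hZ, key _ ?_⟩
  exact ((hw.specializes mem_irreducibleComponent).map f.toNormalization.continuous).trans hy

end Groth.Agent.S9672
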