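import Groth.Statements.S9681
import Groth.Agent.H75.Birat.RatMap

set_option autoImplicit false
universe u
open CategoryTheory CategoryTheory.Limits AlgebraicGeometry
open Mor

namespace Groth.Agent.S9681

/-- Suppose X and Y are integral S-schemes, each locally of finite type over S, with generic points x
and y. Then X and Y are S-birational (they admit S-isomorphic nonempty opens) if and only if x and y
map to the same point s of S and the residue fields of x and y are isomorphic as extensions of the
residue field of s. -/
theorem result {S X Y : Scheme.{u}}
    [IsIntegral X] [IsIntegral Y] (sX : X ⟶ S) (sY : Y ⟶ S)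
    [LocallyOfFiniteType sX] [LocallyOfFiniteType sY] :
    Scheme.BirationalOver sX sY ↔
      ∃ (hs : sX.base (genericPoint ↥X) = sY.base (genericPoint ↥Y))
        (e : X.residueField (genericPoint ↥X) ≅ Y.residueField (genericPoint ↥Y)),
        sX.residueFieldMap (genericPoint ↥X) ≫ e.hom =
          eqToHom (congrArg S.residueField hs) ≫ sY.residueFieldMap (genericPoint ↥Y) := by
    have hres : ∀ (Z : Scheme.{u}) [IsIntegral Z], IsIso (Z.residue (genericPoint Z)) := by
      intro Z _
      rw [ConcreteCategory.isIso_iff_bijective]
      have hF : IsField (Z.presheaf.stalk (genericPoint Z)) :=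
        (inferInstance : Field Z.functionField).toIsField
      letI := hF.toField
      exact ⟨RingHom.injective _, Z.residue_surjective _⟩
    haveI := hres X
    haveI := hres Y
    have hgen : ∀ {a b : S} (h : a = b), eqToHom (congrArg S.presheaf.stalk h) ≫ S.residue b =
        S.residue a ≫ eqToHom (congrArg S.residueField h) := by
      rintro a b rfl
      simp
    constructor
    · intro h
      obtain ⟨hs, e, he⟩ := H75.Birat.exists_stalkIso h
      refine ⟨hs, (asIso (X.residue _)).symm ≪≫ e ≪≫ asIso (Y.residue _), ?_⟩
      rw [← cancel_epi (S.residue _), ← Category.assoc, Scheme.residue_residueFieldMap, Category.assoc]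
      simp only [Iso.trans_hom, Iso.symm_hom, asIso_inv, asIso_hom, IsIso.hom_inv_id_assoc]
      rw [reassoc_of% he, ← Category.assoc (S.residue _), ← hgen hs, Category.assoc,
        Scheme.residue_residueFieldMap]
    · rintro ⟨hs, e, he⟩
      refine H75.Birat.birationalOver_of_stalkIso sX sY hs
        (asIso (X.residue _) ≪≫ e ≪≫ (asIso (Y.residue _)).symm) ?_
        (Or.inr ⟨inferInstance, inferInstance, inferInstance, inferInstance⟩)
      rw [← cancel_mono (Y.residue (genericPoint Y))]
      simp only [Iso.trans_hom, Iso.symm_hom, asIso_inv, asIso_hom, Category.assoc,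
        IsIso.inv_hom_id, Category.comp_id]
      rw [← Scheme.residue_residueFieldMap_assoc, he, ← Category.assoc, ← hgen hs, Category.assoc,
        Scheme.residue_residueFieldMap]

end Groth.Agent.S9681
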