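import Groth.Statements.S9682
import Groth.Agent.H75.Birat.GenFinite

set_option autoImplicit false
universe u
open CategoryTheory CategoryTheory.Limits AlgebraicGeometry
open Mor

namespace Groth.Agent.S9682

/-- Take f : X ⟶ Y locally of finite type and η the generic point of some irreducible component of Y.
Three conditions turn out to coincide: (1) each point of X mapping to η is the generic point of some
irreducible component of X; (2) f is quasi-finite at every point over η; (3) f is quasi-finite at
each point over η that is generic in some irreducible component of X. Stated as (1) iff (2) together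
with (1) iff (3). -/
theorem result {X Y : Scheme.{u}} (f : X ⟶ Y)
    [LocallyOfFiniteType f] (η : Y) (hη : closure {η} ∈ irreducibleComponents ↥Y) :
    ((∀ x : X, f.base x = η → closure {x} ∈ irreducibleComponents ↥X) ↔
      (∀ x : X, f.base x = η → f.QuasiFiniteAt x)) ∧
    ((∀ x : X, f.base x = η → closure {x} ∈ irreducibleComponents ↥X) ↔
      (∀ x : X, f.base x = η → closure {x} ∈ irreducibleComponents ↥X → f.QuasiFiniteAt x)) := by
    have hηg : H75.Birat.IsGen η := hη
    have hall : (∀ x : X, f.base x = η → closure {x} ∈ irreducibleComponents ↥X) →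
        ∀ x : X, f.base x = η → f.QuasiFiniteAt x := fun h x hx =>
      H75.Birat.quasiFiniteAt_of_all_gen f (h x hx) fun z hz => h z (hz.trans hx)
    have hlift : ∀ x : X, f.base x = η → ∃ ξ : X, H75.Birat.IsGen ξ ∧ f.base ξ = η ∧ ξ ⤳ x := by
      intro x hx
      obtain ⟨ξ, hξ, hs⟩ := H75.Birat.exists_isGen x
      have h1 := hs.map f.continuous
      rw [show f x = η from hx] at h1
      exact ⟨ξ, hξ, hηg.eq_of_specializes h1, hs⟩
    refine ⟨⟨hall, fun h x hx => ?_⟩, ⟨fun h x hx _ => hall h x hx, fun h x hx => ?_⟩⟩
    · obtain ⟨ξ, hξ, hfξ, hs⟩ := hlift x hx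
      rw [← H75.Birat.eq_of_quasiFiniteAt_generization f (h x hx) (hfξ.trans hx.symm) hs]
      exact hξ
    · obtain ⟨ξ, hξ, hfξ, hs⟩ := hlift x hx
      rw [H75.Birat.eq_of_isClosed_asFiber_specialization f
        ((H46.QFin.quasiFiniteAt_iff f ξ).mp (h ξ hfξ hξ)).1 (hx.trans hfξ.symm) hs]
      exact hξ

end Groth.Agent.S9682
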