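import Groth.Statements.S9684
import Groth.Agent.Lib.Cyc.InducedDimFun

set_option autoImplicit false
universe u
open CategoryTheory CategoryTheory.Limits AlgebraicGeometry
open Cyc

namespace Groth.Agent.S9684

/-- Let S be a locally Noetherian scheme whose local rings are universally catenary, δ a dimension
function on S, and f : X ⟶ S locally of finite type. Then the function δ_X(x) = δ(f x) + trdeg_{κ(f
x)} κ(x) is a dimension function on X. -/
theorem result {X S : Scheme.{u}} (f : X ⟶ S)
    [LocallyOfFiniteType f] (δ : ↥S → ℤ) (hS : Cyc.IsSetup S δ) (δX : ↥X → ℤ)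
    (hδ : Cyc.DeltaCompat f δX δ) : Cyc.IsDimFun X δX := by
  have := hS.1
  exact Groth.Agent.Lib.Cyc.InducedDimFun.isDimFun f hS.2.2 hS.2.1 hδ

end Groth.Agent.S9684
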