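import Groth.Statements.S9686
import Groth.Agent.S9687
import Groth.Agent.Lib.SchTopo.Basic
import Groth.Agent.Lib.VarDim.Fibre

set_option autoImplicit false
universe u
open CategoryTheory CategoryTheory.Limits AlgebraicGeometry
open Mor

namespace Groth.Agent.S9686

theorem bound {X Y : Scheme.{u}} [IsLocallyNoetherian Y] (f : X ⟶ Y) [LocallyOfFiniteType f] (E : ℕ)
    (hE : ∀ ξ : X, closure {ξ} ∈ irreducibleComponents ↥X →
      letI := (f.residueFieldMap ξ).hom.toAlgebra
      Algebra.trdeg (Y.residueField (f.base ξ)) (X.residueField ξ) ≤ E) :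
    topologicalKrullDim ↥X ≤ topologicalKrullDim ↥Y + E := by
  rw [Groth.Agent.Lib.SchTopo.Basic.topologicalKrullDim_eq_krullDim_scheme]
  refine iSup_le fun l => ?_
  have hlen : (l.length : WithBot ℕ∞) ≤ ringKrullDim (X.presheaf.stalk l.head) := by
    have hspec : ∀ i, l i ⤳ l.head := fun i => (l.monotone (Fin.zero_le i) :)
    let g : Fin (l.length + 1) → PrimeSpectrum (X.presheaf.stalk l.head) := fun i =>
      Groth.Agent.Lib.Cyc.DimFun.genPrime l.head (l i) (hspec i)
    have hg : StrictAnti g := by
      intro i j hij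
      have h := l.strictMono hij
      refine lt_of_le_not_ge ((Groth.Agent.Lib.Cyc.DimFun.genPrime_le_iff _ _ _ _ _).2 h.le) fun hle => ?_
      exact h.not_ge ((Groth.Agent.Lib.Cyc.DimFun.genPrime_le_iff _ _ _ _ _).1 hle)
    let m : LTSeries (PrimeSpectrum (X.presheaf.stalk l.head)) :=
      LTSeries.mk l.length (fun i => g i.rev) (fun i j hij => hg (Fin.rev_lt_rev.2 hij))
    exact Order.LTSeries.length_le_krullDim m
  haveI : LocallyOfFiniteType (X := f.fiber (f l.head)) (Y := Spec (CommRingCat.of (Y.residueField (f l.head))))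
      (f.fiberToSpecResidueField (f l.head)) :=
    inferInstanceAs (LocallyOfFiniteType (Limits.pullback.snd f (Y.fromSpecResidueField (f l.head))))
  obtain ⟨n, hn⟩ : ∃ n : ℕ, Cardinal.lift.{u} (Groth.Agent.Lib.Cyc.Residue.trdegAt f l.head) = (n : Cardinal) := by
    have h := Groth.Agent.Lib.Cyc.FieldDim.trdegAt_fiber f (f l.head) (f.asFiber l.head)
    rw [f.fiberι_asFiber] at h
    have h2 := Groth.Agent.Lib.VarDim.Basic.trdegAt_eq_pdim (K := Y.residueField (f l.head))
      (f.fiberToSpecResidueField (f l.head)) (f.asFiber l.head)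
    exact ⟨_, by rw [← h, h2, Cardinal.lift_natCast]⟩
  rw [Cardinal.lift_id] at hn
  have h3 := Groth.Agent.S9687.result f l.head n E hn fun ξ hξ _ => hE ξ hξ
  have h4 : ringKrullDim (Y.presheaf.stalk (f l.head)) ≤ topologicalKrullDim ↥Y := by
    rw [Groth.Agent.Lib.SchTopo.Basic.topologicalKrullDim_eq_krullDim_scheme]
    show Order.krullDim (PrimeSpectrum (Y.presheaf.stalk (f l.head))) ≤ _
    rw [← Order.krullDim_orderDual]
    refine Order.krullDim_le_of_strictMono (fun p => Y.fromSpecStalk (f l.head) (OrderDual.ofDual p)) ?_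
    intro p q hpq
    have hle : OrderDual.ofDual q ≤ OrderDual.ofDual p := hpq.le
    refine lt_of_le_not_ge ((Groth.Agent.Lib.Cyc.DimFun.fromSpecStalk_specializes_iff _ _ _).2 hle) fun h => ?_
    exact hpq.not_ge ((Groth.Agent.Lib.Cyc.DimFun.fromSpecStalk_specializes_iff _ _ _).1 h)
  calc (l.length : WithBot ℕ∞) ≤ ringKrullDim (X.presheaf.stalk l.head) := hlen
    _ ≤ ringKrullDim (X.presheaf.stalk l.head) + (n : WithBot ℕ∞) := by
        simpa using add_le_add_right (show (0 : WithBot ℕ∞) ≤ n by exact_mod_cast Nat.zero_le n) (ringKrullDim (X.presheaf.stalk l.head))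
    _ ≤ _ := h3.trans (add_le_add_left h4 _)

/-- Let Y be locally Noetherian and f : X ⟶ Y locally of finite type. If E bounds the transcendence
degree of κ(ξ) over κ(f ξ) for every generic point ξ of an irreducible component of X, then dim X ≤
dim Y + E. (The published bound is the supremum of these transcendence degrees; the statement with
any upper bound E is equivalent.) -/
theorem result {X Y : Scheme.{u}} [IsLocallyNoetherian Y]
    (f : X ⟶ Y) [LocallyOfFiniteType f] (E : ℕ)
    (hE : ∀ ξ : X, closure {ξ} ∈ irreducibleComponents ↥X →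
      letI := (f.residueFieldMap ξ).hom.toAlgebra
      Algebra.trdeg (Y.residueField (f.base ξ)) (X.residueField ξ) ≤ E) :
    topologicalKrullDim ↥X ≤ topologicalKrullDim ↥Y + E := by
  exact bound f E hE

end Groth.Agent.S9686
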