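import Groth.Statements.S9685
import Groth.Agent.S9687
import Groth.Agent.Lib.SchTopo.Basic
import Groth.Agent.Lib.VarDim.Fibre
import Groth.Agent.S9686

set_option autoImplicit false
universe u
open CategoryTheory CategoryTheory.Limits AlgebraicGeometry
open Mor

namespace Groth.Agent.S9685

/-- Let X and Y be integral schemes with Y locally Noetherian and f : X ⟶ Y dominant and locally of
finite type. If n is the transcendence degree of the function field of X over the function field of
Y (computed on residue fields at the generic points), then dim X ≤ dim Y + n, and equality holds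
when the underlying map of f is closed. -/
theorem result {X Y : Scheme.{u}} [IsIntegral X] [IsIntegral Y]
    [IsLocallyNoetherian Y] (f : X ⟶ Y) [IsDominant f] [LocallyOfFiniteType f] (n : ℕ)
    (hn : letI := (f.residueFieldMap (genericPoint ↥X)).hom.toAlgebra
      Algebra.trdeg (Y.residueField (f.base (genericPoint ↥X))) (X.residueField (genericPoint ↥X)) = n) :
    topologicalKrullDim ↥X ≤ topologicalKrullDim ↥Y + n ∧
      (IsClosedMap f.base → topologicalKrullDim ↥X = topologicalKrullDim ↥Y + n) := by
  have hη : ∀ ξ : X, closure {ξ} ∈ irreducibleComponents ↥X → ξ = genericPoint ↥X := fun ξ hξ => by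
    rw [irreducibleComponents_eq_singleton, Set.mem_singleton_iff] at hξ
    exact (genericPoint_spec X).eq hξ |>.symm
  refine ⟨Groth.Agent.S9686.result f n (fun ξ hξ => by cases (hη ξ hξ).symm; exact hn.le), fun hcl => ?_⟩
  refine le_antisymm (Groth.Agent.S9686.result f n (fun ξ hξ => by cases (hη ξ hξ).symm; exact hn.le)) ?_
  rw [Groth.Agent.Lib.SchTopo.Basic.topologicalKrullDim_eq_krullDim_scheme,
    Groth.Agent.Lib.SchTopo.Basic.topologicalKrullDim_eq_krullDim_scheme]
  haveI : Nonempty Y := ⟨f.base (genericPoint ↥X)⟩
  have hfη : f.base (genericPoint ↥X) = genericPoint ↥Y :=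
    ((genericPoint_spec X).image f.continuous).eq (by
      rw [isGenericPoint_def, (genericPoint_spec Y).def, Set.image_univ, f.denseRange.closure_range])
  let y0 := f.base (genericPoint ↥X)
  haveI : LocallyOfFiniteType (X := f.fiber y0) (Y := Spec (CommRingCat.of (Y.residueField y0)))
      (f.fiberToSpecResidueField y0) :=
    inferInstanceAs (LocallyOfFiniteType (Limits.pullback.snd f (Y.fromSpecResidueField y0)))
  have hp : Groth.Agent.Lib.VarDim.Basic.pdim (K := Y.residueField y0) (f.fiberToSpecResidueField y0) (f.asFiber (genericPoint ↥X)) = n := by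
    have h := Groth.Agent.Lib.Cyc.FieldDim.trdegAt_fiber f y0 (f.asFiber (genericPoint ↥X))
    rw [f.fiberι_asFiber] at h
    show (Groth.Agent.Lib.Cyc.Residue.trdegAt _ _).toNat = n
    rw [h, show Groth.Agent.Lib.Cyc.Residue.trdegAt f (genericPoint ↥X) = (n : Cardinal) from hn, Cardinal.toNat_natCast]
  obtain ⟨m₀, hm₀, -⟩ := Groth.Agent.Lib.VarDim.Basic.exists_series (K := Y.residueField y0) (f.fiberToSpecResidueField y0)
    (isClosed_univ (X := f.fiber y0)).isLocallyClosed n ⟨_, Set.mem_univ _⟩ hp
  let m₁ : LTSeries X := m₀.map (fun z => f.fiberι y0 z.1) (by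
    intro a b hab
    have hab' : a.1 < b.1 := hab
    refine lt_of_le_not_ge ((show b.1 ⤳ a.1 from hab'.le).map (f.fiberι y0).continuous) fun h => hab'.not_ge ?_
    exact (f.fiberι y0).isEmbedding.isInducing.specializes_iff.1 h)
  have hm₁ : f.base m₁.head = y0 := Groth.Agent.Lib.Cyc.FieldDim.apply_fiberι f y0 _
  have hspec : SpecializingMap f.base := hcl.specializingMap
  have main : ∀ l : LTSeries Y, ∃ m : LTSeries X, l.length + n ≤ m.length ∧ f.base m.head = l.head := by
    intro l
    induction l using RelSeries.inductionOn with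
    | singleton y =>
      by_cases hy : y = y0
      · subst hy
        exact ⟨m₁, by show 0 + n ≤ m₀.length; omega, hm₁⟩
      · have h1 : f.base m₁.head ⤳ y := by rw [hm₁]; show f.base _ ⤳ y; rw [hfη]; exact genericPoint_specializes y
        obtain ⟨x, hx, hxy⟩ := hspec h1
        have hlt : x < m₁.head := lt_of_le_not_ge hx fun e => hy (by
          rw [← hxy, ← hm₁]; exact ((e.map f.continuous).antisymm ((show m₁.head ⤳ x from hx).map f.continuous)).eq)
        refine ⟨m₁.cons x hlt, ?_, by simpa using hxy⟩
        simp only [RelSeries.cons_length, RelSeries.singleton_length]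
        show 0 + n ≤ m₀.length + 1
        omega
    | cons l y hy ih =>
      obtain ⟨m, hm, hh⟩ := ih
      have hy' : y < l.head := hy
      have : f.base m.head ⤳ y := hh ▸ hy'.le
      obtain ⟨x, hx, hxy⟩ := hspec this
      have hlt : x < m.head := by
        refine lt_of_le_not_ge hx fun e => hy'.not_ge ?_
        rw [← hh, ← hxy]
        exact e.map f.continuous
      refine ⟨m.cons x hlt, by simp only [RelSeries.cons_length]; omega, by simpa using! hxy⟩
  obtain ⟨N, hN⟩ : ∃ N, N = Order.krullDim ↥X := ⟨_, rfl⟩
  rw [← hN]
  have key : ∀ l : LTSeries Y, ((l.length + n : ℕ) : WithBot ℕ∞) ≤ N := fun l => by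
    obtain ⟨m, hm, -⟩ := main l
    rw [hN]
    exact le_trans (by exact_mod_cast hm) (Order.LTSeries.length_le_krullDim m)
  induction N using WithBot.recBotCoe with
  | bot => exact absurd (key (RelSeries.singleton _ y0)) (by rw [le_bot_iff]; exact WithBot.natCast_ne_bot _)
  | coe N =>
    induction N using ENat.recTopCoe with
    | top => exact le_top
    | coe N =>
      have hn' : n ≤ N := by
        have h : (RelSeries.singleton {(a, b) : Y × Y | a < b} y0).length + n ≤ N := by exact_mod_cast key (RelSeries.singleton _ y0)
        omega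
      have h1 : Order.krullDim ↥Y ≤ ((N - n : ℕ) : WithBot ℕ∞) := iSup_le fun l => by
        have : l.length + n ≤ N := by exact_mod_cast key l
        exact_mod_cast (by omega : l.length ≤ N - n)
      refine le_trans (add_le_add_left h1 _) ?_
      rw [← Nat.cast_add, Nat.sub_add_cancel hn']
      exact le_rfl

end Groth.Agent.S9685
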