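import Groth.Statements.S9692
import Groth.Agent.Lib.Chow.Projective

set_option autoImplicit false
universe u
open CategoryTheory CategoryTheory.Limits AlgebraicGeometry
open Mor

namespace Groth.Agent.S9692

/-- A composition of H-projective morphisms (closed immersions into a projective space P^n over the
target, followed by the projection) is H-projective. -/
theorem result {X Y Z : Scheme.{u}} (f : X ⟶ Y) (g : Y ⟶ Z)
    (hf : RelProj.IsHProjective f) (hg : RelProj.IsHProjective g) :
    RelProj.IsHProjective (f ≫ g) := by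
  obtain ⟨n, i, hi, hif⟩ := hf
  obtain ⟨m, j, hj, hjg⟩ := hg
  let A := pullback (CohB1.ProjSpaceOver.toBase n Z) (CohB1.ProjSpaceOver.toBase m Z)
  let H := Lib.ProjSpace.BaseChange.isPullback_overMap n g
  have hw : Lib.ProjSpace.BaseChange.overMap n g ≫ CohB1.ProjSpaceOver.toBase n Z =
      (CohB1.ProjSpaceOver.toBase n Y ≫ j) ≫ CohB1.ProjSpaceOver.toBase m Z := by
    rw [Category.assoc, hjg, H.w]
  let k : CohB1.ProjSpaceOver n Y ⟶ A := pullback.lift _ _ hw
  have hsq : IsPullback k (CohB1.ProjSpaceOver.toBase n Y) (pullback.snd _ _) j := by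
    refine IsPullback.of_right ?_ (pullback.lift_snd _ _ _)
      (IsPullback.of_hasPullback (CohB1.ProjSpaceOver.toBase n Z) (CohB1.ProjSpaceOver.toBase m Z))
    rw [show k ≫ pullback.fst _ _ = Lib.ProjSpace.BaseChange.overMap n g from pullback.lift_fst _ _ _, hjg]
    exact H
  haveI : IsClosedImmersion k := MorphismProperty.of_isPullback hsq.flip hj
  haveI := hi
  refine ⟨n * m + n + m, i ≫ k ≫ Lib.Chow.Segre.segreOver n m Z, inferInstance, ?_⟩
  rw [Category.assoc, Category.assoc, Lib.Chow.Segre.segreOver_toBase,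
    show k ≫ pullback.fst _ _ ≫ CohB1.ProjSpaceOver.toBase n Z =
      Lib.ProjSpace.BaseChange.overMap n g ≫ CohB1.ProjSpaceOver.toBase n Z from pullback.lift_fst_assoc _ _ _ _,
    H.w, ← Category.assoc, hif]

end Groth.Agent.S9692
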