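import Groth.Statements.S9694
import Groth.Statements.S9694
import Groth.Agent.H97.GenLocusAffine

set_option autoImplicit false
universe u
open CategoryTheory CategoryTheory.Limits AlgebraicGeometry
open Mor

namespace Groth.Agent.S9694

/-- Let f : X ⟶ S be universally closed, L an O_X-module ample relative to f and s a global section of
L, viewed as a morphism O_X ⟶ L. Then the open subscheme X_s of X where s generates L is affine over
S: the inclusion of X_s followed by f is an affine morphism. -/
theorem result {X S : Scheme.{u}} (f : X ⟶ S) [UniversallyClosed f]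
    (L : X.Modules) (hL : RelAmple.IsRelAmple f L) (s : Coh.structureModule X ⟶ L) :
    IsAffineHom ((CohB1.genLocus L s).ι ≫ f) := by
  obtain ⟨-, hV⟩ := (Lib.Ample.RelAmple.isRelAmple_iff f).1 hL
  have hLi := Lib.Ample.RelAmple.isInvertible_of_isRelAmple hL
  refine isAffineHom_of_forall_exists_isAffineOpen _ fun y => ?_
  obtain ⟨V, hVa, hy, -⟩ := exists_isAffineOpen_mem_and_subset (X := S) (x := y) (U := ⊤) trivial
  refine ⟨V, hy, hVa, ?_⟩
  let W := f ⁻¹ᵁ V
  haveI : UniversallyClosed (f ∣_ V) :=
    MorphismProperty.of_isPullback (P := @UniversallyClosed) (isPullback_morphismRestrict f V).flip inferInstance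
  let e := (PicLoc.pullbackStructureIso W.ι).symm
  have h := H97.GenLocusAffine.isAffineOpen_genLocus (R := Γ(S, V)) ((f ∣_ V) ≫ hVa.isoSpec.hom) (hV V hVa)
    (e.hom ≫ (Scheme.Modules.pullback W.ι).map s)
  have he := Lib.Ample.GenLocus.genLocus_pullback W.ι hLi s e
  have h2 : IsAffineOpen (W.ι ⁻¹ᵁ CohB1.genLocus L s) := by rw [← he]; exact h
  have h3 := (W.ι.isAffineOpen_iff_of_isOpenImmersion).2 h2
  rw [Scheme.Hom.image_preimage_eq_opensRange_inf, Scheme.Opens.opensRange_ι] at h3
  have h4 : IsAffineOpen ((CohB1.genLocus L s).ι ''ᵁ (((CohB1.genLocus L s).ι ≫ f) ⁻¹ᵁ V)) := by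
    rw [Scheme.Hom.comp_preimage, Scheme.Hom.image_preimage_eq_opensRange_inf, Scheme.Opens.opensRange_ι, inf_comm]
    exact h3
  exact ((CohB1.genLocus L s).ι.isAffineOpen_iff_of_isOpenImmersion).1 h4

end Groth.Agent.S9694
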