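import Groth.Statements.S9696
import Groth.Agent.H75.BaseChange.Nhd
import Groth.Agent.Lib.Unram.AtPrime

set_option autoImplicit false
universe u
open CategoryTheory CategoryTheory.Limits AlgebraicGeometry
open Mor

namespace Groth.Agent.S9696

/-- Let f : X ⟶ S be flat and locally of finite presentation and g : S' ⟶ S any morphism, with base
change f' : X ×_S S' ⟶ S' and projection g' : X ×_S S' ⟶ X. Then the open set of points where f' is
etale is the inverse image under g' of the open set of points where f is etale. -/
theorem result {X S S' : Scheme.{u}} (f : X ⟶ S) [Flat f]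
    [LocallyOfFinitePresentation f] (g : S' ⟶ S) (x' : ↑(pullback f g)) :
    (∃ U' : (pullback f g).Opens, x' ∈ U' ∧ Etale (U'.ι ≫ pullback.snd f g)) ↔
      (∃ U : X.Opens, (pullback.fst f g).base x' ∈ U ∧ Etale (U.ι ≫ f)) := by
    refine ⟨fun ⟨W, hw, hW⟩ => ?_, H75.BaseChange.nhd_baseChange @Etale f g x'⟩
    rw [Lib.Unram.AtPrime.exists_etale_nhd_iff]
    refine ⟨Flat.stalkMap f _, ?_⟩
    exact Lib.Unram.AtPrime.formallyUnramified_stalkMap_of_nhd f _
      (H75.BaseChange.unramified_nhd_descend f g x' ⟨W, hw, inferInstance⟩)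

end Groth.Agent.S9696
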