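import Groth.Statements.S9700
import Groth.Agent.Lib.DvrCrit.Abstract
-- import your own Groth.Agent.* helpers here

set_option autoImplicit false
universe u
open CategoryTheory CategoryTheory.Limits AlgebraicGeometry
open Mor

namespace Groth.Agent.S9700
set_option backward.isDefEq.respectTransparency false

/-- Let f : X ⟶ S and h : U ⟶ X be quasi-compact with h(U) dense in X. Suppose each valuative square
over f, whose map Spec K ⟶ X factors through h, has a unique diagonal lift. Then f is universally
closed, and f is also separated provided it is quasi-separated. -/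
theorem result {U X S : Scheme.{u}} (f : X ⟶ S) (h : U ⟶ X)
    [QuasiCompact f] [QuasiCompact h] (hd : DenseRange h.base)
    (H : ∀ sq : ValuativeCommSq f, (∃ i : Spec (.of sq.K) ⟶ U, i ≫ h = sq.i₁) →
      Nonempty (Unique sq.commSq.LiftStruct)) :
    UniversallyClosed f ∧ (QuasiSeparated f → IsSeparated f) := by
  have hu : ValuativeCriterion.Uniqueness f :=
    Lib.ValSquare.uniqueness_of_residue (Lib.ValSquare.residueUniqueness_of_dominant h f hd
      fun z R l₁ l₂ h₁ h₂ e => by
        obtain ⟨uq⟩ := H ⟨R, U.residueField z, U.fromSpecResidueField z ≫ h, l₁ ≫ f,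
          ⟨(congrArg (· ≫ f) h₁.symm).trans (Category.assoc _ _ _)⟩⟩ ⟨_, rfl⟩
        haveI := uq
        let sq : ValuativeCommSq f := ⟨R, U.residueField z, U.fromSpecResidueField z ≫ h, l₁ ≫ f,
          ⟨(congrArg (· ≫ f) h₁.symm).trans (Category.assoc _ _ _)⟩⟩
        have e' : (⟨l₁, h₁, rfl⟩ : sq.commSq.LiftStruct) = ⟨l₂, h₂, e.symm⟩ := uq.uniq _ |>.trans (uq.uniq _).symm
        exact congrArg CommSq.LiftStruct.l e')
  refine ⟨Lib.DvrCrit.universallyClosed_of_residueExistence f
    (Lib.ValSquare.residueExistence_of_dominant h f hd hu fun z R φ w => ?_), fun _ =>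
      IsSeparated.of_valuativeCriterion f hu⟩
  obtain ⟨uq⟩ := H ⟨R, U.residueField z, U.fromSpecResidueField z ≫ h, φ,
    ⟨(Category.assoc _ _ _).trans w.symm⟩⟩ ⟨_, rfl⟩
  exact ⟨uq.default.l, uq.default.fac_left, uq.default.fac_right⟩

end Groth.Agent.S9700
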