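import Groth.Statements.S9701
import Mathlib

set_option autoImplicit false
universe u
open CategoryTheory CategoryTheory.Limits AlgebraicGeometry
open Mor

namespace Groth.Agent.S9701

section

open AlgebraicGeometry CategoryTheory CategoryTheory.Limits

/-- The open cover of `U ⊔ V` by `U` and `V`. -/
noncomputable def coverTwo (X : Scheme.{u}) (U V : X.Opens) : ((U ⊔ V : X.Opens) : Scheme.{u}).OpenCover :=
  Scheme.Cover.mkOfCovers (ULift.{u} Bool)
    (fun i => (((if i.down then U else V) : X.Opens) : Scheme.{u}))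
    (fun i => X.homOfLE (by split_ifs <;> simp))
    (fun z => by
      rcases TopologicalSpace.Opens.mem_sup.mp z.2 with h | h
      · exact ⟨⟨true⟩, ⟨z.1, h⟩, Subtype.ext (by simp)⟩
      · exact ⟨⟨false⟩, ⟨z.1, h⟩, Subtype.ext (by simp)⟩)
    (fun _ => inferInstance)

theorem hom_ext_two (X : Scheme.{u}) (U V : X.Opens) {Y : Scheme.{u}}
    {a b : ((U ⊔ V : X.Opens) : Scheme.{u}) ⟶ Y}
    (hU : X.homOfLE (le_sup_left : U ≤ U ⊔ V) ≫ a = X.homOfLE (le_sup_left : U ≤ U ⊔ V) ≫ b)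
    (hV : X.homOfLE (le_sup_right : V ≤ U ⊔ V) ≫ a = X.homOfLE (le_sup_right : V ≤ U ⊔ V) ≫ b) : a = b := by
  refine (coverTwo X U V).hom_ext _ _ ?_
  rintro ⟨i⟩
  cases i
  · exact hV
  · exact hU

theorem glue_two (X : Scheme.{u}) (U V : X.Opens) {Y : Scheme.{u}}
    (f : (U : Scheme.{u}) ⟶ Y) (g : (V : Scheme.{u}) ⟶ Y)
    (h : X.homOfLE (inf_le_left : U ⊓ V ≤ U) ≫ f = X.homOfLE (inf_le_right : U ⊓ V ≤ V) ≫ g) :
    ∃ f' : ((U ⊔ V : X.Opens) : Scheme.{u}) ⟶ Y,
      X.homOfLE (le_sup_left : U ≤ U ⊔ V) ≫ f' = f ∧ X.homOfLE (le_sup_right : V ≤ U ⊔ V) ≫ f' = g := by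
  let k : ∀ i : ULift.{u} Bool, ((coverTwo X U V).X i ⟶ Y) := fun
    | ⟨true⟩ => f
    | ⟨false⟩ => g
  have key : ∀ (P : Scheme.{u}) (a : P ⟶ (U : Scheme.{u})) (b : P ⟶ (V : Scheme.{u})),
      a ≫ U.ι = b ≫ V.ι → a ≫ f = b ≫ g := by
    intro P a b hab
    have hr : Set.range (a ≫ U.ι).base ⊆ Set.range (U ⊓ V).ι.base := by
      rintro _ ⟨t, rfl⟩
      rw [Scheme.Opens.range_ι]
      refine ⟨(a.base t).2, ?_⟩
      rw [hab]
      exact (b.base t).2
    have e := IsOpenImmersion.lift_fac (U ⊓ V).ι (a ≫ U.ι) hr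
    have ea : IsOpenImmersion.lift (U ⊓ V).ι (a ≫ U.ι) hr ≫ X.homOfLE inf_le_left = a := by
      rw [← cancel_mono U.ι, Category.assoc, Scheme.homOfLE_ι, e]
    have eb : IsOpenImmersion.lift (U ⊓ V).ι (a ≫ U.ι) hr ≫ X.homOfLE inf_le_right = b := by
      rw [← cancel_mono V.ι, Category.assoc, Scheme.homOfLE_ι, e, hab]
    rw [← ea, ← eb, Category.assoc, Category.assoc, h]
  have key' : ∀ (A B : X.Opens) (hA : A ≤ U ⊔ V) (hB : B ≤ U ⊔ V) (P : Scheme.{u}) (a : P ⟶ (A : Scheme.{u}))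
      (b : P ⟶ (B : Scheme.{u})), a ≫ X.homOfLE hA = b ≫ X.homOfLE hB → a ≫ A.ι = b ≫ B.ι := by
    intro A B hA hB P a b hab
    rw [← Scheme.homOfLE_ι X hA, ← Scheme.homOfLE_ι X hB, ← Category.assoc, hab, Category.assoc]
  have hk : ∀ i j : ULift.{u} Bool, pullback.fst ((coverTwo X U V).f i) ((coverTwo X U V).f j) ≫ k i =
      pullback.snd ((coverTwo X U V).f i) ((coverTwo X U V).f j) ≫ k j := by
    rintro ⟨i⟩ ⟨j⟩
    cases i <;> cases j
    · exact congrArg (· ≫ g) ((cancel_mono V.ι).mp (key' V V le_sup_right le_sup_right _ _ _ pullback.condition))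
    · exact (key _ _ _ (key' V U le_sup_right le_sup_left _ _ _ pullback.condition).symm).symm
    · exact key _ _ _ (key' U V le_sup_left le_sup_right _ _ _ pullback.condition)
    · exact congrArg (· ≫ f) ((cancel_mono U.ι).mp (key' U U le_sup_left le_sup_left _ _ _ pullback.condition))
  exact ⟨(coverTwo X U V).glueMorphisms k hk, (coverTwo X U V).ι_glueMorphisms k hk ⟨true⟩,
    (coverTwo X U V).ι_glueMorphisms k hk ⟨false⟩⟩

theorem isGermInjectiveAt_of_finite_components (X : Scheme.{u}) [IsReduced X] (x : X)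
    (hfin : (irreducibleComponents ↥X).Finite) : X.IsGermInjectiveAt x := by
  let C : Set ↥X := ⋃ Z ∈ {Z ∈ irreducibleComponents ↥X | x ∉ Z}, Z
  have hC : IsClosed C := (hfin.subset fun Z hZ => hZ.1).isClosed_biUnion
    fun Z hZ => isClosed_of_mem_irreducibleComponents Z hZ.1
  have hxC : x ∈ Cᶜ := by
    simp only [C, Set.mem_compl_iff, Set.mem_iUnion, not_exists]
    exact fun Z hZ => hZ.2
  obtain ⟨_, ⟨V, hV, rfl⟩, hxV, hVC⟩ :=
    X.isBasis_affineOpens.exists_subset_of_mem_open hxC hC.isOpen_compl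
  refine ⟨V, hxV, hV, (injective_iff_map_eq_zero _).mpr fun r hr => ?_⟩
  by_contra hr0
  have hne : (X.basicOpen r : Set X).Nonempty := by
    by_contra hemp
    refine hr0 ((AlgebraicGeometry.basicOpen_eq_bot_iff r).mp ?_)
    exact TopologicalSpace.Opens.ext (Set.not_nonempty_iff_eq_empty.mp hemp)
  obtain ⟨a, ha⟩ := hne
  have haV : a ∈ V := X.basicOpen_le r ha
  have hxZ : x ∈ irreducibleComponent a := by
    by_contra hxZ
    exact hVC haV (Set.mem_biUnion ⟨irreducibleComponent_mem_irreducibleComponents a, hxZ⟩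
      mem_irreducibleComponent)
  have hη := (isIrreducible_irreducibleComponent (x := a)).isGenericPoint_genericPoint_closure
  rw [isClosed_irreducibleComponent.closure_eq] at hη
  have hηa : _ ∈ X.basicOpen r := (hη.specializes mem_irreducibleComponent).mem_open (X.basicOpen r).isOpen ha
  obtain ⟨V', hxV', i₁, i₂, hres⟩ := X.presheaf.germ_eq x hxV hxV r 0 (by rw [hr, map_zero])
  rw [map_zero] at hres
  have hηV' : _ ∈ V' := (hη.specializes hxZ).mem_open V'.isOpen hxV'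
  have hb := X.basicOpen_res r i₁.op
  rw [hres, Scheme.basicOpen_zero] at hb
  have hmem : _ ∈ V' ⊓ X.basicOpen r := ⟨hηV', hηa⟩
  rw [← hb] at hmem
  exact hmem

end

open AlgebraicGeometry CategoryTheory


/-- Let p : X ⟶ S and q : Y ⟶ S with q proper, let x be a point of X whose local ring is a valuation
ring, U ⊆ X an open with x in the closure of U, and f : U ⟶ Y a morphism over S. Assume that X is
Noetherian, or else that X is reduced and has only finitely many irreducible components. Then there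
are an open U' of X containing U and x and a morphism f' : U' ⟶ Y over S extending f. -/
theorem result {X Y S : Scheme.{u}} (p : X ⟶ S) (q : Y ⟶ S)
    [IsProper q] (x : X) (U : X.Opens) (f : (U : Scheme.{u}) ⟶ Y) (hf : f ≫ q = U.ι ≫ p)
    (hx : x ∈ closure (U : Set ↥X))
    (hX : (IsReduced X ∧ (irreducibleComponents ↥X).Finite) ∨ IsNoetherian X)
    (hdom : IsDomain (X.presheaf.stalk x)) (hval : @ValuationRing (X.presheaf.stalk x) _ hdom) :
    ∃ (U' : X.Opens) (hUU' : U ≤ U'), x ∈ U' ∧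
      ∃ f' : (U' : Scheme.{u}) ⟶ Y, f' ≫ q = U'.ι ≫ p ∧ X.homOfLE hUU' ≫ f' = f := by
  haveI := hdom
  haveI := hval
  haveI : X.IsGermInjectiveAt x := by
    rcases hX with ⟨hred, hfin⟩ | hno
    · haveI := hred
      exact isGermInjectiveAt_of_finite_components X x hfin
    · haveI := hno
      infer_instance
  obtain ⟨V, hxV, hV, hinjV⟩ := X.exists_germ_injective x
  haveI hVint : IsIntegral (V : Scheme.{u}) := by
    haveI : IsDomain Γ(X, V) := hinjV.isDomain
    haveI : IsIntegral (Spec Γ(X, V)) := inferInstance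
    haveI : Nonempty ↑(V : Scheme.{u}).toPresheafedSpace := ⟨⟨x, hxV⟩⟩
    exact isIntegral_of_isOpenImmersion hV.isoSpec.hom
  -- the generic point of the valuation ring lies in `U`
  let O := X.presheaf.stalk x
  let K := FractionRing O
  let ι₀ : Spec (.of K) ⟶ Spec O := Spec.map (CommRingCat.ofHom (algebraMap O K))
  let ξ : X := X.fromSpecStalk x ⟨⊥, Ideal.isPrime_bot⟩
  have hgen : ∀ w : X, w ⤳ x → ξ ⤳ w := by
    intro w hw
    obtain ⟨P, rfl⟩ : w ∈ Set.range (X.fromSpecStalk x) := by rw [Scheme.range_fromSpecStalk]; exact hw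
    exact ((PrimeSpectrum.le_iff_specializes _ _).mp bot_le).map (X.fromSpecStalk x).continuous
  have hξV : ∀ (W : X.Opens), W ≤ V → (W : Set X).Nonempty → ξ ∈ W := by
    intro W hWV hne
    obtain ⟨a, ha⟩ := hne
    let η : X := V.ι (genericPoint ↥(V : Scheme.{u}))
    have h1 : η ⤳ a := (genericPoint_specializes (α := ↥(V : Scheme.{u})) ⟨a, hWV ha⟩).map V.ι.continuous
    have h2 : η ⤳ x := (genericPoint_specializes (α := ↥(V : Scheme.{u})) ⟨x, hxV⟩).map V.ι.continuous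
    exact (hgen η h2).mem_open W.isOpen (h1.mem_open W.isOpen ha)
  obtain ⟨a₀, ha₀⟩ : ((V ⊓ U : X.Opens) : Set X).Nonempty := by
    obtain ⟨a, ha⟩ := mem_closure_iff.mp hx V V.isOpen hxV
    exact ⟨a, ha⟩
  have hξU : ξ ∈ U := (hξV (V ⊓ U) inf_le_left ⟨a₀, ha₀⟩).2
  have hι₀ : ∀ t, (ι₀ ≫ X.fromSpecStalk x).base t = ξ := by
    intro t
    show X.fromSpecStalk x (ι₀.base t) = ξ
    congr 1
    refine PrimeSpectrum.ext ?_
    show Ideal.comap (algebraMap O K) t.asIdeal = ⊥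
    have ht : t.asIdeal = ⊥ := (Ideal.eq_bot_or_top t.asIdeal).resolve_right t.isPrime.ne_top
    rw [ht, ← RingHom.ker_eq_comap_bot, (RingHom.injective_iff_ker_eq_bot _).mp (IsFractionRing.injective O K)]
  have hrU : Set.range (ι₀ ≫ X.fromSpecStalk x).base ⊆ Set.range U.ι.base := by
    rintro _ ⟨t, rfl⟩
    rw [Scheme.Opens.range_ι, hι₀ t]
    exact hξU
  let j : Spec (.of K) ⟶ (U : Scheme.{u}) := IsOpenImmersion.lift U.ι _ hrU
  have hj : j ≫ U.ι = ι₀ ≫ X.fromSpecStalk x := IsOpenImmersion.lift_fac _ _ _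
  let sq : ValuativeCommSq q :=
    { R := O
      commRing := (X.presheaf.stalk x).commRing
      domain := hdom
      valuationRing := hval
      K := K
      i₁ := j ≫ f
      i₂ := X.fromSpecStalk x ≫ p
      commSq := ⟨by rw [Category.assoc, hf, ← Category.assoc, hj, Category.assoc]; rfl⟩ }
  have hex : ValuativeCriterion.Existence q := by
    have := (UniversallyClosed.eq_valuativeCriterion ▸ (inferInstance : UniversallyClosed q) :
      (ValuativeCriterion.Existence ⊓ @QuasiCompact) q)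
    exact this.1
  obtain ⟨⟨φ, hφ₁, hφ₂⟩⟩ := (hex sq).exists_lift
  obtain ⟨V₁, hxV₁, g₁, hg₁, hg₁'⟩ := spread_out_of_isGermInjective' (sX := p) (sY := q) (x := x) φ hφ₂
  let V₂ : X.Opens := V ⊓ V₁
  have hxV₂ : x ∈ V₂ := ⟨hxV, hxV₁⟩
  let g : (V₂ : Scheme.{u}) ⟶ Y := X.homOfLE inf_le_right ≫ g₁
  have hgq : g ≫ q = V₂.ι ≫ p := by
    rw [Category.assoc, hg₁', ← Category.assoc, Scheme.homOfLE_ι]
  -- agreement on the overlap
  let W : X.Opens := U ⊓ V₂
  have hξW : ξ ∈ W := by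
    refine ⟨hξU, ?_⟩
    exact hξV V₂ inf_le_left ⟨x, hxV₂⟩
  have hrW : Set.range (ι₀ ≫ X.fromSpecStalk x).base ⊆ Set.range W.ι.base := by
    rintro _ ⟨t, rfl⟩
    rw [Scheme.Opens.range_ι, hι₀ t]
    exact hξW
  let n : Spec (.of K) ⟶ (W : Scheme.{u}) := IsOpenImmersion.lift W.ι _ hrW
  have hn : n ≫ W.ι = ι₀ ≫ X.fromSpecStalk x := IsOpenImmersion.lift_fac _ _ _
  haveI : IsDominant n := by
    refine ⟨fun a => mem_closure_iff.mpr fun O' hO' haO' => ?_⟩
    obtain ⟨O'', hO''⟩ : ∃ O'' : X.Opens, (O'' : Set X) = W.ι '' O' :=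
      ⟨⟨_, W.ι.isOpenEmbedding.isOpenMap _ hO'⟩, rfl⟩
    have hle : O'' ≤ V := by
      intro b hb
      rw [← SetLike.mem_coe, hO''] at hb
      obtain ⟨c, -, rfl⟩ := hb
      exact c.2.2.1
    have hξO : ξ ∈ O'' := hξV O'' hle ⟨W.ι a, by rw [hO'']; exact ⟨a, haO', rfl⟩⟩
    rw [← SetLike.mem_coe, hO''] at hξO
    obtain ⟨c, hc, hcξ⟩ := hξO
    obtain ⟨t⟩ : Nonempty ↑(Spec (CommRingCat.of K)).toPresheafedSpace :=
      ⟨(⟨⊥, Ideal.isPrime_bot⟩ : PrimeSpectrum K)⟩
    have : n t = c := W.ι.isOpenEmbedding.injective (by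
      rw [hcξ, ← hι₀ t, ← hn]; rfl)
    exact ⟨c, hc, ⟨t, this⟩⟩
  haveI : IsReduced (W : Scheme.{u}) :=
    isReduced_of_isOpenImmersion (X.homOfLE (show W ≤ V from fun _ h => h.2.1))
  have hag : X.homOfLE (inf_le_left : W ≤ U) ≫ f = X.homOfLE (inf_le_right : W ≤ V₂) ≫ g := by
    refine ext_of_isDominant_of_isSeparated q ?_ n ?_
    · rw [Category.assoc, Category.assoc, hf, hgq, ← Category.assoc, ← Category.assoc, Scheme.homOfLE_ι,
        Scheme.homOfLE_ι]
    · have e1 : n ≫ X.homOfLE (inf_le_left : W ≤ U) = j := by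
        rw [← cancel_mono U.ι, Category.assoc, Scheme.homOfLE_ι, hn, hj]
      have e2 : n ≫ X.homOfLE (inf_le_right : W ≤ V₂) ≫ X.homOfLE (inf_le_right : V₂ ≤ V₁) =
          ι₀ ≫ V₁.fromSpecStalkOfMem x hxV₁ := by
        rw [← cancel_mono V₁.ι, Category.assoc, Category.assoc, Scheme.homOfLE_ι, Scheme.homOfLE_ι, hn,
          Category.assoc, Scheme.Opens.fromSpecStalkOfMem_ι]
      show n ≫ _ ≫ f = n ≫ _ ≫ _ ≫ g₁
      rw [← Category.assoc, e1, ← Category.assoc (X.homOfLE _) _ g₁, ← Category.assoc n, e2, Category.assoc,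
        ← hg₁]
      exact hφ₁.symm
  -- glue
  obtain ⟨f', h1, h2⟩ := glue_two X U V₂ f g hag
  refine ⟨U ⊔ V₂, le_sup_left, Or.inr hxV₂ |> TopologicalSpace.Opens.mem_sup.mpr, f', ?_, h1⟩
  refine hom_ext_two X U V₂ ?_ ?_
  · rw [← Category.assoc, h1, hf, ← Category.assoc, Scheme.homOfLE_ι]
  · rw [← Category.assoc, h2, hgq, ← Category.assoc, Scheme.homOfLE_ι]

end Groth.Agent.S9701
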