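import Groth.Statements.S9702
import Groth.Agent.H75.Birat.GenFinite

set_option autoImplicit false
universe u
open CategoryTheory CategoryTheory.Limits AlgebraicGeometry
open Mor

namespace Groth.Agent.S9702

/-- Let X, Y be integral and f : X ⟶ Y dominant and locally of finite type, with ξ the generic point of
X (so f ξ is the generic point of Y). Then the following are equivalent: the residue field of ξ is
finite over that of f ξ; some nonempty affine opens U ⊆ X and V ⊆ Y with f(U) ⊆ V have U ⟶ V finite;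
every point of X that f sends to the generic point of Y equals ξ. Under the extra assumption that f
is quasi-compact or separated, these are also equivalent to: f⁻¹(V) ⟶ V is finite for some nonempty
affine open V ⊆ Y. (The published statement also lists transcendence degree 0 of the function field
extension, which for this finitely generated extension is equivalent to finiteness; this row omits
it.) -/
theorem result {X Y : Scheme.{u}} [IsIntegral X] [IsIntegral Y] (f : X ⟶ Y)
    [IsDominant f] [LocallyOfFiniteType f] :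
    let ξ := genericPoint ↥X
    let A := letI := (f.residueFieldMap ξ).hom.toAlgebra
      Module.Finite (Y.residueField (f.base ξ)) (X.residueField ξ)
    let B := ∃ (U : X.Opens) (V : Y.Opens) (hUV : U ≤ f ⁻¹ᵁ V), IsAffineOpen U ∧ IsAffineOpen V ∧
      Nonempty ↥U ∧ IsFinite (f.resLE V U hUV)
    let C := ∀ x : X, f.base x = genericPoint ↥Y → x = ξ
    let D := ∃ V : Y.Opens, IsAffineOpen V ∧ Nonempty ↥V ∧ IsFinite (f ∣_ V)
    (A ↔ B) ∧ (A ↔ C) ∧ (IsSeparated f ∨ QuasiCompact f → (A ↔ D)) := by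
    intro ξ A B C D
    have hη : H75.Birat.IsGen (genericPoint ↥Y) := .genericPoint
    have hspec : ∀ z : X, ξ ⤳ z := fun z => (genericPoint_spec ↥X).specializes (Set.mem_univ z)
    have hfξ : f.base ξ = genericPoint ↥Y := by
      refine H75.Birat.isGen_iff_eq_genericPoint.mp ?_
      have hd : closure ({f.base ξ} : Set ↥Y) = Set.univ := by
        refine Set.eq_univ_of_univ_subset ?_
        rw [← f.denseRange.closure_range]
        refine closure_minimal ?_ isClosed_closure
        rintro _ ⟨z, rfl⟩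
        exact specializes_iff_mem_closure.mp ((hspec z).map f.continuous)
      change closure {f.base ξ} ∈ irreducibleComponents ↥Y
      rw [hd, irreducibleComponents_eq_singleton]
      rfl
    have hCA : C → A := fun h => H46.QFin.finite_residueFieldMap f ξ
      (H75.Birat.isClosed_asFiber_of_forall f fun z hz _ _ => h z (hz.trans hfξ))
    have hAC : A → C := fun h x hx =>
      H75.Birat.eq_of_isClosed_asFiber_specialization f
        (H46.QFin.isClosed_asFiber_of_isIntegral f ξ
          (RingHom.Finite.to_isIntegral (f := (f.residueFieldMap ξ).hom) h)) (hx.trans hfξ.symm) (hspec x)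
    have hCfin : C → (f ⁻¹' {genericPoint ↥Y}).Finite := fun h =>
      (Set.finite_singleton ξ).subset fun x hx => h x hx
    have hCB : C → B := by
      intro h
      obtain ⟨V, hV, hηV, -⟩ :=
        exists_isAffineOpen_mem_and_subset (X := Y) (x := genericPoint ↥Y) (U := ⊤) trivial
      obtain ⟨U, hU, hξU, hUV⟩ := exists_isAffineOpen_mem_and_subset (X := X) (x := ξ) (U := f ⁻¹ᵁ V)
        (by change f.base ξ ∈ V; rw [hfξ]; exact hηV)
      obtain ⟨V', hηV', -, hF⟩ := H75.Birat.exists_finite_nhd f hη hU hV hUV hηV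
        ((hCfin h).subset fun a ha => ha.2)
      obtain ⟨r, hr, hηr⟩ := hV.exists_basicOpen_le ⟨_, hηV'⟩ hηV
      exact ⟨_, _, inf_le_right, (hF r hr).1, hV.basicOpen r,
        ⟨⟨ξ, hξU, by change f.base ξ ∈ Y.basicOpen r; rw [hfξ]; exact hηr⟩⟩, (hF r hr).2⟩
    have hBA : B → A := by
      rintro ⟨U, V, hUV, -, -, ⟨z⟩, hF⟩
      have hξU : ξ ∈ U := (hspec z.1).mem_open U.2 z.2
      have h1 : (f.resLE V U hUV ≫ V.ι).QuasiFiniteAt ⟨ξ, hξU⟩ := Scheme.Hom.quasiFiniteAt _ _
      rw [Scheme.Hom.resLE_comp_ι, Scheme.Hom.quasiFiniteAt_comp_iff_of_isOpenImmersion] at h1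
      exact H46.QFin.finite_residueFieldMap f ξ ((H46.QFin.quasiFiniteAt_iff f ξ).mp h1).1
    have hDA : D → A := by
      rintro ⟨V, hV, ⟨w⟩, hF⟩
      have hηV : genericPoint ↥Y ∈ V :=
        ((genericPoint_spec ↥Y).specializes (Set.mem_univ w.1)).mem_open V.2 w.2
      haveI : IsAffine V := hV
      refine hBA ⟨f ⁻¹ᵁ V, V, le_rfl, isAffine_of_isAffineHom (f ∣_ V), hV,
        ⟨⟨ξ, by change f.base ξ ∈ V; rw [hfξ]; exact hηV⟩⟩, ?_⟩
      rwa [Scheme.Hom.resLE_eq_morphismRestrict]
    have hCD : IsSeparated f ∨ QuasiCompact f → C → D := by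
      intro hor h
      obtain ⟨V, hV, hηV, -⟩ :=
        exists_isAffineOpen_mem_and_subset (X := Y) (x := genericPoint ↥Y) (U := ⊤) trivial
      obtain ⟨V', hV', hηV', -, hF⟩ := H75.Birat.exists_isFinite_restrict f hη (hCfin h) hV hηV
        (fun W hW hWV => by
          rcases hor with hs | hq
          · obtain ⟨U, hU, hξU, hUW⟩ :=
              exists_isAffineOpen_mem_and_subset (X := X) (x := ξ) (U := W) (hW ξ hfξ)
            obtain ⟨V', hηV', -, hF⟩ := H75.Birat.exists_finite_nhd f hη hU hV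
              (fun a ha => hWV (hUW ha)) hηV ((hCfin h).subset fun a ha => ha.2)
            obtain ⟨r, hr, hηr⟩ := hV.exists_basicOpen_le ⟨_, hηV'⟩ hηV
            refine ⟨Y.basicOpen r, hηr, fun z hz => hUW ?_⟩
            let D₀ := Y.basicOpen r
            let U₀ := U ⊓ f ⁻¹ᵁ D₀
            let j := X.homOfLE (inf_le_right : U₀ ≤ f ⁻¹ᵁ D₀)
            have : IsFinite (j ≫ (f ∣_ D₀)) := (hF r hr).2
            have : IsFinite j := IsFinite.of_comp j (f ∣_ D₀)
            have hξ₀ : ξ ∈ U₀ := ⟨hξU, by change f.base ξ ∈ D₀; rw [hfξ]; exact hηr⟩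
            have hcl : IsClosed (Set.range j) := j.isClosedMap.isClosed_range
            have hsp : (⟨ξ, hξ₀.2⟩ : (f ⁻¹ᵁ D₀).toScheme) ⤳ ⟨z, hz⟩ :=
              (f ⁻¹ᵁ D₀).ι.isOpenEmbedding.isInducing.specializes_iff.mp (hspec z)
            obtain ⟨w, hw⟩ := hsp.mem_closed hcl ⟨⟨ξ, hξ₀⟩, Subtype.ext (by simp [j])⟩
            have h2 : (f ⁻¹ᵁ D₀).ι (j w) = z := by rw [hw]; rfl
            rw [← Scheme.Hom.comp_apply, Scheme.homOfLE_ι] at h2
            exact h2 ▸ w.2.1
          · exact H75.Birat.exists_nhd_of_quasiCompact f hη W hW)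
        (fun U U' _ _ _ _ hne => ⟨V, hηV, fun z hz _ =>
          hne ξ ((hspec z).mem_open (U ⊓ U').2 hz) hfξ⟩)
      exact ⟨V', hV', ⟨⟨_, hηV'⟩⟩, hF⟩
    exact ⟨⟨fun h => hCB (hAC h), hBA⟩, ⟨hAC, hCA⟩, fun hor => ⟨fun h => hCD hor (hAC h), hDA⟩⟩

end Groth.Agent.S9702
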