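import Groth.Statements.S9703
import Groth.Agent.H21.SplitCover

set_option autoImplicit false
universe u
open CategoryTheory CategoryTheory.Limits AlgebraicGeometry
open Mor

namespace Groth.Agent.S9703

open Polynomial in
theorem exists_roots_algebra (S : Type u) [CommRing S] : ∀ (N : ℕ) (q : Fin N → S[X]), (∀ i, (q i).Monic) →
    ∃ (T : Type u) (_ : CommRing T) (_ : Algebra S T) (t : Fin N → T),
      Module.Finite S T ∧ Module.Free S T ∧ (∀ i, aeval (t i) (q i) = 0) ∧
      (∀ U : Subring T, (∀ s, algebraMap S T s ∈ U) → (∀ i, t i ∈ U) → U = ⊤) ∧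
      ∀ (B : Type u) [CommRing B] (g : S →+* B) (b : Fin N → B), (∀ i, (q i).eval₂ g (b i) = 0) →
        ∃ φ : T →+* B, φ.comp (algebraMap S T) = g ∧ ∀ i, φ (t i) = b i := by
  intro N
  induction N with
  | zero =>
    intro q _
    exact ⟨S, inferInstance, inferInstance, fun i => i.elim0, inferInstance, inferInstance, fun i => i.elim0,
      fun U hU _ => eq_top_iff.2 fun s _ => hU s, fun B _ g b _ => ⟨g, RingHom.ext fun s => rfl, fun i => i.elim0⟩⟩
  | succ N ih =>
    intro q hq
    obtain ⟨T, _, _, t, hfin, hfree, ht, hgen, huniv⟩ := ih (fun i => q i.succ) fun i => hq _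
    let P := (q 0).map (algebraMap S T)
    have hP : P.Monic := (hq 0).map _
    haveI := hP.free_adjoinRoot
    haveI := hP.finite_adjoinRoot
    let of : T →+* AdjoinRoot P := AdjoinRoot.of P
    refine ⟨AdjoinRoot P, inferInstance, inferInstance, Fin.cases (AdjoinRoot.root P) (fun i => of (t i)),
      Module.Finite.trans T _, Module.Free.trans (S := T), fun i => ?_, fun U hS hU => ?_, fun B _ g b hb => ?_⟩
    · refine Fin.cases ?_ (fun j => ?_) i
      · change aeval (AdjoinRoot.root P) (q 0) = 0
        rw [← aeval_map_algebraMap T, AdjoinRoot.aeval_eq, AdjoinRoot.mk_self]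
      · change aeval (algebraMap T (AdjoinRoot P) (t j)) (q j.succ) = 0
        rw [aeval_algebraMap_apply, ht, map_zero]
    · have hT : U.comap of = ⊤ := hgen _ (fun s => hS s) fun i => hU i.succ
      refine eq_top_iff.2 fun x _ => ?_
      induction x using AdjoinRoot.induction_on with
      | _ p =>
        induction p using Polynomial.induction_on' with
        | add p p' hp hp' => rw [map_add]; exact U.add_mem (hp trivial) (hp' trivial)
        | monomial n a =>
          rw [← C_mul_X_pow_eq_monomial, map_mul, map_pow, AdjoinRoot.mk_C, AdjoinRoot.mk_X]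
          exact U.mul_mem (show a ∈ U.comap of by rw [hT]; trivial) (U.pow_mem (hU 0) n)
    · obtain ⟨φ, hφ, hφt⟩ := huniv B g (fun i => b i.succ) fun i => hb _
      have hz : P.eval₂ φ (b 0) = 0 := by rw [Polynomial.eval₂_map, hφ]; exact hb 0
      refine ⟨AdjoinRoot.lift φ (b 0) hz, RingHom.ext fun s => ?_, fun i => ?_⟩
      · change AdjoinRoot.lift φ (b 0) hz (AdjoinRoot.of P (algebraMap S T s)) = g s
        rw [AdjoinRoot.lift_of, ← hφ]; rfl
      · refine Fin.cases ?_ (fun j => ?_) i
        · exact AdjoinRoot.lift_root hz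
        · exact (AdjoinRoot.lift_of hz).trans (hφt j)

open Polynomial in
theorem exists_sections (S : Type u) [CommRing S] (N : ℕ) (q : Fin N → S[X]) (hq : ∀ i, (q i).Monic)
    (hs : ∀ i, (q i).Splits)
    (T : Type u) [CommRing T] [Algebra S T] (t : Fin N → T) (ht : ∀ i, aeval (t i) (q i) = 0)
    (hgen : ∀ U : Subring T, (∀ s, algebraMap S T s ∈ U) → (∀ i, t i ∈ U) → U = ⊤)
    (huniv : ∀ (B : Type u) [CommRing B] (g : S →+* B) (b : Fin N → B), (∀ i, (q i).eval₂ g (b i) = 0) →
      ∃ φ : T →+* B, φ.comp (algebraMap S T) = g ∧ ∀ i, φ (t i) = b i) :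
    ∃ (m : ℕ) (σ : Fin m → (T →+* S)), (∀ j, (σ j).comp (algebraMap S T) = RingHom.id S) ∧
      ∀ Q : Ideal T, Q.IsPrime → ∃ j, RingHom.ker (σ j) ≤ Q := by
  classical
  have h : ∀ i, ∃ r : List S, q i = (r.map fun a => X - C a).prod := by
    intro i
    obtain ⟨m₀, hm₀⟩ := splits_iff_exists_multiset'.mp (hs i)
    rw [(hq i).leadingCoeff, C_1, one_mul] at hm₀
    refine ⟨(m₀.map fun a => -a).toList, hm₀.trans ?_⟩
    rw [← Multiset.prod_coe, ← Multiset.map_coe, Multiset.coe_toList, Multiset.map_map]
    simp [sub_eq_add_neg]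
  choose r hr using h
  let J := (i : Fin N) → Fin (r i).length
  have hσ : ∀ c : J, ∃ σ : T →+* S, σ.comp (algebraMap S T) = RingHom.id S ∧
      ∀ i, σ (t i) = (r i).get (c i) := fun c => huniv S (RingHom.id S) _ fun i => by
    rw [eval₂_id, hr i, eval_list_prod, List.map_map]
    exact List.prod_eq_zero (List.mem_map.2 ⟨_, List.get_mem _ (c i), by simp⟩)
  choose σ hσc hσt using hσ
  let e := (Fintype.equivFin J).symm
  refine ⟨Fintype.card J, fun j => σ (e j), fun j => hσc _, fun Q hQ => ?_⟩
  have hc : ∀ i, ∃ k : Fin (r i).length, t i - algebraMap S T ((r i).get k) ∈ Q := by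
    intro i
    have h0 := ht i
    rw [hr i, map_list_prod, List.map_map] at h0
    have hmem : ∃ a ∈ (r i).map (fun a => t i - algebraMap S T a), a ∈ Q := by
      by_contra hcon
      push Not at hcon
      have : ((r i).map (fun a => t i - algebraMap S T a)).prod ∉ Q := by
        generalize (r i).map (fun a => t i - algebraMap S T a) = l at hcon
        induction l with
        | nil => simpa using (Ideal.ne_top_iff_one Q).1 hQ.ne_top
        | cons a l ih =>
          rw [List.prod_cons]
          exact fun h => (hQ.mem_or_mem h).elim (hcon a (by simp)) (ih fun b hb => hcon b (by simp [hb]))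
      refine this ?_
      have e2 : (fun a => t i - algebraMap S T a) = ((aeval (t i) : S[X] →ₐ[S] T) ∘ fun a => X - C a) := by
        funext a; simp
      rw [e2, h0]
      exact Q.zero_mem
    obtain ⟨a, ha, haQ⟩ := hmem
    obtain ⟨s, hs', rfl⟩ := List.mem_map.1 ha
    obtain ⟨k, rfl⟩ := List.get_of_mem hs'
    exact ⟨k, haQ⟩
  choose c hc using hc
  refine ⟨e.symm c, ?_⟩
  dsimp only
  rw [Equiv.apply_symm_apply]
  have hU : (Ideal.Quotient.mk Q).eqLocus ((Ideal.Quotient.mk Q).comp ((algebraMap S T).comp (σ c))) = ⊤ := by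
    refine hgen _ (fun s => ?_) fun i => ?_
    · change Ideal.Quotient.mk Q _ = Ideal.Quotient.mk Q (algebraMap S T (σ c (algebraMap S T s)))
      rw [show σ c (algebraMap S T s) = s from RingHom.congr_fun (hσc c) s]
    · change Ideal.Quotient.mk Q _ = Ideal.Quotient.mk Q (algebraMap S T (σ c (t i)))
      rw [hσt, Ideal.Quotient.eq]
      exact hc i
  intro x hx
  have hmem : x ∈ (Ideal.Quotient.mk Q).eqLocus ((Ideal.Quotient.mk Q).comp ((algebraMap S T).comp (σ c))) := by
    rw [hU]; trivial
  rw [← Ideal.Quotient.eq_zero_iff_mem, show Ideal.Quotient.mk Q x = _ from hmem]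
  change Ideal.Quotient.mk Q (algebraMap S T (σ c x)) = 0
  rw [RingHom.mem_ker.1 hx, map_zero, map_zero]


/-- Let f : Y ⟶ X be finite with X affine. Then there exist a surjective finite locally free b : X' ⟶ X,
a finite locally free c : Z' ⟶ X' and a closed immersion i of Y' = X' ×_X Y into Z' over X' such
that Z' is, as a set, the union of finitely many closed subschemes each mapping isomorphically onto
X'. (The published statement also records that Y' ⟶ Y is surjective finite locally free, which
follows by base change; this row omits it.) -/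
theorem result {X Y : Scheme.{u}} [IsAffine X] (f : Y ⟶ X)
    [IsFinite f] :
    ∃ (X' : Scheme.{u}) (b : X' ⟶ X) (Z' : Scheme.{u}) (c : Z' ⟶ X') (i : pullback f b ⟶ Z'),
      Mor2.IsFinLocFree b ∧ Surjective b ∧ Mor2.IsFinLocFree c ∧ IsClosedImmersion i ∧
      i ≫ c = pullback.snd f b ∧
      ∃ (m : ℕ) (Zj : Fin m → Scheme.{u}) (ιj : ∀ j, Zj j ⟶ Z'),
        (∀ j, IsClosedImmersion (ιj j)) ∧ (∀ j, IsIso (ιj j ≫ c)) ∧
        (⋃ j, Set.range (ιj j).base) = Set.univ := by
  haveI : IsAffine Y := isAffine_of_isAffineHom f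
  let R := Γ(X, ⊤)
  let A := Γ(Y, ⊤)
  letI : Algebra R A := f.appTop.hom.toAlgebra
  haveI : Module.Finite R A := RingHom.finite_algebraMap.1 f.finite_appTop
  obtain ⟨N, a, ha⟩ := Module.Finite.exists_fin (R := R) (M := A)
  have hint : ∀ i, ∃ p : Polynomial R, p.Monic ∧ Polynomial.aeval (a i) p = 0 := fun i =>
    Algebra.IsIntegral.isIntegral (R := R) (a i)
  choose p hpm hpa using hint
  obtain ⟨S, _, _, hSf, hSfp, hSff, hsplit⟩ := Groth.Agent.H21.SplitCover.exists_split_family R N p hpm
  let q := fun i => (p i).map (algebraMap R S)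
  obtain ⟨T, _, _, t, hTf, hTfree, ht, hgen, huniv⟩ := exists_roots_algebra S N q fun i => (hpm i).map _
  obtain ⟨m, σ, hσ, hcov⟩ := exists_sections S N q (fun i => (hpm i).map _) hsplit T t ht hgen huniv
  haveI : Module.FinitePresentation S T := Module.finitePresentation_of_projective S T
  haveI : Algebra.FinitePresentation S T := (Module.FinitePresentation.iff_finitePresentation_of_finite S T).1 inferInstance
  let B := TensorProduct R A S
  obtain ⟨φ, hφ, hφt⟩ := huniv B Algebra.TensorProduct.includeRight.toRingHom (fun i => a i ⊗ₜ[R] (1 : S))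
    fun i => by
      rw [Polynomial.eval₂_map, AlgHom.toRingHom_eq_coe, AlgHom.comp_algebraMap, ← Polynomial.aeval_def,
        show a i ⊗ₜ[R] (1 : S) = (Algebra.TensorProduct.includeLeft : A →ₐ[R] B) (a i) from rfl,
        Polynomial.aeval_algHom_apply, hpa, map_zero]
  have hφs : Function.Surjective φ := by
    intro z
    suffices z ∈ φ.range from this
    induction z using TensorProduct.induction_on with
    | zero => exact zero_mem _
    | add x y hx hy => exact add_mem hx hy
    | tmul x s =>
      have hS : ∀ s' : S, (1 : A) ⊗ₜ[R] s' ∈ φ.range := fun s' =>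
        ⟨algebraMap S T s', RingHom.congr_fun hφ s'⟩
      have hA : ∀ y : A, y ⊗ₜ[R] (1 : S) ∈ φ.range := by
        intro y
        have hy : y ∈ Submodule.span R (Set.range a) := by rw [ha]; trivial
        induction hy using Submodule.span_induction with
        | mem v hv => obtain ⟨i, rfl⟩ := hv; exact ⟨t i, hφt i⟩
        | zero => rw [TensorProduct.zero_tmul]; exact zero_mem _
        | add u v _ _ hu hv => rw [TensorProduct.add_tmul]; exact add_mem hu hv
        | smul c v _ hv =>
          have : (c • v) ⊗ₜ[R] (1 : S) = ((1 : A) ⊗ₜ[R] algebraMap R S c) * (v ⊗ₜ[R] (1 : S)) := by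
            rw [Algebra.TensorProduct.tmul_mul_tmul, one_mul, mul_one, TensorProduct.smul_tmul, Algebra.smul_def, mul_one]
          rw [this]; exact mul_mem (hS _) hv
      have : x ⊗ₜ[R] s = (x ⊗ₜ[R] (1 : S)) * ((1 : A) ⊗ₜ[R] s) := by
        rw [Algebra.TensorProduct.tmul_mul_tmul, one_mul, mul_one]
      rw [this]; exact mul_mem (hA x) (hS s)
  let X' : Scheme.{u} := Spec (CommRingCat.of S)
  let ρ : X' ⟶ Spec R := Spec.map (CommRingCat.ofHom (algebraMap R S))
  let b : X' ⟶ X := ρ ≫ X.isoSpec.inv
  let c : Spec (CommRingCat.of T) ⟶ X' := Spec.map (CommRingCat.ofHom (algebraMap S T))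
  let e : pullback f b ⟶ Spec (CommRingCat.of B) :=
    pullback.map f b (Spec.map f.appTop) ρ Y.isoSpec.hom (𝟙 _) X.isoSpec.hom
      (Scheme.isoSpec_hom_naturality f).symm (by simp [b]) ≫ (pullbackSpecIso R A S).hom
  haveI : IsIso e := inferInstance
  have hesnd : e ≫ Spec.map (CommRingCat.ofHom (Algebra.TensorProduct.includeRight : S →ₐ[R] B).toRingHom) =
      pullback.snd f b := by
    simp only [e, Category.assoc]
    erw [pullbackSpecIso_hom_snd R A S, pullback.lift_snd, Category.comp_id]
  have hρ : IsFinite ρ ∧ Flat ρ ∧ LocallyOfFinitePresentation ρ ∧ Surjective ρ :=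
    ⟨(IsFinite.SpecMap_iff _).2 (RingHom.finite_algebraMap.2 hSf),
      (HasRingHomProperty.Spec_iff (P := @Flat)).mpr (RingHom.flat_algebraMap_iff.2 inferInstance),
      (HasRingHomProperty.Spec_iff (P := @LocallyOfFinitePresentation)).mpr
        (RingHom.finitePresentation_algebraMap.2 hSfp),
      ⟨PrimeSpectrum.comap_surjective_of_faithfullyFlat (B := S)⟩⟩
  obtain ⟨_, _, _, _⟩ := hρ
  haveI : IsClosedImmersion (Spec.map (CommRingCat.ofHom φ)) := IsClosedImmersion.spec_of_surjective _ hφs
  refine ⟨X', b, Spec (CommRingCat.of T), c, e ≫ Spec.map (CommRingCat.ofHom φ),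
    ⟨inferInstance, inferInstance, inferInstance⟩, inferInstance,
    ⟨(IsFinite.SpecMap_iff _).2 (RingHom.finite_algebraMap.2 hTf),
      (HasRingHomProperty.Spec_iff (P := @Flat)).mpr (RingHom.flat_algebraMap_iff.2 inferInstance),
      (HasRingHomProperty.Spec_iff (P := @LocallyOfFinitePresentation)).mpr
        (RingHom.finitePresentation_algebraMap.2 inferInstance)⟩,
    inferInstance, ?_, m, fun _ => X', fun j => Spec.map (CommRingCat.ofHom (σ j)), fun j => ?_, fun j => ?_, ?_⟩
  · rw [Category.assoc, ← Spec.map_comp, ← CommRingCat.ofHom_comp, hφ]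
    exact hesnd
  · exact IsClosedImmersion.spec_of_surjective _ fun s => ⟨algebraMap S T s, RingHom.congr_fun (hσ j) s⟩
  · rw [← Spec.map_comp, ← CommRingCat.ofHom_comp, hσ]
    exact inferInstanceAs (IsIso (Spec.map (𝟙 (CommRingCat.of S))))
  · refine Set.eq_univ_of_forall fun (Q : PrimeSpectrum T) => ?_
    obtain ⟨j, hj⟩ := hcov Q.asIdeal Q.isPrime
    refine Set.mem_iUnion.2 ⟨j, ?_⟩
    change Q ∈ Set.range (PrimeSpectrum.comap (σ j))
    rw [_root_.range_comap_of_surjective _ _ fun s => ⟨algebraMap S T s, RingHom.congr_fun (hσ j) s⟩]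
    exact hj

end Groth.Agent.S9703
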