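import Groth.Statements.S9704
import Groth.Agent.Lib.HProj.Local

set_option autoImplicit false
universe u
open CategoryTheory CategoryTheory.Limits AlgebraicGeometry
open Mor

namespace Groth.Agent.S9704

/-- A morphism f : X ⟶ S is locally projective if and only if S has an open covering by opens U such
that each restriction f⁻¹(U) ⟶ U is H-projective (a closed immersion into some P^n_U followed by the
projection). Here f⁻¹(U) ⟶ U projective means isomorphic over U to the relative Proj of a
quasi-coherent graded algebra generated by its finite-type degree-one part; the published definition
uses closed subschemes of P(E) with E of finite type, an equivalent condition. -/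
theorem result {X S : Scheme.{u}} (f : X ⟶ S) :
    RelProj.IsLocallyProjective f ↔ ∀ s : S, ∃ U : S.Opens, s ∈ U ∧ RelProj.IsHProjective (f ∣_ U) := by
  exact Lib.HProj.Local.isLocallyProjective_iff f

end Groth.Agent.S9704
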