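import Groth.Statements.S9714
import Groth.Agent.H75.BaseChange.OverField

set_option autoImplicit false
universe u
open CategoryTheory CategoryTheory.Limits AlgebraicGeometry
open Mor

namespace Groth.Agent.S9714

/-- Let k be a field and X a scheme over k. The structure morphism X ⟶ Spec k is unramified (formally
unramified and locally of finite type) if and only if X is isomorphic over k to a disjoint union of
spectra of finite separable field extensions of k. -/
theorem result (k : Type u) [Field k] {X : Scheme.{u}}
    (f : X ⟶ Spec (CommRingCat.of k)) :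
    (FormallyUnramified f ∧ LocallyOfFiniteType f) ↔
      ∃ (ι : Type u) (K : ι → Type u) (_ : ∀ i, Field (K i)) (_ : ∀ i, Algebra k (K i)),
        (∀ i, FiniteDimensional k (K i) ∧ Algebra.IsSeparable k (K i)) ∧
        ∃ e : X ≅ ∐ (fun i => Spec (CommRingCat.of (K i))),
          e.hom ≫ Sigma.desc (fun i => Spec.map (CommRingCat.ofHom (algebraMap k (K i)))) = f := by
    constructor
    · rintro ⟨h1, h2⟩
      obtain ⟨ι, K, i1, i2, hf, hs, e, he⟩ :=
        (S0658.result k X f).mp (H75.BaseChange.etale_of_formallyUnramified f)
      refine ⟨ι, K, i1, i2, fun i => ⟨hf i, hs i⟩, e.symm, ?_⟩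
      rw [Iso.symm_hom, Iso.inv_comp_eq]
      exact Sigma.hom_ext _ _ fun i => by rw [Sigma.ι_desc, he i]
    · rintro ⟨ι, K, i1, i2, hK, e, he⟩
      have : Etale f := (S0658.result k X f).mpr
        ⟨ι, K, inferInstance, inferInstance, fun i => (hK i).1, fun i => (hK i).2, e.symm, fun i => by
          rw [← he]
          simp⟩
      exact ⟨inferInstance, inferInstance⟩

end Groth.Agent.S9714
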