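import Groth.Statements.S9715
import Groth.Agent.Lib.PrinParts.AffExt

set_option autoImplicit false
universe u
open CategoryTheory CategoryTheory.Limits AlgebraicGeometry
open Opposite
open Mor

namespace Groth.Agent.S9715

/-- Let f : X ⟶ S be a morphism of affine schemes, R = Γ(S, O_S) → A = Γ(X, O_X) the corresponding ring
map, F a quasi-coherent O_X-module and G an O_X-module, with global sections M and N. Every
differential operator M → N of order at most k relative to A over R is induced on global sections by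
a differential operator F → G of order at most k relative to X over S. (The published statement
asserts that D ↦ Γ(X, D) is a bijection between the two sets of operators of order at most k; its
injectivity is not verified in the published proof and is not claimed here. Differential operators
on X/S are taken in the principal-parts sense, those of A/R in the commutator sense.) -/
theorem result {X S : Scheme.{u}} [IsAffine X] [IsAffine S] (f : X ⟶ S)
    (F G : X.Modules) (hF : Coh.IsQCoh F) (k : ℕ) :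
    letI : Algebra Γ(S, ⊤) Γ(X, ⊤) := f.appTop.hom.toAlgebra
    letI : Module Γ(S, ⊤) Γ(F, ⊤) := Module.compHom Γ(F, ⊤) f.appTop.hom
    letI : Module Γ(S, ⊤) Γ(G, ⊤) := Module.compHom Γ(G, ⊤) f.appTop.hom
    haveI : IsScalarTower Γ(S, ⊤) Γ(X, ⊤) Γ(F, ⊤) := IsScalarTower.of_algebraMap_smul fun _ _ => rfl
    haveI : IsScalarTower Γ(S, ⊤) Γ(X, ⊤) Γ(G, ⊤) := IsScalarTower.of_algebraMap_smul fun _ _ => rfl
    ∀ D' : Γ(F, ⊤) →ₗ[Γ(S, ⊤)] Γ(G, ⊤), Diff16.IsDiffOpLE Γ(S, ⊤) Γ(X, ⊤) Γ(F, ⊤) Γ(G, ⊤) k D' →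
      ∃ D : F.presheaf ⟶ G.presheaf, PrinPart.IsDiffOpLE f F G k D ∧
        ∀ m : Γ(F, ⊤), (D.app (op ⊤)).hom m = D' m := by
  intro D' hD'
  letI : Algebra Γ(S, ⊤) Γ(X, ⊤) := f.appTop.hom.toAlgebra
  letI : Module Γ(S, ⊤) Γ(F, ⊤) := Module.compHom Γ(F, ⊤) f.appTop.hom
  letI : Module Γ(S, ⊤) Γ(G, ⊤) := Module.compHom Γ(G, ⊤) f.appTop.hom
  haveI : IsScalarTower Γ(S, ⊤) Γ(X, ⊤) Γ(F, ⊤) := IsScalarTower.of_algebraMap_smul fun _ _ => rfl
  haveI : IsScalarTower Γ(S, ⊤) Γ(X, ⊤) Γ(G, ⊤) := IsScalarTower.of_algebraMap_smul fun _ _ => rfl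
  choose E hE using Groth.Agent.Lib.PrinParts.exists_isExt hF hD'
  obtain ⟨D, hD⟩ := Groth.Agent.Lib.PrinParts.exists_presheafHom (fun x => (E x).toAddMonoidHom)
    fun U t x hx => Groth.Agent.Lib.PrinParts.exists_local_section hF k D' E hE U t x hx
  have hlin : Groth.Agent.Lib.PrinParts.IsBaseLinear f F G D := by
    intro V s U hU t
    refine TopCat.Presheaf.section_ext ⟨G.presheaf, G.isSheaf⟩ U _ _ fun y hy => ?_
    change G.presheaf.germ U y hy _ = G.presheaf.germ U y hy _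
    rw [← Groth.Agent.Lib.PrinParts.stalkAdd_germ D hy, hD,
      Groth.Agent.Lib.Modules.StalkModule.germ_smul,
      Groth.Agent.Lib.Modules.StalkModule.germ_smul,
      ← Groth.Agent.Lib.PrinParts.stalkAdd_germ D hy, hD]
    generalize F.presheaf.germ U y hy t = v
    rw [TopCat.Presheaf.germ_res_apply]
    have hfy : f y ∈ V := hU hy
    rw [show X.presheaf.germ (f ⁻¹ᵁ V) y (hU hy) (f.app V s) =
      f.stalkMap y (S.presheaf.germ V (f y) hfy s) from
      (Scheme.Hom.germ_stalkMap_apply f V y hfy s).symm]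
    letI := Groth.Agent.Lib.PrinParts.topStalkAlg (X := S) (f y)
    haveI := Groth.Agent.Lib.PrinParts.isLocalization_topStalk (X := S) (f y)
    obtain ⟨⟨a, g⟩, hag⟩ := IsLocalization.surj
      ((isAffineOpen_top S).primeIdealOf ⟨f y, TopologicalSpace.Opens.mem_top (f y)⟩).asIdeal.primeCompl
      (S.presheaf.germ V (f y) hfy s)
    have hu : IsUnit (f.stalkMap y (algebraMap Γ(S, ⊤) (S.presheaf.stalk (f y)) g)) :=
      (IsLocalization.map_units (S.presheaf.stalk (f y)) g).map (f.stalkMap y).hom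
    letI := Groth.Agent.Lib.PrinParts.baseStalkAlg (X := X) (A := Γ(S, ⊤)) y
    letI := Groth.Agent.Lib.PrinParts.baseStalkMod (A := Γ(S, ⊤)) F y
    letI := Groth.Agent.Lib.PrinParts.baseStalkMod (A := Γ(S, ⊤)) G y
    have hc : ∀ (c : Γ(S, ⊤)) (w : F.presheaf.stalk y),
        E y (f.stalkMap y (algebraMap Γ(S, ⊤) (S.presheaf.stalk (f y)) c) • w) =
          f.stalkMap y (algebraMap Γ(S, ⊤) (S.presheaf.stalk (f y)) c) • E y w := fun c w => by
      rw [show f.stalkMap y (algebraMap Γ(S, ⊤) (S.presheaf.stalk (f y)) c) =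
        algebraMap Γ(S, ⊤) (X.presheaf.stalk y) c from
        Scheme.Hom.germ_stalkMap_apply f ⊤ y (TopologicalSpace.Opens.mem_top (f y)) c]
      exact (E y).map_smul c w
    apply hu.smul_left_cancel.mp
    show _ • E y _ = _ • _ • E y v
    rw [← hc, smul_smul, smul_smul, ← map_mul, mul_comm _ (S.presheaf.germ V (f y) hfy s), hag, hc]
  refine ⟨D, ?_, fun m => ?_⟩
  · refine Groth.Agent.Lib.PrinParts.isDiffOpLE_of_stalkOrd f k hlin fun x => ?_
    letI := Groth.Agent.Lib.PrinParts.stalkAlg f x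
    letI := Groth.Agent.Lib.PrinParts.stalkBaseMod f F x
    letI := Groth.Agent.Lib.PrinParts.stalkBaseMod f G x
    haveI := Groth.Agent.Lib.PrinParts.stalkBaseTower f F x
    haveI := Groth.Agent.Lib.PrinParts.stalkBaseTower f G x
    letI := Groth.Agent.Lib.PrinParts.baseStalkAlg (X := X) (A := Γ(S, ⊤)) x
    letI := Groth.Agent.Lib.PrinParts.baseStalkMod (A := Γ(S, ⊤)) F x
    letI := Groth.Agent.Lib.PrinParts.baseStalkMod (A := Γ(S, ⊤)) G x
    haveI := Groth.Agent.Lib.PrinParts.tower₂ (A := Γ(S, ⊤)) F x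
    haveI := Groth.Agent.Lib.PrinParts.tower₂ (A := Γ(S, ⊤)) G x
    refine Groth.Agent.Lib.DiffOp.Basic.of_alt fun b t => ?_
    refine Eq.trans ?_ (Groth.Agent.Lib.DiffOp.Basic.alt_eq_zero (hE x).1
      (Finset.card_fin (k + 1)) b t)
    exact Finset.sum_congr rfl fun H _ =>
      congrArg (fun w => ((-1 : ℤ) ^ H.card) • ((∏ i ∈ H, b i) • w)) (hD x _)
  · refine TopCat.Presheaf.section_ext ⟨G.presheaf, G.isSheaf⟩ ⊤ _ _ fun y hy => ?_
    change G.presheaf.germ ⊤ y hy _ = G.presheaf.germ ⊤ y hy _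
    rw [← Groth.Agent.Lib.PrinParts.stalkAdd_germ D hy, hD]
    exact (hE y).2 m

end Groth.Agent.S9715
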