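import Groth.Statements.S9722
import Groth.Agent.Lib.H75.NhdApp.Basic

set_option autoImplicit false
universe u
open CategoryTheory AlgebraicGeometry
open Mor

namespace Groth.Agent.S9722

/-- Let f : X ⟶ S be a morphism, x a point of X and V an affine open neighbourhood of f(x) in S. Then f
is étale on some open neighbourhood of x if and only if there is an affine open neighbourhood U of x
with f(U) ⊆ V such that Γ(X, U) is a standard étale algebra over Γ(S, V) through the induced ring
map. -/
theorem result {X S : Scheme.{u}} (f : X ⟶ S) (x : X)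
    (V : S.Opens) (hV : IsAffineOpen V) (hxV : f x ∈ V) :
    (∃ W : X.Opens, x ∈ W ∧ Etale (W.ι ≫ f)) ↔
      ∃ (U : X.Opens) (_ : IsAffineOpen U) (_ : x ∈ U) (e : U ≤ f ⁻¹ᵁ V),
        letI := (f.appLE V U e).hom.toAlgebra
        Algebra.IsStandardEtale Γ(S, V) Γ(X, U) := by
  exact Groth.Agent.Lib.H75.NhdApp.Basic.etale_nhd_iff f hV hxV

end Groth.Agent.S9722
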