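import Groth.Statements.S9724
import Groth.Agent.H68.SmoothHyperScheme
import Groth.Agent.H68.SmoothCrit

set_option autoImplicit false
universe u
open FlatMor

namespace Groth.Agent.S9724

set_option linter.style.haveILetI false in
open IsLocalRing TensorProduct KaehlerDifferential in
/-- A local hom with formally smooth nontrivial closed fibre and formally smooth residue extension
has an element of the maximal ideal with nonvanishing differential. -/
theorem exists_differential_ne_zero {A B : Type u} [CommRing A] [CommRing B] [IsLocalRing A] [IsLocalRing B]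
    (φ : A →+* B) [IsLocalHom φ] (hfs : φ.FormallySmooth) (hessφ : φ.EssFiniteType)
    (hκ : (ResidueField.map φ).FormallySmooth)
    (hne : maximalIdeal B ≠ (maximalIdeal A).map φ) :
    ∃ h ∈ maximalIdeal B, letI := φ.toAlgebra
      (1 : ResidueField B) ⊗ₜ[B] D A B h ≠ 0 := by
  letI : Algebra A B := φ.toAlgebra
  haveI : IsLocalHom (algebraMap A B) := ‹IsLocalHom φ›
  haveI : Algebra.FormallySmooth A B := hfs
  haveI : Algebra.EssFiniteType A B := hessφ
  let F := B ⧸ (maximalIdeal A).map (algebraMap A B)
  letI : Algebra (ResidueField A) F :=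
    (Ideal.quotientMap _ (algebraMap A B) Ideal.le_comap_map).toAlgebra
  haveI : IsScalarTower A (ResidueField A) F := IsScalarTower.of_algebraMap_eq fun _ => rfl
  haveI : IsLocalRing F := Lib.JacCrit.SmoothLocal.isLocalRing_fibre (algebraMap A B)
  have hess : Algebra.EssFiniteType (ResidueField A) F :=
    Lib.JacCrit.SmoothLocal.essFiniteType_fibre (algebraMap A B) (RingHom.essFiniteType_algebraMap.2 ‹_›)
  haveI := hess
  haveI : IsNoetherianRing F := Algebra.EssFiniteType.isNoetherianRing (ResidueField A) F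
  obtain ⟨eF⟩ := Lib.JacCrit.SmoothLocal.nonempty_fibreEquiv (algebraMap A B)
  haveI : Algebra.FormallySmooth (ResidueField A) (ResidueField A ⊗[A] B) := inferInstance
  have hFS : Algebra.FormallySmooth (ResidueField A) F := Algebra.FormallySmooth.of_equiv eF
  haveI := hFS
  haveI : IsLocalHom (Ideal.Quotient.mk ((maximalIdeal A).map (algebraMap A B))) :=
    IsLocalHom.of_surjective _ Ideal.Quotient.mk_surjective
  have hmF : maximalIdeal F = (maximalIdeal B).map (Ideal.Quotient.mk _) :=
    (map_maximalIdeal_of_surjective _ Ideal.Quotient.mk_surjective).symm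
  have hne' : maximalIdeal F ≠ maximalIdeal F ^ 2 := by
    intro heq
    have h0 : maximalIdeal F = ⊥ := Submodule.eq_bot_of_le_smul_of_le_jacobson_bot (maximalIdeal F) _
      (IsNoetherian.noetherian _) (by rw [smul_eq_mul, ← pow_two, ← heq])
      (IsLocalRing.maximalIdeal_le_jacobson ⊥)
    rw [hmF, Ideal.map_eq_bot_iff_le_ker, Ideal.mk_ker] at h0
    exact hne (le_antisymm h0 (IsLocalRing.map_maximalIdeal_le _))
  obtain ⟨y, hy, hy2⟩ := Set.not_subset.1 fun hsub : (maximalIdeal F : Set F) ⊆ (maximalIdeal F ^ 2 : Ideal F) =>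
    hne' (le_antisymm hsub (Ideal.pow_le_self two_ne_zero))
  obtain ⟨h, rfl⟩ := Ideal.Quotient.mk_surjective y
  have hhm : h ∈ maximalIdeal B := by
    by_contra hn
    exact hy ((IsLocalRing.notMem_maximalIdeal.1 hn).map _)
  refine ⟨h, hhm, fun h0 => hy2 ?_⟩
  -- the residue field of the fibre
  let κe : ResidueField B →+* ResidueField F := ResidueField.map (Ideal.Quotient.mk _)
  have hκs : Function.Surjective κe := fun z => by
    obtain ⟨z, rfl⟩ := residue_surjective z
    obtain ⟨b, rfl⟩ := Ideal.Quotient.mk_surjective z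
    exact ⟨residue B b, rfl⟩
  letI : Algebra (ResidueField A) (ResidueField B) := (ResidueField.map φ).toAlgebra
  haveI : Algebra.FormallySmooth (ResidueField A) (ResidueField B) := hκ
  let ψ : ResidueField B ≃ₐ[ResidueField A] ResidueField F :=
    AlgEquiv.ofRingEquiv (f := RingEquiv.ofBijective κe ⟨RingHom.injective _, hκs⟩) fun a => by
      obtain ⟨a, rfl⟩ := residue_surjective a
      rfl
  haveI : Algebra.FormallySmooth (ResidueField A) (ResidueField F) := Algebra.FormallySmooth.of_equiv ψ
  obtain ⟨l, hl⟩ := (Algebra.FormallySmooth.iff_split_injection (R := ResidueField A) (P := F)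
    (A := ResidueField F) residue_surjective).1 inferInstance
  -- transport the vanishing
  have h1 : D A B h ∈ maximalIdeal B • (⊤ : Submodule B Ω[B⁄A]) := by
    have := congrArg (TensorProduct.quotTensorEquivQuotSMul Ω[B⁄A] (maximalIdeal B)) h0
    replace this := this.trans (map_zero _)
    erw [TensorProduct.quotTensorEquivQuotSMul_mk_tmul, one_smul] at this
    exact (Submodule.Quotient.mk_eq_zero _).1 this
  let Λ := KaehlerDifferential.map A (ResidueField A) B F
  have key : ∀ ω ∈ maximalIdeal B • (⊤ : Submodule B Ω[B⁄A]),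
      (1 : ResidueField F) ⊗ₜ[F] Λ ω = 0 := by
    intro ω hω
    refine Submodule.smul_induction_on hω (fun b hb v _ => ?_) (fun a b ha hb => ?_)
    · rw [map_smul, ← IsScalarTower.algebraMap_smul F b (Λ v), TensorProduct.tmul_smul,
        TensorProduct.smul_tmul', Algebra.smul_def, mul_one, ResidueField.algebraMap_eq,
        (IsLocalRing.residue_eq_zero_iff _).2 (hmF ▸ Ideal.mem_map_of_mem _ hb : _ ∈ maximalIdeal F),
        TensorProduct.zero_tmul]
    · rw [map_add, TensorProduct.tmul_add, ha, hb, add_zero]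
  have h2 := key _ h1
  rw [KaehlerDifferential.map_D] at h2
  let K := RingHom.ker (algebraMap F (ResidueField F))
  have hK : K = maximalIdeal F := IsLocalRing.ker_residue
  have h3 := congrArg l h2
  rw [map_zero] at h3
  have hy' : Ideal.Quotient.mk _ h ∈ K := hK.symm ▸ hy
  have h4 : l (kerCotangentToTensor (ResidueField A) F (ResidueField F) (K.toCotangent ⟨_, hy'⟩)) = 0 := by
    rw [kerCotangentToTensor_toCotangent]; exact h3
  rw [← LinearMap.comp_apply, hl, LinearMap.id_apply, Ideal.toCotangent_eq_zero] at h4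
  exact (show K ^ 2 ≤ maximalIdeal F ^ 2 by rw [hK]) h4

open AlgebraicGeometry CategoryTheory in
/-- Stalk maps at points of a smooth open. -/
theorem stalk_props {X S : Scheme.{u}} (f : X ⟶ S) (W : X.Opens) (w : W.toScheme) (hW : Smooth (W.ι ≫ f)) :
    (f.stalkMap (W.ι w)).hom.FormallySmooth ∧ (f.stalkMap (W.ι w)).hom.EssFiniteType := by
  have h1 : ((W.ι ≫ f).stalkMap w).hom.FormallySmooth := by
    rw [← Scheme.Hom.mem_smoothLocus, Scheme.Hom.smoothLocus_eq_top]; trivial
  have h2 : ((W.ι ≫ f).stalkMap w).hom.EssFiniteType := LocallyOfFiniteType.stalkMap (W.ι ≫ f) w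
  rw [Scheme.Hom.stalkMap_comp] at h1 h2
  refine ⟨(RingHom.FormallySmooth.respectsIso.cancel_right_isIso (f.stalkMap (W.ι w)) (W.ι.stalkMap w)).1 h1, ?_⟩
  have e : (f.stalkMap (W.ι w)).hom = (inv (W.ι.stalkMap w)).hom.comp
      (f.stalkMap (W.ι w) ≫ W.ι.stalkMap w).hom := by
    rw [← CommRingCat.hom_comp, Category.assoc, IsIso.hom_inv_id, Category.comp_id]
  rw [e]
  exact h2.comp (RingHom.FiniteType.of_surjective _
    (ConcreteCategory.bijective_of_isIso (inv (W.ι.stalkMap w))).2).essFiniteType

open AlgebraicGeometry CategoryTheory Limits in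
/-- Let f : X ⟶ S be a morphism and x a point such that f is smooth on an open neighbourhood of x, the
residue field extension κ(x)/κ(f x) is separable (formally smooth), and x is not the generic point
of any irreducible component of the fibre over f x, i.e. (the fibre being smooth over a field near
x) the maximal ideal of the local ring of the fibre at x is nonzero. Then there are an affine open U
∋ x and a nonzerodivisor h' of Γ(X, U) vanishing at x such that the closed subscheme V(h') of U, an
effective Cartier divisor through x, is smooth over S. -/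
theorem result {X S : Scheme.{u}} (f : X ⟶ S) (x : X)
    (W : X.Opens) (hxW : x ∈ W) (hW : Smooth (W.ι ≫ f))
    (hsep : letI := (f.residueFieldMap x).hom.toAlgebra
      Algebra.FormallySmooth (S.residueField (f x)) (X.residueField x))
    (hgen : IsLocalRing.maximalIdeal ↑((f.fiber (f x)).presheaf.stalk (f.asFiber x)) ≠ ⊥) :
    ∃ (U : X.Opens) (hU : IsAffineOpen U) (hx : x ∈ U) (h' : Γ(X, U)), h' ∈ nonZeroDivisors Γ(X, U) ∧
      X.presheaf.germ U x hx h' ∈ IsLocalRing.maximalIdeal ↑(X.presheaf.stalk x) ∧
      Smooth (Spec.map (CommRingCat.ofHom (Ideal.Quotient.mk (Ideal.span {h'}))) ≫ hU.fromSpec ≫ f) := by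
  obtain ⟨hFS, hEFT⟩ := stalk_props f W ⟨x, hxW⟩ hW
  have hκ : (IsLocalRing.ResidueField.map (f.stalkMap x).hom).FormallySmooth := hsep
  obtain ⟨ρ, hρs, hρk, -⟩ :=
    H68.SmoothCrit.exists_rho f (f x) (f.asFiber x) x (f.fiberι_asFiber x)
  obtain ⟨h, hm, hd⟩ := exists_differential_ne_zero (f.stalkMap x).hom hFS hEFT hκ
    (fun heq => hgen (by
      rw [← IsLocalRing.isField_iff_maximalIdeal_eq]
      refine MulEquiv.isField (B := X.presheaf.stalk x ⧸
        (IsLocalRing.maximalIdeal (S.presheaf.stalk (f x))).map (f.stalkMap x).hom) ?_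
        ((Ideal.quotEquivOfEq hρk.symm).trans (RingHom.quotientKerEquivOfSurjective hρs)).symm.toMulEquiv
      rw [← Ideal.Quotient.maximal_ideal_iff_isField_quotient]
      exact heq ▸ IsLocalRing.maximalIdeal.isMaximal _))
  obtain ⟨U, hU, hx, h', hg, hnzd, hsm⟩ :=
    H68.SmoothHyperScheme.exists_smooth_effCartier f x W hxW hW h hm hd
  exact ⟨U, hU, hx, h', hnzd, hg ▸ hm, hsm⟩

end Groth.Agent.S9724
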