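import Groth.Statements.S9726

import Groth.Agent.Lib.FFDesc.Lqf

set_option autoImplicit false
open CategoryTheory CategoryTheory.Limits AlgebraicGeometry Opposite
universe u
open Desc

namespace Groth.Agent.S9726

/-- Single flat, surjective, locally finitely presented cover; a general fppf covering reduces to this
by taking the disjoint union: Let p : X ⟶ S be flat, surjective and locally of finite presentation.
Every descent datum for schemes relative to p whose underlying scheme is separated, locally
quasi-finite and locally of finite type over X is effective: it is isomorphic to the canonical
descent datum of some scheme over S. (Descent data are in functor-of-points form; locally of finite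
type is part of the book's notion of locally quasi-finite.) -/
theorem result {X S : Scheme.{u}} (p : X ⟶ S) [Flat p] [Surjective p] [LocallyOfFinitePresentation p]
    (D : Desc.SchDD p) [IsSeparated D.obj.hom] [LocallyQuasiFinite D.obj.hom] [LocallyOfFiniteType D.obj.hom] :
    ∃ U : Over S, Nonempty ((Desc.toDD p).obj U ≅ D) := by
  obtain ⟨U, q, hq⟩ := Groth.Agent.Lib.FFDesc.exists_isDescended_of_lqf D
  exact hq.exists_iso

end Groth.Agent.S9726
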