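import Groth.Statements.S9727
import Groth.Agent.Lib.FibreEtale.Lift
import Mathlib.AlgebraicGeometry.Morphisms.Etale
import Mathlib.AlgebraicGeometry.Fiber

set_option autoImplicit false
universe u
open FlatMor

namespace Groth.Agent.S9727

section Aux

open AlgebraicGeometry CategoryTheory Limits TensorProduct

theorem exists_frac {X : Scheme.{u}} {S0 : X.Opens} (hS0 : IsAffineOpen S0) (s : X) (hs : s ∈ S0)
    (c : X.residueField s) :
    ∃ a b : Γ(X, S0), IsUnit ((X.presheaf.germ S0 s hs ≫ X.residue s).hom b) ∧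
      (X.presheaf.germ S0 s hs ≫ X.residue s).hom b * c = (X.presheaf.germ S0 s hs ≫ X.residue s).hom a := by
  obtain ⟨t, rfl⟩ := X.residue_surjective s c
  haveI := hS0.isLocalization_stalk ⟨s, hs⟩
  letI := (X.presheaf.germ S0 s hs).hom.toAlgebra
  obtain ⟨⟨a, b⟩, h⟩ := IsLocalization.surj (hS0.primeIdealOf ⟨s, hs⟩).asIdeal.primeCompl t
  refine ⟨a, b, ?_, ?_⟩
  · exact (IsLocalization.map_units (X.presheaf.stalk s) b).map (X.residue s).hom
  · show X.residue s _ * X.residue s t = X.residue s _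
    rw [← map_mul, mul_comm]
    exact congrArg (X.residue s) h

theorem exists_frac_tensor {R A K : Type u} [CommRing R] [CommRing A] [CommRing K] [Algebra R A]
    [Algebra R K] (h : ∀ c : K, ∃ a b : R, IsUnit (algebraMap R K b) ∧
      algebraMap R K b * c = algebraMap R K a) (t : A ⊗[R] K) :
    ∃ a s : A, IsUnit (algebraMap A (A ⊗[R] K) s) ∧
      algebraMap A (A ⊗[R] K) s * t = algebraMap A (A ⊗[R] K) a := by
  have key : ∀ r : R, algebraMap A (A ⊗[R] K) (algebraMap R A r) = (1 : A) ⊗ₜ algebraMap R K r := by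
    intro r
    rw [Algebra.TensorProduct.algebraMap_apply, Algebra.algebraMap_self, RingHom.id_apply,
      Algebra.algebraMap_eq_smul_one, Algebra.algebraMap_eq_smul_one, TensorProduct.smul_tmul]
  induction t using TensorProduct.induction_on with
  | zero => exact ⟨0, 1, by rw [map_one]; exact isUnit_one, by simp⟩
  | tmul a c =>
    obtain ⟨r, r', hr', e⟩ := h c
    refine ⟨a * algebraMap R A r, algebraMap R A r', ?_, ?_⟩
    · rw [key]; exact hr'.map (Algebra.TensorProduct.includeRight : K →ₐ[R] A ⊗[R] K)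
    · rw [key, map_mul, key, Algebra.TensorProduct.algebraMap_apply, Algebra.algebraMap_self,
        RingHom.id_apply, Algebra.TensorProduct.tmul_mul_tmul, Algebra.TensorProduct.tmul_mul_tmul,
        one_mul, mul_one, e, one_mul]
  | add p q hp hq =>
    obtain ⟨a₁, s₁, h₁, e₁⟩ := hp
    obtain ⟨a₂, s₂, h₂, e₂⟩ := hq
    refine ⟨s₂ * a₁ + s₁ * a₂, s₁ * s₂, by rw [map_mul]; exact h₁.mul h₂, ?_⟩
    rw [map_add, map_mul, map_mul, map_mul, ← e₁, ← e₂]
    ring

theorem exists_lift {X S V : Scheme.{u}} (f : X ⟶ S) (s : S) (g : V ⟶ f.fiber s) [Etale g] (v : V) :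
    ∃ (U : Scheme.{u}) (p : U ⟶ X) (m : (p ≫ f).fiber s ⟶ V) (u' : ↑((p ≫ f).fiber s)),
      Etale p ∧ IsOpenImmersion m ∧ m ≫ g = MoreMor.fiberMap p f s ∧ m u' = v := by
  -- affine charts
  set x := f.fiberι s (g v) with hx
  have hfx : f x = s := by
    have : x ∈ Set.range (f.fiberι s) := ⟨g v, rfl⟩
    rwa [Scheme.Hom.range_fiberι] at this
  obtain ⟨S0, hS0, hsS0, -⟩ := exists_isAffineOpen_mem_and_subset (x := s) (U := ⊤) trivial
  obtain ⟨W, hW, hxW, hWS⟩ := exists_isAffineOpen_mem_and_subset (x := x) (U := f ⁻¹ᵁ S0)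
    (show f x ∈ S0 by rw [hfx]; exact hsS0)
  let R := Γ(S, S0)
  let A := Γ(X, W)
  let φ : R ⟶ A := f.appLE S0 W hWS
  let ψ : R ⟶ S.residueField s := S.presheaf.germ S0 s hsS0 ≫ S.residue s
  letI algA : Algebra R A := φ.hom.toAlgebra
  letI algK : Algebra R (S.residueField s) := ψ.hom.toAlgebra
  haveI : IsOpenImmersion hS0.fromSpec := hS0.isOpenImmersion_fromSpec
  haveI : IsOpenImmersion hW.fromSpec := hW.isOpenImmersion_fromSpec
  have hψ : Spec.map ψ ≫ hS0.fromSpec = S.fromSpecResidueField s := by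
    rw [Spec.map_comp, Category.assoc]
    exact congrArg (Spec.map (S.residue s) ≫ ·) (hS0.fromSpecStalk_eq_fromSpecStalk hsS0)
  have hφ : Spec.map φ ≫ hS0.fromSpec = hW.fromSpec ≫ f := IsAffineOpen.SpecMap_appLE_fromSpec f hS0 hW hWS
  let T := A ⊗[R] (S.residueField s : Type u)
  let a : Spec (CommRingCat.of T) ⟶ Spec A :=
    Spec.map (CommRingCat.ofHom Algebra.TensorProduct.includeLeftRingHom)
  let b : Spec (CommRingCat.of T) ⟶ Spec (S.residueField s) :=
    Spec.map (CommRingCat.ofHom (Algebra.TensorProduct.includeRight :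
      (S.residueField s : Type u) →ₐ[R] T).toRingHom)
  have sq0 : IsPullback a b (Spec.map φ) (Spec.map ψ) :=
    AlgebraicGeometry.isPullback_SpecMap_of_isPushout _ _ _ _
      (CommRingCat.isPushout_tensorProduct R A (S.residueField s))
  have sq1 : IsPullback a b (hW.fromSpec ≫ f) (S.fromSpecResidueField s) := by
    have h0 : IsPullback (𝟙 (Spec R)) (𝟙 (Spec R)) hS0.fromSpec hS0.fromSpec :=
      IsKernelPair.id_of_mono _
    have h1 : IsPullback (𝟙 (Spec A)) (Spec.map φ) (Spec.map φ) (𝟙 _) := IsPullback.of_id_fst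
    refine ⟨⟨?_⟩, ⟨PullbackCone.IsLimit.mk _ (fun c => sq0.lift c.fst c.snd ?_) ?_ ?_ ?_⟩⟩
    · rw [← hφ, ← hψ, ← Category.assoc, sq0.w, Category.assoc]
    · rw [← cancel_mono hS0.fromSpec, Category.assoc, Category.assoc, hφ, hψ]
      exact c.condition
    · intro c; exact sq0.lift_fst _ _ _
    · intro c; exact sq0.lift_snd _ _ _
    · intro c m h₁ h₂
      apply sq0.hom_ext
      · rw [sq0.lift_fst]; exact h₁
      · rw [sq0.lift_snd]; exact h₂
  let j : Spec (CommRingCat.of T) ⟶ f.fiber s :=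
    pullback.lift (a ≫ hW.fromSpec) b (by rw [Category.assoc]; exact sq1.w)
  have hj₁ : j ≫ f.fiberι s = a ≫ hW.fromSpec := pullback.lift_fst _ _ _
  have hj₂ : j ≫ f.fiberToSpecResidueField s = b := pullback.lift_snd _ _ _
  have sqj : IsPullback a j hW.fromSpec (f.fiberι s) :=
    IsPullback.of_bot (by rw [show j ≫ pullback.snd _ _ = b from hj₂]; exact sq1) hj₁.symm
      (IsPullback.of_hasPullback f (S.fromSpecResidueField s))
  haveI : IsOpenImmersion j := MorphismProperty.of_isPullback sqj inferInstance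
  have hgv : g v ∈ j.opensRange := by
    obtain ⟨w, hw⟩ : x ∈ Set.range hW.fromSpec := by rw [hW.range_fromSpec]; exact hxW
    obtain ⟨z, -, hz⟩ := Scheme.Pullback.exists_preimage_pullback (f := hW.fromSpec)
      (g := f.fiberι s) w (g v) hw
    refine ⟨sqj.isoPullback.inv z, ?_⟩
    rw [← hz, ← sqj.isoPullback_inv_snd]
    exact (Scheme.Hom.comp_apply _ _ z).symm
  obtain ⟨V0, hV0, hvV0, hV0j⟩ := exists_isAffineOpen_mem_and_subset (x := v)
    (U := g ⁻¹ᵁ j.opensRange) hgv
  let C := Γ(V, V0)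
  haveI : IsOpenImmersion hV0.fromSpec := hV0.isOpenImmersion_fromSpec
  have hrange : Set.range (hV0.fromSpec ≫ g) ⊆ Set.range j := by
    rintro _ ⟨z, rfl⟩
    have : hV0.fromSpec z ∈ (V0 : Set V) := by rw [← hV0.range_fromSpec]; exact ⟨z, rfl⟩
    rw [Scheme.Hom.comp_apply]
    exact hV0j this
  let g₀ : Spec C ⟶ Spec (CommRingCat.of T) := IsOpenImmersion.lift j (hV0.fromSpec ≫ g) hrange
  have hg₀ : g₀ ≫ j = hV0.fromSpec ≫ g := IsOpenImmersion.lift_fac _ _ _
  haveI : Etale g₀ := by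
    haveI : Etale (g₀ ≫ j) := by rw [hg₀]; infer_instance
    exact Etale.of_comp g₀ j
  let χ := Spec.preimage g₀
  have hχ : Spec.map χ = g₀ := Spec.map_preimage _
  have hχet : χ.hom.Etale := by
    haveI : Etale (Spec.map χ) := by rw [hχ]; infer_instance
    exact (HasRingHomProperty.Spec_iff (P := @Etale)).1 inferInstance
  letI : Algebra T C := χ.hom.toAlgebra
  haveI : Algebra.Etale T C := hχet
  obtain ⟨L, _, _, hL, ⟨e⟩⟩ := Groth.Agent.Lib.FibreEtale.Lift.exists_etale_lift (A := A) (T := T)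
    (fun t => exists_frac_tensor (exists_frac hS0 s hsS0) t) C
  let cL : A ⟶ CommRingCat.of L := CommRingCat.ofHom (algebraMap A L)
  let p : Spec (CommRingCat.of L) ⟶ X := Spec.map cL ≫ hW.fromSpec
  haveI : Etale (Spec.map cL) := by
    rw [HasRingHomProperty.Spec_iff (P := @Etale)]
    exact RingHom.etale_algebraMap.2 hL
  haveI : Etale p := inferInstance
  -- the fibre of `p ≫ f`
  let c₁ : Spec (CommRingCat.of (T ⊗[A] L)) ⟶ Spec (CommRingCat.of L) :=
    Spec.map (CommRingCat.ofHom (Algebra.TensorProduct.includeRight : L →ₐ[A] T ⊗[A] L).toRingHom)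
  let c₂ : Spec (CommRingCat.of (T ⊗[A] L)) ⟶ Spec (CommRingCat.of T) :=
    Spec.map (CommRingCat.ofHom Algebra.TensorProduct.includeLeftRingHom)
  have sq2 : IsPullback c₁ c₂ (Spec.map cL) a :=
    (AlgebraicGeometry.isPullback_SpecMap_of_isPushout _ _ _ _
      (CommRingCat.isPushout_tensorProduct A T L)).flip
  have sq3 : IsPullback c₁ (c₂ ≫ b) (p ≫ f) (S.fromSpecResidueField s) := by
    rw [Category.assoc]
    exact sq2.paste_vert sq1
  let E : Spec (CommRingCat.of (T ⊗[A] L)) ≅ (p ≫ f).fiber s := sq3.isoPullback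
  let eC : Spec (CommRingCat.of (T ⊗[A] L)) ≅ Spec C :=
    Scheme.Spec.mapIso e.toRingEquiv.toCommRingCatIso.symm.op
  have heC : eC.hom ≫ g₀ = c₂ := by
    show Spec.map _ ≫ g₀ = c₂
    rw [← hχ, ← Spec.map_comp]
    refine congrArg Spec.map (CommRingCat.hom_ext (RingHom.ext fun t => ?_))
    exact e.symm.commutes t
  let m : (p ≫ f).fiber s ⟶ V := E.inv ≫ eC.hom ≫ hV0.fromSpec
  haveI : IsOpenImmersion m := inferInstance
  obtain ⟨z, hz⟩ : v ∈ Set.range hV0.fromSpec := by rw [hV0.range_fromSpec]; exact hvV0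
  refine ⟨_, p, m, E.hom (eC.inv z), inferInstance, inferInstance, ?_, ?_⟩
  · have h4 : (eC.hom ≫ hV0.fromSpec) ≫ g = c₂ ≫ j := by
      rw [Category.assoc, ← hg₀, reassoc_of% heC]
    refine (Category.assoc _ _ _).trans ((Iso.inv_comp_eq E).2 (h4.trans ?_))
    apply pullback.hom_ext
    · refine (Category.assoc _ _ _).trans (Eq.trans ?_ (Category.assoc _ _ _).symm)
      refine (congrArg (c₂ ≫ ·) (show j ≫ pullback.fst f (S.fromSpecResidueField s) = _ from hj₁)).trans ?_
      show _ = E.hom ≫ MoreMor.fiberMap p f s ≫ pullback.fst _ _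
      refine Eq.trans ?_ (congrArg (E.hom ≫ ·) (pullback.lift_fst _ _ _).symm)
      show c₂ ≫ a ≫ hW.fromSpec = sq3.isoPullback.hom ≫ pullback.fst _ _ ≫ p
      rw [sq3.isoPullback_hom_fst_assoc, ← reassoc_of% sq2.w]
    · refine (Category.assoc _ _ _).trans (Eq.trans ?_ (Category.assoc _ _ _).symm)
      refine (congrArg (c₂ ≫ ·) (show j ≫ pullback.snd f (S.fromSpecResidueField s) = _ from hj₂)).trans ?_
      show _ = E.hom ≫ MoreMor.fiberMap p f s ≫ pullback.snd _ _
      refine Eq.trans ?_ (congrArg (E.hom ≫ ·) (pullback.lift_snd _ _ _).symm)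
      exact sq3.isoPullback_hom_snd.symm
  · rw [← hz, ← Scheme.Hom.comp_apply, ← Scheme.Hom.comp_apply]
    exact congrArg (fun q : Spec C ⟶ V => q z) (show eC.inv ≫ E.hom ≫ m = _ by simp [m])

end Aux

open AlgebraicGeometry CategoryTheory Limits in
/-- Let f : X ⟶ S be a morphism, x a point of X with image s, and (V, v) ⟶ (X_s, x) an étale
neighbourhood of x in its fibre. Then there is an étale neighbourhood (U, u) ⟶ (X, x) whose fibre
U_s over s admits a morphism of étale neighbourhoods (U_s, u) ⟶ (V, v) over X_s which is an open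
immersion. -/
theorem result {X S V : Scheme.{u}} (f : X ⟶ S) (x : X)
    (g : V ⟶ f.fiber (f x)) [Etale g] (v : V) (hv : g v = f.asFiber x) :
    ∃ (U : Scheme.{u}) (p : U ⟶ X) (u : U) (m : (p ≫ f).fiber (f x) ⟶ V) (u' : ↑((p ≫ f).fiber (f x))),
      Etale p ∧ p u = x ∧ IsOpenImmersion m ∧ m ≫ g = MoreMor.fiberMap p f (f x) ∧
      (p ≫ f).fiberι (f x) u' = u ∧ m u' = v := by
  obtain ⟨U, p, m, u', hp, hm, hmg, hu⟩ := exists_lift f (f x) g v
  refine ⟨U, p, (p ≫ f).fiberι (f x) u', m, u', hp, ?_, hm, hmg, rfl, hu⟩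
  have h1 : MoreMor.fiberMap p f (f x) u' = f.asFiber x := by
    rw [← hmg, Scheme.Hom.comp_apply, hu, hv]
  refine Eq.trans ?_ (f.fiberι_asFiber x)
  refine Eq.trans ?_ (congrArg _ h1)
  refine Eq.trans (Scheme.Hom.comp_apply _ _ u').symm (Eq.trans ?_ (Scheme.Hom.comp_apply _ _ u'))
  exact congrArg (fun q : (p ≫ f).fiber (f x) ⟶ X => q u') (pullback.lift_fst _ _ _).symm

end Groth.Agent.S9727
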