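import Groth.Statements.S9728
import Groth.Agent.Lib.Synt92.KRImm

set_option autoImplicit false
universe u
open FlatMor

namespace Groth.Agent.S9728

open AlgebraicGeometry CategoryTheory Limits in
/-- Given S-schemes U, P, P' with P and P' smooth over S, immersions i : U ⟶ P and i' : U ⟶ P'
compatible with the structure maps to S, and a point u of U, some restriction of i to an open
neighbourhood of u is a Koszul-regular immersion exactly when some restriction of i' to an open
neighbourhood of u is. -/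
theorem result {S U P P' : Scheme.{u}} (q : U ⟶ S)
    (p : P ⟶ S) (p' : P' ⟶ S) [Smooth p] [Smooth p'] (i : U ⟶ P) (i' : U ⟶ P') [IsImmersion i] [IsImmersion i']
    (hi : i ≫ p = q) (hi' : i' ≫ p' = q) (u : U) :
    (∃ V : U.Opens, u ∈ V ∧ RegImm.IsRegularImmersion RegImm.Kind.koszul (V.ι ≫ i)) ↔
      (∃ V : U.Opens, u ∈ V ∧ RegImm.IsRegularImmersion RegImm.Kind.koszul (V.ι ≫ i')) := by
  let k := pullback.lift i i' (hi.trans hi'.symm)
  haveI : IsImmersion (k ≫ pullback.fst p p') := by rw [pullback.lift_fst]; infer_instance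
  haveI : IsImmersion k := IsImmersion.of_comp k (pullback.fst p p')
  constructor
  · rintro ⟨V, hu, hV⟩
    refine ⟨V, hu, (Groth.Agent.Lib.Synt92.KRImm.isRegularImmersion_iff _).2 ⟨inferInstance, fun w => ?_⟩⟩
    exact Groth.Agent.Lib.Synt92.KRImm.exists_atN_of_above (V.ι ≫ i') (V.ι ≫ k) (pullback.snd p p')
      (by rw [Category.assoc, pullback.lift_snd]) w
      (Groth.Agent.Lib.Synt92.KRImm.exists_atN_of_below (V.ι ≫ i) (V.ι ≫ k) (pullback.fst p p')
        (by rw [Category.assoc, pullback.lift_fst]) w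
        (((Groth.Agent.Lib.Synt92.KRImm.isRegularImmersion_iff _).1 hV).2 w))
  · rintro ⟨V, hu, hV⟩
    refine ⟨V, hu, (Groth.Agent.Lib.Synt92.KRImm.isRegularImmersion_iff _).2 ⟨inferInstance, fun w => ?_⟩⟩
    exact Groth.Agent.Lib.Synt92.KRImm.exists_atN_of_above (V.ι ≫ i) (V.ι ≫ k) (pullback.fst p p')
      (by rw [Category.assoc, pullback.lift_fst]) w
      (Groth.Agent.Lib.Synt92.KRImm.exists_atN_of_below (V.ι ≫ i') (V.ι ≫ k) (pullback.snd p p')
        (by rw [Category.assoc, pullback.lift_snd]) w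
        (((Groth.Agent.Lib.Synt92.KRImm.isRegularImmersion_iff _).1 hV).2 w))

end Groth.Agent.S9728
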