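import Groth.Statements.S9733
import Groth.Agent.Lib.UnivThickAff.BaseChange

set_option autoImplicit false
universe u
open OmegaSh

namespace Groth.Agent.S9733

open AlgebraicGeometry CategoryTheory Limits in
/-- Let h : Z ⟶ X and f : Z ⟶ W make Z the fibre product of g : X ⟶ Y and a formally unramified h' : W ⟶
Y, and let (j : W ⟶ W', k : W' ⟶ Y) be universal first-order thickening data for h'. Then the map Z
⟶ X ×_Y W' with components h and f ≫ j, together with the first projection X ×_Y W' ⟶ X, is a
universal first-order thickening for h. The published statement also asserts that h is formally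
unramified and that the pullback along f of the conormal sheaf of W relative to Y surjects onto the
conormal sheaf of Z relative to X; this row states neither. -/
theorem result {Z X W Y W' : Scheme.{u}} (h : Z ⟶ X) (f : Z ⟶ W) (g : X ⟶ Y) (h' : W ⟶ Y)
    [FormallyUnramified h'] (hc : IsPullback h f g h') (j : W ⟶ W') (k : W' ⟶ Y) (hu : OmegaSh.IsUnivThickening h' j k) :
    OmegaSh.IsUnivThickening h (pullback.lift h (f ≫ j) (hc.w.trans (congrArg (f ≫ ·) hu.2.1).symm)) (pullback.fst g k) := by
  have hP := IsPullback.of_hasPullback g k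
  have hI : IsPullback f (pullback.lift h (f ≫ j) (hc.w.trans (congrArg (f ≫ ·) hu.2.1).symm)) j
      (pullback.snd g k) :=
    IsPullback.of_bot (by rw [pullback.lift_fst, hu.2.1]; exact hc.flip)
      (pullback.lift_snd _ _ _).symm hP.flip
  refine ⟨Groth.Agent.Lib.UnivThickAff.BaseChange.isFirstOrderThickening hI.flip hu.1,
    pullback.lift_fst _ _ _, fun T T' t b a ht w => ?_⟩
  obtain ⟨c, ⟨hc₁, hc₂⟩, hcu⟩ := hu.2.2 T T' t (b ≫ g) (a ≫ f) ht
    (by rw [reassoc_of% w, hc.w, Category.assoc])
  refine ⟨pullback.lift b c hc₂.symm, ⟨?_, pullback.lift_fst _ _ _⟩, ?_⟩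
  · apply pullback.hom_ext
    · rw [Category.assoc, Category.assoc, pullback.lift_fst, pullback.lift_fst]
      exact w
    · rw [Category.assoc, Category.assoc, pullback.lift_snd, pullback.lift_snd]
      exact hc₁
  · rintro l ⟨hl₁, hl₂⟩
    apply pullback.hom_ext
    · rw [pullback.lift_fst]; exact hl₂
    · rw [pullback.lift_snd]
      refine hcu _ ⟨?_, ?_⟩
      · rw [reassoc_of% hl₁, pullback.lift_snd, Category.assoc]
      · rw [Category.assoc, ← pullback.condition, reassoc_of% hl₂]

end Groth.Agent.S9733
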