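import Groth.Statements.S9736
import Groth.Agent.S9148
import Groth.Agent.Lib.Lim.SmoothEtale
import Mathlib.RingTheory.TensorProduct.Quotient
import Mathlib.RingTheory.TensorProduct.MvPolynomial
-- import your own Groth.Agent.* helpers here

set_option autoImplicit false
universe u
open FlatMor

namespace Groth.Agent.S9736

set_option backward.isDefEq.respectTransparency false

open MvPolynomial TensorProduct in
/-- Base change of a polynomial quotient. -/
noncomputable def baseChangeEquiv {R : Type u} [CommRing R] (A : Type u) [CommRing A] [Algebra R A]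
    {n : ℕ} (I : Ideal (MvPolynomial (Fin n) R)) :
    A ⊗[R] (MvPolynomial (Fin n) R ⧸ I) ≃ₐ[A]
      MvPolynomial (Fin n) A ⧸ I.map (MvPolynomial.map (algebraMap R A)) :=
  (Algebra.TensorProduct.tensorQuotientEquiv (R := R) A (MvPolynomial (Fin n) R) A I).trans
  (Ideal.quotientEquivAlg _ _ (algebraTensorAlgEquiv R A) (by
    have key : (algebraTensorAlgEquiv R A).toAlgHom.toRingHom.comp
        (Algebra.TensorProduct.includeRight (R := R) (A := A)
          (B := MvPolynomial (Fin n) R)).toRingHom = MvPolynomial.map (algebraMap R A) := by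
      ext x <;> simp
    rw [← key, ← Ideal.map_map]
    simp only [Ideal.map, AlgHom.toRingHom_eq_coe, RingHom.coe_coe]
    rfl))

open AlgebraicGeometry CategoryTheory Limits in
/-- Let f : X ⟶ S be a standard syntomic morphism of affine schemes. Then f is the base change of a
morphism of finite type f₀ : X₀ ⟶ S₀ between affine schemes with S₀ of finite type over ℤ and f₀
standard syntomic. -/
theorem result {X S : Scheme.{u}} (f : X ⟶ S) [IsAffine X] [IsAffine S] (hf : Synt.IsStandardSyntomic f) :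
    ∃ (X₀ S₀ : Scheme.{u}) (f₀ : X₀ ⟶ S₀) (g : S ⟶ S₀) (g' : X ⟶ X₀), IsAffine X₀ ∧ IsAffine S₀ ∧ IsPullback g' f f₀ g ∧
      Algebra.FiniteType ℤ Γ(S₀, ⊤) ∧ LocallyOfFiniteType f₀ ∧ Synt.IsStandardSyntomic f₀ := by
  obtain ⟨R, _, n, c, F, hF, e₁, e₂, he⟩ := hf
  obtain ⟨R₀, F₀, hft, hmap, hF₀⟩ := S9148.result R n c F hF
  let eA : TensorProduct R₀ R (Synt.RelGCIRing R₀ n c F₀) ≃ₐ[R] Synt.RelGCIRing R n c F :=
    (baseChangeEquiv R (Ideal.span (Set.range F₀))).trans
      (Ideal.quotientEquivAlg _ _ AlgEquiv.refl (by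
        rw [Ideal.map_span, ← Set.range_comp]
        simp only [Function.comp_def, hmap]
        exact (Ideal.map_id _).symm))
  obtain ⟨q, hq⟩ := Lib.Lim.SmoothEtale.isPullback_of_algEquiv eA.symm
  have hX : IsPullback (e₁.hom ≫ q) f
      (Spec.map (CommRingCat.ofHom (algebraMap R₀ (Synt.RelGCIRing R₀ n c F₀))))
      (e₂.hom ≫ Spec.map (CommRingCat.ofHom (algebraMap R₀ R))) :=
    hq.of_iso e₁.symm (Iso.refl _) e₂.symm (Iso.refl _) (by simp)
      ((cancel_mono e₂.hom).mp (by simp [← he]))
      (by simp) (by simp)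
  refine ⟨_, _, _, _, _, inferInstance, inferInstance, hX, ?_, ?_,
    R₀, inferInstance, n, c, F₀, hF₀, Iso.refl _, Iso.refl _, by simp⟩
  · exact (Algebra.FiniteType.equiv (B := Γ(Spec (CommRingCat.of R₀), ⊤)) hft
      ((Scheme.ΓSpecIso (CommRingCat.of R₀)).commRingCatIsoToRingEquiv.symm.toIntAlgEquiv) :)
  · rw [HasRingHomProperty.Spec_iff (P := @LocallyOfFiniteType)]
    exact RingHom.finiteType_algebraMap.mpr inferInstance

end Groth.Agent.S9736
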