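import Groth.Statements.S9737
import Groth.Agent.H19.FlatLocus.Model2
import Groth.Agent.H47.PairProp
import Groth.Agent.Lib.Lim.SmoothEtale
import Groth.Agent.H46.FibreDimNhd

set_option autoImplicit false
universe u
open FlatMor

namespace Groth.Agent.S9737

open AlgebraicGeometry CategoryTheory Limits Opposite

set_option backward.isDefEq.respectTransparency false
set_option maxHeartbeats 800000

attribute [local instance] ULift.algebra'

/-- A morphism to an affine scheme of finite type over `ℤ` comes from a subalgebra containing the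
image of its generators. -/
theorem exists_factor {S T : Scheme.{u}} [IsAffine S] [IsAffine T] (g : S ⟶ T)
    (A₀ : Subalgebra (ULift.{u} ℤ) Γ(S, ⊤)) (s : Finset Γ(T, ⊤))
    (hs : Algebra.adjoin ℤ (s : Set Γ(T, ⊤)) = ⊤) (hA : ∀ x ∈ s, g.appTop x ∈ A₀) :
    ∃ ρ : Spec (CommRingCat.of A₀) ⟶ T,
      S.isoSpec.hom ≫ Spec.map (CommRingCat.ofHom A₀.val.toRingHom) ≫ ρ = g := by
  have h : ∀ x, g.appTop.hom x ∈ A₀.toSubring := fun x ↦ by
    have hx : x ∈ Algebra.adjoin ℤ (s : Set Γ(T, ⊤)) := hs ▸ Algebra.mem_top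
    induction hx using Algebra.adjoin_induction with
    | mem x hx => exact hA x hx
    | algebraMap r => rw [eq_intCast, map_intCast]; exact intCast_mem _ r
    | add x y _ _ hx hy => rw [map_add]; exact add_mem hx hy
    | mul x y _ _ hx hy => rw [map_mul]; exact mul_mem hx hy
  refine ⟨Spec.map (CommRingCat.ofHom (g.appTop.hom.codRestrict A₀.toSubring h)) ≫ T.isoSpec.inv, ?_⟩
  rw [← Spec.map_comp_assoc, show CommRingCat.ofHom (g.appTop.hom.codRestrict A₀.toSubring h) ≫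
    CommRingCat.ofHom A₀.val.toRingHom = g.appTop from rfl, Scheme.isoSpec_inv_naturality,
    Iso.hom_inv_id_assoc]


open AlgebraicGeometry CategoryTheory Limits in
/-- Suppose P and Q are classes of morphisms of schemes preserved by arbitrary pullback, and f : X ⟶ S
is a finitely presented morphism of affine schemes. If f arises by pullback from a finite-type
morphism f₁ : X₁ ⟶ S₁ satisfying P, and also from a finite-type morphism f₂ : X₂ ⟶ S₂ satisfying Q,
where all four schemes are affine and Γ(S₁), Γ(S₂) are finitely generated ℤ-algebras, then f arises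
by pullback from a single finite-type morphism f₀ : X₀ ⟶ S₀ of affine schemes, with Γ(S₀) finitely
generated over ℤ, satisfying both P and Q. -/
theorem result (P Q : MorphismProperty Scheme.{u}) [P.IsStableUnderBaseChange] [Q.IsStableUnderBaseChange]
    {X S : Scheme.{u}} (f : X ⟶ S) [IsAffine X] [IsAffine S] [LocallyOfFinitePresentation f]
    {X₁ S₁ X₂ S₂ : Scheme.{u}} [IsAffine X₁] [IsAffine S₁] [IsAffine X₂] [IsAffine S₂]
    (f₁ : X₁ ⟶ S₁) (g₁ : S ⟶ S₁) (g₁' : X ⟶ X₁) (h₁ : IsPullback g₁' f f₁ g₁)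
    (f₂ : X₂ ⟶ S₂) (g₂ : S ⟶ S₂) (g₂' : X ⟶ X₂) (h₂ : IsPullback g₂' f f₂ g₂)
    (hS₁ : Algebra.FiniteType ℤ Γ(S₁, ⊤)) (hS₂ : Algebra.FiniteType ℤ Γ(S₂, ⊤))
    [LocallyOfFiniteType f₁] [LocallyOfFiniteType f₂] (hP : P f₁) (hQ : Q f₂) :
    ∃ (X₀ S₀ : Scheme.{u}) (f₀ : X₀ ⟶ S₀) (g : S ⟶ S₀) (g' : X ⟶ X₀), IsAffine X₀ ∧ IsAffine S₀ ∧ IsPullback g' f f₀ g ∧
      Algebra.FiniteType ℤ Γ(S₀, ⊤) ∧ LocallyOfFiniteType f₀ ∧ P f₀ ∧ Q f₀ := by
  classical
  obtain ⟨s₁, hs₁⟩ := hS₁.out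
  obtain ⟨s₂, hs₂⟩ := hS₂.out
  let s : Finset Γ(S, ⊤) := s₁.image g₁.appTop ∪ s₂.image g₂.appTop
  let i₀ : H47.PairProp.FGSub (ULift.{u} ℤ) Γ(S, ⊤) :=
    ⟨Algebra.adjoin _ (s : Set Γ(S, ⊤)), Subalgebra.fg_adjoin_finset s⟩
  obtain ⟨ρ₁, hρ₁⟩ := exists_factor g₁ i₀.1 s₁ hs₁ fun x hx ↦ Algebra.subset_adjoin
    (Finset.mem_union_left _ (Finset.mem_image_of_mem _ hx))
  obtain ⟨ρ₂, hρ₂⟩ := exists_factor g₂ i₀.1 s₂ hs₂ fun x hx ↦ Algebra.subset_adjoin
    (Finset.mem_union_right _ (Finset.mem_image_of_mem _ hx))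
  obtain ⟨hcol⟩ := H47.PairProp.nonempty_isColimit_subsCocone (ULift.{u} ℤ) Γ(S, ⊤)
  let F := H47.PairProp.subs (ULift.{u} ℤ) Γ(S, ⊤)
  let c := H47.SpecLimit.cone F (H47.PairProp.subsCocone (ULift.{u} ℤ) Γ(S, ⊤))
  have hc : IsLimit c := H47.SpecLimit.isLimitCone F _ hcol
  let π : c.pt ⟶ (H47.SpecLimit.diagram F).obj (op i₀) := c.π.app (op i₀)
  let p : X ⟶ c.pt := f ≫ S.isoSpec.hom
  have hN₁ : IsNoetherianRing Γ(S₁, ⊤) := Algebra.FiniteType.isNoetherianRing ℤ _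
  have hN₂ : IsNoetherianRing Γ(S₂, ⊤) := Algebra.FiniteType.isNoetherianRing ℤ _
  have : IsLocallyNoetherian S₁ := isLocallyNoetherian_of_isOpenImmersion S₁.isoSpec.hom
  have : IsLocallyNoetherian S₂ := isLocallyNoetherian_of_isOpenImmersion S₂.isoSpec.hom
  have := H46.FibreDimNhd.locallyOfFinitePresentation f₁
  have := H46.FibreDimNhd.locallyOfFinitePresentation f₂
  have big₁ : IsPullback g₁' p f₁ (π ≫ ρ₁) :=
    h₁.of_iso (Iso.refl _) (Iso.refl _) S.isoSpec (Iso.refl _) (by simp) (by simp [p]) (by simp)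
      (by simp only [Iso.refl_hom, Category.comp_id]; exact hρ₁.symm)
  have big₂ : IsPullback g₂' p f₂ (π ≫ ρ₂) :=
    h₂.of_iso (Iso.refl _) (Iso.refl _) S.isoSpec (Iso.refl _) (by simp) (by simp [p]) (by simp)
      (by simp only [Iso.refl_hom, Category.comp_id]; exact hρ₂.symm)
  let qT : X ⟶ pullback f₁ ρ₁ := pullback.lift g₁' (p ≫ π) (by rw [big₁.w]; exact (Category.assoc _ _ _).symm)
  let qY : X ⟶ pullback f₂ ρ₂ := pullback.lift g₂' (p ≫ π) (by rw [big₂.w]; exact (Category.assoc _ _ _).symm)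
  have hT : IsPullback qT p (pullback.snd f₁ ρ₁) π :=
    IsPullback.of_right (by rw [pullback.lift_fst]; exact big₁) (pullback.lift_snd _ _ _)
      (IsPullback.of_hasPullback f₁ ρ₁)
  have hY : IsPullback qY p (pullback.snd f₂ ρ₂) π :=
    IsPullback.of_right (by rw [pullback.lift_fst]; exact big₂) (pullback.lift_snd _ _ _)
      (IsPullback.of_hasPullback f₂ ρ₂)
  have : LocallyOfFinitePresentation (pullback.snd f₁ ρ₁) :=
    MorphismProperty.pullback_snd f₁ ρ₁ ‹_›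
  have : LocallyOfFinitePresentation (pullback.snd f₂ ρ₂) :=
    MorphismProperty.pullback_snd f₂ ρ₂ ‹_›
  obtain ⟨k, φ, e, he⟩ := Lib.Lim.SmoothEtale.exists_iso hc (op i₀) (pullback.snd f₁ ρ₁)
    (pullback.snd f₂ ρ₂) hT hY
  have hk := Lib.Lim.FPDescend.move hT φ
  let f₀ := pullback.snd (pullback.snd f₁ ρ₁) ((H47.SpecLimit.diagram F).map φ)
  have hk' : IsPullback _ f f₀ (S.isoSpec.hom ≫ c.π.app k) :=
    hk.of_iso (fst' := pullback.lift qT (p ≫ c.π.app k) (by rw [Category.assoc, c.w, hT.w]))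
      (Iso.refl _) (Iso.refl _) S.isoSpec.symm (Iso.refl _) (by simp) (by simp [p])
      (by simp [f₀]) (by simp)
  have : Algebra.FiniteType ℤ k.unop.1 :=
    have : Algebra.FiniteType (ULift.{u} ℤ) k.unop.1 := k.unop.1.fg_iff_finiteType.1 k.unop.2
    have : Algebra.FiniteType ℤ (ULift.{u} ℤ) := Algebra.FiniteType.of_surjective
      (ULift.ringEquiv.symm : ℤ ≃+* ULift.{u} ℤ).toRingHom.toIntAlgHom
      (ULift.ringEquiv.symm : ℤ ≃+* ULift.{u} ℤ).surjective
    Algebra.FiniteType.trans (R := ℤ) (S := ULift.{u} ℤ) (A := k.unop.1) inferInstance inferInstance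
  refine ⟨_, _, f₀, _, _, inferInstance, inferInstance, hk',
    H19.FlatLocus.Model.finiteType_int_Spec k.unop.1, ?_, ?_, ?_⟩
  · exact MorphismProperty.pullback_snd _ _ (MorphismProperty.pullback_snd _ _ ‹_›)
  · exact MorphismProperty.pullback_snd _ _ (MorphismProperty.pullback_snd _ _ hP)
  · rw [show f₀ = _ from he.symm, MorphismProperty.cancel_left_of_respectsIso (P := Q)]
    exact MorphismProperty.pullback_snd _ _ (MorphismProperty.pullback_snd _ _ hQ)

end Groth.Agent.S9737
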