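import Groth.Statements.S9740
import Groth.Agent.Lib.UnivThickAff.BaseChange

set_option autoImplicit false
universe u
open OmegaSh

namespace Groth.Agent.S9740

open AlgebraicGeometry CategoryTheory Limits in
/-- Let h : Z ⟶ X be formally unramified with universal first order thickening (i : Z ⟶ Z', h' : Z' ⟶
X), let V ⊆ Z and U ⊆ X be opens with h(V) ⊆ U, and let V' ⊆ Z' be the open with i⁻¹(V') = V (so
h'(V') ⊆ U). Then the restricted pair (V ⟶ V', V' ⟶ U) is a universal first-order thickening for the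
restriction V ⟶ U of h. The published statement also asserts that this restriction is formally
unramified and that the conormal sheaf of Z over X restricts on V to that of V over U; this row
states only the thickening part. -/
theorem result {Z Z' X : Scheme.{u}} (h : Z ⟶ X) [FormallyUnramified h] (i : Z ⟶ Z') (h' : Z' ⟶ X)
    (hu : OmegaSh.IsUnivThickening h i h') (V : Z.Opens) (U : X.Opens) (hVU : V ≤ h ⁻¹ᵁ U)
    (V' : Z'.Opens) (hV' : i ⁻¹ᵁ V' = V) (hV'U : V' ≤ h' ⁻¹ᵁ U) :
    OmegaSh.IsUnivThickening (h.resLE U V hVU) (i.resLE V' V hV'.ge) (h'.resLE U V' hV'U) := by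
  have hI : IsPullback (i.resLE V' V hV'.ge) V.ι V'.ι i := by
    subst hV'
    rw [Scheme.Hom.resLE_eq_morphismRestrict]
    exact isPullback_morphismRestrict i V'
  have hres : h.resLE U V hVU = i.resLE V' V hV'.ge ≫ h'.resLE U V' hV'U := by
    rw [← cancel_mono U.ι]
    simp [hu.2.1]
  refine ⟨Groth.Agent.Lib.UnivThickAff.BaseChange.isFirstOrderThickening hI hu.1, hres.symm,
    fun T T' t b a ht w => ?_⟩
  obtain ⟨c, ⟨hc₁, hc₂⟩, hcu⟩ := hu.2.2 T T' t (b ≫ U.ι) (a ≫ V.ι) ht
    (by rw [reassoc_of% w, Scheme.Hom.resLE_comp_ι, Category.assoc])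
  have hrange : Set.range c ⊆ Set.range V'.ι := by
    rintro _ ⟨p, rfl⟩
    haveI : Surjective t := ht.1.2
    obtain ⟨p, rfl⟩ := t.surjective p
    have hcp : c (t p) = i (V.ι (a p)) := by
      rw [← Scheme.Hom.comp_apply, hc₁]
      simp
    rw [hcp, Scheme.Opens.range_ι]
    exact hV'.ge (a p).2
  refine ⟨IsOpenImmersion.lift V'.ι c hrange, ⟨?_, ?_⟩, ?_⟩
  · rw [← cancel_mono V'.ι, Category.assoc, IsOpenImmersion.lift_fac, Category.assoc,
      Scheme.Hom.resLE_comp_ι, hc₁, Category.assoc]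
  · rw [← cancel_mono U.ι, Category.assoc, Scheme.Hom.resLE_comp_ι, IsOpenImmersion.lift_fac_assoc,
      hc₂]
  · rintro l ⟨hl₁, hl₂⟩
    rw [← cancel_mono V'.ι, IsOpenImmersion.lift_fac]
    refine hcu _ ⟨?_, ?_⟩
    · rw [reassoc_of% hl₁, Scheme.Hom.resLE_comp_ι, Category.assoc]
    · rw [Category.assoc, ← Scheme.Hom.resLE_comp_ι h' hV'U, reassoc_of% hl₂]

end Groth.Agent.S9740
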