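import Groth.Statements.S9741
import Groth.Agent.Lib.UnivThickAff.BaseChange

set_option autoImplicit false
universe u
open OmegaSh

namespace Groth.Agent.S9741

open AlgebraicGeometry CategoryTheory Limits in
/-- Let a : Z ⟶ Y and b : Y ⟶ X be formally unramified, let (i : Z ⟶ Z', c : Z' ⟶ X) be universal among
first order thickenings of Z relative to X (for a ≫ b), and (j : Y ⟶ Y', d : Y' ⟶ X) likewise for Y
relative to X (for b). Then there is a morphism of thickenings m : Z' ⟶ Y' over X (i ≫ m = a ≫ j and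
m ≫ d = c) such that Z ⟶ Y ×_{Y'} Z' (components a and i), together with the projection to Y, is
universal among first order thickenings of Z relative to Y (for a). The published statement also
asserts an exact sequence of conormal sheaves; this row states only the thickening assertion. -/
theorem result {Z Y X Z' Y' : Scheme.{u}} (a : Z ⟶ Y) (b : Y ⟶ X)
    [FormallyUnramified a] [FormallyUnramified b] (i : Z ⟶ Z') (c : Z' ⟶ X) (hZ : OmegaSh.IsUnivThickening (a ≫ b) i c)
    (j : Y ⟶ Y') (d : Y' ⟶ X) (hY : OmegaSh.IsUnivThickening b j d) :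
    ∃ (m : Z' ⟶ Y') (hm : i ≫ m = a ≫ j), m ≫ d = c ∧
      OmegaSh.IsUnivThickening a (pullback.lift a i hm.symm) (pullback.fst j m) := by
  obtain ⟨m, ⟨hm, hmd⟩, -⟩ := hY.2.2 _ _ i c a hZ.1 hZ.2.1
  haveI : IsClosedImmersion j := hY.1.1.1
  have hsnd : IsClosedImmersion (pullback.snd j m) := inferInstance
  have hI : IsPullback (pullback.lift a i hm.symm) (𝟙 Z) (pullback.snd j m) i := by
    refine IsPullback.of_isLimit' ⟨by rw [pullback.lift_snd, Category.id_comp]⟩ (PullbackCone.IsLimit.mk _ (fun s => s.snd)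
      (fun s => ?_) (fun s => by simp) (fun s l _ h₂ => by simpa using h₂))
    rw [← cancel_mono (pullback.snd j m), Category.assoc, pullback.lift_snd]
    exact s.condition.symm
  refine ⟨m, hm, hmd, Groth.Agent.Lib.UnivThickAff.BaseChange.isFirstOrderThickening hI hZ.1,
    pullback.lift_fst _ _ _, fun T T' t β α ht w => ?_⟩
  obtain ⟨e, ⟨he₁, he₂⟩, heu⟩ := hZ.2.2 T T' t (β ≫ b) α ht
    (by rw [reassoc_of% w])
  obtain ⟨e', -, heu'⟩ := hY.2.2 T T' t (β ≫ b) (α ≫ a) ht
    (by rw [reassoc_of% w, Category.assoc])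
  have heq : β ≫ j = e ≫ m := (heu' (β ≫ j) ⟨by rw [reassoc_of% w, Category.assoc],
      by rw [Category.assoc, hY.2.1]⟩).trans
    (heu' (e ≫ m) ⟨by rw [reassoc_of% he₁, hm, Category.assoc],
      by rw [Category.assoc, hmd, he₂]⟩).symm
  refine ⟨pullback.lift β e heq, ⟨?_, pullback.lift_fst _ _ _⟩, ?_⟩
  · apply pullback.hom_ext
    · rw [Category.assoc, Category.assoc, pullback.lift_fst, pullback.lift_fst]
      exact w
    · rw [Category.assoc, Category.assoc, pullback.lift_snd, pullback.lift_snd]
      exact he₁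
  · rintro l ⟨hl₁, hl₂⟩
    apply pullback.hom_ext
    · rw [pullback.lift_fst]; exact hl₂
    · rw [pullback.lift_snd]
      refine heu _ ⟨?_, ?_⟩
      · rw [reassoc_of% hl₁, pullback.lift_snd]
      · rw [← hl₂, Category.assoc, Category.assoc]
        congr 1
        rw [← hmd, ← pullback.condition_assoc, hY.2.1]

end Groth.Agent.S9741
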