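import Groth.Statements.S9743
import Groth.Agent.H56.RelFP.Modules

set_option autoImplicit false
universe u
open Flatn

namespace Groth.Agent.S9743

open AlgebraicGeometry CategoryTheory Limits in
/-- Suppose π : X ⟶ Y is finite, g : Y ⟶ S is locally of finite type, and F is a quasi-coherent
O_X-module. Then F is relatively finitely presented over S via π ≫ g exactly when the direct image
π_*F is relatively finitely presented over S via g. -/
theorem result {X Y S : Scheme.{u}} (π : X ⟶ Y) (g : Y ⟶ S) [IsFinite π] [LocallyOfFiniteType g]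
    (F : X.Modules) [Coh.IsQCoh F] : Flatn.IsRelFP (π ≫ g) F ↔ Flatn.IsRelFP g ((Coh.push π).obj F) := by
  have : (Scheme.Modules.pushforward π).obj F |>.IsQuasicoherent :=
    Groth.Agent.Lib.QCoh.Pushforward.isQCoh_pushforward π (M := F)
  constructor
  · intro hF
    refine Groth.Agent.H56.RelFP.Scheme.isRelFP_of_forall_exists g _ fun y => ?_
    obtain ⟨V, hV, hy, -⟩ := exists_isAffineOpen_mem_and_subset (U := (⊤ : S.Opens)) (x := g y) trivial
    obtain ⟨W, hW, hyW, hWV⟩ := exists_isAffineOpen_mem_and_subset (U := g ⁻¹ᵁ V) (x := y) hy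
    have h : π ⁻¹ᵁ W ≤ (π ≫ g) ⁻¹ᵁ V := fun z hz => hWV hz
    exact ⟨⟨W, hW⟩, ⟨V, hV⟩, hWV, hyW,
      (Groth.Agent.H56.RelFP.Modules.relFPOn_push_iff π g F ⟨W, hW⟩ ⟨V, hV⟩ hWV h).1
        (Groth.Agent.H56.RelFP.Scheme.relFPOn_of_isRelFP (π ≫ g) F hF
          ⟨π ⁻¹ᵁ W, hW.preimage π⟩ ⟨V, hV⟩ h)⟩
  · intro hF
    refine Groth.Agent.H56.RelFP.Scheme.isRelFP_of_forall_exists (π ≫ g) F fun x => ?_
    obtain ⟨W, V, hWV, hxW, hW⟩ := Groth.Agent.H56.RelFP.Scheme.exists_mem g hF (π x)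
    have h : π ⁻¹ᵁ (W : Y.Opens) ≤ (π ≫ g) ⁻¹ᵁ (V : S.Opens) := fun z hz => hWV hz
    exact ⟨⟨_, W.2.preimage π⟩, V, h, hxW,
      (Groth.Agent.H56.RelFP.Modules.relFPOn_push_iff π g F W V hWV h).2 hW⟩

end Groth.Agent.S9743
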