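import Groth.Statements.S9744
import Groth.Agent.H56.RelFP.Modules

set_option autoImplicit false
universe u
open Flatn

namespace Groth.Agent.S9744

open AlgebraicGeometry CategoryTheory Limits in
/-- Let f : X ⟶ S be locally of finite type and F a quasi-coherent O_X-module of finite presentation
relative to S. For a base change f' : X' ⟶ S' of f along S' ⟶ S with projection g' : X' ⟶ X, the
pullback (g')^*F is of finite presentation relative to S'. -/
theorem result {X S X' S' : Scheme.{u}} (f : X ⟶ S) [LocallyOfFiniteType f] (F : X.Modules) [Coh.IsQCoh F]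
    (g : S' ⟶ S) (f' : X' ⟶ S') (g' : X' ⟶ X) (hc : IsPullback g' f' f g) (hF : Flatn.IsRelFP f F) :
    Flatn.IsRelFP f' ((Scheme.Modules.pullback g').obj F) := by
  have := Groth.Agent.Lib.QCoh.Pullback.isQCoh_pullback g' F
  refine Groth.Agent.H56.RelFP.Scheme.isRelFP_of_forall_exists f' _ fun x => ?_
  have hx : f (g' x) = g (f' x) := by
    rw [← Scheme.Hom.comp_apply, hc.w, Scheme.Hom.comp_apply]
  obtain ⟨V, hV, hxV, -⟩ :=
    exists_isAffineOpen_mem_and_subset (U := (⊤ : S.Opens)) (x := g (f' x)) trivial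
  obtain ⟨W, hW, hxW, hWV⟩ := exists_isAffineOpen_mem_and_subset (U := g ⁻¹ᵁ V) (x := f' x) hxV
  obtain ⟨U, hU, hxU, hUV⟩ := exists_isAffineOpen_mem_and_subset (U := f ⁻¹ᵁ V) (x := g' x)
    (show f (g' x) ∈ V from hx ▸ hxV)
  have hU' : IsAffineOpen (g' ⁻¹ᵁ U ⊓ f' ⁻¹ᵁ W) := by
    have : IsAffine _ := hV
    have : IsAffine _ := hW
    have : IsAffine _ := hU
    exact .of_isIso (Scheme.Hom.isPullback_resLE hc hWV hUV rfl).isoPullback.hom
  exact ⟨⟨_, hU'⟩, ⟨W, hW⟩, inf_le_right, ⟨hxU, hxW⟩,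
    Groth.Agent.H56.RelFP.Modules.relFPOn_baseChange hc F ⟨U, hU⟩ ⟨V, hV⟩ ⟨W, hW⟩ ⟨_, hU'⟩ hUV hWV
      rfl inf_le_right (Groth.Agent.H56.RelFP.Scheme.relFPOn_of_isRelFP f F hF ⟨U, hU⟩ ⟨V, hV⟩ hUV)⟩

end Groth.Agent.S9744
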