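import Groth.Statements.S9745
import Groth.Agent.H56.RelFP.Modules

set_option autoImplicit false
universe u
open Flatn

namespace Groth.Agent.S9745

open AlgebraicGeometry CategoryTheory Limits in
/-- Let f : X ⟶ Y be locally of finite presentation and g : Y ⟶ S locally of finite type, and let G be a
quasi-coherent O_Y-module that is finitely presented relative to S. Then the pullback f^*G is
finitely presented relative to S along f ≫ g. -/
theorem result {X Y S : Scheme.{u}} (f : X ⟶ Y) (g : Y ⟶ S) [LocallyOfFinitePresentation f] [LocallyOfFiniteType g]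
    (G : Y.Modules) [Coh.IsQCoh G] (hG : Flatn.IsRelFP g G) : Flatn.IsRelFP (f ≫ g) ((Scheme.Modules.pullback f).obj G) := by
  have := Groth.Agent.Lib.QCoh.Pullback.isQCoh_pullback f G
  refine Groth.Agent.H56.RelFP.Scheme.isRelFP_of_forall_exists (f ≫ g) _ fun x => ?_
  obtain ⟨W, V, hWV, hxW, hW⟩ := Groth.Agent.H56.RelFP.Scheme.exists_mem g hG (f x)
  obtain ⟨U, hU, hxU, hUW⟩ :=
    exists_isAffineOpen_mem_and_subset (U := f ⁻¹ᵁ (W : Y.Opens)) (x := x) hxW
  have h : U ≤ (f ≫ g) ⁻¹ᵁ (V : S.Opens) := fun z hz => hWV (hUW hz)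
  exact ⟨⟨U, hU⟩, V, h, hxU,
    Groth.Agent.H56.RelFP.Modules.relFPOn_pullback f g G ⟨U, hU⟩ W V hUW hWV h hW⟩

end Groth.Agent.S9745
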