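import Groth.Statements.S9746
import Groth.Agent.H56.RelFP.Modules

set_option autoImplicit false
universe u
open Flatn

namespace Groth.Agent.S9746

open AlgebraicGeometry CategoryTheory Limits in
/-- Let f : X ⟶ Y be locally of finite type, g : Y ⟶ S locally of finite presentation, and F a
quasi-coherent O_X-module that is finitely presented relative to Y. Then F, viewed over S through
the composite f ≫ g, is finitely presented relative to S. -/
theorem result {X Y S : Scheme.{u}} (f : X ⟶ Y) (g : Y ⟶ S) [LocallyOfFiniteType f] [LocallyOfFinitePresentation g]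
    (F : X.Modules) [Coh.IsQCoh F] (hF : Flatn.IsRelFP f F) : Flatn.IsRelFP (f ≫ g) F := by
  refine Groth.Agent.H56.RelFP.Scheme.isRelFP_of_forall_exists (f ≫ g) _ fun x => ?_
  obtain ⟨V, hV, hxV, -⟩ := exists_isAffineOpen_mem_and_subset (U := (⊤ : S.Opens)) (x := g (f x)) trivial
  obtain ⟨W, hW, hxW, hWV⟩ := exists_isAffineOpen_mem_and_subset (U := g ⁻¹ᵁ V) (x := f x) hxV
  obtain ⟨U, hU, hxU, hUW⟩ := exists_isAffineOpen_mem_and_subset (U := f ⁻¹ᵁ W) (x := x) hxW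
  have h : U ≤ (f ≫ g) ⁻¹ᵁ V := fun z hz => hWV (hUW hz)
  exact ⟨⟨U, hU⟩, ⟨V, hV⟩, h, hxU,
    Groth.Agent.H56.RelFP.Scheme.relFPOn_comp g f F ⟨U, hU⟩ ⟨W, hW⟩ ⟨V, hV⟩ hUW hWV h
      (Groth.Agent.H56.RelFP.Scheme.relFPOn_of_isRelFP f F hF ⟨U, hU⟩ ⟨W, hW⟩ hUW)⟩

end Groth.Agent.S9746
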