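import Groth.Statements.S9749
import Groth.Agent.H56.RelFP.Modules

set_option autoImplicit false
universe u
open Flatn

namespace Groth.Agent.S9749

open AlgebraicGeometry CategoryTheory Limits in
/-- For f : X ⟶ S locally of finite type and quasi-coherent O_X-modules F, F', relative finite
presentation over S of the biproduct F ⊞ F' implies the same property for each summand. -/
theorem result {X S : Scheme.{u}} (f : X ⟶ S) [LocallyOfFiniteType f] (F F' : X.Modules) [Coh.IsQCoh F] [Coh.IsQCoh F']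
    (h : Flatn.IsRelFP f (F ⊞ F')) : Flatn.IsRelFP f F ∧ Flatn.IsRelFP f F' := by
  obtain ⟨h₁, h₂⟩ : (∀ x : X, ∃ (U : X.affineOpens) (V : S.affineOpens)
      (e : (U : X.Opens) ≤ f ⁻¹ᵁ (V : S.Opens)), x ∈ (U : X.Opens) ∧ Flatn.RelFPOn f F U V e) ∧
    (∀ x : X, ∃ (U : X.affineOpens) (V : S.affineOpens)
      (e : (U : X.Opens) ≤ f ⁻¹ᵁ (V : S.Opens)), x ∈ (U : X.Opens) ∧ Flatn.RelFPOn f F' U V e) := by
    constructor <;> intro x <;>
      obtain ⟨U, V, e, hx, hU⟩ := Groth.Agent.H56.RelFP.Scheme.exists_mem f h x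
    · exact ⟨U, V, e, hx, Groth.Agent.H56.RelFP.Modules.relFPOn_retract f biprod.inl biprod.fst
        biprod.inl_fst U V e hU⟩
    · exact ⟨U, V, e, hx, Groth.Agent.H56.RelFP.Modules.relFPOn_retract f biprod.inr biprod.snd
        biprod.inr_snd U V e hU⟩
  exact ⟨Groth.Agent.H56.RelFP.Scheme.isRelFP_of_forall_exists f F h₁,
    Groth.Agent.H56.RelFP.Scheme.isRelFP_of_forall_exists f F' h₂⟩

end Groth.Agent.S9749
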