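import Groth.Statements.S9750
import Groth.Agent.S1516
import Groth.Agent.Lib.UnivThickAff.Basic
import Groth.Agent.Lib.Conormal92.Affine
import Groth.Agent.Lib.Modules.AffineSections
-- import your own Groth.Agent.* helpers here

set_option autoImplicit false
universe u
open FlatMor

namespace Groth.Agent.S9750

set_option linter.style.haveILetI false

open Groth.Agent.Lib CategoryTheory CategoryTheory.Limits AlgebraicGeometry

theorem isFirstOrderThickening_id (X : Scheme.{u}) : MoreMor.IsFirstOrderThickening (𝟙 X) :=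
  ⟨⟨inferInstance, inferInstance⟩, by
    have h : (𝟙 X : X ⟶ X).ker = ⊥ := by simp
    rw [h]
    refine le_bot_iff.mp fun U => ?_
    simp [Scheme.IdealSheafData.ideal_mul, Scheme.IdealSheafData.ideal_bot]⟩

theorem isUnivThickening_self {X S : Scheme.{u}} (f : X ⟶ S) (hf : MoreMor.IsFormallyEtaleHom f) :
    OmegaSh.IsUnivThickening f (𝟙 X) f :=
  ⟨isFirstOrderThickening_id X, Category.id_comp _, fun T T' j b a hj w => by
    simpa using S1516.result f hf j hj a b w⟩

theorem formallyUnramified_of_isFormallyEtaleHom {X S : Scheme.{u}} (f : X ⟶ S)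
    (hf : MoreMor.IsFormallyEtaleHom f) : FormallyUnramified f :=
  FormallyUnramified.of_hom_ext f fun R B φ hφ hk g₁ g₂ h₁ h₂ => by
    have ht := UnivThickAff.isFirstOrderThickening_specMap φ hφ fun x y hx hy => by
      have h : x * y ∈ RingHom.ker φ.hom ^ 2 := by
        rw [pow_two]; exact Ideal.mul_mem_mul hx hy
      rwa [hk] at h
    obtain ⟨l, -, hl⟩ := S1516.result f hf (Spec.map φ) ht (Spec.map φ ≫ g₁) (g₁ ≫ f)
      (Category.assoc _ _ _).symm
    exact (hl g₁ ⟨rfl, rfl⟩).trans (hl g₂ ⟨h₁.symm, h₂.symm⟩).symm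

theorem isFormallyEtaleHom_of_isUnivThickening {X S : Scheme.{u}} (f : X ⟶ S)
    (h : OmegaSh.IsUnivThickening f (𝟙 X) f) : MoreMor.IsFormallyEtaleHom f := by
  intro A _ I hI a b w
  have ht := UnivThickAff.isFirstOrderThickening_specMap (CommRingCat.ofHom (Ideal.Quotient.mk I))
    Ideal.Quotient.mk_surjective fun x y hx hy => by
      have h : x * y ∈ I ^ 2 := by
        rw [pow_two]
        exact Ideal.mul_mem_mul (Ideal.Quotient.eq_zero_iff_mem.mp hx) (Ideal.Quotient.eq_zero_iff_mem.mp hy)
      rwa [hI] at h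
  simpa using h.2.2 _ _ _ b a ht w

theorem ker_eq_bot_iff_isZero {X X' : Scheme.{u}} (i : X ⟶ X') [IsClosedImmersion i] [QuasiCompact i]
    (hsq : i.ker * i.ker = ⊥) : i.ker = ⊥ ↔ IsZero (Omega.conormal i) := by
  haveI := Conormal92.Affine.isQCoh_conormal i
  constructor
  · intro hb
    refine Modules.AffineSections.isZero_of_sections (M := Omega.conormal i) fun z => ?_
    obtain ⟨V, hV, hzV, -⟩ := exists_isAffineOpen_mem_and_subset (x := i z) (U := ⊤) trivial
    have hch := Conormal92.Affine.isChart_of_closed (i := i) hV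
    refine ⟨i ⁻¹ᵁ V, hch.affine_preimage, hzV, subsingleton_of_forall_eq 0 fun t => ?_⟩
    obtain ⟨k, rfl⟩ := (Conormal92.Affine.conormalSect_spec hch).1 t
    refine ((Conormal92.Affine.conormalSect_spec hch).2 k).2 ?_
    have hk := (Conormal92.Affine.exists_idealSect_iff hV _).1 ⟨k, rfl⟩
    have h0 : RingHom.ker (i.app V).hom = ⊥ := by
      rw [← Scheme.Hom.ker_apply i ⟨V, hV⟩, hb]
      rfl
    rw [h0, Ideal.mem_bot] at hk
    rw [hk]
    exact zero_mem _
  · intro hz
    refine le_bot_iff.mp fun U x hx => ?_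
    have hch := Conormal92.Affine.isChart_of_closed (i := i) U.2
    rw [Scheme.Hom.ker_apply] at hx
    obtain ⟨k, rfl⟩ := (Conormal92.Affine.exists_idealSect_iff U.2 x).2 hx
    haveI := Modules.AffineSections.subsingleton_sections hz (i ⁻¹ᵁ U.1)
    have h2 := ((Conormal92.Affine.conormalSect_spec hch).2 k).1 (Subsingleton.elim _ _)
    have h3 : RingHom.ker (i.app U.1).hom ^ 2 = ⊥ := by
      rw [pow_two, ← Scheme.Hom.ker_apply i U, ← Pi.mul_apply, ← Scheme.IdealSheafData.ideal_mul, hsq]
      rfl
    rw [h3] at h2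
    exact h2

open AlgebraicGeometry CategoryTheory Limits in
/-- (1) ⇔ (2) ⇔ (3): a morphism f : X ⟶ S is formally étale (unique infinitesimal lifting against
square-zero thickenings of affine schemes) if and only if f is formally unramified and X, through
the identity and f, is its own universal square-zero (first order) thickening relative to f; and,
for f formally unramified with universal first order thickening data (i : X ⟶ X', h' : X' ⟶ S), f is
formally étale if and only if the conormal sheaf of i (the conormal sheaf of f) is zero. The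
published statement also lists a fourth equivalent condition, the vanishing of both the sheaf of
differentials and the conormal sheaf; this row omits it. -/
theorem result {X S : Scheme.{u}} (f : X ⟶ S) :
    (MoreMor.IsFormallyEtaleHom f ↔ FormallyUnramified f ∧ OmegaSh.IsUnivThickening f (𝟙 X) f) ∧
    (∀ {X' : Scheme.{u}} (i : X ⟶ X') (h' : X' ⟶ S) [QuasiCompact i], FormallyUnramified f →
      OmegaSh.IsUnivThickening f i h' → (MoreMor.IsFormallyEtaleHom f ↔ IsZero (Omega.conormal i))) := by
  refine ⟨⟨fun hf => ⟨formallyUnramified_of_isFormallyEtaleHom f hf, isUnivThickening_self f hf⟩,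
    fun h => isFormallyEtaleHom_of_isUnivThickening f h.2⟩, fun {X'} i h' _ hfu hu => ?_⟩
  obtain ⟨⟨⟨hci, hsur⟩, hsq⟩, hfac, huniv⟩ := hu
  haveI := hci
  rw [← ker_eq_bot_iff_isZero i hsq]
  constructor
  · intro hf
    obtain ⟨r, ⟨hr1, hr2⟩, -⟩ := S1516.result f hf i ⟨⟨hci, hsur⟩, hsq⟩ (𝟙 X) h'
      (by rw [Category.id_comp, hfac])
    obtain ⟨a', -, ha⟩ := huniv X X' i h' (𝟙 X) ⟨⟨hci, hsur⟩, hsq⟩ (by rw [Category.id_comp, hfac])
    have e : r ≫ i = 𝟙 X' :=
      (ha _ ⟨by rw [reassoc_of% hr1, Category.id_comp], by rw [Category.assoc, hfac, hr2]⟩).trans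
        (ha _ ⟨by rw [Category.comp_id, Category.id_comp], Category.id_comp _⟩).symm
    haveI : IsIso i := ⟨r, hr1, e⟩
    simp
  · intro hb
    haveI : IsIso i := by
      rw [← i.toImage_imageι]
      haveI : IsIso i.ker.subschemeι := by rw [hb]; infer_instance
      haveI : IsIso i.imageι := this
      infer_instance
    refine isFormallyEtaleHom_of_isUnivThickening f ⟨isFirstOrderThickening_id X, Category.id_comp _,
      fun T T' j b a hj w => ?_⟩
    obtain ⟨a', ⟨h1, h2⟩, h3⟩ := huniv T T' j b a hj w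
    refine ⟨a' ≫ inv i, ⟨by rw [reassoc_of% h1, IsIso.hom_inv_id], ?_⟩, fun y hy => ?_⟩
    · rw [Category.assoc, show inv i ≫ f = h' by rw [← hfac, IsIso.inv_hom_id_assoc], h2]
    · rw [← h3 (y ≫ i) ⟨by rw [← Category.assoc, hy.1, Category.comp_id],
        by rw [Category.assoc, hfac, hy.2]⟩, Category.assoc, IsIso.hom_inv_id, Category.comp_id]

end Groth.Agent.S9750
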