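import Groth.Statements.S9752
import Groth.Agent.Lib.Unram.BranchNbhd

set_option autoImplicit false
universe u
open Brnch

namespace Groth.Agent.S9752

open AlgebraicGeometry CategoryTheory Limits in
/-- For a point x of a scheme X, the branch count of X at x (in ℕ∞) is the least upper bound, taken over
all elementary étale neighbourhoods (U, u) → (X, x) (g : U ⟶ X étale with g u = x and trivial
residue field extension), of how many irreducible components of U contain u. -/
theorem result (X : Scheme.{u}) (x : X) :
    Brnch.numBranchesAt X x = ⨆ (U : Scheme.{u}) (g : U ⟶ X) (u : U) (_ : Hens2.IsEtaleNbhd g u x),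
      {Z : Set ↑U | Z ∈ irreducibleComponents ↑U ∧ u ∈ Z}.encard := by
  exact Groth.Agent.Lib.Unram.BranchNbhd.numBranchesAt_eq x

end Groth.Agent.S9752
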