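import Groth.Statements.S9756
import Groth.Agent.Lib.Flat55.SlicingScheme
import Groth.Agent.H46.FiberStalk

set_option autoImplicit false
universe u
open FlatMor

namespace Groth.Agent.S9756

open AlgebraicGeometry CategoryTheory Limits in
/-- Let f : X ⟶ S be locally of finite presentation and flat at a point x, and assume the local ring of
the fibre X_{f x} at x has depth at least 1. Then there are an affine open U ∋ x and a
nonzerodivisor h' of Γ(X, U) vanishing at x such that the closed subscheme V(h') of U, an effective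
Cartier divisor through x, is flat and locally of finite presentation over S. The published
statement concludes that V(h') ⟶ S is of finite presentation; this row concludes only that it is
flat and locally of finite presentation, which is what the published argument (slicing by a lift of
a fibrewise nonzerodivisor) yields, and which is equivalent when S is quasi-separated, V(h') being
affine. -/
theorem result {X S : Scheme.{u}} (f : X ⟶ S) [LocallyOfFinitePresentation f] (x : X)
    (hflat : (f.stalkMap x).hom.Flat)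
    (hdepth : 1 ≤ LocCoh.depth ↑((f.fiber (f x)).presheaf.stalk (f.asFiber x)) ↑((f.fiber (f x)).presheaf.stalk (f.asFiber x))) :
    ∃ (U : X.Opens) (hU : IsAffineOpen U) (hx : x ∈ U) (h' : Γ(X, U)), h' ∈ nonZeroDivisors Γ(X, U) ∧
      X.presheaf.germ U x hx h' ∈ IsLocalRing.maximalIdeal ↑(X.presheaf.stalk x) ∧
      Flat (Spec.map (CommRingCat.ofHom (Ideal.Quotient.mk (Ideal.span {h'}))) ≫ hU.fromSpec ≫ f) ∧
      LocallyOfFinitePresentation (Spec.map (CommRingCat.ofHom (Ideal.Quotient.mk (Ideal.span {h'}))) ≫ hU.fromSpec ≫ f) := by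
  set A := ↑((f.fiber (f x)).presheaf.stalk (f.asFiber x))
  obtain ⟨r, hr, hrm⟩ : ∃ r : A, IsSMulRegular A r ∧ r ∈ IsLocalRing.maximalIdeal A := by
    have hne : IsLocalRing.maximalIdeal A • (⊤ : Submodule A A) ≠ ⊤ := by
      rw [smul_eq_mul, Ideal.mul_top]; exact (IsLocalRing.maximalIdeal.isMaximal A).ne_top
    rw [LocCoh.depth, LocCoh.idealDepth, if_neg hne] at hdepth
    have h0 : (0 : ℕ∞) < ⨆ (rs : List A) (_ : RingTheory.Sequence.IsWeaklyRegular A rs ∧
        ∀ r ∈ rs, r ∈ IsLocalRing.maximalIdeal A), (rs.length : ℕ∞) := lt_of_lt_of_le zero_lt_one hdepth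
    simp only [lt_iSup_iff] at h0
    obtain ⟨rs, ⟨h1, h2⟩, hlen⟩ := h0
    cases rs with
    | nil => simp at hlen
    | cons r rs =>
      exact ⟨r, ((RingTheory.Sequence.isWeaklyRegular_cons_iff A r rs).1 h1).1, h2 r (List.mem_cons_self ..)⟩
  obtain ⟨φ, hφ, hker⟩ := Groth.Agent.H46.FiberStalk.exists_surjective_stalk f (f x) (f.asFiber x) x
    (f.fiberι_asFiber x)
  obtain ⟨h, rfl⟩ := hφ r
  have hm : h ∈ IsLocalRing.maximalIdeal (X.presheaf.stalk x) := fun hu ↦ hrm (hu.map φ)
  have hreg : Ideal.Quotient.mk (Ideal.map (f.stalkMap x).hom (IsLocalRing.maximalIdeal (S.presheaf.stalk (f x)))) h ∈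
      nonZeroDivisors (X.presheaf.stalk x ⧸ Ideal.map (f.stalkMap x).hom (IsLocalRing.maximalIdeal (S.presheaf.stalk (f x)))) := by
    refine mem_nonZeroDivisors_iff_right.2 fun z hz ↦ ?_
    obtain ⟨z, rfl⟩ := Ideal.Quotient.mk_surjective z
    rw [← map_mul, Ideal.Quotient.eq_zero_iff_mem, ← hker, RingHom.mem_ker, map_mul, mul_comm] at hz
    rw [Ideal.Quotient.eq_zero_iff_mem, ← hker, RingHom.mem_ker]
    exact hr (show φ h • φ z = φ h • 0 by rw [smul_eq_mul, hz, smul_zero])
  obtain ⟨U, hU, hx, h', hgerm, hnzd, hfl, hfp⟩ :=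
    Groth.Agent.Lib.Flat55.SlicingScheme.exists_slice f x hflat h hm hreg
  exact ⟨U, hU, hx, h', hnzd, by rw [hgerm]; exact hm, hfl, hfp⟩

end Groth.Agent.S9756
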