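import Groth.Statements.S9761
import Groth.Agent.H19.FlatLocus.ModelMod

set_option autoImplicit false
universe u
open FlatMor

namespace Groth.Agent.S9761

open AlgebraicGeometry CategoryTheory Limits in
/-- For a finitely presented morphism f : X ⟶ S of affine schemes and a quasi-coherent, finitely
presented O_X-module F that is flat over S, f is the base change along some g' : X ⟶ X₀ of a finite
type morphism f₀ : X₀ ⟶ S₀ of affine schemes with S₀ of finite type over ℤ, and some coherent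
O_{X₀}-module F₀, flat over S₀, satisfies g'^*F₀ ≅ F. -/
theorem result {X S : Scheme.{u}} (f : X ⟶ S) [IsAffine X] [IsAffine S] [LocallyOfFinitePresentation f]
    (F : X.Modules) [Coh.IsQCoh F] (hF : CohB1.IsFP F) (hfl : FlatMod.IsFlatOver f F) :
    ∃ (X₀ S₀ : Scheme.{u}) (f₀ : X₀ ⟶ S₀) (g : S ⟶ S₀) (g' : X ⟶ X₀), IsAffine X₀ ∧ IsAffine S₀ ∧ IsPullback g' f f₀ g ∧
      Algebra.FiniteType ℤ Γ(S₀, ⊤) ∧ LocallyOfFiniteType f₀ ∧
      ∃ F₀ : X₀.Modules, Coh.IsCoh F₀ ∧ FlatMod.IsFlatOver f₀ F₀ ∧ Nonempty ((Scheme.Modules.pullback g').obj F₀ ≅ F) := by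
  obtain ⟨X₀, S₀, f₀, g, g', h1, h2, h3, h4, h5, F₀, h6, hf₀, h7⟩ :=
    Groth.Agent.H19.FlatLocus.ModelMod.exists_scheme_model f F hF
  exact ⟨X₀, S₀, f₀, g, g', h1, h2, h3, h4, h5, F₀, h6, hf₀ hfl, h7⟩

end Groth.Agent.S9761
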