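import Groth.Statements.S9770
import Groth.Agent.H69.UOpenStage.Main
import Groth.Agent.Lib.Lim.QuasiFinite
-- import your own Groth.Agent.* helpers here

set_option autoImplicit false
universe u
open CategoryTheory AlgebraicGeometry
open FlatMor

namespace Groth.Agent.S9770
open CategoryTheory CategoryTheory.Limits
set_option backward.isDefEq.respectTransparency false

/-- Let S = lim S_i be a cofiltered limit of schemes with affine transition morphisms, i₀ an index with
S_{i₀} quasi-compact and quasi-separated, and f₀ : X₀ ⟶ Y₀ a morphism of schemes over S_{i₀} with X₀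
and Y₀ quasi-compact and quasi-separated and f₀ locally of finite presentation. Write f : X ⟶ Y for
the pullback of f₀ along S ⟶ S_{i₀} (all base changes given by pullback squares). Assuming f is
universally open and locally quasi-finite (with locally of finite type, as the book's notion
includes), there is a stage S_i over S_{i₀} where the pulled-back morphism f_i : X_i ⟶ Y_i already
has both properties. -/
theorem result {I : Type u} [SmallCategory I] [IsCofiltered I]
    (D : I ⥤ Scheme.{u}) (c : Limits.Cone D) (hc : Limits.IsLimit c)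
    [∀ (i j : I) (φ : i ⟶ j), IsAffineHom (D.map φ)] (i₀ : I) [CompactSpace (D.obj i₀)] [QuasiSeparatedSpace (D.obj i₀)]
    {X₀ Y₀ : Scheme.{u}} (f₀ : X₀ ⟶ Y₀) (g₀ : Y₀ ⟶ D.obj i₀) [CompactSpace X₀] [QuasiSeparatedSpace X₀]
    [CompactSpace Y₀] [QuasiSeparatedSpace Y₀] [LocallyOfFinitePresentation f₀]
    {X Y : Scheme.{u}} (f : X ⟶ Y) (g : Y ⟶ c.pt) (qY : Y ⟶ Y₀) (qX : X ⟶ X₀)
    (hY : IsPullback qY g g₀ (c.π.app i₀)) (hX : IsPullback qX f f₀ qY)
    [LocallyQuasiFinite f] [LocallyOfFiniteType f] [UniversallyOpen f] :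
    ∃ (i : I) (φ : i ⟶ i₀) (Xi Yi : Scheme.{u}) (fi : Xi ⟶ Yi) (gi : Yi ⟶ D.obj i) (pY : Yi ⟶ Y₀) (pX : Xi ⟶ X₀),
      IsPullback pY gi g₀ (D.map φ) ∧ IsPullback pX fi f₀ pY ∧ LocallyQuasiFinite fi ∧ LocallyOfFiniteType fi ∧ UniversallyOpen fi := by
  classical
  have : ∀ {i j : I} (φ : i ⟶ j), IsAffineHom (D.map φ) := fun φ => inferInstance
  obtain ⟨i₁, φ₁, X₁, Y₁, f₁, g₁, pY₁, pX₁, hY₁, hX₁, hlqf⟩ :=
    Groth.Agent.Lib.Lim.Descend.descend_over Groth.Agent.Lib.Lim.QuasiFinite.locallyQuasiFinite_descends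
      D c hc i₀ f₀ g₀ f g qY qX hY hX inferInstance ‹LocallyQuasiFinite f›
  have hlfp : LocallyOfFinitePresentation f₁ := MorphismProperty.of_isPullback hX₁ inferInstance
  have : IsAffineHom pY₁ := MorphismProperty.of_isPullback hY₁.flip (inferInstanceAs (IsAffineHom (D.map φ₁)))
  have : IsAffineHom pX₁ := MorphismProperty.of_isPullback hX₁.flip ‹IsAffineHom pY₁›
  have : CompactSpace Y₁ := QuasiCompact.compactSpace_of_compactSpace pY₁
  have : CompactSpace X₁ := QuasiCompact.compactSpace_of_compactSpace pX₁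
  have : QuasiSeparatedSpace Y₁ := quasiSeparatedSpace_of_quasiSeparated pY₁
  have : QuasiSeparatedSpace X₁ := quasiSeparatedSpace_of_quasiSeparated pX₁
  have : CompactSpace (D.obj i₁) := QuasiCompact.compactSpace_of_compactSpace (D.map φ₁)
  have : QuasiSeparatedSpace (D.obj i₁) := quasiSeparatedSpace_of_quasiSeparated (D.map φ₁)
  let π₁ : c.pt ⟶ D.obj i₁ := c.π.app i₁
  let qY₁ : Y ⟶ Y₁ := hY₁.lift qY (g ≫ π₁) (by
    rw [Category.assoc, hY.w, show π₁ ≫ D.map φ₁ = c.π.app i₀ from c.w φ₁])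
  have hY' : IsPullback qY₁ g g₁ (c.π.app i₁) := by
    refine IsPullback.of_right ?_ (hY₁.lift_snd _ _ _) hY₁
    rw [hY₁.lift_fst, c.w]
    exact hY
  let qX₁ : X ⟶ X₁ := hX₁.lift qX (f ≫ qY₁) (by rw [Category.assoc, hY₁.lift_fst, hX.w])
  have hX' : IsPullback qX₁ f f₁ qY₁ := by
    refine IsPullback.of_right ?_ (hX₁.lift_snd _ _ _) hX₁
    rw [hX₁.lift_fst, hY₁.lift_fst]
    exact hX
  obtain ⟨j, hj⟩ := Groth.Agent.H69.UOpenStage.Main.exists_universallyOpen_stage f₁ g₁ hc hY' hX'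
  have hsq := Groth.Agent.H69.UOpenStage.Main.isPullback_stageHom f₁ g₁ j
  refine ⟨j.left, j.hom ≫ φ₁, _, _, Groth.Agent.H69.UOpenStage.Main.stageHom f₁ g₁ j,
    pullback.snd g₁ (D.map j.hom), pullback.fst g₁ (D.map j.hom) ≫ pY₁,
    pullback.fst (f₁ ≫ g₁) (D.map j.hom) ≫ pX₁, ?_, hsq.paste_horiz hX₁, ?_, ?_, hj⟩
  · rw [D.map_comp]
    exact (IsPullback.of_hasPullback g₁ (D.map j.hom)).paste_horiz hY₁
  · exact MorphismProperty.of_isPullback hsq hlqf
  · exact MorphismProperty.of_isPullback hsq (inferInstanceAs (LocallyOfFiniteType f₁))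

end Groth.Agent.S9770
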