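import Groth.Statements.S9771
import Groth.Agent.H54.FormalEtaleLocal
import Groth.Agent.H54.FlatUnramified
-- import your own Groth.Agent.* helpers here

set_option autoImplicit false
universe u
open FlatMor

namespace Groth.Agent.S9771

open AlgebraicGeometry CategoryTheory Limits in
/-- An unramified (formally unramified and locally of finite type) flat morphism of schemes is formally
étale. (When the morphism is moreover locally of finite presentation this is the statement that flat
unramified morphisms are étale; the content here is the case without finite presentation.) -/
theorem result {X S : Scheme.{u}} (f : X ⟶ S)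
    [Flat f] [FormallyUnramified f] [LocallyOfFiniteType f] : MoreMor.IsFormallyEtaleHom f := by
  rw [Groth.Agent.H54.FormalEtaleLocal.iff_affineLocally]
  intro U V hU hV hUV
  have h1 : (f.appLE V U hUV).hom.FormallyUnramified := f.formallyUnramified_appLE hV hU hUV
  have h2 : (f.appLE V U hUV).hom.FiniteType := f.finiteType_appLE hV hU hUV
  have h3 : (f.appLE V U hUV).hom.Flat := f.flat_appLE hV hU hUV
  algebraize [(f.appLE V U hUV).hom]
  exact Groth.Agent.H54.FlatUnramified.formallyEtale_of_flat _ _

end Groth.Agent.S9771
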