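import Groth.Statements.S9776
import Groth.Agent.Lib.Kaehler.BaseChange

set_option autoImplicit false
universe u
open OmegaSh

namespace Groth.Agent.S9776

open AlgebraicGeometry CategoryTheory Limits in
/-- Consider a commutative square of schemes with vertical maps p₁ : X₁ ⟶ S₁, p₂ : X₂ ⟶ S₂ and
horizontal maps f : X₂ ⟶ X₁, g : S₂ ⟶ S₁, where f and g are étale. Let d₁ : O_{X₁} → Ω₁ and d₂ :
O_{X₂} → Ω₂ be universal derivations over S₁ and S₂ (sheaves of differentials) and c : f^*Ω₁ ⟶ Ω₂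
the O_{X₂}-linear map compatible with d₁ and d₂ (the canonical map c_f). Then c is an isomorphism. -/
theorem result {X₁ S₁ X₂ S₂ : Scheme.{u}} (p₁ : X₁ ⟶ S₁) (p₂ : X₂ ⟶ S₂) (f : X₂ ⟶ X₁) (g : S₂ ⟶ S₁)
    [Etale f] [Etale g] (hsq : f ≫ p₁ = p₂ ≫ g)
    (Ω₁ : X₁.Modules) (d₁ : OmegaSh.Der p₁ Ω₁) (hd₁ : OmegaSh.IsUniversal d₁)
    (Ω₂ : X₂.Modules) (d₂ : OmegaSh.Der p₂ Ω₂) (hd₂ : OmegaSh.IsUniversal d₂)
    (c : (Scheme.Modules.pullback f).obj Ω₁ ⟶ Ω₂) (hc : OmegaSh.IsDiffCompat f d₁ d₂ c) : IsIso c := by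
  exact Lib.Kaehler.BaseChange.isIso_of_etale hsq.symm hd₁ hd₂ c hc

end Groth.Agent.S9776
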