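import Groth.Statements.S9778
import Groth.Agent.H56.Split

set_option autoImplicit false
universe u
open FlatMor

namespace Groth.Agent.S9778

open AlgebraicGeometry CategoryTheory Limits in
/-- Let f : X ⟶ S be separated and locally of finite type, s a point of S and x_1, …, x_n pairwise
distinct points of X over s at which f is quasi-finite (isolated points of the fibre). Then there
are an étale morphism g : U ⟶ S with a point u over s and finitely many pairwise disjoint open and
closed subschemes V_{i,j} of X_U = X ×_S U, each finite over U and containing exactly one point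
v_{i,j} over u, with v_{i,j} mapping to x_i and κ(v_{i,j}) purely inseparable over κ(u), such that
every point of X_U over u mapping to some x_i lies in one of the V_{i,j} (so the open and closed
complement W of their union has no point over u mapping to any x_i). -/
theorem result {X S : Scheme.{u}} (f : X ⟶ S) [LocallyOfFiniteType f] [IsSeparated f] (s : S)
    {ι : Type} [Finite ι] (x : ι → ↑X) (hinj : Function.Injective x) (hs : ∀ i, f (x i) = s) (hx : ∀ i, f.QuasiFiniteAt (x i)) :
    ∃ (U : Scheme.{u}) (g : U ⟶ S) (u : U), Etale g ∧ g u = s ∧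
      ∃ (J : ι → Type) (_ : ∀ i, Finite (J i)) (V : ∀ i, J i → (pullback f g).Opens) (v : ∀ i, J i → ↑(pullback f g)),
        (∀ i j, IsClopen ((V i j : Set ↑(pullback f g)))) ∧
        (∀ i j i' j', ((V i j : Set ↑(pullback f g)) ∩ (V i' j')).Nonempty → i = i' ∧ HEq j j') ∧
        (∀ i j, v i j ∈ V i j ∧ IsFinite ((V i j).ι ≫ pullback.snd f g) ∧ pullback.snd f g (v i j) = u ∧
          (∀ w : ↑(pullback f g), w ∈ V i j → pullback.snd f g w = u → w = v i j) ∧
          (letI := ((pullback.snd f g).residueFieldMap (v i j)).hom.toAlgebra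
           IsPurelyInseparable ↑(U.residueField (pullback.snd f g (v i j))) ↑((pullback f g).residueField (v i j))) ∧
          pullback.fst f g (v i j) = x i) ∧
        (∀ (w : ↑(pullback f g)) (i : ι), pullback.snd f g w = u → pullback.fst f g w = x i → ∃ j, w ∈ V i j) := by
  classical
  obtain ⟨U, g, u, hg, hu, hfinP, hP⟩ := H56.Split.exists_split f s x hs hx
  let P : ι → Set ↑(pullback f g) := fun i =>
    {w | pullback.snd f g w = u ∧ pullback.fst f g w = x i}
  have hPfin : ∀ i, (P i).Finite := fun i => hfinP.subset fun w hw => ⟨hw.1, i, hw.2⟩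
  have hex : ∀ i, ∃ n, Nonempty (P i ≃ Fin n) := fun i => by
    have := (hPfin i).to_subtype
    exact Finite.exists_equiv_fin _
  choose n en using hex
  let e := fun i => (en i).some
  let v : ∀ i, Fin (n i) → ↑(pullback f g) := fun i j => ((e i).symm j).1
  have hv : ∀ i j, pullback.snd f g (v i j) = u ∧ pullback.fst f g (v i j) = x i :=
    fun i j => ((e i).symm j).2
  have hvinj : ∀ i j i' j', v i j = v i' j' → i = i' ∧ HEq j j' := by
    intro i j i' j' h
    obtain rfl : i = i' := hinj (by rw [← (hv i j).2, ← (hv i' j').2, h])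
    exact ⟨rfl, heq_of_eq ((e i).symm.injective (Subtype.ext h))⟩
  have hvsurj : ∀ w i, pullback.snd f g w = u → pullback.fst f g w = x i → ∃ j, w = v i j :=
    fun w i h h' => ⟨e i ⟨w, h, h'⟩, by simp [v]⟩
  choose V hV using fun i j => (hP (v i j) (hv i j).1 ⟨i, (hv i j).2⟩).1
  have hcl : ∀ i j, IsClopen (V i j : Set ↑(pullback f g)) := fun i j => by
    refine ⟨?_, (V i j).2⟩
    have := (hV i j).2.1
    have : IsFinite (V i j).ι := IsFinite.of_comp (V i j).ι (pullback.snd f g)
    have h := (V i j).ι.isClosedMap.isClosed_range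
    rwa [Scheme.Opens.range_ι] at h
  let J := Σ i, Fin (n i)
  let W : J → Set ↑(pullback f g) := fun a =>
    (V a.1 a.2 : Set _) \ ⋃ b ∈ ({a}ᶜ : Set J), (V b.1 b.2 : Set _)
  have hW : ∀ a, IsClopen (W a) := fun a =>
    (hcl a.1 a.2).diff ((Set.toFinite _).isClopen_biUnion fun b _ => hcl b.1 b.2)
  let V' : ∀ i, Fin (n i) → (pullback f g).Opens := fun i j => ⟨W ⟨i, j⟩, (hW ⟨i, j⟩).isOpen⟩
  have hle : ∀ i j, V' i j ≤ V i j := fun i j => Set.diff_subset
  have hmem : ∀ i j, v i j ∈ V' i j := by
    refine fun i j => ⟨(hV i j).1, fun h => ?_⟩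
    obtain ⟨⟨i', j'⟩, hne, hb⟩ := Set.mem_iUnion₂.mp h
    obtain ⟨rfl, hj⟩ := hvinj i j i' j' ((hV i' j').2.2 _ hb (hv i j).1)
    exact hne (by rw [eq_of_heq hj]; rfl)
  refine ⟨U, g, u, hg, hu, fun i => Fin (n i), fun _ => inferInstance, V', v,
    fun i j => hW ⟨i, j⟩, ?_, fun i j => ⟨hmem i j, ?_, (hv i j).1,
      fun w hw => (hV i j).2.2 w (hle i j hw),
      (hP (v i j) (hv i j).1 ⟨i, (hv i j).2⟩).2.2, (hv i j).2⟩, fun w i h h' => ?_⟩
  · rintro i j i' j' ⟨w, hw, hw'⟩
    by_contra hne
    refine hw.2 (Set.mem_biUnion (x := (⟨i', j'⟩ : J)) ?_ (hle i' j' hw'))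
    intro heq
    exact hne (Sigma.mk.inj_iff.mp (Set.mem_singleton_iff.mp heq).symm)
  · have := (hV i j).2.1
    have hr : IsClosedImmersion ((pullback f g).homOfLE (hle i j)) := by
      refine IsClosedImmersion.of_isPreimmersion _ ?_
      have h : Set.range ((pullback f g).homOfLE (hle i j)) =
          (V i j).ι ⁻¹' (V' i j : Set _) := by
        rw [← Scheme.Opens.range_ι (V' i j)]
        ext z
        constructor
        · rintro ⟨a, rfl⟩
          exact ⟨a, by rw [← Scheme.Hom.comp_apply, Scheme.homOfLE_ι]⟩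
        · rintro ⟨a, ha⟩
          exact ⟨a, (V i j).ι.isOpenEmbedding.injective
            (by rw [← Scheme.Hom.comp_apply, Scheme.homOfLE_ι, ha])⟩
      rw [h]
      exact (hW ⟨i, j⟩).isClosed.preimage (V i j).ι.continuous
    rw [← Scheme.homOfLE_ι _ (hle i j), Category.assoc]
    infer_instance
  · obtain ⟨j, rfl⟩ := hvsurj w i h h'
    exact ⟨j, hmem i j⟩

end Groth.Agent.S9778
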