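import Groth.Statements.S9779
import Groth.Agent.Lib.QFCurve.Basic

set_option autoImplicit false
universe u
open FlatMor

namespace Groth.Agent.S9779

open AlgebraicGeometry CategoryTheory Limits in
/-- Suppose S is locally Noetherian and the morphism f : X ⟶ S is locally of finite type; take x a point
of X closed in its fibre, and U ⊆ X an open subscheme not meeting the fibre through x but with x in
the closure of U. Then there is a closed subscheme Z of X passing through x such that Z ⟶ S is
quasi-finite at x and Z contains a point z of U specializing to x with f z ≠ f x. -/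
theorem result {X S : Scheme.{u}} (f : X ⟶ S) [LocallyOfFiniteType f] [IsLocallyNoetherian S] (x : X)
    (hcl : IsClosed (Subtype.val ⁻¹' {x} : Set ↑(f ⁻¹' {f x}))) (U : X.Opens)
    (hU : ∀ x' ∈ U, f x' ≠ f x) (hxU : x ∈ closure (U : Set ↑X)) :
    ∃ (I : X.IdealSheafData) (z₀ x₀ : ↑I.subscheme), I.subschemeι x₀ = x ∧ (I.subschemeι ≫ f).QuasiFiniteAt x₀ ∧
      I.subschemeι z₀ ∈ U ∧ I.subschemeι z₀ ⤳ x ∧ f (I.subschemeι z₀) ≠ f x := by
  have := LocallyOfFiniteType.isLocallyNoetherian f
  obtain ⟨V, hV, hxV, -⟩ := exists_isAffineOpen_mem_and_subset (x := x) (U := ⊤) trivial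
  have : IsAffine V.toScheme := hV
  have : IsLocallyNoetherian V.toScheme := LocallyOfFiniteType.isLocallyNoetherian V.ι
  have : IsNoetherian V.toScheme := {}
  have : TopologicalSpace.NoetherianSpace V.toScheme := inferInstance
  have hmem : (⟨x, hxV⟩ : V.toScheme) ∈ closure (V.ι ⁻¹' (U : Set ↑X)) := by
    rw [← V.ι.isOpenEmbedding.isOpenMap.preimage_closure_eq_closure_preimage V.ι.continuous]
    exact hxU
  obtain ⟨w, y, hwx, hyU, hwy, -⟩ :=
    Groth.Agent.Lib.QFCurve.exists_specializes_of_mem_closure (V := V.toScheme) hmem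
  have hwU : V.ι w ∈ U := (hwy.map V.ι.continuous).mem_open U.2 hyU
  exact Groth.Agent.Lib.QFCurve.exists_quasiFiniteAt_closure f x hcl U (V.ι w) hwU
    (hwx.map V.ι.continuous) (hU _ hwU)

end Groth.Agent.S9779
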