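import Groth.Statements.S9780
import Groth.Agent.Lib.RelAss.BaseChange

set_option autoImplicit false
universe u
open FlatMor

namespace Groth.Agent.S9780

open AlgebraicGeometry CategoryTheory Limits in
/-- Let f : X ⟶ S be locally of finite type, F a quasi-coherent O_X-module of finite type and U ⊆ X an
open subscheme. For a base change f' : X' ⟶ S' of f along S' ⟶ S with projection g' : X' ⟶ X, F' =
(g')^*F and U' = (g')⁻¹(U), and a point s' of S' with image s: the associated points of F on the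
fibre X_s lie in U if and only if the associated points of F' on the fibre X'_{s'} lie in U'. -/
theorem result {X S X' S' : Scheme.{u}} (f : X ⟶ S) [LocallyOfFiniteType f] (F : X.Modules) [Coh.IsQCoh F]
    (hF : CohB1.IsFT F) (U : X.Opens) (g : S' ⟶ S) (f' : X' ⟶ S') (g' : X' ⟶ X) (hc : IsPullback g' f' f g) (s' : S') :
    {x : ↑X | x ∈ MoreMor.relAss f F ∧ f x = g s'} ⊆ (U : Set ↑X) ↔
      {x' : ↑X' | x' ∈ MoreMor.relAss f' ((Scheme.Modules.pullback g').obj F) ∧ f' x' = s'} ⊆ (g' ⁻¹ᵁ U : Set ↑X') := by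
  haveI : F.IsQuasicoherent := ‹Coh.IsQCoh F›
  have hw : ∀ y, f (g' y) = g (f' y) := fun y => by rw [← Scheme.Hom.comp_apply, hc.w, Scheme.Hom.comp_apply]
  refine ⟨fun h x' hx' => h ⟨Lib.RelAss.BaseChange.mem_relAss_of_baseChange hc F hx'.1, by rw [hw, hx'.2]⟩,
    fun h x hx => ?_⟩
  obtain ⟨x', hx', hs, hxx⟩ := Lib.RelAss.BaseChange.exists_relAss_over hc F hx.1 hx.2
  exact hxx ▸ h ⟨hx', hs⟩

end Groth.Agent.S9780
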