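import Groth.Statements.S9783
import Groth.Agent.Lib.UnivThickAff.DiffIso

set_option autoImplicit false
universe u
open OmegaSh

namespace Groth.Agent.S9783

open AlgebraicGeometry CategoryTheory Limits in
/-- Let q : X ⟶ S be a morphism, h : Z ⟶ X formally unramified, and (i : Z ⟶ Z', h' : Z' ⟶ X) the
universal first order thickening attached to h. Let d_X : O_X → Ω_X be a universal S-derivation,
d_{Z'} : O_{Z'} → Ω_{Z'} a universal S-derivation for Z' over S via h' ≫ q, and c : (h')^*Ω_X ⟶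
Ω_{Z'} the O_{Z'}-linear map compatible with them (the canonical map c_{h'}). Then the pullback of c
along i, a map h^*Ω_X ⟶ Ω_{Z'} ⊗ O_Z, is an isomorphism. -/
theorem result {Z X S Z' : Scheme.{u}} (h : Z ⟶ X) (q : X ⟶ S) [FormallyUnramified h]
    (i : Z ⟶ Z') (h' : Z' ⟶ X) (hu : OmegaSh.IsUnivThickening h i h')
    (ΩX : X.Modules) (dX : OmegaSh.Der q ΩX) (hdX : OmegaSh.IsUniversal dX)
    (ΩZ' : Z'.Modules) (dZ' : OmegaSh.Der (h' ≫ q) ΩZ') (hdZ' : OmegaSh.IsUniversal dZ')
    (c : (Scheme.Modules.pullback h').obj ΩX ⟶ ΩZ') (hc : OmegaSh.IsDiffCompat h' dX dZ' c) :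
    IsIso ((Scheme.Modules.pullback i).map c) := by
  exact Groth.Agent.Lib.UnivThickAff.DiffIso.isIso hu hdX hdZ' hc

end Groth.Agent.S9783
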