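import Groth.Statements.S9784
import Groth.Agent.Lib.UnivThickAff.Transitivity

set_option autoImplicit false
universe u
open OmegaSh

namespace Groth.Agent.S9784

open AlgebraicGeometry CategoryTheory Limits in
/-- Let i : Z ⟶ Y and b : Y ⟶ X be formally unramified, let (i' : Z ⟶ Z', c) be a first order thickening
over X that is universal for i ≫ b, (j : Y ⟶ Y', d) one universal for b, m : Z' ⟶ Y' the morphism of
thickenings over X compatible with i, (i'' : Z ⟶ Z'', e) a first order thickening over Y that is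
universal for i, and n : Z'' ⟶ Z' the morphism of thickenings over X extending the identity of Z.
Let ψ₁ : i^*C_{Y/Y'} ⟶ C_{Z/Z'} and ψ₂ : C_{Z/Z'} ⟶ C_{Z/Z''} be the canonical maps of conormal
sheaves induced by (i, m) and (id, n). These are the conormal sheaves C_{Y/X}, C_{Z/X}, C_{Z/Y} of
the formally unramified morphisms and the canonical maps between them. Then the sequence i^*C_{Y/X}
⟶ C_{Z/X} ⟶ C_{Z/Y} ⟶ 0 they form is exact. -/
theorem result {Z Y X Z' Y' Z'' : Scheme.{u}} (i : Z ⟶ Y) (b : Y ⟶ X)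
    [FormallyUnramified i] [FormallyUnramified b]
    (i' : Z ⟶ Z') (c : Z' ⟶ X) (hZ' : OmegaSh.IsUnivThickening (i ≫ b) i' c)
    (j : Y ⟶ Y') (d : Y' ⟶ X) (hY' : OmegaSh.IsUnivThickening b j d)
    (m : Z' ⟶ Y') (hm₁ : i' ≫ m = i ≫ j) (hm₂ : m ≫ d = c)
    (i'' : Z ⟶ Z'') (e : Z'' ⟶ Y) (hZ'' : OmegaSh.IsUnivThickening i i'' e)
    (n : Z'' ⟶ Z') (hn₁ : i'' ≫ n = i') (hn₂ : n ≫ c = e ≫ b)
    (ψ₁ : (Scheme.Modules.pullback i).obj (Omega.conormal j) ⟶ Omega.conormal i') (hψ₁ : OmegaSh.IsConormalMap i' j m i ψ₁)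
    (ψ₂ : (Scheme.Modules.pullback (𝟙 Z)).obj (Omega.conormal i') ⟶ Omega.conormal i'') (hψ₂ : OmegaSh.IsConormalMap i'' i' n (𝟙 Z) ψ₂) :
    ∃ w : (Scheme.Modules.pullback (𝟙 Z)).map ψ₁ ≫ ψ₂ = 0, (ShortComplex.mk _ _ w).Exact ∧ Epi ψ₂ := by
  subst hn₁
  haveI : IsClosedImmersion (i'' ≫ n) := hZ'.1.1.1
  haveI : IsClosedImmersion i'' := hZ''.1.1.1
  have hnm := Groth.Agent.Lib.UnivThickAff.Transitivity.comp_eq hY' hm₁ hm₂ hZ'' hn₂
  have w := Groth.Agent.Lib.UnivThickAff.Transitivity.comp_bar_eq_zero hnm hψ₁ hψ₂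
  obtain ⟨hex, hepi⟩ :=
    Groth.Agent.Lib.UnivThickAff.Transitivity.exact_and_epi hZ' hY' hm₁ hm₂ hZ'' hn₂ hψ₁ hψ₂ w
  refine ⟨Groth.Agent.Lib.UnivThickAff.Transitivity.map_comp_eq_zero w,
    ShortComplex.exact_of_iso (Groth.Agent.Lib.UnivThickAff.Transitivity.isoBar w _) hex, ?_⟩
  exact epi_of_epi ((Scheme.Modules.pullbackId Z).inv.app _) ψ₂

end Groth.Agent.S9784
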