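import Groth.Statements.S9788
import Groth.Agent.H56.RelPC.SurjFlat

set_option autoImplicit false
universe u
attribute [local instance] HasDerivedCategory.standard
open FlatMor

namespace Groth.Agent.S9788

open AlgebraicGeometry CategoryTheory Limits in
/-- Let f : X ⟶ S be surjective, locally of finite presentation, quasi-compact and quasi-separated, and
let M ∈ D(O_S) have quasi-coherent cohomology sheaves vanishing in all positive degrees. If Lf^*M is
isomorphic in D(O_X) to a flat O_X-module concentrated in degree zero, then M is isomorphic in
D(O_S) to a flat O_S-module concentrated in degree zero. The published statement is an equivalence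
of these two conditions, with the converse left unproved there; this row states only the implication
from the pullback to M. The existence of the derived pullback Lf^* is carried as a hypothesis. -/
theorem result {X S : Scheme.{u}} (f : X ⟶ S) [Surjective f]
    [LocallyOfFinitePresentation f] [QuasiCompact f] [QuasiSeparated f] [DCoh.HasLpull f]
    (M : DCoh.D S) (hM : DCoh.IsQCohD M) (hpos : ∀ i : ℤ, 0 < i → IsZero (DCoh.HD M i))
    (h2 : ∃ F : X.Modules, FlatMod.IsFlat F ∧ Nonempty ((DCoh.Lpull f).obj M ≅ DCoh.inD X F)) :
    ∃ G : S.Modules, FlatMod.IsFlat G ∧ Nonempty (M ≅ DCoh.inD S G) := by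
  obtain ⟨F, hF, ⟨e⟩⟩ := h2
  exact Groth.Agent.H56.RelPC.SurjFlat.flat_in_degree_zero f M hM hpos F hF e

end Groth.Agent.S9788
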