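import Groth.Statements.S9790
import Groth.Agent.Lib.RelAss.Flatness

set_option autoImplicit false
universe u
open FlatMor

namespace Groth.Agent.S9790

open AlgebraicGeometry CategoryTheory Limits in
/-- Let f : X ⟶ S be locally of finite type, F a quasi-coherent O_X-module of finite type and y a point
of the relative assassin of F over S. Let Y ⊆ X be the closure of y with its reduced induced
(integral) closed subscheme structure. Suppose F is S-flat at every point of Y that is a generic
point of an irreducible component of its fibre over S (e.g. F flat over S everywhere). Then Y ⟶ S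
has constant fibre dimension: there is d ≥ 0 with dim_x(Y_{f x}) = d for every point x of Y, i.e. Y
has relative dimension d over the closure of f y. The published statement also contains a part (1),
that such generic points are again relative associated points of F; this row states only part (2),
the relative-dimension clause. -/
theorem result {X S : Scheme.{u}} (f : X ⟶ S) [LocallyOfFiniteType f] (F : X.Modules) [Coh.IsQCoh F]
    (hF : CohB1.IsFT F) (y : X) (hy : y ∈ MoreMor.relAss f F)
    (hflat : ∀ x : ↑(Scheme.IdealSheafData.vanishingIdeal (TopologicalSpace.Closeds.closure {y})).subscheme,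
      (∃ Z ∈ irreducibleComponents ↥(((Scheme.IdealSheafData.vanishingIdeal (TopologicalSpace.Closeds.closure {y})).subschemeι ≫ f).fiber (f ((Scheme.IdealSheafData.vanishingIdeal (TopologicalSpace.Closeds.closure {y})).subschemeι x))),
        IsGenericPoint (((Scheme.IdealSheafData.vanishingIdeal (TopologicalSpace.Closeds.closure {y})).subschemeι ≫ f).asFiber x) Z) →
      FlatMod.IsFlatOverAt f F ((Scheme.IdealSheafData.vanishingIdeal (TopologicalSpace.Closeds.closure {y})).subschemeι x)) :
    ∃ d : ℕ, ∀ x : ↑(Scheme.IdealSheafData.vanishingIdeal (TopologicalSpace.Closeds.closure {y})).subscheme, FlatMor.fibreDimAt ((Scheme.IdealSheafData.vanishingIdeal (TopologicalSpace.Closeds.closure {y})).subschemeι ≫ f) x = d := by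
  haveI : F.IsQuasicoherent := ‹Coh.IsQCoh F›
  haveI : SheafOfModules.IsFiniteType (R := X.ringCatSheaf) F := hF
  let I := Scheme.IdealSheafData.vanishingIdeal (TopologicalSpace.Closeds.closure ({y} : Set X))
  let ι := I.subschemeι
  have hr : Set.range ι = closure ({y} : Set X) := by
    rw [Scheme.IdealSheafData.range_subschemeι, Scheme.IdealSheafData.coe_support_vanishingIdeal,
      TopologicalSpace.Closeds.coe_closure]
  obtain ⟨η, hη⟩ : ∃ η, ι η = y := (hr ▸ subset_closure rfl : y ∈ Set.range ι)
  refine ⟨H46.FibreTrdeg.trd f y, fun x => ?_⟩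
  obtain ⟨ξ, hξx, -, hmax, hdim⟩ := H46.FibreTrdeg.exists_isMaxFib_trd_eq (ι ≫ f) x
  rw [hdim, Nat.cast_inj, H46.FibreTrdeg.trd_comp f ι ξ]
  have hyξ : y ⤳ ι ξ := specializes_iff_mem_closure.2 (hr ▸ ⟨ξ, rfl⟩)
  refine le_antisymm ?_ ?_
  · refine Lib.RelAss.Flatness.trd_le_of_flat f F hy hyξ (hflat ξ ?_)
    have hpt : Lib.Cyc.DimFun.IsMaxPt ((ι ≫ f).asFiber ξ) := by
      rw [← Lib.Cyc.FieldDim.isMaxFib_iff, Scheme.Hom.fiberι_asFiber]
      exact hmax
    exact ⟨closure {(ι ≫ f).asFiber ξ}, Lib.Cyc.FieldDim.closure_mem_irreducibleComponents _ hpt, rfl⟩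
  · have h := H46.FibreTrdeg.trd_le_of_specializes (ι ≫ f)
      (ι.isEmbedding.isInducing.specializes_iff.1 (hη.symm ▸ hyξ : ι η ⤳ ι ξ)) hmax
    rwa [H46.FibreTrdeg.trd_comp, H46.FibreTrdeg.trd_comp, hη] at h

end Groth.Agent.S9790
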