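import Groth.Statements.S9793
import Mathlib.RingTheory.Ideal.Height
import Mathlib.RingTheory.Ideal.KrullsHeightTheorem


set_option autoImplicit false
universe u
open CategoryTheory AlgebraicGeometry TopologicalSpace
open Props

namespace Groth.Agent.S9793

/-- Let S be a Noetherian scheme and T a set of points of S. Every point of T is a specialization of
some point of T which admits no non-trivial generization lying in T. -/
theorem result (S : Scheme.{u}) [IsNoetherian S]
    (T : Set S) (t : S) (ht : t ∈ T) :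
    ∃ t₀ ∈ T, (∀ t' ∈ T, t' ⤳ t₀ → t' = t₀) ∧ t₀ ⤳ t := by
  haveI : IsNoetherianRing (S.presheaf.stalk t) := inferInstance
  let P : Set (PrimeSpectrum (S.presheaf.stalk t)) := {q | S.fromSpecStalk t q ∈ T}
  have hP : P.Nonempty := by
    obtain ⟨q, hq⟩ : t ∈ Set.range (S.fromSpecStalk t) := by
      rw [Scheme.range_fromSpecStalk]; exact specializes_rfl
    exact ⟨q, show S.fromSpecStalk t q ∈ T by rw [hq]; exact ht⟩
  obtain ⟨q₀, hq₀, hmin⟩ := exists_minimalFor_of_wellFoundedLT (· ∈ P) (fun q => q.asIdeal.height) hP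
  have hq₀t : S.fromSpecStalk t q₀ ⤳ t := by
    have : S.fromSpecStalk t q₀ ∈ Set.range (S.fromSpecStalk t) := ⟨q₀, rfl⟩
    rwa [Scheme.range_fromSpecStalk] at this
  refine ⟨S.fromSpecStalk t q₀, hq₀, fun t' ht' hs => ?_, hq₀t⟩
  obtain ⟨q, rfl⟩ : t' ∈ Set.range (S.fromSpecStalk t) := by
    rw [Scheme.range_fromSpecStalk]; exact hs.trans hq₀t
  have hle : @LE.le (PrimeSpectrum (S.presheaf.stalk t)) _ q q₀ := (PrimeSpectrum.le_iff_specializes q q₀).mpr
    ((S.fromSpecStalk t).isEmbedding.isInducing.specializes_iff.mp hs)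
  rcases hle.lt_or_eq with hlt | he
  · have h1 := Ideal.height_strict_mono_of_isPrime (I := q.asIdeal) (J := q₀.asIdeal) hlt
    exact absurd (hmin ht' h1.le) h1.not_ge
  · rw [he]

end Groth.Agent.S9793
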