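import Groth.Statements.S9792
import Groth.Agent.S9793


set_option autoImplicit false
universe u
open CategoryTheory AlgebraicGeometry TopologicalSpace
open Props

namespace Groth.Agent.S9792

/-- In a Noetherian scheme, every infinite set of points contains an infinite subset no two distinct
members of which are related by specialization. -/
theorem result (S : Scheme.{u}) [IsNoetherian S]
    (T : Set S) (hT : T.Infinite) :
    ∃ T' : Set S, T' ⊆ T ∧ T'.Infinite ∧ ∀ a ∈ T', ∀ b ∈ T', a ⤳ b → a = b := by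
  classical
  have hdesc : ¬∃ f : ℕ → S, ∀ m n, m < n → f m ⤳ f n ∧ f m ≠ f n := by
    rintro ⟨f, hf⟩
    let C : ℕ → TopologicalSpace.Closeds S := fun n => ⟨closure {f n}, isClosed_closure⟩
    refine not_strictAnti_of_wellFoundedLT C (strictAnti_nat_of_succ_lt fun n => ?_)
    obtain ⟨h1, h2⟩ := hf n (n + 1) n.lt_succ_self
    refine lt_of_le_not_ge (closure_minimal (Set.singleton_subset_iff.mpr (specializes_iff_mem_closure.mp h1)) isClosed_closure) ?_
    intro h
    exact h2 (h1.antisymm (specializes_iff_mem_closure.mpr (h (subset_closure rfl)))).eq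
  have hasc : ¬∃ f : ℕ → S, ∀ m n, m < n → f n ⤳ f m ∧ f m ≠ f n := by
    rintro ⟨f, hf⟩
    obtain ⟨t₀, ⟨k, rfl⟩, hmin, -⟩ := S9793.result S (Set.range f) (f 0) ⟨0, rfl⟩
    obtain ⟨h1, h2⟩ := hf k (k + 1) k.lt_succ_self
    exact h2 (hmin _ ⟨k + 1, rfl⟩ h1).symm
  let a : ℕ ↪ T := hT.natEmbedding
  let f : ℕ → S := fun n => (a n).1
  have hinj : Function.Injective f := Subtype.val_injective.comp a.injective
  haveI : IsTrans S (fun x y => x ⤳ y) := ⟨fun _ _ _ h h' => h.trans h'⟩
  haveI : IsTrans S (fun x y => y ⤳ x) := ⟨fun _ _ _ h h' => h'.trans h⟩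
  obtain ⟨g, hg | hg⟩ := exists_increasing_or_nonincreasing_subseq (fun x y : S => x ⤳ y) f
  · exact absurd ⟨f ∘ g, fun m n h => ⟨hg m n h, fun e => h.ne (g.injective (hinj e))⟩⟩ hdesc
  obtain ⟨g', hg' | hg'⟩ := exists_increasing_or_nonincreasing_subseq (fun x y : S => y ⤳ x) (f ∘ g)
  · exact absurd ⟨f ∘ g ∘ g', fun m n h => ⟨hg' m n h, fun e => h.ne (g'.injective (g.injective (hinj e)))⟩⟩ hasc
  refine ⟨Set.range (f ∘ g ∘ g'), Set.range_subset_iff.mpr fun n => (a _).2,
    Set.infinite_range_of_injective (hinj.comp (g.injective.comp g'.injective)), ?_⟩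
  rintro _ ⟨m, rfl⟩ _ ⟨n, rfl⟩ hs
  rcases lt_trichotomy m n with h | rfl | h
  · exact absurd hs (hg _ _ (g'.strictMono h))
  · rfl
  · exact absurd hs (hg' _ _ h)

end Groth.Agent.S9792
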