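import Groth.Statements.S9794
import Mathlib

set_option autoImplicit false
universe u
open CategoryTheory AlgebraicGeometry TopologicalSpace
open Props

namespace Groth.Agent.S9794

theorem mem_closure_of_component {X : Type*} [TopologicalSpace X] [NoetherianSpace X] {E : Set X} {W : Set X}
    (hW : W ∈ (irreducibleComponents ↥(closure E)).image (Subtype.val '' ·)) : W ⊆ closure (E ∩ W) := by
  obtain ⟨W', hW', rfl⟩ := hW
  obtain ⟨O, hO, hOe, hOW⟩ := NoetherianSpace.exists_isOpen_nonempty_subset_irreducibleComponent W' hW'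
  obtain ⟨O', hO', rfl⟩ := isOpen_induced_iff.mp hO
  have hcl : closure (Subtype.val ⁻¹' O' : Set ↥(closure E)) = W' :=
    subset_antisymm ((isClosed_of_mem_irreducibleComponents _ hW').closure_subset_iff.mpr hOW)
      (subset_closure_inter_of_isPreirreducible_of_isOpen hW'.1.2 hO
        (by rw [Set.inter_eq_right.mpr hOW]; exact hOe) |>.trans (closure_mono Set.inter_subset_right))
  rintro _ ⟨w, hw, rfl⟩
  rw [← hcl] at hw
  have h1 : (w : X) ∈ closure (Subtype.val '' (Subtype.val ⁻¹' O' : Set ↥(closure E))) :=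
    closure_subtype.mp hw
  refine closure_minimal ?_ isClosed_closure h1
  rintro _ ⟨v, hv, rfl⟩
  have h2 : (v : X) ∈ closure (O' ∩ E) := hO'.inter_closure ⟨hv, v.2⟩
  refine closure_mono ?_ h2
  rintro e ⟨he, heE⟩
  exact ⟨heE, ⟨⟨e, subset_closure heE⟩, hOW he, rfl⟩⟩

/-- In a Noetherian scheme, an infinite dense set of points contains a countable subset which is dense. -/
theorem result (S : Scheme.{u}) [IsNoetherian S]
    (T : Set S) (hT : T.Infinite) (hd : Dense T) :
    ∃ E : Set S, E ⊆ T ∧ E.Countable ∧ Dense E := by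
  classical
  let F : Set (Set S) := {Z | IsClosed Z ∧ IsIrreducible Z ∧ ∃ E : Set S, E ⊆ T ∧ E.Countable ∧ closure E = Z}
  have hsing : ∀ t ∈ T, closure {t} ∈ F := fun t ht =>
    ⟨isClosed_closure, isIrreducible_singleton.closure, {t}, Set.singleton_subset_iff.mpr ht, Set.countable_singleton t, rfl⟩
  have hmax : ∀ Z ∈ F, ∃ M ∈ F, Z ⊆ M ∧ ∀ M' ∈ F, M ⊆ M' → M' = M := by
    intro Z hZ
    obtain ⟨x, hx⟩ := hZ.2.1.1
    -- the points with closure in `F` above `Z` specialize to `x`: they form an ascending-chain-free family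
    obtain ⟨U, hU, hxU, -⟩ := exists_isAffineOpen_mem_and_subset (X := S) (x := x) (U := ⊤) trivial
    haveI : IsNoetherianRing Γ(S, U) := IsLocallyNoetherian.component_noetherian ⟨U, hU⟩
    let f : Spec Γ(S, U) ⟶ S := hU.fromSpec
    let P : Set (Ideal Γ(S, U)) := {p | ∃ M ∈ F, Z ⊆ M ∧ ∃ hp : p.IsPrime, closure {f.base ⟨p, hp⟩} = M}
    obtain ⟨px, hpx⟩ : x ∈ Set.range f.base := by rw [hU.range_fromSpec]; exact hxU
    have hpt : ∀ M ∈ F, Z ⊆ M → ∃ q : Spec Γ(S, U), closure {f.base q} = M := by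
      intro M hM hZM
      obtain ⟨η, hη⟩ := QuasiSober.sober hM.2.1 hM.1
      obtain ⟨q, hq⟩ : η ∈ Set.range f.base := by
        rw [hU.range_fromSpec]; exact (hη.specializes (hZM hx)).mem_open U.2 hxU
      exact ⟨q, hq ▸ hη.def⟩
    have hle : ∀ q : Spec Γ(S, U), x ∈ closure {f.base q} → q.asIdeal ≤ px.asIdeal := by
      intro q hq
      rw [← specializes_iff_mem_closure, ← hpx] at hq
      exact (PrimeSpectrum.le_iff_specializes q px).mpr ((hU.fromSpec.isOpenEmbedding.isInducing.specializes_iff).mp hq)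
    -- the primes below `px` satisfy the descending chain condition
    obtain ⟨p₀, hp₀⟩ := hpt Z hZ subset_rfl
    have hne : {n : ℕ | ∃ p ∈ P, ∃ _ : p.IsPrime, (p.height).toNat = n}.Nonempty :=
      ⟨_, p₀.asIdeal, ⟨Z, hZ, subset_rfl, p₀.isPrime, hp₀⟩, p₀.isPrime, rfl⟩
    obtain ⟨p, ⟨M, hM, hZM, hp, hpM⟩, -, hpmin⟩ := Nat.sInf_mem hne
    refine ⟨M, hM, hZM, fun M' hM' hMM' => ?_⟩
    obtain ⟨q, hq⟩ := hpt M' hM' (hZM.trans hMM')
    have hqp : q.asIdeal ≤ p := by
      have h1 : f.base ⟨p, hp⟩ ∈ closure {f.base q} := hq ▸ hMM' (hpM ▸ subset_closure rfl)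
      rw [← specializes_iff_mem_closure] at h1
      exact (PrimeSpectrum.le_iff_specializes q ⟨p, hp⟩).mpr ((hU.fromSpec.isOpenEmbedding.isInducing.specializes_iff).mp h1)
    rcases eq_or_lt_of_le hqp with h | h
    · rw [← hq, ← hpM, show q = ⟨p, hp⟩ from PrimeSpectrum.ext h]
    · exfalso
      haveI := q.isPrime
      haveI := hp
      have h2 := Nat.sInf_le (show (q.asIdeal.height).toNat ∈ {n : ℕ | ∃ p ∈ P, ∃ _ : p.IsPrime, (p.height).toNat = n} from
        ⟨_, ⟨M', hM', hZM.trans hMM', q.isPrime, hq⟩, q.isPrime, rfl⟩)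
      rw [← hpmin] at h2
      have h3 := Ideal.height_strict_mono_of_isPrime_of_isPrime h
      obtain ⟨a, ha⟩ := ENat.ne_top_iff_exists.mp (Ideal.height_ne_top hp.ne_top)
      obtain ⟨b, hb⟩ := ENat.ne_top_iff_exists.mp (h3.trans_le le_top).ne
      rw [← ha, ← hb, ENat.coe_lt_coe] at h3
      rw [← ha, ← hb, ENat.toNat_natCast, ENat.toNat_natCast] at h2
      omega
  let Mx : Set (Set S) := {M | M ∈ F ∧ ∀ M' ∈ F, M ⊆ M' → M' = M}
  -- every countable family of maximal members is finite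
  have hfin : Mx.Finite := by
    by_contra hinf
    let g := Set.Infinite.natEmbedding Mx hinf
    choose E hET hEc hEM using fun i : ℕ => (g i).2.1.2.2
    let E' := ⋃ i, E i
    let C : Set (Set S) := (irreducibleComponents ↥(closure E')).image (Subtype.val '' ·)
    have hC : C.Finite := NoetherianSpace.finite_irreducibleComponents.image _
    have hin : ∀ i, ((g i : Mx) : Set S) ∈ C := by
      intro i
      have hsub : ((g i : Mx) : Set S) ⊆ closure E' := hEM i ▸ closure_mono (Set.subset_iUnion E i)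
      have hirr : IsIrreducible (Subtype.val ⁻¹' ((g i : Mx) : Set S) : Set ↥(closure E')) := by
        refine ⟨?_, fun u v hu hv hu' hv' => ?_⟩
        · obtain ⟨y, hy⟩ := (g i).2.1.2.1.1
          exact ⟨⟨y, hsub hy⟩, hy⟩
        obtain ⟨u₀, hu₀, rfl⟩ := isOpen_induced_iff.mp hu
        obtain ⟨v₀, hv₀, rfl⟩ := isOpen_induced_iff.mp hv
        obtain ⟨a, ha, hau⟩ := hu'
        obtain ⟨b, hb, hbv⟩ := hv'
        obtain ⟨y, hy, hyuv⟩ := (g i).2.1.2.1.2 u₀ v₀ hu₀ hv₀ ⟨_, ha, hau⟩ ⟨_, hb, hbv⟩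
        exact ⟨⟨y, hsub hy⟩, hy, hyuv⟩
      obtain ⟨W', hW', hle⟩ := exists_mem_irreducibleComponents_subset_of_isIrreducible _ hirr
      have hWF : Subtype.val '' W' ∈ F := by
        refine ⟨isClosed_closure.isClosedEmbedding_subtypeVal.isClosedMap _ (isClosed_of_mem_irreducibleComponents _ hW'),
          hW'.1.image _ continuous_subtype_val.continuousOn, E' ∩ Subtype.val '' W', ?_, ?_, subset_antisymm ?_ ?_⟩
        · exact Set.inter_subset_left.trans (Set.iUnion_subset hET)
        · exact (Set.countable_iUnion hEc).mono Set.inter_subset_left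
        · exact (isClosed_closure.isClosedEmbedding_subtypeVal.isClosedMap _ (isClosed_of_mem_irreducibleComponents _ hW')).closure_subset_iff.mpr Set.inter_subset_right
        · exact mem_closure_of_component ⟨W', hW', rfl⟩
      have := (g i).2.2 _ hWF fun y hy => ⟨⟨y, hsub hy⟩, hle hy, rfl⟩
      exact ⟨W', hW', this⟩
    exact (Set.infinite_range_of_injective (Subtype.val_injective.comp g.injective)).mono
      (Set.range_subset_iff.mpr hin) hC
  choose E hET hEc hEM using fun M : Mx => M.2.1.2.2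
  haveI := hfin.to_subtype
  refine ⟨⋃ M, E M, Set.iUnion_subset hET, Set.countable_iUnion hEc, ?_⟩
  rw [dense_iff_closure_eq, Set.eq_univ_iff_forall]
  intro y
  refine closure_minimal (fun t ht => ?_) isClosed_closure (hd y)
  obtain ⟨M, hM, hle, hmx⟩ := hmax _ (hsing t ht)
  exact closure_mono (Set.subset_iUnion E ⟨M, hM, hmx⟩) (by rw [hEM]; exact hle (subset_closure rfl))

end Groth.Agent.S9794
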