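import Groth.Statements.S9799



set_option autoImplicit false
universe u
open CategoryTheory AlgebraicGeometry TopologicalSpace
open Props

namespace Groth.Agent.S9799

/-- Let X be a normal scheme (all local rings are integrally closed domains) such that every
quasi-compact open subset has finitely many irreducible components. Then the irreducible components
of X are open and pairwise disjoint; hence X is the disjoint union of its irreducible components,
each an open subscheme which is normal and integral. -/
theorem result (X : Scheme.{u})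
    (hfin : ∀ U : X.Opens, IsCompact (U : Set X) → (irreducibleComponents ↥U).Finite)
    (hN : Pi1.IsNormalScheme X) :
    (∀ Z ∈ irreducibleComponents X, IsOpen Z) ∧
      ∀ Z ∈ irreducibleComponents X, ∀ Z' ∈ irreducibleComponents X, Z ≠ Z' → Disjoint Z Z' := by
  have key : ∀ (x : X) (Z : Set X), Z ∈ irreducibleComponents X → x ∈ Z → Z = closure {X.fromSpecStalk x (⟨⊥, (haveI := (hN x).1; Ideal.isPrime_bot)⟩ : PrimeSpectrum (X.presheaf.stalk x))} := by
    intro x Z hZ hxZ
    haveI := (hN x).1
    obtain ⟨η, hη⟩ := QuasiSober.sober hZ.1 (isClosed_of_mem_irreducibleComponents Z hZ)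
    obtain ⟨q, hq⟩ : η ∈ Set.range (X.fromSpecStalk x) := by
      rw [Scheme.range_fromSpecStalk]
      exact hη.specializes hxZ
    have hg : X.fromSpecStalk x (⟨⊥, Ideal.isPrime_bot⟩ : PrimeSpectrum (X.presheaf.stalk x)) ⤳ η := by
      rw [← hq]
      exact Specializes.map ((PrimeSpectrum.le_iff_specializes ⟨⊥, Ideal.isPrime_bot⟩ q).mp bot_le)
        (X.fromSpecStalk x).continuous
    refine Set.Subset.antisymm ?_ (hZ.2 isIrreducible_singleton.closure ?_)
    all_goals
      rw [← hη.def]
      exact closure_minimal (Set.singleton_subset_iff.mpr (specializes_iff_mem_closure.mp hg)) isClosed_closure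
  refine ⟨fun Z hZ => isOpen_iff_forall_mem_open.mpr fun x hx => ?_, fun Z hZ Z' hZ' hne =>
    Set.disjoint_left.mpr fun x hx hx' => hne ((key x Z hZ hx).trans (key x Z' hZ' hx').symm)⟩
  obtain ⟨U, hU, hxU, -⟩ := exists_isAffineOpen_mem_and_subset (X := X) (x := x) (U := ⊤) trivial
  let B : Set U := ⋃ T ∈ {T ∈ irreducibleComponents U | (⟨x, hxU⟩ : U) ∉ T}, T
  have hB : IsClosed B := ((hfin U hU.isCompact).subset fun T hT => hT.1).isClosed_biUnion
    fun T hT => isClosed_of_mem_irreducibleComponents T hT.1
  refine ⟨Subtype.val '' Bᶜ, ?_, U.2.isOpenMap_subtype_val _ hB.isOpen_compl, ⟨⟨x, hxU⟩, ?_, rfl⟩⟩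
  · rintro _ ⟨y, hy, rfl⟩
    have hxT : (⟨x, hxU⟩ : U) ∈ irreducibleComponent y := by
      by_contra hn
      exact hy (Set.mem_biUnion ⟨irreducibleComponent_mem_irreducibleComponents y, hn⟩ mem_irreducibleComponent)
    obtain ⟨S, hS, hTS⟩ := exists_mem_irreducibleComponents_subset_of_isIrreducible _
      ((isIrreducible_irreducibleComponent (x := y)).image _ continuous_subtype_val.continuousOn)
    rw [(key x Z hZ hx).trans (key x S hS (hTS ⟨_, hxT, rfl⟩)).symm]
    exact hTS ⟨_, mem_irreducibleComponent, rfl⟩
  · intro h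
    obtain ⟨T, ⟨-, hxT⟩, hx'⟩ := Set.mem_iUnion₂.mp h
    exact hxT hx'

end Groth.Agent.S9799
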