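import Groth.Statements.S9801
import Groth.Agent.S0601
import Groth.Agent.Lib.EGA75.Sn
import Groth.Agent.Lib.Cyc.TorPD

set_option autoImplicit false
set_option linter.style.haveILetI false
universe u
open CategoryTheory AlgebraicGeometry TopologicalSpace
open Props

namespace Groth.Agent.S9801

/-- A locally Noetherian normal scheme of dimension at most two is Cohen-Macaulay, that is, all of its
local rings are Cohen-Macaulay local rings. -/
theorem result (X : Scheme.{u})
    [IsLocallyNoetherian X] (hN : Pi1.IsNormalScheme X) (hd : topologicalKrullDim X ≤ 2) (x : X) :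
    LocCoh.IsCohenMacaulayLocalRing (X.presheaf.stalk x) := by
  haveI := (hN x).1
  haveI := (hN x).2
  let R := X.presheaf.stalk x
  haveI : IsNoetherianRing R := inferInstance
  have hS := ((Groth.Agent.S0601.result R).1 fun p _ => ⟨IsLocalization.isDomain_of_atPrime (Localization.AtPrime p) p,
    isIntegrallyClosed_of_isLocalization (Localization.AtPrime p) p.primeCompl (fun z hz => mem_nonZeroDivisors_of_ne_zero fun h0 => hz (h0 ▸ zero_mem p))⟩).2
  rw [Groth.Agent.Lib.EGA75.Sn.hasSk_iff] at hS
  obtain ⟨_, h⟩ := hS (IsLocalRing.maximalIdeal R)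
  let e := (IsLocalization.atUnits R (IsLocalRing.maximalIdeal R).primeCompl
    (S := Localization.AtPrime (IsLocalRing.maximalIdeal R)) (fun z hz => by
      by_contra hu
      exact hz hu)).toRingEquiv
  rw [← ringKrullDim_eq_of_ringEquiv e, ← Groth.Agent.Lib.Goren.Flat.depth_ringEquiv e,
    min_eq_right (show ringKrullDim R ≤ ((2 : ℕ) : WithBot ℕ∞) from
      (Groth.Agent.Lib.Cyc.TorPD.ringKrullDim_stalk_le x).trans (by exact_mod_cast hd))] at h
  exact Groth.Agent.Lib.Depth.CM.isCohenMacaulayLocalRing_iff.2 h

end Groth.Agent.S9801
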