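import Groth.Statements.S9803
import Mathlib

set_option autoImplicit false
universe u
open CategoryTheory AlgebraicGeometry TopologicalSpace
open Props

namespace Groth.Agent.S9803

open CategoryTheory.Limits MvPolynomial

variable {ι : Type u} [Fintype ι] {A : Type u} [CommRing A] (f : ι → A)

/-- The defining ideal of the Jouanolou torsor, with one free extra variable. -/
noncomputable def relIdeal : Ideal (MvPolynomial (Option ι) A) :=
  Ideal.span {(∑ i, C (f i) * X (some i)) - 1}

/-- The coordinate ring of the torsor. -/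
abbrev TorRing : Type u := MvPolynomial (Option ι) A ⧸ relIdeal f

lemma rel_eq {C' : Type u} [CommRing C'] (b : TorRing f →+* C') :
    ∑ i, b (Ideal.Quotient.mk _ (C (f i))) * b (Ideal.Quotient.mk _ (X (some i))) = 1 := by
  have h : Ideal.Quotient.mk (relIdeal f) ((∑ i, C (f i) * X (some i)) - 1) = 0 :=
    Ideal.Quotient.eq_zero_iff_mem.2 (Ideal.subset_span rfl)
  have h2 := congrArg b h
  simp only [map_sub, map_sum, map_mul, map_one, map_zero, sub_eq_zero] at h2
  exact h2

lemma ringHom_ext' {C' : Type u} [CommRing C'] {b b' : TorRing f →+* C'}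
    (hC : ∀ a, b (Ideal.Quotient.mk _ (C a)) = b' (Ideal.Quotient.mk _ (C a)))
    (hX : ∀ i, b (Ideal.Quotient.mk _ (X i)) = b' (Ideal.Quotient.mk _ (X i))) : b = b' :=
  Ideal.Quotient.ringHom_ext (MvPolynomial.ringHom_ext hC hX)

variable {R : Type u} [CommRing R] (φ : A →+* R) (a : ι → R)

noncomputable def vals : Option ι → MvPolynomial ι R
  | none => ∑ i, C (φ (f i)) * X i
  | some i => X i + C (a i) - C (a i) * (∑ k, C (φ (f k)) * X k)

/-- The chart of the torsor over a ring on which a partition of unity is given. -/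
noncomputable def chart (ha : ∑ i, φ (f i) * a i = 1) : TorRing f →+* MvPolynomial ι R :=
  Ideal.Quotient.lift _ (eval₂Hom (C.comp φ) (vals f φ a)) (by
    intro x hx
    rw [relIdeal, Ideal.mem_span_singleton] at hx
    obtain ⟨y, rfl⟩ := hx
    simp only [map_mul, map_sub, map_sum, map_one, eval₂Hom_C, eval₂Hom_X', RingHom.comp_apply, vals]
    have h : ∑ i, C (φ (f i)) * (X i + C (a i) - C (a i) * ∑ k, C (φ (f k)) * X k) =
        (1 : MvPolynomial ι R) := by
      have h1 : ∑ i, C (φ (f i)) * C (a i) = (1 : MvPolynomial ι R) := by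
        simp only [← map_mul, ← map_sum, ha, map_one]
      simp only [mul_sub, mul_add, Finset.sum_sub_distrib, Finset.sum_add_distrib, ← mul_assoc,
        ← Finset.sum_mul, h1]
      ring
    rw [h]
    ring)

lemma chart_C (ha : ∑ i, φ (f i) * a i = 1) (x : A) :
    chart f φ a ha (Ideal.Quotient.mk _ (C x)) = C (φ x) := by
  simp [chart]

lemma chart_X (ha : ∑ i, φ (f i) * a i = 1) (i : Option ι) :
    chart f φ a ha (Ideal.Quotient.mk _ (X i)) = vals f φ a i := by
  simp [chart]

lemma isPushout_chart (ha : ∑ i, φ (f i) * a i = 1) :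
    IsPushout (CommRingCat.ofHom φ) (CommRingCat.ofHom ((Ideal.Quotient.mk (relIdeal f)).comp C))
      (CommRingCat.ofHom (C : R →+* MvPolynomial ι R)) (CommRingCat.ofHom (chart f φ a ha)) := by
  have w : CommRingCat.ofHom φ ≫ CommRingCat.ofHom (C : R →+* MvPolynomial ι R) =
      CommRingCat.ofHom ((Ideal.Quotient.mk (relIdeal f)).comp C) ≫
        CommRingCat.ofHom (chart f φ a ha) := by
    ext x
    simp [chart_C]
  refine ⟨⟨w⟩, ⟨PushoutCocone.IsColimit.mk _
    (fun s => CommRingCat.ofHom (eval₂Hom s.inl.hom (fun i =>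
      s.inr.hom (Ideal.Quotient.mk _ (X (some i))) - s.inl.hom (a i) +
        s.inl.hom (a i) * s.inr.hom (Ideal.Quotient.mk _ (X none))))) ?_ ?_ ?_⟩⟩
  · intro s
    ext x
    simp
  · intro s
    have hs : ∀ x, s.inl.hom (φ x) = s.inr.hom (Ideal.Quotient.mk _ (C x)) := fun x =>
      congrFun (congrArg (fun t => (t.hom : A → _)) s.condition) x
    have h2 : ∑ i, s.inl.hom (φ (f i)) * s.inr.hom (Ideal.Quotient.mk _ (X (some i))) = 1 := by
      simp only [hs]
      exact rel_eq f s.inr.hom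
    have h3 : ∑ i, s.inl.hom (φ (f i)) * s.inl.hom (a i) = 1 := by
      simp only [← map_mul, ← map_sum, ha, map_one]
    refine CommRingCat.hom_ext (ringHom_ext' f ?_ ?_)
    · intro x
      simp [chart_C, hs]
    · have h4 : ∑ i, s.inl.hom (φ (f i)) * (s.inr.hom (Ideal.Quotient.mk _ (X (some i))) -
          s.inl.hom (a i) + s.inl.hom (a i) * s.inr.hom (Ideal.Quotient.mk _ (X none))) =
          s.inr.hom (Ideal.Quotient.mk _ (X none)) := by
        simp only [mul_sub, mul_add, Finset.sum_sub_distrib, Finset.sum_add_distrib, ← mul_assoc,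
          ← Finset.sum_mul, h2, h3]
        ring
      intro i
      cases i with
      | none =>
        simp only [CommRingCat.hom_comp, CommRingCat.hom_ofHom, RingHom.comp_apply, chart_X, vals,
          map_sum, map_mul, eval₂Hom_C, eval₂Hom_X']
        exact h4
      | some i =>
        simp only [CommRingCat.hom_comp, CommRingCat.hom_ofHom, RingHom.comp_apply, chart_X, vals,
          map_sum, map_mul, map_add, map_sub, eval₂Hom_C, eval₂Hom_X']
        rw [h4]
        ring
  · intro s m hm1 hm2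
    have e1 : ∀ x, m.hom (C x) = s.inl.hom x := fun x =>
      congrFun (congrArg (fun t => (t.hom : R → _)) hm1) x
    have e2 : ∀ x, m.hom (chart f φ a ha x) = s.inr.hom x := fun x =>
      congrFun (congrArg (fun t => (t.hom : TorRing f → _)) hm2) x
    refine CommRingCat.hom_ext (MvPolynomial.ringHom_ext (fun x => ?_) (fun i => ?_))
    · simp [e1]
    · simp only [CommRingCat.hom_ofHom, eval₂Hom_X']
      rw [← e2, ← e2, ← e1, chart_X, chart_X, ← map_sub, ← map_mul, ← map_add]
      congr 1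
      simp only [vals]
      ring

/-- A quasi-affine scheme X admits a morphism from an affine scheme T which, after base change to any
affine scheme over X, becomes isomorphic over that affine scheme to an affine space of fixed
dimension n. -/
theorem result (X : Scheme.{u}) [X.IsQuasiAffine] :
    ∃ (n : ℕ) (T : Scheme.{u}) (_ : IsAffine T) (p : T ⟶ X),
      ∀ (X' : Scheme.{u}) [IsAffine X'] (g : X' ⟶ X),
        ∃ e : Limits.pullback g p ≅ 𝔸(ULift.{u} (Fin n); X'),
          e.hom ≫ (𝔸(ULift.{u} (Fin n); X') ↘ X') = Limits.pullback.fst g p := by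
  let j : X ⟶ Spec Γ(X, ⊤) := X.toSpecΓ
  have hc : IsCompact (Set.range j) := isCompact_range j.continuous
  have ho : IsOpen (Set.range j) := j.isOpenEmbedding.isOpen_range
  obtain ⟨I, hI, hIU⟩ := PrimeSpectrum.isCompact_isOpen_iff_ideal.1 ⟨hc, ho⟩
  obtain ⟨n, f₀, hf₀⟩ := Submodule.fg_iff_exists_fin_generating_family.1 hI
  let f : ULift.{u} (Fin n) → Γ(X, ⊤) := fun i => f₀ i.down
  have hU : ∀ p : ↥(Spec Γ(X, ⊤)), p ∈ Set.range j ↔ ∃ i, f i ∉ p.asIdeal := by
    intro p
    rw [← hIU, ← hf₀]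
    change ¬ ((Submodule.span Γ(X, ⊤) (Set.range f₀) : Ideal Γ(X, ⊤)) : Set Γ(X, ⊤)) ⊆ p.asIdeal ↔ _
    rw [← not_iff_not]
    simp only [f, Set.subset_def, SetLike.mem_coe, not_exists, not_not]
    exact ⟨fun h i => h _ (Submodule.subset_span ⟨i.down, rfl⟩),
      fun h x hx => (Submodule.span_le.2 (by rintro _ ⟨k, rfl⟩; exact h ⟨k⟩) : _ ≤ p.asIdeal) hx⟩
  let q : Spec (CommRingCat.of (TorRing f)) ⟶ Spec Γ(X, ⊤) :=
    Spec.map (CommRingCat.ofHom ((Ideal.Quotient.mk (relIdeal f)).comp MvPolynomial.C))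
  have hq : Set.range q ⊆ Set.range j := by
    rintro _ ⟨P, rfl⟩
    rw [hU]
    by_contra hcon
    simp only [not_exists, not_not] at hcon
    apply P.isPrime.ne_top
    rw [Ideal.eq_top_iff_one, ← rel_eq f (RingHom.id (TorRing f))]
    exact Ideal.sum_mem _ fun i _ => Ideal.mul_mem_right _ _ (hcon i)
  refine ⟨n, Spec (CommRingCat.of (TorRing f)), inferInstance, IsOpenImmersion.lift j q hq,
    fun X' _ g => ?_⟩
  let R : CommRingCat := Γ(X', ⊤)
  obtain ⟨φ, hφ⟩ : ∃ φ : Γ(X, ⊤) ⟶ R, Spec.map φ = X'.isoSpec.inv ≫ g ≫ j :=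
    ⟨Spec.preimage _, Spec.map_preimage _⟩
  have hspan : Ideal.span (Set.range fun i => φ.hom (f i)) = ⊤ := by
    by_contra hne
    obtain ⟨M, hM, hle⟩ := Ideal.exists_le_maximal _ hne
    have hm : (Spec.map φ) ⟨M, hM.isPrime⟩ ∈ Set.range j := by
      rw [hφ]
      exact ⟨(X'.isoSpec.inv ≫ g) _, rfl⟩
    obtain ⟨i, hi⟩ := (hU _).1 hm
    exact hi (hle (Ideal.subset_span ⟨i, rfl⟩))
  obtain ⟨a, ha⟩ := Ideal.mem_span_range_iff_exists_fun.1
    (hspan ▸ Submodule.mem_top : (1 : R) ∈ Ideal.span (Set.range fun i => φ.hom (f i)))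
  have ha' : ∑ i, φ.hom (f i) * a i = 1 := by
    rw [← ha]
    exact Finset.sum_congr rfl fun i _ => mul_comm _ _
  have sq := AlgebraicGeometry.isPullback_SpecMap_of_isPushout _ _ _ _
    (isPushout_chart f φ.hom a ha')
  let P := Spec (CommRingCat.of (MvPolynomial (ULift.{u} (Fin n)) R))
  let c : P ⟶ X' := Spec.map (CommRingCat.ofHom (MvPolynomial.C (R := R))) ≫ X'.isoSpec.inv
  have sq2 : IsPullback c (Spec.map (CommRingCat.ofHom (chart f φ.hom a ha'))) (g ≫ j)
      (IsOpenImmersion.lift j q hq ≫ j) := by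
    rw [IsOpenImmersion.lift_fac]
    refine sq.of_iso (Iso.refl _) X'.isoSpec.symm (Iso.refl _) (Iso.refl _) ?_ ?_ ?_ ?_
    · simp [c]
    · simp
    · simp only [Iso.refl_hom, Category.comp_id, Iso.symm_hom, CommRingCat.ofHom_hom]
      rw [hφ]
    · simp [q]
  have hw : c ≫ g = Spec.map (CommRingCat.ofHom (chart f φ.hom a ha')) ≫
      IsOpenImmersion.lift j q hq := by
    rw [← cancel_mono j, Category.assoc]
    exact sq2.w.trans (Category.assoc _ _ _).symm
  have sq3 : IsPullback c (Spec.map (CommRingCat.ofHom (chart f φ.hom a ha'))) g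
      (IsOpenImmersion.lift j q hq) := by
    refine ⟨⟨hw⟩, ⟨PullbackCone.IsLimit.mk _
      (fun s => sq2.lift s.fst s.snd (by rw [← Category.assoc, s.condition, Category.assoc]))
      (fun s => sq2.lift_fst _ _ _) (fun s => sq2.lift_snd _ _ _)
      (fun s m h1 h2 => sq2.hom_ext (by rw [sq2.lift_fst]; exact h1) (by rw [sq2.lift_snd]; exact h2))⟩⟩
  refine ⟨sq3.isoPullback.symm ≪≫ (AffineSpace.isoOfIsAffine (ULift.{u} (Fin n)) X').symm, ?_⟩
  rw [Iso.trans_hom, Category.assoc, Iso.symm_hom, Iso.symm_hom, AffineSpace.isoOfIsAffine_inv_over,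
    ← sq3.isoPullback_inv_fst]

end Groth.Agent.S9803
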