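import Groth.Statements.S9804

set_option autoImplicit false
set_option linter.style.haveILetI false
universe u
open CategoryTheory AlgebraicGeometry TopologicalSpace
open Props

namespace Groth.Agent.S9804

/-- For quasi-affine schemes U and V and an open immersion j : U → V, the scheme U is the fibre product
of the composite U → V → Spec Γ(V, O_V) and the morphism Spec Γ(U, O_U) → Spec Γ(V, O_V) induced by
restriction of sections along j: the square whose sides are the identity of U, the canonical
morphism U → Spec Γ(U, O_U), that composite and that induced morphism is cartesian. -/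
theorem result {U V : Scheme.{u}} (j : U ⟶ V)
    [IsOpenImmersion j] [U.IsQuasiAffine] [V.IsQuasiAffine] :
    IsPullback (𝟙 U) U.toSpecΓ (j ≫ V.toSpecΓ) (Spec.map j.appTop) := by
  refine IsOpenImmersion.isPullback _ _ _ _ ?_ ?_
  · rw [Category.id_comp]
    exact (Scheme.toSpecΓ_naturality j).symm
  · ext q
    constructor
    · rintro ⟨u, hu⟩
      obtain ⟨_, ⟨_, ⟨r, hr, rfl⟩, rfl⟩, hur, hsub⟩ :=
        (Scheme.IsQuasiAffine.isBasis_basicOpen V).exists_subset_of_mem_open
          (Set.mem_range_self u : j u ∈ (j.opensRange : Set V)) j.opensRange.2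
      have hq : q ∈ PrimeSpectrum.basicOpen (j.appTop r) := by
        have h1 : V.toSpecΓ (j u) ∈ PrimeSpectrum.basicOpen r := by
          have := (V.toSpecΓ_preimage_basicOpen r).ge hur
          exact this
        have h2 : (j ≫ V.toSpecΓ) u = PrimeSpectrum.comap j.appTop.hom q := hu
        rw [Scheme.Hom.comp_apply] at h2
        rw [h2] at h1
        exact h1
      have haff : IsAffineOpen (U.basicOpen (j.appTop r)) := by
        rw [← Scheme.preimage_basicOpen_top]
        refine hr.preimage_of_isOpenImmersion j ?_
        exact hsub
      have := isLocalization_basicOpen_of_qcqs (X := U) isCompact_univ isQuasiSeparated_univ (j.appTop r)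
      have e := Scheme.Opens.toSpecΓ_SpecMap_presheaf_map_top (U.basicOpen (j.appTop r))
      have hqr : q ∈ Set.range (Spec.map (U.presheaf.map
          (homOfLE (le_top : U.basicOpen (j.appTop r) ≤ ⊤)).op)) := by
        have := PrimeSpectrum.localization_away_comap_range Γ(U, U.basicOpen (j.appTop r)) (j.appTop r)
        change q ∈ Set.range (PrimeSpectrum.comap _)
        exact this.ge hq
      obtain ⟨w, rfl⟩ := hqr
      obtain ⟨w', rfl⟩ := (haff.isoSpec.hom).surjective w
      refine ⟨(U.basicOpen (j.appTop r)).ι w', ?_⟩
      exact (congr($e w')).symm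
    · rintro ⟨u, rfl⟩
      refine ⟨u, ?_⟩
      exact congr($(Scheme.toSpecΓ_naturality j) u)

end Groth.Agent.S9804
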