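import Groth.Statements.S9814
import Groth.Agent.Lib.Ample.Basis

set_option autoImplicit false
universe u
open CategoryTheory CategoryTheory.Limits AlgebraicGeometry TopologicalSpace
open Props

namespace Groth.Agent.S9814

/-- Let L be an invertible module on a scheme X. If the opens X_s (s a global section of a positive
tensor power of L) form a basis for the topology, then so do the affine ones among them. -/
theorem result (X : Scheme.{u}) (L : X.Modules) (hL : PicF.IsInvertible L)
    (hB : Opens.IsBasis {U : X.Opens | ∃ (n : ℕ) (s : Coh.structureModule X ⟶ CohB1.tensorPow L (n + 1)),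
      U = CohB1.genLocus _ s}) :
    Opens.IsBasis {U : X.Opens | IsAffineOpen U ∧ ∃ (n : ℕ) (s : Coh.structureModule X ⟶ CohB1.tensorPow L (n + 1)),
      U = CohB1.genLocus _ s} := by
  rw [Opens.isBasis_iff_nbhd] at hB ⊢
  intro V x hx
  obtain ⟨U, hU, hxU, hUV⟩ := exists_isAffineOpen_mem_and_subset (X := X) (x := x) (U := V) hx
  obtain ⟨_, ⟨n, s, rfl⟩, hxs, hsU⟩ := hB (U := U) hxU
  refine ⟨_, ⟨?_, n, s, rfl⟩, hxs, hsU.trans hUV⟩
  have := Groth.Agent.Lib.Ample.Basis.isAffineOpen_genLocus_inf
    (Groth.Agent.Lib.TensorMod.Invertible.isInvertible_tensorPow hL (n + 1)) s hU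
  rwa [inf_eq_left.2 hsU] at this

end Groth.Agent.S9814
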