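import Groth.Statements.S9816
import Groth.Agent.Lib.Ample.External

set_option autoImplicit false
universe u
open CategoryTheory CategoryTheory.Limits AlgebraicGeometry TopologicalSpace
open Props

namespace Groth.Agent.S9816
open Groth.Agent.Lib Groth.Agent.Lib.TensorMod Groth.Agent.Lib.TensorMod.Basic Groth.Agent.Lib.TensorMod.Dual Groth.Agent.Lib.TensorMod.Gen Groth.Agent.Lib.TensorMod.Pullback Groth.Agent.Lib.Ample Groth.Agent.Lib.Ample.GenLocus Groth.Agent.Lib.Ample.Pow


/-- Over a quasi-separated base S, if X and Y carry ample invertible modules L and N, then the tensor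
product of their pullbacks along the two projections is an ample invertible module on the fibre
product of X and Y over S. -/
theorem result {X Y S : Scheme.{u}} [QuasiSeparatedSpace S]
    (f : X ⟶ S) (g : Y ⟶ S) (L : X.Modules) (N : Y.Modules) (hL : CohB1.IsAmple L) (hN : CohB1.IsAmple N) :
    CohB1.IsAmple (CohB1.tensorMod ((Scheme.Modules.pullback (pullback.fst f g)).obj L)
      ((Scheme.Modules.pullback (pullback.snd f g)).obj N)) := by
  haveI := hL.2.1
  haveI := hN.2.1
  haveI := Groth.Agent.Lib.Ample.Pullback.quasiSeparatedSpace_of_isAmple hL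
  haveI := Groth.Agent.Lib.Ample.Pullback.quasiSeparatedSpace_of_isAmple hN
  let p := pullback.fst f g
  let q := pullback.snd f g
  refine Pow.isAmple_iff.2 ⟨Invertible.isInvertible_tensorMod (PicLoc.isInvertible_pullback _ hL.1)
    (PicLoc.isInvertible_pullback _ hN.1), inferInstance, fun z => ?_⟩
  obtain ⟨V, hV, hzV, -⟩ := exists_isAffineOpen_mem_and_subset (X := S) (x := f (p z)) (U := ⊤) trivial
  have hzV' : g (q z) ∈ V := by
    have e : f (p z) = g (q z) := by
      rw [← Scheme.Hom.comp_apply, ← Scheme.Hom.comp_apply, show p ≫ f = q ≫ g from pullback.condition]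
    exact e ▸ hzV
  obtain ⟨n, hn, s, hs, hsV, hsa⟩ := Basis.exists_locus_subset hL (x := p z) (U := f ⁻¹ᵁ V) hzV
  obtain ⟨m, hm, t, ht, htV, hta⟩ := Basis.exists_locus_subset hN (x := q z) (U := g ⁻¹ᵁ V) hzV'
  let s' : Coh.structureModule _ ⟶ CohB1.tensorPow L (n * m) := SecTwist.powHom s m ≫ (powMul L n m).hom
  let t' : Coh.structureModule _ ⟶ CohB1.tensorPow N (n * m) :=
    SecTwist.powHom t n ≫ (powMul N m n ≪≫ powCongr N (Nat.mul_comm m n)).hom
  have hs' : CohB1.genLocus _ s' = CohB1.genLocus _ s := by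
    rw [genLocus_comp_iso, genLocus_powHom (Invertible.isInvertible_tensorPow hL.1 n) s m hm]
  have ht' : CohB1.genLocus _ t' = CohB1.genLocus _ t := by
    rw [genLocus_comp_iso, genLocus_powHom (Invertible.isInvertible_tensorPow hN.1 m) t n hn]
  let σ := ((PicLoc.pullbackStructureIso p).inv ≫ (pb p).map s') ≫ (pullbackPow p L (n * m)).hom
  let τ := ((PicLoc.pullbackStructureIso q).inv ≫ (pb q).map t') ≫ (pullbackPow q N (n * m)).hom
  have hσ : CohB1.genLocus _ σ = p ⁻¹ᵁ CohB1.genLocus _ s := by
    rw [genLocus_comp_iso, ← hs']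
    exact genLocus_pullback p (Invertible.isInvertible_tensorPow hL.1 _) s'
      (PicLoc.pullbackStructureIso p).symm
  have hτ : CohB1.genLocus _ τ = q ⁻¹ᵁ CohB1.genLocus _ t := by
    rw [genLocus_comp_iso, ← ht']
    exact genLocus_pullback q (Invertible.isInvertible_tensorPow hN.1 _) t'
      (PicLoc.pullbackStructureIso q).symm
  have hloc : CohB1.genLocus _ (SecTwist.tmulHom σ τ) = p ⁻¹ᵁ CohB1.genLocus _ s ⊓ q ⁻¹ᵁ CohB1.genLocus _ t := by
    rw [genLocus_tmulHom (Invertible.isInvertible_tensorPow (PicLoc.isInvertible_pullback _ hL.1) _)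
      (Invertible.isInvertible_tensorPow (PicLoc.isInvertible_pullback _ hN.1) _), hσ, hτ]
  refine AffineAt.mk (Nat.mul_pos hn hm) (powTensor _ _ _).symm (SecTwist.tmulHom σ τ) ?_ ?_
  · rw [hloc]; exact ⟨hs, ht⟩
  rw [hloc]
  have hk : IsClosedImmersion (pullback.lift p q pullback.condition) := by
    have : pullback.lift p q pullback.condition = 𝟙 _ :=
      pullback.hom_ext (by rw [pullback.lift_fst, Category.id_comp]) (by rw [pullback.lift_snd, Category.id_comp])
    rw [this]; infer_instance
  exact (Groth.Agent.Lib.PProj.affine_and_gen p q f g pullback.condition hk hsa hta hV hsV htV).1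

end Groth.Agent.S9816
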