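import Groth.Statements.S9817
import Groth.Agent.Lib.ZeroCyc99.Twist
import Groth.Agent.Lib.Ample.Pow
import Groth.Agent.S9815

set_option autoImplicit false
universe u
open CategoryTheory CategoryTheory.Limits AlgebraicGeometry TopologicalSpace
open Props

namespace Groth.Agent.S9817

section

open CategoryTheory CategoryTheory.Limits AlgebraicGeometry TopologicalSpace
open Groth.Agent.Lib Groth.Agent.Lib.TensorMod Groth.Agent.Lib.TensorMod.Gen Groth.Agent.Lib.TensorMod.Free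
  Groth.Agent.Lib.TensorMod.HomGlue Groth.Agent.Lib.TensorMod.Pullback Groth.Agent.Lib.Ample.GenLocus
  Groth.Agent.Lib.ProjMor.Sec Groth.Agent.Lib.ProjTilde.Frac
open Groth.Agent.Lib.ProjMor.Frame (value value_smul)

/-- The locus of a pulled back section, when the module is invertible along the image. -/
theorem genLocus_pullback_of_locally {X Y : Scheme.{u}} (f : X ⟶ Y) {P : Y.Modules}
    (hP : ∀ x : X, ∃ (U : Y.Opens) (e : Γ(P, U)), f x ∈ U ∧ IsGen P U e) (s : Coh.structureModule Y ⟶ P) :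
    CohB1.genLocus _ ((PicLoc.pullbackStructureIso f).inv ≫ (pb f).map s) = f ⁻¹ᵁ CohB1.genLocus P s := by
  have key : ∀ (U : Y.Opens) (e : Γ(P, U)), IsGen P U e →
      CohB1.genLocus _ ((PicLoc.pullbackStructureIso f).inv ≫ (pb f).map s) ⊓ f ⁻¹ᵁ U =
        f ⁻¹ᵁ (CohB1.genLocus P s ⊓ U) := by
    intro U e he
    obtain ⟨a, ha⟩ := exists_coord he (sv s U)
    rw [genLocus_inf_eq he s ha, Scheme.preimage_basicOpen]
    refine genLocus_inf_eq (isGen_unitSec f he) _ ?_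
    rw [sv_pullback, ha, unitSec_smul]
  apply Opens.ext
  apply Set.ext
  intro x
  obtain ⟨U, e, hx, he⟩ := hP x
  have h1 := SetLike.ext_iff.1 (key U e he) x
  exact ⟨fun h => (h1.1 ⟨h, hx⟩).1, fun h => (h1.2 ⟨h, hx⟩).1⟩

variable {R A : Type u} [CommRing R] [CommRing A] [Algebra R A] (𝒜 : ℕ → Submodule R A) [GradedAlgebra 𝒜]

theorem mem_of_mem_locus {n : ℕ} (a c : 𝒜 n) {x : Proj 𝒜} (hc : (c : A) ∉ x.asHomogeneousIdeal)
    (hx : x ∈ locus (ZeroCyc99.Twist.gs a)) : x ∈ Proj.basicOpen 𝒜 (a : A) := by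
  intro ha
  obtain ⟨t, ht⟩ := exists_coord (isGen_locus (ZeroCyc99.Twist.gs a))
    (gl (ZeroCyc99.Twist.gs c) _)
  have h1 := congrArg (fun σ => value σ ⟨x, hx⟩) ht
  rw [value_smul, ZeroCyc99.Twist.value_globalOf, ZeroCyc99.Twist.value_globalOf] at h1
  obtain ⟨p, hp⟩ := HomogeneousLocalization.mk_surjective
    ((show Twist.O (𝒜 := 𝒜) (Opposite.op (locus (ZeroCyc99.Twist.gs a))) from t).1 ⟨x, hx⟩)
  have h3 := h1.trans (congrArg (fun z => HomogeneousLocalization.val z * _) hp.symm)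
  rw [HomogeneousLocalization.val_mk] at h3
  have h2 := h3.trans (Localization.mk_mul _ _ _ _)
  rw [Localization.mk_eq_mk_iff, Localization.r_iff_exists] at h2
  obtain ⟨w, hw⟩ := h2
  simp only [Submonoid.coe_mul, OneMemClass.coe_one, mul_one, one_mul] at hw
  have : (w : A) * ((p.den : A) * (c : A)) ∈ x.asHomogeneousIdeal.toIdeal := by
    rw [hw]
    exact Ideal.mul_mem_left _ _ (Ideal.mul_mem_left _ _ ha)
  exact (x.isPrime.mem_or_mem this).elim w.2 fun h => (x.isPrime.mem_or_mem h).elim p.den_mem hc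

/-- `O(d)` is ample on a finite union of `D₊(b)`, `b` of degree `d`. -/
theorem isAmple_on_union {d : ℕ} (hd : 0 < d) {ι : Type} [Finite ι] (b : ι → 𝒜 d) :
    CohB1.IsAmple ((Scheme.Modules.pullback (⨆ i, Proj.basicOpen 𝒜 (b i : A)).ι).obj
      (Twist.twist 𝒜 (d : ℤ))) := by
  let U : (Proj 𝒜).Opens := ⨆ i, Proj.basicOpen 𝒜 (b i : A)
  have hmem : ∀ x : (U : Scheme.{u}), ∃ i, U.ι x ∈ Proj.basicOpen 𝒜 (b i : A) := fun x =>
    Opens.mem_iSup.1 x.2
  have hloc : ∀ x : (U : Scheme.{u}), ∃ (V : (Proj 𝒜).Opens) (e : Γ(Twist.twist 𝒜 (d : ℤ), V)),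
      U.ι x ∈ V ∧ IsGen (Twist.twist 𝒜 (d : ℤ)) V e := fun x => by
    obtain ⟨i, hi⟩ := hmem x
    exact ⟨_, _, hi, ZeroCyc99.Twist.isGen_globalOf (b i)⟩
  have hcomp : CompactSpace (U : Scheme.{u}) := by
    refine isCompact_iff_compactSpace.1 ?_
    rw [show (U : Set (Proj 𝒜)) = ⋃ i, (Proj.basicOpen 𝒜 (b i : A) : Set (Proj 𝒜)) from Opens.coe_iSup _]
    exact isCompact_iUnion fun i => (Proj.isAffineOpen_basicOpen 𝒜 (b i : A) (b i).2 hd).isCompact
  refine Ample.Pow.isAmple_iff.2 ⟨isInvertible_iff.2 fun x => ?_, hcomp, fun x => ?_⟩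
  · obtain ⟨V, e, hx, he⟩ := hloc x
    exact ⟨_, _, hx, isGen_unitSec U.ι he⟩
  · obtain ⟨i, hi⟩ := hmem x
    obtain ⟨σ, hσ⟩ : ∃ σ, σ = (PicLoc.pullbackStructureIso U.ι).inv ≫
        (pb U.ι).map (Modules.Free.unitHom (Twist.twist 𝒜 (d : ℤ)) (ZeroCyc99.Twist.gs (b i))) := ⟨_, rfl⟩
    have hgl : CohB1.genLocus _ σ = U.ι ⁻¹ᵁ Proj.basicOpen 𝒜 (b i : A) := by
      rw [hσ, genLocus_pullback_of_locally U.ι hloc]
      apply Opens.ext
      apply Set.ext
      intro y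
      refine ⟨fun hy => ?_, fun hy => le_locus (ZeroCyc99.Twist.isGen_globalOf (b i)) hy⟩
      obtain ⟨k, hk⟩ := hmem y
      exact mem_of_mem_locus 𝒜 (b i) (b k) hk hy
    refine .mk one_pos (Ample.Pow.powOne _).symm σ ?_ ?_
    · rw [hgl]; exact hi
    · rw [hgl]
      exact (Proj.isAffineOpen_basicOpen 𝒜 (b i : A) (b i).2 hd).preimage_of_isOpenImmersion U.ι
        ((le_iSup (fun i => Proj.basicOpen 𝒜 (b i : A)) i).trans_eq (U.opensRange_ι).symm)

theorem exists_pos_notMem (x : ProjectiveSpectrum 𝒜) :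
    ∃ (e : ℕ) (a : A), 0 < e ∧ a ∈ 𝒜 e ∧ a ∉ x.asHomogeneousIdeal := by
  classical
  by_contra! hcon
  refine x.not_irrelevant_le fun z hz => ?_
  have hz0 : GradedRing.proj 𝒜 0 z = 0 := hz
  change z ∈ x.asHomogeneousIdeal.toIdeal
  rw [← DirectSum.sum_support_decompose 𝒜 z]
  refine Ideal.sum_mem _ fun i _ => ?_
  rcases Nat.eq_zero_or_pos i with rfl | hi
  · rw [GradedRing.proj_apply] at hz0
    rw [hz0]
    exact zero_mem _
  · exact hcon i _ hi (Subtype.mem _)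

theorem aux (X : Scheme.{u}) [CompactSpace X] (j : X ⟶ Proj 𝒜) [IsOpenImmersion j] :
    ∃ d : ℕ, 0 < d ∧ CohB1.IsAmple ((Scheme.Modules.pullback j).obj (Twist.twist 𝒜 (d : ℤ))) := by
  classical
  choose e a he hmem hnot using exists_pos_notMem 𝒜
  obtain ⟨T, hT⟩ := isCompact_univ.elim_finite_subcover
    (fun x : X => ((j ⁻¹ᵁ Proj.basicOpen 𝒜 (a (j x)) : X.Opens) : Set X)) (fun x => Opens.isOpen _)
    fun x _ => Set.mem_iUnion.2 ⟨x, hnot (j x)⟩
  refine ⟨∏ t : T, e (j t.1), Finset.prod_pos fun t _ => he _, ?_⟩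
  have hdvd : ∀ t : T, ∃ q, ∏ t : T, e (j t.1) = e (j t.1) * q := fun t =>
    Finset.dvd_prod_of_mem (fun t : T => e (j t.1)) (Finset.mem_univ t)
  choose q hq using hdvd
  let eT := T.equivFin
  let b : Fin T.card → 𝒜 (∏ t : T, e (j t.1)) := fun i =>
    ⟨a (j (eT.symm i).1) ^ q (eT.symm i), by
      rw [hq (eT.symm i), mul_comm]
      simpa using SetLike.pow_mem_graded (q (eT.symm i)) (hmem (j (eT.symm i).1))⟩
  let U : (Proj 𝒜).Opens := ⨆ i, Proj.basicOpen 𝒜 (b i : A)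
  have hrange : Set.range j ⊆ Set.range U.ι := by
    rw [Scheme.Opens.range_ι]
    rintro _ ⟨x, rfl⟩
    obtain ⟨t, ht, hxt⟩ := Set.mem_iUnion₂.1 (hT (Set.mem_univ x))
    refine Opens.mem_iSup.2 ⟨eT ⟨t, ht⟩, fun h => hxt ?_⟩
    have h' : a (j t) ^ q ⟨t, ht⟩ ∈ (j x).asHomogeneousIdeal.toIdeal := by simpa [b] using h
    exact (j x).isPrime.mem_of_pow_mem _ h'
  let l := IsOpenImmersion.lift U.ι j hrange
  have hl : l ≫ U.ι = j := IsOpenImmersion.lift_fac _ _ _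
  haveI : IsOpenImmersion l := by
    haveI : IsOpenImmersion (l ≫ U.ι) := by rw [hl]; infer_instance
    exact IsOpenImmersion.of_comp l U.ι
  refine Ample.Pow.isAmple_of_iso ?_ (Groth.Agent.S9815.result l l.isOpenEmbedding.isEmbedding _
    (isAmple_on_union 𝒜 (Finset.prod_pos fun t _ => he _) b))
  exact (Scheme.Modules.pullbackComp l U.ι).app _ ≪≫ (Scheme.Modules.pullbackCongr hl).app _

end

/-- For a quasi-compact scheme X admitting an open immersion j into Proj of a graded ring, some positive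
twist O(d) pulls back along j to an ample invertible module on X. -/
theorem result {R A : Type u} [CommRing R] [CommRing A]
    [Algebra R A] (𝒜 : ℕ → Submodule R A) [GradedAlgebra 𝒜] (X : Scheme.{u}) [CompactSpace X]
    (j : X ⟶ Proj 𝒜) [IsOpenImmersion j] :
    ∃ d : ℕ, 0 < d ∧ CohB1.IsAmple ((Scheme.Modules.pullback j).obj (Twist.twist 𝒜 (d : ℤ))) := by
  exact aux 𝒜 X j

end Groth.Agent.S9817
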