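import Groth.Statements.S9820
import Groth.Agent.Lib.CohDelta.FPApprox.Approx

set_option autoImplicit false
universe u
open CategoryTheory CategoryTheory.Limits AlgebraicGeometry TopologicalSpace Opposite
open Props

namespace Groth.Agent.S9820

open Groth.Agent.Lib Groth.Agent.Lib.CohDelta.FPApprox.Sections Groth.Agent.Lib.CohDelta.FPApprox.Approx
open CategoryTheory CategoryTheory.Limits AlgebraicGeometry TopologicalSpace Opposite
set_option linter.style.haveILetI false

/-- On a quasi-compact quasi-separated scheme, a quasi-coherent module of finite type which is of finite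
presentation over a quasi-compact open U is the quotient of a module of finite presentation by a
surjection which is an isomorphism over U. -/
theorem result {X : Scheme.{u}} [CompactSpace X]
    [QuasiSeparatedSpace X] (F : X.Modules) [Coh.IsQCoh F] (hF : CohB1.IsFT F) (U : X.Opens)
    (hU : IsCompact (U : Set X)) (hFU : CohB1.IsFP (F.restrict U.ι)) :
    ∃ (G : X.Modules) (φ : G ⟶ F), CohB1.IsFP G ∧ Epi φ ∧
      IsIso ((Scheme.Modules.restrictFunctor U.ι).map φ) := by
  haveI : F.IsQuasicoherent := ‹Coh.IsQCoh F›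
  obtain ⟨s, hsU, hs⟩ := exists_cover hU
  have hfp : ∀ W ∈ s, FPAt F W.1 := by
    intro W hW
    have e : U.ι ''ᵁ U.ι ⁻¹ᵁ W.1 = W.1 := by
      rw [Scheme.Hom.image_preimage_eq_opensRange_inf, Scheme.Opens.opensRange_ι]
      exact inf_eq_right.mpr (hsU W hW)
    have ha : IsAffineOpen (U.ι ⁻¹ᵁ W.1) := by
      rw [← U.ι.isAffineOpen_iff_of_isOpenImmersion, e]
      exact W.2
    exact (fp_restrict_iff U.ι F _ e).mp (fpAt_of_isFP hFU ha)
  obtain ⟨G₀, p, hG₀q, hG₀, hp⟩ := exists_epi_fp F hF
  haveI := hG₀q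
  haveI := hp
  obtain ⟨G, φ, hGq, hG, hφ, hbij⟩ := exists_quot hG₀ p s hfp
  haveI := hGq
  refine ⟨G, φ, hG, hφ, CohDelta.IdealMul.DevExt.isIso_restrict φ fun x hx => ?_⟩
  obtain ⟨W, hW, hxW⟩ := hs x hx
  exact stalk_bijective φ W.2 (hbij W hW) hxW

end Groth.Agent.S9820
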