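import Groth.Statements.S9822
import Mathlib.AlgebraicGeometry.Limits


set_option autoImplicit false
universe u
open CategoryTheory CategoryTheory.Limits AlgebraicGeometry TopologicalSpace Opposite
open Props

namespace Groth.Agent.S9822

/-- A scheme is irreducible if and only if it is nonempty and every nonempty affine open subset is
irreducible. -/
theorem result (X : Scheme.{u}) :
    IrreducibleSpace X ↔ Nonempty X ∧ ∀ U : X.Opens, IsAffineOpen U → (U : Set X).Nonempty → IsIrreducible (U : Set X) := by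
  refine ⟨fun h => ⟨h.toNonempty, fun U _ hne => ⟨hne, (PreirreducibleSpace.isPreirreducible_univ (X := X)).open_subset U.2 (Set.subset_univ _)⟩⟩, ?_⟩
  rintro ⟨hne, h⟩
  refine { toNonempty := hne, isPreirreducible_univ := ?_ }
  rintro u v hu hv ⟨a, -, ha⟩ ⟨b, -, hb⟩
  by_contra hc
  obtain ⟨U, hU, haU, hUu⟩ := exists_isAffineOpen_mem_and_subset (X := X) (x := a) (U := ⟨u, hu⟩) ha
  obtain ⟨V, hV, hbV, hVv⟩ := exists_isAffineOpen_mem_and_subset (X := X) (x := b) (U := ⟨v, hv⟩) hb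
  have hd : Disjoint U V := by
    rw [← Opens.coe_disjoint, Set.disjoint_left]
    exact fun w hwU hwV => hc ⟨w, trivial, hUu hwU, hVv hwV⟩
  have hne' : ((U ⊔ V : X.Opens) : Set X).Nonempty := ⟨a, Or.inl haU⟩
  obtain ⟨w, -, hwU, hwV⟩ := (h (U ⊔ V) (IsAffineOpen.sup_of_disjoint hU hV hd) hne').2 U V U.2 V.2
    ⟨a, Or.inl haU, haU⟩ ⟨b, Or.inr hbV, hbV⟩
  exact hc ⟨w, trivial, hUu hwU, hVv hwV⟩

end Groth.Agent.S9822
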