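import Groth.Statements.S9825
import Groth.Agent.Lib.TensorMod.FTCrit

set_option autoImplicit false
universe u
open CategoryTheory CategoryTheory.Limits AlgebraicGeometry TopologicalSpace Opposite
open Props

namespace Groth.Agent.S9825

/-- A quasi-coherent module on a scheme is finite locally free if and only if it is of finite type with
free stalks and locally constant fibre rank. -/
theorem result (X : Scheme.{u}) (M : X.Modules) [Coh.IsQCoh M] :
    FlatMod.IsFinLocFree M ↔ CohB1.IsFT M ∧ (∀ x : X, Module.Free (X.presheaf.stalk x) (M.presheaf.stalk x)) ∧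
      IsLocallyConstant (fun x : X => Module.finrank (IsLocalRing.ResidueField (X.presheaf.stalk x))
          (TensorProduct (X.presheaf.stalk x) (IsLocalRing.ResidueField (X.presheaf.stalk x)) (M.presheaf.stalk x))) := by
  constructor
  · intro h
    haveI := Groth.Agent.Lib.TensorMod.FPConv.isFP_of_isFinLocFree h
    haveI hft : CohB1.IsFT M := inferInstance
    exact ⟨hft, fun x => Groth.Agent.Lib.TensorMod.FPConv.free_stalk_of_isFinLocFree h x,
      Groth.Agent.Lib.TensorMod.FTCrit.isLocallyConstant_fibreRank h⟩
  · rintro ⟨hft, hfree, hc⟩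
    haveI := hft
    refine Groth.Agent.Lib.TensorMod.FTCrit.isFinLocFree_of_li hc fun n W s hn hsp y hy => ?_
    haveI := hfree y
    haveI := Groth.Agent.Lib.Modules.GenStalk.finite_stalk M y
    exact Groth.Agent.Lib.TensorMod.FTCrit.linearIndependent_of_span _ (hsp y hy)
      ((Groth.Agent.Lib.TensorMod.FTCrit.fibreRank_eq_finrank y).symm.trans (hn y hy))

end Groth.Agent.S9825
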