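import Groth.Statements.S9828
import Groth.Agent.Lib.CohDelta.FPApprox.Approx

set_option autoImplicit false
universe u
open CategoryTheory CategoryTheory.Limits AlgebraicGeometry TopologicalSpace Opposite
open Props

namespace Groth.Agent.S9828

open Groth.Agent.Lib Groth.Agent.Lib.CohDelta.FPApprox.Sections Groth.Agent.Lib.CohDelta.FPApprox.Approx
open Groth.Agent.Lib.CohDelta.IdealMul.Sec
open CategoryTheory CategoryTheory.Limits AlgebraicGeometry TopologicalSpace Opposite
set_option linter.style.haveILetI false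
attribute [local instance] HasFiniteBiproducts.of_hasFiniteProducts

variable {X : Scheme.{u}}

theorem main [CompactSpace X] [QuasiSeparatedSpace X] (F : X.Modules) [F.IsQuasicoherent]
    (hF : CohB1.IsFT F) :
    ∃ (J : Type u) (_ : PartialOrder J) (_ : IsDirected J (· ≤ ·)) (_ : Nonempty J) (D : J ⥤ X.Modules)
      (ι : D ⟶ (Functor.const J).obj F), Nonempty (IsColimit (Cocone.mk F ι)) ∧
      (∀ j, CohB1.IsFP (D.obj j)) ∧ ∀ (j j' : J) (h : j ⟶ j'), Epi (D.map h) := by
  classical
  obtain ⟨G₀, p, hG₀q, hG₀, hp⟩ := exists_epi_fp F hF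
  haveI := hG₀q
  haveI := hp
  let K := kernel p
  haveI : K.IsQuasicoherent := QCoh.Closure.isQCoh_kernel p
  haveI : Coh.IsQCoh K := ‹K.IsQuasicoherent›
  choose G i hi hGq hGf g hg using fun e : (Σ U : X.affineOpens, Γ(K, U.1)) =>
    Groth.Agent.S9819.result K e.1 e.2
  let E := Σ U : X.affineOpens, Γ(K, U.1)
  let A : (s : Finset E) → Fin s.card → X.Modules := fun s a => G (s.equivFin.symm a).1
  have hA : ∀ s, Coh.IsCoh (⨁ A s) := fun s =>
    CohDelta.IdealMul.DevExt.isCoh_biproduct (A s) fun a => ⟨hGq _, hGf _⟩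
  let d : (s : Finset E) → (⨁ A s) ⟶ G₀ := fun s =>
    biproduct.desc fun a => i (s.equivFin.symm a).1 ≫ kernel.ι p
  have hd : ∀ (s : Finset E) (e : E), e ∈ s → (i e ≫ kernel.ι p) ≫ cokernel.π (d s) = 0 := by
    intro s e he
    have key : ∀ a : Fin s.card, (i (s.equivFin.symm a).1 ≫ kernel.ι p) ≫ cokernel.π (d s) = 0 :=
      fun a => by
        have h1 : biproduct.ι (A s) a ≫ d s = i (s.equivFin.symm a).1 ≫ kernel.ι p :=
          biproduct.ι_desc _ _
        rw [← h1, Category.assoc, cokernel.condition, comp_zero]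
    have h2 := key (s.equivFin ⟨e, he⟩)
    rwa [Equiv.symm_apply_apply] at h2
  have hmap : ∀ {s t : Finset E}, s ≤ t → d s ≫ cokernel.π (d t) = 0 := fun {s t} h =>
    biproduct.hom_ext' _ _ fun a => by
      rw [← Category.assoc, biproduct.ι_desc, comp_zero]
      exact hd t _ (h (s.equivFin.symm a).2)
  let D : Finset E ⥤ X.Modules :=
    { obj := fun s => cokernel (d s)
      map := fun {s t} f => cokernel.desc (d s) (cokernel.π (d t)) (hmap (leOfHom f))
      map_id := fun s => (cancel_epi (cokernel.π (d s))).mp (by simp)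
      map_comp := fun {s _ _} _ _ => (cancel_epi (cokernel.π (d s))).mp (by simp) }
  have hdp : ∀ s, d s ≫ p = 0 := fun s => biproduct.hom_ext' _ _ fun a => by
    rw [← Category.assoc, biproduct.ι_desc, Category.assoc, kernel.condition, comp_zero, comp_zero]
  let ι : D ⟶ (Functor.const (Finset E)).obj F :=
    { app := fun s => cokernel.desc (d s) p (hdp s)
      naturality := fun s t f => by
        dsimp [D]
        refine (cancel_epi (cokernel.π (d s))).mp ?_
        simp }
  have hc : ∀ (c : Cocone D) (s : Finset E),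
      cokernel.π (d s) ≫ c.ι.app s = cokernel.π (d ∅) ≫ c.ι.app ∅ := fun c s => by
    rw [← c.w (homOfLE (Finset.empty_subset s) : (∅ : Finset E) ⟶ s)]
    exact (cokernel.π_desc_assoc _ _ _ _).symm
  have hker : ∀ c : Cocone D, kernel.ι p ≫ cokernel.π (d ∅) ≫ c.ι.app ∅ = 0 := fun c => by
    refine eq_zero_of_cover _ fun x => ?_
    obtain ⟨W, hW, hx, -⟩ := exists_isAffineOpen_mem_and_subset (U := (⊤ : X.Opens)) (x := x) trivial
    refine ⟨W, hW, hx, fun v => ?_⟩
    let e : E := ⟨⟨W, hW⟩, v⟩
    have h0 : i e ≫ kernel.ι p ≫ cokernel.π (d ∅) ≫ c.ι.app ∅ = 0 := by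
      rw [← hc c {e}, ← Category.assoc, ← Category.assoc, hd {e} e (Finset.mem_singleton_self e),
        zero_comp]
    have hv : (i e).app W (g e) = v := hg e
    rw [← hv]
    exact congrArg (fun φ : G e ⟶ c.pt => φ.app W (g e)) h0
  refine ⟨Finset E, inferInstance, inferInstance, inferInstance, D, ι, ⟨?_⟩, fun s => ?_,
    fun s t f => ?_⟩
  · exact
      { desc := fun c => Abelian.epiDesc p (cokernel.π (d ∅) ≫ c.ι.app ∅) (hker c)
        fac := fun c s => by
          refine (cancel_epi (cokernel.π (d s))).mp ?_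
          show cokernel.π (d s) ≫ cokernel.desc (d s) p (hdp s) ≫ _ = _
          rw [cokernel.π_desc_assoc, Abelian.comp_epiDesc, hc c s]
        uniq := fun c m hm => by
          rw [← cancel_epi p, Abelian.comp_epiDesc, ← hm ∅]
          exact (cokernel.π_desc_assoc _ _ _ _).symm }
  · show CohB1.IsFP (cokernel (d s))
    haveI := (hA s).1
    haveI := QCoh.Closure.isQCoh_cokernel (d s)
    refine isFP_of_fpAt fun x => ?_
    obtain ⟨W, hW, hx, -⟩ := exists_isAffineOpen_mem_and_subset (U := (⊤ : X.Opens)) (x := x) trivial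
    exact ⟨W, hW, hx, fpAt_cokernel (d s) hW (CohBasics.Closure.finite_sections (hA s) hW) (fpAt_of_isFP hG₀ hW)⟩
  · show Epi (cokernel.desc (d s) (cokernel.π (d t)) _)
    infer_instance

/-- On a quasi-compact quasi-separated scheme, a quasi-coherent module of finite type is a directed
colimit of modules of finite presentation with surjective transition maps. -/
theorem result {X : Scheme.{u}} [CompactSpace X]
    [QuasiSeparatedSpace X] (F : X.Modules) [Coh.IsQCoh F] (hF : CohB1.IsFT F) :
    ∃ (J : Type u) (_ : PartialOrder J) (_ : IsDirected J (· ≤ ·)) (_ : Nonempty J) (D : J ⥤ X.Modules)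
      (ι : D ⟶ (Functor.const J).obj F), Nonempty (IsColimit (Cocone.mk F ι)) ∧
      (∀ j, CohB1.IsFP (D.obj j)) ∧ ∀ (j j' : J) (h : j ⟶ j'), Epi (D.map h) := by
  haveI : F.IsQuasicoherent := ‹Coh.IsQCoh F›
  exact main F hF

end Groth.Agent.S9828
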