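import Groth.Statements.S9831
import Groth.Agent.Lib.CohDelta.IdealMul.DevTools
import Groth.Agent.Lib.Modules.ExtendFT
import Groth.Agent.Lib.QCoh.Pushforward

set_option autoImplicit false
universe u
open CategoryTheory CategoryTheory.Limits AlgebraicGeometry TopologicalSpace Opposite
open Props

namespace Groth.Agent.S9831

open Groth.Agent.Lib Groth.Agent.Lib.Modules.StalkModule Groth.Agent.Lib.CohDelta.IdealMul
open CategoryTheory CategoryTheory.Limits AlgebraicGeometry TopologicalSpace Opposite
set_option linter.style.haveILetI false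

theorem quasiCompact_ι {X : Scheme.{u}} [QuasiSeparatedSpace X] {U : X.Opens}
    (hU : IsCompact (U : Set X)) : QuasiCompact U.ι := by
  refine ⟨fun V hV hV' => ?_⟩
  rw [U.ι.isOpenEmbedding.isInducing.isCompact_iff, Set.image_preimage_eq_inter_range,
    Scheme.Opens.range_ι, Set.inter_comm]
  exact QuasiSeparatedSpace.inter_isCompact _ _ U.2 hU hV hV'

/-- On a quasi-compact quasi-separated scheme, a quasi-coherent module of finite type on a quasi-compact
open U is the restriction of a quasi-coherent module of finite type on the whole scheme. -/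
theorem result {X : Scheme.{u}} [CompactSpace X]
    [QuasiSeparatedSpace X] (U : X.Opens) (hU : IsCompact (U : Set X)) (G : (U : Scheme.{u}).Modules)
    [Coh.IsQCoh G] (hG : CohB1.IsFT G) :
    ∃ G' : X.Modules, Coh.IsQCoh G' ∧ CohB1.IsFT G' ∧ Nonempty (G'.restrict U.ι ≅ G) := by
  haveI : G.IsQuasicoherent := ‹Coh.IsQCoh G›
  haveI := quasiCompact_ι hU
  haveI : ((Scheme.Modules.pushforward U.ι).obj G).IsQuasicoherent :=
    QCoh.Pushforward.isQCoh_pushforward U.ι (M := G)
  obtain ⟨G', i, e, -, hG'q, hG'f, -⟩ := Modules.ExtendFT.exists_extension_of_qcqs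
    (F := (Scheme.Modules.pushforward U.ι).obj G) U hU G
    ((asIso ((Scheme.Modules.restrictAdjunction U.ι).counit)).inv.app G) hG
  exact ⟨G', hG'q, hG'f, ⟨e⟩⟩

end Groth.Agent.S9831
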