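import Groth.Statements.S9832
import Mathlib

set_option autoImplicit false
universe u
open Props

namespace Groth.Agent.S9832

theorem isMaximal_of_forall_mem {A : Type u} [CommRing A] [IsDomain A] [IsNoetherianRing A] {h : A} (hh0 : h ≠ 0)
    (hh : ∀ Q : Ideal A, Q.IsPrime → Q ≠ ⊥ → h ∈ Q) {Q : Ideal A} [Q.IsPrime] (hQ : Q ≠ ⊥) : Q.IsMaximal := by
  have key : ∀ Q : Ideal A, Q.IsPrime → Q ≠ ⊥ → Q ∈ (Ideal.span {h}).minimalPrimes := by
    intro Q hQp hQ0
    have hmin : ∀ P : Ideal A, P ∈ (Ideal.span {h}).minimalPrimes → P.IsPrime := fun P hP => hP.isPrime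
    have hsub : (Q : Set A) ⊆ ⋃ P ∈ (Ideal.span {h}).minimalPrimes, (P : Set A) := by
      intro x hx
      by_cases hx0 : x = 0
      · obtain ⟨P, hP, -⟩ := Ideal.exists_minimalPrimes_le ((Ideal.span_singleton_le_iff_mem _).mpr (hh Q hQp hQ0))
        exact Set.mem_biUnion hP (hx0 ▸ P.zero_mem)
      obtain ⟨P, hP, hPQ⟩ := Ideal.exists_minimalPrimes_le ((Ideal.span_singleton_le_iff_mem _).mpr hx : Ideal.span {x} ≤ Q)
      haveI := hP.isPrime
      have hxP : x ∈ P := (Ideal.span_singleton_le_iff_mem _).mp hP.1.2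
      have hP0 : P ≠ ⊥ := fun e => hx0 (by rw [e] at hxP; exact hxP)
      obtain ⟨P', hP', hP'P⟩ := Ideal.exists_minimalPrimes_le ((Ideal.span_singleton_le_iff_mem _).mpr (hh P hP.isPrime hP0))
      haveI := hP'.isPrime
      suffices P' = P from Set.mem_biUnion hP' (this ▸ hxP)
      by_contra hne
      have hlt : P' < P := lt_of_le_of_ne hP'P hne
      have h1 : P.height ≤ 1 := Ideal.height_le_one_of_isPrincipal_of_mem_minimalPrimes _ P hP
      haveI : P.FiniteHeight := P.finiteHeight_iff.mpr (Or.inr (ne_top_of_le_ne_top (by simp) h1))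
      have h2 := (Ideal.height_strict_mono_of_isPrime_of_isPrime hlt).trans_le h1
      rw [Order.lt_one_iff, Ideal.height_eq_zero_iff_eq_bot] at h2
      have h3 : h ∈ P' := (Ideal.span_singleton_le_iff_mem _).mp hP'.1.2
      rw [h2, Ideal.mem_bot] at h3
      exact hh0 h3
    obtain ⟨P, hP, hQP⟩ := (Ideal.subset_union_prime_finite (Ideal.finite_minimalPrimes_of_isNoetherianRing A (Ideal.span {h}))
      (f := fun P => P) ⊥ ⊥ (fun P hP _ _ => hmin P hP)).mp hsub
    obtain rfl : Q = P := le_antisymm hQP (hP.2 ⟨hQp, (Ideal.span_singleton_le_iff_mem _).mpr (hh Q hQp hQ0)⟩ hQP)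
    exact hP
  obtain ⟨m, hm, hle⟩ := Ideal.exists_le_maximal Q (Ideal.IsPrime.ne_top inferInstance)
  have hm0 : m ≠ ⊥ := fun e => hQ (le_bot_iff.mp (e ▸ hle))
  rw [le_antisymm hle ((key m hm.isPrime hm0).2 (key Q inferInstance hQ).1 hle)]
  exact hm

/-- For a Noetherian ring R and an ideal I inside the Jacobson radical of R, the complement of V(I) in
Spec R is a Jacobson topological space. -/
theorem result (R : Type u) [CommRing R] [IsNoetherianRing R]
    (I : Ideal R) (hI : I ≤ (⊥ : Ideal R).jacobson) :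
    JacobsonSpace ↥((PrimeSpectrum.zeroLocus (I : Set R))ᶜ) := by
  classical
  rw [jacobsonSpace_iff_locallyClosed]
  rintro Z ⟨p, hp⟩ ⟨O, C, hO, hC, rfl⟩
  obtain ⟨O', hO', rfl⟩ := isOpen_induced_iff.mp hO
  obtain ⟨_, ⟨g, rfl⟩, hgp, hgO⟩ :=
    PrimeSpectrum.isTopologicalBasis_basic_opens.exists_subset_of_mem_open hp.1 hO'
  obtain ⟨f, hfI, hfp⟩ : ∃ f ∈ I, f ∉ p.1.asIdeal := by
    have := p.2
    simp only [Set.mem_compl_iff, PrimeSpectrum.mem_zeroLocus, SetLike.coe_subset_coe] at this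
    exact SetLike.not_le_iff_exists.mp this
  have hfg : f * g ∉ p.1.asIdeal := fun h => (p.1.isPrime.mem_or_mem h).elim hfp hgp
  obtain ⟨q, ⟨hqp, hqh⟩, hmax⟩ := set_has_maximal_iff_noetherian.mpr (inferInstance : IsNoetherian R R)
    {q : Ideal R | q.IsPrime ∧ f * g ∉ q ∧ p.1.asIdeal ≤ q} ⟨_, p.1.isPrime, hfg, le_rfl⟩
  haveI := hqp
  let x : ↥((PrimeSpectrum.zeroLocus (I : Set R))ᶜ) := ⟨⟨q, hqp⟩, fun hI' => hqh.1 (Ideal.mul_mem_right _ q (hI' hfI))⟩
  refine ⟨x, ⟨hgO fun hg => hqh.1 (Ideal.mul_mem_left q _ hg), ?_⟩, ?_⟩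
  · obtain ⟨C', hC', rfl⟩ := isClosed_induced_iff.mp hC
    exact ((PrimeSpectrum.le_iff_specializes p.1 ⟨q, hqp⟩).mp hqh.2).mem_closed hC' hp.2
  · rw [mem_closedPoints_iff, isClosed_induced_iff]
    refine ⟨closure {x.1}, isClosed_closure, Set.ext fun y => ⟨fun hy => ?_, fun hy => subset_closure (by rw [hy]; rfl)⟩⟩
    rw [Set.mem_preimage, ← specializes_iff_mem_closure, ← PrimeSpectrum.le_iff_specializes] at hy
    by_contra hne
    have hlt : q < y.1.asIdeal := lt_of_le_of_ne hy fun e => hne (Subtype.ext (PrimeSpectrum.ext e.symm))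
    refine y.2 fun i hi => ?_
    haveI := y.1.isPrime
    let π := Ideal.Quotient.mk q
    have hker : RingHom.ker π ≤ y.1.asIdeal := Ideal.mk_ker.trans_le hy
    haveI : (y.1.asIdeal.map π).IsPrime := Ideal.map_isPrime_of_surjective Ideal.Quotient.mk_surjective hker
    have hne' : y.1.asIdeal.map π ≠ ⊥ := fun e => hlt.not_ge fun a ha =>
      Ideal.Quotient.eq_zero_iff_mem.mp (by rw [← Ideal.mem_bot, ← e]; exact Ideal.mem_map_of_mem π ha)
    have hM : (y.1.asIdeal.map π).IsMaximal := isMaximal_of_forall_mem (h := π (f * g)) (fun e => hqh.1 (Ideal.Quotient.eq_zero_iff_mem.mp e)) (fun Q hQ hQ0 => by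
      by_contra hn
      refine hmax (Q.comap π) ⟨Ideal.IsPrime.comap π, hn, hqh.2.trans fun a ha => ?_⟩ ?_
      · show π a ∈ Q
        rw [Ideal.Quotient.eq_zero_iff_mem.mpr ha]; exact Q.zero_mem
      · refine lt_of_le_of_ne (fun a ha => ?_) fun e => hQ0 ?_
        · show π a ∈ Q
          rw [Ideal.Quotient.eq_zero_iff_mem.mpr ha]; exact Q.zero_mem
        · rw [← Ideal.map_comap_of_surjective π Ideal.Quotient.mk_surjective Q, ← e, Ideal.map_quotient_self]) hne'
    have hM' := Ideal.comap_isMaximal_of_surjective π Ideal.Quotient.mk_surjective (H := hM)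
    rw [Ideal.comap_map_of_surjective' π Ideal.Quotient.mk_surjective, sup_eq_left.mpr hker] at hM'
    exact hI.trans (sInf_le ⟨bot_le, hM'⟩) hi

end Groth.Agent.S9832
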