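import Groth.Statements.S9834
import Groth.Agent.H18.NagataLocal
import Mathlib.AlgebraicGeometry.AffineScheme

set_option autoImplicit false
set_option linter.style.haveILetI false
universe u
open CategoryTheory AlgebraicGeometry TopologicalSpace
open Props

namespace Groth.Agent.S9834

/-- If a scheme has an affine open covering by spectra of universally Japanese rings, then the
coordinate ring of every affine open is universally Japanese. -/
theorem result (X : Scheme.{u}) {ι : Type u} (U : ι → X.Opens)
    (hU : iSup U = ⊤) (haff : ∀ i, IsAffineOpen (U i)) (hJ : ∀ i, CAlg.IsUniversallyJapanese Γ(X, U i))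
    (V : X.Opens) (hV : IsAffineOpen V) : CAlg.IsUniversallyJapanese Γ(X, V) := by
  refine AlgebraicGeometry.of_affine_open_cover
    (P := fun W : X.affineOpens => CAlg.IsUniversallyJapanese Γ(X, W.1))
    (fun i => (⟨U i, haff i⟩ : X.affineOpens)) hU ⟨V, hV⟩ (fun W f hW => ?_) (fun W s hs hW => ?_) hJ
  · haveI := W.2.isLocalization_basicOpen f
    change CAlg.IsUniversallyJapanese Γ(X, X.basicOpen f)
    intro S _ _ _ hS
    letI : Algebra Γ(X, W.1) S :=
      ((algebraMap Γ(X, X.basicOpen f) S).comp (algebraMap Γ(X, W.1) Γ(X, X.basicOpen f))).toAlgebra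
    haveI : IsScalarTower Γ(X, W.1) Γ(X, X.basicOpen f) S := IsScalarTower.of_algebraMap_eq' rfl
    haveI : Algebra.FiniteType Γ(X, W.1) Γ(X, X.basicOpen f) :=
      IsLocalization.finiteType_of_monoid_fg (Submonoid.powers f) _
    exact hW S (Algebra.FiniteType.trans inferInstance hS)
  · refine Groth.Agent.H18.NagataLocal.isUniversallyJapanese_of_cover (ι := (s : Set Γ(X, W.1))) (fun f => f.1)
      (by rw [Subtype.range_coe]; exact hs) fun f => ?_
    haveI := W.2.isLocalization_basicOpen f.1
    intro S _ _ _ hS
    let e := (IsLocalization.algEquiv (Submonoid.powers f.1) Γ(X, X.basicOpen f.1)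
      (Localization.Away f.1)).toRingEquiv
    letI : Algebra Γ(X, X.basicOpen f.1) S :=
      ((algebraMap (Localization.Away f.1) S).comp e.toRingHom).toAlgebra
    have hW' : CAlg.IsUniversallyJapanese Γ(X, X.basicOpen f.1) := hW ⟨f.1, f.2⟩
    refine hW' S ?_
    exact RingHom.finiteType_algebraMap.1 ((RingHom.finiteType_algebraMap.2 hS).comp
      (RingHom.FiniteType.of_surjective _ e.surjective))

end Groth.Agent.S9834
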