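import Groth.Statements.S9835
import Groth.Agent.H18.NagataLocal
import Groth.Agent.Lib.Excellent.Nagata
import Mathlib.AlgebraicGeometry.AffineScheme
import Mathlib.AlgebraicGeometry.FunctionField

set_option autoImplicit false
set_option linter.style.haveILetI false
universe u
open CategoryTheory AlgebraicGeometry TopologicalSpace
open Props

namespace Groth.Agent.S9835

/-- If an integral scheme has an affine open covering by spectra of Japanese (N-2) domains, then the
coordinate ring of every nonempty affine open is a Japanese domain. -/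
theorem result (X : Scheme.{u}) [IsIntegral X] {ι : Type u}
    (U : ι → X.Opens) [∀ i, Nonempty (U i)] (hU : iSup U = ⊤) (haff : ∀ i, IsAffineOpen (U i))
    (hJ : ∀ i, CAlg.IsN2 Γ(X, U i)) (V : X.Opens) [Nonempty V] (hV : IsAffineOpen V) :
    CAlg.IsN2 Γ(X, V) := by
  have h := AlgebraicGeometry.of_affine_open_cover
    (P := fun W : X.affineOpens => ∀ [Nonempty W.1], CAlg.IsN2 Γ(X, W.1))
    (fun i => (⟨U i, haff i⟩ : X.affineOpens)) hU ⟨V, hV⟩ (fun W f hW => ?_) (fun W s hs hW hne => ?_)
    (fun i _ => hJ i)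
  · exact h
  · intro (hne : Nonempty (X.basicOpen f : X.Opens))
    change CAlg.IsN2 Γ(X, X.basicOpen f)
    haveI : Nonempty W.1 := ⟨⟨hne.some.1, X.basicOpen_le f hne.some.2⟩⟩
    haveI := W.2.isLocalization_basicOpen f
    exact Groth.Agent.Lib.Excellent.Nagata.isN2_of_isLocalization (R' := Γ(X, X.basicOpen f))
      (Submonoid.powers f) hW
  · refine Groth.Agent.H18.NagataLocal.isN2_of_cover' (ι := (s : Set Γ(X, W.1))) (fun f => f.1)
      (by rw [Subtype.range_coe]; exact hs) fun f hf => ?_
    haveI := W.2.isLocalization_basicOpen f.1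
    haveI : Nonempty (X.basicOpen f.1 : X.Opens) := by
      by_contra hn
      refine hf ((AlgebraicGeometry.basicOpen_eq_bot_iff f.1).1 (TopologicalSpace.Opens.ext ?_))
      refine Set.eq_empty_of_forall_notMem fun x hx => hn ⟨⟨x, hx⟩⟩
    haveI : Nonempty (X.affineBasicOpen f.1).1 := ‹Nonempty (X.basicOpen f.1 : X.Opens)›
    exact ⟨Γ(X, X.basicOpen f.1), inferInstance, inferInstance, inferInstance, inferInstance,
      @hW ⟨f.1, f.2⟩ ‹_›⟩

end Groth.Agent.S9835
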