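import Groth.Statements.S9836
import Groth.Agent.Lib.DerivedOX.ProjClosed
import Groth.Agent.Lib.DerivedOX.PullTensor
import Groth.Agent.Lib.WayOut.Scheme
import Groth.Agent.Lib.HomFP.QCoh
import Groth.Agent.Lib.Exchange.HomAdj
import Groth.Agent.Lib.TensorMod.FPConv

set_option autoImplicit false
universe u
open CategoryTheory CategoryTheory.Limits AlgebraicGeometry
open Props

namespace Groth.Agent.S9836

section Helpers

open Groth.Agent.Lib Groth.Agent.Lib.TensorMod.Basic

variable {Z X : Scheme.{u}} (i : Z ⟶ X) [IsClosedImmersion i]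

noncomputable def projCommIso (T : X.Modules) :
    CohB1.tensorMod ((Scheme.Modules.pushforward i).obj (Coh.structureModule Z)) T ≅
      (Scheme.Modules.pushforward i).obj ((Scheme.Modules.pullback i).obj T) :=
  comm _ T ≪≫ @asIso _ _ _ _ (Modules.ProjFormula.theta i T (Coh.structureModule Z))
    (DerivedOX.ProjClosed.isIso_theta i T _) ≪≫
      (Scheme.Modules.pushforward i).mapIso (rightUnit _)

open Groth.Agent.Lib.Modules.TensorSec in
open Groth.Agent.Lib.TensorMod.Pullback (pb pf unitSec unitSec_natural) in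
theorem theta_natural_left {E E' : X.Modules} (a : E ⟶ E') (F : Z.Modules) :
    tmap a (𝟙 ((pf i).obj F)) ≫ Modules.ProjFormula.theta i E' F =
      Modules.ProjFormula.theta i E F ≫ (pf i).map (tmap ((pb i).map a) (𝟙 F)) := by
  refine TensorMod.Free.hom_ext_pairM fun V x m => ?_
  rw [← app_tens, ← app_tens]
  change (Modules.ProjFormula.theta i E' F).app V ((tmap a (𝟙 _)).app V (tens x m)) =
    (tmap ((pb i).map a) (𝟙 F)).app (i ⁻¹ᵁ V) ((Modules.ProjFormula.theta i E F).app V (tens x m))
  rw [tmap_tens, Modules.ProjFormula.theta_tens, Modules.ProjFormula.theta_tens, unitSec_natural]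
  exact (tmap_tens ((pb i).map a) (𝟙 F) (U := i ⁻¹ᵁ V) (unitSec i E x)
    (show Γ(F, i ⁻¹ᵁ V) from m)).symm

theorem projCommIso_natural {T' T : X.Modules} (h : T' ⟶ T) :
    tmap (𝟙 ((Scheme.Modules.pushforward i).obj (Coh.structureModule Z))) h ≫
        (projCommIso i T).hom =
      (projCommIso i T').hom ≫
        (Scheme.Modules.pushforward i).map ((Scheme.Modules.pullback i).map h) := by
  simp only [projCommIso, Iso.trans_hom, asIso_hom, Functor.mapIso_hom]
  refine (comm_natural_assoc _ h _).trans ((congrArg ((comm _ T').hom ≫ ·) ?_).trans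
    (Category.assoc _ _ _).symm)
  refine (Category.assoc _ _ _).symm.trans ((congrArg (· ≫ _) (theta_natural_left i h _)).trans ?_)
  refine (Category.assoc _ _ _).trans (Eq.trans ?_ (Category.assoc _ _ _).symm)
  refine congrArg (_ ≫ ·) ?_
  exact ((Scheme.Modules.pushforward i).map_comp _ _).symm.trans
    ((congrArg (Scheme.Modules.pushforward i).map (rightUnit_natural _)).trans
      ((Scheme.Modules.pushforward i).map_comp _ _))

theorem isFP_structureModule (X : Scheme.{u}) : CohB1.IsFP (Coh.structureModule X) :=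
  TensorMod.FPConv.isFP_of_isFinLocFree fun _ => ⟨⊤, 1, trivial,
    ⟨(Scheme.Modules.restrictFunctor _).mapIso (TensorMod.LocFree.freeModOneIso X).symm ≪≫
      TensorMod.LocFree.restrictFreeModIso _ 1⟩⟩

theorem nonempty_pushforward_homO_iso [Dual3.HasHomO i] (F : X.Modules) :
    Nonempty ((Scheme.Modules.pushforward i).obj ((Dual3.homO i).obj F) ≅
      _root_.RefHull.homSh ((Scheme.Modules.pushforward i).obj (Coh.structureModule Z)) F) := by
  let adj := (Scheme.Modules.pullbackPushforwardAdjunction i).comp (Dual3.homOAdj i)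
  let E : ∀ T : X.Modules,
      (T ⟶ (Scheme.Modules.pushforward i).obj ((Dual3.homO i).obj F)) ≃
        (T ⟶ _root_.RefHull.homSh ((Scheme.Modules.pushforward i).obj (Coh.structureModule Z)) F) :=
    fun T => ((adj.homEquiv T F).symm.trans
      (Iso.homCongr (projCommIso i T).symm (Iso.refl F))).trans
        (ZarCoh.Exchange.HomAdj.homEquiv _ F T)
  refine ⟨Yoneda.ext _ _ (fun {T} t => E T t) (fun {T} t => (E T).symm t)
    (fun t => (E _).symm_apply_apply t) (fun t => (E _).apply_symm_apply t) ?_⟩
  intro T T' h t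
  show ZarCoh.Exchange.HomAdj.homEquiv _ F T' _ = h ≫ ZarCoh.Exchange.HomAdj.homEquiv _ F T _
  rw [← ZarCoh.Exchange.HomAdj.homEquiv_natural]
  refine congrArg _ ?_
  simp only [Iso.homCongr_apply, Equiv.trans_apply, Iso.symm_inv, Iso.refl_hom, Category.comp_id]
  rw [Adjunction.homEquiv_naturality_left_symm]
  exact (Category.assoc _ _ _).symm.trans
    ((congrArg (· ≫ _) (projCommIso_natural i h).symm).trans (Category.assoc _ _ _))

end Helpers

/-- For a closed immersion i : Z → X with ideal sheaf of finite type and a quasi-coherent O_X-module F,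
the subsheaf of sections of F annihilated by the ideal, namely i_* Hom(O_Z, F) for the right adjoint
Hom(O_Z, -) of i_*, is a quasi-coherent O_X-module. -/
theorem result {Z X : Scheme.{u}} (i : Z ⟶ X)
    [IsClosedImmersion i] [LocallyOfFinitePresentation i] [Dual3.HasHomO i] (F : X.Modules) [Coh.IsQCoh F] :
    Coh.IsQCoh ((Scheme.Modules.pushforward i).obj ((Dual3.homO i).obj F)) := by
  haveI : IsFinite i := inferInstance
  obtain ⟨e⟩ := nonempty_pushforward_homO_iso i F
  refine (Groth.Agent.Lib.WayOut.Scheme.qc X).prop_of_iso e.symm ?_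
  haveI := Groth.Agent.H26.FreeCrit.isQuasicoherent_of_isFP (isFP_structureModule Z)
  exact Groth.Agent.Lib.HomFP.isQCoh_homSh_of_isFP
    ((Groth.Agent.Lib.DescAlg.FPPush.isFP_pushforward_iff i _).1
      (isFP_structureModule Z)) inferInstance

end Groth.Agent.S9836
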