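import Groth.Statements.S9837
import Groth.Agent.Lib.DerivedOX.PullbackStalk
import Groth.Agent.Lib.Modules.GenStalk
import Groth.Agent.H30.FSch.CohCons
import Mathlib.RingTheory.Flat.FaithfullyFlat.Algebra

set_option autoImplicit false
universe u
open CategoryTheory CategoryTheory.Limits AlgebraicGeometry Opposite
open Desc

namespace Groth.Agent.S9837

open Groth.Agent.Lib Groth.Agent.Lib.Modules StalkModule DerivedOX.PullbackStalk TopologicalSpace

open scoped TensorProduct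

variable {X Y : Scheme.{u}} (f : X ⟶ Y) (F : Y.Modules)

local notation "pb" => Scheme.Modules.pullback f

/-- The pulled back section. -/
noncomputable def eta {U : Y.Opens} (t : Γ(F, U)) : Γ((pb).obj F, f ⁻¹ᵁ U) :=
  ((Scheme.Modules.pullbackPushforwardAdjunction f).unit.app F).app U t

theorem comparison_germ (x : X) {U : Y.Opens} (hx : f.base x ∈ U) (t : Γ(F, U)) :
    letI : Algebra (Y.presheaf.stalk (f.base x)) (X.presheaf.stalk x) := (f.stalkMap x).hom.toAlgebra
    (comparison f x).app F ((1 : X.presheaf.stalk x) ⊗ₜ[Y.presheaf.stalk (f.base x)]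
        F.presheaf.germ U (f.base x) hx t) =
      ((pb).obj F).presheaf.germ (f ⁻¹ᵁ U) x hx (eta f F t) := by
  refine (comparison_one_tmul f x F _).trans ?_
  refine (congrArg (pushStalkMap f x _) (stalkMapₗ_germ _ hx t)).trans ?_
  exact pushStalkMap_germ f x _ hx _

theorem span_eta (x : X) :
    Submodule.span (X.presheaf.stalk x)
      {v : ((pb).obj F).presheaf.stalk x | ∃ (U : Y.Opens) (hx : f.base x ∈ U) (t : Γ(F, U)),
        v = ((pb).obj F).presheaf.germ (f ⁻¹ᵁ U) x hx (eta f F t)} = ⊤ := by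
  letI : Algebra (Y.presheaf.stalk (f.base x)) (X.presheaf.stalk x) := (f.stalkMap x).hom.toAlgebra
  let φ : X.presheaf.stalk x ⊗[Y.presheaf.stalk (f.base x)] F.presheaf.stalk (f.base x) →ₗ[X.presheaf.stalk x]
      ((pb).obj F).presheaf.stalk x := ((comparison f x).app F).hom
  have hb : Function.Bijective φ :=
    ConcreteCategory.bijective_of_isIso ((comparison f x).app F)
  refine eq_top_iff.2 fun w _ => ?_
  obtain ⟨z, rfl⟩ := hb.2 w
  clear hb
  induction z using TensorProduct.induction_on with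
  | zero => rw [map_zero]; exact Submodule.zero_mem _
  | tmul c a =>
    obtain ⟨U, hx, t, rfl⟩ := TopCat.Presheaf.exists_germ_eq F.presheaf a
    have he : (c ⊗ₜ[Y.presheaf.stalk (f.base x)] F.presheaf.germ U (f.base x) hx t) =
        c • ((1 : X.presheaf.stalk x) ⊗ₜ[Y.presheaf.stalk (f.base x)] F.presheaf.germ U (f.base x) hx t) := by
      rw [TensorProduct.smul_tmul', smul_eq_mul, mul_one]
    rw [he, map_smul]
    exact Submodule.smul_mem _ c (Submodule.subset_span ⟨U, hx, t, comparison_germ f F x hx t⟩)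
  | add a b ha hb' => rw [map_add]; exact Submodule.add_mem _ (ha trivial) (hb' trivial)

theorem exists_gens [Flat f] (hf : IsOpenMap f.base)
    [SheafOfModules.IsFiniteType (R := X.ringCatSheaf) ((pb).obj F)] (x : X) :
    ∃ (U : Y.Opens) (n : ℕ) (t : Fin n → Γ(F, U)), f.base x ∈ U ∧ ∀ (y : Y) (hy : y ∈ U),
      Submodule.span (Y.presheaf.stalk y) (Set.range fun i => F.presheaf.germ U y hy (t i)) = ⊤ := by
  classical
  set G := ((pb).obj F) with hG
  obtain ⟨V, hxV, m, s, hs⟩ := GenStalk.exists_span_stalk_of_isFiniteType G x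
  set S := {v : G.presheaf.stalk x | ∃ (U : Y.Opens) (hx : f.base x ∈ U) (t : Γ(F, U)),
        v = G.presheaf.germ (f ⁻¹ᵁ U) x hx (eta f F t)}
  have hmem : ∀ i, ∃ T : Finset (G.presheaf.stalk x), (T : Set _) ⊆ S ∧
      G.presheaf.germ V x hxV (s i) ∈ Submodule.span (X.presheaf.stalk x) (T : Set _) := fun i =>
    Submodule.mem_span_finite_of_mem_span (S := S) (by rw [span_eta f F x]; trivial)
  choose T hTS hsT using hmem
  let T' := Finset.univ.biUnion T
  have hT' : ∀ v : T', v.1 ∈ S := fun v => by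
    obtain ⟨i, -, hv⟩ := Finset.mem_biUnion.1 v.2
    exact hTS i hv
  choose U hU t ht using hT'
  obtain ⟨U₀, hxU₀, hU₀⟩ : ∃ U₀ : Y.Opens, f.base x ∈ U₀ ∧ ∀ v, U₀ ≤ U v :=
    ⟨Finset.univ.inf U, by
      rw [← SetLike.mem_coe, Opens.coe_finset_inf, Finset.inf_eq_iInf]
      simp only [Set.iInf_eq_iInter, Set.mem_iInter, Function.comp_apply]
      exact fun v _ => hU v, fun v => Finset.inf_le (Finset.mem_univ v)⟩
  let t₀ : T' → Γ(F, U₀) := fun v => F.presheaf.map (homOfLE (hU₀ v)).op (t v)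
  have ht₀ : ∀ v : T', v.1 = G.presheaf.germ (f ⁻¹ᵁ U₀) x hxU₀ (eta f F (t₀ v)) := fun v => by
    rw [← comparison_germ f F x hxU₀ (t₀ v)]
    simp only [t₀, TopCat.Presheaf.germ_res_apply]
    exact (ht v).trans (comparison_germ f F x (hU v) (t v)).symm
  -- each generator is near `x` a combination of pulled back sections
  have hloc : ∀ i, ∃ (W : X.Opens) (hWV : W ≤ V) (hWU : W ≤ f ⁻¹ᵁ U₀), x ∈ W ∧
      ∀ (z : X) (hz : z ∈ W), G.presheaf.germ V z (hWV hz) (s i) ∈
        Submodule.span (X.presheaf.stalk z)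
          (Set.range fun v => G.presheaf.germ (f ⁻¹ᵁ U₀) z (hWU hz) (eta f F (t₀ v))) := by
    intro i
    have h1 : G.presheaf.germ V x hxV (s i) ∈ Submodule.span (X.presheaf.stalk x)
        (Set.range fun v => G.presheaf.germ (f ⁻¹ᵁ U₀) x hxU₀ (eta f F (t₀ v))) := by
      refine Submodule.span_mono ?_ (hsT i)
      intro v hv
      exact ⟨⟨v, Finset.mem_biUnion.2 ⟨i, Finset.mem_univ _, hv⟩⟩, (ht₀ _).symm⟩
    obtain ⟨c, hc⟩ := (Submodule.mem_span_range_iff_exists_fun _).1 h1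
    choose A hA r hr using fun v => TopCat.Presheaf.exists_germ_eq X.presheaf (c v)
    obtain ⟨W₀, hxW₀, hW₀⟩ : ∃ W₀ : X.Opens, x ∈ W₀ ∧ ∀ v, W₀ ≤ A v :=
      ⟨Finset.univ.inf A, by
        rw [← SetLike.mem_coe, Opens.coe_finset_inf, Finset.inf_eq_iInf]
        simp only [Set.iInf_eq_iInter, Set.mem_iInter, Function.comp_apply]
        exact fun v _ => hA v, fun v => Finset.inf_le (Finset.mem_univ v)⟩
    let W₁ : X.Opens := W₀ ⊓ f ⁻¹ᵁ U₀
    let comb : Γ(G, W₁) := ∑ v,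
      X.presheaf.map (homOfLE ((inf_le_left : W₁ ≤ W₀).trans (hW₀ v))).op (r v) •
        G.presheaf.map (homOfLE (inf_le_right : W₁ ≤ f ⁻¹ᵁ U₀)).op (eta f F (t₀ v))
    have hgerm : ∀ (z : X) (hz : z ∈ W₁), G.presheaf.germ W₁ z hz comb =
        ∑ v, X.presheaf.germ (A v) z (hW₀ v hz.1) (r v) •
          G.presheaf.germ (f ⁻¹ᵁ U₀) z hz.2 (eta f F (t₀ v)) := fun z hz => by
      simp only [comb, map_sum]
      refine Finset.sum_congr rfl fun v _ => ?_
      rw [StalkModule.germ_smul, TopCat.Presheaf.germ_res_apply, TopCat.Presheaf.germ_res_apply]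
    have he : G.presheaf.germ V x hxV (s i) = G.presheaf.germ W₁ x ⟨hxW₀, hxU₀⟩ comb := by
      refine hc.symm.trans ((Finset.sum_congr rfl fun v _ => ?_).trans (hgerm x ⟨hxW₀, hxU₀⟩).symm)
      exact congrArg (· • _) (hr v).symm
    obtain ⟨W, hxW, a, b, hab⟩ := TopCat.Presheaf.germ_eq G.presheaf x hxV (show x ∈ W₁ from ⟨hxW₀, hxU₀⟩) _ _ he
    refine ⟨W, a.le, b.le.trans inf_le_right, hxW, fun z hz => ?_⟩
    rw [← TopCat.Presheaf.germ_res_apply G.presheaf a z hz, hab,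
      TopCat.Presheaf.germ_res_apply, hgerm z (b.le hz)]
    exact Submodule.sum_mem _ fun v _ => Submodule.smul_mem _ _ (Submodule.subset_span ⟨v, rfl⟩)
  choose W hWV hWU hxW hWs using hloc
  obtain ⟨W₂, hxW₂, hW₂⟩ : ∃ W₂ : X.Opens, x ∈ W₂ ∧ (∀ i, W₂ ≤ W i) ∧ W₂ ≤ V ∧ W₂ ≤ f ⁻¹ᵁ U₀ :=
    ⟨Finset.univ.inf W ⊓ (V ⊓ f ⁻¹ᵁ U₀), ⟨by
      rw [Opens.coe_finset_inf, Finset.inf_eq_iInf]
      simp only [Set.iInf_eq_iInter, Set.mem_iInter, Function.comp_apply]
      exact fun v _ => hxW v, hxV, hxU₀⟩, fun i => inf_le_left.trans (Finset.inf_le (Finset.mem_univ i)),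
      inf_le_right.trans inf_le_left, inf_le_right.trans inf_le_right⟩
  obtain ⟨hW₂i, hW₂V, hW₂U⟩ := hW₂
  let U' : Y.Opens := ⟨f.base '' (W₂ : Set X), hf _ W₂.isOpen⟩
  have hle : U' ≤ U₀ := by
    rintro _ ⟨z, hz, rfl⟩
    exact hW₂U hz
  let e := T'.equivFin
  refine ⟨U', T'.card, fun j => F.presheaf.map (homOfLE hle).op (t₀ (e.symm j)), ⟨x, hxW₂, rfl⟩, ?_⟩
  intro y hy
  obtain ⟨z, hz, rfl⟩ := id hy
  set N := Submodule.span (Y.presheaf.stalk (f.base z))
    (Set.range fun j => F.presheaf.germ U' (f.base z) hy (F.presheaf.map (homOfLE hle).op (t₀ (e.symm j))))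
  letI : Algebra (Y.presheaf.stalk (f.base z)) (X.presheaf.stalk z) := (f.stalkMap z).hom.toAlgebra
  haveI : Module.Flat (Y.presheaf.stalk (f.base z)) (X.presheaf.stalk z) := Flat.stalkMap f z
  haveI : IsLocalHom (algebraMap (Y.presheaf.stalk (f.base z)) (X.presheaf.stalk z)) :=
    inferInstanceAs (IsLocalHom (f.stalkMap z).hom)
  haveI : Module.FaithfullyFlat (Y.presheaf.stalk (f.base z)) (X.presheaf.stalk z) :=
    Module.FaithfullyFlat.of_flat_of_isLocalHom
  have hb : Function.Bijective ((comparison f z).app F).hom :=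
    ConcreteCategory.bijective_of_isIso ((comparison f z).app F)
  let L : X.presheaf.stalk z ⊗[Y.presheaf.stalk (f.base z)] N →ₗ[X.presheaf.stalk z]
      G.presheaf.stalk z :=
    ((comparison f z).app F).hom.comp (N.subtype.baseChange (X.presheaf.stalk z))
  have hL : LinearMap.range L = ⊤ := by
    refine top_le_iff.1 ((hs z (hW₂V hz)).ge.trans (Submodule.span_le.2 ?_))
    rintro _ ⟨i, rfl⟩
    refine (Submodule.span_le.2 ?_ : _ ≤ LinearMap.range L) (hWs i z (hW₂i i hz))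
    rintro _ ⟨v, rfl⟩
    refine ⟨1 ⊗ₜ ⟨F.presheaf.germ U₀ (f.base z) (hW₂U hz) (t₀ v),
      Submodule.subset_span ⟨e v, by simp only [Equiv.symm_apply_apply, TopCat.Presheaf.germ_res_apply]⟩⟩, ?_⟩
    exact comparison_germ f F z (hW₂U hz) (t₀ v)
  have hsurj : Function.Surjective (LinearMap.lTensor (X.presheaf.stalk z) N.subtype) := fun w => by
    obtain ⟨q, hq⟩ := LinearMap.range_eq_top.1 hL (((comparison f z).app F).hom w)
    exact ⟨q, hb.1 hq⟩
  have hN := (Module.FaithfullyFlat.lTensor_surjective_iff_surjective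
    (Y.presheaf.stalk (f.base z)) (X.presheaf.stalk z) N.subtype).1 hsurj
  exact eq_top_iff.2 fun w _ => by
    obtain ⟨q, rfl⟩ := hN w
    exact q.2

theorem result {X Y : Scheme.{u}} (f : X ⟶ Y) [Flat f] [Surjective f]
    (hf : IsOpenMap f.base) (F : Y.Modules)
    (h : SheafOfModules.IsFiniteType (R := X.ringCatSheaf) ((Scheme.Modules.pullback f).obj F)) :
    SheafOfModules.IsFiniteType (R := Y.ringCatSheaf) F := by
  haveI := h
  refine Groth.Agent.H30.CohCons.isFiniteType_of_gen (M := F) fun y => ?_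
  obtain ⟨x, rfl⟩ := f.surjective y
  obtain ⟨U, n, t, hxU, ht⟩ := exists_gens f F hf x
  refine ⟨U, n, t, hxU, fun Z hZ s z hz => ?_⟩
  obtain ⟨c, hc⟩ := (Submodule.mem_span_range_iff_exists_fun _).1
    ((ht z (hZ hz)).ge (Submodule.mem_top (x := F.presheaf.germ Z z hz s)))
  choose A hA r hr using fun v => TopCat.Presheaf.exists_germ_eq Y.presheaf (c v)
  obtain ⟨W₀, hzW₀, hW₀⟩ : ∃ W₀ : Y.Opens, z ∈ W₀ ∧ ∀ v, W₀ ≤ A v :=
    ⟨Finset.univ.inf A, by
      rw [← SetLike.mem_coe, Opens.coe_finset_inf, Finset.inf_eq_iInf]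
      simp only [Set.iInf_eq_iInter, Set.mem_iInter, Function.comp_apply]
      exact fun v _ => hA v, fun v => Finset.inf_le (Finset.mem_univ v)⟩
  let W₁ : Y.Opens := W₀ ⊓ U
  let comb : Γ(F, W₁) := ∑ v,
    Y.presheaf.map (homOfLE ((inf_le_left : W₁ ≤ W₀).trans (hW₀ v))).op (r v) •
      F.presheaf.map (homOfLE (inf_le_right : W₁ ≤ U)).op (t v)
  have he : F.presheaf.germ Z z hz s = F.presheaf.germ W₁ z ⟨hzW₀, hZ hz⟩ comb := by
    have hgerm : ∀ (w : Y) (hw : w ∈ W₁), F.presheaf.germ W₁ w hw comb =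
        ∑ v, Y.presheaf.germ (A v) w (hW₀ v hw.1) (r v) • F.presheaf.germ U w hw.2 (t v) := fun w hw => by
      simp only [comb, map_sum]
      refine Finset.sum_congr rfl fun v _ => ?_
      rw [StalkModule.germ_smul, TopCat.Presheaf.germ_res_apply, TopCat.Presheaf.germ_res_apply]
    refine hc.symm.trans ((Finset.sum_congr rfl fun v _ => ?_).trans (hgerm z ⟨hzW₀, hZ hz⟩).symm)
    exact congrArg (· • _) (hr v).symm
  obtain ⟨V, hzV, a, b, hab⟩ := TopCat.Presheaf.germ_eq F.presheaf z hz (show z ∈ W₁ from ⟨hzW₀, hZ hz⟩) _ _ he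
  refine ⟨V, a.le, b.le.trans inf_le_right, hzV,
    fun v => Y.presheaf.map (homOfLE ((b.le.trans (inf_le_left : W₁ ≤ W₀)).trans (hW₀ v))).op (r v), ?_⟩
  refine hab.trans ?_
  simp only [comb, map_sum]
  refine Finset.sum_congr rfl fun v _ => ?_
  rw [Scheme.Modules.map_smul]
  congr 1
  · exact (CategoryTheory.comp_apply _ _ _).symm.trans (by rw [← Functor.map_comp]; rfl)
  · exact (CategoryTheory.comp_apply _ _ _).symm.trans (by rw [← Functor.map_comp]; rfl)

end Groth.Agent.S9837
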