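import Groth.Statements.S9838
import Groth.Agent.Lib.CohBasics.Affine
import Groth.Agent.Lib.QCoh.Pushforward
import Mathlib.AlgebraicGeometry.Morphisms.Finite

set_option autoImplicit false
open CategoryTheory CategoryTheory.Limits AlgebraicGeometry Opposite
universe u
open Desc

namespace Groth.Agent.S9838

/-- Let f : X ⟶ Y be a finite morphism of schemes and F a quasi-coherent O_X-module. The pushforward
f_*F is of finite type as an O_Y-module exactly when F itself is of finite type as an O_X-module. -/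
theorem result {X Y : Scheme.{u}} (f : X ⟶ Y) [IsFinite f]
    (F : X.Modules) [F.IsQuasicoherent] :
    SheafOfModules.IsFiniteType (R := X.ringCatSheaf) F ↔
      SheafOfModules.IsFiniteType (R := Y.ringCatSheaf) ((Scheme.Modules.pushforward f).obj F) := by
  have := Lib.QCoh.Pushforward.isQCoh_pushforward (f := f) (M := F)
  have key : ∀ V : Y.Opens, IsAffineOpen V →
      (Module.Finite Γ(X, f ⁻¹ᵁ V) Γ(F, f ⁻¹ᵁ V) ↔
        Module.Finite Γ(Y, V) Γ((Scheme.Modules.pushforward f).obj F, V)) := by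
    intro V hV
    algebraize [(f.app V).hom]
    have : Module.Finite Γ(Y, V) Γ(X, f ⁻¹ᵁ V) := IsFinite.finite_app f V hV
    let : Module Γ(Y, V) Γ(F, f ⁻¹ᵁ V) := Module.compHom Γ(F, f ⁻¹ᵁ V) (f.app V).hom
    have : IsScalarTower Γ(Y, V) Γ(X, f ⁻¹ᵁ V) Γ(F, f ⁻¹ᵁ V) :=
      IsScalarTower.of_algebraMap_smul fun _ _ => rfl
    exact ⟨fun _ => show Module.Finite Γ(Y, V) Γ(F, f ⁻¹ᵁ V) from Module.Finite.trans Γ(X, f ⁻¹ᵁ V) _,
      fun h => have : Module.Finite Γ(Y, V) Γ(F, f ⁻¹ᵁ V) := h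
        Module.Finite.of_restrictScalars_finite Γ(Y, V) _ _⟩
  refine ⟨fun _ => ?_, fun _ => ?_⟩
  · refine Lib.CohBasics.Affine.isFiniteType_of_finite_sections fun y => ?_
    obtain ⟨V, hV, hy, -⟩ := exists_isAffineOpen_mem_and_subset (X := Y) (x := y) (U := ⊤) trivial
    exact ⟨V, hV, hy, (key V hV).1 (Lib.CohBasics.Affine.finite_sections (hV.preimage f))⟩
  · refine Lib.CohBasics.Affine.isFiniteType_of_finite_sections fun x => ?_
    obtain ⟨V, hV, hy, -⟩ := exists_isAffineOpen_mem_and_subset (X := Y) (x := f x) (U := ⊤) trivial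
    exact ⟨f ⁻¹ᵁ V, hV.preimage f, hy, (key V hV).2 (Lib.CohBasics.Affine.finite_sections hV)⟩

end Groth.Agent.S9838
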