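import Groth.Statements.S9839
import Groth.Agent.Lib.DescAlg.FpqcCover

set_option autoImplicit false
set_option backward.isDefEq.respectTransparency false
set_option backward.isDefEq.respectTransparency.types false
open CategoryTheory CategoryTheory.Limits AlgebraicGeometry Opposite
universe u
open Desc

namespace Groth.Agent.S9839

/-- Let f i : T i ⟶ T be an fpqc covering family of a scheme T (a family in the fpqc precoverage) and W
i ⊆ T i open subsets such that for all i, j the inverse images of W i and W j under the two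
projections of T i ×_T T j coincide. Then there is a unique open subset W ⊆ T with (f i)⁻¹(W) = W i
for every i. -/
theorem result {ι : Type u} {T : Scheme.{u}} {Ti : ι → Scheme.{u}}
    (f : ∀ i, Ti i ⟶ T) (hf : Presieve.ofArrows Ti f ∈ Scheme.fpqcPrecoverage T)
    (W : ∀ i, (Ti i).Opens)
    (hW : ∀ i j, (pullback.fst (f i) (f j)) ⁻¹ᵁ (W i) = (pullback.snd (f i) (f j)) ⁻¹ᵁ (W j)) :
    ∃! V : T.Opens, ∀ i, (f i) ⁻¹ᵁ V = W i := by
  let E : PreZeroHypercover T := ⟨ι, Ti, f⟩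
  have hE : E.presieve₀ = Presieve.ofArrows Ti f := rfl
  have hqc : QuasiCompactCover E :=
    Scheme.presieve₀_mem_qcPrecoverage_iff.1 (hE ▸ hf.1)
  obtain ⟨hsurj, hflat⟩ := (Scheme.presieve₀_mem_precoverage_iff E).1 (hE ▸ hf.2)
  let s : Set T := ⋃ i, f i '' (W i : Set (Ti i))
  have hpre : ∀ i, f i ⁻¹' s = (W i : Set (Ti i)) := by
    intro i
    refine Set.Subset.antisymm (fun x hx ↦ ?_) (fun x hx ↦ Set.mem_iUnion.2 ⟨i, x, hx, rfl⟩)
    obtain ⟨j, y, hy, hxy⟩ := Set.mem_iUnion.1 hx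
    obtain ⟨z, hz1, hz2⟩ := Scheme.Pullback.exists_preimage_pullback x y hxy.symm
    have hz : z ∈ (pullback.snd (f i) (f j)) ⁻¹ᵁ (W j) := by
      show pullback.snd (f i) (f j) z ∈ W j
      rw [hz2]; exact hy
    rw [← hW i j] at hz
    have hz' : pullback.fst (f i) (f j) z ∈ W i := hz
    rwa [hz1] at hz'
  have ho : IsOpen s := Groth.Agent.Lib.DescAlg.FpqcCover.isOpen_of_preimage E hflat s
    fun i ↦ by
      show IsOpen (f i ⁻¹' s)
      rw [hpre i]; exact (W i).isOpen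
  refine ⟨⟨s, ho⟩, fun i ↦ TopologicalSpace.Opens.ext (hpre i), fun V hV ↦ ?_⟩
  ext t
  obtain ⟨i, x, rfl⟩ := hsurj t
  show f i x ∈ V ↔ x ∈ f i ⁻¹' s
  rw [hpre i]
  show x ∈ f i ⁻¹ᵁ V ↔ x ∈ W i
  rw [hV i]

end Groth.Agent.S9839
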