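import Groth.Statements.S9842
import Groth.Agent.Lib.DescAlg.Dominant

set_option autoImplicit false
set_option backward.isDefEq.respectTransparency false
set_option backward.isDefEq.respectTransparency.types false
open CategoryTheory CategoryTheory.Limits AlgebraicGeometry Opposite
universe u
open Desc

namespace Groth.Agent.S9842

/-- Let E/k be a field extension, Y a scheme over k and f : X ⟶ Y a morphism. Writing Y_E = Y ×_k Spec
E, the morphism f is dominant if and only if its base change X ×_Y Y_E ⟶ Y_E is dominant. -/
theorem result {k E : Type u} [Field k] [Field E] [Algebra k E]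
    {X Y : Scheme.{u}} (f : X ⟶ Y) (q : Y ⟶ Spec (.of k)) :
    IsDominant f ↔
      IsDominant (pullback.snd f (pullback.fst q (Spec.map (CommRingCat.ofHom (algebraMap k E))))) := by
  let g := pullback.fst q (Spec.map (CommRingCat.ofHom (algebraMap k E)))
  constructor
  · intro hf
    exact Groth.Agent.Lib.DescAlg.Dominant.isDominant_snd_of_isOpenMap f g g.isOpenMap hf
  · intro h
    refine Groth.Agent.Lib.DescAlg.Dominant.isDominant_of_forall f fun y ↦ ⟨_, g, ?_, h⟩
    exact g.surjective y

end Groth.Agent.S9842
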