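import Groth.Statements.S9843
import Groth.Agent.Lib.DescAlg.Dominant
import Groth.Agent.Lib.DescAlg.Precov

set_option autoImplicit false
set_option backward.isDefEq.respectTransparency false
set_option backward.isDefEq.respectTransparency.types false
open CategoryTheory CategoryTheory.Limits AlgebraicGeometry Opposite
universe u
open Desc

namespace Groth.Agent.S9843

/-- Being dominant is fppf local on the base: for every fppf covering family Y i ⟶ Y (flat, locally of
finite presentation, jointly surjective), a morphism X ⟶ Y is dominant if and only if all its base
changes X ×_Y Y i ⟶ Y i are. -/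
theorem result :
    MorphismProperty.IsLocalAtTarget (@IsDominant : MorphismProperty Scheme.{u}) Scheme.fppfPrecoverage := by
  have : MorphismProperty.RespectsIso (@IsDominant : MorphismProperty Scheme.{u}) := by
    refine .mk _ (fun e f hf ↦ ?_) (fun e f hf ↦ ?_)
    · have : IsDominant f := hf
      infer_instance
    · have : IsDominant f := hf
      infer_instance
  constructor
  · intro X Y f R U g hR hg hf _
    have hp := hR.2 hg
    have : Flat g := hp.1
    have : LocallyOfFinitePresentation g := hp.2
    exact Groth.Agent.Lib.DescAlg.Dominant.isDominant_snd_of_isOpenMap f g g.isOpenMap hf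
  · intro X Y f R hR h
    exact Groth.Agent.Lib.DescAlg.Dominant.isDominant_of_forall f fun x ↦ by
      obtain ⟨U, g, hg, hx⟩ := Groth.Agent.Lib.DescAlg.Precov.exists_mem hR x
      exact ⟨U, g, hx, h hg⟩

end Groth.Agent.S9843
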