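import Groth.Statements.S9844

import Groth.Agent.H14.FppfDesc.Scheme
import Groth.Agent.Lib.DescAlg.Precov

set_option autoImplicit false
set_option backward.isDefEq.respectTransparency false
set_option backward.isDefEq.respectTransparency.types false
open CategoryTheory CategoryTheory.Limits AlgebraicGeometry Opposite
universe u
open Desc

namespace Groth.Agent.S9844


/-- Being locally of finite type is fppf local on the source: for every fppf covering family g i : X i ⟶
X, a morphism f : X ⟶ Y is locally of finite type if and only if every composite g i ≫ f is. -/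
theorem result :
    MorphismProperty.IsLocalAtSource (@LocallyOfFiniteType : MorphismProperty Scheme.{u}) Scheme.fppfPrecoverage := by
  constructor
  · intro X Y f R hR U g hg hf
    have hp := Groth.Agent.Lib.DescAlg.Precov.prop_of_mem hR hg
    have : LocallyOfFinitePresentation g := hp.2
    have : LocallyOfFiniteType f := hf
    exact inferInstanceAs (LocallyOfFiniteType (g ≫ f))
  · intro X Y f R hR h
    obtain ⟨U, g, hg, hx⟩ := Groth.Agent.Lib.DescAlg.Precov.exists_small hR
    have hp := fun x => Groth.Agent.Lib.DescAlg.Precov.prop_of_mem hR (hg x)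
    let e : (∐ U) ⟶ X := Limits.Sigma.desc g
    have : Flat e := IsZariskiLocalAtSource.sigmaDesc (P := @Flat) fun x => (hp x).1
    have : LocallyOfFinitePresentation e :=
      IsZariskiLocalAtSource.sigmaDesc (P := @LocallyOfFinitePresentation) fun x => (hp x).2
    have : Surjective e := ⟨fun x => by
      obtain ⟨w, hw⟩ := hx x
      refine ⟨Limits.Sigma.ι U x w, ?_⟩
      rw [← Scheme.Hom.comp_apply, Limits.Sigma.ι_desc]
      exact hw⟩
    refine Groth.Agent.H14.FppfDesc.Scheme.locallyOfFiniteType_of_comp e f ?_
    have : e ≫ f = Limits.Sigma.desc fun x => g x ≫ f := Limits.Sigma.hom_ext _ _ fun x => by simp [e]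
    rw [this]
    exact IsZariskiLocalAtSource.sigmaDesc (P := @LocallyOfFiniteType) fun x => h (hg x)

end Groth.Agent.S9844
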