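import Groth.Statements.S9845
import Groth.Agent.Lib.DescAlg.Precov

set_option autoImplicit false
set_option backward.isDefEq.respectTransparency false
set_option backward.isDefEq.respectTransparency.types false
open CategoryTheory CategoryTheory.Limits AlgebraicGeometry Opposite
universe u
open Desc

namespace Groth.Agent.S9845

/-- Being an open morphism (open underlying map) is fppf local on the source: for every fppf covering
family g i : X i ⟶ X, a morphism f : X ⟶ Y has open underlying map if and only if every composite g
i ≫ f does. -/
theorem result :
    MorphismProperty.IsLocalAtSource (topologically (fun f => IsOpenMap f) : MorphismProperty Scheme.{u})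
      Scheme.fppfPrecoverage := by
  have : MorphismProperty.RespectsIso
      (topologically (fun f => IsOpenMap f) : MorphismProperty Scheme.{u}) := inferInstance
  constructor
  · intro X Y f R hR U g hg hf
    have hp := Groth.Agent.Lib.DescAlg.Precov.prop_of_mem hR hg
    have : Flat g := hp.1
    have : LocallyOfFinitePresentation g := hp.2
    show IsOpenMap (g ≫ f)
    show IsOpenMap (⇑f ∘ ⇑g)
    exact IsOpenMap.comp hf g.isOpenMap
  · intro X Y f R hR h s hs
    obtain ⟨U, g, hg, hx⟩ := Groth.Agent.Lib.DescAlg.Precov.exists_small hR
    have e : f '' s = ⋃ x, (g x ≫ f) '' (g x ⁻¹' s) := by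
      ext y
      simp only [Set.mem_image, Set.mem_iUnion, Set.mem_preimage, Scheme.Hom.comp_apply]
      constructor
      · rintro ⟨z, hz, rfl⟩
        obtain ⟨w, hw⟩ := hx z
        exact ⟨z, w, by rw [hw]; exact hz, by rw [hw]⟩
      · rintro ⟨x, w, hw, rfl⟩
        exact ⟨_, hw, rfl⟩
    show IsOpen (f '' s)
    rw [e]
    exact isOpen_iUnion fun x ↦ h (hg x) _ (hs.preimage (g x).continuous)

end Groth.Agent.S9845
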