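import Groth.Statements.S9846
import Groth.Agent.Lib.DescAlg.Precov

set_option autoImplicit false
set_option backward.isDefEq.respectTransparency false
set_option backward.isDefEq.respectTransparency.types false
open CategoryTheory CategoryTheory.Limits AlgebraicGeometry Opposite
universe u
open Desc

namespace Groth.Agent.S9846

/-- Being universally open is fppf local on the source: for every fppf covering family g i : X i ⟶ X, a
morphism f : X ⟶ Y is universally open if and only if every composite g i ≫ f is. -/
theorem result :
    MorphismProperty.IsLocalAtSource (@UniversallyOpen : MorphismProperty Scheme.{u}) Scheme.fppfPrecoverage := by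
  constructor
  · intro X Y f R hR U g hg hf
    have hp := Groth.Agent.Lib.DescAlg.Precov.prop_of_mem hR hg
    have : Flat g := hp.1
    have : LocallyOfFinitePresentation g := hp.2
    have : UniversallyOpen f := hf
    exact inferInstanceAs (UniversallyOpen (g ≫ f))
  · intro X Y f R hR h
    obtain ⟨U, g, hg, hx⟩ := Groth.Agent.Lib.DescAlg.Precov.exists_small hR
    refine ⟨fun X' Y' i₁ i₂ f' H s hs ↦ ?_⟩
    have e : f' '' s =
        ⋃ x, (pullback.fst i₁ (g x) ≫ f') '' (pullback.fst i₁ (g x) ⁻¹' s) := by
      ext y
      simp only [Set.mem_image, Set.mem_iUnion, Set.mem_preimage, Scheme.Hom.comp_apply]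
      constructor
      · rintro ⟨z, hz, rfl⟩
        obtain ⟨w, hw⟩ := hx (i₁ z)
        obtain ⟨p, hp, -⟩ := Scheme.Pullback.exists_preimage_pullback z w hw.symm
        exact ⟨i₁ z, p, by rw [hp]; exact hz, by rw [hp]⟩
      · rintro ⟨x, w, hw, rfl⟩
        exact ⟨_, hw, rfl⟩
    show IsOpen (f' '' s)
    rw [e]
    exact isOpen_iUnion fun x ↦ (h (hg x)).universally_isOpenMap _ _ _
      ((IsPullback.of_hasPullback i₁ (g x)).paste_horiz H) _ (hs.preimage (Scheme.Hom.continuous _))

end Groth.Agent.S9846
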