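import Groth.Statements.S9847
import Groth.Agent.Lib.DescAlg.Precov
import Groth.Agent.Lib.SourceDescent.Scheme

set_option autoImplicit false
set_option backward.isDefEq.respectTransparency false
set_option backward.isDefEq.respectTransparency.types false
open CategoryTheory CategoryTheory.Limits AlgebraicGeometry Opposite
universe u
open Desc

namespace Groth.Agent.S9847

/-- Being etale is etale local on the source: for every etale covering family g i : X i ⟶ X (etale,
jointly surjective), a morphism f : X ⟶ Y is etale if and only if every composite g i ≫ f is. -/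
theorem result :
    MorphismProperty.IsLocalAtSource (@Etale : MorphismProperty Scheme.{u}) Scheme.etalePrecoverage := by
  have : IsZariskiLocalAtSource (@Etale : MorphismProperty Scheme.{u}) :=
    @HasRingHomProperty.instIsZariskiLocalAtSource _ _ (inferInstance :
      HasRingHomProperty (@Etale : MorphismProperty Scheme.{u}) RingHom.Etale)
  constructor
  · intro X Y f R hR U g hg hf
    have : Etale g := Groth.Agent.Lib.DescAlg.Precov.prop_of_mem hR hg
    have : Etale f := hf
    exact inferInstanceAs (Etale (g ≫ f))
  · intro X Y f R hR h
    obtain ⟨U, g, hg, hx⟩ := Groth.Agent.Lib.DescAlg.Precov.exists_small hR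
    let e : (∐ U) ⟶ X := Sigma.desc g
    have he : Etale e := IsZariskiLocalAtSource.sigmaDesc (P := @Etale) fun x ↦
      Groth.Agent.Lib.DescAlg.Precov.prop_of_mem hR (hg x)
    have hs : Surjective e := by
      refine ⟨fun x ↦ ?_⟩
      obtain ⟨w, hw⟩ := hx x
      exact ⟨Sigma.ι U x w, by rw [← Scheme.Hom.comp_apply, Sigma.ι_desc]; exact hw⟩
    refine Groth.Agent.Lib.SourceDescent.Scheme.etale.descends e f he hs ?_
    refine IsZariskiLocalAtSource.of_openCover (P := @Etale) (sigmaOpenCover U) fun x ↦ ?_
    show Etale (Sigma.ι U x ≫ e ≫ f)
    rw [Sigma.ι_desc_assoc]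
    exact h (hg x)

end Groth.Agent.S9847
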