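import Groth.Statements.S9848
import Groth.Agent.Lib.Synt92.LciScheme
import Groth.Agent.S9758
import Groth.Agent.Lib.DescAlg.Descends

set_option autoImplicit false
open CategoryTheory CategoryTheory.Limits AlgebraicGeometry Opposite
universe u
open Desc

namespace Groth.Agent.S9848

/-- Being syntomic is fpqc local on the base; the descent direction, stated for a single flat surjective
quasi-compact base change g : Y' ⟶ Y: if the base change X ×_Y Y' ⟶ Y' of f : X ⟶ Y is syntomic,
then f is syntomic. (With Zariski-locality on the target this gives the statement for arbitrary fpqc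
coverings; stability of syntomic morphisms under base change is the other direction.) -/
theorem result {X Y Y' : Scheme.{u}} (f : X ⟶ Y) (g : Y' ⟶ Y)
    [Flat g] [Surjective g] [QuasiCompact g] (h : Synt.IsSyntomicMor (pullback.snd f g)) :
    Synt.IsSyntomicMor f := by
  obtain ⟨hflat, hk⟩ := (Groth.Agent.S9758.result _).2 h
  refine (Groth.Agent.S9758.result f).1 ⟨?_, fun x =>
    Groth.Agent.Lib.Synt92.KRMorDescent.isKoszulAt_of_baseChange f g (pullback.snd f g) (pullback.fst f g)
      (IsPullback.of_hasPullback f g) hk x⟩
  exact MorphismProperty.of_isPullback_of_descendsAlong (P := @Flat)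
    (Q := (@Surjective ⊓ @Flat ⊓ @QuasiCompact : MorphismProperty Scheme.{u}))
    (IsPullback.of_hasPullback f g).flip ⟨⟨‹_›, ‹_›⟩, ‹_›⟩ hflat

end Groth.Agent.S9848
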