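import Groth.Statements.S9850
import Groth.Agent.Lib.Synt92.MorCrit
import Groth.Agent.Lib.Flat55.FlatDescend
import Groth.Agent.H14.FppfDesc.Scheme
import Groth.Agent.H26.FibreRegStalk
import Groth.Agent.H26.CICongr
import Groth.Agent.S2164

set_option autoImplicit false
open CategoryTheory CategoryTheory.Limits AlgebraicGeometry Opposite
universe u
open Desc

namespace Groth.Agent.S9850

open IsLocalRing

theorem flat_quotient {B C : Type u} [CommRing B] [CommRing C] [Algebra B C] [Module.Flat B C]
    (K : Ideal B) : Module.Flat (B ⧸ K) (C ⧸ K.map (algebraMap B C)) :=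
  Module.Flat.of_linearEquiv (Algebra.TensorProduct.quotIdealMapEquivQuotTensor C K).toLinearEquiv

/-- The complete intersection property of fibres along a flat local tower `A → B → C`. -/
theorem ci_tower {A B C : Type u} [CommRing A] [CommRing B] [CommRing C] [IsLocalRing A]
    [IsLocalRing B] [IsLocalRing C] (u : A →+* B) (v : B →+* C) [IsLocalHom u] [IsLocalHom v]
    (hv : v.Flat) (w : A →+* C) (hw : w = v.comp u)
    [IsLocalRing (B ⧸ (maximalIdeal A).map u)] [IsLocalRing (C ⧸ (maximalIdeal A).map w)]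
    [IsLocalRing (C ⧸ (maximalIdeal B).map v)]
    [IsNoetherianRing (B ⧸ (maximalIdeal A).map u)] [IsNoetherianRing (C ⧸ (maximalIdeal A).map w)]
    [IsNoetherianRing (C ⧸ (maximalIdeal B).map v)]
    (h : Pi1.IsCompleteIntersection (C ⧸ (maximalIdeal A).map w)) :
    Pi1.IsCompleteIntersection (B ⧸ (maximalIdeal A).map u) ∧
      Pi1.IsCompleteIntersection (C ⧸ (maximalIdeal B).map v) := by
  algebraize [v]
  subst hw
  have hIB : (maximalIdeal A).map u ≤ maximalIdeal B :=
    ((local_hom_TFAE u).out 0 2).mp (inferInstance : IsLocalHom u)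
  set I := (maximalIdeal A).map u with hI
  have hJ : (maximalIdeal A).map (v.comp u) = I.map (algebraMap B C) :=
    (Ideal.map_map u v).symm
  haveI hl : IsLocalRing (C ⧸ I.map (algebraMap B C)) :=
    (Ideal.quotEquivOfEq hJ).isLocalRing
  haveI hn : IsNoetherianRing (C ⧸ I.map (algebraMap B C)) :=
    isNoetherianRing_of_ringEquiv _ (Ideal.quotEquivOfEq hJ)
  have h' : Pi1.IsCompleteIntersection (C ⧸ I.map (algebraMap B C)) :=
    H26.CICongr.imp (Ideal.quotEquivOfEq hJ).symm h
  haveI : Module.Flat (B ⧸ I) (C ⧸ I.map (algebraMap B C)) := flat_quotient I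
  haveI : IsLocalHom (algebraMap (B ⧸ I) (C ⧸ I.map (algebraMap B C))) := by
    refine ⟨fun b hb => ?_⟩
    obtain ⟨b, rfl⟩ := Ideal.Quotient.mk_surjective b
    have hb' : IsUnit (Ideal.Quotient.mk (I.map (algebraMap B C)) (v b)) := hb
    haveI : IsLocalHom (Ideal.Quotient.mk (I.map (algebraMap B C))) :=
      .of_surjective _ Ideal.Quotient.mk_surjective
    exact (isUnit_of_map_unit v b (isUnit_of_map_unit _ _ hb')).map _
  have hm : (maximalIdeal (B ⧸ I)).map (algebraMap (B ⧸ I) (C ⧸ I.map (algebraMap B C))) =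
      ((maximalIdeal B).map v).map (Ideal.Quotient.mk (I.map (algebraMap B C))) := by
    rw [← IsLocalRing.map_maximalIdeal_of_surjective _ (Ideal.Quotient.mk_surjective (I := I))]
    have hφ : (algebraMap (B ⧸ I) (C ⧸ I.map (algebraMap B C))).comp (Ideal.Quotient.mk I) =
        (Ideal.Quotient.mk (I.map (algebraMap B C))).comp v := RingHom.ext fun _ => rfl
    exact (Ideal.map_map _ _).trans ((congrArg (fun φ => (maximalIdeal B).map φ) hφ).trans
      (Ideal.map_map (I := maximalIdeal B) v (Ideal.Quotient.mk (I.map (algebraMap B C)))).symm)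
  let e := (Ideal.quotEquivOfEq hm).trans
    (DoubleQuot.quotQuotEquivQuotOfLE (Ideal.map_mono hIB :
      I.map (algebraMap B C) ≤ (maximalIdeal B).map v))
  haveI := e.symm.isLocalRing
  have key := (S2164.result (A := B ⧸ I) (B := C ⧸ I.map (algebraMap B C))).1 h'
  exact ⟨key.1, H26.CICongr.imp e.symm key.2⟩

/-- Let f : X ⟶ Y be surjective, flat and locally of finite presentation and q : Y ⟶ S a morphism such
that f ≫ q is syntomic. Then q is syntomic, and so is f. -/
theorem result {X Y S : Scheme.{u}} (f : X ⟶ Y) (q : Y ⟶ S)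
    [Surjective f] [Flat f] [LocallyOfFinitePresentation f] (h : Synt.IsSyntomicMor (f ≫ q)) :
    Synt.IsSyntomicMor q ∧ Synt.IsSyntomicMor f := by
  obtain ⟨hfl, hlfp, hci⟩ := Lib.Synt92.MorCrit.isCIMorphism_of_isSyntomicMor _ h
  haveI := hfl
  haveI := hlfp
  haveI : Flat q := Lib.Flat55.FlatDescend.flat_of_comp f q
  haveI : LocallyOfFinitePresentation q :=
    H14.FppfDesc.Scheme.locallyOfFinitePresentation_of_comp f q hlfp
  have key : ∀ x : X, Pi1.IsCompleteIntersection (CInt.fiberStalk q (f x)) ∧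
      Pi1.IsCompleteIntersection (CInt.fiberStalk f x) := by
    intro x
    haveI := H26.FibreRegStalk.isNoetherianRing_fiberStalk q (f x)
    haveI := H26.FibreRegStalk.isNoetherianRing_fiberStalk (f ≫ q) x
    haveI := H26.FibreRegStalk.isNoetherianRing_fiberStalk f x
    let e1 := H46.FiberStalk.quotientEquiv q (f x)
    have hJ : (maximalIdeal (S.presheaf.stalk (q (f x)))).map
        ((f.stalkMap x).hom.comp (q.stalkMap (f x)).hom) =
        (maximalIdeal (S.presheaf.stalk ((f ≫ q) x))).map ((f ≫ q).stalkMap x).hom := by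
      rw [Scheme.Hom.stalkMap_comp]
      rfl
    let e2 := (Ideal.quotEquivOfEq hJ).trans (H46.FiberStalk.quotientEquiv (f ≫ q) x)
    let e3 := H46.FiberStalk.quotientEquiv f x
    haveI := e1.symm.isLocalRing
    haveI := e2.symm.isLocalRing
    haveI := e3.symm.isLocalRing
    haveI := isNoetherianRing_of_ringEquiv _ e1.symm
    haveI := isNoetherianRing_of_ringEquiv _ e2.symm
    haveI := isNoetherianRing_of_ringEquiv _ e3.symm
    obtain ⟨k1, k2⟩ := ci_tower (q.stalkMap (f x)).hom (f.stalkMap x).hom (Flat.stalkMap f x)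
      _ rfl (H26.CICongr.imp e2 (hci x))
    exact ⟨H26.CICongr.imp e1.symm k1, H26.CICongr.imp e3.symm k2⟩
  refine ⟨(Lib.Synt92.MorCrit.isSyntomicMor_iff q).2 ⟨inferInstance, inferInstance, fun y => ?_⟩,
    (Lib.Synt92.MorCrit.isSyntomicMor_iff f).2 ⟨inferInstance, inferInstance, fun x => (key x).2⟩⟩
  obtain ⟨x, rfl⟩ := f.surjective y
  exact (key x).1

end Groth.Agent.S9850
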