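import Groth.Statements.S9860
import Mathlib.AlgebraicGeometry.Sites.BigZariski
import Mathlib.CategoryTheory.Sites.EffectiveEpimorphic
import Mathlib.AlgebraicGeometry.Cover.Open
import Mathlib.AlgebraicGeometry.Gluing

set_option autoImplicit false
set_option backward.isDefEq.respectTransparency false
set_option backward.isDefEq.respectTransparency.types false
open CategoryTheory CategoryTheory.Limits AlgebraicGeometry Opposite
universe u
open Desc

namespace Groth.Agent.S9860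

/-- Consider morphisms of schemes f i : X i ⟶ X indexed by i. Suppose that, whenever Y is an affine
scheme and g : Y ⟶ X is a morphism, the sieve on Y obtained by pulling back along g (generated by
the base changes X i ×_X Y ⟶ Y) is effective epimorphic. Then the pulled-back sieve along every
morphism Y ⟶ X of schemes is effective epimorphic; in other words, within schemes the family forms a
universal effective epimorphism. -/
theorem result {ι : Type u} {X : Scheme.{u}} {Xi : ι → Scheme.{u}} (f : ∀ i, Xi i ⟶ X)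
    (h : ∀ (Y : Scheme.{u}) (g : Y ⟶ X), IsAffine Y → ((Sieve.ofArrows Xi f).pullback g).EffectiveEpimorphic)
    {Y : Scheme.{u}} (g : Y ⟶ X) : ((Sieve.ofArrows Xi f).pullback g).EffectiveEpimorphic := by
  have h' : ∀ (Z : Scheme.{u}) (k : Z ⟶ X), IsAffine Z → ∀ W : Scheme.{u},
      ((Sieve.ofArrows Xi f).pullback k).arrows.IsSheafFor (yoneda.obj W) := fun Z k hZ ↦
    (Sieve.EffectiveEpimorphic.iff_forall_isSheafFor_yoneda _).1 (h Z k hZ)
  have sep : ∀ {Z W : Scheme.{u}} (k : Z ⟶ X) (t₁ t₂ : Z ⟶ W),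
      (∀ {Q : Scheme.{u}} (q : Q ⟶ Z), (Sieve.ofArrows Xi f) (q ≫ k) → q ≫ t₁ = q ≫ t₂) → t₁ = t₂ := by
    intro Z W k t₁ t₂ ht
    refine Z.affineCover.hom_ext _ _ fun v ↦ (h' _ (Z.affineCover.f v ≫ k) inferInstance W).isSeparatedFor.ext ?_
    intro Q q hq
    have := ht (q ≫ Z.affineCover.f v) (by simpa using hq)
    simpa using this
  refine (Sieve.EffectiveEpimorphic.iff_forall_isSheafFor_yoneda _).2 fun W x hx ↦ ?_
  let 𝒱 := Y.affineCover
  let xv : ∀ v, Presieve.FamilyOfElements (yoneda.obj W)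
      ((Sieve.ofArrows Xi f).pullback (𝒱.f v ≫ g)).arrows :=
    fun v Q q hq ↦ x (q ≫ 𝒱.f v) (show (Sieve.ofArrows Xi f) ((q ≫ 𝒱.f v) ≫ g) by simpa using hq)
  have hxv : ∀ v, (xv v).Compatible := fun v Y₁ Y₂ Q g₁ g₂ f₁ f₂ hf₁ hf₂ comm ↦
    hx g₁ g₂ _ _ (by rw [reassoc_of% comm])
  choose t ht _ using fun v ↦ h' _ (𝒱.f v ≫ g) inferInstance W (xv v) (hxv v)
  have glue : ∀ i j, pullback.fst (𝒱.f i) (𝒱.f j) ≫ t i = pullback.snd (𝒱.f i) (𝒱.f j) ≫ t j := by
    intro i j
    refine sep (pullback.fst _ _ ≫ 𝒱.f i ≫ g) _ _ fun {Q} q hq ↦ ?_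
    have h1 : (Sieve.ofArrows Xi f) ((q ≫ pullback.fst (𝒱.f i) (𝒱.f j)) ≫ 𝒱.f i ≫ g) := by simpa using hq
    have h2 : (Sieve.ofArrows Xi f) ((q ≫ pullback.snd (𝒱.f i) (𝒱.f j)) ≫ 𝒱.f j ≫ g) := by
      simpa [← pullback.condition_assoc] using hq
    have e1 := ht i (q ≫ pullback.fst (𝒱.f i) (𝒱.f j)) h1
    have e2 := ht j (q ≫ pullback.snd (𝒱.f i) (𝒱.f j)) h2
    simp only [yoneda_obj_map, Category.assoc] at e1 e2
    refine e1.trans (Eq.trans ?_ e2.symm)
    simp only [xv]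
    congr 1 <;> rw [Category.assoc, Category.assoc, pullback.condition]
  let e : Y ⟶ W := 𝒱.glueMorphisms t glue
  refine ⟨e, fun Q q hq ↦ ?_, fun e' he' ↦ ?_⟩
  · refine Scheme.Cover.hom_ext (𝒱.pullback₁ q) _ _ fun v ↦ ?_
    show pullback.fst q (𝒱.f v) ≫ q ≫ e = pullback.fst q (𝒱.f v) ≫ x q hq
    rw [pullback.condition_assoc, 𝒱.ι_glueMorphisms]
    have h3 : (Sieve.ofArrows Xi f) (pullback.snd q (𝒱.f v) ≫ 𝒱.f v ≫ g) := by
      rw [← pullback.condition_assoc]
      exact Sieve.downward_closed _ hq (pullback.fst q (𝒱.f v))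
    refine (ht v (pullback.snd q (𝒱.f v)) h3).trans ?_
    have := hx (pullback.fst q (𝒱.f v)) (𝟙 _) hq
      (show ((Sieve.ofArrows Xi f).pullback g) (pullback.snd q (𝒱.f v) ≫ 𝒱.f v) by simpa using h3)
      (by rw [Category.id_comp, pullback.condition])
    simpa using this.symm
  · refine 𝒱.hom_ext _ _ fun v ↦ ?_
    rw [𝒱.ι_glueMorphisms]
    refine (h' _ (𝒱.f v ≫ g) inferInstance W).isSeparatedFor (xv v) _ _ (fun Q q hq ↦ ?_) (ht v)
    have := he' (q ≫ 𝒱.f v) (show (Sieve.ofArrows Xi f) ((q ≫ 𝒱.f v) ≫ g) by simpa using hq)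
    simpa [xv] using this

end Groth.Agent.S9860
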