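import Groth.Statements.S9861
import Groth.Agent.Lib.GenDesc51.Basic

set_option autoImplicit false
open CategoryTheory CategoryTheory.Limits AlgebraicGeometry Opposite
universe u
set_option linter.style.haveILetI false
open Desc

namespace Groth.Agent.S9861

open Groth.Agent.Lib Groth.Agent.Lib.Modules

set_option maxHeartbeats 800000 in
open scoped TensorProduct in
theorem main {ι : Type u} {X : Scheme.{u}} {Xi : ι → Scheme.{u}} (f : ∀ i, Xi i ⟶ X)
    (hf : Presieve.ofArrows Xi f ∈ Scheme.fpqcPrecoverage X) (F : X.Modules) [F.IsQuasicoherent] (r : ℕ)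
    (h : ∀ i, ∃ σ : SheafOfModules.LocalGeneratorsData.{u} (R := (Xi i).ringCatSheaf) ((Scheme.Modules.pullback (f i)).obj F),
      ∀ k, Finite (σ.generators k).I ∧ Nat.card (σ.generators k).I ≤ r) (x : X) :
    ∃ (O : X.Opens) (d : ℕ) (t : Fin d → Γ(F, O)), x ∈ O ∧ d ≤ r ∧ ∀ (y : X) (hy : y ∈ O),
      Submodule.span (X.presheaf.stalk y) (Set.range fun i => F.presheaf.germ O y hy (t i)) = ⊤ := by
  classical
  have hflat : ∀ i, Flat (f i) := ((Scheme.ofArrows_mem_precoverage_iff (P := @Flat)).1 hf.2).2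
  haveI : QuasiCompactCover (PreZeroHypercover.mk ι Xi f) := by
    rw [← Scheme.presieve₀_mem_qcPrecoverage_iff]
    exact hf.1
  obtain ⟨W, hW, hxW, -⟩ := exists_isAffineOpen_mem_and_subset (U := (⊤ : X.Opens)) (x := x) trivial
  obtain ⟨n, a, V, hV, hcov⟩ :=
    QuasiCompactCover.exists_isAffineOpen_of_isCompact (PreZeroHypercover.mk ι Xi f) hW.isCompact
  have eV : ∀ k, V k ≤ f (a k) ⁻¹ᵁ W := fun k z hz => by
    show f (a k) z ∈ W
    rw [← SetLike.mem_coe, ← hcov]
    exact Set.mem_iUnion.2 ⟨k, z, hz, rfl⟩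
  -- finitely many sections generating the pullbacks
  have hk : ∀ k, ∃ s : Finset Γ(F, W), ∀ (z : Xi (a k)) (hz : z ∈ V k),
      Submodule.span ((Xi (a k)).presheaf.stalk z)
        ((fun m => DerivedOX.PullbackStalk.unitStalk (f (a k)) z F
          (F.presheaf.germ W ((f (a k)).base z) (eV k hz) m)) '' (s : Set Γ(F, W))) = ⊤ := by
    intro k
    let g := f (a k)
    let P := (Scheme.Modules.pullback g).obj F
    haveI := QCoh.Pullback.isQCoh_pullback g F
    obtain ⟨σ, hσ⟩ := h (a k)
    haveI : SheafOfModules.IsFiniteType (R := (Xi (a k)).ringCatSheaf) P :=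
      SheafOfModules.IsFiniteType.mk (C := (Xi (a k)).Opens) (R := (Xi (a k)).ringCatSheaf) (M := P)
        ⟨σ, by constructor; exact fun j => ⟨(hσ j).1⟩⟩
    haveI := CohBasics.Affine.finite_sections (M := P) (hV k)
    letI : Algebra Γ(X, W) Γ(Xi (a k), V k) := (g.appLE W (V k) (eV k)).hom.toAlgebra
    let e : Γ(Xi (a k), V k) ⊗[Γ(X, W)] Γ(F, W) ≃ₗ[Γ(Xi (a k), V k)] Γ(P, V k) :=
      LinearEquiv.ofBijective (_root_.ZarCoh.FlatBC.PullbackSections.pbTensor g F (eV k))
        (_root_.ZarCoh.FlatBC.PullbackSections.bijective_pbTensor g F hW (hV k) (eV k))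
    haveI : Module.Finite Γ(Xi (a k), V k) (Γ(Xi (a k), V k) ⊗[Γ(X, W)] Γ(F, W)) :=
      Module.Finite.equiv e.symm
    obtain ⟨s, hs⟩ := GenDesc51.exists_gens_of_finite_baseChange (A := Γ(X, W))
      (B := Γ(Xi (a k), V k)) (M := Γ(F, W))
    refine ⟨s, fun z hz => ?_⟩
    have h1 : Submodule.span Γ(Xi (a k), V k)
        ((fun m => _root_.ZarCoh.FlatBC.PullbackSections.pbRes g F (eV k) m) '' (s : Set Γ(F, W))) = ⊤ := by
      have h0 := congrArg (Submodule.map e.toLinearMap) hs
      rw [Submodule.map_top, LinearMap.range_eq_top.2 e.surjective, Submodule.map_span, ← Set.image_comp] at h0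
      refine Eq.trans ?_ h0
      congr 1
      refine Set.image_congr fun m _ => ?_
      exact ((_root_.ZarCoh.FlatBC.PullbackSections.pbTensor_tmul g F (eV k) 1 m).trans (one_smul _ _)).symm
    have h2 := CohBasics.Affine.germ_span_eq_top (M := P) (hV k) _ h1 hz
    rw [← Set.image_comp] at h2
    refine Eq.trans ?_ h2
    congr 1
    exact Set.image_congr fun m _ => (GenDesc51.germ_pbRes g (eV k) hz m).symm
  choose s hs using hk
  let S := Finset.univ.biUnion s
  have hspan : ∀ (y : X) (hy : y ∈ W), Submodule.span (X.presheaf.stalk y)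
      ((fun m => F.presheaf.germ W y hy m) '' (S : Set Γ(F, W))) = ⊤ := by
    intro y hy
    obtain ⟨k, z, hz, rfl⟩ : ∃ k z, z ∈ V k ∧ f (a k) z = y := by
      have hy' : y ∈ ⋃ k, f (a k) '' (V k : Set (Xi (a k))) := hcov.ge hy
      obtain ⟨k, z, hz, e⟩ := Set.mem_iUnion.1 hy'
      exact ⟨k, z, hz, e⟩
    let g := f (a k)
    haveI : Flat g := hflat (a k)
    letI : Algebra (X.presheaf.stalk (g z)) ((Xi (a k)).presheaf.stalk z) := (g.stalkMap z).hom.toAlgebra
    letI : Module (X.presheaf.stalk (g z)) (((Scheme.Modules.pullback g).obj F).presheaf.stalk z) :=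
      Module.compHom _ (g.stalkMap z).hom
    haveI : IsScalarTower (X.presheaf.stalk (g z)) ((Xi (a k)).presheaf.stalk z)
      (((Scheme.Modules.pullback g).obj F).presheaf.stalk z) := IsScalarTower.of_algebraMap_smul fun _ _ => rfl
    haveI : Module.Flat (X.presheaf.stalk (g z)) ((Xi (a k)).presheaf.stalk z) := Flat.stalkMap g z
    haveI : IsLocalHom (algebraMap (X.presheaf.stalk (g z)) ((Xi (a k)).presheaf.stalk z)) :=
      inferInstanceAs (IsLocalHom (g.stalkMap z).hom)
    haveI : Module.FaithfullyFlat (X.presheaf.stalk (g z)) ((Xi (a k)).presheaf.stalk z) :=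
      Module.FaithfullyFlat.of_flat_of_isLocalHom
    have hb := CechRes.PullSec.isBaseChange_unitStalk g F z
    refine GenDesc51.span_eq_top_of_isBaseChange hb _ (eq_top_iff.2 ?_)
    refine (hs k z hz).ge.trans (Submodule.span_le.2 ?_)
    rintro _ ⟨m, hm, rfl⟩
    refine Submodule.subset_span (R := (Xi (a k)).presheaf.stalk z)
      (M := ((Scheme.Modules.pullback g).obj F).presheaf.stalk z) ?_
    exact ⟨_, ⟨m, Finset.mem_biUnion.2 ⟨k, Finset.mem_univ k, hm⟩, rfl⟩, rfl⟩
  obtain ⟨k, z, -, hz⟩ : ∃ k z, z ∈ V k ∧ f (a k) z = x := by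
    have hy' : x ∈ ⋃ k, f (a k) '' (V k : Set (Xi (a k))) := hcov.ge hxW
    obtain ⟨k, z, hz, e⟩ := Set.mem_iUnion.1 hy'
    exact ⟨k, z, hz, e⟩
  subst hz
  let g := f (a k)
  haveI : Module.Finite (X.presheaf.stalk (g z)) (F.presheaf.stalk (g z)) :=
    ⟨⟨(S.finite_toSet.image fun m => F.presheaf.germ W (g z) hxW m).toFinset, by
      rw [Set.Finite.coe_toFinset]; exact hspan (g z) hxW⟩⟩
  letI : Algebra (X.presheaf.stalk (g z)) ((Xi (a k)).presheaf.stalk z) := (g.stalkMap z).hom.toAlgebra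
  letI : Module (X.presheaf.stalk (g z)) (((Scheme.Modules.pullback g).obj F).presheaf.stalk z) :=
    Module.compHom _ (g.stalkMap z).hom
  haveI : IsScalarTower (X.presheaf.stalk (g z)) ((Xi (a k)).presheaf.stalk z)
    (((Scheme.Modules.pullback g).obj F).presheaf.stalk z) := IsScalarTower.of_algebraMap_smul fun _ _ => rfl
  haveI : IsLocalHom (algebraMap (X.presheaf.stalk (g z)) ((Xi (a k)).presheaf.stalk z)) :=
    inferInstanceAs (IsLocalHom (g.stalkMap z).hom)
  have hb := CechRes.PullSec.isBaseChange_unitStalk g F z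
  obtain ⟨σ, hσ⟩ := h (a k)
  obtain ⟨j, hj⟩ : ∃ j, z ∈ σ.X j := by
    obtain ⟨W', i, ⟨j, ⟨φ⟩⟩, hW'⟩ := σ.coversTop ⊤ z trivial
    exact ⟨j, leOfHom φ hW'⟩
  haveI := (hσ j).1
  obtain ⟨u, hu⟩ := GenStalk.span_germ_over (σ.X j) (σ.generators j)
  let ee := (Finite.equivFin (σ.generators j).I).symm
  obtain ⟨d, v, hd, hv⟩ := GenDesc51.exists_gens_le_of_isBaseChange hb
    (fun i => ((Scheme.Modules.pullback g).obj F).presheaf.germ (σ.X j) z hj (u (ee i)))
    (eq_top_iff.2 ((hu z hj).ge.trans (Submodule.span_le.2 (by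
      rintro _ ⟨i, rfl⟩
      exact Submodule.subset_span ⟨ee.symm i,
        congrArg (((Scheme.Modules.pullback g).obj F).presheaf.germ (σ.X j) z hj)
          (congrArg u (ee.apply_symm_apply i))⟩))))
  choose U hU t ht using fun i => TopCat.Presheaf.exists_germ_eq F.presheaf (v i)
  let U₀ : X.Opens := Finset.univ.inf U ⊓ W
  have hxU₀ : g z ∈ U₀ := by
    refine ⟨?_, hxW⟩
    show g z ∈ (↑(Finset.univ.inf U) : Set X)
    rw [TopologicalSpace.Opens.coe_finset_inf, Finset.inf_set_eq_iInter]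
    simp only [Set.mem_iInter]
    exact fun i _ => hU i
  let t₀ : Fin d → Γ(F, U₀) := fun i =>
    F.presheaf.map (homOfLE (inf_le_left.trans (Finset.inf_le (Finset.mem_univ i)))).op (t i)
  let S' : Fin S.card → Γ(F, W) := fun i => (S.equivFin.symm i).1
  obtain ⟨O, hxO, hle, hO⟩ := GenDesc51.exists_span_nhd S' t₀ hxW hxU₀ (fun y hy => by
      rw [eq_top_iff, ← hspan y hy, Submodule.span_le]
      rintro _ ⟨m, hm, rfl⟩
      exact Submodule.subset_span ⟨S.equivFin ⟨m, hm⟩, by simp [S']⟩) (by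
      refine Eq.trans ?_ hv
      congr 1
      refine congrArg Set.range (funext fun i => ?_)
      exact (TopCat.Presheaf.germ_res_apply _ _ _ _ _).trans (ht i))
  refine ⟨O, d, fun i => F.presheaf.map (homOfLE hle).op (t₀ i), hxO, hd.trans (hσ j).2, fun y hy => ?_⟩
  refine Eq.trans ?_ (hO y hy)
  congr 1
  exact congrArg Set.range (funext fun i => TopCat.Presheaf.germ_res_apply _ _ _ _ _)

/-- Let F be a quasi-coherent O_X-module, r a natural number and f i : X i ⟶ X an fpqc covering family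
such that every pullback (f i)^* F is locally generated by at most r sections. Then F is locally
generated by at most r sections. ('Locally generated by at most r sections' is written as: there are
local generators data for the module, indexed in the universe of the scheme, all of whose generating
families are indexed by finite types of cardinality at most r.) -/
theorem result {ι : Type u} {X : Scheme.{u}} {Xi : ι → Scheme.{u}} (f : ∀ i, Xi i ⟶ X)
    (hf : Presieve.ofArrows Xi f ∈ Scheme.fpqcPrecoverage X) (F : X.Modules) [F.IsQuasicoherent] (r : ℕ)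
    (h : ∀ i, ∃ σ : SheafOfModules.LocalGeneratorsData.{u} (R := (Xi i).ringCatSheaf) ((Scheme.Modules.pullback (f i)).obj F),
      ∀ k, Finite (σ.generators k).I ∧ Nat.card (σ.generators k).I ≤ r) :
    ∃ σ : SheafOfModules.LocalGeneratorsData.{u} (R := X.ringCatSheaf) F,
      ∀ k, Finite (σ.generators k).I ∧ Nat.card (σ.generators k).I ≤ r := by
  choose O d t hx hd ht using main f hf F r h
  choose σ hσ₁ hσ₂ using fun x => Lib.GenDesc51.exists_gen_over (M := F) (O x) (t x) (ht x)
  exact ⟨{ I := X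
           X := O
           coversTop := (Opens.coversTop_iff _ _).mpr
             (eq_top_iff.mpr fun x _ ↦ TopologicalSpace.Opens.mem_iSup.mpr ⟨x, hx x⟩)
           generators := σ }, fun k => ⟨hσ₁ k, (hσ₂ k).trans (hd k)⟩⟩

end Groth.Agent.S9861
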