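import Groth.Statements.S9862
import Groth.Agent.Lib.SyntLocal.Scheme

set_option autoImplicit false
set_option linter.style.haveILetI false
open CategoryTheory CategoryTheory.Limits AlgebraicGeometry Opposite
universe u
open Desc

namespace Groth.Agent.S9862

/-- Being Cohen-Macaulay is local in the syntomic topology: for a jointly surjective family of syntomic
morphisms f i : X i ⟶ S, the scheme S is locally Noetherian with Cohen-Macaulay local rings if and
only if every X i is. -/
theorem result {ι : Type u} {S : Scheme.{u}} {X : ι → Scheme.{u}} (f : ∀ i, X i ⟶ S)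
    (hsurj : ∀ s : S, ∃ i, s ∈ Set.range (f i).base) (hsyn : ∀ i, Synt.IsSyntomicMor (f i)) :
    (IsLocallyNoetherian S ∧ ∀ s : S, LocCoh.IsCohenMacaulayLocalRing (S.presheaf.stalk s)) ↔
      ∀ i, IsLocallyNoetherian (X i) ∧ ∀ x : X i, LocCoh.IsCohenMacaulayLocalRing ((X i).presheaf.stalk x) := by
  open Groth.Agent.Lib in
  exact SyntLocal.iff_family EGA75.CM.compProp (fun L _ _ h => h)
    (fun A B _ _ _ _ _ _ Q0 _ p _ hp h =>
      EGA75.Loci.atPrime_descend EGA75.Loci.descend_CM A B Q0 p hp (h Q0))
    f hsurj hsyn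

end Groth.Agent.S9862
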