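import Groth.Statements.S9863
import Groth.Agent.Lib.SyntLocal.Scheme

set_option autoImplicit false
set_option linter.style.haveILetI false
open CategoryTheory CategoryTheory.Limits AlgebraicGeometry Opposite
universe u
open Desc

namespace Groth.Agent.S9863

/-- The property 'locally Noetherian and (S_k)' is local in the syntomic topology: for a jointly
surjective family of syntomic morphisms f i : X i ⟶ S and k a natural number, S is locally
Noetherian with all local rings satisfying Serre's condition (S_k) if and only if every X i is. -/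
theorem result {ι : Type u} {S : Scheme.{u}} {X : ι → Scheme.{u}} (f : ∀ i, X i ⟶ S)
    (hsurj : ∀ s : S, ∃ i, s ∈ Set.range (f i).base) (hsyn : ∀ i, Synt.IsSyntomicMor (f i)) (k : ℕ) :
    (IsLocallyNoetherian S ∧ ∀ s : S, LocCoh.HasSk k (S.presheaf.stalk s) (S.presheaf.stalk s)) ↔
      ∀ i, IsLocallyNoetherian (X i) ∧ ∀ x : X i, LocCoh.HasSk k ((X i).presheaf.stalk x) ((X i).presheaf.stalk x) := by
  open Groth.Agent.Lib in
  simp only [SyntLocal.forall_hasSk_stalk_iff]
  open Groth.Agent.Lib in
  exact SyntLocal.iff_family (P := fun R [CommRing R] => EGA75.Sn.Local k R) (EGA75.Sn.compProp k)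
    (fun L _ _ h => ⟨inferInstance, (min_le_right _ _).trans (Depth.CM.isCohenMacaulayLocalRing_iff.1 h)⟩)
    (fun A B _ _ _ _ _ _ Q0 _ p _ hp h =>
      EGA75.Sn.local_descent_below k A B Q0 p hp (fun q _ _ => h q))
    f hsurj hsyn

end Groth.Agent.S9863
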