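import Groth.Statements.S9871
import Groth.Agent.Lib.AlgSpace.Basic

set_option autoImplicit false
universe u
open CategoryTheory CategoryTheory.Limits AlgebraicGeometry
open AlgSp

namespace Groth.Agent.S9871

/-- Let `s, t : R ⟶ U` be an etale equivalence relation on a scheme `U` over `S` and let `g : U' ⟶ U` be
an etale morphism over `S`. Let `s', t' : R' ⟶ U'` be the restriction to `U'`: `R'`, with `(t', s')`
and `R' ⟶ R`, is the fibre product of `U' ×_S U'` and `R` over `U ×_S U`. Then `s', t'` is again an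
etale equivalence relation. -/
theorem result (S : Scheme.{u}) {R U R' U' : Over S} (s t : R ⟶ U)
    (g : U' ⟶ U) (s' t' : R' ⟶ U') (r : R' ⟶ R)
    (hsq : IsPullback (prod.lift t' s') r (prod.map g g) (prod.lift t s))
    (h : AlgSp.IsEtaleEqvRel s t) [Etale g.left] :
    AlgSp.IsEtaleEqvRel s' t' := by
  obtain ⟨⟨hinj, heq⟩, he₁, he₂⟩ := h
  have h1 : r ≫ t = t' ≫ g := by
    simpa [prod.lift_fst, prod.map_fst, prod.lift_fst_assoc] using congr($(hsq.w) ≫ prod.fst).symm
  have h2 : r ≫ s = s' ≫ g := by
    simpa [prod.lift_snd, prod.map_snd, prod.lift_snd_assoc] using congr($(hsq.w) ≫ prod.snd).symm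
  have hlift : ∀ (T : Over S) (a b : T ⟶ U') (x : T ⟶ R), x ≫ t = a ≫ g → x ≫ s = b ≫ g →
      ∃ x' : T ⟶ R', x' ≫ t' = a ∧ x' ≫ s' = b ∧ x' ≫ r = x := by
    intro T a b x ha hb
    have w : prod.lift a b ≫ prod.map g g = x ≫ prod.lift t s :=
      prod.hom_ext (by simp [prod.lift_fst, prod.map_fst, prod.lift_fst_assoc, ha])
        (by simp [prod.lift_snd, prod.map_snd, prod.lift_snd_assoc, hb])
    refine ⟨hsq.lift (prod.lift a b) x w, ?_, ?_, hsq.lift_snd _ _ _⟩
    · simpa [prod.lift_fst] using congr($(hsq.lift_fst (prod.lift a b) x w) ≫ prod.fst)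
    · simpa [prod.lift_snd] using congr($(hsq.lift_fst (prod.lift a b) x w) ≫ prod.snd)
  have hext : ∀ (T : Over S) (x y : T ⟶ R'), x ≫ t' = y ≫ t' → x ≫ s' = y ≫ s' → x = y := by
    intro T x y ha hb
    refine hsq.hom_ext ?_ (hinj T _ _ ?_ ?_)
    · exact prod.hom_ext (by simpa [prod.lift_fst] using ha) (by simpa [prod.lift_snd] using hb)
    · simp [h1, reassoc_of% ha]
    · simp [h2, reassoc_of% hb]
  have hgg : MorphismProperty.inverseImage @Etale (Over.forget S) g := ‹Etale g.left›
  refine ⟨⟨fun T x y ha hb ↦ hext T x y ha hb, fun T ↦ ⟨fun a ↦ ?_, ?_, ?_⟩⟩, ?_, ?_⟩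
  · obtain ⟨x, hx1, hx2⟩ := (heq T).refl (a ≫ g)
    obtain ⟨x', e1, e2, -⟩ := hlift T a a x hx1 hx2
    exact ⟨x', e1, e2⟩
  · rintro a b ⟨x, rfl, rfl⟩
    obtain ⟨y, hy1, hy2⟩ := (heq T).symm ⟨x ≫ r, by rw [Category.assoc, h1, ← Category.assoc],
      by rw [Category.assoc, h2, ← Category.assoc]⟩
    obtain ⟨x', e1, e2, -⟩ := hlift T _ _ y hy1 hy2
    exact ⟨x', e1, e2⟩
  · rintro a b c ⟨x, rfl, rfl⟩ ⟨y, hy, rfl⟩
    obtain ⟨z, hz1, hz2⟩ := (heq T).trans
      ⟨x ≫ r, by rw [Category.assoc, h1, ← Category.assoc], by rw [Category.assoc, h2, ← Category.assoc]⟩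
      ⟨y ≫ r, by rw [Category.assoc, h1, ← Category.assoc, hy],
        by rw [Category.assoc, h2, ← Category.assoc]⟩
    obtain ⟨x', e1, e2, -⟩ := hlift T _ _ z hz1 hz2
    exact ⟨x', e1, e2⟩
  · let k : R' ⟶ pullback t g := pullback.lift r t' h1
    have sq : IsPullback s' k g (pullback.fst t g ≫ s) := by
      refine IsPullback.of_isLimit' ⟨by rw [← Category.assoc k, show k ≫ pullback.fst t g = r from pullback.lift_fst _ _ _]; exact h2.symm⟩
        (PullbackCone.IsLimit.mk _ (fun c ↦ (hlift c.pt (c.snd ≫ pullback.snd t g) c.fst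
          (c.snd ≫ pullback.fst t g) (by simp [pullback.condition])
          (by simpa using c.condition.symm)).choose) ?_ ?_ ?_)
      · exact fun c ↦ (hlift c.pt (c.snd ≫ pullback.snd t g) c.fst (c.snd ≫ pullback.fst t g)
          (by simp [pullback.condition]) (by simpa using c.condition.symm)).choose_spec.2.1
      · intro c
        obtain ⟨e1, -, e3⟩ := (hlift c.pt (c.snd ≫ pullback.snd t g) c.fst (c.snd ≫ pullback.fst t g)
          (by simp [pullback.condition]) (by simpa using c.condition.symm)).choose_spec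
        apply pullback.hom_ext <;> simp [k, e1, e3, pullback.lift_fst, pullback.lift_snd]
      · intro c m hm1 hm2
        obtain ⟨e1, e2, -⟩ := (hlift c.pt (c.snd ≫ pullback.snd t g) c.fst (c.snd ≫ pullback.fst t g)
          (by simp [pullback.condition]) (by simpa using c.condition.symm)).choose_spec
        refine hext _ _ _ (e1.symm ▸ ?_) (hm1.trans e2.symm)
        simp [← hm2, k, pullback.lift_snd]
    have : MorphismProperty.inverseImage @Etale (Over.forget S) (pullback.fst t g ≫ s) :=
      MorphismProperty.comp_mem _ _ _ (MorphismProperty.pullback_fst _ _ hgg) he₁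
    exact MorphismProperty.of_isPullback (P := MorphismProperty.inverseImage @Etale (Over.forget S))
      sq.flip this
  · let k : R' ⟶ pullback s g := pullback.lift r s' h2
    have sq : IsPullback t' k g (pullback.fst s g ≫ t) := by
      refine IsPullback.of_isLimit' ⟨by rw [← Category.assoc k, show k ≫ pullback.fst s g = r from pullback.lift_fst _ _ _]; exact h1.symm⟩
        (PullbackCone.IsLimit.mk _ (fun c ↦ (hlift c.pt c.fst (c.snd ≫ pullback.snd s g)
          (c.snd ≫ pullback.fst s g) (by simpa using c.condition.symm)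
          (by simp [pullback.condition])).choose) ?_ ?_ ?_)
      · exact fun c ↦ (hlift c.pt c.fst (c.snd ≫ pullback.snd s g) (c.snd ≫ pullback.fst s g)
          (by simpa using c.condition.symm) (by simp [pullback.condition])).choose_spec.1
      · intro c
        obtain ⟨-, e2, e3⟩ := (hlift c.pt c.fst (c.snd ≫ pullback.snd s g) (c.snd ≫ pullback.fst s g)
          (by simpa using c.condition.symm) (by simp [pullback.condition])).choose_spec
        apply pullback.hom_ext <;> simp [k, e2, e3, pullback.lift_fst, pullback.lift_snd]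
      · intro c m hm1 hm2
        obtain ⟨e1, e2, -⟩ := (hlift c.pt c.fst (c.snd ≫ pullback.snd s g) (c.snd ≫ pullback.fst s g)
          (by simpa using c.condition.symm) (by simp [pullback.condition])).choose_spec
        refine hext _ _ _ (hm1.trans e1.symm) (e2.symm ▸ ?_)
        simp [← hm2, k, pullback.lift_snd]
    have : MorphismProperty.inverseImage @Etale (Over.forget S) (pullback.fst s g ≫ t) :=
      MorphismProperty.comp_mem _ _ _ (MorphismProperty.pullback_fst _ _ hgg) he₂
    exact MorphismProperty.of_isPullback (P := MorphismProperty.inverseImage @Etale (Over.forget S))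
      sq.flip this

end Groth.Agent.S9871
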