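import Groth.Statements.S9873
import Groth.Agent.Lib.AlgSpace.DescendRep

set_option autoImplicit false
universe u
open CategoryTheory CategoryTheory.Limits AlgebraicGeometry
open AlgSp

namespace Groth.Agent.S9873

open Groth.Agent.Lib Groth.Agent.Lib.AlgSpace

/-- Let `X` be an algebraic space over `S`, `F` an fppf sheaf of sets over `S`, and `f : X ⟶ F` a map of
sheaves which is representable by schemes, etale and surjective (in the representable sense). Then
`F` is an algebraic space over `S`; in particular an fppf sheaf receiving a representable etale
surjective map from a scheme is an algebraic space. -/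
theorem result (S : Scheme.{u}) (X : AlgSp.Space S) (F : AlgSp.Sp S)
    (f : X.obj ⟶ F) (he : AlgSp.RepWith @Etale f) (hs : AlgSp.RepWith @Surjective f) :
    AlgSp.IsAlgSpace F := by
  obtain ⟨U, p, hpe, hps⟩ := X.property.atlas
  refine ⟨?_, U, p ≫ f, repWith_comp hpe he, repWith_comp hps hs⟩
  have sq := IsPullback.of_hasPullback f f
  have hl : AlgSp.RepWith @LocallyOfFiniteType
      (prod.lift (Limits.pullback.fst f f) (Limits.pullback.snd f f)) := by
    have e : prod.lift (Limits.pullback.fst f f) (Limits.pullback.snd f f) =
        prod.lift (𝟙 _) (Limits.pullback.snd f f) ≫ prod.map (Limits.pullback.fst f f) (𝟙 X.obj) := by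
      rw [prod.lift_map, Category.id_comp, Category.comp_id]
    rw [e]
    refine repWith_comp ?_ (repWith_baseChange (isPullback_prodMap_id _ _) ?_)
    · exact repWith_baseChange (isPullback_prodLift
        (IsPullback.of_horiz_isIso (g := 𝟙 X.obj) (f := Limits.pullback.snd f f) ⟨by simp⟩))
        (repWith_diag_locallyOfFiniteType X.property)
    · exact repWith_baseChange sq.flip (repWith_mono he fun _ _ g (_ : Etale g) ↦ inferInstance)
  haveI : Sheaf.IsLocallySurjective (prod.map f f) :=
    isLocallySurjective_of_etale (repWith_prodMap he he) (repWith_prodMap hs hs)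
  exact representable_of_mono_of_lft (prod.map f f) (isPullback_prodLift sq) hl

end Groth.Agent.S9873
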