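import Groth.Statements.S9878
import Groth.Agent.Lib.AlgSpace.Coprod

set_option autoImplicit false
universe u
open CategoryTheory CategoryTheory.Limits AlgebraicGeometry
open AlgSp

namespace Groth.Agent.S9878

open Groth.Agent.Lib Groth.Agent.Lib.AlgSpace

/-- Let `F`, `G` be fppf sheaves of sets over `S` and let `F ⨿ G` be their coproduct in sheaves (any
colimit binary cofan). Then the coprojection `F ⟶ F ⨿ G` is representable by schemes, by morphisms
that are both open immersions and closed immersions. -/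
theorem result (S : Scheme.{u}) (F G : AlgSp.Sp S) (c : BinaryCofan F G)
    (hc : IsColimit c) :
    AlgSp.RepWith (@IsOpenImmersion ⊓ @IsClosedImmersion) c.inl := by
  let X : ULift.{u} WalkingPair → AlgSp.Sp S := fun j ↦ WalkingPair.casesOn j.down F G
  let d : Cofan X := Cofan.mk c.pt fun j ↦ match j with
    | ⟨WalkingPair.left⟩ => c.inl
    | ⟨WalkingPair.right⟩ => c.inr
  have hd : IsColimit d := Cofan.IsColimit.mk d
    (fun s ↦ (BinaryCofan.IsColimit.desc' hc (s.inj ⟨WalkingPair.left⟩) (s.inj ⟨WalkingPair.right⟩)).1)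
    (fun s j ↦ by
      rcases j with ⟨_ | _⟩
      · exact (BinaryCofan.IsColimit.desc' hc (s.inj ⟨WalkingPair.left⟩)
          (s.inj ⟨WalkingPair.right⟩)).2.1
      · exact (BinaryCofan.IsColimit.desc' hc (s.inj ⟨WalkingPair.left⟩)
          (s.inj ⟨WalkingPair.right⟩)).2.2)
    (fun s m hm ↦ BinaryCofan.IsColimit.hom_ext hc
      ((hm ⟨WalkingPair.left⟩).trans (BinaryCofan.IsColimit.desc' hc (s.inj ⟨WalkingPair.left⟩)
        (s.inj ⟨WalkingPair.right⟩)).2.1.symm)
      ((hm ⟨WalkingPair.right⟩).trans (BinaryCofan.IsColimit.desc' hc (s.inj ⟨WalkingPair.left⟩)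
        (s.inj ⟨WalkingPair.right⟩)).2.2.symm))
  exact repWith_inj hd ⟨WalkingPair.left⟩

end Groth.Agent.S9878
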