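import Groth.Statements.S9882
import Groth.Agent.Lib.AlgSpace.DiagProp
import Mathlib.AlgebraicGeometry.Morphisms.QuasiFinite
import Mathlib.AlgebraicGeometry.Morphisms.UniversallyInjective

set_option autoImplicit false
universe u
open CategoryTheory CategoryTheory.Limits AlgebraicGeometry
open AlgSp

namespace Groth.Agent.S9882

/-- Let `X` be an algebraic space over `S` with diagonal `Δ : X ⟶ X × X` (representable by schemes).
Then, in the representable sense, `Δ` is locally of finite type, a monomorphism, separated, and
locally quasi-finite. (Mathlib's locally quasi-finite class has no finite-type clause; together with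
the first conjunct this is the usual notion.) -/
theorem result (S : Scheme.{u}) (X : AlgSp.Space S) :
    AlgSp.RepWith @LocallyOfFiniteType (Limits.diag X.obj) ∧
      AlgSp.RepWith (MorphismProperty.monomorphisms Scheme.{u}) (Limits.diag X.obj) ∧
      AlgSp.RepWith @IsSeparated (Limits.diag X.obj) ∧
      AlgSp.RepWith @LocallyQuasiFinite (Limits.diag X.obj) := by
  have h1 := Groth.Agent.Lib.AlgSpace.repWith_diag_locallyOfFiniteType X.property
  have h2 := Groth.Agent.Lib.AlgSpace.repWith_diag_monomorphisms X.property.diag
  refine ⟨h1, h2, Groth.Agent.Lib.AlgSpace.repWith_mono h2 fun _ _ g (hg : Mono g) ↦ inferInstance,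
    ⟨h1.1, fun U V ξ fst snd sq ↦ ?_⟩⟩
  have : LocallyOfFiniteType snd.left := h1.2 ξ fst snd sq
  have : Mono snd.left := h2.2 ξ fst snd sq
  change LocallyQuasiFinite snd.left
  exact LocallyQuasiFinite.of_injective snd.left.injective

end Groth.Agent.S9882
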