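import Groth.Statements.S9893
import Groth.Agent.Lib.Restrict.Slice

set_option autoImplicit false
universe u
open CategoryTheory CategoryTheory.Limits AlgebraicGeometry
open AlgSp

namespace Groth.Agent.S9893

/-- Let `g : S ⟶ S'` be a morphism of schemes and `F'` an fppf sheaf of sets on schemes over `S'`. Then
the restriction of `F'` to schemes over `S` (a scheme over `S` being viewed over `S'` through `g`)
is an algebraic space over `S` if and only if `h_S × F'` is an algebraic space over `S'`, where
`h_S` is the sheaf represented by `S` as a scheme over `S'`. -/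
theorem result {S S' : Scheme.{u}} (g : S ⟶ S') (F' : AlgSp.Sp S') :
    AlgSp.IsAlgSpace ((Scheme.fppfTopology.overMapPullback (Type (u + 1)) g).obj F') ↔
      AlgSp.IsAlgSpace ((AlgSp.yon S').obj (Over.mk g) ⨯ F') := by
  have sq := IsPullback.of_hasPullback
    ((Groth.Agent.Lib.Restrict.jinv g).map (prod.fst : (AlgSp.yon S').obj (Over.mk g) ⨯ F' ⟶ _))
    (Groth.Agent.Lib.Restrict.sect g)
  have := Groth.Agent.Lib.Restrict.isIso_prod_fibre (g := g) F'
  have := Groth.Agent.Lib.Restrict.isIso_ofRestr sq
  constructor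
  · intro h
    exact (Groth.Agent.Lib.Restrict.isAlgSpace_ext (g := g) (h.of_iso (asIso (pullback.fst
      ((Groth.Agent.Lib.Restrict.jinv g).map (prod.fst : (AlgSp.yon S').obj (Over.mk g) ⨯ F' ⟶ _))
      (Groth.Agent.Lib.Restrict.sect g) ≫ (Groth.Agent.Lib.Restrict.jinv g).map prod.snd)).symm)).of_iso
      (asIso (Groth.Agent.Lib.Restrict.ofRestr (pullback.fst
        ((Groth.Agent.Lib.Restrict.jinv g).map (prod.fst : (AlgSp.yon S').obj (Over.mk g) ⨯ F' ⟶ _))
        (Groth.Agent.Lib.Restrict.sect g))))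
  · intro h
    exact (Groth.Agent.Lib.Restrict.isAlgSpace_fibre sq h).of_iso (asIso (pullback.fst
      ((Groth.Agent.Lib.Restrict.jinv g).map (prod.fst : (AlgSp.yon S').obj (Over.mk g) ⨯ F' ⟶ _))
      (Groth.Agent.Lib.Restrict.sect g) ≫ (Groth.Agent.Lib.Restrict.jinv g).map prod.snd))


end Groth.Agent.S9893
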