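import Groth.Statements.S9899
import Groth.Agent.Lib.Restrict.Slice

set_option autoImplicit false
universe u
open CategoryTheory CategoryTheory.Limits AlgebraicGeometry
open AlgSp

namespace Groth.Agent.S9899

/-- Let `g : S ⟶ S'` be a morphism of schemes and `j_!` the left adjoint of the restriction functor from
fppf sheaves of sets on schemes over `S'` to those on schemes over `S`. Let `F` be an algebraic
space over `S`, `T` a scheme over `S` and `f : h_T ⟶ F`, and let `P` be a property of morphisms of
schemes stable under base change and fppf local on the base. Then `j_!(f)`, which is the morphism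
`h_{T} ⟶ j_! F` over `S'` obtained from `f` up to the identification `j_! h_T ≅ h_T` (`T` viewed
over `S'`), has `P` in the representable sense if and only if `f` does. -/
theorem result {S S' : Scheme.{u}} (g : S ⟶ S') (F : AlgSp.Space S) (T : Over S)
    (f : (AlgSp.yon S).obj T ⟶ F.obj) (P : MorphismProperty Scheme.{u}) [P.IsStableUnderBaseChange]
    [P.IsLocalAtTarget Scheme.fppfPrecoverage] :
    AlgSp.RepWith (S := S') P (((Over.map g).sheafPullback (Type (u + 1)) (AlgSp.J S) (AlgSp.J S')).map f) ↔ AlgSp.RepWith P f := by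
  have hiso : RepWith (S := S') P (((Over.map g).sheafPullback (Type (u + 1)) (AlgSp.J S) (AlgSp.J S')).map f) ↔
      RepWith P (Groth.Agent.Lib.Restrict.extMap (g := g) f) :=
    MorphismProperty.arrow_mk_iso_iff _ (Arrow.isoMk ((Groth.Agent.Lib.Restrict.extIso g).app _)
      ((Groth.Agent.Lib.Restrict.extIso g).app _) ((Groth.Agent.Lib.Restrict.extIso g).hom.naturality f).symm)
  rw [hiso]
  refine ⟨fun h => ?_, Groth.Agent.Lib.Restrict.repWith_extMap⟩
  have e : Groth.Agent.Lib.Restrict.toPt ((AlgSp.yon S).obj T) = f ≫ Groth.Agent.Lib.Restrict.toPt F.obj :=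
    Groth.Agent.Lib.AlgSpace.hom_ext fun _ _ => Groth.Agent.Lib.Restrict.pt_hom_ext _ _
  have w : Groth.Agent.Lib.Restrict.toRestr (𝟙 (Groth.Agent.Lib.Restrict.ext g ((AlgSp.yon S).obj T))) ≫
      (Groth.Agent.Lib.Restrict.jinv g).map (Groth.Agent.Lib.Restrict.extMap f) =
      f ≫ Groth.Agent.Lib.Restrict.toRestr (𝟙 (Groth.Agent.Lib.Restrict.ext g F.obj)) := by
    ext X x
    exact congrArg (Groth.Agent.Lib.Restrict.Sec.mk _) (congr($(f.hom.naturality _) x))
  have big := Groth.Agent.Lib.Restrict.isPullback_unit g ((AlgSp.yon S).obj T)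
  rw [e, show (Groth.Agent.Lib.Restrict.jinv g).map (Groth.Agent.Lib.Restrict.proj g ((AlgSp.yon S).obj T)) =
    (Groth.Agent.Lib.Restrict.jinv g).map (Groth.Agent.Lib.Restrict.extMap f) ≫
      (Groth.Agent.Lib.Restrict.jinv g).map (Groth.Agent.Lib.Restrict.proj g F.obj) by
        rw [← Functor.map_comp]; rfl] at big
  exact MorphismProperty.of_isPullback (IsPullback.of_bot big w (Groth.Agent.Lib.Restrict.isPullback_unit g F.obj))
    (Groth.Agent.Lib.Restrict.repWith_jinv h)

end Groth.Agent.S9899
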