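import Groth.Statements.S9906
import Groth.Agent.Lib.AlgSpMor.Topo
-- import your own Groth.Agent.* helpers here

set_option autoImplicit false
universe u
open CategoryTheory CategoryTheory.Limits AlgebraicGeometry
open AlgSp

open Groth.Agent.Lib.AlgSpace Groth.Agent.Lib.AlgSpMor Topology

namespace Groth.Agent.S9906

/-- For a morphism of algebraic spaces representable by schemes, representable surjectivity is
equivalent to surjectivity of the induced map on points. -/
theorem result {S : Scheme.{u}} {X Y : AlgSp.Space S} (f : X ⟶ Y)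
    (hf : AlgSp.Representable f.hom) :
    AlgSp.RepWith @Surjective f.hom ↔ AlgSp.IsSurjectiveMor f.hom := by
  refine ⟨fun h ↦ surjective_map h, fun h ↦ repWith_of_exists fun U ξ ↦
    ⟨_, hf.snd ξ, hf.fst ξ, hf.isPullback ξ, ⟨fun u ↦ ?_⟩⟩⟩
  have hu : u ∈ AlgSp.Points.ofPt ξ ⁻¹' (AlgSp.Points.map f.hom '' Set.univ) := by
    rw [Set.image_univ]
    exact h _
  rw [preimage_image_map (hf.isPullback ξ)] at hu
  obtain ⟨v, -, hv⟩ := hu
  exact ⟨v, hv⟩

end Groth.Agent.S9906
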