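import Groth.Statements.S9911
import Groth.Agent.Lib.AlgSpMor.UnivOpen
-- import your own Groth.Agent.* helpers here

set_option autoImplicit false
universe u
open CategoryTheory CategoryTheory.Limits AlgebraicGeometry
open AlgSp

open Groth.Agent.Lib.AlgSpace Groth.Agent.Lib.AlgSpMor Topology

namespace Groth.Agent.S9911

/-- A morphism from an algebraic space to the spectrum of a field is universally open. -/
theorem result {S : Scheme.{u}} (X : AlgSp.Space S) {k : Type u} [Field k]
    (str : Spec (CommRingCat.of k) ⟶ S) (p : X ⟶ (AlgSp.ofScheme S).obj (Over.mk str)) :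
    AlgSp.IsUnivOpenMor p.hom := by
  obtain ⟨U, φ, -, hφs⟩ := X.property.atlas
  refine UnivOpen.isUnivOpenMor_of_precomp φ (surjective_map hφs) ?_
  obtain ⟨g, hg⟩ := (yon S).map_surjective (show (yon S).obj U ⟶ (yon S).obj (Over.mk str) from φ ≫ p.hom)
  have : RepWith @UniversallyOpen ((yon S).map g) :=
    (AlgSp.repWith_yon_map_iff _ g).2 ((fun {A : Scheme.{u}} (e : A ⟶ Spec (CommRingCat.of k)) ↦
      (inferInstance : UniversallyOpen e)) g.left)
  rw [hg] at this
  exact this

end Groth.Agent.S9911
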