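import Groth.Statements.S9913
import Groth.Agent.Lib.AlgSpMor.QC
-- import your own Groth.Agent.* helpers here

set_option autoImplicit false
universe u
open CategoryTheory CategoryTheory.Limits AlgebraicGeometry
open AlgSp

open Groth.Agent.Lib.AlgSpace Groth.Agent.Lib.AlgSpMor Topology

namespace Groth.Agent.S9913

/-- For a quasi-compact morphism of algebraic spaces, the induced map on points pulls quasi-compact
opens back to quasi-compact subsets. -/
theorem result {S : Scheme.{u}} {X Y : AlgSp.Space S} (f : X ⟶ Y)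
    (hf : AlgSp.IsQuasiCompactMor f.hom) (V : Set (AlgSp.Points Y.obj)) (hV : IsOpen V) (hVc : IsCompact V) :
    IsCompact (AlgSp.Points.map f.hom ⁻¹' V) := by
  obtain ⟨U, p, hp, hps⟩ := Y.property.atlas
  have hcov : ∀ y ∈ V, ∃ O : {O : U.left.affineOpens // AlgSp.Points.ofPt p '' (O.1 : Set ↥U.left) ⊆ V},
      y ∈ AlgSp.Points.ofPt p '' (O.1.1 : Set ↥U.left) := by
    intro y hy
    obtain ⟨v, rfl⟩ := surjective_ofPt hps y
    obtain ⟨O, hO, hv, hsub⟩ := exists_isAffineOpen_mem_and_subset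
      (U := ⟨_, hV.preimage (AlgSp.Points.continuous_ofPt p)⟩) (show v ∈ AlgSp.Points.ofPt p ⁻¹' V from hy)
    exact ⟨⟨⟨O, hO⟩, Set.image_subset_iff.2 hsub⟩, v, hv, rfl⟩
  obtain ⟨s, hs⟩ := hVc.elim_finite_subcover
    (fun O : {O : U.left.affineOpens // AlgSp.Points.ofPt p '' (O.1 : Set ↥U.left) ⊆ V} ↦
      AlgSp.Points.ofPt p '' (O.1.1 : Set ↥U.left))
    (fun O ↦ isOpenMap_ofPt hp _ O.1.1.2) (fun y hy ↦ Set.mem_iUnion.2 (hcov y hy))
  have heq : AlgSp.Points.map f.hom ⁻¹' V = ⋃ O ∈ s, Set.range (AlgSp.Points.map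
      (pullback.fst f.hom ((yon S).map (Topo.opensOverι O.1.1) ≫ p))) := by
    ext x
    constructor
    · intro hx
      obtain ⟨O, hO, v, hv, e⟩ := Set.mem_iUnion₂.1 (hs hx)
      obtain ⟨z, hz, -⟩ := exists_of_isPullback
        (IsPullback.of_hasPullback f.hom ((yon S).map (Topo.opensOverι O.1.1) ≫ p)) x
        (AlgSp.Points.ofScheme (Topo.opensOver O.1.1) ⟨v, hv⟩) (by
          rw [← AlgSp.Points.ofPt_eq_map_ofScheme, ofPt_yon_map_comp]
          exact e.symm)
      exact Set.mem_iUnion₂.2 ⟨O, hO, z, hz⟩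
    · intro hx
      obtain ⟨O, -, z, rfl⟩ := Set.mem_iUnion₂.1 hx
      obtain ⟨v, hv⟩ := (AlgSp.Points.schemeHomeo _).surjective (AlgSp.Points.map
        (pullback.snd f.hom ((yon S).map (Topo.opensOverι O.1.1) ≫ p)) z)
      rw [Set.mem_preimage, ← AlgSp.Points.map_comp, pullback.condition, AlgSp.Points.map_comp, ← hv,
        AlgSp.Points.map_comp, AlgSp.Points.map_yon_map_eq]
      simp only [Function.comp_apply, Homeomorph.symm_apply_apply]
      exact O.2 ⟨_, Subtype.prop v, AlgSp.Points.ofPt_eq_map_ofScheme _ _⟩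
  rw [heq]
  refine s.isCompact_biUnion fun O _ ↦ ?_
  haveI : IsAffine (Topo.opensOver O.1.1).left := O.1.2
  haveI := QC.compactSpace_of_isQuasiCompactMor hf
    (IsPullback.of_hasPullback f.hom ((yon S).map (Topo.opensOverι O.1.1) ≫ p))
  exact isCompact_range (AlgSp.Points.continuous_map _)

end Groth.Agent.S9913
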