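import Groth.Statements.S9915
import Groth.Agent.Lib.AlgSpMor.QC
-- import your own Groth.Agent.* helpers here

set_option autoImplicit false
universe u
open CategoryTheory CategoryTheory.Limits AlgebraicGeometry
open AlgSp

open Groth.Agent.Lib.AlgSpace Groth.Agent.Lib.AlgSpMor Topology

namespace Groth.Agent.S9915

/-- In a commutative triangle of algebraic spaces with f : X -> Y surjective, if X -> Z is quasi-compact
then Y -> Z is quasi-compact. -/
theorem result {S : Scheme.{u}} {X Y Z : AlgSp.Space S} (f : X ⟶ Y)
    (p : X ⟶ Z) (q : Y ⟶ Z) (comm : f ≫ q = p) (hf : AlgSp.IsSurjectiveMor f.hom)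
    (hp : AlgSp.IsQuasiCompactMor p.hom) : AlgSp.IsQuasiCompactMor q.hom := by
  refine QC.isQuasiCompactMor_of_affine Y.property Z.property.diag fun W hW g Q fst snd sq ↦ ?_
  have sqP := IsPullback.of_hasPullback p.hom g
  have hc : f.hom ≫ q.hom = p.hom := congrArg (fun k ↦ k.hom) comm
  have sq2 : IsPullback (pullback.fst p.hom g)
      (sq.lift (pullback.fst p.hom g ≫ f.hom) (pullback.snd p.hom g)
        (by rw [Category.assoc, hc]; exact pullback.condition)) f.hom fst :=
    IsPullback.of_bot (by rw [sq.lift_snd, hc]; exact sqP) (sq.lift_fst _ _ _).symm sq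
  haveI := hW
  haveI := QC.compactSpace_of_isQuasiCompactMor hp sqP
  exact QC.compactSpace_of_surjective (QC.surjective_of_isPullback sq2 hf)

end Groth.Agent.S9915
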