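import Groth.Statements.S9918
import Groth.Agent.Lib.AlgSpMor.QC
-- import your own Groth.Agent.* helpers here

set_option autoImplicit false
universe u
open CategoryTheory CategoryTheory.Limits AlgebraicGeometry
open AlgSp

open Groth.Agent.Lib.AlgSpace Groth.Agent.Lib.AlgSpMor Topology

namespace Groth.Agent.S9918

/-- (5) ⇒ (1): quasi-compactness of a morphism of algebraic spaces descends along a surjective etale
base change of algebraic spaces. -/
theorem result {S : Scheme.{u}} {X Y Y' X' : AlgSp.Space S}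
    (f : X ⟶ Y) (g : Y' ⟶ Y) (fst : X' ⟶ X) (f' : X' ⟶ Y') (sq : IsPullback fst.hom f'.hom f.hom g.hom)
    (hg : AlgSp.IsEtaleMor g.hom) (hgs : AlgSp.IsSurjectiveMor g.hom) (hf' : AlgSp.IsQuasiCompactMor f'.hom) :
    AlgSp.IsQuasiCompactMor f.hom := by
  obtain ⟨U, φ, hφ, hφs⟩ := Y'.property.atlas
  have he : RepWith @Etale (φ ≫ g.hom) := hg φ hφ
  have sqU := IsPullback.of_hasPullback f'.hom φ
  have hqc : AlgSp.IsQuasiCompactMor (pullback.snd f'.hom φ) :=
    fun Z Z' hZ hZc a q₁ q₂ h ↦ hf' hZ hZc _ _ _ (h.paste_horiz sqU)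
  refine QC.isQuasiCompactMor_of_cover (sqU.paste_horiz sq) X.property Y.property.diag
    (IsAlgSpace.yon_obj U) (fun Z _ a Q q₁ q₂ h ↦ isOpenMap_map
      (repWith_mono (repWith_baseChange h he) fun _ _ e (_ : Etale e) ↦
        (inferInstance : UniversallyOpen e))) (fun y ↦ ?_) hqc
  obtain ⟨z, rfl⟩ := hgs y
  obtain ⟨w, rfl⟩ := surjective_map hφs z
  exact ⟨w, AlgSp.Points.map_comp _ _ _⟩

end Groth.Agent.S9918
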