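import Groth.Statements.S9926
import Groth.Agent.Lib.AlgSpMor.UnivClosedQC
import Groth.Agent.S9915
import Groth.Agent.S10279
-- import your own Groth.Agent.* helpers here

set_option autoImplicit false
universe u
open CategoryTheory CategoryTheory.Limits AlgebraicGeometry
open AlgSp

open Groth.Agent.Lib.AlgSpace Groth.Agent.Lib.AlgSpMor

namespace Groth.Agent.S9926

/-- Let B be an algebraic space and f : X -> Y a morphism over B that is surjective and universally
closed. Quasi-separatedness of X over B forces quasi-separatedness of Y over B, and likewise for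
separatedness. (The published lemma also has absolute versions; this row states the versions over
B.) -/
theorem result {S : Scheme.{u}} {X Y B : AlgSp.Space S} (f : X ⟶ Y) (p : X ⟶ B)
    (q : Y ⟶ B) (comm : f ≫ q = p) (hs : AlgSp.IsSurjectiveMor f.hom) (hc : AlgSp.IsUnivClosedMor f.hom) :
    (AlgSp.IsQuasiSeparatedMor p.hom → AlgSp.IsQuasiSeparatedMor q.hom) ∧
    (AlgSp.IsSeparatedMor p.hom → AlgSp.IsSeparatedMor q.hom) := by
  have hc' : AlgSp.IsUnivClosedMor f.hom := by assumption
  have hcq : f.hom ≫ q.hom = p.hom := congrArg (fun k ↦ k.hom) comm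
  rw [← hcq]
  have hXX := isAlgSpace_of_isPullback (IsPullback.of_hasPullback (f.hom ≫ q.hom) (f.hom ≫ q.hom))
    B.property.diag X.property X.property
  have hYX := isAlgSpace_of_isPullback (IsPullback.of_hasPullback q.hom (f.hom ≫ q.hom))
    B.property.diag Y.property X.property
  have hYY := isAlgSpace_of_isPullback (IsPullback.of_hasPullback q.hom q.hom)
    B.property.diag Y.property Y.property
  let m₁ : pullback (f.hom ≫ q.hom) (f.hom ≫ q.hom) ⟶ pullback q.hom (f.hom ≫ q.hom) :=
    pullback.lift (pullback.fst _ _ ≫ f.hom) (pullback.snd _ _)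
      (by rw [Category.assoc]; exact pullback.condition)
  let m₂ : pullback q.hom (f.hom ≫ q.hom) ⟶ pullback q.hom q.hom :=
    pullback.lift (pullback.fst _ _) (pullback.snd _ _ ≫ f.hom)
      (by rw [Category.assoc]; exact pullback.condition)
  have sq₁ : IsPullback (pullback.fst (f.hom ≫ q.hom) (f.hom ≫ q.hom)) m₁ f.hom
      (pullback.fst q.hom (f.hom ≫ q.hom)) :=
    IsPullback.of_bot (by simpa [m₁, pullback.lift_snd] using IsPullback.of_hasPullback _ _)
      (pullback.lift_fst _ _ _).symm (IsPullback.of_hasPullback _ _)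
  have sq₂ : IsPullback (pullback.snd q.hom (f.hom ≫ q.hom)) m₂ f.hom (pullback.snd q.hom q.hom) :=
    IsPullback.of_bot (by simpa [m₂, pullback.lift_fst] using
        (IsPullback.of_hasPullback q.hom (f.hom ≫ q.hom)).flip)
      (pullback.lift_snd _ _ _).symm (IsPullback.of_hasPullback q.hom q.hom).flip
  have hu := Proper.isUnivClosedMor_comp hYX hYY.diag
    (Proper.univSp_baseChange sq₁ hc') (Proper.univSp_baseChange sq₂ hc')
  have hq := QC.isQuasiCompactMor_comp hYX hYY.diag
    (Perm.isQuasiCompactMor_baseChange sq₁ (UnivClosedQC.isQuasiCompactMor X.property Y.property hc'))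
    (Perm.isQuasiCompactMor_baseChange sq₂ (UnivClosedQC.isQuasiCompactMor X.property Y.property hc'))
  have e : pullback.diagonal (f.hom ≫ q.hom) ≫ m₁ ≫ m₂ = f.hom ≫ pullback.diagonal q.hom := by
    apply pullback.hom_ext <;> simp [m₁, m₂, pullback.lift_fst, pullback.lift_snd,
      pullback.lift_fst_assoc, pullback.lift_snd_assoc]
  let YY : AlgSp.Space S := ⟨_, hYY⟩
  let Δ : Y ⟶ YY := ObjectProperty.homMk (pullback.diagonal q.hom)
  let Δ' : X ⟶ YY := ObjectProperty.homMk (f.hom ≫ pullback.diagonal q.hom)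
  obtain ⟨d1, d2, d3, -, -⟩ := Sep.diagonal_props q.hom Y.property
  refine ⟨fun h ↦ ?_, fun h ↦ ?_⟩
  · have h' : AlgSp.IsQuasiCompactMor Δ'.hom := by
      show AlgSp.IsQuasiCompactMor (f.hom ≫ pullback.diagonal q.hom)
      rw [← e]
      exact QC.isQuasiCompactMor_comp hXX hYY.diag (QC.isQuasiCompactMor_of_repWith h) hq
    exact (QC.repWith_quasiCompact_iff d1).2
      (Groth.Agent.S9915.result f Δ' Δ rfl hs h')
  · have h' : AlgSp.IsUnivClosedMor Δ'.hom := by
      show AlgSp.IsUnivClosedMor (f.hom ≫ pullback.diagonal q.hom)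
      rw [← e]
      exact Proper.isUnivClosedMor_comp hXX hYY.diag (Proper.isUnivClosedMor_of_repWith
        (repWith_mono h fun _ _ g (_ : IsClosedImmersion g) ↦ (inferInstance : UniversallyClosed g))) hu
    have hΔ := Groth.Agent.S10279.result f Δ' Δ rfl h' hs
    show RepWith @IsClosedImmersion (pullback.diagonal q.hom)
    rw [Sep.isClosedImmersion_eq]
    exact repWith_inf_iff.2 ⟨repWith_inf_iff.2 ⟨Proper.repWith_universallyClosed_of d1 hΔ, d2⟩, d3⟩

end Groth.Agent.S9926
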