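import Groth.Statements.S9927
import Groth.Agent.Lib.AlgSpace.Local
-- import your own Groth.Agent.* helpers here

set_option autoImplicit false
universe u
open CategoryTheory CategoryTheory.Limits AlgebraicGeometry
open AlgSp

open Groth.Agent.Lib.AlgSpace

namespace Groth.Agent.S9927

/-- (4) ⇒ (1): being a monomorphism descends along a surjective etale base change from a scheme. -/
theorem result {S : Scheme.{u}} {X Y : AlgSp.Space S} (f : X ⟶ Y) (V : Over S)
    (p : (AlgSp.yon S).obj V ⟶ Y.obj) (hp : AlgSp.RepWith @Etale p) (hps : AlgSp.RepWith @Surjective p)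
    {P : AlgSp.Sp S} (fst : P ⟶ X.obj) (snd : P ⟶ (AlgSp.yon S).obj V) (sq : IsPullback fst snd f.hom p)
    [Mono snd] : Mono f.hom := by
  refine mono_of_yon f.hom fun T a b (w : a ≫ f.hom = b ≫ f.hom) ↦ ?_
  obtain ⟨T', t, v, sqT, -⟩ := repWith_exists hp (a ≫ f.hom)
  have : Sheaf.IsLocallySurjective ((yon S).map t) :=
    isLocallySurjective_of_etale (repWith_baseChange sqT hp) (repWith_baseChange sqT hps)
  have ha : ((yon S).map t ≫ a) ≫ f.hom = v ≫ p := by rw [Category.assoc, sqT.w]
  have hb : ((yon S).map t ≫ b) ≫ f.hom = v ≫ p := by rw [Category.assoc, ← w, sqT.w]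
  have e : sq.lift _ v ha = sq.lift _ v hb := by
    rw [← cancel_mono snd, sq.lift_snd, sq.lift_snd]
  have e' := congrArg (· ≫ fst) e
  simp only [sq.lift_fst] at e'
  exact (cancel_epi ((yon S).map t)).1 e'

end Groth.Agent.S9927
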