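import Groth.Statements.S9929
import Groth.Agent.Lib.AlgSpMor.EtaleMono
import Mathlib.AlgebraicGeometry.Morphisms.LocalFlatDescent
import Mathlib.AlgebraicGeometry.Morphisms.Flat
-- import your own Groth.Agent.* helpers here

set_option autoImplicit false
universe u
open CategoryTheory CategoryTheory.Limits AlgebraicGeometry
open AlgSp

open Groth.Agent.Lib.AlgSpace Groth.Agent.Lib.AlgSpMor

namespace Groth.Agent.S9929

/-- A monomorphism from an algebraic space to the spectrum of a field is either the empty space or an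
isomorphism. -/
theorem result {S : Scheme.{u}} {k : Type u} [Field k] (str : Spec (CommRingCat.of k) ⟶ S)
    (Z : AlgSp.Space S) (f : Z ⟶ (AlgSp.ofScheme S).obj (Over.mk str)) [Mono f.hom] :
    IsEmpty (AlgSp.Points Z.obj) ∨ IsIso f := by
  refine or_iff_not_imp_left.2 fun hne ↦ ?_
  let F : Z.obj ⟶ (yon S).obj (Over.mk str) := f.hom
  haveI : Mono F := ‹Mono f.hom›
  obtain ⟨z⟩ : Nonempty (AlgSp.Points Z.obj) := not_isEmpty_iff.1 hne
  obtain ⟨U, a, ha, has⟩ := Z.property.atlas
  obtain ⟨u, -⟩ := surjective_ofPt has z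
  obtain ⟨g, hg⟩ := (yon S).map_surjective
    (a ≫ F)
  obtain ⟨R, p, q, sqR⟩ := exists_isPullback_yon Z.property.diag a a
  have sqR' := (isPullback_of_yon_map (fst := p) (snd := q) (f := g) (g := g) (by
    rw [hg]
    exact IsPullback.of_isLimit (PullbackCone.isLimitOfCompMono a a F sqR.cone sqR.isLimit))
    ).map (Over.forget S)
  change IsPullback p.left q.left g.left g.left at sqR'
  have hp : Etale p.left := repWith_property ha sqR.flip
  obtain ⟨O, hO, hu, -⟩ := exists_isAffineOpen_mem_and_subset (U := ⊤) (Set.mem_univ u)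
  haveI : Nonempty ↥O.toScheme := ⟨⟨u, hu⟩⟩
  haveI : IsAffine O.toScheme := hO
  have hfield : ∀ {A : Scheme.{u}} (m : A ⟶ Spec (CommRingCat.of k)) [IsAffine A] [Nonempty ↥A],
      (@Surjective ⊓ @Flat ⊓ @QuasiCompact : MorphismProperty Scheme.{u}) m := fun m _ _ ↦
    ⟨⟨⟨fun x ↦ ⟨Classical.arbitrary _, Subsingleton.elim _ _⟩⟩, inferInstance⟩, inferInstance⟩
  have hg' : Etale g.left := by
    refine MorphismProperty.of_isPullback_of_descendsAlong (P := @Etale)
      (Q := @Surjective ⊓ @Flat ⊓ @QuasiCompact)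
      ((IsPullback.of_hasPullback O.ι p.left).paste_vert sqR'.flip.flip) (hfield (O.ι ≫ g.left)) ?_
    exact MorphismProperty.pullback_fst _ _ hp
  have haf : RepWith @Etale (a ≫ F) := by
    rw [← hg]; exact (AlgSp.repWith_yon_map_iff _ g).2 hg'
  have hoi := EtaleMono.repWith_openImmersion_of_mono (IsAlgSpace.yon_obj _).diag ha has haf
  obtain ⟨W, w, c, sq, hw⟩ := repWith_exists hoi (𝟙 ((yon S).obj (Over.mk str)))
  haveI : IsOpenImmersion w.left := hw
  haveI : Surjective w.left := by
    have hsub : Subsingleton ↥(Over.mk str).left :=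
      inferInstanceAs (Subsingleton ↥(Spec (CommRingCat.of k)))
    refine ⟨fun x ↦ ?_⟩
    obtain ⟨r, -, -⟩ := exists_of_isPullback sq z (AlgSp.Points.ofScheme (Over.mk str) x) (by
      refine ((AlgSp.Points.schemeHomeo (Over.mk str)).toEquiv.symm.subsingleton).elim _ _)
    exact ⟨(AlgSp.Points.schemeHomeo W).symm r, Subsingleton.elim _ _⟩
  haveI : IsIso w.left := (isIso_iff_isOpenImmersion_and_surjective _).2 ⟨inferInstance, inferInstance⟩
  haveI : IsIso ((Over.forget S).map w) := ‹IsIso w.left›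
  haveI : IsIso w := isIso_of_reflects_iso w (Over.forget S)
  haveI : IsIso c := sq.isIso_fst_of_isIso
  haveI : IsIso F := by
    have e : F = inv c ≫ (yon S).map w := by rw [IsIso.eq_inv_comp]; simpa using sq.w
    rw [e]
    infer_instance
  haveI : IsIso ((ObjectProperty.ι _).map f) := ‹IsIso F›
  exact isIso_of_reflects_iso f (ObjectProperty.ι _)

end Groth.Agent.S9929
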