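import Groth.Statements.S9931
import Groth.Agent.Lib.AlgSpMor.RepDescent
-- import your own Groth.Agent.* helpers here

set_option autoImplicit false
universe u
open CategoryTheory CategoryTheory.Limits AlgebraicGeometry
open AlgSp

open Groth.Agent.Lib.AlgSpace Groth.Agent.Lib.AlgSpMor

namespace Groth.Agent.S9931

/-- (3) ⇒ (1): for P = closed immersion, open immersion or immersion, a morphism of algebraic spaces
whose base change to every affine scheme over the target is representable with P is itself
representable with P. -/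
theorem result {S : Scheme.{u}} (P : MorphismProperty Scheme.{u})
    (hP : P = @IsClosedImmersion ∨ P = @IsOpenImmersion ∨ P = @IsImmersion) {X Y : AlgSp.Space S} (f : X ⟶ Y)
    (h : ∀ (Z : Over S), IsAffine Z.left → ∀ (g : (AlgSp.yon S).obj Z ⟶ Y.obj) (P₀ : AlgSp.Sp S)
      (fst : P₀ ⟶ X.obj) (snd : P₀ ⟶ (AlgSp.yon S).obj Z), IsPullback fst snd f.hom g → AlgSp.RepWith P snd) :
    AlgSp.RepWith P f.hom := by
  have h' : ∀ (Z : Over S), IsAffine Z.left → ∀ g : (yon S).obj Z ⟶ Y.obj,
      ∃ (V : Over S) (v : V ⟶ Z) (fst : (yon S).obj V ⟶ X.obj),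
        IsPullback fst ((yon S).map v) f.hom g ∧ P v.left := by
    intro Z hZ g
    have sq := IsPullback.of_hasPullback f.hom g
    obtain ⟨V, v, c, sqV, hv⟩ := repWith_exists (h Z hZ g _ _ _ sq) (𝟙 _)
    exact ⟨V, v, c ≫ pullback.fst f.hom g, by simpa using sqV.paste_horiz sq, hv⟩
  rcases hP with rfl | rfl | rfl
  · haveI := Sep.isLocalAtTarget_fppf_isClosedImmersion.{u}
    exact RepDescent.repWith_of_affine _ RepDescent.effective_isClosedImmersion h'
  · haveI := isLocalAtTarget_fppf_isOpenImmersion.{u}
    exact RepDescent.repWith_of_affine _ RepDescent.effective_isOpenImmersion h'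
  · exact RepDescent.repWith_immersion_of_affine h'

end Groth.Agent.S9931
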