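import Groth.Statements.S9933
import Groth.Agent.Lib.AlgSpMor.Perm
-- import your own Groth.Agent.* helpers here

set_option autoImplicit false
universe u
open CategoryTheory CategoryTheory.Limits AlgebraicGeometry
open AlgSp

open Groth.Agent.Lib.AlgSpace Groth.Agent.Lib.AlgSpMor Topology

namespace Groth.Agent.S9933

/-- Permanence for Z -> Y -> X: the five representable finiteness/separation properties of Z -> X pass
to Z -> Y, and a closed immersion Z -> X with Y -> X separated gives a closed immersion Z -> Y. -/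
theorem result {S : Scheme.{u}} {Z Y X : AlgSp.Space S} (a : Z ⟶ Y) (b : Y ⟶ X) :
    ((AlgSp.Representable (a ≫ b).hom ∧ AlgSp.RepWith @LocallyOfFiniteType (a ≫ b).hom ∧
        AlgSp.RepWith (@LocallyQuasiFinite ⊓ @LocallyOfFiniteType) (a ≫ b).hom ∧
        AlgSp.RepWith @IsSeparated (a ≫ b).hom ∧
        AlgSp.RepWith (MorphismProperty.monomorphisms Scheme.{u}) (a ≫ b).hom) →
      (AlgSp.Representable a.hom ∧ AlgSp.RepWith @LocallyOfFiniteType a.hom ∧
        AlgSp.RepWith (@LocallyQuasiFinite ⊓ @LocallyOfFiniteType) a.hom ∧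
        AlgSp.RepWith @IsSeparated a.hom ∧
        AlgSp.RepWith (MorphismProperty.monomorphisms Scheme.{u}) a.hom)) ∧
    (AlgSp.RepWith @IsClosedImmersion (a ≫ b).hom → AlgSp.IsSeparatedMor b.hom →
      AlgSp.RepWith @IsClosedImmersion a.hom) := by
  haveI : MorphismProperty.IsStableUnderComposition
      ((@LocallyQuasiFinite : MorphismProperty Scheme.{u}) ⊓ @LocallyOfFiniteType) :=
    MorphismProperty.IsStableUnderComposition.inf
  obtain ⟨d1, d2, d3, d4, d5⟩ := Sep.diagonal_props b.hom Y.property
  have sq := pullback_lift_diagonal_isPullback a.hom b.hom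
  have sq' := IsPullback.of_hasPullback (a.hom ≫ b.hom) b.hom
  have e := Perm.comp_graph a.hom b.hom
  refine ⟨fun ⟨h1, h2, h3, h4, h5⟩ ↦ ⟨?_, ?_, ?_, ?_, ?_⟩, fun h hb ↦ ?_⟩
  · rw [← e]; exact MorphismProperty.comp_mem Representable _ _
      (representable_baseChange sq d1) (representable_baseChange sq' h1)
  · rw [← e]; exact repWith_comp (repWith_baseChange sq d2) (repWith_baseChange sq' h2)
  · rw [← e]; exact repWith_comp (repWith_baseChange sq d5) (repWith_baseChange sq' h3)
  · rw [← e]; exact repWith_comp (repWith_baseChange sq d4) (repWith_baseChange sq' h4)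
  · rw [← e]; exact repWith_comp (repWith_baseChange sq d3) (repWith_baseChange sq' h5)
  · rw [← e]; exact repWith_comp (repWith_baseChange sq hb) (repWith_baseChange sq' h)

end Groth.Agent.S9933
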