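import Groth.Statements.S9934
import Groth.Agent.Lib.AlgSpace.Points
-- import your own Groth.Agent.* helpers here

set_option autoImplicit false
universe u
open CategoryTheory CategoryTheory.Limits AlgebraicGeometry
open AlgSp

open Groth.Agent.Lib.AlgSpace

namespace Groth.Agent.S9934

/-- An immersion of algebraic spaces is a closed immersion exactly when its image on points is closed. -/
theorem result {S : Scheme.{u}} {Z X : AlgSp.Space S} (i : Z ⟶ X)
    (hi : AlgSp.RepWith @IsImmersion i.hom) :
    AlgSp.RepWith @IsClosedImmersion i.hom ↔ IsClosed (Set.range (AlgSp.Points.map i.hom)) := by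
  refine ⟨fun h ↦ ⟨AlgSp.Points.isOpen_iff.2 fun T ξ ↦ ?_⟩, fun h ↦ repWith_of_exists fun U ξ ↦ ?_⟩
  · obtain ⟨V, g, fst, sq, hg⟩ := repWith_exists h ξ
    have : IsClosedImmersion g.left := hg
    rw [Set.preimage_compl, ← Set.image_univ, preimage_image_map sq, Set.preimage_univ,
      Set.image_univ]
    exact g.left.isClosedEmbedding.isClosed_range.isOpen_compl
  · obtain ⟨V, g, fst, sq, hg⟩ := repWith_exists hi ξ
    have : IsImmersion g.left := hg
    refine ⟨V, g, fst, sq, IsClosedImmersion.of_isPreimmersion g.left ?_⟩
    have := h.preimage (AlgSp.Points.continuous_ofPt ξ)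
    rwa [← Set.image_univ, preimage_image_map sq, Set.preimage_univ, Set.image_univ] at this

end Groth.Agent.S9934
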