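import Groth.Statements.S9966
import Groth.Agent.Lib.AlgSpMor.SchImage.Main
import Groth.Agent.S10192
import Groth.Agent.S10193
import Groth.Agent.Lib.AlgSpRed.Stalk
-- import your own Groth.Agent.* helpers here

set_option autoImplicit false
universe u
open CategoryTheory CategoryTheory.Limits AlgebraicGeometry
open AlgSp

open Groth.Agent.Lib.AlgSpace Groth.Agent.Lib.AlgSpMor Groth.Agent.Lib.AlgSpMor.SchImage

namespace Groth.Agent.S9966

/-- The scheme theoretic image of a morphism from a reduced algebraic space is the reduced induced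
structure on the closure of its image. -/
theorem result {S : Scheme.{u}} {X Y Z : AlgSp.Space S} (f : X ⟶ Y) (i : Z ⟶ Y)
    (hX : AlgSp.IsReducedSp X.obj) (hZ : AlgSp.IsSchImage f.hom i.hom) :
    AlgSp.IsRedInduced (closure (Set.range (AlgSp.Points.map f.hom))) i.hom := by
  obtain ⟨Z₀, i₀, hi₀⟩ := S10192.result Y _ (isClosed_closure (s := Set.range (AlgSp.Points.map f.hom)))
  obtain ⟨f₀, hf₀⟩ := (S10193.result i₀ hi₀.1 hX f).2 (subset_closure.trans_eq hi₀.2.1.symm)
  obtain ⟨k₀, hk₀⟩ := hZ.2.2 i₀.hom Z₀.property hi₀.1 ⟨f₀.hom, congrArg (·.hom) hf₀⟩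
  obtain ⟨k, hk⟩ := (S10193.result i hZ.1 hi₀.2.2 i₀).2 (by
    rw [hi₀.2.1]
    refine closure_minimal ?_ ?_
    · obtain ⟨f', hf'⟩ := hZ.2.1
      rintro _ ⟨x, rfl⟩
      exact ⟨AlgSp.Points.map f' x, by rw [← AlgSp.Points.map_comp, hf']⟩
    · exact isClosed_range_map hZ.1)
  haveI : Mono i.hom := mono_of_closedImmersion hZ.1
  haveI : Mono i₀.hom := mono_of_closedImmersion hi₀.1
  have hk' : k.hom ≫ i.hom = i₀.hom := congrArg (·.hom) hk
  haveI hke : IsIso k.hom := ⟨k₀,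
    by rw [← cancel_mono i₀.hom, Category.assoc, hk₀, hk', Category.id_comp],
    by rw [← cancel_mono i.hom, Category.assoc, hk', hk₀, Category.id_comp]⟩
  have hrange : Set.range (AlgSp.Points.map i.hom) = closure (Set.range (AlgSp.Points.map f.hom)) := by
    rw [← hi₀.2.1]
    refine Set.Subset.antisymm ?_ ?_
    · rintro _ ⟨z, rfl⟩
      exact ⟨AlgSp.Points.map k₀ z, by rw [← AlgSp.Points.map_comp, hk₀]⟩
    · rintro _ ⟨z, rfl⟩
      exact ⟨AlgSp.Points.map k.hom z, by rw [← AlgSp.Points.map_comp, hk']⟩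
  have hred : AlgSp.IsReducedSp Z.obj := by
    obtain ⟨U, a, ha, has, hU⟩ := hi₀.2.2
    exact ⟨U, a ≫ k.hom, (repWith_comp_iso_iff _ a k.hom).2 ha, (repWith_comp_iso_iff _ a k.hom).2 has, hU⟩
  exact ⟨hZ.1, hrange, hred⟩

end Groth.Agent.S9966
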