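import Groth.Statements.S9971
import Groth.Agent.Lib.AlgSpMor.SchImage.Rep
import Groth.Agent.S9966
import Groth.Agent.Lib.AlgSpRed.Stalk
import Groth.Agent.Lib.AlgSpace.Props
-- import your own Groth.Agent.* helpers here

set_option autoImplicit false
universe u
open CategoryTheory CategoryTheory.Limits AlgebraicGeometry
open AlgSp

open AlgSp (yon RepWith)
open Groth.Agent.Lib.AlgSpace Groth.Agent.Lib.AlgSpMor Groth.Agent.Lib.AlgSpMor.SchImage

namespace Groth.Agent.S9971

/-- A quasi-compact (or reduced-source) immersion is a scheme theoretically dense, topologically dense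
open immersion into its scheme theoretic image. -/
theorem result {S : Scheme.{u}} {Z X Zbar : AlgSp.Space S} (h : Z ⟶ X)
    (hh : AlgSp.RepWith @IsImmersion h.hom) (hq : AlgSp.IsQuasiCompactMor h.hom ∨ AlgSp.IsReducedSp Z.obj)
    (c : Zbar ⟶ X) (hc : AlgSp.IsSchImage h.hom c.hom) (h' : Z ⟶ Zbar) (fac : h' ≫ c = h) :
    AlgSp.RepWith @IsOpenImmersion h'.hom ∧ AlgSp.IsSchDense h'.hom ∧
      Dense (Set.range (AlgSp.Points.map h'.hom)) := by
  haveI : Mono c.hom := mono_of_closedImmersion hc.1
  obtain ⟨κ, O, π, hO, he, hs⟩ := exists_sigma_atlas X.property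
  obtain ⟨C, cU, fc, sqc, hcU⟩ := repWith_exists hc.1 π
  obtain ⟨V, w, fh, sqh, hw⟩ := repWith_exists hh π
  haveI : IsClosedImmersion cU.left := hcU
  haveI : IsImmersion w.left := hw
  have fac' : h'.hom ≫ c.hom = h.hom := congrArg (·.hom) fac
  obtain ⟨l, hl⟩ := (yon S).map_surjective (sqc.lift (fh ≫ h'.hom) ((yon S).map w)
    (by rw [Category.assoc, fac', sqh.w]))
  have hlw : l ≫ cU = w := (yon S).map_injective (by rw [Functor.map_comp, hl, sqc.lift_snd])
  have sqMono : IsPullback (𝟙 Z.obj) h'.hom h.hom c.hom :=
    IsPullback.of_horiz_isIso_mono ⟨by rw [Category.id_comp, fac']⟩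
  have sql : IsPullback fh ((yon S).map l) h'.hom fc := by
    refine IsPullback.of_bot (v₂₁ := (yon S).map cU) (v₂₂ := c.hom) ?_ ?_ sqc
    · rw [← Functor.map_comp, hlw, fac']
      exact sqh
    · rw [hl, sqc.lift_fst]
  have heC : RepWith @Etale fc := repWith_baseChange sqc.flip he
  have hsC : RepWith @Surjective fc := repWith_baseChange sqc.flip hs
  have hlw' : l.left ≫ cU.left = w.left := congr($(hlw).left)
  haveI : IsImmersion l.left := by
    have : IsImmersion (l.left ≫ cU.left) := by rw [hlw']; exact hw
    exact IsImmersion.of_comp l.left cU.left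
  have hrep : AlgSp.Representable h'.hom := (repWith_baseChange sqMono.flip.flip hh).rep
  have key : ∃ _ : IsOpenImmersion l.left, CInt.IsSchematicallyDense l.left.opensRange ∧
      Dense (Set.range l.left) := by
    rcases hq with hq | hred
    · obtain ⟨hqw, hcut⟩ := cut_ker_of_representable Z.property X.property hq hh.rep Zbar.property hc
        hO he sqh
      haveI := hqw
      have hker : cU.left.ker = w.left.ker := (cut_of_isPullback sqc).unique hcut
      have hIso : ∃ e : C.left ≅ w.left.image, e.hom ≫ w.left.imageι = cU.left := by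
        have h1 : w.left.imageι.ker = cU.left.ker := by
          rw [hker]; exact w.left.ker.ker_subschemeι
        refine ⟨⟨IsClosedImmersion.lift w.left.imageι cU.left h1.le,
          IsClosedImmersion.lift cU.left w.left.imageι h1.ge, ?_, ?_⟩, IsClosedImmersion.lift_fac _ _ _⟩
        · rw [← cancel_mono cU.left]; simp
        · rw [← cancel_mono w.left.imageι]; simp
      obtain ⟨e, he'⟩ := hIso
      have hle : l.left = w.left.toImage ≫ e.inv := by
        rw [← cancel_mono cU.left, hlw', Category.assoc, ← he', e.inv_hom_id_assoc,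
          w.left.toImage_imageι]
      haveI : IsSchemeTheoreticallyDominant w.left.toImage := by
        rw [isSchemeTheoreticallyDominant_iff]
        refine Scheme.IdealSheafData.ext_of_iSup_eq_top
          (fun U : (sigmaOver O).left.affineOpens ↦ ⟨_, U.2.preimage w.left.imageι⟩) ?_ fun U ↦ ?_
        · show (⨆ U : (sigmaOver O).left.affineOpens, w.left.imageι ⁻¹ᵁ U.1) = ⊤
          rw [← Scheme.Hom.preimage_iSup, iSup_affineOpens_eq_top]; rfl
        · rw [Scheme.Hom.ker_apply, Scheme.IdealSheafData.ideal_bot, Pi.bot_apply,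
            ← RingHom.injective_iff_ker_eq_bot]
          exact w.left.toImage_app_injective U
      haveI : IsOpenImmersion l.left := by rw [hle]; infer_instance
      haveI : QuasiCompact l.left := by rw [hle]; infer_instance
      haveI : IsSchemeTheoreticallyDominant l.left := by rw [hle]; infer_instance
      exact ⟨inferInstance, isSchematicallyDense_of_dominant l.left, l.left.denseRange⟩
    · have hR := S9966.result h c hred hc
      haveI : IsReduced C.left := Lib.AlgSpRed.Stalk.isReduced_chart Zbar.property.diag hR.2.2 heC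
      haveI : IsDominant l.left := by
        refine ⟨fun z ↦ ?_⟩
        have h1 : AlgSp.Points.map c.hom (AlgSp.Points.ofPt fc z) ∈
            Set.range (AlgSp.Points.map c.hom) := ⟨_, rfl⟩
        rw [hR.2.1, AlgSp.Points.map_ofPt, sqc.w, ofPt_yon_map_comp] at h1
        have h2 : cU.left z ∈ AlgSp.Points.ofPt π ⁻¹'
            closure (Set.range (AlgSp.Points.map h.hom)) := h1
        rw [(isOpenMap_ofPt he).preimage_closure_eq_closure_preimage
          (AlgSp.Points.continuous_ofPt π), ← Set.image_univ, preimage_image_map sqh,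
          Set.preimage_univ, Set.image_univ, ← hlw'] at h2
        rw [cU.left.isClosedEmbedding.isInducing.closure_eq_preimage_closure_image, ← Set.range_comp]
        exact h2
      haveI := isOpenImmersion_of_isImmersion_of_isReduced l.left
      exact ⟨inferInstance, isSchematicallyDense_of_isReduced l.left.denseRange,
        l.left.denseRange⟩
  obtain ⟨hopen, hdense, hd⟩ := key
  haveI := hopen
  haveI := isLocallySurjective_of_etale heC hsC
  have hj : RepWith @IsOpenImmersion h'.hom := by
    haveI := isLocalAtTarget_fppf_isOpenImmersion.{u}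
    exact repWith_of_isLocallySurjective hrep fc sql _ ((AlgSp.repWith_yon_map_iff _ l).2 hopen)
  refine ⟨hj, isSchDense_of_chart hj heC hsC sql hdense, ?_⟩
  refine dense_iff_inter_open.2 fun A hA hne ↦ ?_
  obtain ⟨z₀, hz₀⟩ := hne
  obtain ⟨z₁, rfl⟩ := surjective_ofPt hsC z₀
  obtain ⟨_, hv, ⟨v, rfl⟩⟩ := hd.inter_open_nonempty _
    (hA.preimage (AlgSp.Points.continuous_ofPt fc)) ⟨z₁, hz₀⟩
  refine ⟨_, hv, AlgSp.Points.ofPt fh v, ?_⟩
  rw [AlgSp.Points.map_ofPt, sql.w, ofPt_yon_map_comp]

end Groth.Agent.S9971
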