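import Groth.Statements.S9939
import Groth.Agent.Lib.AlgSpace.Basic
-- import your own Groth.Agent.* helpers here

set_option autoImplicit false
universe u
open CategoryTheory CategoryTheory.Limits AlgebraicGeometry
open AlgSp

open Groth.Agent.Lib.AlgSpace

namespace Groth.Agent.S9939

/-- For a morphism of algebraic spaces representable by schemes, representable universal injectivity is
equivalent to injectivity on K-valued points for every field K. -/
theorem result {S : Scheme.{u}} {X Y : AlgSp.Space S} (f : X ⟶ Y)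
    (hf : AlgSp.Representable f.hom) :
    AlgSp.RepWith @UniversallyInjective f.hom ↔
      ∀ (K : Type u) [Field K] (str : Spec (CommRingCat.of K) ⟶ S),
        Function.Injective (fun a : (AlgSp.yon S).obj (Over.mk str) ⟶ X.obj => a ≫ f.hom) := by
  refine ⟨fun h K _ str a b (w : a ≫ f.hom = b ≫ f.hom) ↦ ?_, fun h ↦ repWith_of_exists fun U ξ ↦
    ⟨_, hf.snd ξ, hf.fst ξ, hf.isPullback ξ, ?_⟩⟩
  · obtain ⟨V, g, fst, sq, hg⟩ := repWith_exists h (a ≫ f.hom)
    obtain ⟨a', ha⟩ := (yon S).map_surjective (sq.lift a (𝟙 _) (Category.id_comp _).symm)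
    obtain ⟨b', hb⟩ := (yon S).map_surjective (sq.lift b (𝟙 _) (by rw [← w, Category.id_comp]))
    have ea : a' ≫ g = 𝟙 _ := (yon S).map_injective (by
      rw [Functor.map_comp, CategoryTheory.Functor.map_id, ha, sq.lift_snd])
    have eb : b' ≫ g = 𝟙 _ := (yon S).map_injective (by
      rw [Functor.map_comp, CategoryTheory.Functor.map_id, hb, sq.lift_snd])
    have hu : UniversallyInjective g.left := hg
    have hiff : UniversallyInjective g.left ↔ ∀ (L : Type u) [Field L],
        Function.Injective (fun c : Spec (CommRingCat.of L) ⟶ _ ↦ c ≫ g.left) :=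
      (tfae_universallyInjective g.left).out 0 1
    have e : a' = b' := Over.OverMorphism.ext (hiff.1 hu K
      (show a'.left ≫ g.left = b'.left ≫ g.left by rw [← Over.comp_left, ← Over.comp_left, ea, eb]))
    have := congrArg (fun c ↦ (yon S).map c ≫ fst) e
    simpa [ha, hb] using this
  · have hiff : UniversallyInjective (hf.snd ξ).left ↔ ∀ (L : Type u) [Field L],
        Function.Injective (fun c : Spec (CommRingCat.of L) ⟶ _ ↦ c ≫ (hf.snd ξ).left) :=
      (tfae_universallyInjective (hf.snd ξ).left).out 0 1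
    refine hiff.2 fun K _ g₁ g₂
      (w : g₁ ≫ (hf.snd ξ).left = g₂ ≫ (hf.snd ξ).left) ↦ ?_
    let V := hf.pullback ξ
    let c₁ : Over.mk (g₁ ≫ V.hom) ⟶ V := Over.homMk g₁ rfl
    let c₂ : Over.mk (g₁ ≫ V.hom) ⟶ V := Over.homMk g₂ (by
      change g₂ ≫ V.hom = g₁ ≫ V.hom
      rw [← Over.w (hf.snd ξ), ← Category.assoc, ← w, Category.assoc])
    have hs : c₁ ≫ hf.snd ξ = c₂ ≫ hf.snd ξ := Over.OverMorphism.ext w
    have hy : (yon S).map c₁ ≫ (yon S).map (hf.snd ξ) = (yon S).map c₂ ≫ (yon S).map (hf.snd ξ) := by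
      rw [← Functor.map_comp, ← Functor.map_comp, hs]
    have hf' : ((yon S).map c₁ ≫ hf.fst ξ) ≫ f.hom = ((yon S).map c₂ ≫ hf.fst ξ) ≫ f.hom := by
      rw [Category.assoc, Category.assoc, (hf.isPullback ξ).w, ← Category.assoc, hy, Category.assoc]
    have := (yon S).map_injective ((hf.isPullback ξ).hom_ext (h K _ hf') hy)
    exact congrArg CommaMorphism.left this

end Groth.Agent.S9939
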