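import Groth.Statements.S9940
import Groth.Agent.Lib.AlgSpMor.Topo
-- import your own Groth.Agent.* helpers here

set_option autoImplicit false
universe u
open CategoryTheory CategoryTheory.Limits AlgebraicGeometry
open AlgSp

open Groth.Agent.Lib.AlgSpace Groth.Agent.Lib.AlgSpMor Topology

namespace Groth.Agent.S9940

/-- (4) ⇒ (1): universal injectivity of a morphism of algebraic spaces descends along a surjective base
change from a scheme. -/
theorem result {S : Scheme.{u}} {X Y : AlgSp.Space S} (f : X ⟶ Y)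
    (Z : Over S) (g : (AlgSp.yon S).obj Z ⟶ Y.obj) (hg : AlgSp.IsSurjectiveMor g) {P : AlgSp.Sp S}
    (fst : P ⟶ X.obj) (snd : P ⟶ (AlgSp.yon S).obj Z) (sq : IsPullback fst snd f.hom g)
    (h : AlgSp.IsUnivInjectiveMor snd) : AlgSp.IsUnivInjectiveMor f.hom := by
  refine (Topo.univSp_iff_affine (Φ := fun f ↦ Function.Injective f) Topo.cartLocal_injective
    f.hom).2 ?_
  intro Z' _ g' Q fst' snd' sq' x y e
  obtain ⟨w, hw⟩ := hg (AlgSp.Points.map g' (AlgSp.Points.map snd' x))
  obtain ⟨T, t, v, sqT⟩ := exists_isPullback_yon Y.property.diag g' g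
  obtain ⟨r, hr, -⟩ := exists_of_isPullback sqT _ _ hw.symm
  have sq2 := IsPullback.of_hasPullback snd' ((yon S).map t)
  have sq3 := sq2.paste_horiz sq'
  rw [sqT.w] at sq3
  have sq4 := IsPullback.of_right' sq3 sq
  obtain ⟨x', hx, hx'⟩ := exists_of_isPullback sq2 x r hr.symm
  obtain ⟨y', hy, hy'⟩ := exists_of_isPullback sq2 y r (e.symm.trans hr.symm)
  have he : x' = y' := h (IsAlgSpace.yon_obj T) _ _ _ sq4 (hx'.trans hy'.symm)
  rw [← hx, ← hy, he]

end Groth.Agent.S9940
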