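import Groth.Statements.S9942
import Groth.Agent.Lib.AlgSpMor.AffineDescent
-- import your own Groth.Agent.* helpers here

set_option autoImplicit false
universe u
open CategoryTheory CategoryTheory.Limits AlgebraicGeometry
open AlgSp

open Groth.Agent.Lib.AlgSpace Groth.Agent.Lib.AlgSpMor

namespace Groth.Agent.S9942

/-- (3) ⇒ (2): if X x_Y V is an affine scheme for every affine scheme V etale over Y, then f : X -> Y is
affine. -/
theorem result {S : Scheme.{u}} {X Y : AlgSp.Space S} (f : X ⟶ Y)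
    (h : ∀ (V : Over S), IsAffine V.left → ∀ (b : (AlgSp.yon S).obj V ⟶ Y.obj), AlgSp.RepWith @Etale b →
      ∀ (P : AlgSp.Sp S) (fst : P ⟶ X.obj) (snd : P ⟶ (AlgSp.yon S).obj V), IsPullback fst snd f.hom b →
      ∃ (W : Over S), IsAffine W.left ∧ Nonempty ((AlgSp.yon S).obj W ≅ P)) :
    AlgSp.IsAffineMor f.hom := by
  obtain ⟨U, p, hp, hps⟩ := Y.property.atlas
  refine AffineDescent.isAffineMor_iff.2
    (AffineDescent.repWith_isAffineHom_of_cover_opens Y.property.diag hp hps fun A ↦ ?_)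
  haveI : IsAffine (Topo.opensOver A.1).left := A.2
  haveI : MorphismProperty.IsStableUnderComposition (@Etale : MorphismProperty Scheme.{u}) :=
    ⟨fun f g (_ : Etale f) (_ : Etale g) ↦ inferInstanceAs (Etale (f ≫ g))⟩
  have he : RepWith @Etale ((yon S).map (Topo.opensOverι A.1) ≫ p) :=
    repWith_yon_map_comp (inferInstanceAs (Etale A.1.ι)) hp
  have sq := IsPullback.of_hasPullback f.hom ((yon S).map (Topo.opensOverι A.1) ≫ p)
  obtain ⟨W, hW, ⟨e⟩⟩ := h (Topo.opensOver A.1) A.2 _ he _ _ _ sq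
  obtain ⟨v, hv⟩ := (yon S).map_surjective (e.hom ≫ pullback.snd _ _)
  haveI := hW
  exact ⟨W, v, e.hom ≫ pullback.fst _ _, IsPullback.of_iso sq e.symm (Iso.refl _) (Iso.refl _)
    (Iso.refl _) (by simp) (by simp [hv]) (by simp) (by simp), isAffineHom_of_isAffine v.left⟩

end Groth.Agent.S9942
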