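import Groth.Statements.S9944
import Groth.Agent.Lib.AlgSpMor.Perm
-- import your own Groth.Agent.* helpers here

set_option autoImplicit false
universe u
open CategoryTheory CategoryTheory.Limits AlgebraicGeometry
open AlgSp

open Groth.Agent.Lib.AlgSpace Groth.Agent.Lib.AlgSpMor Topology

namespace Groth.Agent.S9944

/-- Let g : X -> Y be a morphism over a base algebraic space B with X affine over B. Then g is affine as
soon as the diagonal of Y over B is affine, and in particular as soon as Y is B-separated. (The
published lemma also has two versions with the absolute diagonal of Y; this row states the versions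
over B.) -/
theorem result {S : Scheme.{u}} {X Y B : AlgSp.Space S} (g : X ⟶ Y) (p : X ⟶ B)
    (q : Y ⟶ B) (comm : g ≫ q = p) (hp : AlgSp.IsAffineMor p.hom) :
    (AlgSp.IsAffineMor (pullback.diagonal q.hom) → AlgSp.IsAffineMor g.hom) ∧
    (AlgSp.IsSeparatedMor q.hom → AlgSp.IsAffineMor g.hom) := by
  have hc : g.hom ≫ q.hom = p.hom := congrArg (fun k ↦ k.hom) comm
  have hp' : AlgSp.IsAffineMor (g.hom ≫ q.hom) := hc ▸ hp
  have sq := pullback_lift_diagonal_isPullback g.hom q.hom
  have h2 := Perm.isAffineMor_baseChange (IsPullback.of_hasPullback (g.hom ≫ q.hom) q.hom) hp'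
  refine ⟨fun h ↦ ?_, fun h ↦ ?_⟩
  · rw [← Perm.comp_graph g.hom q.hom]
    exact Perm.isAffineMor_comp (Perm.isAffineMor_baseChange sq h) h2
  · rw [← Perm.comp_graph g.hom q.hom]
    exact Perm.isAffineMor_comp (Perm.isAffineMor_of_repWith
      (fun _ _ e (_ : IsClosedImmersion e) ↦ (inferInstance : IsAffineHom e))
      (repWith_baseChange sq h)) h2

end Groth.Agent.S9944
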