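import Groth.Statements.S9945
import Groth.Agent.Lib.AlgSpMor.AffineDescent
import Groth.Agent.Lib.AlgSpMor.LocP
import Groth.Agent.Lib.AlgSpace.Props
import Mathlib.CategoryTheory.Limits.Constructions.Over.Products
import Mathlib.RingTheory.Spectrum.Prime.Noetherian
-- import your own Groth.Agent.* helpers here

set_option autoImplicit false
universe u
open CategoryTheory CategoryTheory.Limits AlgebraicGeometry
open AlgSp

open Groth.Agent.Lib.AlgSpMor Groth.Agent.Lib.AlgSpace Groth.Agent.Lib.AlgSpMor.LocP

namespace Groth.Agent.S9945

/-- Over a base scheme with quasi-separated underlying space, every morphism from the spectrum of an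
Artinian ring to an algebraic space quasi-separated over S is affine. (The published statement
assumes X quasi-separated in the absolute sense over any base; this row assumes the base
quasi-separated and X quasi-separated over it, which on such bases is the same condition.) -/
theorem result {S : Scheme.{u}} [QuasiSeparatedSpace ↥S] (X : AlgSp.Space S)
    (hX : AlgSp.IsQuasiSeparatedSp X.obj) (A : Type u) [CommRing A] [IsArtinianRing A]
    (str : Spec (CommRingCat.of A) ⟶ S) (a : (AlgSp.yon S).obj (Over.mk str) ⟶ X.obj) :
    AlgSp.IsAffineMor a := by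
  obtain ⟨U, p, hp, hps⟩ := X.property.atlas
  refine AffineDescent.isAffineMor_iff.2
    (AffineDescent.repWith_isAffineHom_of_cover_opens X.property.diag hp hps fun O ↦ ?_)
  obtain ⟨R, r, v, sqR⟩ := exists_isPullback_yon X.property.diag a
    ((yon S).map (Topo.opensOverι O.1) ≫ p)
  refine ⟨R, v, (yon S).map r, sqR, ?_⟩
  let A' : Over S := Over.mk str
  let O' : Over S := Topo.opensOver O.1
  have : IsAffine O'.left := O.2
  have : Etale (Topo.opensOverι O.1).left := inferInstanceAs (Etale O.1.ι)
  have : Etale r.left := repWith_property (repWith_etale_comp (Topo.opensOverι O.1) hp) sqR.flip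
  have h1 := repWith_baseChange (isPullback_prodLift sqR) hX
  have e : prod.lift ((yon S).map r) ((yon S).map v) =
      (yon S).map (prod.lift r v) ≫ (yonProdIso A' O').hom := by
    apply prod.hom_ext <;>
      simp [prod.lift_fst, prod.lift_snd, A', O', ← Functor.map_comp]
  rw [e] at h1
  have : QuasiCompact (prod.lift r v : R ⟶ A' ⨯ O').left :=
    (AlgSp.repWith_yon_map_iff _ _).1 ((repWith_comp_iso_iff @QuasiCompact
      ((yon S).map (prod.lift r v : R ⟶ A' ⨯ O')) (yonProdIso A' O').hom).1 h1)
  have hqv : QuasiCompact O'.hom :=
    (fun {B : Scheme.{u}} [QuasiSeparatedSpace ↥B] (e : O'.left ⟶ B) ↦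
      (inferInstance : QuasiCompact e)) (B := S) O'.hom
  have : QuasiCompact (pullback.fst A'.hom O'.hom) :=
    have := hqv
    inferInstance
  have : CompactSpace ↥A'.left := inferInstanceAs (CompactSpace (PrimeSpectrum A))
  have : CompactSpace ↥(pullback A'.hom O'.hom) :=
    QuasiCompact.compactSpace_of_compactSpace (pullback.fst A'.hom O'.hom)
  have : CompactSpace ↥(A' ⨯ O').left :=
    (Scheme.homeoOfIso (Over.prodLeftIsoPullback A' O')).symm.compactSpace
  have : CompactSpace ↥R.left :=
    QuasiCompact.compactSpace_of_compactSpace (prod.lift r v : R ⟶ A' ⨯ O').left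
  have : DiscreteTopology ↥A'.left := inferInstanceAs (DiscreteTopology (PrimeSpectrum A))
  have := locallyQuasiFinite_of_etale r.left
  have : DiscreteTopology ↥R.left := discreteTopology_iff_isOpen_singleton.2 fun x ↦ by
    have h2 := (r.left.isDiscrete_preimage_singleton (r.left x)).1
    have h3 := ((isOpen_discrete ({r.left x} : Set _)).preimage r.left.continuous).isOpenMap_subtype_val
      _ (isOpen_discrete ({⟨x, rfl⟩} : Set ↥(r.left ⁻¹' {r.left x})))
    rwa [Set.image_singleton] at h3
  have : Finite ↥R.left := finite_of_compact_of_discrete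
  exact isAffineHom_of_isAffine v.left

end Groth.Agent.S9945
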