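import Groth.Statements.S9951
import Groth.Agent.Lib.AlgSpMor.Cancel

set_option autoImplicit false
universe u
open CategoryTheory CategoryTheory.Limits AlgebraicGeometry
open AlgSp

namespace Groth.Agent.S9951

/-- The source of a morphism locally of finite type with locally Noetherian target is locally
Noetherian. -/
theorem result {S : Scheme.{u}} {X Y : AlgSp.Space S} (f : X ⟶ Y)
    (hf : AlgSp.LocP @LocallyOfFiniteType f.hom) (hY : AlgSp.IsLocNoethSp Y.obj) : AlgSp.IsLocNoethSp X.obj := by
  obtain ⟨V, b, hb, hbs, hV⟩ := hY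
  obtain ⟨U, a, k, ha, has, w⟩ :=
    Groth.Agent.Lib.AlgSpMor.LocP.exists_chart_over X.property Y.property f.hom hb hbs
  have : LocallyOfFiniteType k.left := hf a b k ha hb w
  exact ⟨U, a, ha, has, LocallyOfFiniteType.isLocallyNoetherian k.left⟩

end Groth.Agent.S9951
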