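import Groth.Statements.S9954
import Groth.Agent.Lib.AlgSpMor.LocP
import Groth.Agent.Lib.AlgSpace.Points
import Groth.Agent.Lib.AlgSpStalk.Lifts
import Mathlib.AlgebraicGeometry.AlgClosed.Basic
-- import your own Groth.Agent.* helpers here

set_option autoImplicit false
universe u
open CategoryTheory CategoryTheory.Limits AlgebraicGeometry
open AlgSp

open Groth.Agent.Lib.AlgSpMor.LocP Groth.Agent.Lib Groth.Agent.Lib.AlgSpace

namespace Groth.Agent.S9954

/-- A morphism locally of finite type is surjective if and only if it is surjective on k-valued points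
for every algebraically closed field k over the base. -/
theorem result {S : Scheme.{u}} {X Y : AlgSp.Space S} (f : X ⟶ Y)
    (hf : AlgSp.LocP @LocallyOfFiniteType f.hom) :
    AlgSp.IsSurjectiveMor f.hom ↔
      ∀ (k : Type u) [Field k] [IsAlgClosed k] (str : Spec (CommRingCat.of k) ⟶ S)
        (y : (AlgSp.yon S).obj (Over.mk str) ⟶ Y.obj),
        ∃ x : (AlgSp.yon S).obj (Over.mk str) ⟶ X.obj, x ≫ f.hom = y := by
  constructor
  · intro hs k _ _ str y
    let P : Sp S := pullback f.hom y
    have sq : IsPullback (pullback.fst f.hom y) (pullback.snd f.hom y) f.hom y :=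
      IsPullback.of_hasPullback _ _
    have hP : IsAlgSpace P :=
      isAlgSpace_of_isPullback sq Y.property.diag X.property (IsAlgSpace.yon_obj _)
    have hlft : LocP @LocallyOfFiniteType (pullback.snd f.hom y) :=
      locP_of_isPullback SourceDescent.Scheme.locallyOfFiniteType X.property Y.property
        (IsAlgSpace.yon_obj _) sq hf
    obtain ⟨x, hx⟩ := hs (Points.ofPt y (IsLocalRing.closedPoint k))
    obtain ⟨z, -, -⟩ := Groth.Agent.Lib.AlgSpace.exists_of_isPullback sq x
      (Points.ofScheme _ (IsLocalRing.closedPoint k)) (hx.trans (congrArg (fun g ↦ Points.ofPt g _) (Category.id_comp y).symm))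
    obtain ⟨U, c, hc, hcs⟩ := hP.atlas
    obtain ⟨u₀, -⟩ := Groth.Agent.Lib.AlgSpace.surjective_ofPt hcs z
    obtain ⟨m, hm⟩ := (yon S).map_surjective (c ≫ pullback.snd f.hom y)
    have hml : LocallyOfFiniteType m.left :=
      hlft c ((yon S).map (𝟙 _)) m hc ((AlgSp.repWith_yon_map_iff _ _).2 (inferInstanceAs (Etale (𝟙 (Spec (CommRingCat.of k)))))) (by rw [CategoryTheory.Functor.map_id, Category.comp_id, hm])
    have : JacobsonSpace U.left :=
      @LocallyOfFiniteType.jacobsonSpace _ (Spec (CommRingCat.of k)) m.left hml inferInstance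
    obtain ⟨u, -, hu⟩ := nonempty_inter_closedPoints (Z := (Set.univ : Set U.left))
      ⟨u₀, trivial⟩ isOpen_univ.isLocallyClosed
    let σ : Over.mk str ⟶ U := Over.homMk (pointOfClosedPoint m.left u hu) (by
      rw [← Over.w m]
      exact (pointOfClosedPoint_comp_assoc m.left u hu str))
    have hσ : σ ≫ m = 𝟙 _ := Over.OverMorphism.ext (pointOfClosedPoint_comp m.left u hu)
    refine ⟨(yon S).map σ ≫ c ≫ pullback.fst f.hom y, ?_⟩
    rw [Category.assoc, Category.assoc, pullback.condition, ← Category.assoc c, ← hm,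
      ← Category.assoc, ← Functor.map_comp, hσ, CategoryTheory.Functor.map_id, Category.id_comp]
  · intro h y
    obtain ⟨p, hp, rfl⟩ := Groth.Agent.Lib.AlgSpStalk.Lifts.exists_geometric y
    have : IsAlgClosed p.K := hp
    obtain ⟨x, hx⟩ := h p.K p.str p.toHom
    exact ⟨Points.ofPt x (IsLocalRing.closedPoint p.K),
      (Points.map_ofPt _ _ _).trans ((congrArg (fun g ↦ Points.ofPt g _) hx).trans (Points.ofPt_toHom p _))⟩

end Groth.Agent.S9954
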