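import Groth.Statements.S9956
import Groth.Agent.Lib.AlgSpMor.Cancel

set_option autoImplicit false
universe u
open CategoryTheory CategoryTheory.Limits AlgebraicGeometry
open AlgSp

namespace Groth.Agent.S9956

/-- For morphisms X -> Y -> Z of algebraic spaces, local quasi-finiteness of the composite implies that
of the first map (locally quasi-finite includes locally of finite type, etale locally on source and
target). -/
theorem result {S : Scheme.{u}} {X Y Z : AlgSp.Space S} (f : X ⟶ Y) (g : Y ⟶ Z)
    (h : AlgSp.LocP ((@LocallyQuasiFinite : MorphismProperty Scheme.{u}) ⊓ @LocallyOfFiniteType) (f ≫ g).hom) :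
    AlgSp.LocP ((@LocallyQuasiFinite : MorphismProperty Scheme.{u}) ⊓ @LocallyOfFiniteType) f.hom := by
  obtain ⟨W, V, b, c, h₂, hb, hbs, hc, -, w₂⟩ :=
    Groth.Agent.Lib.AlgSpMor.LocP.exists_chart Y.property Z.property g.hom
  obtain ⟨U, a, h₁, ha, has, w₁⟩ :=
    Groth.Agent.Lib.AlgSpMor.LocP.exists_chart_over X.property Y.property f.hom hb hbs
  refine Groth.Agent.Lib.AlgSpMor.LocP.locP_of_chart
    Groth.Agent.Lib.AlgSpMor.LocP.lqfLft X.property.diag Y.property.diag
    ha has hb w₁ ?_
  obtain ⟨h1, h2⟩ := h a c (h₁ ≫ h₂) ha hc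
    (by rw [ObjectProperty.FullSubcategory.comp_hom, reassoc_of% w₁, w₂, Functor.map_comp, Category.assoc])
  rw [Over.comp_left] at h1 h2
  exact ⟨LocallyQuasiFinite.of_comp h₁.left h₂.left, locallyOfFiniteType_of_comp h₁.left h₂.left⟩

end Groth.Agent.S9956
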