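import Groth.Statements.S9957
import Groth.Agent.Lib.AlgSpMor.Proper
-- import your own Groth.Agent.* helpers here

set_option autoImplicit false
universe u
open CategoryTheory CategoryTheory.Limits AlgebraicGeometry
open AlgSp

open Groth.Agent.Lib.AlgSpace Groth.Agent.Lib.AlgSpMor Groth.Agent.Lib.SourceDescent.Scheme Topology

namespace Groth.Agent.S9957

/-- The source of a morphism of finite presentation whose target is Noetherian is itself Noetherian,
Noetherian meaning quasi-compact, quasi-separated over S and locally Noetherian. (The published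
statement uses quasi-separatedness in the absolute sense; this row uses quasi-separatedness over S
in hypothesis and conclusion.) -/
theorem result {S : Scheme.{u}} {X Y : AlgSp.Space S} (f : X ⟶ Y)
    (hf : AlgSp.IsFinitePresentationMor f.hom)
    (hY : AlgSp.IsQuasiCompactSp Y.obj ∧ AlgSp.IsQuasiSeparatedSp Y.obj ∧ AlgSp.IsLocNoethSp Y.obj) :
    AlgSp.IsQuasiCompactSp X.obj ∧ AlgSp.IsQuasiSeparatedSp X.obj ∧ AlgSp.IsLocNoethSp X.obj := by
  obtain ⟨hYc, hYs, V, b, hb, hbs, (hV : IsLocallyNoetherian V.left)⟩ := hY
  refine ⟨hf.2.1 Y.property hYc (𝟙 _) (𝟙 _) f.hom IsPullback.of_id_fst,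
    Perm.repWith_diag_of_mor _ f.hom hf.2.2 hYs, ?_⟩
  obtain ⟨U, a, h, ha, has, w⟩ := LocP.exists_chart_over X.property Y.property f.hom hb hbs
  have : LocallyOfFinitePresentation h.left := hf.1 a b h ha hb w
  exact ⟨U, a, ha, has, LocallyOfFiniteType.isLocallyNoetherian h.left⟩

end Groth.Agent.S9957
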