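import Groth.Statements.S9959
import Groth.Agent.Lib.AlgSpMor.Cancel

set_option autoImplicit false
universe u
open CategoryTheory CategoryTheory.Limits AlgebraicGeometry
open AlgSp

namespace Groth.Agent.S9959

/-- Given X -> Y -> Z with X -> Z locally finitely presented and Y -> Z locally of finite type, X -> Y
is locally finitely presented (all three etale locally on source and target). -/
theorem result {S : Scheme.{u}} {X Y Z : AlgSp.Space S} (f : X ⟶ Y) (g : Y ⟶ Z)
    (hX : AlgSp.LocP @LocallyOfFinitePresentation (f ≫ g).hom) (hY : AlgSp.LocP @LocallyOfFiniteType g.hom) :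
    AlgSp.LocP @LocallyOfFinitePresentation f.hom := by
  exact Groth.Agent.Lib.AlgSpMor.LocP.locP_of_comp
    Groth.Agent.Lib.SourceDescent.Scheme.locallyOfFinitePresentation
    (fun f g h h' ↦ Groth.Agent.Lib.AlgSpMor.Cancel.locallyOfFinitePresentation_of_comp (f := f) (g := g) h h')
    X.property Y.property Z.property hX hY

end Groth.Agent.S9959
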