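import Groth.Statements.S9960
import Groth.Agent.Lib.AlgSpMor.Proper
import Groth.Agent.Lib.AlgSpMor.Cancel
-- import your own Groth.Agent.* helpers here

set_option autoImplicit false
universe u
open CategoryTheory CategoryTheory.Limits AlgebraicGeometry
open AlgSp

open Groth.Agent.Lib.AlgSpace Groth.Agent.Lib.AlgSpMor Groth.Agent.Lib.SourceDescent.Scheme Topology

namespace Groth.Agent.S9960

/-- The diagonal of a morphism locally of finite type is locally of finite presentation, and of finite
presentation when the morphism is also quasi-separated. -/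
theorem result {S : Scheme.{u}} {X Y : AlgSp.Space S} (f : X ⟶ Y)
    (hf : AlgSp.LocP @LocallyOfFiniteType f.hom) :
    AlgSp.LocP @LocallyOfFinitePresentation (pullback.diagonal f.hom) ∧
    (AlgSp.IsQuasiSeparatedMor f.hom → AlgSp.IsFinitePresentationMor (pullback.diagonal f.hom)) := by
  have sq := IsPullback.of_hasPullback f.hom f.hom
  have hP := isAlgSpace_of_isPullback sq Y.property.diag X.property X.property
  have h1 : AlgSp.LocP @LocallyOfFinitePresentation
      (pullback.diagonal f.hom ≫ pullback.fst f.hom f.hom) := by
    rw [pullback.diagonal_fst]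
    refine LocP.locP_of_repWith locallyOfFinitePresentation (repWith_of_exists fun T ξ ↦
      ⟨T, 𝟙 T, ξ, by rw [CategoryTheory.Functor.map_id]; exact IsPullback.of_vert_isIso ⟨by simp⟩,
        (inferInstance : LocallyOfFinitePresentation (𝟙 T.left))⟩)
  have h2 : AlgSp.LocP @LocallyOfFiniteType (pullback.fst f.hom f.hom) :=
    LocP.locP_of_isPullback locallyOfFiniteType X.property Y.property X.property sq.flip hf
  have h3 := LocP.locP_of_comp (P' := @LocallyOfFinitePresentation) locallyOfFinitePresentation
    (fun _ _ ↦ Cancel.locallyOfFinitePresentation_of_comp) X.property hP X.property h1 h2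
  exact ⟨h3, fun hq ↦ ⟨h3, QC.isQuasiCompactMor_of_repWith hq,
    repWith_mono (Proper.isSeparatedMor_of_mono_repWith (pullback.diagonal f.hom))
      fun _ _ g (_ : IsClosedImmersion g) ↦ (inferInstance : QuasiCompact g)⟩⟩

end Groth.Agent.S9960
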