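import Groth.Statements.S9962
import Groth.Agent.Lib.AlgSpMor.UnivOpen
import Groth.Agent.Lib.AlgSpMor.LocP
-- import your own Groth.Agent.* helpers here

set_option autoImplicit false
universe u
open CategoryTheory CategoryTheory.Limits AlgebraicGeometry
open AlgSp

open Groth.Agent.Lib.AlgSpace Groth.Agent.Lib.AlgSpMor Topology

namespace Groth.Agent.S9962

/-- A flat morphism locally of finite presentation between algebraic spaces is universally open. -/
theorem result {S : Scheme.{u}} {X Y : AlgSp.Space S} (f : X ⟶ Y)
    (hfl : AlgSp.LocP @Flat f.hom) (hfp : AlgSp.LocP @LocallyOfFinitePresentation f.hom) :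
    AlgSp.IsUnivOpenMor f.hom := by
  obtain ⟨U, V, a, b, h, ha, has, hb, -, w⟩ := LocP.exists_chart X.property Y.property f.hom
  refine UnivOpen.isUnivOpenMor_of_precomp a (surjective_map has) ?_
  have : Flat h.left := hfl a b h ha hb w
  have : LocallyOfFinitePresentation h.left := hfp a b h ha hb w
  rw [w]
  exact repWith_yon_map_comp (inferInstance : UniversallyOpen h.left)
    (repWith_mono hb fun _ _ e (_ : Etale e) ↦ (inferInstance : UniversallyOpen e))

end Groth.Agent.S9962
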