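import Groth.Statements.S9963
import Groth.Agent.Lib.AlgSpMor.Perm
import Groth.Agent.Lib.AlgSpMor.LocP
-- import your own Groth.Agent.* helpers here

set_option autoImplicit false
universe u
open CategoryTheory CategoryTheory.Limits AlgebraicGeometry
open AlgSp

open Groth.Agent.Lib.AlgSpace Groth.Agent.Lib.AlgSpMor Topology

namespace Groth.Agent.S9963

/-- A morphism of algebraic spaces that is flat, quasi-compact and surjective is submersive, and
universally submersive. -/
theorem result {S : Scheme.{u}} {X Y : AlgSp.Space S} (f : X ⟶ Y)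
    (hfl : AlgSp.LocP @Flat f.hom) (hqc : AlgSp.IsQuasiCompactMor f.hom) (hs : AlgSp.IsSurjectiveMor f.hom) :
    AlgSp.IsSubmersiveMor f.hom ∧ AlgSp.IsUnivSubmersiveMor f.hom := by
  have huniv : AlgSp.IsUnivSubmersiveMor f.hom := by
    refine (Topo.univSp_iff_affine (Φ := fun f ↦ IsQuotientMap f) Topo.cartLocal_isQuotientMap
      f.hom).2 ?_
    intro Z hZ g P fst snd sq
    haveI := hZ
    haveI := QC.compactSpace_of_isQuasiCompactMor hqc sq
    have hP := isAlgSpace_of_isPullback sq Y.property.diag X.property (IsAlgSpace.yon_obj Z)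
    obtain ⟨W, w, hW, hw, hws⟩ := QC.exists_affine_atlas hP
    obtain ⟨k, hk⟩ := (yon S).map_surjective (w ≫ snd)
    haveI : Flat k.left := LocP.locP_of_isPullback Groth.Agent.Lib.SourceDescent.Scheme.flat
      X.property Y.property (IsAlgSpace.yon_obj Z) sq hfl w (𝟙 _) k hw (AlgSp.repWith_id _ _)
      (by rw [Category.comp_id, hk])
    haveI : QuasiCompact k.left := (quasiCompact_iff_compactSpace _).mpr inferInstance
    have hsur : Function.Surjective (AlgSp.Points.map (w ≫ snd)) := by
      intro z
      obtain ⟨x, rfl⟩ := QC.surjective_of_isPullback sq hs z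
      obtain ⟨y, rfl⟩ := surjective_map hws x
      exact ⟨y, AlgSp.Points.map_comp _ _ _⟩
    rw [← hk, Topo.surjective_yon_map_iff] at hsur
    haveI : Surjective k.left := ⟨hsur⟩
    have hq : IsQuotientMap (AlgSp.Points.map (w ≫ snd)) := by
      rw [← hk, Topo.isQuotientMap_yon_map_iff]
      exact Flat.isQuotientMap_of_surjective k.left
    have e : AlgSp.Points.map (w ≫ snd) = AlgSp.Points.map snd ∘ AlgSp.Points.map w :=
      funext fun x ↦ AlgSp.Points.map_comp _ _ _
    rw [e] at hq
    exact IsQuotientMap.of_comp (AlgSp.Points.continuous_map _) (AlgSp.Points.continuous_map _) hq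
  exact ⟨huniv Y.property (𝟙 _) (𝟙 _) f.hom IsPullback.of_id_fst, huniv⟩

end Groth.Agent.S9963
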