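import Groth.Statements.S9967
import Groth.Agent.S9965
import Groth.Agent.Lib.AlgSpMor.Proper
import Groth.Agent.Lib.AlgSpMor.Perm
-- import your own Groth.Agent.* helpers here

set_option autoImplicit false
universe u
open CategoryTheory CategoryTheory.Limits AlgebraicGeometry
open AlgSp

open AlgSp (yon RepWith)
open Groth.Agent.Lib.AlgSpace Groth.Agent.Lib.AlgSpMor Groth.Agent.Lib.AlgSpMor.SchImage

namespace Groth.Agent.S9967

/-- For a separated f : X -> Y and a section s of f over a quasi-compact open V of Y, the scheme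
theoretic image of s maps isomorphically to Y over V. -/
theorem result {S : Scheme.{u}} {X Y V Y' : AlgSp.Space S} (f : X ⟶ Y) (j : V ⟶ Y)
    (hj : AlgSp.RepWith @IsOpenImmersion j.hom) (hjq : AlgSp.IsQuasiCompactMor j.hom) (hf : AlgSp.IsSeparatedMor f.hom)
    (s : V ⟶ X) (hs : s ≫ f = j) (c : Y' ⟶ X) (hc : AlgSp.IsSchImage s.hom c.hom)
    {P : AlgSp.Sp S} (fst : P ⟶ Y'.obj) (snd : P ⟶ V.obj) (sq : IsPullback fst snd (c ≫ f).hom j.hom) :
    IsIso snd := by
  haveI : Mono j.hom := mono_of_repWith
    (fun _ _ g (_ : IsOpenImmersion g) ↦ (inferInstance : Mono g)) hj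
  have hs' : s.hom ≫ f.hom = j.hom := congrArg (·.hom) hs
  have sqXV := IsPullback.of_hasPullback f.hom j.hom
  let XV : AlgSp.Space S := ⟨pullback f.hom j.hom,
    isAlgSpace_of_isPullback sqXV Y.property.diag X.property V.property⟩
  let q : XV.obj ⟶ X.obj := pullback.fst f.hom j.hom
  let sV : V.obj ⟶ XV.obj := pullback.lift s.hom (𝟙 _) (by rw [hs', Category.id_comp])
  haveI : Mono q := inferInstanceAs (Mono (pullback.fst f.hom j.hom))
  have sqs : IsPullback (𝟙 V.obj) sV s.hom q :=
    IsPullback.of_horiz_isIso_mono ⟨by rw [Category.id_comp]; exact (pullback.lift_fst _ _ _).symm⟩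
  have hsV : RepWith @IsClosedImmersion sV := by
    refine repWith_baseChange (Sep.isPullback_section (pullback.snd f.hom j.hom) sV
      (pullback.lift_snd _ _ _)) ?_
    exact Sep.repWith_diagonal_baseChange sqXV hf
  have hqs : AlgSp.IsQuasiCompactMor s.hom :=
    Perm.isQuasiCompactMor_of_comp V.property X.property Y.property.diag
      (by rw [hs']; exact hjq)
      (repWith_mono hf fun _ _ k (_ : IsClosedImmersion k) ↦ (inferInstance : QuasiCompact k))
  have hq : AlgSp.IsEtaleMor q := by
    intro U φ hφ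
    have h1 : RepWith @Etale q := repWith_mono (repWith_baseChange sqXV.flip hj)
      fun _ _ g (_ : IsOpenImmersion g) ↦ (inferInstance : Etale g)
    haveI : MorphismProperty.IsStableUnderComposition (@Etale : MorphismProperty Scheme.{u}) :=
      ⟨fun f g (_ : Etale f) (_ : Etale g) ↦ inferInstanceAs (Etale (f ≫ g))⟩
    exact repWith_comp hφ h1
  have sqc : IsPullback fst (pullback.lift (fst ≫ c.hom) snd (by rw [Category.assoc]; exact sq.w))
      c.hom q :=
    IsPullback.of_bot (by rw [pullback.lift_snd]; exact sq) (pullback.lift_fst _ _ _).symm sqXV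
  have hcV2 := pullback.lift_snd (f := f.hom) (g := j.hom) (fst ≫ c.hom) snd (by rw [Category.assoc]; exact sq.w : (fst ≫ c.hom) ≫ f.hom = snd ≫ j.hom)
  generalize pullback.lift (f := f.hom) (g := j.hom) (fst ≫ c.hom) snd _ = cV at sqc hcV2
  let P' : AlgSp.Space S :=
    ⟨P, isAlgSpace_of_isPullback sqc X.property.diag Y'.property XV.property⟩
  have him := (S9965.result s c hqs hc).1 XV V P' (ObjectProperty.homMk q) hq
    (ObjectProperty.homMk (𝟙 V.obj)) (ObjectProperty.homMk sV) (ObjectProperty.homMk fst)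
    (ObjectProperty.homMk cV) sqs sqc
  obtain ⟨k, hk⟩ := him.2.2 sV V.property hsV ⟨𝟙 _, Category.id_comp _⟩
  obtain ⟨k', hk'⟩ := him.2.1
  haveI : Mono cV := mono_of_closedImmersion him.1
  haveI : Mono sV := mono_of_closedImmersion hsV
  have hk'' : k' ≫ cV = sV := hk'
  have hk1 : k ≫ sV = cV := hk
  have hsnd : k = snd := by
    have h1 := congrArg (· ≫ pullback.snd f.hom j.hom) hk1
    simp only [Category.assoc, sV, pullback.lift_snd, Category.comp_id] at h1
    rw [h1]
    exact hcV2
  rw [← hsnd]
  exact ⟨k', by rw [← cancel_mono cV, Category.assoc, hk'', hk1, Category.id_comp],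
    by rw [← cancel_mono sV, Category.assoc, hk1, hk'', Category.id_comp]⟩

end Groth.Agent.S9967
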