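import Groth.Statements.S9968
import Groth.Agent.Lib.AlgSpMor.SchImage.DenseSpace
-- import your own Groth.Agent.* helpers here

set_option autoImplicit false
universe u
open CategoryTheory CategoryTheory.Limits AlgebraicGeometry
open AlgSp

open AlgSp (yon RepWith)
open Groth.Agent.Lib.AlgSpace Groth.Agent.Lib.AlgSpMor Groth.Agent.Lib.AlgSpMor.SchImage

namespace Groth.Agent.S9968

/-- (2) ⇒ (1): if an open subspace is scheme theoretically dense on one surjective etale scheme chart
then its inverse image on every etale scheme chart is scheme theoretically dense. (Density is read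
as schematic density of the inverse image open, on both sides; the test objects are scheme charts.) -/
theorem result {S : Scheme.{u}} {U X : AlgSp.Space S} (j : U ⟶ X)
    (hj : AlgSp.IsSchDense j.hom) (V : Over S) (φ : (AlgSp.yon S).obj V ⟶ X.obj) (hφ : AlgSp.RepWith @Etale φ)
    (W : V.left.Opens) (fst : (AlgSp.yon S).obj (Over.mk (W.ι ≫ V.hom)) ⟶ U.obj)
    (sq : IsPullback fst ((AlgSp.yon S).map (Over.homMk W.ι rfl : Over.mk (W.ι ≫ V.hom) ⟶ V)) j.hom φ) :
    CInt.IsSchematicallyDense W := by
  haveI : IsOpenImmersion (Over.homMk W.ι rfl : Over.mk (W.ι ≫ V.hom) ⟶ V).left :=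
    inferInstanceAs (IsOpenImmersion W.ι)
  have := isSchematicallyDense_chart hj hφ sq
  rwa [show (Over.homMk W.ι rfl : Over.mk (W.ι ≫ V.hom) ⟶ V).left.opensRange = W from
    W.opensRange_ι] at this

end Groth.Agent.S9968
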