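import Groth.Statements.S9970
import Groth.Agent.Lib.AlgSpMor.SchImage.DenseSpace
-- import your own Groth.Agent.* helpers here

set_option autoImplicit false
universe u
open CategoryTheory CategoryTheory.Limits AlgebraicGeometry
open AlgSp

open AlgSp (yon RepWith)
open Groth.Agent.Lib.AlgSpace Groth.Agent.Lib.AlgSpMor Groth.Agent.Lib.AlgSpMor.SchImage

namespace Groth.Agent.S9970

/-- The intersection of two scheme theoretically dense open subspaces is scheme theoretically dense. -/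
theorem result {S : Scheme.{u}} {U V X P : AlgSp.Space S} (jU : U ⟶ X) (jV : V ⟶ X)
    (hU : AlgSp.IsSchDense jU.hom) (hV : AlgSp.IsSchDense jV.hom) (fst : P ⟶ U) (snd : P ⟶ V)
    (sq : IsPullback fst.hom snd.hom jU.hom jV.hom) : AlgSp.IsSchDense (fst ≫ jU).hom := by
  have hc : RepWith @IsOpenImmersion (fst.hom ≫ jU.hom) :=
    repWith_comp (repWith_baseChange sq.flip hV.1) hU.1
  show AlgSp.IsSchDense (fst.hom ≫ jU.hom)
  obtain ⟨C, φ, W₁, f₁, he, hs, sq₁, hW₁⟩ := hU.2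
  obtain ⟨Q₂, l₂, g₂, sq₂, hl₂⟩ := repWith_exists hV.1 φ
  haveI : IsOpenImmersion l₂.left := hl₂
  have hW₂ := isSchematicallyDense_chart hV he sq₂
  obtain ⟨Q, l, g, sqQ, hl⟩ := repWith_exists hc φ
  haveI : IsOpenImmersion l.left := hl
  refine isSchDense_of_chart hc he hs sqQ
    (isSchematicallyDense_mono (isSchematicallyDense_inf hW₁ hW₂) fun x hx ↦ ?_)
  let O : C.left.Opens := W₁ ⊓ l₂.left.opensRange
  let A : Over S := Over.mk (O.ι ≫ C.hom)
  let b : A ⟶ C := Over.homMk O.ι rfl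
  let k₁ : A ⟶ Over.mk (W₁.ι ≫ C.hom) := Over.homMk (C.left.homOfLE inf_le_left) (by
    show C.left.homOfLE _ ≫ W₁.ι ≫ C.hom = O.ι ≫ C.hom
    rw [Scheme.homOfLE_ι_assoc])
  have hk₁ : k₁ ≫ Over.homMk W₁.ι rfl = b :=
    Over.OverMorphism.ext (C.left.homOfLE_ι (inf_le_left : O ≤ W₁))
  let k₂ : A ⟶ Q₂ := Over.homMk
    (IsOpenImmersion.lift l₂.left O.ι (by
      rw [Scheme.Opens.range_ι]; exact fun y hy ↦ hy.2)) (by
    show _ ≫ Q₂.hom = O.ι ≫ C.hom
    rw [← Over.w l₂, IsOpenImmersion.lift_fac_assoc])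
  have hk₂ : k₂ ≫ l₂ = b := Over.OverMorphism.ext (IsOpenImmersion.lift_fac _ _ _)
  have h₁ : ((yon S).map k₁ ≫ f₁) ≫ jU.hom = (yon S).map b ≫ φ := by
    rw [Category.assoc, sq₁.w, ← Category.assoc, ← Functor.map_comp, hk₁]
  have h₂ : ((yon S).map k₂ ≫ g₂) ≫ jV.hom = (yon S).map b ≫ φ := by
    rw [Category.assoc, sq₂.w, ← Category.assoc, ← Functor.map_comp, hk₂]
  exact le_opensRange_of_factor sqQ b (sq.lift _ _ (h₁.trans h₂.symm))
    (by rw [← Category.assoc, sq.lift_fst, h₁]) (⟨x, hx⟩ : O.1)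

end Groth.Agent.S9970
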