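import Groth.Statements.S9978
import Groth.Agent.S9833
import Groth.Agent.Lib.Cohen.NagataFiniteType
import Groth.Agent.Lib.AlgSpMor.LocP
-- import your own Groth.Agent.* helpers here

set_option autoImplicit false
universe u
open CategoryTheory CategoryTheory.Limits AlgebraicGeometry
open AlgSp

namespace Groth.Agent.S9978

/-- An algebraic space locally of finite type over a Nagata algebraic space is Nagata. -/
theorem result {S : Scheme.{u}} {X Y : AlgSp.Space S} (f : X ⟶ Y)
    (hf : AlgSp.LocP @LocallyOfFiniteType f.hom)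
    (hY : AlgSp.EtaleLocally (fun U => ∀ V : U.Opens, IsAffineOpen V → CAlg.IsNagata ↑Γ(U, V)) Y.obj) :
    AlgSp.EtaleLocally (fun U => ∀ V : U.Opens, IsAffineOpen V → CAlg.IsNagata ↑Γ(U, V)) X.obj := by
  obtain ⟨V, b, hb, hbs, hV⟩ := hY
  obtain ⟨U, a, k, ha, has, w⟩ :=
    Groth.Agent.Lib.AlgSpMor.LocP.exists_chart_over X.property Y.property f.hom hb hbs
  have hk : LocallyOfFiniteType k.left := hf a b k ha hb w
  refine ⟨U, a, ha, has, fun W hW => ?_⟩
  have hx : ∀ x : U.left, ∃ (O : U.left.Opens), IsAffineOpen O ∧ x ∈ O ∧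
      CAlg.IsNagata ↑Γ(U.left, O) := by
    intro x
    obtain ⟨V', hV', hxV, -⟩ :=
      exists_isAffineOpen_mem_and_subset (x := k.left x) (U := (⊤ : V.left.Opens)) trivial
    obtain ⟨O, hO, hxO, hle⟩ :=
      exists_isAffineOpen_mem_and_subset (x := x) (U := k.left ⁻¹ᵁ V') hxV
    have hft := k.left.finiteType_appLE hV' hO hle
    algebraize [(k.left.appLE V' O hle).hom]
    exact ⟨O, hO, hxO, Groth.Agent.Lib.Cohen.NagataFiniteType.isNagata_of_finiteType (hV V' hV')⟩
  choose O hO hxO hN using hx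
  exact Groth.Agent.S9833.result U.left O
    (TopologicalSpace.Opens.ext (Set.eq_univ_of_forall fun x =>
      TopologicalSpace.Opens.mem_iSup.2 ⟨x, hxO x⟩)) hO hN W hW

end Groth.Agent.S9978
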