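import Groth.Statements.S9979
import Groth.Agent.Lib.AlgSpMor.SchImage.Rep
import Groth.Agent.Lib.Subtrusive.Valuation
import Groth.Agent.Lib.SchTopo.Closure
import Groth.Agent.Lib.AlgSpDecent.RedInduced
import Groth.Agent.Lib.AlgSpFpqc.Topo
-- import your own Groth.Agent.* helpers here

set_option autoImplicit false
universe u
open CategoryTheory CategoryTheory.Limits AlgebraicGeometry
open AlgSp

open AlgSp (yon RepWith)
open Groth.Agent.Lib.AlgSpace Groth.Agent.Lib.AlgSpMor Groth.Agent.Lib.AlgSpMor.SchImage Groth.Agent.Lib.Subtrusive.Valuation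

namespace Groth.Agent.S9979

/-- Every point of the scheme theoretic image of a quasi-compact morphism is reached by a valuation ring
whose generic point lifts to the source. -/
theorem result {S : Scheme.{u}} {X Y Z : AlgSp.Space S} (f : X ⟶ Y) (i : Z ⟶ Y)
    (hq : AlgSp.IsQuasiCompactMor f.hom) (hZ : AlgSp.IsSchImage f.hom i.hom) (z : AlgSp.Points Z.obj) :
    ∃ (A : Type u) (_ : CommRing A) (_ : IsDomain A) (_ : ValuationRing A) (str : Spec (CommRingCat.of A) ⟶ S)
      (a : (AlgSp.yon S).obj (Over.mk str) ⟶ Z.obj)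
      (x : (AlgSp.yon S).obj (Over.mk (Spec.map (CommRingCat.ofHom (algebraMap A (FractionRing A))) ≫ str)) ⟶ X.obj),
      AlgSp.Points.ofPt a (IsLocalRing.closedPoint A) = z ∧
      x ≫ f.hom = (AlgSp.yon S).map (Over.homMk (Spec.map (CommRingCat.ofHom (algebraMap A (FractionRing A)))) rfl) ≫
        a ≫ i.hom := by
  obtain ⟨T₀, ξ₀, he, hs⟩ := Y.property.atlas
  obtain ⟨t₀, ht₀⟩ := surjective_ofPt hs (AlgSp.Points.map i.hom z)
  obtain ⟨T, c, hT, hc, ⟨t, rfl⟩, -⟩ := exists_affine_nhd ⊤ (x := t₀) trivial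
  haveI := hc
  rw [← ofPt_yon_map_comp c ξ₀ t] at ht₀
  generalize hξ' : (AlgSp.yon S).map c ≫ ξ₀ = ξ at ht₀
  have heξ : RepWith @Etale ξ := hξ' ▸ LocP.repWith_etale_comp c he
  have hcut := cut_kerAt X.property Y.property hq Z.property hZ hT
    (LocP.locP_of_repWith Groth.Agent.Lib.SourceDescent.Scheme.flat
      (repWith_mono heξ fun _ _ g (_ : Etale g) ↦ (inferInstance : Flat g)))
  haveI : Mono i.hom := mono_of_closedImmersion hZ.1
  obtain ⟨fst, sq⟩ := hcut.isPullback
  obtain ⟨y, hyz, hy⟩ := exists_of_isPullback sq z (AlgSp.Points.ofScheme T t)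
    (by rw [← ht₀, AlgSp.Points.ofPt_eq_map_ofScheme])
  obtain ⟨y, rfl⟩ : ∃ y', AlgSp.Points.ofScheme _ y' = y := ⟨_, AlgSp.Points.ofScheme_toScheme _ y⟩
  rw [Groth.Agent.Lib.AlgSpFpqc.Topo.map_ofScheme] at hy
  have hyt : (subι (kerAt f.hom ξ)).left y = t := (AlgSp.Points.schemeEquiv T).injective hy
  rw [← AlgSp.Points.ofPt_eq_map_ofScheme] at hyz
  obtain ⟨W, w, a₀, hW, ha, hker⟩ := exists_witness X.property Y.property hq hT ξ
  haveI := hW
  haveI := hT
  haveI : IsAffineHom w.left := inferInstance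
  have hmem : t ∈ closure (Set.range w.left) := by
    rw [← Scheme.Hom.support_ker, hker, ← Scheme.IdealSheafData.range_subschemeι]
    exact ⟨y, hyt⟩
  obtain ⟨w₀, hw₀⟩ := Groth.Agent.Lib.SchTopo.Closure.exists_specializes_of_mem_closure_range w.left hmem
  obtain ⟨A, g, hgen, hcl, hg⟩ := exists_valuationSubring_of_specializes hw₀
    (K := W.left.residueField w₀) (w.left.residueFieldMap w₀)
  let str : Spec (CommRingCat.of A) ⟶ S := g ≫ T.hom
  let g' : Over.mk str ⟶ T := Over.homMk g rfl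
  haveI : AlgebraicGeometry.IsReduced (Over.mk str).left :=
    inferInstanceAs (AlgebraicGeometry.IsReduced (Spec (CommRingCat.of A)))
  obtain ⟨l, hl⟩ := Groth.Agent.Lib.AlgSpDecent.RedInduced.exists_lift_over g' (subι (kerAt f.hom ξ)) (by
    rintro _ ⟨v, rfl⟩
    have hgt : g (genPt A) ∈ Set.range (subι (kerAt f.hom ξ)).left := by
      rw [hgen]
      show w.left w₀ ∈ Set.range (kerAt f.hom ξ).subschemeι
      rw [Scheme.IdealSheafData.range_subschemeι, ← hker, Scheme.Hom.support_ker]
      exact subset_closure ⟨w₀, rfl⟩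
    exact ((genPt_specializes v).map g.continuous).mem_closed
      (subι (kerAt f.hom ξ)).left.isClosedEmbedding.isClosed_range hgt)
  let e : W.left.residueField w₀ ≃ₐ[A] FractionRing A :=
    IsLocalization.algEquiv (nonZeroDivisors A) _ _
  let q : Spec (CommRingCat.of (FractionRing A)) ⟶ Spec (CommRingCat.of A) :=
    Spec.map (CommRingCat.ofHom (algebraMap A (FractionRing A)))
  let m : Spec (CommRingCat.of (FractionRing A)) ⟶ W.left :=
    Spec.map (CommRingCat.ofHom e.toRingEquiv.toRingHom) ≫ W.left.fromSpecResidueField w₀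
  have hm : m ≫ w.left = q ≫ g := by
    have h1 : q = Spec.map (CommRingCat.ofHom e.toRingEquiv.toRingHom) ≫
        Spec.map (CommRingCat.ofHom A.subtype) := by
      rw [← Spec.map_comp]
      refine congrArg Spec.map (CommRingCat.hom_ext (RingHom.ext fun x ↦ ?_))
      exact (e.commutes x).symm
    rw [h1, Category.assoc, Category.assoc]
    refine Eq.trans ?_ (congrArg (Spec.map (CommRingCat.ofHom e.toRingEquiv.toRingHom) ≫ ·) hg).symm
    congr 1
    exact (Scheme.Hom.SpecMap_residueFieldMap_fromSpecResidueField w.left w₀).symm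
  let m' : Over.mk (q ≫ str) ⟶ W := Over.homMk m (by
    show m ≫ W.hom = q ≫ g ≫ T.hom
    rw [← Over.w w, reassoc_of% hm])
  refine ⟨A, inferInstance, inferInstance, inferInstance, str, (AlgSp.yon S).map l ≫ fst,
    (AlgSp.yon S).map m' ≫ a₀, ?_, ?_⟩
  · rw [ofPt_yon_map_comp, ← hyz]
    congr 1
    refine (subι (kerAt f.hom ξ)).left.isClosedEmbedding.injective ?_
    rw [hyt, ← Scheme.Hom.comp_apply, ← Over.comp_left, hl]
    exact hcl
  · rw [Category.assoc, Category.assoc, ha, sq.w, ← Functor.map_comp_assoc, ← Functor.map_comp_assoc,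
      ← Functor.map_comp_assoc]
    congr 2
    rw [Category.assoc, hl]
    ext1
    exact hm

end Groth.Agent.S9979
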