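import Groth.Statements.S9980
import Groth.Agent.Lib.AlgSpMor.FTPoint
import Groth.Agent.Lib.AlgSpace.Quot
import Mathlib.AlgebraicGeometry.Noetherian
import Mathlib.AlgebraicGeometry.Morphisms.FormallyUnramified

set_option autoImplicit false
universe u
open CategoryTheory CategoryTheory.Limits AlgebraicGeometry
open AlgSp

namespace Groth.Agent.S9980

open Groth.Agent.Lib.AlgSpMor Groth.Agent.Lib.AlgSpMor.LocP Groth.Agent.Lib.AlgSpace

attribute [local simp] pullback.lift_fst pullback.lift_snd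

/-- The image of a field point, unramified over the space, is a monomorphism from an algebraic space. -/
private theorem exists_mono_image {S : Scheme.{u}} (X : AlgSp.Space S) {k : Type u} [Field k]
    {str : Spec (CommRingCat.of k) ⟶ S} {ξ : (yon S).obj (Over.mk str) ⟶ X.obj}
    (hξ : RepWith ((@LocallyOfFiniteType : MorphismProperty Scheme.{u}) ⊓ @FormallyUnramified) ξ) :
    ∃ (Z : AlgSp.Space S) (f : Z ⟶ X) (z : (yon S).obj (Over.mk str) ⟶ Z.obj),
      RepWith @Etale z ∧ RepWith @Surjective z ∧ Mono f.hom ∧ z ≫ f.hom = ξ := by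
  obtain ⟨R, t, s, sq⟩ := exists_isPullback_yon X.property.diag ξ ξ
  have et : ∀ (p : R ⟶ Over.mk str), LocallyOfFiniteType p.left → FormallyUnramified p.left →
      Etale p.left := fun p hl hu ↦ by
    let p' : R.left ⟶ Spec (CommRingCat.of k) := p.left
    have : Subsingleton ↥(Spec (CommRingCat.of k)) := inferInstanceAs (Subsingleton (PrimeSpectrum k))
    have : IsIntegral (Spec (CommRingCat.of k)) := inferInstance
    have : LocallyOfFiniteType p' := hl
    have : FormallyUnramified p' := hu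
    exact Etale.of_formallyUnramified_of_flat (f := p')
  have h : IsEqvRel s t := by
    refine ⟨fun T r r' h1 h2 ↦ (yon S).map_injective (sq.hom_ext ?_ ?_), fun T ↦ ?_⟩
    · rw [← Functor.map_comp, ← Functor.map_comp, h1]
    · rw [← Functor.map_comp, ← Functor.map_comp, h2]
    · have key : ∀ a b : T ⟶ Over.mk str, (∃ r : T ⟶ R, r ≫ t = a ∧ r ≫ s = b) ↔
          (yon S).map a ≫ ξ = (yon S).map b ≫ ξ := fun a b ↦ by
        constructor
        · rintro ⟨r, rfl, rfl⟩
          rw [Functor.map_comp, Functor.map_comp, Category.assoc, Category.assoc, sq.w]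
        · intro e
          obtain ⟨r, hr⟩ := (yon S).map_surjective (sq.lift _ _ e)
          exact ⟨r, (yon S).map_injective (by rw [Functor.map_comp, hr, sq.lift_fst]),
            (yon S).map_injective (by rw [Functor.map_comp, hr, sq.lift_snd])⟩
      exact ⟨fun a ↦ (key a a).2 rfl, fun h ↦ (key _ _).2 ((key _ _).1 h).symm,
        fun h h' ↦ (key _ _).2 (((key _ _).1 h).trans ((key _ _).1 h'))⟩
  have h1 := repWith_property hξ sq
  have h2 := repWith_property hξ sq.flip
  have hR : IsEtaleEqvRel s t := ⟨h, et s h1.1 h1.2, et t h2.1 h2.2⟩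
  have hq := isPresentation_quot hR
  let φ : QuotSh.quot Scheme.fppfPrecoverage s t ⟶ X.obj :=
    coequalizer.desc ((QuotSh.repIsoUliftYoneda Scheme.fppfPrecoverage (Over.mk str)).hom ≫ ξ) (by
      rw [repMap_repIso_hom_assoc, repMap_repIso_hom_assoc, sq.w])
  have hφ : quotMap s t ≫ φ = ξ := by
    simp only [quotMap, QuotSh.quotπ, φ]
    erw [Category.assoc]
    erw [coequalizer.π_desc]
    simp
  refine ⟨⟨_, isAlgSpace_quot hR⟩, ⟨φ⟩, quotMap s t, hq.etale, hq.surjective, ?_, hφ⟩
  have := isLocallySurjective_quotMap s t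
  refine mono_of_yon φ fun T a b (e : a ≫ φ = b ≫ φ) ↦ ?_
  obtain ⟨T₁, p₁, x, hp₁, hx⟩ := exists_lift_of_isLocallySurjective (quotMap s t) a
  obtain ⟨T₂, p₂, y, hp₂, hy⟩ :=
    exists_lift_of_isLocallySurjective (quotMap s t) ((yon S).map p₁ ≫ b)
  have hpp : fppfCover (p₂ ≫ p₁).left := by
    have := hp₁.1.1; have := hp₁.1.2; have := hp₁.2
    have := hp₂.1.1; have := hp₂.1.2; have := hp₂.2
    rw [Over.comp_left]
    exact fppfCover_mk _
  have := epi_yon_map (p₂ ≫ p₁) hpp
  rw [← cancel_epi ((yon S).map (p₂ ≫ p₁))]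
  simp only [Functor.map_comp, Category.assoc]
  rw [← hx, ← hy]
  have key : ((yon S).map p₂ ≫ x) ≫ ξ = y ≫ ξ := by
    have hx' : x ≫ ξ = (yon S).map p₁ ≫ a ≫ φ := by
      rw [← hφ, ← Category.assoc, hx, Category.assoc]
    have hy' : y ≫ ξ = (yon S).map p₂ ≫ (yon S).map p₁ ≫ b ≫ φ := by
      rw [← hφ, ← Category.assoc, hy, Category.assoc, Category.assoc]
    rw [hy', Category.assoc, hx', e]
  rw [← Category.assoc, ← sq.lift_fst _ _ key]
  conv_rhs => rw [← sq.lift_snd _ _ key]
  rw [Category.assoc, Category.assoc, quotMap_condition]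

/-- Characterizations of finite type points via one-point algebraic spaces locally of finite type over X
and via monomorphisms from quotients of spectra of fields. -/
theorem result {S : Scheme.{u}} (X : AlgSp.Space S) (x : AlgSp.Points X.obj) :
    ((∃ (k : Type u) (_ : Field k) (str : Spec (CommRingCat.of k) ⟶ S) (ξ : (AlgSp.yon S).obj (Over.mk str) ⟶ X.obj),
        AlgSp.LocP @LocallyOfFiniteType ξ ∧ AlgSp.Points.ofPt ξ (IsLocalRing.closedPoint k) = x) ↔
      ∃ (Z : AlgSp.Space S) (f : Z ⟶ X), Nonempty (Unique (AlgSp.Points Z.obj)) ∧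
        AlgSp.LocP @LocallyOfFiniteType f.hom ∧ Set.range (AlgSp.Points.map f.hom) = {x}) ∧
    ((∃ (k : Type u) (_ : Field k) (str : Spec (CommRingCat.of k) ⟶ S) (ξ : (AlgSp.yon S).obj (Over.mk str) ⟶ X.obj),
        AlgSp.LocP @LocallyOfFiniteType ξ ∧ AlgSp.Points.ofPt ξ (IsLocalRing.closedPoint k) = x) ↔
      ∃ (Z : AlgSp.Space S) (f : Z ⟶ X) (k : Type u) (_ : Field k) (str : Spec (CommRingCat.of k) ⟶ S)
        (z : (AlgSp.yon S).obj (Over.mk str) ⟶ Z.obj), AlgSp.RepWith @Etale z ∧ AlgSp.RepWith @Surjective z ∧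
        AlgSp.LocP @LocallyOfFiniteType f.hom ∧ Mono f.hom ∧
        AlgSp.Points.ofPt (z ≫ f.hom) (IsLocalRing.closedPoint k) = x) := by
  have hft : ∀ {A B : Scheme.{u}} (g : A ⟶ B), Etale g → LocallyOfFiniteType g :=
    fun g (_ : Etale g) ↦ inferInstance
  refine ⟨⟨?_, ?_⟩, ⟨?_, ?_⟩⟩
  · rintro ⟨k, _, str, ξ, hξ, rfl⟩
    let pt : ↥(Over.mk str).left := IsLocalRing.closedPoint k
    have hu : ∀ z : AlgSp.Points ((yon S).obj (Over.mk str)), z = Points.ofScheme _ pt := fun z ↦ by
      rw [← Points.ofScheme_toScheme (Over.mk str) z]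
      exact congrArg _ (Subsingleton.elim (α := ↥(Spec (CommRingCat.of k))) _ _)
    refine ⟨⟨_, IsAlgSpace.yon_obj (Over.mk str)⟩, ⟨ξ⟩, ⟨⟨⟨Points.ofScheme _ pt⟩, hu⟩⟩, hξ,
      Set.Subset.antisymm ?_ ?_⟩
    · rintro _ ⟨z, rfl⟩
      rw [hu z, ← Points.ofPt_eq_map_ofScheme]
      rfl
    · rintro _ rfl
      exact ⟨Points.ofScheme _ pt, (Points.ofPt_eq_map_ofScheme _ _).symm⟩
  · rintro ⟨Z, f, ⟨hu⟩, hf, hr⟩
    obtain ⟨z, -, k, _, str, ξ, hξ, hz⟩ := FTPoint.exists_isFT_of_isLocallyClosed Z.property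
      (T := Set.univ) isOpen_univ.isLocallyClosed ⟨hu.default, trivial⟩
    refine ⟨k, inferInstance, str, ξ ≫ f.hom,
      locP_comp FTPoint.etaleLocalST_lft (IsAlgSpace.yon_obj _) Z.property
        X.property hξ hf, ?_⟩
    exact hr.subset ⟨_, Points.map_ofPt ξ f.hom _⟩
  · intro hx
    obtain ⟨U, φ, u, hφ, hu, rfl⟩ := (FTPoint.isFT_iff X.property x).1 hx
    have := isClosed_singleton_iff_isClosedImmersion.1 hu
    let g : Over.mk (U.left.fromSpecResidueField u ≫ U.hom) ⟶ U :=
      Over.homMk (U.left.fromSpecResidueField u) rfl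
    have : MorphismProperty.IsStableUnderBaseChange ((@LocallyOfFiniteType : MorphismProperty Scheme.{u}) ⊓
        (@FormallyUnramified : MorphismProperty Scheme.{u})) :=
      ⟨fun sq h ↦ ⟨MorphismProperty.of_isPullback sq h.1, MorphismProperty.of_isPullback sq h.2⟩⟩
    have : MorphismProperty.IsStableUnderComposition ((@LocallyOfFiniteType : MorphismProperty Scheme.{u}) ⊓
        (@FormallyUnramified : MorphismProperty Scheme.{u})) :=
      ⟨fun a b h h' ↦ ⟨MorphismProperty.comp_mem _ a b h.1 h'.1,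
        MorphismProperty.comp_mem _ a b h.2 h'.2⟩⟩
    have hξ : RepWith ((@LocallyOfFiniteType : MorphismProperty Scheme.{u}) ⊓ @FormallyUnramified)
        ((yon S).map g ≫ φ) :=
      repWith_yon_map_comp (⟨inferInstanceAs (LocallyOfFiniteType (U.left.fromSpecResidueField u)),
        inferInstanceAs (FormallyUnramified (U.left.fromSpecResidueField u))⟩)
        (repWith_mono hφ fun _ _ h (_ : Etale h) ↦
          ⟨(inferInstance : LocallyOfFiniteType h), (inferInstance : FormallyUnramified h)⟩)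
    obtain ⟨Z, f, z, hz, hzs, hm, e⟩ := exists_mono_image X hξ
    refine ⟨Z, f, U.left.residueField u, inferInstance, _, z, hz, hzs,
      locP_of_precomp FTPoint.etaleLocalST_lft Z.property X.property hz hzs
        (e ▸ locP_of_repWith FTPoint.etaleLocalST_lft
          (repWith_mono hξ fun _ _ _ h ↦ h.1)), hm, ?_⟩
    refine (congrArg (fun m ↦ Points.ofPt m _) e).trans ?_
    exact (ofPt_yon_map_comp g φ _).trans (congrArg _ (Scheme.fromSpecResidueField_apply u _))
  · rintro ⟨Z, f, k, _, str, z, hz, -, hf, -, hx⟩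
    exact ⟨k, inferInstance, str, z ≫ f.hom,
      locP_comp FTPoint.etaleLocalST_lft (IsAlgSpace.yon_obj _) Z.property
        X.property (locP_of_repWith FTPoint.etaleLocalST_lft
          (repWith_mono hz fun _ _ g hg ↦ hft g hg)) hf, hx⟩

end Groth.Agent.S9980
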