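import Groth.Statements.S9982
import Groth.Agent.Lib.AlgSpMor.Constructible
import Groth.Agent.Lib.AlgSpMor.QC
import Groth.Agent.Lib.AlgSpMor.LocP
-- import your own Groth.Agent.* helpers here

set_option autoImplicit false
universe u
open CategoryTheory CategoryTheory.Limits AlgebraicGeometry
open AlgSp

open Groth.Agent.Lib.AlgSpace Groth.Agent.Lib.AlgSpMor Topology

namespace Groth.Agent.S9982

/-- A quasi-compact morphism locally of finite presentation between algebraic spaces maps etale locally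
constructible sets to etale locally constructible sets. -/
theorem result {S : Scheme.{u}} {X Y : AlgSp.Space S} (f : X ⟶ Y)
    (hq : AlgSp.IsQuasiCompactMor f.hom) (hfp : AlgSp.LocP @LocallyOfFinitePresentation f.hom)
    (E : Set (AlgSp.Points X.obj))
    (hE : (∀ (U : Over S) (φ : (AlgSp.yon S).obj U ⟶ X.obj), AlgSp.RepWith @Etale φ →
        Topology.IsLocallyConstructible (AlgSp.Points.ofPt φ ⁻¹' E))) :
    (∀ (U : Over S) (φ : (AlgSp.yon S).obj U ⟶ Y.obj), AlgSp.RepWith @Etale φ →
        Topology.IsLocallyConstructible (AlgSp.Points.ofPt φ ⁻¹' (AlgSp.Points.map f.hom '' E))) := by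
  intro U φ hφ u
  obtain ⟨O, hO, huO, -⟩ := exists_isAffineOpen_mem_and_subset (U := ⊤) (Set.mem_univ u)
  haveI : IsAffine (Topo.opensOver O).left := hO
  haveI : Etale (Topo.opensOverι O).left := inferInstanceAs (Etale O.ι)
  let ψ : (yon S).obj (Topo.opensOver O) ⟶ Y.obj := (yon S).map (Topo.opensOverι O) ≫ φ
  have hψ : RepWith @Etale ψ := LocP.repWith_etale_comp _ hφ
  have sq := IsPullback.of_hasPullback f.hom ψ
  haveI := QC.compactSpace_of_isQuasiCompactMor hq sq
  have hP := isAlgSpace_of_isPullback sq Y.property.diag X.property (IsAlgSpace.yon_obj _)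
  obtain ⟨W, w, hW, hw, hws⟩ := QC.exists_affine_atlas hP
  obtain ⟨k, hk⟩ := (yon S).map_surjective (w ≫ pullback.snd f.hom ψ)
  haveI : MorphismProperty.IsStableUnderComposition (@Etale : MorphismProperty Scheme.{u}) :=
    ⟨fun f g (_ : Etale f) (_ : Etale g) ↦ inferInstanceAs (Etale (f ≫ g))⟩
  have hwX : RepWith @Etale (w ≫ pullback.fst f.hom ψ) :=
    repWith_comp hw (repWith_baseChange sq.flip hψ)
  have hlfp : LocallyOfFinitePresentation k.left :=
    LocP.locP_of_isPullback
      Groth.Agent.Lib.SourceDescent.Scheme.locallyOfFinitePresentation X.property Y.property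
      (IsAlgSpace.yon_obj _) sq hfp w (𝟙 _) k hw (AlgSp.repWith_id _ _)
      (by rw [Category.comp_id, hk])
  haveI : QuasiCompact k.left := (quasiCompact_iff_compactSpace _).mpr inferInstance
  have h2 := k.left.isLocallyConstructible_image (hE W _ hwX)
  refine ⟨O, O.2.mem_nhds huO, O.2, ?_⟩
  haveI : IsAffine O.toScheme := hO
  have h3 : k.left '' (AlgSp.Points.ofPt (w ≫ pullback.fst f.hom ψ) ⁻¹' E) =
      O.ι ⁻¹' (AlgSp.Points.ofPt φ ⁻¹' (AlgSp.Points.map f.hom '' E)) := by
    have key : ∀ z, AlgSp.Points.map f.hom (AlgSp.Points.ofPt (w ≫ pullback.fst f.hom ψ) z) =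
        AlgSp.Points.ofPt φ (O.ι (k.left z)) := fun z ↦ by
      rw [AlgSp.Points.map_ofPt, Category.assoc, pullback.condition, ← Category.assoc, ← hk,
        ofPt_yon_map_comp, ofPt_yon_map_comp]
      rfl
    ext o
    refine ⟨?_, ?_⟩
    · rintro ⟨z, hz, rfl⟩
      exact ⟨_, hz, key z⟩
    · rintro ⟨x, hx, e⟩
      obtain ⟨r, hr, hr'⟩ := exists_of_isPullback sq x
        (AlgSp.Points.ofScheme (Topo.opensOver O) o) (by
          rw [← AlgSp.Points.ofPt_eq_map_ofScheme, ofPt_yon_map_comp]
          exact e)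
      obtain ⟨z, rfl⟩ := surjective_ofPt hws r
      rw [AlgSp.Points.map_ofPt] at hr hr'
      refine ⟨z, ?_, ?_⟩
      · show AlgSp.Points.ofPt (w ≫ pullback.fst f.hom ψ) z ∈ E
        rw [hr]; exact hx
      · rw [← hk, AlgSp.Points.ofPt_eq_map_ofScheme, AlgSp.Points.map_yon_map_eq] at hr'
        simp only [Function.comp_apply] at hr'
        have e1 : (AlgSp.Points.schemeHomeo W).symm (AlgSp.Points.ofScheme W z) = z :=
          (AlgSp.Points.schemeHomeo W).symm_apply_apply z
        rw [e1] at hr'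
        exact (AlgSp.Points.schemeHomeo _).injective hr' 
  rw [h3] at h2
  exact (show IsLocallyConstructible (X := ↥O.toScheme)
    (O.ι ⁻¹' (AlgSp.Points.ofPt φ ⁻¹' (AlgSp.Points.map f.hom '' E))) from h2).isConstructible

end Groth.Agent.S9982
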