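import Groth.Statements.S9986
import Groth.Agent.Lib.AlgSpMor.SchImage.DenseSpace
import Mathlib.Algebra.Category.Ring.Limits
-- import your own Groth.Agent.* helpers here

set_option autoImplicit false
universe u
open CategoryTheory CategoryTheory.Limits AlgebraicGeometry
open AlgSp

open AlgSp (yon RepWith EtOver)
open Groth.Agent.Lib.AlgSpace Groth.Agent.Lib.AlgSpMor Groth.Agent.Lib.AlgSpMor.SchImage

namespace Groth.Agent.S9986

/-- For an open immersion j : U -> X of algebraic spaces, U is scheme theoretically dense in X exactly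
when the comparison map from O_X to j_* O_U on the small etale site of X is a monomorphism of
sheaves of rings. -/
theorem result {S : Scheme.{u}} {U X : AlgSp.Space S} (j : U ⟶ X)
    (hj : AlgSp.RepWith @IsOpenImmersion j.hom) :
    AlgSp.IsSchDense j.hom ↔ Mono (AlgSp.bcRingHom hj.1) := by
  have key : Mono (AlgSp.bcRingHom hj.1) ↔ ∀ E : EtOver X.obj,
      Function.Injective (hj.1.snd E.obj.hom).left.appTop := by
    have hp : Mono (AlgSp.bcRingHom hj.1) ↔ Mono (AlgSp.bcRingHom hj.1).hom :=
      ((sheafToPresheaf _ _).mono_map_iff_mono _).symm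
    rw [hp, NatTrans.mono_iff_mono_app]
    refine ⟨fun h E a b hab ↦ ?_, fun h E ↦ ?_⟩
    · have hinj := (ConcreteCategory.mono_iff_injective_of_preservesPullback _).1 (h (Opposite.op E))
      exact congrArg ULift.down
        (hinj (a₁ := ULift.up a) (a₂ := ULift.up b) (congrArg ULift.up hab))
    · refine (ConcreteCategory.mono_iff_injective_of_preservesPullback _).2 fun a b hab ↦ ?_
      exact congrArg ULift.up (h E.unop (a₁ := a.down) (a₂ := b.down) (congrArg ULift.down hab))
  rw [key]
  constructor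
  · intro hd E
    haveI : IsOpenImmersion (hj.1.snd E.obj.hom).left := hj.property_snd _
    have hW := isSchematicallyDense_chart hd E.property (hj.1.isPullback E.obj.hom)
    generalize (hj.1.snd E.obj.hom).left = l at *
    rw [injective_iff_map_eq_zero]
    intro a ha
    refine hW ⊤ ?_
    rw [map_zero]
    have h1 : l.opensRange.ι.appTop a = 0 := by
      rw [← Scheme.Hom.isoOpensRange_inv_comp l, Scheme.Hom.comp_appTop]
      exact (congrArg l.isoOpensRange.inv.appTop ha).trans (map_zero _)
    rw [Scheme.Opens.ι_appTop] at h1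
    have hle : ⊤ ⊓ l.opensRange ≤ l.opensRange.ι ''ᵁ ⊤ := by
      rw [Scheme.Hom.image_top_eq_opensRange, Scheme.Opens.opensRange_ι]; exact inf_le_right
    have h2 := (congrArg (E.obj.left.left.presheaf.map (homOfLE hle).op) h1).trans (map_zero _)
    refine Eq.trans ?_ h2
    exact ConcreteCategory.congr_hom (E.obj.left.left.presheaf.map_comp (homOfLE le_top).op
      (homOfLE hle).op) a
  · intro h
    obtain ⟨κ, O, φ, -, he, hs⟩ := exists_sigma_atlas X.property
    obtain ⟨Q, l, g, sq, hl⟩ := repWith_exists hj φ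
    haveI : IsOpenImmersion l.left := hl
    refine isSchDense_of_chart hj he hs sq ?_
    intro U
    rw [injective_iff_map_eq_zero]
    intro a ha
    let ι' : Over.mk (U.ι ≫ (sigmaOver O).hom) ⟶ sigmaOver O := Over.homMk U.ι rfl
    let E : EtOver X.obj := EtOver.mk ((yon S).map ι' ≫ φ)
      (repWith_comp (repWith_etale_yon_map (inferInstanceAs (Etale U.ι))) he)
    obtain ⟨k, hk⟩ := (yon S).map_surjective (sq.lift (hj.1.fst E.obj.hom)
      ((yon S).map (hj.1.snd E.obj.hom ≫ ι'))
      (by rw [(hj.1.isPullback E.obj.hom).w, Functor.map_comp, Category.assoc]; rfl))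
    have hkl : (hj.1.snd E.obj.hom).left ≫ U.ι = k.left ≫ l.left := by
      have h' : k ≫ l = hj.1.snd E.obj.hom ≫ ι' := (yon S).map_injective (by
        rw [Functor.map_comp, hk, sq.lift_snd])
      exact congr($(h'.symm).left)
    have hιU : U.ι ⁻¹ᵁ U = ⊤ := U.ι_preimage_self
    have hle : ⊤ ≤ ((hj.1.snd E.obj.hom).left ≫ U.ι) ⁻¹ᵁ (U ⊓ l.left.opensRange) := by
      intro p _
      refine ⟨((hj.1.snd E.obj.hom).left p).2, k.left p, ?_⟩
      rw [hkl]; rfl
    have hzero : ((hj.1.snd E.obj.hom).left ≫ U.ι).appLE U ⊤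
        (hle.trans (Scheme.Hom.preimage_mono _ inf_le_left)) a = 0 := by
      rw [← Scheme.Hom.map_appLE _ hle (homOfLE inf_le_left).op]
      exact (congrArg (((hj.1.snd E.obj.hom).left ≫ U.ι).appLE (U ⊓ l.left.opensRange) ⊤ hle)
        ha).trans (map_zero _)
    have h1 : U.ι.appLE U ⊤ hιU.ge a = 0 := by
      refine (injective_iff_map_eq_zero _).1 (h E) _ ?_
      refine Eq.trans ?_ hzero
      have he' := Scheme.Hom.appLE_comp_appLE (hj.1.snd E.obj.hom).left U.ι U ⊤ ⊤ hιU.ge le_top
      rw [← he']
      show _ = (hj.1.snd E.obj.hom).left.appLE ⊤ ⊤ _ (U.ι.appLE U ⊤ _ a)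
      rw [show (hj.1.snd E.obj.hom).left.appTop = (hj.1.snd E.obj.hom).left.appLE ⊤ ⊤ le_top from
        Scheme.Hom.app_eq_appLE _]
    rw [Scheme.Opens.ι_appLE] at h1
    have hle' : U ≤ U.ι ''ᵁ ⊤ := by
      rw [Scheme.Hom.image_top_eq_opensRange, Scheme.Opens.opensRange_ι]
    have h2 := (congrArg ((sigmaOver O).left.presheaf.map (homOfLE hle').op) h1).trans (map_zero _)
    refine Eq.trans ?_ h2
    exact (ConcreteCategory.congr_hom ((sigmaOver O).left.presheaf.map_id (Opposite.op U)) a).symm.trans
      (ConcreteCategory.congr_hom ((sigmaOver O).left.presheaf.map_comp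
        (homOfLE (Scheme.Hom.image_preimage_le U.ι U |>.trans' (U.ι.image_mono hιU.ge))).op
        (homOfLE hle').op) a)

end Groth.Agent.S9986
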