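import Groth.Statements.S9987
import Groth.Agent.Lib.AlgSpMor.SchImage.Main
import Groth.Agent.Lib.AlgSpace.Props
import Mathlib.AlgebraicGeometry.Morphisms.ClosedImmersion
-- import your own Groth.Agent.* helpers here

set_option autoImplicit false
universe u
open CategoryTheory CategoryTheory.Limits AlgebraicGeometry Opposite
open AlgSp

open AlgSp (yon RepWith EtOver)
open Groth.Agent.Lib.AlgSpace Groth.Agent.Lib.AlgSpMor Groth.Agent.Lib.AlgSpMor.SchImage

namespace Groth.Agent.S9987

/-- For a closed immersion i : Z ⟶ X of algebraic spaces over S (representable, every base change to a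
scheme a closed immersion), the comparison map O_X ⟶ i_* O_Z of sheaves of rings on the small etale
site of X is locally surjective. (The published statement also asserts that i_* O_Z is a
quasi-coherent O_X-module and that the kernel of O_X ⟶ i_* O_Z is a quasi-coherent sheaf of ideals;
those two assertions are the closed-immersion cases of the general facts that direct images along
quasi-compact quasi-separated morphisms preserve quasi-coherence and that the kernel ideal of a
quasi-compact morphism is quasi-coherent, a closed immersion being quasi-compact and separated, and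
only the surjectivity is stated here.) -/
theorem result {S : Scheme.{u}} {Z X : AlgSp.Space S} (i : Z ⟶ X)
    (hi : AlgSp.RepWith @IsClosedImmersion i.hom) :
    Presheaf.IsLocallySurjective (AlgSp.etTop X.obj) (AlgSp.bcRingHom hi.1).hom := by
  refine ⟨fun {E} s ↦ ?_⟩
  let U : E.obj.left.left.affineOpens → AlgSp.EtOver X.obj := fun V ↦
    EtOver.mk ((yon S).map (Over.homMk V.1.ι rfl : Over.mk (V.1.ι ≫ E.obj.left.hom) ⟶ E.obj.left)
      ≫ E.obj.hom) (repWith_comp (repWith_etale_yon_map (inferInstanceAs (Etale V.1.ι))) E.property)
  let g : ∀ V, U V ⟶ E := fun V ↦ EtOver.homMk (Over.homMk V.1.ι rfl) rfl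
  refine GrothendieckTopology.superset_covering _ ?_ (AlgSp.ofArrows_mem_etTop U g fun x ↦ ?_)
  · rw [Sieve.ofArrows, Sieve.generate_le_iff]
    rintro _ _ ⟨V⟩
    haveI : IsAffine (U V).obj.left.left := V.2
    haveI : IsClosedImmersion (hi.1.snd (U V).obj.hom).left := hi.property_snd _
    obtain ⟨t, ht⟩ := (IsClosedImmersion.isAffine_surjective_of_isAffine
      (f := (hi.1.snd (U V).obj.hom).left)).2 ((EtOver.bcMap hi.1 (g V)).hom.left.left.appTop s.down)
    exact ⟨ULift.up t, congrArg ULift.up ht⟩
  · obtain ⟨V, hV, hx, -⟩ := exists_isAffineOpen_mem_and_subset (x := x) (U := ⊤) trivial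
    exact ⟨⟨V, hV⟩, ⟨x, hx⟩, rfl⟩

end Groth.Agent.S9987
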