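import Groth.Statements.S9994
import Groth.Agent.S9993

set_option autoImplicit false
universe u
open CategoryTheory CategoryTheory.Limits AlgebraicGeometry
open AlgSp

namespace Groth.Agent.S9994

open CategoryTheory CategoryTheory.Limits AlgebraicGeometry Opposite AlgSp Groth.Agent.Lib Groth.Agent.Lib.AlgSpace

theorem isLocal {P : MorphismProperty Scheme.{u}}
    (hP : P = @LocallyOfFiniteType ∨ P = @LocallyOfFinitePresentation ∨ P = @Flat ∨ P = @Smooth ∨ P = @Etale ∨
      (∀ ⦃A B : Scheme.{u}⦄ (g : A ⟶ B), P g ↔ (LocallyQuasiFinite g ∧ LocallyOfFiniteType g)) ∨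
      (∀ ⦃A B : Scheme.{u}⦄ (g : A ⟶ B), P g ↔ (LocallyOfFiniteType g ∧ FormallyUnramified g)))
    {A B : Scheme.{u}} (f : A ⟶ B) (h : ∀ z : A, ∃ W : A.Opens, z ∈ W ∧ P (W.ι ≫ f)) : P f := by
  choose W hW hWP using h
  have hcov : ⨆ z, W z = (⊤ : A.Opens) := top_le_iff.1 fun z _ => TopologicalSpace.Opens.mem_iSup.2 ⟨z, hW z⟩
  rcases hP with rfl | rfl | rfl | rfl | rfl | h | h
  · exact (IsZariskiLocalAtSource.iff_of_iSup_eq_top (P := (@LocallyOfFiniteType : MorphismProperty Scheme.{u})) W hcov).2 hWP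
  · exact (IsZariskiLocalAtSource.iff_of_iSup_eq_top (P := (@LocallyOfFinitePresentation : MorphismProperty Scheme.{u})) W hcov).2 hWP
  · exact (IsZariskiLocalAtSource.iff_of_iSup_eq_top (P := (@Flat : MorphismProperty Scheme.{u})) W hcov).2 hWP
  · exact (IsZariskiLocalAtSource.iff_of_iSup_eq_top (P := (@Smooth : MorphismProperty Scheme.{u})) W hcov).2 hWP
  · exact (IsZariskiLocalAtSource.iff_of_iSup_eq_top (P := (@Etale : MorphismProperty Scheme.{u})) W hcov).2 hWP
  · exact (h f).2 ⟨(IsZariskiLocalAtSource.iff_of_iSup_eq_top (P := (@LocallyQuasiFinite : MorphismProperty Scheme.{u})) W hcov).2 fun z => ((h _).1 (hWP z)).1,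
      (IsZariskiLocalAtSource.iff_of_iSup_eq_top (P := (@LocallyOfFiniteType : MorphismProperty Scheme.{u})) W hcov).2 fun z => ((h _).1 (hWP z)).2⟩
  · exact (h f).2 ⟨(IsZariskiLocalAtSource.iff_of_iSup_eq_top (P := (@LocallyOfFiniteType : MorphismProperty Scheme.{u})) W hcov).2 fun z => ((h _).1 (hWP z)).1,
      (IsZariskiLocalAtSource.iff_of_iSup_eq_top (P := (@FormallyUnramified : MorphismProperty Scheme.{u})) W hcov).2 fun z => ((h _).1 (hWP z)).2⟩

/-- A morphism f : X ⟶ Y of algebraic spaces has P etale locally on the source and target if and only if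
it has P at every point of |X| in the neighbourhood sense (some chart diagram through the point
whose top arrow has P on an open neighbourhood of the chosen point). -/
theorem result {S : Scheme.{u}} (P : MorphismProperty Scheme.{u})
    (hP : P = @LocallyOfFiniteType ∨ P = @LocallyOfFinitePresentation ∨ P = @Flat ∨ P = @Smooth ∨ P = @Etale ∨
      (∀ ⦃A B : Scheme.{u}⦄ (g : A ⟶ B), P g ↔ (LocallyQuasiFinite g ∧ LocallyOfFiniteType g)) ∨
      (∀ ⦃A B : Scheme.{u}⦄ (g : A ⟶ B), P g ↔ (LocallyOfFiniteType g ∧ FormallyUnramified g)))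
    {X Y : AlgSp.Space S} (f : X ⟶ Y) :
    AlgSp.LocP P f.hom ↔
      ∀ x : AlgSp.Points X.obj, AlgSp.HasAtMor (fun U _ h u => ∃ W : U.Opens, u ∈ W ∧ P (W.ι ≫ h)) f.hom x := by
  have hST := AlgSpMor.LocP.etaleLocalST_of_list hP
  constructor
  · intro hf x
    obtain ⟨U, V, a, b, h, ha, has, hb, -, w⟩ := AlgSpMor.LocP.exists_chart X.property Y.property f.hom
    obtain ⟨u, rfl⟩ := AlgSpDecent.Core.surjective_ofPt has x
    have := hST.baseChange
    exact ⟨U, V, a, b, h, u, ha, hb, w, rfl, ⊤, trivial, hST.comp _ _ (hST.etale _ inferInstance) (hf a b h ha hb w)⟩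
  · intro hall U' V' a' b' h' ha' hb' w'
    refine isLocal hP h'.left fun z => ?_
    obtain ⟨X', j, hj, hxj, hloc⟩ := (Groth.Agent.S9993.result P hP f _).1 (hall (Points.ofPt a' z))
    let O : U'.left.Opens := ⟨Points.ofPt a' ⁻¹' Set.range (Points.map j.hom),
      (isOpenEmbedding_map hj).isOpen_range.preimage (Points.continuous_ofPt a')⟩
    let U₁ : Over S := Over.mk (O.ι ≫ U'.hom)
    let ι : U₁ ⟶ U' := Over.homMk O.ι rfl
    have : Etale ι.left := inferInstanceAs (Etale O.ι)
    have ha₁ := AlgSpMor.LocP.repWith_etale_comp ι ha'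
    obtain ⟨φ, hφ⟩ := exists_lift_yon_of_range_subset hj ((yon S).map ι ≫ a') (by
      rintro _ ⟨y, rfl⟩
      rw [AlgSpDecent.Core.ofPt_map_comp]
      exact y.2)
    have : Mono j.hom := mono_of_repWith (P := @IsOpenImmersion)
      (fun _ _ g (_ : IsOpenImmersion g) ↦ (inferInstance : Mono g)) hj
    have sqf : IsPullback φ (𝟙 _) j.hom ((yon S).map ι ≫ a') :=
      isPullback_of_yon (by rw [hφ, Category.id_comp]) (fun T c c' _ h => by simpa using h)
        fun T x₀ y₀ e => ⟨y₀, by rw [← cancel_mono j.hom, Category.assoc, hφ, e], Category.comp_id _⟩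
    refine ⟨O, hxj, hloc φ b' (ι ≫ h') (repWith_baseChange sqf.flip ha₁) hb' ?_⟩
    show φ ≫ j.hom ≫ f.hom = _
    rw [reassoc_of% hφ, w', Functor.map_comp, Category.assoc]

end Groth.Agent.S9994
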