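import Groth.Statements.S9997
import Groth.Agent.Lib.AlgSpMor.SchImage.Main
import Groth.Agent.Lib.AlgSpace.Props
import Mathlib.AlgebraicGeometry.Morphisms.FinitePresentation
import Mathlib.AlgebraicGeometry.Morphisms.ClosedImmersion
-- import your own Groth.Agent.* helpers here

set_option autoImplicit false
universe u
open CategoryTheory CategoryTheory.Limits AlgebraicGeometry Opposite
open AlgSp

open AlgSp (yon RepWith EtOver)
open Groth.Agent.Lib.AlgSpace Groth.Agent.Lib.AlgSpMor Groth.Agent.Lib.AlgSpMor.SchImage

namespace Groth.Agent.S9997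

/-- A closed immersion i : Z ⟶ X of algebraic spaces is (locally) of finite presentation if and only if
its sheaf of ideals is of finite type; finite type is rendered chart by chart, as finite generation
of the kernel ideal Ker(Γ(U, O_U) → Γ(Z ×_X U, O)) for every affine etale chart U of X (for a
quasi-coherent sheaf of ideals the two readings agree by descent of finite generation along etale
coverings). -/
theorem result {S : Scheme.{u}} {Z X : AlgSp.Space S} (i : Z ⟶ X)
    (hi : AlgSp.RepWith @IsClosedImmersion i.hom) :
    AlgSp.LocP @LocallyOfFinitePresentation i.hom ↔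
      ∀ (E : AlgSp.EtOver X.obj) (hE : IsAffine E.obj.left.left), ((AlgSp.idealOfRep hi.1).ideal E hE).FG := by
  constructor
  · intro h E hE
    haveI : IsClosedImmersion (hi.1.snd E.obj.hom).left := hi.property_snd _
    haveI : IsAffine (hi.1.pullback E.obj.hom).left :=
      isAffine_of_isAffineHom (hi.1.snd E.obj.hom).left
    haveI : LocallyOfFinitePresentation (hi.1.snd E.obj.hom).left :=
      h (hi.1.fst E.obj.hom) E.obj.hom (hi.1.snd E.obj.hom)
        (repWith_baseChange (hi.1.isPullback E.obj.hom).flip E.property) E.property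
        (hi.1.isPullback E.obj.hom).w
    have hf : (hi.1.snd E.obj.hom).left.appTop.hom.FinitePresentation :=
      Scheme.Hom.finitePresentation_appTop _
    let : Algebra Γ(E.obj.left.left, ⊤) Γ((hi.1.pullback E.obj.hom).left, ⊤) :=
      (hi.1.snd E.obj.hom).left.appTop.hom.toAlgebra
    haveI : Algebra.FinitePresentation Γ(E.obj.left.left, ⊤)
        Γ((hi.1.pullback E.obj.hom).left, ⊤) := hf
    exact Algebra.FinitePresentation.ker_fG_of_surjective
      (Algebra.ofId Γ(E.obj.left.left, ⊤) Γ((hi.1.pullback E.obj.hom).left, ⊤))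
      (IsClosedImmersion.isAffine_surjective_of_isAffine (f := (hi.1.snd E.obj.hom).left)).2
  · intro hI A B a b h ha hb w
    let E : EtOver X.obj := EtOver.mk b hb
    obtain ⟨k, hk⟩ := (yon S).map_surjective
      ((hi.1.isPullback E.obj.hom).lift a ((yon S).map h) w)
    have hks : k ≫ hi.1.snd E.obj.hom = h := (yon S).map_injective (by
      rw [Functor.map_comp, hk, IsPullback.lift_snd])
    let g : EtOver.mk a ha ⟶ EtOver.bcObj hi.1 E := EtOver.homMk k (by
      show (yon S).map k ≫ hi.1.fst E.obj.hom = a
      rw [hk, IsPullback.lift_fst])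
    haveI : Etale k.left := EtOver.etale_left g
    suffices LocallyOfFinitePresentation (hi.1.snd E.obj.hom).left by
      rw [← hks, Over.comp_left]; infer_instance
    rw [IsZariskiLocalAtTarget.iff_of_iSup_eq_top (P := @LocallyOfFinitePresentation) _
      (iSup_affineOpens_eq_top B.left)]
    intro V
    let ι' : Over.mk (V.1.ι ≫ B.hom) ⟶ B := Over.homMk V.1.ι rfl
    let E' : EtOver X.obj := EtOver.mk ((yon S).map ι' ≫ b)
      (repWith_comp (repWith_etale_yon_map (inferInstanceAs (Etale V.1.ι))) hb)
    have sq : IsPullback (EtOver.bcMap hi.1 (EtOver.homMk ι' rfl : E' ⟶ E)).hom.left.left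
        (hi.1.snd E'.obj.hom).left (hi.1.snd E.obj.hom).left V.1.ι :=
      EtOver.isPullback_bcMap_left hi.1 (EtOver.homMk ι' rfl : E' ⟶ E)
    suffices LocallyOfFinitePresentation (hi.1.snd E'.obj.hom).left by
      refine (MorphismProperty.arrow_mk_iso_iff @LocallyOfFinitePresentation ?_).1 this
      refine Arrow.isoMk ((sq.flip.isoIsPullback _ _ (isPullback_morphismRestrict _ V.1))) (Iso.refl _) ?_
      simp only [Arrow.mk_hom, Iso.refl_hom, Category.comp_id]
      exact IsPullback.isoIsPullback_hom_fst _ _ _ _
    haveI : IsAffine E'.obj.left.left := V.2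
    haveI : IsClosedImmersion (hi.1.snd E'.obj.hom).left := hi.property_snd _
    haveI : IsAffine (hi.1.pullback E'.obj.hom).left :=
      isAffine_of_isAffineHom (hi.1.snd E'.obj.hom).left
    refine (HasRingHomProperty.iff_of_isAffine (P := @LocallyOfFinitePresentation)).2 ?_
    exact RingHom.FinitePresentation.of_surjective _
      (IsClosedImmersion.isAffine_surjective_of_isAffine (f := (hi.1.snd E'.obj.hom).left)).2
      (hI E' V.2)

end Groth.Agent.S9997
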